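import Mathlib
import Cfsg.Agent.Lib.Helper23.HKKDefs

/-! # S3779 piece KKI (helper12): series of a homogeneous subring `N` and of its derived subring -/

set_option autoImplicit false
set_option linter.unusedSectionVars false
set_option linter.unusedVariables false

namespace Cfsg.Agent.Helper23.HKK

section K

variable {L : Type*} [LieRing L]

theorem kki_dser_succ (N : AddSubgroup L) (k : ℕ) :
    dserIn N (k + 1) =
      AddSubgroup.closure {z | ∃ x ∈ dserIn N k, ∃ y ∈ dserIn N k, z = ⁅x, y⁆} := rfl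

theorem kki_lcs_succ (N : AddSubgroup L) (k : ℕ) :
    lcsIn N (k + 1) = AddSubgroup.closure {z | ∃ x ∈ lcsIn N k, ∃ y ∈ N, z = ⁅x, y⁆} := rfl

theorem kki_dser_zero (N : AddSubgroup L) : dserIn N 0 = N := rfl

theorem kki_lcs_zero (N : AddSubgroup L) : lcsIn N 0 = N := rfl

theorem kki_mem_dser_one (N : AddSubgroup L) (x y : L) (hx : x ∈ N) (hy : y ∈ N) :
    ⁅x, y⁆ ∈ dserIn N 1 := by
  rw [kki_dser_succ]
  exact AddSubgroup.subset_closure ⟨x, hx, y, hy, rfl⟩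

theorem kki_mem_lcs_succ (N : AddSubgroup L) (k : ℕ) (x y : L) (hx : x ∈ lcsIn N k) (hy : y ∈ N) :
    ⁅x, y⁆ ∈ lcsIn N (k + 1) := by
  rw [kki_lcs_succ]
  exact AddSubgroup.subset_closure ⟨x, hx, y, hy, rfl⟩

theorem dser_one_le (N : AddSubgroup L) (hN : ∀ x ∈ N, ∀ y ∈ N, ⁅x, y⁆ ∈ N) : dserIn N 1 ≤ N := by
  rw [kki_dser_succ, AddSubgroup.closure_le]
  rintro z ⟨x, hx, y, hy, rfl⟩
  exact hN x hx y hy

theorem dser_one_ideal (N : AddSubgroup L) (hN : ∀ x ∈ N, ∀ y ∈ N, ⁅x, y⁆ ∈ N) :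
    ∀ x ∈ dserIn N 1, ∀ y ∈ N, ⁅x, y⁆ ∈ dserIn N 1 := by
  intro x hx y hy
  rw [kki_dser_succ] at hx
  induction hx using AddSubgroup.closure_induction with
  | mem z hz =>
    obtain ⟨a, ha, b, hb, rfl⟩ := hz
    rw [lie_lie]
    exact (dserIn N 1).sub_mem (kki_mem_dser_one N a ⁅b, y⁆ ha (hN b hb y hy))
      (kki_mem_dser_one N b ⁅a, y⁆ hb (hN a ha y hy))
  | zero => rw [zero_lie]; exact (dserIn N 1).zero_mem
  | add u v _ _ hu hv => rw [add_lie]; exact (dserIn N 1).add_mem hu hv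
  | neg u _ hu => rw [neg_lie]; exact (dserIn N 1).neg_mem hu

theorem dser_shift (N : AddSubgroup L) (k : ℕ) : dserIn (dserIn N 1) k = dserIn N (k + 1) := by
  induction k with
  | zero => rfl
  | succ k ih =>
    rw [kki_dser_succ, ih, ← kki_dser_succ]

theorem lcs_one_eq (N : AddSubgroup L) : lcsIn N 1 = dserIn N 1 := rfl

/-- brackets of two homogeneously spanned subgroups -/
theorem kki_homog_bracket {n : ℕ} (gr : ZMod n → AddSubgroup L) (hG : Grading n gr)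
    (A B C : AddSubgroup L) (hA : IsHomog gr A) (hB : IsHomog gr B)
    (hC : ∀ a ∈ A, ∀ b ∈ B, ⁅a, b⁆ ∈ C) :
    ∀ a ∈ A, ∀ b ∈ B, ⁅a, b⁆ ∈ AddSubgroup.closure {z | z ∈ C ∧ ∃ i, z ∈ gr i} := by
  intro a ha b hb
  have ha' := hA ha
  have hb' := hB hb
  clear ha hb
  induction ha' using AddSubgroup.closure_induction with
  | mem x hx =>
    obtain ⟨hxA, i, hxi⟩ := hx
    induction hb' using AddSubgroup.closure_induction with
    | mem y hy =>
      obtain ⟨hyB, j, hyj⟩ := hy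
      exact AddSubgroup.subset_closure ⟨hC x hxA y hyB, i + j, hG.br i j x y hxi hyj⟩
    | zero => rw [lie_zero]; exact AddSubgroup.zero_mem _
    | add u v _ _ hu hv => rw [lie_add]; exact AddSubgroup.add_mem _ hu hv
    | neg u _ hu => rw [lie_neg]; exact AddSubgroup.neg_mem _ hu
  | zero => rw [zero_lie]; exact AddSubgroup.zero_mem _
  | add u v _ _ hu hv => rw [add_lie]; exact AddSubgroup.add_mem _ hu hv
  | neg u _ hu => rw [neg_lie]; exact AddSubgroup.neg_mem _ hu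

theorem dser_one_homog {n : ℕ} (gr : ZMod n → AddSubgroup L) (hG : Grading n gr) (N : AddSubgroup L)
    (hNh : IsHomog gr N) : IsHomog gr (dserIn N 1) := by
  unfold IsHomog
  nth_rewrite 1 [kki_dser_succ]
  rw [AddSubgroup.closure_le]
  rintro z ⟨x, hx, y, hy, rfl⟩
  exact kki_homog_bracket gr hG N N (dserIn N 1) hNh hNh
    (fun a ha b hb => kki_mem_dser_one N a b ha hb) x hx y hy

/-- the terms of the lower central series of `N' = [N, N]` are ideals of `N` -/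
theorem lcs_der_ideal (N : AddSubgroup L) (hN : ∀ x ∈ N, ∀ y ∈ N, ⁅x, y⁆ ∈ N) (t : ℕ) :
    ∀ v ∈ lcsIn (dserIn N 1) t, ∀ y ∈ N, ⁅v, y⁆ ∈ lcsIn (dserIn N 1) t := by
  induction t with
  | zero =>
    intro v hv y hy
    exact dser_one_ideal N hN v hv y hy
  | succ t ih =>
    intro v hv y hy
    rw [kki_lcs_succ] at hv
    induction hv using AddSubgroup.closure_induction with
    | mem z hz =>
      obtain ⟨x, hx, w, hw, rfl⟩ := hz
      have h1 : ⁅⁅x, w⁆, y⁆ = ⁅x, ⁅w, y⁆⁆ + ⁅⁅x, y⁆, w⁆ := by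
        rw [lie_lie, sub_eq_add_neg, lie_skew]
      rw [h1]
      exact AddSubgroup.add_mem _
        (kki_mem_lcs_succ _ t x ⁅w, y⁆ hx (dser_one_ideal N hN w hw y hy))
        (kki_mem_lcs_succ _ t ⁅x, y⁆ w (ih x hx y hy) hw)
    | zero => rw [zero_lie]; exact AddSubgroup.zero_mem _
    | add u v _ _ hu hv => rw [add_lie]; exact AddSubgroup.add_mem _ hu hv
    | neg u _ hu => rw [neg_lie]; exact AddSubgroup.neg_mem _ hu

theorem lcs_der_swap (N : AddSubgroup L) (hN : ∀ x ∈ N, ∀ y ∈ N, ⁅x, y⁆ ∈ N) (t : ℕ) :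
    ∀ v ∈ lcsIn (dserIn N 1) t, ∀ x ∈ N, ∀ y ∈ N, ⁅⁅v, x⁆, y⁆ - ⁅⁅v, y⁆, x⁆ ∈ lcsIn (dserIn N 1) (t + 1) := by
  intro v hv x hx y hy
  have h1 : ⁅⁅v, x⁆, y⁆ - ⁅⁅v, y⁆, x⁆ = ⁅v, ⁅x, y⁆⁆ := by
    rw [lie_lie v x y, ← lie_skew x ⁅v, y⁆]
    abel
  rw [h1]
  exact kki_mem_lcs_succ _ t v ⁅x, y⁆ hv (kki_mem_dser_one N x y hx hy)

theorem lcs_der_homog {n : ℕ} (gr : ZMod n → AddSubgroup L) (hG : Grading n gr) (N : AddSubgroup L)
    (hNh : IsHomog gr N) (t : ℕ) : IsHomog gr (lcsIn (dserIn N 1) t) := by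
  induction t with
  | zero => exact dser_one_homog gr hG N hNh
  | succ t ih =>
    unfold IsHomog
    nth_rewrite 1 [kki_lcs_succ]
    rw [AddSubgroup.closure_le]
    rintro z ⟨x, hx, y, hy, rfl⟩
    exact kki_homog_bracket gr hG (lcsIn (dserIn N 1) t) (dserIn N 1) (lcsIn (dserIn N 1) (t + 1)) ih
      (dser_one_homog gr hG N hNh)
      (fun a ha b hb => kki_mem_lcs_succ _ t a b ha hb) x hx y hy

theorem kki_lnc_snoc (v y : L) (l : List L) : lnc v (l ++ [y]) = ⁅lnc v l, y⁆ := by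
  unfold lnc
  rw [List.foldl_append]
  rfl

/-- `γ_{m+s}(N)` is spanned by the products `[v, y₁, …, y_s]`, `v ∈ γ_m(N)`, `y_i ∈ N` -/
theorem lcs_add_le (N : AddSubgroup L) (m s : ℕ) :
    lcsIn N (m + s) ≤ AddSubgroup.closure {z | ∃ v ∈ lcsIn N m, ∃ l : List L, (∀ y ∈ l, y ∈ N) ∧ l.length = s ∧
      z = lnc v l} := by
  induction s with
  | zero =>
    intro z hz
    exact AddSubgroup.subset_closure ⟨z, hz, [], by simp, rfl, rfl⟩
  | succ s ih =>
    rw [← add_assoc, kki_lcs_succ, AddSubgroup.closure_le]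
    rintro z ⟨x, hx, y, hy, rfl⟩
    have hx' := ih hx
    clear hx
    induction hx' using AddSubgroup.closure_induction with
    | mem w hw =>
      obtain ⟨v, hv, l, hl, hlen, rfl⟩ := hw
      refine AddSubgroup.subset_closure ⟨v, hv, l ++ [y], ?_, ?_, ?_⟩
      · intro u hu
        rcases List.mem_append.mp hu with h | h
        · exact hl u h
        · rw [List.mem_singleton] at h
          rw [h]; exact hy
      · rw [List.length_append, hlen]; rfl
      · rw [kki_lnc_snoc]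
    | zero => rw [zero_lie]; exact AddSubgroup.zero_mem _
    | add u v _ _ hu hv => rw [add_lie]; exact AddSubgroup.add_mem _ hu hv
    | neg u _ hu => rw [neg_lie]; exact AddSubgroup.neg_mem _ hu

end K

end Cfsg.Agent.Helper23.HKK
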