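import Mathlib
import Cfsg.Agent.Lib.Helper23.HKKDefs
import Cfsg.Agent.Lib.Helper12.HKKKKI

/-! # S3779 piece KKM, cores (helper12): the theorem of Kostrikin and Kreknin from the step `kk_step`,
the result of PART K from `kreknin`, and the case `p = 3` (no hypothesis) -/

set_option autoImplicit false
set_option linter.unusedSectionVars false
set_option linter.unusedVariables false

namespace Cfsg.Agent.Helper23.HKK

section K

variable {L : Type*} [LieRing L]

theorem kkm_hk_succ (p k : ℕ) : hk p (k + 1) = 1 + (p - 1) * hk p k := by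
  unfold hk
  rw [Finset.sum_range_succ', pow_zero, add_comm, Finset.mul_sum]
  congr 1
  apply Finset.sum_congr rfl
  intro i _
  rw [pow_succ, mul_comm]

theorem kkm_hk_zero (p : ℕ) : hk p 0 = 0 := by
  unfold hk
  simp

/-- `kk_main` with the step `kk_step` as a hypothesis -/
theorem kk_main_core {p : ℕ} (hp : p.Prime) (gr : ZMod p → AddSubgroup L) (hG : Grading p gr)
    (hstep : ∀ (N : AddSubgroup L), IsHomog gr N → (∀ x ∈ N, ∀ y ∈ N, ⁅x, y⁆ ∈ N) → ∀ (t : ℕ) (v : L),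
      v ∈ lcsIn (dserIn N 1) t → ∀ (l : List L), (∀ y ∈ l, y ∈ N) → l.length = p - 1 →
      lnc v l ∈ lcsIn (dserIn N 1) (t + 1)) :
    ∀ k : ℕ, ∀ N : AddSubgroup L, IsHomog gr N → (∀ x ∈ N, ∀ y ∈ N, ⁅x, y⁆ ∈ N) → dserIn N k = ⊥ →
      lcsIn N (hk p k) = ⊥ := by
  intro k
  induction k with
  | zero =>
    intro N _ _ h
    rw [kkm_hk_zero]
    exact h
  | succ k ih =>
    intro N hNh hN hd
    have hN'h : IsHomog gr (dserIn N 1) := dser_one_homog gr hG N hNh
    have hN' : ∀ x ∈ dserIn N 1, ∀ y ∈ dserIn N 1, ⁅x, y⁆ ∈ dserIn N 1 :=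
      fun x hx y hy => dser_one_ideal N hN x hx y (dser_one_le N hN hy)
    have hd' : dserIn (dserIn N 1) k = ⊥ := by rw [dser_shift]; exact hd
    have h0 := ih (dserIn N 1) hN'h hN' hd'
    have hle : ∀ t : ℕ, lcsIn N (1 + (p - 1) * t) ≤ lcsIn (dserIn N 1) t := by
      intro t
      induction t with
      | zero =>
        rw [Nat.mul_zero, Nat.add_zero, lcs_one_eq]
        exact le_refl _
      | succ t iht =>
        have e : 1 + (p - 1) * (t + 1) = (1 + (p - 1) * t) + (p - 1) := by ring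
        rw [e]
        refine le_trans (lcs_add_le N (1 + (p - 1) * t) (p - 1)) ?_
        rw [AddSubgroup.closure_le]
        rintro z ⟨v, hv, l, hl, hlen, rfl⟩
        exact hstep N hNh hN t v (iht hv) l hl hlen
    rw [kkm_hk_succ]
    exact le_bot_iff.mp (h0 ▸ hle (hk p k))

theorem kkm_top_homog {n : ℕ} (gr : ZMod n → AddSubgroup L) (hspan : ⨆ i, gr i = ⊤) :
    IsHomog gr (⊤ : AddSubgroup L) := by
  unfold IsHomog
  rw [← hspan, iSup_le_iff]
  intro i x hx
  exact AddSubgroup.subset_closure ⟨hspan ▸ AddSubgroup.mem_top x, i, hx⟩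

/-- `graded_nilpotent` with `kreknin` and `kk_step` as hypotheses -/
theorem graded_nilpotent_core {p : ℕ} (hp : p.Prime) (gr : ZMod p → AddSubgroup L) (hG : Grading p gr)
    (hspan : ⨆ i, gr i = ⊤)
    (hkrek : dserIn (⊤ : AddSubgroup L) (2 ^ (p - 1) - 1) = ⊥)
    (hstep : ∀ (N : AddSubgroup L), IsHomog gr N → (∀ x ∈ N, ∀ y ∈ N, ⁅x, y⁆ ∈ N) → ∀ (t : ℕ) (v : L),
      v ∈ lcsIn (dserIn N 1) t → ∀ (l : List L), (∀ y ∈ l, y ∈ N) → l.length = p - 1 →
      lnc v l ∈ lcsIn (dserIn N 1) (t + 1)) :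
    lcsIn (⊤ : AddSubgroup L) (hk p (2 ^ (p - 1) - 1)) = ⊥ :=
  kk_main_core hp gr hG hstep (2 ^ (p - 1) - 1) ⊤ (kkm_top_homog gr hspan)
    (fun _ _ _ _ => AddSubgroup.mem_top _) hkrek

theorem kkm_three_cases : ∀ i j k : ZMod 3, i + j ≠ 0 → i + j + k ≠ 0 →
    i = 0 ∨ j = 0 ∨ k = 0 ∨ (j + k = 0 ∧ i + k = 0) := by decide

theorem kkm_three_homog (gr : ZMod 3 → AddSubgroup L) (hG : Grading 3 gr) (i j k : ZMod 3) (x y z : L)
    (hx : x ∈ gr i) (hy : y ∈ gr j) (hz : z ∈ gr k) : ⁅⁅x, y⁆, z⁆ = 0 := by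
  have h0 : ∀ w : L, w ∈ gr 0 → w = 0 := by
    intro w hw
    rw [hG.zero] at hw
    exact (AddSubgroup.mem_bot).mp hw
  by_cases h1 : i + j = 0
  · have := hG.br i j x y hx hy
    rw [h1] at this
    rw [h0 _ this, zero_lie]
  by_cases h2 : i + j + k = 0
  · have := hG.br (i + j) k ⁅x, y⁆ z (hG.br i j x y hx hy) hz
    rw [h2] at this
    exact h0 _ this
  rcases kkm_three_cases i j k h1 h2 with h | h | h | ⟨h3, h4⟩
  · rw [h] at hx
    rw [h0 x hx, zero_lie, zero_lie]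
  · rw [h] at hy
    rw [h0 y hy, lie_zero, zero_lie]
  · rw [h] at hz
    rw [h0 z hz, lie_zero]
  · have e1 := hG.br j k y z hy hz
    have e2 := hG.br i k x z hx hz
    rw [h3] at e1
    rw [h4] at e2
    rw [lie_lie, h0 _ e1, h0 _ e2, lie_zero, lie_zero, sub_zero]

/-- `p = 3`: class at most 2 -/
theorem graded_three (gr : ZMod 3 → AddSubgroup L) (hG : Grading 3 gr) (hspan : ⨆ i, gr i = ⊤) :
    lcsIn (⊤ : AddSubgroup L) 2 = ⊥ := by
  have hall : ∀ x y z : L, ⁅⁅x, y⁆, z⁆ = 0 := by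
    intro x y z
    have hx : x ∈ ⨆ i, gr i := hspan ▸ AddSubgroup.mem_top x
    have hy : y ∈ ⨆ i, gr i := hspan ▸ AddSubgroup.mem_top y
    have hz : z ∈ ⨆ i, gr i := hspan ▸ AddSubgroup.mem_top z
    revert y z
    refine AddSubgroup.iSup_induction (S := gr)
      (C := fun x => ∀ y z : L, y ∈ ⨆ i, gr i → z ∈ ⨆ i, gr i → ⁅⁅x, y⁆, z⁆ = 0) hx ?_ ?_ ?_
    · intro i x hxi y z hy hz
      revert z
      refine AddSubgroup.iSup_induction (S := gr)
        (C := fun y => ∀ z : L, z ∈ ⨆ i, gr i → ⁅⁅x, y⁆, z⁆ = 0) hy ?_ ?_ ?_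
      · intro j y hyj z hz
        refine AddSubgroup.iSup_induction (S := gr)
          (C := fun z => ⁅⁅x, y⁆, z⁆ = 0) hz ?_ ?_ ?_
        · intro k z hzk
          exact kkm_three_homog gr hG i j k x y z hxi hyj hzk
        · rw [lie_zero]
        · intro u v hu hv
          rw [lie_add, hu, hv, add_zero]
      · intro z _
        rw [lie_zero, zero_lie]
      · intro u v hu hv z hz
        rw [lie_add, add_lie, hu z hz, hv z hz, add_zero]
    · intro y z _ _
      rw [zero_lie, zero_lie]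
    · intro u v hu hv y z hy hz
      rw [add_lie, add_lie, hu y z hy hz, hv y z hy hz, add_zero]
  rw [eq_bot_iff]
  change lcsIn (⊤ : AddSubgroup L) (1 + 1) ≤ ⊥
  rw [kki_lcs_succ, AddSubgroup.closure_le]
  rintro w ⟨x', hx', z, _, rfl⟩
  rw [kki_lcs_succ] at hx'
  rw [SetLike.mem_coe, AddSubgroup.mem_bot]
  induction hx' using AddSubgroup.closure_induction with
  | mem u hu =>
    obtain ⟨x, _, y, _, rfl⟩ := hu
    exact hall x y z
  | zero => rw [zero_lie]
  | add u v _ _ hu hv => rw [add_lie, hu, hv, add_zero]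
  | neg u _ hu => rw [neg_lie, hu, neg_zero]

end K

end Cfsg.Agent.Helper23.HKK
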