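import Mathlib
import Cfsg.Agent.Lib.Helper23.HKKDefs
import Cfsg.Agent.Lib.Helper12.HKKKKMCore
import Cfsg.Agent.Lib.Helper21.HKKKKTCore
import Cfsg.Agent.Lib.Helper22.HKKKKS
import Cfsg.Agent.Lib.Helper22.HKKKRC

/-! # S3779 piece KKM (helper12): `kk_main`, `graded_nilpotent` (exact skeleton signatures);
`graded_three` is in `HKKKKMCore.lean`.  The step is taken from helper21's `kk_step_core` + helper22's
`subset_sum` + KKI (under the name `kkm_kk_step`, the same statement as the skeleton's `kk_step`). -/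

set_option autoImplicit false
set_option linter.unusedSectionVars false
set_option linter.unusedVariables false

namespace Cfsg.Agent.Helper23.HKK

section K

variable {L : Type*} [LieRing L]

/-- the statement of `kk_step` (piece KKT), assembled from the landed cores -/
theorem kkm_kk_step {p : ℕ} (hp : p.Prime) (gr : ZMod p → AddSubgroup L) (hG : Grading p gr) (N : AddSubgroup L)
    (hNh : IsHomog gr N) (hN : ∀ x ∈ N, ∀ y ∈ N, ⁅x, y⁆ ∈ N) (t : ℕ) (v : L)
    (hv : v ∈ lcsIn (dserIn N 1) t) (l : List L) (hl : ∀ y ∈ l, y ∈ N) (hlen : l.length = p - 1) :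
    lnc v l ∈ lcsIn (dserIn N 1) (t + 1) :=
  kk_step_core hp gr hG (fun deg l h1 h2 a => subset_sum hp deg l h1 h2 a)
    (lcsIn (dserIn N 1) t) (lcsIn (dserIn N 1) (t + 1)) N hNh (lcs_der_homog gr hG N hNh t)
    (lcs_der_ideal N hN t) (lcs_der_ideal N hN (t + 1)) (lcs_der_swap N hN t) v hv l hl hlen

theorem kk_main {p : ℕ} (hp : p.Prime) (gr : ZMod p → AddSubgroup L) (hG : Grading p gr) :
    ∀ k : ℕ, ∀ N : AddSubgroup L, IsHomog gr N → (∀ x ∈ N, ∀ y ∈ N, ⁅x, y⁆ ∈ N) → dserIn N k = ⊥ →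
      lcsIn N (hk p k) = ⊥ :=
  kk_main_core hp gr hG
    (fun N hNh hN t v hv l hl hlen => kkm_kk_step hp gr hG N hNh hN t v hv l hl hlen)

theorem graded_nilpotent {p : ℕ} (hp : p.Prime) (gr : ZMod p → AddSubgroup L) (hG : Grading p gr)
    (hspan : ⨆ i, gr i = ⊤) : lcsIn (⊤ : AddSubgroup L) (hk p (2 ^ (p - 1) - 1)) = ⊥ :=
  haveI : NeZero p := ⟨hp.ne_zero⟩
  graded_nilpotent_core hp gr hG hspan (kreknin gr hG hspan)
    (fun N hNh hN t v hv l hl hlen => kkm_kk_step hp gr hG N hNh hN t v hv l hl hlen)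

end K

end Cfsg.Agent.Helper23.HKK
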