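import Mathlib
import Cfsg.Prelude.Def_Local
import Cfsg.Prelude.Def_CaseTheorems
import Cfsg.Agent.S0029
import Cfsg.Agent.S0012
import Cfsg.Agent.Lib.Helper14.Basic

set_option autoImplicit false
open Cfsg

/-! The action of a group on the Frattini quotient of a normal `p`-subgroup. -/

namespace Cfsg.Agent.Helper12.FA

open scoped commutatorElement

/-- automorphisms act on the quotient by a characteristic subgroup -/
def autQuot {G : Type*} [Group G] (Φ : Subgroup G) [hΦ : Φ.Characteristic] :
    MulAut G →* MulAut (G ⧸ Φ) where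
  toFun α := QuotientGroup.congr Φ Φ α (Subgroup.characteristic_iff_map_eq.mp hΦ α)
  map_one' := by
    apply MulEquiv.ext
    intro x
    induction x using QuotientGroup.induction_on with
    | H x => rfl
  map_mul' α β := by
    apply MulEquiv.ext
    intro x
    induction x using QuotientGroup.induction_on with
    | H x => rfl

theorem autQuot_mk {G : Type*} [Group G] (Φ : Subgroup G) [hΦ : Φ.Characteristic] (α : MulAut G)
    (x : G) : autQuot Φ α (QuotientGroup.mk x) = QuotientGroup.mk (α x) := rfl

variable {X : Type*} [Group X]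

/-- the action of `X` on the Frattini quotient of a normal subgroup -/
def rho (Q : Subgroup X) [Q.Normal] : X →* MulAut (↥Q ⧸ frattini ↥Q) :=
  (autQuot (frattini ↥Q)).comp MulAut.conjNormal

theorem rho_mk (Q : Subgroup X) [Q.Normal] (x : X) (q : ↥Q) :
    rho Q x (QuotientGroup.mk q) = QuotientGroup.mk (MulAut.conjNormal x q) := rfl

/-- if `O_{p'}(X) = 1` then `O_{p',p}(X) = O_p(X)` -/
theorem pPrimePCore_eq_pCore (p : ℕ) (h : pPrimeCore p X = ⊥) : pPrimePCore p X = pCore p X := by
  unfold pPrimePCore
  apply le_antisymm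
  · apply Cfsg.Agent.Helper14.le_pCore
    · exact Subgroup.Normal.comap inferInstance _
    · apply IsPGroup.comap_of_injective (Cfsg.Agent.Helper14.pCore_isPGroup p _)
      rw [← MonoidHom.ker_eq_bot_iff, QuotientGroup.ker_mk', h]
  · intro x hx
    rw [Subgroup.mem_comap]
    have hle : (pCore p X).map (QuotientGroup.mk' (pPrimeCore p X)) ≤ pCore p (X ⧸ pPrimeCore p X) := by
      apply Cfsg.Agent.Helper14.le_pCore
      · exact Subgroup.Normal.map inferInstance _ (QuotientGroup.mk'_surjective _)
      · exact (Cfsg.Agent.Helper14.pCore_isPGroup p X).map _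
    exact hle (Subgroup.mem_map_of_mem _ hx)

/-- a `2`-constrained group with trivial core has `C(O_2) ≤ O_2` -/
theorem centralizer_pCore_le {p : ℕ} [Fact p.Prime] (hc : IsPConstrained p X)
    (hO : pPrimeCore p X = ⊥) :
    Subgroup.centralizer (pCore p X : Set X) ≤ pCore p X := by
  have hR := pPrimePCore_eq_pCore p hO
  have hRp : IsPGroup p ↥(pPrimePCore p X) := by
    rw [hR]; exact Cfsg.Agent.Helper14.pCore_isPGroup p X
  obtain ⟨P⟩ : Nonempty (Sylow p ↥(pPrimePCore p X)) := inferInstance
  have hPtop : (P : Subgroup ↥(pPrimePCore p X)) = ⊤ := by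
    have htop : IsPGroup p ↥(⊤ : Subgroup ↥(pPrimePCore p X)) :=
      hRp.of_equiv (Subgroup.topEquiv).symm
    exact (P.is_maximal' htop le_top).symm
  have h := hc P
  rw [hPtop, ← MonoidHom.range_eq_map, Subgroup.range_subtype, hR] at h
  exact h

variable [Finite X]

/-- the kernel of the action on the Frattini quotient of `O_p(X)` is `O_p(X)` when `C(O_p) ≤ O_p` -/
theorem ker_rho_le {p : ℕ} [Fact p.Prime]
    (hCQ : Subgroup.centralizer (pCore p X : Set X) ≤ pCore p X) :
    (rho (pCore p X)).ker ≤ pCore p X := by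
  have hp : p.Prime := Fact.out
  set Q := pCore p X with hQ
  have hQp : IsPGroup p ↥Q := Cfsg.Agent.Helper14.pCore_isPGroup p X
  set K := (rho Q).ker with hK
  have key : ∀ x ∈ K, (orderOf x).Coprime p → x = 1 := by
    intro x hx hcop
    have hA : Subgroup.zpowers x ≤ Subgroup.centralizer (Q : Set X) := by
      apply Cfsg.Agent.S0029.result (Subgroup.zpowers x) Q
      · rw [Subgroup.normalizer_eq_top]; exact le_top
      · rw [Nat.card_zpowers]
        have hΦ : IsPGroup p ↥(frattini ↥Q) := hQp.to_subgroup _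
        obtain ⟨n, hn⟩ := IsPGroup.iff_card.1 hΦ
        rw [hn]
        exact Nat.Coprime.pow_right n hcop
      · intro a ha k hk
        have haK : a ∈ K := (Subgroup.zpowers_le.2 hx) ha
        have h1 : rho Q a = 1 := MonoidHom.mem_ker.1 haK
        have h2 := MulEquiv.congr_fun h1 (QuotientGroup.mk (⟨k, hk⟩ : ↥Q))
        rw [rho_mk] at h2
        have h3 : (QuotientGroup.mk (MulAut.conjNormal a (⟨k, hk⟩ : ↥Q) * (⟨k, hk⟩ : ↥Q)⁻¹) :
            ↥Q ⧸ frattini ↥Q) = 1 := by
          rw [QuotientGroup.mk_mul, h2, QuotientGroup.mk_inv]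
          exact mul_inv_cancel _
        have h4 := (QuotientGroup.eq_one_iff _).1 h3
        refine ⟨_, h4, ?_⟩
        simp [MulAut.conjNormal_apply]
    have hxQ : x ∈ Q := hCQ (hA (Subgroup.mem_zpowers x))
    obtain ⟨n, hn⟩ := (IsPGroup.iff_orderOf.1 hQp) ⟨x, hxQ⟩
    rw [Subgroup.orderOf_mk] at hn
    rw [hn] at hcop
    have h1 : orderOf x = 1 := by
      rw [hn]
      rcases Nat.eq_zero_or_pos n with rfl | hpos
      · rfl
      · exfalso
        have : (p ^ n).Coprime p → False := by
          intro h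
          have hdvd : p ∣ Nat.gcd (p ^ n) p := Nat.dvd_gcd (dvd_pow_self p hpos.ne') dvd_rfl
          rw [h] at hdvd
          exact hp.one_lt.ne' (Nat.dvd_one.1 hdvd)
        exact this hcop
    exact orderOf_eq_one_iff.1 h1
  have hKp : IsPGroup p ↥K := by
    apply Cfsg.Agent.Helper14.isPGroup_of_pprime_elements_trivial
    intro y hy
    have := key (y : X) y.2 (by rwa [Subgroup.orderOf_coe])
    exact Subtype.ext this
  exact Cfsg.Agent.Helper14.le_pCore inferInstance hKp

theorem le_ker_rho {p : ℕ} [Fact p.Prime] : pCore p X ≤ (rho (pCore p X)).ker := by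
  have hQp : IsPGroup p ↥(pCore p X) := Cfsg.Agent.Helper14.pCore_isPGroup p X
  have h12 := (Cfsg.Agent.S0012.result (G := ↥(pCore p X)) p hQp).1
  intro x hx
  rw [MonoidHom.mem_ker]
  apply MulEquiv.ext
  intro v
  induction v using QuotientGroup.induction_on with
  | H q =>
    rw [rho_mk]
    show _ = QuotientGroup.mk q
    rw [QuotientGroup.eq]
    apply h12
    have : (MulAut.conjNormal x q)⁻¹ * q = ⁅(⟨x, hx⟩ : ↥(pCore p X)), q⁻¹⁆ := by
      apply Subtype.ext
      simp [MulAut.conjNormal_apply, commutatorElement_def, mul_assoc]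
    rw [this, commutator_def]
    exact Subgroup.commutator_mem_commutator (Subgroup.mem_top _) (Subgroup.mem_top _)

end Cfsg.Agent.Helper12.FA
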