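import Mathlib

/-!
# S0996 piece GB (helper12): all two-point stabilizers of order `w` ⟹ `|N_G(W)| = w (n+1)`

Setting: `P ≤ N ≤ G`, `|P| = p` prime, `|N| = p w`, `p ∤ w`, `|G : N| = 1 + n p`, and every
`N ⊓ x N x⁻¹` (`x ∉ N`) has order `w`.  With the two facts (G3(b)) every subgroup of order `w` of `N` is a
`P`-conjugate of `W`, (G3(c)) `N_N(W) = W`, we get `|N_G(W)| = w (n+1)`.

Proof by three product bijections inside `G` (no quotient actions).
-/

set_option autoImplicit false

namespace Cfsg.Agent.Helper12.BR996GB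

variable {G : Type*} [Group G]

/-- the conjugate `x H x⁻¹` -/
def cj (x : G) (H : Subgroup G) : Subgroup G := H.comap (MulAut.conj x⁻¹).toMonoidHom

theorem mem_cj {x g : G} {H : Subgroup G} : g ∈ cj x H ↔ x⁻¹ * g * x ∈ H := by
  unfold cj
  rw [Subgroup.mem_comap]
  simp only [MulEquiv.toMonoidHom_eq_coe, MonoidHom.coe_coe, MulAut.conj_apply, inv_inv]

theorem cj_eq_map (x : G) (H : Subgroup G) : cj x H = H.map (MulAut.conj x).toMonoidHom := by
  ext g
  rw [mem_cj, Subgroup.mem_map]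
  constructor
  · intro h
    refine ⟨x⁻¹ * g * x, h, ?_⟩
    simp only [MulEquiv.toMonoidHom_eq_coe, MonoidHom.coe_coe, MulAut.conj_apply]
    group
  · rintro ⟨y, hy, rfl⟩
    simp only [MulEquiv.toMonoidHom_eq_coe, MonoidHom.coe_coe, MulAut.conj_apply]
    rwa [show x⁻¹ * (x * y * x⁻¹) * x = y by group]

open Pointwise in
theorem cj_eq_smul (x : G) (H : Subgroup G) : cj x H = MulAut.conj x • H := by
  rw [cj_eq_map]
  rfl

theorem cj_one (H : Subgroup G) : cj 1 H = H := by
  ext g; rw [mem_cj]; simp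

theorem cj_mul (x y : G) (H : Subgroup G) : cj (x * y) H = cj x (cj y H) := by
  ext g
  rw [mem_cj, mem_cj, mem_cj]
  rw [show (x * y)⁻¹ * g * (x * y) = y⁻¹ * (x⁻¹ * g * x) * y by group]

theorem cj_inf (x : G) (H K : Subgroup G) : cj x (H ⊓ K) = cj x H ⊓ cj x K := by
  ext g
  simp only [mem_cj, Subgroup.mem_inf]

theorem cj_mono (x : G) {H K : Subgroup G} (h : H ≤ K) : cj x H ≤ cj x K := by
  intro g hg
  rw [mem_cj] at hg ⊢
  exact h hg

theorem cj_of_mem {x : G} {H : Subgroup G} (hx : x ∈ H) : cj x H = H := by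
  ext g
  rw [mem_cj]
  constructor
  · intro h
    have := H.mul_mem (H.mul_mem hx h) (H.inv_mem hx)
    rwa [show x * (x⁻¹ * g * x) * x⁻¹ = g by group] at this
  · intro h
    exact H.mul_mem (H.mul_mem (H.inv_mem hx) h) hx

theorem cj_inv_cj (x : G) (H : Subgroup G) : cj x⁻¹ (cj x H) = H := by
  rw [← cj_mul, inv_mul_cancel, cj_one]

theorem cj_cj_inv (x : G) (H : Subgroup G) : cj x (cj x⁻¹ H) = H := by
  rw [← cj_mul, mul_inv_cancel, cj_one]

theorem mem_normalizer_iff_cj {x : G} {H : Subgroup G} :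
    x ∈ Subgroup.normalizer (H : Set G) ↔ cj x H = H := by
  rw [Subgroup.mem_normalizer_iff]
  constructor
  · intro h
    ext g
    rw [mem_cj, h (x⁻¹ * g * x)]
    rw [show x * (x⁻¹ * g * x) * x⁻¹ = g by group]
  · intro h g
    have : x * g * x⁻¹ ∈ cj x H ↔ x * g * x⁻¹ ∈ H := by rw [h]
    rw [← this, mem_cj]
    rw [show x⁻¹ * (x * g * x⁻¹) * x = g by group]

/-- conjugate subgroups have the same cardinality -/
theorem card_cj (x : G) (H : Subgroup G) : Nat.card (cj x H) = Nat.card H := by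
  apply Nat.card_congr
  refine ⟨fun g => ⟨x⁻¹ * g.1 * x, mem_cj.mp g.2⟩, fun h => ⟨x * h.1 * x⁻¹, ?_⟩, ?_, ?_⟩
  · rw [mem_cj]
    rw [show x⁻¹ * (x * h.1 * x⁻¹) * x = h.1 by group]
    exact h.2
  · intro g; apply Subtype.ext; simp only; group
  · intro h; apply Subtype.ext; simp only; group

/-- two subgroups with coprime orders meet trivially -/
theorem eq_one_of_mem_of_coprime {A B : Subgroup G} (h : (Nat.card A).Coprime (Nat.card B)) {g : G}
    (hA : g ∈ A) (hB : g ∈ B) : g = 1 := by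
  have h1 : orderOf g ∣ Nat.card A := Subgroup.orderOf_dvd_natCard A hA
  have h2 : orderOf g ∣ Nat.card B := Subgroup.orderOf_dvd_natCard B hB
  have := Nat.dvd_gcd h1 h2
  rw [Nat.Coprime] at h
  rw [h, Nat.dvd_one, orderOf_eq_one_iff] at this
  exact this

variable [Finite G]

/-- **GB, core form.**  `W ≤ N` of order `w`; G3(b) and G3(c) for `W` are hypotheses. -/
theorem card_normalizer_core (P N W : Subgroup G) (p w n : ℕ) (hp : p.Prime) (hPN : P ≤ N)
    (hcardP : Nat.card P = p) (hcardN : Nat.card N = p * w) (hcop : p.Coprime w)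
    (hindex : N.index = 1 + n * p) (hWN : W ≤ N) (hcardW : Nat.card W = w)
    (hyp : ∀ x : G, x ∉ N → Nat.card (N ⊓ cj x N : Subgroup G) = w)
    (hb : ∀ W' : Subgroup G, W' ≤ N → Nat.card W' = w → ∃ z ∈ P, W' = cj z W)
    (hc : Subgroup.normalizer (W : Set G) ⊓ N = W) :
    Nat.card (Subgroup.normalizer (W : Set G)) = w * (n + 1) := by
  classical
  have hp0 : 0 < p := hp.pos
  -- `P ⊓ N_G(W) = 1`
  have hPM : ∀ z : G, z ∈ P → cj z W = W → z = 1 := by
    intro z hz hzW
    have h1 : z ∈ Subgroup.normalizer (W : Set G) ⊓ N :=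
      ⟨mem_normalizer_iff_cj.mpr hzW, hPN hz⟩
    rw [hc] at h1
    exact eq_one_of_mem_of_coprime (A := P) (B := W) (by rw [hcardP, hcardW]; exact hcop) hz h1
  -- the set `F`
  let F : Set G := {g | g ∉ N ∧ N ⊓ cj g N = W}
  let T : Set G := {g | g ∉ N}
  let S : Set G := {g | W ≤ cj g N}
  -- (1) `P × F ≃ T`
  have h1 : Nat.card T = p * Nat.card F := by
    rw [← hcardP, ← Nat.card_prod]
    symm
    apply Nat.card_congr
    refine Equiv.ofBijective (fun zg : P × F => ⟨zg.1.1 * zg.2.1, ?_⟩) ⟨?_, ?_⟩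
    · intro hmem
      apply zg.2.2.1
      have := N.mul_mem (N.inv_mem (hPN zg.1.2)) hmem
      rwa [inv_mul_cancel_left] at this
    · rintro ⟨⟨z, hz⟩, ⟨g, hg⟩⟩ ⟨⟨z', hz'⟩, ⟨g', hg'⟩⟩ heq
      have heq' : z * g = z' * g' := congrArg Subtype.val heq
      have e1 : N ⊓ cj (z * g) N = cj z W := by
        rw [cj_mul, ← hg.2, cj_inf, cj_of_mem (hPN hz)]
      have e2 : N ⊓ cj (z' * g') N = cj z' W := by
        rw [cj_mul, ← hg'.2, cj_inf, cj_of_mem (hPN hz')]
      rw [heq', e2] at e1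
      have e3 : cj (z'⁻¹ * z) W = W := by
        rw [cj_mul, ← e1, cj_inv_cj]
      have e4 := hPM _ (P.mul_mem (P.inv_mem hz') hz) e3
      have e5 : z = z' := by
        have := inv_mul_eq_one.mp e4
        exact this.symm
      subst e5
      have e6 : g = g' := mul_left_cancel heq'
      subst e6
      rfl
    · rintro ⟨t, ht⟩
      have ht' : t ∉ N := ht
      obtain ⟨z, hz, hzW⟩ := hb (N ⊓ cj t N) inf_le_left (hyp t ht')
      have hg : z⁻¹ * t ∈ F := by
        refine ⟨?_, ?_⟩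
        · intro hmem
          apply ht'
          have := N.mul_mem (hPN hz) hmem
          rwa [mul_inv_cancel_left] at this
        · have : cj z⁻¹ (N ⊓ cj t N) = cj z⁻¹ (cj z W) := by rw [hzW]
          rw [cj_inv_cj, cj_inf, cj_of_mem (N.inv_mem (hPN hz)), ← cj_mul] at this
          exact this
      refine ⟨⟨⟨z, hz⟩, ⟨z⁻¹ * t, hg⟩⟩, ?_⟩
      apply Subtype.ext
      show z * (z⁻¹ * t) = t
      rw [mul_inv_cancel_left]
  -- `|T| = |N| n p`
  have hG : Nat.card G = (1 + n * p) * (p * w) := by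
    rw [← hindex, ← hcardN, mul_comm]
    exact (Subgroup.card_mul_index N).symm
  have hT : Nat.card T = p * w * n * p := by
    have h2 := Set.ncard_add_ncard_compl (N : Set G)
    have h3 : (N : Set G).ncard = p * w := by
      rw [← hcardN]
      exact (Nat.card_coe_set_eq (N : Set G)).symm
    have h4 : Nat.card T = ((N : Set G)ᶜ).ncard := by
      rw [← Nat.card_coe_set_eq]
      rfl
    rw [h4]
    rw [h3, hG] at h2
    have : ((N : Set G)ᶜ).ncard = (1 + n * p) * (p * w) - p * w := by omega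
    rw [this]
    have h5 : (1 + n * p) * (p * w) = p * w + p * w * n * p := by ring
    rw [h5]
    omega
  have hF : Nat.card F = p * w * n := by
    have : p * Nat.card F = p * (p * w * n) := by
      rw [← h1, hT]; ring
    exact Nat.eq_of_mul_eq_mul_left hp0 this
  -- (2) `S = N ⊔ F`
  have hSeq : S = (N : Set G) ∪ F := by
    ext g
    simp only [S, F, Set.mem_ofPred_eq, Set.mem_union, SetLike.mem_coe]
    constructor
    · intro hg
      by_cases hgN : g ∈ N
      · exact Or.inl hgN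
      · right
        refine ⟨hgN, ?_⟩
        symm
        apply Subgroup.eq_of_le_of_card_ge (le_inf hWN hg)
        rw [hyp g hgN, hcardW]
    · rintro (hgN | ⟨-, hg⟩)
      · rw [cj_of_mem hgN]; exact hWN
      · rw [← hg]; exact inf_le_right
  have hdisj : Disjoint (N : Set G) F := by
    rw [Set.disjoint_left]
    intro g hg hgF
    exact hgF.1 hg
  have hS : Nat.card S = p * w * (n + 1) := by
    rw [Nat.card_coe_set_eq, hSeq, Set.ncard_union_eq hdisj (Set.toFinite _) (Set.toFinite _),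
      ← Nat.card_coe_set_eq (N : Set G), ← Nat.card_coe_set_eq F, hF]
    have : Nat.card ((N : Set G) : Type _) = p * w := hcardN
    rw [this]
    ring
  -- (3) `N_G(W) × P ≃ S`
  have h3 : Nat.card S = Nat.card (Subgroup.normalizer (W : Set G)) * p := by
    rw [← hcardP, ← Nat.card_prod]
    symm
    apply Nat.card_congr
    refine Equiv.ofBijective
      (fun mz : (Subgroup.normalizer (W : Set G)) × P => ⟨mz.1.1 * mz.2.1, ?_⟩) ⟨?_, ?_⟩
    · show W ≤ cj (mz.1.1 * mz.2.1) N
      rw [cj_mul, cj_of_mem (hPN mz.2.2)]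
      have := mem_normalizer_iff_cj.mp mz.1.2
      calc W = cj mz.1.1 W := this.symm
        _ ≤ cj mz.1.1 N := cj_mono _ hWN
    · rintro ⟨⟨m, hm⟩, ⟨z, hz⟩⟩ ⟨⟨m', hm'⟩, ⟨z', hz'⟩⟩ heq
      have heq' : m * z = m' * z' := congrArg Subtype.val heq
      have e1 : m'⁻¹ * m = z' * z⁻¹ := by
        have : m = m' * z' * z⁻¹ := by rw [← heq']; group
        rw [this]; group
      have e2 : cj (z' * z⁻¹) W = W := by
        rw [← e1]
        exact mem_normalizer_iff_cj.mp ((Subgroup.normalizer (W : Set G)).mul_mem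
          ((Subgroup.normalizer (W : Set G)).inv_mem hm') hm)
      have e3 := hPM _ (P.mul_mem hz' (P.inv_mem hz)) e2
      have e4 : z' = z := mul_inv_eq_one.mp e3
      subst e4
      have e5 : m = m' := mul_right_cancel heq'
      subst e5
      rfl
    · rintro ⟨g, hg⟩
      have hg' : W ≤ cj g N := hg
      have h4 : cj g⁻¹ W ≤ N := by
        have := cj_mono g⁻¹ hg'
        rwa [cj_inv_cj] at this
      obtain ⟨z, hz, hzW⟩ := hb (cj g⁻¹ W) h4 (by rw [card_cj, hcardW])
      have h5 : cj (g * z) W = W := by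
        rw [cj_mul, ← hzW, cj_cj_inv]
      refine ⟨⟨⟨g * z, mem_normalizer_iff_cj.mpr h5⟩, ⟨z⁻¹, P.inv_mem hz⟩⟩, ?_⟩
      apply Subtype.ext
      show g * z * z⁻¹ = g
      rw [mul_inv_cancel_right]
  have : Nat.card (Subgroup.normalizer (W : Set G)) * p = (w * (n + 1)) * p := by
    rw [← h3, hS]; ring
  exact Nat.eq_of_mul_eq_mul_right hp0 this

/-- the divisibility consequence: `(n+1) ∣ p - 1` when `n + 1 < p` -/
theorem succ_dvd_pred (p w n : ℕ) (hp : p.Prime) (hn : n + 1 < p)
    (hdvd : w * (n + 1) ∣ (1 + n * p) * (p * w)) (hw : 0 < w) : n + 1 ∣ p - 1 := by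
  have h1 : n + 1 ∣ (1 + n * p) * p := by
    have : w * (n + 1) ∣ w * ((1 + n * p) * p) := by
      rw [show w * ((1 + n * p) * p) = (1 + n * p) * (p * w) by ring]; exact hdvd
    exact (Nat.mul_dvd_mul_iff_left hw).mp this
  have hcop : (n + 1).Coprime p := by
    rw [Nat.coprime_comm]
    apply (Nat.Prime.coprime_iff_not_dvd hp).mpr
    intro h
    have := Nat.le_of_dvd (by omega) h
    omega
  have h2 : n + 1 ∣ 1 + n * p := hcop.dvd_of_dvd_mul_right h1
  -- `1 + n p = (n+1) p - (p - 1)`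
  have h3 : n + 1 ∣ (n + 1) * p := dvd_mul_right _ _
  have h4 : (n + 1) * p = (1 + n * p) + (p - 1) := by
    have : 1 ≤ p := hp.pos
    zify [this]
    ring
  rw [h4] at h3
  exact (Nat.dvd_add_right h2).mp h3

end Cfsg.Agent.Helper12.BR996GB
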