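import Mathlib
import Cfsg.Agent.Lib.Helper2.BR996G3
import Cfsg.Agent.Lib.Helper12.BR996GB

/-!
# S0996 piece GH (helper12): the two-point stabilizers `N ⊓ x N x⁻¹` have order `w` as soon as their orders
add up to `(n+1) |N|²` (i.e. `⟨1_N^G, 1_N^G⟩ = n + 1`)

Setting of helper2's G3: `P ≤ G` of prime order `p`, `C_G(P) ≤ P`, `N = N_G(P)`, `w = |N : P|`.
-/

set_option autoImplicit false

namespace Cfsg.Agent.Helper12.BR996GB

open Cfsg.Agent.Helper2

variable {G : Type*} [Group G] [Finite G] (P : Subgroup G) (p : ℕ) [Fact p.Prime]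

/-- an element of `N` with `y ^ p = 1` lies in `P` -/
theorem mem_of_pow_eq_one (hP : Nat.card P = p) (hC : Subgroup.centralizer (P : Set G) ≤ P) {y : G}
    (hy : y ∈ Subgroup.normalizer (P : Set G)) (hyp : y ^ p = 1) : y ∈ P := by
  have h1 : (⟨y, hy⟩ : Subgroup.normalizer (P : Set G)) ^
      (P.subgroupOf (Subgroup.normalizer (P : Set G))).index ∈
      P.subgroupOf (Subgroup.normalizer (P : Set G)) := Subgroup.pow_index_mem _ _
  rw [Subgroup.mem_subgroupOf] at h1
  have h2 : y ^ P.relIndex (Subgroup.normalizer (P : Set G)) ∈ P := h1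
  have hcop := BR996G3.coprime_relIndex P p hP hC
  -- Bezout
  have hb := Nat.gcd_eq_gcd_ab (P.relIndex (Subgroup.normalizer (P : Set G))) p
  rw [Nat.Coprime] at hcop
  rw [hcop] at hb
  have h3 : y = (y ^ P.relIndex (Subgroup.normalizer (P : Set G))) ^
      (Nat.gcdA (P.relIndex (Subgroup.normalizer (P : Set G))) p) := by
    have h4 : y ^ ((1 : ℕ) : ℤ) = y ^ ((P.relIndex (Subgroup.normalizer (P : Set G)) : ℤ) *
        Nat.gcdA (P.relIndex (Subgroup.normalizer (P : Set G))) p +
        (p : ℤ) * Nat.gcdB (P.relIndex (Subgroup.normalizer (P : Set G))) p) := by rw [hb]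
    rw [zpow_add, zpow_mul, zpow_mul, zpow_natCast, zpow_natCast, zpow_natCast, hyp, one_zpow,
      mul_one, pow_one] at h4
    exact h4
  rw [h3]
  exact P.zpow_mem h2 _

/-- `P ⊓ x N x⁻¹ = 1` for `x ∉ N` -/
theorem eq_one_of_mem_cj (hP : Nat.card P = p) (hC : Subgroup.centralizer (P : Set G) ≤ P) {x : G}
    (hx : x ∉ Subgroup.normalizer (P : Set G)) {z : G} (hz : z ∈ P)
    (hzx : x⁻¹ * z * x ∈ Subgroup.normalizer (P : Set G)) : z = 1 := by
  by_contra hz1
  apply hx
  have hzp : z ^ p = 1 := by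
    have : orderOf z ∣ Nat.card P := Subgroup.orderOf_dvd_natCard P hz
    rw [hP] at this
    exact orderOf_dvd_iff_pow_eq_one.mp this
  have hy : x⁻¹ * z * x ∈ P := by
    apply mem_of_pow_eq_one P p hP hC hzx
    rw [show x⁻¹ * z * x = x⁻¹ * z * x⁻¹⁻¹ by rw [inv_inv], conj_pow, hzp]
    group
  -- `x⁻¹ P x ≤ P`
  have hsub : ∀ u ∈ P, x⁻¹ * u * x ∈ P := by
    intro u hu
    have hne : (⟨z, hz⟩ : P) ≠ 1 := fun e => hz1 (congrArg Subtype.val e)
    obtain ⟨k, hk⟩ := mem_powers_of_prime_card (G := P) hP (g' := ⟨u, hu⟩) hne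
    have hk' : z ^ k = u := by
      have := congrArg Subtype.val hk
      simpa using this
    rw [← hk', show x⁻¹ * z ^ k * x = x⁻¹ * z ^ k * x⁻¹⁻¹ by rw [inv_inv], ← conj_pow, inv_inv]
    exact P.pow_mem hy k
  have h1 : x⁻¹ ∈ Subgroup.normalizer (P : Set G) := by
    apply Subgroup.mem_normalizer_fintype
    intro u hu
    have := hsub u hu
    rwa [inv_inv]
  have := inv_mem h1
  rwa [inv_inv] at this

/-- `|N ⊓ x N x⁻¹| ≤ w` for `x ∉ N` -/
theorem card_inter_le (hP : Nat.card P = p) (hC : Subgroup.centralizer (P : Set G) ≤ P) {x : G}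
    (hx : x ∉ Subgroup.normalizer (P : Set G)) :
    Nat.card (Subgroup.normalizer (P : Set G) ⊓
      (Subgroup.normalizer (P : Set G)).map (MulAut.conj x).toMonoidHom : Subgroup G) ≤
      P.relIndex (Subgroup.normalizer (P : Set G)) := by
  have hpp : p.Prime := Fact.out
  rw [← cj_eq_map]
  set K := Subgroup.normalizer (P : Set G) ⊓ cj x (Subgroup.normalizer (P : Set G)) with hK
  have hinj : Function.Injective (fun kz : K × P =>
      (⟨kz.1.1 * kz.2.1, (Subgroup.normalizer (P : Set G)).mul_mem kz.1.2.1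
        (Subgroup.le_normalizer kz.2.2)⟩ : Subgroup.normalizer (P : Set G))) := by
    rintro ⟨⟨k, hk⟩, ⟨z, hz⟩⟩ ⟨⟨k', hk'⟩, ⟨z', hz'⟩⟩ heq
    have heq' : k * z = k' * z' := congrArg Subtype.val heq
    have e1 : k'⁻¹ * k = z' * z⁻¹ := by
      have : k = k' * z' * z⁻¹ := by rw [← heq']; group
      rw [this]; group
    have e2 : z' * z⁻¹ ∈ K := by rw [← e1]; exact K.mul_mem (K.inv_mem hk') hk
    have e3 : z' * z⁻¹ = 1 :=
      eq_one_of_mem_cj P p hP hC hx (P.mul_mem hz' (P.inv_mem hz)) (mem_cj.mp e2.2)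
    have e4 : z' = z := mul_inv_eq_one.mp e3
    subst e4
    have e5 : k = k' := mul_right_cancel heq'
    subst e5
    rfl
  have hle := Nat.card_le_card_of_injective _ hinj
  rw [Nat.card_prod, hP, BR996G3.card_normalizer P p hP, mul_comm] at hle
  exact Nat.le_of_mul_le_mul_left hle hpp.pos

/-- **GH**: if the orders of the `N ⊓ x N x⁻¹` add up to `(n+1) |N|²` then they are all equal to `w` (`x ∉ N`) -/
theorem hyp_of_sum [Fintype G] (hP : Nat.card P = p) (hC : Subgroup.centralizer (P : Set G) ≤ P)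
    (n : ℕ) (hr : (Subgroup.normalizer (P : Set G)).index = 1 + n * p)
    (hsum : ∑ x : G, Nat.card (Subgroup.normalizer (P : Set G) ⊓
      (Subgroup.normalizer (P : Set G)).map (MulAut.conj x).toMonoidHom : Subgroup G) =
      (n + 1) * Nat.card (Subgroup.normalizer (P : Set G)) ^ 2) :
    ∀ x : G, x ∉ Subgroup.normalizer (P : Set G) →
      Nat.card (Subgroup.normalizer (P : Set G) ⊓
        (Subgroup.normalizer (P : Set G)).map (MulAut.conj x).toMonoidHom : Subgroup G) =
        P.relIndex (Subgroup.normalizer (P : Set G)) := by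
  classical
  set N := Subgroup.normalizer (P : Set G) with hN
  set w := P.relIndex N with hw
  have hcardN : Nat.card N = p * w := BR996G3.card_normalizer P p hP
  set c : G → ℕ := fun x => Nat.card (N ⊓ N.map (MulAut.conj x).toMonoidHom : Subgroup G) with hc
  -- split the sum
  have hsplit : ∑ x : G, c x = ∑ x ∈ Finset.univ.filter (fun x => x ∈ N), c x +
      ∑ x ∈ Finset.univ.filter (fun x => x ∉ N), c x :=
    (Finset.sum_filter_add_sum_filter_not Finset.univ (fun x => x ∈ N) c).symm
  have hin : ∀ x ∈ Finset.univ.filter (fun x => x ∈ N), c x = Nat.card N := by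
    intro x hx
    rw [Finset.mem_filter] at hx
    show Nat.card (N ⊓ N.map (MulAut.conj x).toMonoidHom : Subgroup G) = Nat.card N
    rw [← cj_eq_map, cj_of_mem hx.2, inf_idem]
  have hcard_in : (Finset.univ.filter (fun x => x ∈ N)).card = Nat.card N := by
    rw [Nat.card_eq_fintype_card, Fintype.card_subtype]
  have hcard_out : (Finset.univ.filter (fun x => x ∉ N)).card = Nat.card N * (n * p) := by
    have h1 := Finset.card_filter_add_card_filter_not (s := (Finset.univ : Finset G))
      (fun x => x ∈ N)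
    rw [hcard_in, Finset.card_univ, ← Nat.card_eq_fintype_card, ← Subgroup.card_mul_index N, hr] at h1
    have : Nat.card N * (1 + n * p) = Nat.card N + Nat.card N * (n * p) := by ring
    rw [this] at h1
    omega
  have hsum_in : ∑ x ∈ Finset.univ.filter (fun x => x ∈ N), c x = Nat.card N * Nat.card N := by
    rw [Finset.sum_congr rfl hin, Finset.sum_const, hcard_in, smul_eq_mul]
  have hle : ∀ x ∈ Finset.univ.filter (fun x => x ∉ N), c x ≤ w := by
    intro x hx
    rw [Finset.mem_filter] at hx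
    exact card_inter_le P p hP hC hx.2
  have hsum_out : ∑ x ∈ Finset.univ.filter (fun x => x ∉ N), c x =
      ∑ _x ∈ Finset.univ.filter (fun x => x ∉ N), w := by
    rw [Finset.sum_const, hcard_out, smul_eq_mul]
    have h2 : ∑ x : G, c x = (n + 1) * Nat.card N ^ 2 := hsum
    rw [hsplit, hsum_in] at h2
    have h3 : (n + 1) * Nat.card N ^ 2 = Nat.card N * Nat.card N + Nat.card N * (n * p) * w := by
      rw [hcardN]; ring
    rw [h3] at h2
    omega
  have hall := (Finset.sum_eq_sum_iff_of_le hle).mp hsum_out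
  intro x hx
  exact hall x (by rw [Finset.mem_filter]; exact ⟨Finset.mem_univ _, hx⟩)

end Cfsg.Agent.Helper12.BR996GB
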