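import Mathlib
import Cfsg.Prelude.Def_Blocks
import Cfsg.Agent.Lib.Helper24.CharLinear
import Cfsg.Agent.Lib.Helper24.CharInduced
import Cfsg.Agent.Lib.Helper24.CharComplete
import Cfsg.Agent.Lib.Helper24.CharHom
import Cfsg.Agent.Lib.Helper10.BR996Defs
import Cfsg.Agent.Lib.Helper12.BR996GH

/-!
# S0996 piece WT (helper12): weights `A(ψ) = ⟨ψ|_P, 1_P⟩` and the permutation characters `1_P^G`, `1_N^G`
-/

set_option autoImplicit false
set_option linter.unusedSectionVars false
set_option linter.unusedVariables false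
set_option linter.style.haveILetI false

namespace Cfsg.Agent.Helper10.BR996

open scoped ComplexConjugate
open Cfsg Cfsg.Agent.Helper24

universe u

namespace WT

variable {G : Type u} [Group G] [Fintype G]

/-- a sum over `G` of a function supported on the subgroup `H` -/
theorem sum_ite_mem (H : Subgroup G) [Fintype H] [DecidablePred (· ∈ H)] (f : G → ℂ) :
    ∑ z : G, (if z ∈ H then f z else 0) = ∑ h : H, f (h : G) := by
  rw [sum_eq_sum_subgroup H (fun z => if z ∈ H then f z else 0) (fun x hx => if_neg hx)]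
  apply Finset.sum_congr rfl
  intro h _
  exact if_pos h.2

/-- the inner product over the subgroup `H` of the restriction with the principal character -/
theorem classInner_res_one (H : Subgroup G) [Fintype H] [DecidablePred (· ∈ H)] (ψ : G → ℂ) :
    classInner (fun z : H => ψ z) (fun _ => (1 : ℂ)) =
      (Nat.card H : ℂ)⁻¹ * ∑ z : G, (if z ∈ H then ψ z else 0) := by
  unfold classInner
  rw [sum_ite_mem]
  simp only [map_one, mul_one]

theorem Aw_eq_classInner (P : Subgroup G) [Fintype P] (ψ : G → ℂ) :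
    Aw P ψ = classInner (fun z : P => ψ z) (fun _ => (1 : ℂ)) := by
  classical
  rw [classInner_res_one]
  unfold Aw psum
  congr 1

/-- Frobenius reciprocity against a permutation character -/
theorem classInner_indFun_one_right (H : Subgroup G) [Fintype H] {χ : G → ℂ}
    (hχ : IsClassFunction G χ) :
    classInner χ (indFun H (fun _ => (1 : ℂ))) =
      classInner (fun z : H => χ z) (fun _ => (1 : ℂ)) := by
  rw [← classInner_conj_symm (indFun H (fun _ => (1 : ℂ))) χ, frobenius_reciprocity H _ hχ,
    classInner_conj_symm]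

/-- the weight with respect to a subgroup is a natural number -/
theorem classInner_res_one_nat (H : Subgroup G) [Fintype H] {ψ : G → ℂ} (hψ : IsCharacter G ψ) :
    ∃ a : ℕ, classInner (fun z : H => ψ z) (fun _ => (1 : ℂ)) = (a : ℂ) := by
  classical
  letI : Fintype (IrrCharacter H) := irrFintype
  exact classInner_char_nat (isCharacter_restrict H hψ) isCharacter_one

/-- `⟨1_H, 1_H⟩ = 1` -/
theorem classInner_one_one (H : Type u) [Group H] [Fintype H] :
    classInner (fun _ : H => (1 : ℂ)) (fun _ => (1 : ℂ)) = 1 := by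
  have := irr_orthogonality (G := H) isIrrCharacter_one isIrrCharacter_one
  rw [this, if_pos rfl]

/-- monotonicity of the weight: `⟨χ|_K, 1_K⟩ ≤ ⟨χ|_H, 1_H⟩` for `H ≤ K` -/
theorem weight_mono (H K : Subgroup G) (hHK : H ≤ K) [Fintype H] [Fintype K] {χ : G → ℂ}
    (hχ : IsCharacter G χ) :
    ∃ m a : ℕ, classInner (fun z : K => χ z) (fun _ => (1 : ℂ)) = (m : ℂ) ∧
      classInner (fun z : H => χ z) (fun _ => (1 : ℂ)) = (a : ℂ) ∧ m ≤ a := by
  classical
  letI : Fintype (IrrCharacter K) := irrFintype
  letI : Fintype (IrrCharacter H) := irrFintype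
  have hφ : IsCharacter K (fun z : K => χ z) := isCharacter_restrict K hχ
  obtain ⟨hc, hdec⟩ := isCharacter_decomp hφ
  choose c hcc using hc
  -- the weights of the irreducible characters of `K` with respect to `H`
  have hk : ∀ θ : IrrCharacter K, ∃ k : ℕ,
      classInner (fun z : H => (θ : K → ℂ) (Subgroup.inclusion hHK z)) (fun _ => (1 : ℂ)) = (k : ℂ) := by
    intro θ
    have h1 : IsCharacter H ((θ : K → ℂ) ∘ (Subgroup.inclusion hHK)) :=
      isCharacter_comp (Subgroup.inclusion hHK) (isCharacter_of_isIrrCharacter θ.2)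
    exact classInner_char_nat h1 isCharacter_one
  choose k hkk using hk
  -- the decomposition restricted to `H`
  have hres : (fun z : H => χ z) =
      ∑ θ : IrrCharacter K, (c θ : ℂ) • (fun z : H => (θ : K → ℂ) (Subgroup.inclusion hHK z)) := by
    funext z
    have := congrFun hdec (Subgroup.inclusion hHK z)
    simp only [Finset.sum_apply, Pi.smul_apply, smul_eq_mul] at this ⊢
    rw [show χ (z : G) = χ ((Subgroup.inclusion hHK z : K) : G) from rfl, this]
    apply Finset.sum_congr rfl
    intro θ _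
    rw [hcc]
  have ha : classInner (fun z : H => χ z) (fun _ => (1 : ℂ)) =
      ((∑ θ : IrrCharacter K, c θ * k θ : ℕ) : ℂ) := by
    rw [hres, classInner_sum_left]
    push_cast
    apply Finset.sum_congr rfl
    intro θ _
    rw [classInner_smul_left, hkk]
  refine ⟨c (principalChar K), ∑ θ : IrrCharacter K, c θ * k θ, hcc (principalChar K), ha, ?_⟩
  have hk1 : k (principalChar K) = 1 := by
    have h1 := hkk (principalChar K)
    have h2 : (fun z : H => ((principalChar K : IrrCharacter K) : K → ℂ) (Subgroup.inclusion hHK z)) =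
        fun _ => (1 : ℂ) := rfl
    rw [h2, classInner_one_one] at h1
    exact_mod_cast h1.symm
  calc c (principalChar K) = c (principalChar K) * k (principalChar K) := by rw [hk1, mul_one]
    _ ≤ ∑ θ : IrrCharacter K, c θ * k θ :=
      Finset.single_le_sum (f := fun θ => c θ * k θ) (fun _ _ => Nat.zero_le _)
        (Finset.mem_univ _)

/-- the value of `1_H^G` as a count -/
theorem indFun_one_apply (H : Subgroup G) [DecidablePred (· ∈ H)] (g : G) :
    indFun H (fun _ => (1 : ℂ)) g =
      (Nat.card H : ℂ)⁻¹ * ((Finset.univ.filter (fun x : G => x⁻¹ * g * x ∈ H)).card : ℂ) := by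
  rw [indFun_apply]
  congr 1
  rw [Finset.card_filter]
  push_cast
  apply Finset.sum_congr rfl
  intro x _
  split_ifs with h
  · exact extendByZero_of_mem H _ h
  · exact extendByZero_of_not_mem H _ h

end WT

variable {G : Type u} [Group G] [Fintype G] [Fintype (IrrCharacter G)]
  (p : ℕ) [Fact p.Prime] (P : Subgroup G)

local notation "𝒩" => Subgroup.normalizer (P : Set G)

/-! ## PIECE WT: weights and the two permutation characters -/

/-- PIECE WT. -/
theorem Aw_nat {ψ : G → ℂ} (hψ : IsCharacter G ψ) : ∃ a : ℕ, Aw P ψ = (a : ℂ) := by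
  classical
  haveI : Fintype P := Fintype.ofFinite P
  rw [WT.Aw_eq_classInner]
  exact WT.classInner_res_one_nat P hψ

/-- PIECE WT: `p A(ψ) = ψ(1) + dsum ψ`. -/
theorem Aw_eq (hcard : Nat.card P = p) (ψ : G → ℂ) :
    (p : ℂ) * Aw P ψ = ψ 1 + dsum P ψ := by
  classical
  have hp0 : (p : ℂ) ≠ 0 := by
    have : p ≠ 0 := (Fact.out : p.Prime).ne_zero
    exact_mod_cast this
  unfold Aw psum dsum
  rw [hcard, ← mul_assoc, mul_inv_cancel₀ hp0, one_mul]
  have h1 : ψ 1 = ∑ z : G, if z = 1 then ψ z else 0 := by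
    rw [Finset.sum_ite_eq' Finset.univ (1 : G) ψ]
    simp
  rw [h1, ← Finset.sum_add_distrib]
  apply Finset.sum_congr rfl
  intro z _
  by_cases hz1 : z = 1
  · subst hz1
    simp [P.one_mem]
  · by_cases hzP : z ∈ P
    · simp [hz1, hzP]
    · simp [hz1, hzP]

/-- PIECE WT. -/
theorem permP_isCharacter : IsCharacter G (permP P) :=
  isCharacter_indFun P isCharacter_one

/-- PIECE WT. -/
theorem permN_isCharacter : IsCharacter G (permN P) :=
  isCharacter_indFun _ isCharacter_one

/-- PIECE WT: `⟨χ, 1_N^G⟩ ≤ ⟨χ, 1_P^G⟩ = A(χ)` (the `N`-fixed vectors are `P`-fixed). -/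
theorem inner_permN_le {χ : G → ℂ} (hχ : IsCharacter G χ) :
    ∃ m a : ℕ, classInner χ (permN P) = (m : ℂ) ∧ Aw P χ = (a : ℂ) ∧ m ≤ a := by
  classical
  haveI : Fintype P := Fintype.ofFinite P
  haveI : Fintype 𝒩 := Fintype.ofFinite _
  obtain ⟨m, a, hm, ha, hma⟩ := WT.weight_mono P 𝒩 Subgroup.le_normalizer hχ
  refine ⟨m, a, ?_, ?_, hma⟩
  · unfold permN
    rw [WT.classInner_indFun_one_right _ (isClassFunction_of_isCharacter hχ), hm]
  · rw [WT.Aw_eq_classInner, ha]

/-- PIECE WT. -/
theorem dsum_const (hcard : Nat.card P = p) {ψ : G → ℂ} (c : ℂ)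
    (h : ∀ z ∈ P, z ≠ 1 → ψ z = c) : dsum P ψ = ((p : ℂ) - 1) * c := by
  classical
  haveI : Fintype P := Fintype.ofFinite P
  unfold dsum
  have h1 : ∀ z : G, (if z ∈ P ∧ z ≠ 1 then ψ z else 0) =
      (if z ∈ P then c else 0) - (if z = 1 then c else 0) := by
    intro z
    by_cases hz1 : z = 1
    · subst hz1
      simp [P.one_mem]
    · by_cases hzP : z ∈ P
      · simp [hz1, hzP, h z hzP hz1]
      · simp [hz1, hzP]
  have h2 : ∀ z : G, (if z ∈ P ∧ z ≠ 1 then ψ z else 0) =
      (if z ∈ P then c else 0) - (if z = 1 then c else 0) := fun z => by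
    rw [← h1 z]
  calc (∑ z : G, if z ∈ P ∧ z ≠ 1 then ψ z else 0)
      = ∑ z : G, ((if z ∈ P then c else 0) - (if z = 1 then c else 0)) := by
        apply Finset.sum_congr rfl
        intro z _
        convert h2 z
    _ = ((p : ℂ) - 1) * c := by
        rw [Finset.sum_sub_distrib, WT.sum_ite_mem P (fun _ => c), Finset.sum_const,
          Finset.card_univ, ← Nat.card_eq_fintype_card, hcard,
          Finset.sum_ite_eq' Finset.univ (1 : G) (fun _ => c)]
        simp only [Finset.mem_univ, if_true, nsmul_eq_mul]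
        ring

/-- PIECE WT (Frobenius reciprocity). -/
theorem classInner_permP {χ : G → ℂ} (hχ : IsClassFunction G χ) :
    classInner χ (permP P) = Aw P χ := by
  classical
  haveI : Fintype P := Fintype.ofFinite P
  unfold permP
  rw [WT.classInner_indFun_one_right P hχ, WT.Aw_eq_classInner]

/-- PIECE WT. -/
theorem permN_one : permN P 1 = ((𝒩).index : ℂ) := by
  unfold permN
  rw [indFun_one, mul_one]

/-- PIECE WT: an element `z ≠ 1` of `P` fixes exactly one coset of `N`. -/
theorem permN_of_mem (hcard : Nat.card P = p) (hcent : Subgroup.centralizer (P : Set G) ≤ P)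
    {z : G} (hz : z ∈ P) (hz1 : z ≠ 1) : permN P z = 1 := by
  classical
  unfold permN
  rw [WT.indFun_one_apply]
  have hfilt : Finset.univ.filter (fun x : G => x⁻¹ * z * x ∈ 𝒩) =
      Finset.univ.filter (fun x : G => x ∈ 𝒩) := by
    ext x
    simp only [Finset.mem_filter, Finset.mem_univ, true_and]
    constructor
    · intro hx
      by_contra hxN
      exact hz1 (Cfsg.Agent.Helper12.BR996GB.eq_one_of_mem_cj P p hcard hcent hxN hz hx)
    · intro hx
      exact (𝒩).mul_mem ((𝒩).mul_mem ((𝒩).inv_mem hx) (Subgroup.le_normalizer hz)) hx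
  rw [hfilt]
  have hc : (Finset.univ.filter (fun x : G => x ∈ 𝒩)).card = Nat.card 𝒩 := by
    rw [Nat.card_eq_fintype_card, Fintype.card_subtype]
  rw [hc]
  have hN : (Nat.card 𝒩 : ℂ) ≠ 0 := by
    have : Nat.card 𝒩 ≠ 0 := Nat.card_pos.ne'
    exact_mod_cast this
  exact inv_mul_cancel₀ hN

/-- PIECE WT. -/
theorem permP_one : permP P 1 = (P.index : ℂ) := by
  unfold permP
  rw [indFun_one, mul_one]

/-- PIECE WT. -/
theorem permP_of_mem (hcard : Nat.card P = p) (hcent : Subgroup.centralizer (P : Set G) ≤ P)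
    {z : G} (hz : z ∈ P) (hz1 : z ≠ 1) : permP P z = (P.relIndex 𝒩 : ℂ) := by
  classical
  unfold permP
  rw [WT.indFun_one_apply]
  have hfilt : Finset.univ.filter (fun x : G => x⁻¹ * z * x ∈ P) =
      Finset.univ.filter (fun x : G => x ∈ 𝒩) := by
    ext x
    simp only [Finset.mem_filter, Finset.mem_univ, true_and]
    constructor
    · intro hx
      by_contra hxN
      exact hz1 (Cfsg.Agent.Helper12.BR996GB.eq_one_of_mem_cj P p hcard hcent hxN hz
        (Subgroup.le_normalizer hx))
    · intro hx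
      have h1 : x⁻¹ ∈ 𝒩 := (𝒩).inv_mem hx
      have := (Subgroup.mem_normalizer_iff.mp h1 z).mp hz
      rwa [inv_inv] at this
  rw [hfilt]
  have hc : (Finset.univ.filter (fun x : G => x ∈ 𝒩)).card = Nat.card 𝒩 := by
    rw [Nat.card_eq_fintype_card, Fintype.card_subtype]
  rw [hc, hcard, Cfsg.Agent.Helper2.BR996G3.card_normalizer P p hcard]
  have hp0 : (p : ℂ) ≠ 0 := by
    have : p ≠ 0 := (Fact.out : p.Prime).ne_zero
    exact_mod_cast this
  push_cast
  field_simp

/-- PIECE WT. -/
theorem classInner_permN_one : classInner (permN P) (fun _ => (1 : ℂ)) = 1 := by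
  classical
  haveI : Fintype 𝒩 := Fintype.ofFinite _
  unfold permN
  have hcf : IsClassFunction G (fun _ : G => (1 : ℂ)) := fun _ _ => rfl
  rw [frobenius_reciprocity _ _ hcf]
  exact WT.classInner_one_one _

end Cfsg.Agent.Helper10.BR996
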