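import Mathlib
import Cfsg.Prelude.Def_Blocks
import Cfsg.Agent.Lib.Helper24.CharLinear
import Cfsg.Agent.Lib.Helper24.CharComplete
import Cfsg.Agent.Lib.Helper16.ITODefs
import Cfsg.Agent.Lib.Helper12.BR996WT

/-!
# S4707 piece PDVD (helper12)

A character vanishing on `P ∖ 1` (`|P| = p`) has degree divisible by `p`.
-/

set_option autoImplicit false
set_option linter.unusedSectionVars false
set_option linter.unusedVariables false

namespace Cfsg.Agent.Helper16.ITO

open scoped ComplexConjugate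
open Cfsg Cfsg.Agent.Helper24

universe u v

variable {G : Type u} [Group G] [Fintype G]

variable (p : ℕ) [Fact p.Prime] (P : Subgroup G)

/-- PIECE PDVD: a character vanishing on `P ∖ 1` has degree divisible by `p = |P|`. -/
theorem dvd_degree_of_vanish (hcard : Nat.card P = p) {χ : G → ℂ} (hχ : IsCharacter G χ)
    (h : ∀ a ∈ P, a ≠ 1 → χ a = 0) : ∃ m : ℕ, χ 1 = ((p * m : ℕ) : ℂ) := by
  classical
  letI : Fintype (IrrCharacter G) := irrFintype
  obtain ⟨a, ha⟩ := Cfsg.Agent.Helper10.BR996.Aw_nat P hχ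
  have h1 := Cfsg.Agent.Helper10.BR996.Aw_eq p P hcard χ
  have h2 : Cfsg.Agent.Helper10.BR996.dsum P χ = 0 := by
    unfold Cfsg.Agent.Helper10.BR996.dsum
    apply Finset.sum_eq_zero
    intro z _
    split_ifs with hz
    · exact h z hz.1 hz.2
    · rfl
  refine ⟨a, ?_⟩
  rw [h2, add_zero, ha] at h1
  rw [← h1]
  push_cast
  rfl

end Cfsg.Agent.Helper16.ITO
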