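import Mathlib

set_option autoImplicit false

namespace Cfsg.Agent.Helper12

open scoped Pointwise

/-- Normalizers grow in finite `p`-groups, phrased inside an ambient group. -/
theorem exists_mem_normalizer_not_mem {G : Type*} [Group G] [Finite G] {p : ℕ} [Fact p.Prime]
    (P : Subgroup G) (hP : IsPGroup p P) (D : Subgroup G) (hDP : D < P) :
    ∃ g ∈ P, g ∉ D ∧ g ∈ Subgroup.normalizer (D : Set G) := by
  have : Group.IsNilpotent P := hP.isNilpotent
  have hnc : NormalizerCondition P := Group.normalizerCondition_of_isNilpotent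
  have hlt : D.subgroupOf P < ⊤ := by
    rw [lt_top_iff_ne_top, Ne, Subgroup.subgroupOf_eq_top]
    exact not_le_of_gt hDP
  have h1 := hnc (D.subgroupOf P) hlt
  obtain ⟨x, hxN, hxD⟩ := SetLike.exists_of_lt h1
  refine ⟨x.1, x.2, ?_, ?_⟩
  · intro h
    exact hxD (Subgroup.mem_subgroupOf.mpr h)
  · rw [Subgroup.mem_normalizer_iff] at hxN ⊢
    intro h
    constructor
    · intro hh
      have hhP : h ∈ P := hDP.le hh
      have := (hxN ⟨h, hhP⟩).mp (Subgroup.mem_subgroupOf.mpr hh)
      exact Subgroup.mem_subgroupOf.mp this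
    · intro hh
      have hhP : h ∈ P := by
        have h1 : x.1 * h * x.1⁻¹ ∈ P := hDP.le hh
        have h2 := P.mul_mem (P.mul_mem (P.inv_mem x.2) h1) x.2
        simpa [mul_assoc] using h2
      have := (hxN ⟨h, hhP⟩).mpr (Subgroup.mem_subgroupOf.mpr hh)
      exact Subgroup.mem_subgroupOf.mp this

/-- A strict inclusion of subgroups of a finite group gives a strict inequality of orders. -/
theorem card_lt_card_of_lt {G : Type*} [Group G] [Finite G] {H K : Subgroup G} (h : H < K) :
    Nat.card H < Nat.card K := by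
  have h1 : (H : Set G) ⊂ (K : Set G) := h
  have := Set.ncard_lt_ncard h1 (Set.toFinite _)
  rw [← Nat.card_coe_set_eq, ← Nat.card_coe_set_eq] at this
  exact this

/-- A normal `p`-subgroup lies in every Sylow `p`-subgroup. -/
theorem normal_pgroup_le_sylow {G : Type*} [Group G] [Finite G] {p : ℕ} [Fact p.Prime]
    (M : Subgroup G) [M.Normal] (hM : IsPGroup p M) (P : Sylow p G) : M ≤ P := by
  obtain ⟨Q, hQ⟩ := hM.exists_le_sylow
  obtain ⟨g, hg⟩ := MulAction.exists_smul_eq G Q P
  intro m hm
  rw [← hg]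
  change m ∈ MulAut.conj g • (Q : Subgroup G)
  rw [Subgroup.mem_pointwise_smul_iff_inv_smul_mem]
  simp only [MulAut.smul_def, MulAut.conj_inv_apply]
  exact hQ (by
    have := ‹M.Normal›.conj_mem m hm g⁻¹
    simpa using this)

end Cfsg.Agent.Helper12
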