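import Mathlib
import Cfsg.Agent.Lib.Helper24.CharAlgebra

set_option autoImplicit false

namespace Cfsg.Agent.Helper12

open Cfsg Cfsg.Agent.Helper24

open scoped ComplexConjugate

universe u

variable {G : Type u} [Group G] [Fintype G]

/-- a character of norm two is the sum of two distinct irreducible characters -/
theorem exists_two_irr_of_norm_two {χ : G → ℂ} (hχ : IsCharacter G χ)
    (h : classInner χ χ = 2) :
    ∃ χ₁ χ₂ : G → ℂ, IsIrrCharacter G χ₁ ∧ IsIrrCharacter G χ₂ ∧ χ₁ ≠ χ₂ ∧ χ = χ₁ + χ₂ := by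
  classical
  letI : Fintype (IrrCharacter G) := irrFintype
  obtain ⟨h1, h2⟩ := isCharacter_decomp hχ
  choose a ha using h1
  rw [classInner_eq_sum_mul (isClassFunction_of_isCharacter hχ)] at h
  have hsum : ∑ θ : IrrCharacter G, a θ * a θ = 2 := by
    have : ((∑ θ : IrrCharacter G, a θ * a θ : ℕ) : ℂ) = 2 := by
      rw [← h]
      push_cast
      refine Finset.sum_congr rfl fun θ _ => ?_
      rw [ha, Complex.conj_natCast]
    exact_mod_cast this
  obtain ⟨θ₀, -, hθ₀⟩ : ∃ θ ∈ (Finset.univ : Finset (IrrCharacter G)), a θ * a θ ≠ 0 := by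
    apply Finset.exists_ne_zero_of_sum_ne_zero
    rw [hsum]
    norm_num
  have hsplit := Finset.add_sum_erase Finset.univ (fun θ => a θ * a θ) (Finset.mem_univ θ₀)
  rw [hsum] at hsplit
  have ha0 : a θ₀ ≠ 0 := fun h0 => hθ₀ (by rw [h0])
  have ha1 : a θ₀ = 1 := by
    have : a θ₀ * a θ₀ ≤ 2 := by
      calc a θ₀ * a θ₀ ≤ a θ₀ * a θ₀ + ∑ x ∈ Finset.univ.erase θ₀, a x * a x := Nat.le_add_right _ _
        _ = 2 := hsplit
    have h3 : a θ₀ ≤ 1 := by nlinarith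
    omega
  have hrest : ∑ x ∈ Finset.univ.erase θ₀, a x * a x = 1 := by
    rw [ha1] at hsplit
    omega
  obtain ⟨θ₁, hθ₁mem, hθ₁⟩ : ∃ θ ∈ (Finset.univ.erase θ₀ : Finset (IrrCharacter G)),
      a θ * a θ ≠ 0 := by
    apply Finset.exists_ne_zero_of_sum_ne_zero
    rw [hrest]
    norm_num
  have hne : θ₁ ≠ θ₀ := (Finset.mem_erase.1 hθ₁mem).1
  have hsplit2 := Finset.add_sum_erase (Finset.univ.erase θ₀) (fun θ => a θ * a θ) hθ₁mem
  rw [hrest] at hsplit2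
  have hb0 : a θ₁ ≠ 0 := fun h0 => hθ₁ (by rw [h0])
  have hb1 : a θ₁ = 1 := by
    have : a θ₁ * a θ₁ ≤ 1 := by
      calc a θ₁ * a θ₁ ≤ a θ₁ * a θ₁ + ∑ x ∈ (Finset.univ.erase θ₀).erase θ₁, a x * a x :=
            Nat.le_add_right _ _
        _ = 1 := hsplit2
    have h3 : a θ₁ ≤ 1 := by nlinarith
    omega
  have hrest2 : ∑ x ∈ (Finset.univ.erase θ₀).erase θ₁, a x * a x = 0 := by
    rw [hb1] at hsplit2
    omega
  have hzero : ∀ θ : IrrCharacter G, θ ≠ θ₀ → θ ≠ θ₁ → a θ = 0 := by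
    intro θ hθ hθ'
    have := (Finset.sum_eq_zero_iff.mp hrest2) θ
      (Finset.mem_erase.mpr ⟨hθ', Finset.mem_erase.mpr ⟨hθ, Finset.mem_univ _⟩⟩)
    exact (mul_self_eq_zero).mp this
  refine ⟨θ₀, θ₁, θ₀.2, θ₁.2, fun hcon => hne (Subtype.ext hcon.symm), ?_⟩
  rw [h2, ← Finset.add_sum_erase Finset.univ _ (Finset.mem_univ θ₀),
    ← Finset.add_sum_erase (Finset.univ.erase θ₀) _ hθ₁mem, Finset.sum_eq_zero, add_zero, ha, ha,
    ha1, hb1]
  · simp
  · intro θ hθ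
    rw [Finset.mem_erase, Finset.mem_erase] at hθ
    rw [ha, hzero θ hθ.2.1 hθ.1]
    simp

end Cfsg.Agent.Helper12
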