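import Mathlib

set_option autoImplicit false

namespace Cfsg.Agent.Helper12

/-- Counting conjugacy classes by a complete invariant. -/
theorem card_conjClasses_of_invariant {G : Type*} {T : Type*} [Monoid G] (ι : G → T)
    (h1 : ∀ a b : G, IsConj a b → ι a = ι b) (h2 : ∀ a b : G, ι a = ι b → IsConj a b)
    (h3 : Function.Surjective ι) : Nat.card (ConjClasses G) = Nat.card T := by
  let f : ConjClasses G → T := Quotient.lift ι (fun a b hab => h1 a b hab)
  have hf : ∀ a : G, f (ConjClasses.mk a) = ι a := fun a => rfl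
  apply Nat.card_congr
  refine Equiv.ofBijective f ⟨?_, ?_⟩
  · intro x y hxy
    obtain ⟨a, rfl⟩ := ConjClasses.mk_surjective x
    obtain ⟨b, rfl⟩ := ConjClasses.mk_surjective y
    rw [hf, hf] at hxy
    exact ConjClasses.mk_eq_mk_iff_isConj.mpr (h2 a b hxy)
  · intro t
    obtain ⟨a, rfl⟩ := h3 t
    exact ⟨ConjClasses.mk a, hf a⟩

end Cfsg.Agent.Helper12
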