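import Mathlib

set_option autoImplicit false

namespace Cfsg.Agent.Helper12

open Matrix

variable {F : Type*} [Field F]

/-- A `2 × 2` matrix is scalar. -/
def IsScalar2 (M : Matrix (Fin 2) (Fin 2) F) : Prop :=
  M 0 1 = 0 ∧ M 1 0 = 0 ∧ M 0 0 = M 1 1

/-- The companion matrix with trace `t` and determinant `δ`. -/
def companion2 (t δ : F) : Matrix (Fin 2) (Fin 2) F := !![0, -δ; 1, t]

/-- The matrix with columns `v` and `w`. -/
def colMat2 (v w : Fin 2 → F) : Matrix (Fin 2) (Fin 2) F := !![v 0, w 0; v 1, w 1]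

theorem isScalar2_iff (M : Matrix (Fin 2) (Fin 2) F) :
    IsScalar2 M ↔ M = (M 0 0) • (1 : Matrix (Fin 2) (Fin 2) F) := by
  constructor
  · rintro ⟨h1, h2, h3⟩
    ext i j
    fin_cases i <;> fin_cases j <;> simp [h1, h2, h3]
  · intro h
    refine ⟨?_, ?_, ?_⟩
    · have := congrFun (congrFun h 0) 1; simpa using this
    · have := congrFun (congrFun h 1) 0; simpa using this
    · have := congrFun (congrFun h 1) 1; simpa using this.symm

theorem isScalar2_smul_one (a : F) : IsScalar2 (a • (1 : Matrix (Fin 2) (Fin 2) F)) := by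
  refine ⟨?_, ?_, ?_⟩ <;> simp

theorem companion2_not_scalar (t δ : F) : ¬ IsScalar2 (companion2 t δ) := by
  rintro ⟨_, h2, _⟩
  simp [companion2] at h2

theorem det_companion2 (t δ : F) : (companion2 t δ).det = δ := by
  simp [companion2, Matrix.det_fin_two]

theorem trace_companion2 (t δ : F) : (companion2 t δ).trace = t := by
  simp [companion2, Matrix.trace_fin_two]

/-- Cayley–Hamilton in the form needed: `M * [v | M v] = [v | M v] * companion`. -/
theorem mul_colMat2 (M : Matrix (Fin 2) (Fin 2) F) (v : Fin 2 → F) :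
    M * colMat2 v (M *ᵥ v) = colMat2 v (M *ᵥ v) * companion2 M.trace M.det := by
  ext i j
  fin_cases i <;> fin_cases j <;>
    simp [colMat2, companion2, Matrix.mul_apply, Fin.sum_univ_two, Matrix.mulVec, dotProduct,
      Matrix.trace_fin_two, Matrix.det_fin_two] <;> ring

/-- The quadratic form `v ↦ det [v | M v]`. -/
theorem det_colMat2 (M : Matrix (Fin 2) (Fin 2) F) (v : Fin 2 → F) :
    (colMat2 v (M *ᵥ v)).det = M 1 0 * v 0 ^ 2 + (M 1 1 - M 0 0) * v 0 * v 1 - M 0 1 * v 1 ^ 2 := by
  simp [colMat2, Matrix.det_fin_two, Matrix.mulVec, dotProduct, Fin.sum_univ_two]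
  ring

/-- A non-scalar matrix has a cyclic vector. -/
theorem exists_cyclic_vector (M : Matrix (Fin 2) (Fin 2) F) (hM : ¬ IsScalar2 M) :
    ∃ v : Fin 2 → F, (colMat2 v (M *ᵥ v)).det ≠ 0 := by
  by_cases h10 : M 1 0 = 0
  · by_cases h01 : M 0 1 = 0
    · have hne : M 0 0 ≠ M 1 1 := fun h => hM ⟨h01, h10, h⟩
      refine ⟨![1, 1], ?_⟩
      rw [det_colMat2]
      simp [h10, h01]
      exact sub_ne_zero.mpr (Ne.symm hne)
    · refine ⟨![0, 1], ?_⟩
      rw [det_colMat2]
      simpa using h01
  · refine ⟨![1, 0], ?_⟩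
    rw [det_colMat2]
    simpa using h10

/-- A non-scalar element of `GL₂` is conjugate to its companion matrix. -/
theorem GL2_conj_companion (g : GL (Fin 2) F) (hg : ¬ IsScalar2 (g : Matrix (Fin 2) (Fin 2) F)) :
    ∃ P : GL (Fin 2) F, ((P⁻¹ * g * P : GL (Fin 2) F) : Matrix (Fin 2) (Fin 2) F) =
      companion2 (g : Matrix (Fin 2) (Fin 2) F).trace (g : Matrix (Fin 2) (Fin 2) F).det := by
  obtain ⟨v, hv⟩ := exists_cyclic_vector (g : Matrix (Fin 2) (Fin 2) F) hg
  refine ⟨Matrix.GeneralLinearGroup.mkOfDetNeZero _ hv, ?_⟩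
  set P := Matrix.GeneralLinearGroup.mkOfDetNeZero _ hv with hP
  have hPc : (P : Matrix (Fin 2) (Fin 2) F) = colMat2 v ((g : Matrix (Fin 2) (Fin 2) F) *ᵥ v) := rfl
  have h1 := mul_colMat2 (g : Matrix (Fin 2) (Fin 2) F) v
  rw [← hPc] at h1
  rw [Units.val_mul, Units.val_mul, mul_assoc, h1, ← mul_assoc, ← Units.val_mul, inv_mul_cancel,
    Units.val_one, one_mul]

/-- Two non-scalar elements of `GL₂` with the same trace and determinant are conjugate. -/
theorem GL2_isConj_of_not_scalar (g h : GL (Fin 2) F)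
    (hg : ¬ IsScalar2 (g : Matrix (Fin 2) (Fin 2) F))
    (hh : ¬ IsScalar2 (h : Matrix (Fin 2) (Fin 2) F))
    (htr : (g : Matrix (Fin 2) (Fin 2) F).trace = (h : Matrix (Fin 2) (Fin 2) F).trace)
    (hdet : (g : Matrix (Fin 2) (Fin 2) F).det = (h : Matrix (Fin 2) (Fin 2) F).det) :
    IsConj g h := by
  obtain ⟨P, hP⟩ := GL2_conj_companion g hg
  obtain ⟨Q, hQ⟩ := GL2_conj_companion h hh
  rw [htr, hdet, ← hQ] at hP
  have hPQ : P⁻¹ * g * P = Q⁻¹ * h * Q := Units.ext hP
  rw [isConj_iff]
  refine ⟨Q * P⁻¹, ?_⟩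
  have : h = Q * (Q⁻¹ * h * Q) * Q⁻¹ := by group
  rw [this, ← hPQ]
  group

/-- Cayley–Hamilton for `2 × 2` matrices. -/
theorem sq_eq2 (N : Matrix (Fin 2) (Fin 2) F) :
    N * N = N.trace • N - N.det • (1 : Matrix (Fin 2) (Fin 2) F) := by
  ext i j
  fin_cases i <;> fin_cases j <;>
    simp [Matrix.mul_apply, Fin.sum_univ_two, Matrix.trace_fin_two, Matrix.det_fin_two] <;> ring

theorem det_one_add2 (N : Matrix (Fin 2) (Fin 2) F) : (1 + N).det = 1 + N.trace + N.det := by
  simp [Matrix.det_fin_two, Matrix.trace_fin_two]; ring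

theorem trace_one_add2 (N : Matrix (Fin 2) (Fin 2) F) : (1 + N).trace = 2 + N.trace := by
  simp [Matrix.trace_fin_two]

/-- A nilpotent `2 × 2` matrix over a field has zero trace and determinant. -/
theorem nilpotent2_data (N : Matrix (Fin 2) (Fin 2) F) (k : ℕ) (hN : N ^ k = 0) :
    N.trace = 0 ∧ N.det = 0 := by
  have hk : k ≠ 0 := by
    rintro rfl
    rw [pow_zero] at hN
    exact one_ne_zero hN
  have hdet : N.det = 0 := by
    have := congrArg Matrix.det hN
    rw [Matrix.det_pow, Matrix.det_zero] at this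
    exact eq_zero_of_pow_eq_zero this
  refine ⟨?_, hdet⟩
  by_contra htr
  have hsq : N * N = N.trace • N := by rw [sq_eq2, hdet, zero_smul, sub_zero]
  have hpow : ∀ j : ℕ, N ^ (j + 1) = N.trace ^ j • N := by
    intro j
    induction j with
    | zero => simp
    | succ j ih =>
      rw [pow_succ, ih, Matrix.smul_mul, hsq, smul_smul, pow_succ]
  obtain ⟨j, rfl⟩ := Nat.exists_eq_succ_of_ne_zero hk
  rw [Nat.succ_eq_add_one, hpow] at hN
  have hN0 : N = 0 := by
    rcases smul_eq_zero.mp hN with h | h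
    · exact absurd (eq_zero_of_pow_eq_zero h) htr
    · exact h
  rw [hN0] at htr
  simp at htr

/-- In characteristic `p`, a `2 × 2` matrix `M ≠ 1` with `M ^ p = 1` is non-scalar of trace 2
and determinant 1. -/
theorem unipotent2_data (M : Matrix (Fin 2) (Fin 2) F) (p : ℕ) [Fact p.Prime] [CharP F p]
    (hM : M ^ p = 1) (hM1 : M ≠ 1) : ¬ IsScalar2 M ∧ M.trace = 2 ∧ M.det = 1 := by
  have hNp : (M - 1) ^ p = 0 := by
    rw [sub_pow_char_of_commute p (Commute.one_right M), hM, one_pow, sub_self]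
  obtain ⟨htr, hdet⟩ := nilpotent2_data (M - 1) p hNp
  have hM' : M = 1 + (M - 1) := by abel
  have h1 : M.trace = 2 := by
    rw [hM', trace_one_add2, htr, add_zero]
  have h2 : M.det = 1 := by
    rw [hM', det_one_add2, htr, hdet, add_zero, add_zero]
  refine ⟨?_, h1, h2⟩
  intro hs
  apply hM1
  rw [isScalar2_iff] at hs
  -- `M = a • 1` with `(a - 1)^2 = det (M - 1) = 0`
  set a := M 0 0 with ha
  have hdet' : (M - 1).det = (a - 1) ^ 2 := by
    rw [hs]
    simp [Matrix.det_fin_two]
    ring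
  rw [hdet] at hdet'
  have ha1 : a = 1 := by
    have := eq_zero_of_pow_eq_zero hdet'.symm
    exact sub_eq_zero.mp this
  rw [hs, ha1, one_smul]

/-- The centralizer of a non-scalar `2 × 2` matrix consists of the polynomials in it. -/
theorem commute_iff_exists_smul (M X : Matrix (Fin 2) (Fin 2) F) (hM : ¬ IsScalar2 M) :
    X * M = M * X ↔ ∃ x y : F, X = x • (1 : Matrix (Fin 2) (Fin 2) F) + y • M := by
  constructor
  · intro h
    have e00 := congrFun (congrFun h 0) 0
    have e01 := congrFun (congrFun h 0) 1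
    have e10 := congrFun (congrFun h 1) 0
    have e11 := congrFun (congrFun h 1) 1
    simp only [Matrix.mul_apply, Fin.sum_univ_two] at e00 e01 e10 e11
    by_cases hb : M 0 1 = 0
    · by_cases hc : M 1 0 = 0
      · have had : M 0 0 - M 1 1 ≠ 0 := fun hh => hM ⟨hb, hc, sub_eq_zero.mp hh⟩
        rw [hb] at e01
        rw [hc] at e10
        have hx01 : X 0 1 = 0 := by
          have : X 0 1 * (M 0 0 - M 1 1) = 0 := by linear_combination -e01
          rcases mul_eq_zero.mp this with h1 | h1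
          · exact h1
          · exact absurd h1 had
        have hx10 : X 1 0 = 0 := by
          have : X 1 0 * (M 0 0 - M 1 1) = 0 := by linear_combination e10
          rcases mul_eq_zero.mp this with h1 | h1
          · exact h1
          · exact absurd h1 had
        refine ⟨X 0 0 - (X 0 0 - X 1 1) / (M 0 0 - M 1 1) * M 0 0, (X 0 0 - X 1 1) / (M 0 0 - M 1 1), ?_⟩
        ext i j
        fin_cases i <;> fin_cases j <;> simp [hb, hc, hx01, hx10]
        field_simp
        ring
      · refine ⟨X 0 0 - X 1 0 / M 1 0 * M 0 0, X 1 0 / M 1 0, ?_⟩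
        ext i j
        fin_cases i <;> fin_cases j <;> simp
        · field_simp
          linear_combination e00
        · field_simp
        · field_simp
          linear_combination e10
    · refine ⟨X 0 0 - X 0 1 / M 0 1 * M 0 0, X 0 1 / M 0 1, ?_⟩
      ext i j
      fin_cases i <;> fin_cases j <;> simp
      · field_simp
      · field_simp
        first | linear_combination e00 | linear_combination -e00
      · field_simp
        first | linear_combination e01 | linear_combination -e01
  · rintro ⟨x, y, rfl⟩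
    simp [add_mul, mul_add]

end Cfsg.Agent.Helper12
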