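import Mathlib
import Cfsg.Agent.Lib.Helper12.TwoByTwo
import Cfsg.Agent.Lib.Helper12.ConjCount

set_option autoImplicit false

namespace Cfsg.Agent.Helper12

variable {F : Type*} [Field F]

theorem GL2_trace_conj (P a : GL (Fin 2) F) :
    ((P * a * P⁻¹ : GL (Fin 2) F) : Matrix (Fin 2) (Fin 2) F).trace =
      (a : Matrix (Fin 2) (Fin 2) F).trace := by
  rw [Units.val_mul, Units.val_mul, Matrix.trace_mul_comm, ← mul_assoc, ← Units.val_mul,
    inv_mul_cancel, Units.val_one, one_mul]

theorem GL2_det_conj (P a : GL (Fin 2) F) :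
    ((P * a * P⁻¹ : GL (Fin 2) F) : Matrix (Fin 2) (Fin 2) F).det =
      (a : Matrix (Fin 2) (Fin 2) F).det := by
  have h1 : Matrix.GeneralLinearGroup.det (P * a * P⁻¹) = Matrix.GeneralLinearGroup.det a := by
    rw [map_mul, map_mul, map_inv, mul_comm, ← mul_assoc, inv_mul_cancel, one_mul]
  have h2 := congrArg (fun u : Fˣ => (u : F)) h1
  simpa only [Matrix.GeneralLinearGroup.val_det_apply] using h2

theorem GL2_scalar_conj (P a : GL (Fin 2) F) (ha : IsScalar2 (a : Matrix (Fin 2) (Fin 2) F)) :
    P * a * P⁻¹ = a := by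
  rw [mul_inv_eq_iff_eq_mul]
  apply Units.ext
  rw [Units.val_mul, Units.val_mul, (isScalar2_iff _).1 ha]
  simp

theorem GL2_entry00_ne_of_scalar (a : GL (Fin 2) F) (ha : IsScalar2 (a : Matrix (Fin 2) (Fin 2) F)) :
    (a : Matrix (Fin 2) (Fin 2) F) 0 0 ≠ 0 := by
  intro h
  have hd : (a : Matrix (Fin 2) (Fin 2) F).det ≠ 0 := by
    have := (Matrix.GeneralLinearGroup.det a).ne_zero
    simpa using this
  apply hd
  rw [Matrix.det_fin_two, ha.1, h]
  ring

theorem GL2_det_ne_zero' (a : GL (Fin 2) F) : (a : Matrix (Fin 2) (Fin 2) F).det ≠ 0 := by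
  have := (Matrix.GeneralLinearGroup.det a).ne_zero
  simpa using this

open Classical in
/-- the complete conjugacy invariant of `GL₂` -/
noncomputable def GL2inv (a : GL (Fin 2) F) : Fˣ ⊕ (F × Fˣ) :=
  if h : IsScalar2 (a : Matrix (Fin 2) (Fin 2) F) then
    Sum.inl (Units.mk0 _ (GL2_entry00_ne_of_scalar a h))
  else Sum.inr ((a : Matrix (Fin 2) (Fin 2) F).trace, Units.mk0 _ (GL2_det_ne_zero' a))

/-- the number of conjugacy classes of `GL₂(q)` is `q² - 1` -/
theorem card_conjClasses_GL2 [Fintype F] :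
    Nat.card (ConjClasses (GL (Fin 2) F)) = Fintype.card F ^ 2 - 1 := by
  classical
  rw [card_conjClasses_of_invariant (GL2inv (F := F))]
  · rw [Nat.card_eq_fintype_card, Fintype.card_sum, Fintype.card_prod, Fintype.card_units]
    have : 1 ≤ Fintype.card F := Fintype.card_pos
    obtain ⟨k, hk⟩ := Nat.exists_eq_add_of_le this
    rw [hk]
    have : (1 + k) ^ 2 - 1 = k + (1 + k) * k := by
      have : (1 + k) ^ 2 = k + (1 + k) * k + 1 := by ring
      rw [this]; rfl
    rw [this]
    simp
  · intro a b hab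
    obtain ⟨P, rfl⟩ := isConj_iff.1 hab
    unfold GL2inv
    by_cases ha : IsScalar2 (a : Matrix (Fin 2) (Fin 2) F)
    · have := GL2_scalar_conj P a ha
      simp only [this]
    · have hb : ¬ IsScalar2 ((P * a * P⁻¹ : GL (Fin 2) F) : Matrix (Fin 2) (Fin 2) F) := by
        intro hb
        apply ha
        have h1 := GL2_scalar_conj P⁻¹ (P * a * P⁻¹) hb
        have h2 : P⁻¹ * (P * a * P⁻¹) * P⁻¹⁻¹ = a := by group
        rw [h2] at h1
        rw [h1]
        exact hb
      rw [dif_neg ha, dif_neg hb]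
      congr 1
      apply Prod.ext
      · exact (GL2_trace_conj P a).symm
      · apply Units.ext
        exact (GL2_det_conj P a).symm
  · intro a b hab
    unfold GL2inv at hab
    by_cases ha : IsScalar2 (a : Matrix (Fin 2) (Fin 2) F)
    · by_cases hb : IsScalar2 (b : Matrix (Fin 2) (Fin 2) F)
      · rw [dif_pos ha, dif_pos hb] at hab
        have h1 := Sum.inl.inj hab
        have h2 : (a : Matrix (Fin 2) (Fin 2) F) 0 0 = (b : Matrix (Fin 2) (Fin 2) F) 0 0 := by
          have := congrArg (fun u : Fˣ => (u : F)) h1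
          simpa using this
        have : a = b := by
          apply Units.ext
          rw [(isScalar2_iff _).1 ha, (isScalar2_iff _).1 hb, h2]
        rw [this]
      · rw [dif_pos ha, dif_neg hb] at hab
        exact absurd hab (by simp)
    · by_cases hb : IsScalar2 (b : Matrix (Fin 2) (Fin 2) F)
      · rw [dif_neg ha, dif_pos hb] at hab
        exact absurd hab (by simp)
      · rw [dif_neg ha, dif_neg hb] at hab
        have h1 := Sum.inr.inj hab
        have h2 := (Prod.ext_iff.1 h1).1
        have h3 := congrArg (fun u : Fˣ => (u : F)) (Prod.ext_iff.1 h1).2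
        simp only [Units.val_mk0] at h2 h3
        exact GL2_isConj_of_not_scalar a b ha hb h2 h3
  · rintro (c | ⟨t, δ⟩)
    · have hdet : ((c : F) • (1 : Matrix (Fin 2) (Fin 2) F)).det ≠ 0 := by
        rw [Matrix.det_smul, Matrix.det_one, mul_one]
        exact pow_ne_zero _ c.ne_zero
      refine ⟨Matrix.GeneralLinearGroup.mkOfDetNeZero _ hdet, ?_⟩
      unfold GL2inv
      have hs : IsScalar2 ((Matrix.GeneralLinearGroup.mkOfDetNeZero _ hdet : GL (Fin 2) F) :
          Matrix (Fin 2) (Fin 2) F) := isScalar2_smul_one (c : F)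
      rw [dif_pos hs]
      congr 1
      apply Units.ext
      simp [Matrix.GeneralLinearGroup.mkOfDetNeZero]
    · have hdet : (companion2 t (δ : F)).det ≠ 0 := by
        rw [det_companion2]; exact δ.ne_zero
      refine ⟨Matrix.GeneralLinearGroup.mkOfDetNeZero _ hdet, ?_⟩
      unfold GL2inv
      have hs : ¬ IsScalar2 ((Matrix.GeneralLinearGroup.mkOfDetNeZero _ hdet : GL (Fin 2) F) :
          Matrix (Fin 2) (Fin 2) F) := companion2_not_scalar t (δ : F)
      rw [dif_neg hs]
      congr 1
      apply Prod.ext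
      · exact trace_companion2 t (δ : F)
      · apply Units.ext
        exact det_companion2 t (δ : F)

end Cfsg.Agent.Helper12
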