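import Mathlib
import Cfsg.Prelude.Def_Characters
import Cfsg.Agent.Lib.Helper24.CharInduced

set_option autoImplicit false

namespace Cfsg.Agent.Helper12

open Cfsg Cfsg.Agent.Helper24

variable {G : Type*} [Group G]

/-- the extension by zero of a class function of `H` is invariant under conjugation by `H` -/
theorem extendByZero_conj_mem (H : Subgroup G) (θ : H → ℂ)
    (hθ : ∀ h k : H, θ (k * h * k⁻¹) = θ h) (y k : G) (hk : k ∈ H) :
    extendByZero H θ (k⁻¹ * y * k) = extendByZero H θ y := by
  by_cases hy : y ∈ H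
  · have hy' : k⁻¹ * y * k ∈ H := H.mul_mem (H.mul_mem (H.inv_mem hk) hy) hk
    rw [extendByZero_of_mem H θ hy', extendByZero_of_mem H θ hy]
    have := hθ ⟨y, hy⟩ ⟨k⁻¹, H.inv_mem hk⟩
    rw [← this]
    congr 1
    apply Subtype.ext
    simp
  · have hy' : k⁻¹ * y * k ∉ H := by
      intro h
      apply hy
      have : y = k * (k⁻¹ * y * k) * k⁻¹ := by group
      rw [this]
      exact H.mul_mem (H.mul_mem hk h) (H.inv_mem hk)
    rw [extendByZero_of_not_mem H θ hy', extendByZero_of_not_mem H θ hy]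

/-- the induced function of a class function, computed along a left transversal -/
theorem indFun_eq_sum_transversal [Fintype G] (H : Subgroup G) (θ : H → ℂ)
    (hθ : ∀ h k : H, θ (k * h * k⁻¹) = θ h)
    {ι : Type*} [Fintype ι] (r : ι → G)
    (hr : Function.Bijective (fun p : ι × H => r p.1 * (p.2 : G))) (g : G) :
    indFun H θ g = ∑ i, extendByZero H θ ((r i)⁻¹ * g * r i) := by
  classical
  haveI : Fintype H := Fintype.ofFinite H
  rw [indFun_apply]
  have h1 : ∑ x : G, extendByZero H θ (x⁻¹ * g * x) =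
      ∑ p : ι × H, extendByZero H θ ((r p.1 * (p.2 : G))⁻¹ * g * (r p.1 * (p.2 : G))) :=
    (Equiv.sum_comp (Equiv.ofBijective _ hr) (fun x => extendByZero H θ (x⁻¹ * g * x))).symm
  rw [h1, Fintype.sum_prod_type]
  have h2 : ∀ i : ι, ∑ h : H, extendByZero H θ ((r i * (h : G))⁻¹ * g * (r i * (h : G))) =
      (Nat.card H : ℂ) * extendByZero H θ ((r i)⁻¹ * g * r i) := by
    intro i
    have : ∀ h : H, extendByZero H θ ((r i * (h : G))⁻¹ * g * (r i * (h : G))) =
        extendByZero H θ ((r i)⁻¹ * g * r i) := by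
      intro h
      have e : (r i * (h : G))⁻¹ * g * (r i * (h : G)) = (h : G)⁻¹ * ((r i)⁻¹ * g * r i) * (h : G) := by
        group
      rw [e]
      exact extendByZero_conj_mem H θ hθ _ _ h.2
    rw [Finset.sum_congr rfl (fun h _ => this h), Finset.sum_const, Finset.card_univ,
      nsmul_eq_mul, Nat.card_eq_fintype_card]
  rw [Finset.sum_congr rfl (fun i _ => h2 i), ← Finset.mul_sum, ← mul_assoc]
  have hH : (Nat.card H : ℂ) ≠ 0 := by
    have : 0 < Nat.card H := Nat.card_pos
    exact_mod_cast this.ne'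
  rw [inv_mul_cancel₀ hH, one_mul]

end Cfsg.Agent.Helper12
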