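import Mathlib
import Cfsg.Agent.Lib.Helper12.TwoByTwo

set_option autoImplicit false

namespace Cfsg.Agent.Helper12

open Matrix

variable {F : Type*} [Field F]

/-- the binary quadratic form `v ↦ det (v | M v)` -/
def qf2 (M : Matrix (Fin 2) (Fin 2) F) (v : Fin 2 → F) : F := (colMat2 v (M *ᵥ v)).det

theorem qf2_eq (M : Matrix (Fin 2) (Fin 2) F) (v : Fin 2 → F) :
    qf2 M v = M 1 0 * v 0 ^ 2 + (M 1 1 - M 0 0) * v 0 * v 1 - M 0 1 * v 1 ^ 2 :=
  det_colMat2 M v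

theorem qf2_smul (M : Matrix (Fin 2) (Fin 2) F) (s : F) (v : Fin 2 → F) :
    qf2 M (s • v) = s ^ 2 * qf2 M v := by
  rw [qf2_eq, qf2_eq]
  simp only [Pi.smul_apply, smul_eq_mul]
  ring

theorem mul_colMat2' (P : Matrix (Fin 2) (Fin 2) F) (v w : Fin 2 → F) :
    colMat2 (P *ᵥ v) (P *ᵥ w) = P * colMat2 v w := by
  ext i j
  fin_cases i <;> fin_cases j <;>
    simp [colMat2, Matrix.mul_apply, Fin.sum_univ_two, Matrix.mulVec, dotProduct]

theorem qf2_conj (P M : Matrix (Fin 2) (Fin 2) F) (hP : P.det = 1) (v : Fin 2 → F) :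
    qf2 (P * M * P⁻¹) (P *ᵥ v) = qf2 M v := by
  unfold qf2
  have hPu : IsUnit P.det := by rw [hP]; exact isUnit_one
  have h1 : (P * M * P⁻¹) *ᵥ (P *ᵥ v) = P *ᵥ (M *ᵥ v) := by
    rw [Matrix.mulVec_mulVec, Matrix.mul_assoc, Matrix.nonsing_inv_mul _ hPu, Matrix.mul_one,
      ← Matrix.mulVec_mulVec]
  rw [h1, mul_colMat2', Matrix.det_mul, hP, one_mul]

/-- the form of `g` takes the value one -/
def Rep1 (g : Matrix.SpecialLinearGroup (Fin 2) F) : Prop :=
  ∃ v : Fin 2 → F, qf2 (g : Matrix (Fin 2) (Fin 2) F) v = 1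

theorem coe_conj_SL2 (g P : Matrix.SpecialLinearGroup (Fin 2) F) :
    ((P * g * P⁻¹ : Matrix.SpecialLinearGroup (Fin 2) F) : Matrix (Fin 2) (Fin 2) F) =
      (P : Matrix (Fin 2) (Fin 2) F) * (g : Matrix (Fin 2) (Fin 2) F) *
        (P : Matrix (Fin 2) (Fin 2) F)⁻¹ := by
  have hinv : (P : Matrix (Fin 2) (Fin 2) F)⁻¹ = ((P⁻¹ : Matrix.SpecialLinearGroup (Fin 2) F) :
      Matrix (Fin 2) (Fin 2) F) := by
    apply Matrix.inv_eq_right_inv
    rw [← Matrix.SpecialLinearGroup.coe_mul, mul_inv_cancel, Matrix.SpecialLinearGroup.coe_one]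
  rw [hinv, Matrix.SpecialLinearGroup.coe_mul, Matrix.SpecialLinearGroup.coe_mul]

theorem rep1_of_conj (g P : Matrix.SpecialLinearGroup (Fin 2) F) (h : Rep1 g) :
    Rep1 (P * g * P⁻¹) := by
  obtain ⟨v, hv⟩ := h
  refine ⟨(P : Matrix (Fin 2) (Fin 2) F) *ᵥ v, ?_⟩
  rw [coe_conj_SL2, qf2_conj _ _ P.2, hv]

theorem rep1_iff_of_isConj (g h : Matrix.SpecialLinearGroup (Fin 2) F) (hc : IsConj g h) :
    Rep1 g ↔ Rep1 h := by
  obtain ⟨P, rfl⟩ := isConj_iff.1 hc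
  constructor
  · intro hg
    exact rep1_of_conj g P hg
  · intro hh
    have : g = P⁻¹ * (P * g * P⁻¹) * P⁻¹⁻¹ := by group
    rw [this]
    exact rep1_of_conj _ P⁻¹ hh

theorem trace_eq_of_isConj (g h : Matrix.SpecialLinearGroup (Fin 2) F) (hc : IsConj g h) :
    (g : Matrix (Fin 2) (Fin 2) F).trace = (h : Matrix (Fin 2) (Fin 2) F).trace := by
  obtain ⟨P, rfl⟩ := isConj_iff.1 hc
  rw [coe_conj_SL2, Matrix.trace_mul_comm, ← Matrix.mul_assoc,
    Matrix.nonsing_inv_mul _ (by rw [P.2]; exact isUnit_one), Matrix.one_mul]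

/-- two elements of `SL₂` with equal traces whose forms share a non-zero value are conjugate -/
theorem isConj_of_qf2_eq (g h : Matrix.SpecialLinearGroup (Fin 2) F)
    (htr : (g : Matrix (Fin 2) (Fin 2) F).trace = (h : Matrix (Fin 2) (Fin 2) F).trace)
    (v w : Fin 2 → F)
    (hvw : qf2 (g : Matrix (Fin 2) (Fin 2) F) v = qf2 (h : Matrix (Fin 2) (Fin 2) F) w)
    (hne : qf2 (g : Matrix (Fin 2) (Fin 2) F) v ≠ 0) : IsConj g h := by
  set Pg := colMat2 v ((g : Matrix (Fin 2) (Fin 2) F) *ᵥ v) with hPg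
  set Ph := colMat2 w ((h : Matrix (Fin 2) (Fin 2) F) *ᵥ w) with hPh
  have hdg : Pg.det ≠ 0 := hne
  have hdh : Ph.det = Pg.det := hvw.symm
  have hug : IsUnit Pg.det := isUnit_iff_ne_zero.2 hdg
  have huh : IsUnit Ph.det := by rw [hdh]; exact hug
  have h1 : (g : Matrix (Fin 2) (Fin 2) F) * Pg =
      Pg * companion2 (g : Matrix (Fin 2) (Fin 2) F).trace 1 := by
    have := mul_colMat2 (g : Matrix (Fin 2) (Fin 2) F) v
    rwa [g.2] at this
  have h2 : (h : Matrix (Fin 2) (Fin 2) F) * Ph =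
      Ph * companion2 (g : Matrix (Fin 2) (Fin 2) F).trace 1 := by
    have := mul_colMat2 (h : Matrix (Fin 2) (Fin 2) F) w
    rwa [h.2, ← htr] at this
  -- R = Ph * Pg⁻¹ conjugates g to h
  have hdet : (Ph * Pg⁻¹).det = 1 := by
    rw [Matrix.det_mul, Matrix.det_nonsing_inv, hdh, Ring.inverse_eq_inv']
    exact mul_inv_cancel₀ hdg
  let R : Matrix.SpecialLinearGroup (Fin 2) F := ⟨Ph * Pg⁻¹, hdet⟩
  have h3 : Pg⁻¹ * (g : Matrix (Fin 2) (Fin 2) F) =
      companion2 (g : Matrix (Fin 2) (Fin 2) F).trace 1 * Pg⁻¹ := by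
    calc Pg⁻¹ * (g : Matrix (Fin 2) (Fin 2) F)
        = Pg⁻¹ * (g : Matrix (Fin 2) (Fin 2) F) * (Pg * Pg⁻¹) := by
          rw [Matrix.mul_nonsing_inv _ hug, Matrix.mul_one]
      _ = Pg⁻¹ * ((g : Matrix (Fin 2) (Fin 2) F) * Pg) * Pg⁻¹ := by
          simp only [Matrix.mul_assoc]
      _ = Pg⁻¹ * (Pg * companion2 (g : Matrix (Fin 2) (Fin 2) F).trace 1) * Pg⁻¹ := by rw [h1]
      _ = (Pg⁻¹ * Pg) * companion2 (g : Matrix (Fin 2) (Fin 2) F).trace 1 * Pg⁻¹ := by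
          simp only [Matrix.mul_assoc]
      _ = companion2 (g : Matrix (Fin 2) (Fin 2) F).trace 1 * Pg⁻¹ := by
          rw [Matrix.nonsing_inv_mul _ hug, Matrix.one_mul]
  have hRg : R * g = h * R := by
    apply Subtype.ext
    simp only [Matrix.SpecialLinearGroup.coe_mul]
    change Ph * Pg⁻¹ * (g : Matrix (Fin 2) (Fin 2) F) = (h : Matrix (Fin 2) (Fin 2) F) * (Ph * Pg⁻¹)
    rw [Matrix.mul_assoc, h3, ← Matrix.mul_assoc, ← h2, Matrix.mul_assoc]
  rw [isConj_iff]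
  exact ⟨R, by rw [hRg, mul_inv_cancel_right]⟩

theorem mem_center_of_isScalar2 (g : Matrix.SpecialLinearGroup (Fin 2) F)
    (h : IsScalar2 (g : Matrix (Fin 2) (Fin 2) F)) :
    g ∈ Subgroup.center (Matrix.SpecialLinearGroup (Fin 2) F) := by
  rw [Matrix.SpecialLinearGroup.mem_center_iff]
  obtain ⟨h01, h10, h00⟩ := h
  refine ⟨(g : Matrix (Fin 2) (Fin 2) F) 0 0, ?_, ?_⟩
  · have hd := g.2
    rw [Matrix.det_fin_two, h01, h10, ← h00] at hd
    simp only [Fintype.card_fin]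
    rw [pow_two]
    simpa using hd
  · ext i j
    fin_cases i <;> fin_cases j <;> simp [Matrix.scalar, h01, h10, ← h00]

theorem eq_of_isConj_of_isScalar2 (g h : Matrix.SpecialLinearGroup (Fin 2) F)
    (hs : IsScalar2 (g : Matrix (Fin 2) (Fin 2) F)) (hc : IsConj g h) : h = g := by
  obtain ⟨P, rfl⟩ := isConj_iff.1 hc
  have := Subgroup.mem_center_iff.1 (mem_center_of_isScalar2 g hs) P
  rw [this, mul_inv_cancel_right]

theorem isScalar2_iff_of_isConj (g h : Matrix.SpecialLinearGroup (Fin 2) F) (hc : IsConj g h) :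
    IsScalar2 (g : Matrix (Fin 2) (Fin 2) F) ↔ IsScalar2 (h : Matrix (Fin 2) (Fin 2) F) := by
  constructor
  · intro hs
    rw [eq_of_isConj_of_isScalar2 g h hs hc]; exact hs
  · intro hs
    rw [eq_of_isConj_of_isScalar2 h g hs hc.symm]; exact hs

theorem scalar_SL2_entry (g : Matrix.SpecialLinearGroup (Fin 2) F)
    (h : IsScalar2 (g : Matrix (Fin 2) (Fin 2) F)) :
    (g : Matrix (Fin 2) (Fin 2) F) 0 0 = 1 ∨ (g : Matrix (Fin 2) (Fin 2) F) 0 0 = -1 := by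
  obtain ⟨h01, h10, h00⟩ := h
  have hd := g.2
  rw [Matrix.det_fin_two, h01, h10, ← h00] at hd
  have : ((g : Matrix (Fin 2) (Fin 2) F) 0 0 - 1) * ((g : Matrix (Fin 2) (Fin 2) F) 0 0 + 1) = 0 := by
    linear_combination hd
  rcases mul_eq_zero.1 this with h | h
  · left; exact sub_eq_zero.1 h
  · right; exact eq_neg_of_add_eq_zero_left h

theorem SL2_eq_of_isScalar2 (g h : Matrix.SpecialLinearGroup (Fin 2) F)
    (hg : IsScalar2 (g : Matrix (Fin 2) (Fin 2) F)) (hh : IsScalar2 (h : Matrix (Fin 2) (Fin 2) F))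
    (h00 : (g : Matrix (Fin 2) (Fin 2) F) 0 0 = (h : Matrix (Fin 2) (Fin 2) F) 0 0) : g = h := by
  apply Subtype.ext
  rw [(isScalar2_iff _).1 hg, (isScalar2_iff _).1 hh, h00]

section finite

variable [Fintype F]

theorem exists_binary_one' (hF : ringChar F ≠ 2) (a b : F) (ha : a ≠ 0) (hb : b ≠ 0) :
    ∃ x y : F, a * x ^ 2 + b * y ^ 2 = 1 := by
  open Polynomial in
  have hf : degree (C a * X ^ 2 : F[X]) = 2 := by
    rw [degree_C_mul_X_pow 2 ha]; rfl
  open Polynomial in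
  have hg : degree (C b * X ^ 2 - C 1 : F[X]) = 2 := by
    rw [degree_sub_eq_left_of_degree_lt, degree_C_mul_X_pow 2 hb]; rfl
    rw [degree_C_mul_X_pow 2 hb]
    exact lt_of_le_of_lt degree_C_le (by norm_num)
  obtain ⟨x, y, hxy⟩ := FiniteField.exists_root_sum_quadratic hf hg
    (FiniteField.odd_card_of_char_ne_two hF)
  refine ⟨x, y, ?_⟩
  simp only [Polynomial.eval_mul, Polynomial.eval_C, Polynomial.eval_pow, Polynomial.eval_X,
    Polynomial.eval_sub] at hxy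
  linear_combination hxy

/-- universality of non-degenerate binary forms: the form of an element of `SL₂` whose trace is
not `±2` takes the value one -/
theorem rep1_of_trace_sq_ne (hF : ringChar F ≠ 2) (g : Matrix.SpecialLinearGroup (Fin 2) F)
    (ht : (g : Matrix (Fin 2) (Fin 2) F).trace ^ 2 ≠ 4) : Rep1 g := by
  have h2 : (2 : F) ≠ 0 := Ring.two_ne_zero hF
  have h4 : (4 : F) ≠ 0 := by
    have : (4 : F) = 2 * 2 := by norm_num
    rw [this]; exact mul_ne_zero h2 h2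
  set a := (g : Matrix (Fin 2) (Fin 2) F) 0 0 with ha
  set b := (g : Matrix (Fin 2) (Fin 2) F) 0 1 with hb
  set c := (g : Matrix (Fin 2) (Fin 2) F) 1 0 with hc
  set d := (g : Matrix (Fin 2) (Fin 2) F) 1 1 with hd
  have hdet : a * d - b * c = 1 := by
    have := g.2
    rwa [Matrix.det_fin_two] at this
  have htr : (a + d) ^ 2 ≠ 4 := by
    rwa [Matrix.trace_fin_two] at ht
  have hΔ : (d - a) ^ 2 + 4 * b * c ≠ 0 := by
    intro h
    apply htr
    linear_combination h + 4 * hdet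
  by_cases hc0 : c = 0
  · have hda : d - a ≠ 0 := by
      intro h
      apply hΔ
      rw [h, hc0]; ring
    refine ⟨![(1 + b) / (d - a), 1], ?_⟩
    rw [qf2_eq]
    simp only [Matrix.cons_val_zero, Matrix.cons_val_one]
    rw [← hc, ← hd, ← ha, ← hb, hc0]
    field_simp
    ring
  · obtain ⟨X, Y, hXY⟩ := exists_binary_one' hF (1 / c) (-((d - a) ^ 2 + 4 * b * c) / (4 * c))
      (one_div_ne_zero hc0) (div_ne_zero (neg_ne_zero.2 hΔ) (mul_ne_zero h4 hc0))
    refine ⟨![(X - (d - a) / 2 * Y) / c, Y], ?_⟩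
    rw [qf2_eq]
    simp only [Matrix.cons_val_zero, Matrix.cons_val_one]
    rw [← hc, ← hd, ← ha, ← hb, ← hXY]
    field_simp
    ring

theorem isSquare_mul_of_not_isSquare (hF : ringChar F ≠ 2) (a b : F)
    (ha : ¬ IsSquare a) (hb : ¬ IsSquare b) : IsSquare (a * b) := by
  classical
  have ha0 : a ≠ 0 := fun h => ha (h ▸ IsSquare.zero)
  have hb0 : b ≠ 0 := fun h => hb (h ▸ IsSquare.zero)
  rw [← quadraticChar_one_iff_isSquare (mul_ne_zero ha0 hb0), map_mul,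
    quadraticChar_neg_one_iff_not_isSquare.2 ha, quadraticChar_neg_one_iff_not_isSquare.2 hb]
  norm_num

theorem not_isSquare_of_not_rep1 (g : Matrix.SpecialLinearGroup (Fin 2) F) (hg : ¬ Rep1 g)
    (v : Fin 2 → F) (hv : qf2 (g : Matrix (Fin 2) (Fin 2) F) v ≠ 0) :
    ¬ IsSquare (qf2 (g : Matrix (Fin 2) (Fin 2) F) v) := by
  rintro ⟨s, hs⟩
  apply hg
  have hs0 : s ≠ 0 := by
    rintro rfl
    apply hv
    rw [hs, mul_zero]
  refine ⟨s⁻¹ • v, ?_⟩
  rw [qf2_smul, hs]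
  field_simp

/-- non-scalar elements of `SL₂` with the same trace whose forms do not represent one are
conjugate -/
theorem isConj_of_not_rep1 (hF : ringChar F ≠ 2) (g h : Matrix.SpecialLinearGroup (Fin 2) F)
    (hg : ¬ IsScalar2 (g : Matrix (Fin 2) (Fin 2) F))
    (hh : ¬ IsScalar2 (h : Matrix (Fin 2) (Fin 2) F))
    (htr : (g : Matrix (Fin 2) (Fin 2) F).trace = (h : Matrix (Fin 2) (Fin 2) F).trace)
    (hg1 : ¬ Rep1 g) (hh1 : ¬ Rep1 h) : IsConj g h := by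
  obtain ⟨v, hv⟩ := exists_cyclic_vector _ hg
  obtain ⟨w, hw⟩ := exists_cyclic_vector _ hh
  change qf2 (g : Matrix (Fin 2) (Fin 2) F) v ≠ 0 at hv
  change qf2 (h : Matrix (Fin 2) (Fin 2) F) w ≠ 0 at hw
  have h1 := not_isSquare_of_not_rep1 g hg1 v hv
  have h2 := not_isSquare_of_not_rep1 h hh1 w hw
  obtain ⟨r, hr⟩ := isSquare_mul_of_not_isSquare hF _ _ h1 h2
  apply isConj_of_qf2_eq g h htr v ((r / qf2 (h : Matrix (Fin 2) (Fin 2) F) w) • w) _ hv
  rw [qf2_smul]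
  field_simp
  rw [pow_two, ← hr]

/-- the conjugacy criterion in `SL₂` over a finite field of odd characteristic -/
theorem SL2_isConj_iff (hF : ringChar F ≠ 2) (g h : Matrix.SpecialLinearGroup (Fin 2) F)
    (hg : ¬ IsScalar2 (g : Matrix (Fin 2) (Fin 2) F))
    (hh : ¬ IsScalar2 (h : Matrix (Fin 2) (Fin 2) F)) :
    IsConj g h ↔ (g : Matrix (Fin 2) (Fin 2) F).trace = (h : Matrix (Fin 2) (Fin 2) F).trace ∧
      (Rep1 g ↔ Rep1 h) := by
  constructor
  · intro hc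
    exact ⟨trace_eq_of_isConj g h hc, rep1_iff_of_isConj g h hc⟩
  · rintro ⟨htr, hrep⟩
    by_cases hg1 : Rep1 g
    · obtain ⟨v, hv⟩ := hg1
      obtain ⟨w, hw⟩ := hrep.1 ⟨v, hv⟩
      exact isConj_of_qf2_eq g h htr v w (hv.trans hw.symm) (by rw [hv]; exact one_ne_zero)
    · exact isConj_of_not_rep1 hF g h hg hh htr hg1 (fun hh1 => hg1 (hrep.2 hh1))

end finite

end Cfsg.Agent.Helper12
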