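import Mathlib
import Cfsg.Agent.Lib.Helper12.SL2Odd
import Cfsg.Agent.Lib.Helper2.CardSL

set_option autoImplicit false

namespace Cfsg.Agent.Helper12

variable {F : Type*} [Field F]

/-- class size times centraliser order is the group order -/
theorem card_carrier_mul_card_centralizer {G : Type*} [Group G] [Finite G] (g : G) :
    Nat.card (ConjClasses.mk g).carrier * Nat.card (Subgroup.centralizer ({g} : Set G)) =
      Nat.card G := by
  rw [Subgroup.nat_card_centralizer_nat_card_stabilizer, ← ConjAct.orbit_eq_carrier_conjClasses,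
    Nat.card_coe_set_eq, ← MulAction.index_stabilizer, Subgroup.index_mul_card]
  exact Nat.card_congr ConjAct.toConjAct.toEquiv.symm

/-- the upper triangular element of `SL₂` with diagonal `e` and corner `b` -/
def upperSL (e b : F) (he : e * e = 1) : Matrix.SpecialLinearGroup (Fin 2) F :=
  ⟨!![e, b; 0, e], by rw [Matrix.det_fin_two_of]; simp [he]⟩

theorem upperSL_coe (e b : F) (he : e * e = 1) :
    ((upperSL e b he : Matrix.SpecialLinearGroup (Fin 2) F) : Matrix (Fin 2) (Fin 2) F) =
      !![e, b; 0, e] := rfl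

theorem upperSL_not_scalar (e b : F) (he : e * e = 1) (hb : b ≠ 0) :
    ¬ IsScalar2 ((upperSL e b he : Matrix.SpecialLinearGroup (Fin 2) F) :
      Matrix (Fin 2) (Fin 2) F) := by
  rintro ⟨h, -, -⟩
  apply hb
  simpa [upperSL] using h

theorem trace_upperSL (e b : F) (he : e * e = 1) :
    ((upperSL e b he : Matrix.SpecialLinearGroup (Fin 2) F) :
      Matrix (Fin 2) (Fin 2) F).trace = e + e := by
  simp [upperSL, Matrix.trace_fin_two]

theorem qf2_upperSL (e b : F) (he : e * e = 1) (v : Fin 2 → F) :
    qf2 ((upperSL e b he : Matrix.SpecialLinearGroup (Fin 2) F) :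
      Matrix (Fin 2) (Fin 2) F) v = -b * v 1 ^ 2 := by
  rw [qf2_eq]
  simp only [upperSL, Matrix.of_apply, Matrix.cons_val', Matrix.cons_val_zero, Matrix.cons_val_one,
    Matrix.cons_val_fin_one]
  ring

theorem rep1_upperSL_iff (e b : F) (he : e * e = 1) (hb : b ≠ 0) :
    Rep1 (upperSL e b he) ↔ IsSquare (-b) := by
  constructor
  · rintro ⟨v, hv⟩
    rw [qf2_upperSL] at hv
    have hv1 : v 1 ≠ 0 := by
      intro h0
      rw [h0] at hv
      simp at hv
    refine ⟨(v 1)⁻¹, ?_⟩
    have h1 : v 1 * (v 1)⁻¹ = 1 := mul_inv_cancel₀ hv1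
    linear_combination ((v 1)⁻¹ ^ 2) * hv + b * (v 1 * (v 1)⁻¹ + 1) * h1
  · rintro ⟨s, hs⟩
    have hs0 : s ≠ 0 := by
      rintro rfl
      apply hb
      simpa using hs
    refine ⟨![0, s⁻¹], ?_⟩
    rw [qf2_upperSL, hs]
    simp only [Matrix.cons_val_one, Matrix.cons_val_zero]
    field_simp

theorem upperSL_mul (e b e' b' : F) (he : e * e = 1) (he' : e' * e' = 1) :
    upperSL e b he * upperSL e' b' he' =
      upperSL (e * e') (e * b' + b * e') (by rw [mul_mul_mul_comm, he, he', one_mul]) := by
  apply Subtype.ext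
  rw [Matrix.SpecialLinearGroup.coe_mul, upperSL_coe, upperSL_coe, upperSL_coe]
  ext i j
  fin_cases i <;> fin_cases j <;> simp [Matrix.mul_apply, Fin.sum_univ_two]

theorem upperSL_one_zero : upperSL (1 : F) 0 (one_mul 1) = 1 := by
  apply Subtype.ext
  rw [upperSL_coe, Matrix.SpecialLinearGroup.coe_one]
  ext i j
  fin_cases i <;> fin_cases j <;> simp

theorem upperSL_congr (e b e' b' : F) (he : e * e = 1) (he' : e' * e' = 1) (h1 : e = e')
    (h2 : b = b') : upperSL e b he = upperSL e' b' he' := by
  subst h1 h2; rfl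

theorem upperSL_one_pow (b : F) (k : ℕ) :
    upperSL (1 : F) b (one_mul 1) ^ k = upperSL 1 (k * b) (one_mul 1) := by
  induction k with
  | zero => rw [pow_zero, Nat.cast_zero, zero_mul, upperSL_one_zero]
  | succ k ih =>
    rw [pow_succ, ih, upperSL_mul]
    apply upperSL_congr
    · ring
    · push_cast; ring

theorem eq_upperSL_of_entries (g : Matrix.SpecialLinearGroup (Fin 2) F)
    (h10 : (g : Matrix (Fin 2) (Fin 2) F) 1 0 = 0)
    (h : (g : Matrix (Fin 2) (Fin 2) F) 0 0 = (g : Matrix (Fin 2) (Fin 2) F) 1 1) :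
    ∃ he, g = upperSL ((g : Matrix (Fin 2) (Fin 2) F) 0 0) ((g : Matrix (Fin 2) (Fin 2) F) 0 1) he := by
  have hd := g.2
  rw [Matrix.det_fin_two, h10, ← h] at hd
  refine ⟨by simpa using hd, ?_⟩
  apply Subtype.ext
  rw [upperSL_coe]
  ext i j
  fin_cases i <;> fin_cases j <;> simp [h10, ← h]

theorem mem_centralizer_upperSL_iff (e b : F) (he : e * e = 1) (hb : b ≠ 0)
    (X : Matrix.SpecialLinearGroup (Fin 2) F) :
    X ∈ Subgroup.centralizer ({upperSL e b he} : Set (Matrix.SpecialLinearGroup (Fin 2) F)) ↔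
      (X : Matrix (Fin 2) (Fin 2) F) 1 0 = 0 ∧
        (X : Matrix (Fin 2) (Fin 2) F) 0 0 = (X : Matrix (Fin 2) (Fin 2) F) 1 1 := by
  rw [Subgroup.mem_centralizer_iff]
  simp only [Set.mem_singleton_iff, forall_eq]
  constructor
  · intro h
    have hm := congrArg (fun Y : Matrix.SpecialLinearGroup (Fin 2) F =>
      (Y : Matrix (Fin 2) (Fin 2) F)) h
    simp only [Matrix.SpecialLinearGroup.coe_mul, upperSL_coe] at hm
    have e00 := congrFun (congrFun hm 0) 0
    have e01 := congrFun (congrFun hm 0) 1
    simp [Matrix.mul_apply, Fin.sum_univ_two] at e00 e01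
    have h10 : (X : Matrix (Fin 2) (Fin 2) F) 1 0 = 0 := by
      have : b * (X : Matrix (Fin 2) (Fin 2) F) 1 0 = 0 := by linear_combination e00
      rcases mul_eq_zero.1 this with h | h
      · exact absurd h hb
      · exact h
    refine ⟨h10, ?_⟩
    have : b * ((X : Matrix (Fin 2) (Fin 2) F) 1 1 - (X : Matrix (Fin 2) (Fin 2) F) 0 0) = 0 := by
      linear_combination e01
    rcases mul_eq_zero.1 this with h | h
    · exact absurd h hb
    · exact (sub_eq_zero.1 h).symm
  · rintro ⟨h10, h00⟩
    apply Subtype.ext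
    simp only [Matrix.SpecialLinearGroup.coe_mul, upperSL_coe]
    ext i j
    fin_cases i <;> fin_cases j <;> simp [Matrix.mul_apply, Fin.sum_univ_two, h10, ← h00] <;> ring

section finite

variable [Fintype F]

theorem card_sq_eq_one (hF : ringChar F ≠ 2) : Nat.card {e : F // e * e = 1} = 2 := by
  classical
  have h2 : (2 : F) ≠ 0 := Ring.two_ne_zero hF
  rw [Nat.card_eq_fintype_card, Fintype.card_subtype]
  have : (Finset.univ.filter fun e : F => e * e = 1) = {1, -1} := by
    ext e
    simp only [Finset.mem_filter, Finset.mem_univ, true_and, Finset.mem_insert,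
      Finset.mem_singleton]
    constructor
    · intro h
      have : (e - 1) * (e + 1) = 0 := by linear_combination h
      rcases mul_eq_zero.1 this with h | h
      · left; exact sub_eq_zero.1 h
      · right; exact eq_neg_of_add_eq_zero_left h
    · rintro (rfl | rfl) <;> ring
  rw [this, Finset.card_pair]
  intro h
  apply h2
  linear_combination h

/-- the centraliser of a non-trivial upper unitriangular-type element has order `2q` -/
theorem card_centralizer_upperSL (hF : ringChar F ≠ 2) (e b : F) (he : e * e = 1) (hb : b ≠ 0) :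
    Nat.card (Subgroup.centralizer
      ({upperSL e b he} : Set (Matrix.SpecialLinearGroup (Fin 2) F))) = 2 * Fintype.card F := by
  have hequiv : Subgroup.centralizer
      ({upperSL e b he} : Set (Matrix.SpecialLinearGroup (Fin 2) F)) ≃ {x : F // x * x = 1} × F :=
    { toFun := fun X =>
        (⟨(X.1 : Matrix (Fin 2) (Fin 2) F) 0 0, by
          obtain ⟨h10, h00⟩ := (mem_centralizer_upperSL_iff e b he hb X.1).1 X.2
          have hd := X.1.2
          rw [Matrix.det_fin_two, h10, ← h00] at hd
          simpa using hd⟩, (X.1 : Matrix (Fin 2) (Fin 2) F) 0 1)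
      invFun := fun y => ⟨upperSL y.1.1 y.2 y.1.2, by
        rw [mem_centralizer_upperSL_iff e b he hb]
        simp [upperSL_coe]⟩
      left_inv := by
        intro X
        obtain ⟨h10, h00⟩ := (mem_centralizer_upperSL_iff e b he hb X.1).1 X.2
        obtain ⟨he', hX⟩ := eq_upperSL_of_entries X.1 h10 h00
        apply Subtype.ext
        exact hX.symm
      right_inv := by
        rintro ⟨⟨x, hx⟩, y⟩
        simp [upperSL_coe] }
  rw [Nat.card_congr hequiv, Nat.card_prod, card_sq_eq_one hF, Nat.card_eq_fintype_card]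

theorem card_SL2 : Nat.card (Matrix.SpecialLinearGroup (Fin 2) F) =
    Fintype.card F * (Fintype.card F ^ 2 - 1) := by
  have h := Cfsg.Agent.Helper2.card_SL_mul (F := F) 2 (by norm_num)
  rw [Fin.prod_univ_two] at h
  simp only [Fin.val_zero, pow_zero, Fin.val_one, pow_one] at h
  have hq : 2 ≤ Fintype.card F := Fintype.one_lt_card
  have hq1 : 0 < Fintype.card F - 1 := by omega
  apply Nat.eq_of_mul_eq_mul_left hq1
  rw [h]
  have : Fintype.card F ^ 2 - Fintype.card F = Fintype.card F * (Fintype.card F - 1) := by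
    rw [Nat.mul_sub, pow_two, mul_one]
  rw [this]
  ring

end finite

end Cfsg.Agent.Helper12
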