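import Mathlib
import Cfsg.Prelude.Def_ParabolicCharacters
import Cfsg.Agent.Lib.Helper12.SL2Upper

set_option autoImplicit false

namespace Cfsg.Agent.Helper12

variable {F : Type*} [Field F]

/-- the upper triangular (Borel) subgroup of `SL₂` -/
abbrev borelSL2 (F : Type*) [Field F] : Subgroup (Matrix.SpecialLinearGroup (Fin 2) F) :=
  (Cfsg.upperTriangularGL 2 F).comap Matrix.SpecialLinearGroup.toGL

theorem mem_upperTriangularGL_two_iff (g : GL (Fin 2) F) :
    g ∈ Cfsg.upperTriangularGL 2 F ↔ (g : Matrix (Fin 2) (Fin 2) F) 1 0 = 0 := by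
  change (g : Matrix (Fin 2) (Fin 2) F).BlockTriangular id ↔ _
  constructor
  · intro h
    exact h (i := 1) (j := 0) (by decide)
  · intro h i j hij
    fin_cases i <;> fin_cases j
    · exact absurd hij (by decide)
    · exact absurd hij (by decide)
    · exact h
    · exact absurd hij (by decide)

theorem mem_borelSL2_iff (g : Matrix.SpecialLinearGroup (Fin 2) F) :
    g ∈ borelSL2 F ↔ (g : Matrix (Fin 2) (Fin 2) F) 1 0 = 0 := by
  rw [Subgroup.mem_comap, mem_upperTriangularGL_two_iff]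
  rfl

/-- the element `[[s, t], [0, s⁻¹]]` of `SL₂` -/
def borelMat (s t : F) (hs : s ≠ 0) : Matrix.SpecialLinearGroup (Fin 2) F :=
  ⟨!![s, t; 0, s⁻¹], by rw [Matrix.det_fin_two_of]; simp [hs]⟩

theorem borelMat_coe (s t : F) (hs : s ≠ 0) :
    ((borelMat s t hs : Matrix.SpecialLinearGroup (Fin 2) F) : Matrix (Fin 2) (Fin 2) F) =
      !![s, t; 0, s⁻¹] := rfl

theorem borelMat_mem (s t : F) (hs : s ≠ 0) : borelMat s t hs ∈ borelSL2 F := by
  rw [mem_borelSL2_iff, borelMat_coe]; simp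

/-- the element `[[s, t], [0, s⁻¹]]` of the Borel subgroup -/
def borelMk (s t : F) (hs : s ≠ 0) : borelSL2 F := ⟨borelMat s t hs, borelMat_mem s t hs⟩

theorem borelMk_coe (s t : F) (hs : s ≠ 0) :
    (((borelMk s t hs : borelSL2 F) : Matrix.SpecialLinearGroup (Fin 2) F) :
      Matrix (Fin 2) (Fin 2) F) = !![s, t; 0, s⁻¹] := rfl

theorem borel_entry_10 (x : borelSL2 F) :
    ((x : Matrix.SpecialLinearGroup (Fin 2) F) : Matrix (Fin 2) (Fin 2) F) 1 0 = 0 :=
  (mem_borelSL2_iff x.1).1 x.2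

theorem borel_entry_mul (x : borelSL2 F) :
    ((x : Matrix.SpecialLinearGroup (Fin 2) F) : Matrix (Fin 2) (Fin 2) F) 0 0 *
      ((x : Matrix.SpecialLinearGroup (Fin 2) F) : Matrix (Fin 2) (Fin 2) F) 1 1 = 1 := by
  have hd := x.1.2
  rw [Matrix.det_fin_two, borel_entry_10 x] at hd
  simpa using hd

theorem borel_entry_00_ne (x : borelSL2 F) :
    ((x : Matrix.SpecialLinearGroup (Fin 2) F) : Matrix (Fin 2) (Fin 2) F) 0 0 ≠ 0 := by
  intro h
  have := borel_entry_mul x
  rw [h, zero_mul] at this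
  exact zero_ne_one this

theorem borel_entry_11 (x : borelSL2 F) :
    ((x : Matrix.SpecialLinearGroup (Fin 2) F) : Matrix (Fin 2) (Fin 2) F) 1 1 =
      (((x : Matrix.SpecialLinearGroup (Fin 2) F) : Matrix (Fin 2) (Fin 2) F) 0 0)⁻¹ :=
  eq_inv_of_mul_eq_one_right (borel_entry_mul x)

theorem borel_ext (x y : borelSL2 F)
    (h00 : ((x : Matrix.SpecialLinearGroup (Fin 2) F) : Matrix (Fin 2) (Fin 2) F) 0 0 =
      ((y : Matrix.SpecialLinearGroup (Fin 2) F) : Matrix (Fin 2) (Fin 2) F) 0 0)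
    (h01 : ((x : Matrix.SpecialLinearGroup (Fin 2) F) : Matrix (Fin 2) (Fin 2) F) 0 1 =
      ((y : Matrix.SpecialLinearGroup (Fin 2) F) : Matrix (Fin 2) (Fin 2) F) 0 1) : x = y := by
  apply Subtype.ext
  apply Subtype.ext
  ext i j
  fin_cases i <;> fin_cases j
  · exact h00
  · exact h01
  · change ((x : Matrix.SpecialLinearGroup (Fin 2) F) : Matrix (Fin 2) (Fin 2) F) 1 0 =
      ((y : Matrix.SpecialLinearGroup (Fin 2) F) : Matrix (Fin 2) (Fin 2) F) 1 0
    rw [borel_entry_10, borel_entry_10]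
  · change ((x : Matrix.SpecialLinearGroup (Fin 2) F) : Matrix (Fin 2) (Fin 2) F) 1 1 =
      ((y : Matrix.SpecialLinearGroup (Fin 2) F) : Matrix (Fin 2) (Fin 2) F) 1 1
    rw [borel_entry_11, borel_entry_11, h00]

/-- the conjugacy criterion in the Borel subgroup of `SL₂` -/
theorem borel_isConj_iff (x y : borelSL2 F) :
    IsConj x y ↔
      ((x : Matrix.SpecialLinearGroup (Fin 2) F) : Matrix (Fin 2) (Fin 2) F) 0 0 =
        ((y : Matrix.SpecialLinearGroup (Fin 2) F) : Matrix (Fin 2) (Fin 2) F) 0 0 ∧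
      ∃ s t : F, s ≠ 0 ∧
        ((y : Matrix.SpecialLinearGroup (Fin 2) F) : Matrix (Fin 2) (Fin 2) F) 0 1 =
          s ^ 2 * ((x : Matrix.SpecialLinearGroup (Fin 2) F) : Matrix (Fin 2) (Fin 2) F) 0 1 +
            s * t * (((x : Matrix.SpecialLinearGroup (Fin 2) F) : Matrix (Fin 2) (Fin 2) F) 1 1 -
              ((x : Matrix.SpecialLinearGroup (Fin 2) F) : Matrix (Fin 2) (Fin 2) F) 0 0) := by
  constructor
  · intro hc
    obtain ⟨c, hc⟩ := isConj_iff.1 hc
    have hc' : c * x = y * c := by rw [← hc]; group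
    have hm := congrArg (fun z : borelSL2 F =>
      ((z : Matrix.SpecialLinearGroup (Fin 2) F) : Matrix (Fin 2) (Fin 2) F)) hc'
    simp only [Subgroup.coe_mul, Matrix.SpecialLinearGroup.coe_mul] at hm
    have e00 := congrFun (congrFun hm 0) 0
    have e01 := congrFun (congrFun hm 0) 1
    simp only [Matrix.mul_apply, Fin.sum_univ_two] at e00 e01
    rw [borel_entry_10 x, borel_entry_10 c] at e00
    have hs := borel_entry_00_ne c
    have hss := borel_entry_mul c
    have h00 : ((x : Matrix.SpecialLinearGroup (Fin 2) F) : Matrix (Fin 2) (Fin 2) F) 0 0 =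
        ((y : Matrix.SpecialLinearGroup (Fin 2) F) : Matrix (Fin 2) (Fin 2) F) 0 0 := by
      have : ((c : Matrix.SpecialLinearGroup (Fin 2) F) : Matrix (Fin 2) (Fin 2) F) 0 0 *
          (((x : Matrix.SpecialLinearGroup (Fin 2) F) : Matrix (Fin 2) (Fin 2) F) 0 0 -
            ((y : Matrix.SpecialLinearGroup (Fin 2) F) : Matrix (Fin 2) (Fin 2) F) 0 0) = 0 := by
        linear_combination e00
      rcases mul_eq_zero.1 this with h | h
      · exact absurd h hs
      · exact sub_eq_zero.1 h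
    refine ⟨h00, ((c : Matrix.SpecialLinearGroup (Fin 2) F) : Matrix (Fin 2) (Fin 2) F) 0 0,
      ((c : Matrix.SpecialLinearGroup (Fin 2) F) : Matrix (Fin 2) (Fin 2) F) 0 1, hs, ?_⟩
    linear_combination (-((c : Matrix.SpecialLinearGroup (Fin 2) F) : Matrix (Fin 2) (Fin 2) F) 0 0) * e01
      - (((y : Matrix.SpecialLinearGroup (Fin 2) F) : Matrix (Fin 2) (Fin 2) F) 0 1) * hss
      + ((c : Matrix.SpecialLinearGroup (Fin 2) F) : Matrix (Fin 2) (Fin 2) F) 0 0 *
        ((c : Matrix.SpecialLinearGroup (Fin 2) F) : Matrix (Fin 2) (Fin 2) F) 0 1 * h00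
  · rintro ⟨h00, s, t, hs, h01⟩
    rw [isConj_iff]
    refine ⟨borelMk s t hs, ?_⟩
    rw [mul_inv_eq_iff_eq_mul]
    apply borel_ext
    · simp only [Subgroup.coe_mul, Matrix.SpecialLinearGroup.coe_mul, borelMk_coe]
      simp [Matrix.mul_apply, Fin.sum_univ_two, borel_entry_10, h00, mul_comm]
    · simp only [Subgroup.coe_mul, Matrix.SpecialLinearGroup.coe_mul, borelMk_coe]
      simp only [Matrix.mul_apply, Fin.sum_univ_two, Matrix.of_apply, Matrix.cons_val',
        Matrix.cons_val_zero, Matrix.cons_val_one, Matrix.cons_val_fin_one]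
      rw [h01, ← h00]
      field_simp
      ring

end Cfsg.Agent.Helper12
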