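import Mathlib
import Cfsg.Prelude.Def_Characters
import Cfsg.Prelude.Def_ParabolicCharacters
import Cfsg.Agent.Lib.Helper12.IndTransversal
import Cfsg.Agent.Lib.Helper12.SL2Borel
import Cfsg.Agent.Lib.Helper24.CharLinear

set_option autoImplicit false

namespace Cfsg.Agent.Helper12

open Cfsg Cfsg.Agent.Helper24

variable {F : Type*} [Field F] {G : Type*} [Group G]

/-- matrix entries of the image of a group element under `m : G →* GL₂` -/
abbrev ent (m : G →* GL (Fin 2) F) (g : G) (i j : Fin 2) : F :=
  ((m g : GL (Fin 2) F) : Matrix (Fin 2) (Fin 2) F) i j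

/-- `B` is the preimage of the upper triangular subgroup -/
def IsBorelOf (m : G →* GL (Fin 2) F) (B : Subgroup G) : Prop := ∀ g : G, g ∈ B ↔ ent m g 1 0 = 0

theorem isBorelOf_comap (m : G →* GL (Fin 2) F) :
    IsBorelOf m ((Cfsg.upperTriangularGL 2 F).comap m) := by
  intro g
  rw [Subgroup.mem_comap, mem_upperTriangularGL_two_iff]

theorem isBorelOf_id : IsBorelOf (MonoidHom.id (GL (Fin 2) F)) (Cfsg.upperTriangularGL 2 F) := by
  intro g
  rw [mem_upperTriangularGL_two_iff]
  rfl

theorem GL_det_ne_zero (g : GL (Fin 2) F) : (g : Matrix (Fin 2) (Fin 2) F).det ≠ 0 := by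
  have := (Matrix.GeneralLinearGroup.det g).ne_zero
  simpa using this

theorem ent_det_ne_zero (m : G →* GL (Fin 2) F) (g : G) :
    ent m g 0 0 * ent m g 1 1 - ent m g 0 1 * ent m g 1 0 ≠ 0 := by
  have := GL_det_ne_zero (m g)
  rwa [Matrix.det_fin_two] at this

theorem ent_mul (m : G →* GL (Fin 2) F) (g h : G) (i j : Fin 2) :
    ent m (g * h) i j = ent m g i 0 * ent m h 0 j + ent m g i 1 * ent m h 1 j := by
  unfold ent
  rw [map_mul, Matrix.GeneralLinearGroup.coe_mul, Matrix.mul_apply, Fin.sum_univ_two]

theorem IsBorelOf.ent00_ne {m : G →* GL (Fin 2) F} {B : Subgroup G} (hB : IsBorelOf m B) (b : B) :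
    ent m (b : G) 0 0 ≠ 0 := by
  intro h
  have h1 := ent_det_ne_zero m (b : G)
  rw [h, (hB _).1 b.2] at h1
  simp at h1

theorem IsBorelOf.ent11_ne {m : G →* GL (Fin 2) F} {B : Subgroup G} (hB : IsBorelOf m B) (b : B) :
    ent m (b : G) 1 1 ≠ 0 := by
  intro h
  have h1 := ent_det_ne_zero m (b : G)
  rw [h, (hB _).1 b.2] at h1
  simp at h1

/-- hypotheses on a system of coset representatives for the Borel subgroup, indexed by the
projective line -/
structure BorelReps (m : G →* GL (Fin 2) F) (B : Subgroup G) (r : Option F → G) : Prop where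
  isBorel : IsBorelOf m B
  none_eq : m (r none) = 1
  some_eq : ∀ c : F, ((m (r (some c)) : GL (Fin 2) F) : Matrix (Fin 2) (Fin 2) F) = !![c, -1; 1, 0]

namespace BorelReps

variable {m : G →* GL (Fin 2) F} {B : Subgroup G} {r : Option F → G} (hr : BorelReps m B r)
include hr

theorem ent_none (i j : Fin 2) : ent m (r none) i j = (1 : Matrix (Fin 2) (Fin 2) F) i j := by
  unfold ent
  rw [hr.none_eq]
  rfl

theorem ent_some (c : F) (i j : Fin 2) : ent m (r (some c)) i j = (!![c, -1; 1, 0] : Matrix (Fin 2) (Fin 2) F) i j := by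
  unfold ent
  rw [hr.some_eq]

theorem ent_none_mul (g : G) (i j : Fin 2) : ent m (r none * g) i j = ent m g i j := by
  unfold ent
  rw [map_mul, hr.none_eq, one_mul]

theorem ent_mul_none (g : G) (i j : Fin 2) : ent m (g * r none) i j = ent m g i j := by
  unfold ent
  rw [map_mul, hr.none_eq, mul_one]

theorem ent_none_inv_mul (g : G) (i j : Fin 2) : ent m ((r none)⁻¹ * g) i j = ent m g i j := by
  unfold ent
  rw [map_mul, map_inv, hr.none_eq, inv_one, one_mul]

/-- entries of `y` from the relation `r (some x) * y = g` -/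
theorem ent_of_some_mul_eq (x : F) (y g : G) (h : r (some x) * y = g) :
    ent m y 0 0 = ent m g 1 0 ∧ ent m y 0 1 = ent m g 1 1 ∧
      ent m y 1 0 = x * ent m g 1 0 - ent m g 0 0 ∧ ent m y 1 1 = x * ent m g 1 1 - ent m g 0 1 := by
  have h00 := ent_mul m (r (some x)) y 0 0
  have h01 := ent_mul m (r (some x)) y 0 1
  have h10 := ent_mul m (r (some x)) y 1 0
  have h11 := ent_mul m (r (some x)) y 1 1
  rw [h] at h00 h01 h10 h11
  simp only [hr.ent_some, Matrix.of_apply, Matrix.cons_val', Matrix.cons_val_zero,
    Matrix.cons_val_one, Matrix.cons_val_fin_one] at h00 h01 h10 h11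
  refine ⟨?_, ?_, ?_, ?_⟩
  · linear_combination (-1 : F) * h10
  · linear_combination (-1 : F) * h11
  · linear_combination h00 - x * h10
  · linear_combination h01 - x * h11

theorem bijective :
    Function.Bijective (fun p : Option F × B => r p.1 * (p.2 : G)) := by
  constructor
  · rintro ⟨i, b⟩ ⟨j, b'⟩ h
    simp only at h
    have hb := (hr.isBorel _).1 b.2
    have hb' := (hr.isBorel _).1 b'.2
    have hb0 := hr.isBorel.ent00_ne b
    have hb0' := hr.isBorel.ent00_ne b'
    have hij : i = j := by
      cases i with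
      | none =>
        cases j with
        | none => rfl
        | some c' =>
          exfalso
          have h1 := (hr.ent_of_some_mul_eq c' (b' : G) _ h.symm).1
          rw [hr.ent_none_mul, hb] at h1
          exact hb0' h1
      | some c =>
        cases j with
        | none =>
          exfalso
          have h1 := (hr.ent_of_some_mul_eq c (b : G) _ h).1
          rw [hr.ent_none_mul, hb'] at h1
          exact hb0 h1
        | some c' =>
          have h1 := hr.ent_of_some_mul_eq c (b : G) _ h
          have e10 := ent_mul m (r (some c')) (b' : G) 1 0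
          have e00 := ent_mul m (r (some c')) (b' : G) 0 0
          simp only [hr.ent_some, Matrix.of_apply, Matrix.cons_val', Matrix.cons_val_zero,
            Matrix.cons_val_one, Matrix.cons_val_fin_one] at e10 e00
          rw [hb'] at e00
          rw [e10, e00, hb] at h1
          have h3 := h1.2.2.1
          have h4 : (c - c') * ent m (b' : G) 0 0 = 0 := by linear_combination (-1 : F) * h3
          rcases mul_eq_zero.1 h4 with h5 | h5
          · rw [sub_eq_zero.1 h5]
          · exact absurd h5 hb0'
    subst hij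
    have : (b : G) = (b' : G) := mul_left_cancel h
    rw [Subtype.ext this]
  · intro g
    by_cases hg : ent m g 1 0 = 0
    · refine ⟨(none, ⟨(r none)⁻¹ * g, ?_⟩), ?_⟩
      · rw [hr.isBorel, hr.ent_none_inv_mul]; exact hg
      · simp
    · set c := ent m g 0 0 / ent m g 1 0 with hc
      refine ⟨(some c, ⟨(r (some c))⁻¹ * g, ?_⟩), ?_⟩
      · rw [hr.isBorel]
        have h1 := hr.ent_of_some_mul_eq c ((r (some c))⁻¹ * g) g (by group)
        rw [h1.2.2.1, hc]
        field_simp
        ring
      · simp

/-- entries of the conjugate `(r (some x))⁻¹ * g * r (some x)` -/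
theorem ent_conj_some (x : F) (g : G) :
    ent m ((r (some x))⁻¹ * g * r (some x)) 0 0 = ent m g 1 0 * x + ent m g 1 1 ∧
    ent m ((r (some x))⁻¹ * g * r (some x)) 1 0 =
      ent m g 1 0 * x ^ 2 + (ent m g 1 1 - ent m g 0 0) * x - ent m g 0 1 ∧
    ent m ((r (some x))⁻¹ * g * r (some x)) 1 1 = ent m g 0 0 - ent m g 1 0 * x := by
  have h1 := hr.ent_of_some_mul_eq x ((r (some x))⁻¹ * g * r (some x)) (g * r (some x)) (by group)
  have e00 := ent_mul m g (r (some x)) 0 0
  have e01 := ent_mul m g (r (some x)) 0 1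
  have e10 := ent_mul m g (r (some x)) 1 0
  have e11 := ent_mul m g (r (some x)) 1 1
  simp only [hr.ent_some, Matrix.of_apply, Matrix.cons_val', Matrix.cons_val_zero,
    Matrix.cons_val_one, Matrix.cons_val_fin_one] at e00 e01 e10 e11
  rw [e00, e01, e10, e11] at h1
  refine ⟨?_, ?_, ?_⟩
  · rw [h1.1]; ring
  · rw [h1.2.2.1]; ring
  · rw [h1.2.2.2]; ring

theorem ent_conj_none (g : G) (i j : Fin 2) :
    ent m ((r none)⁻¹ * g * r none) i j = ent m g i j := by
  rw [hr.ent_mul_none, hr.ent_none_inv_mul]

end BorelReps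


/-- the linear character `b ↦ α(b₀₀) β(b₁₁)` of the Borel subgroup -/
noncomputable def borelChar (m : G →* GL (Fin 2) F) (B : Subgroup G) (α β : MulChar F ℂ) : B → ℂ :=
  fun b => α (ent m (b : G) 0 0) * β (ent m (b : G) 1 1)

theorem borelChar_apply (m : G →* GL (Fin 2) F) (B : Subgroup G) (α β : MulChar F ℂ) (b : B) :
    borelChar m B α β b = α (ent m (b : G) 0 0) * β (ent m (b : G) 1 1) := rfl

/-- `borelChar` as a monoid homomorphism -/
noncomputable def borelCharHom {m : G →* GL (Fin 2) F} {B : Subgroup G} (hB : IsBorelOf m B)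
    (α β : MulChar F ℂ) : B →* ℂ where
  toFun := borelChar m B α β
  map_one' := by
    rw [borelChar_apply]
    have h00 : ent m ((1 : B) : G) 0 0 = 1 := by
      unfold ent; rw [Subgroup.coe_one, map_one]; rfl
    have h11 : ent m ((1 : B) : G) 1 1 = 1 := by
      unfold ent; rw [Subgroup.coe_one, map_one]; rfl
    rw [h00, h11, map_one, map_one, mul_one]
  map_mul' := by
    intro a b
    rw [borelChar_apply, borelChar_apply, borelChar_apply, Subgroup.coe_mul, ent_mul, ent_mul,
      (hB _).1 a.2, (hB _).1 b.2, mul_zero, add_zero, zero_mul,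
      zero_add, map_mul, map_mul]
    ring

theorem borelCharHom_apply {m : G →* GL (Fin 2) F} {B : Subgroup G} (hB : IsBorelOf m B)
    (α β : MulChar F ℂ) (b : B) :
    borelCharHom hB α β b = borelChar m B α β b := rfl

theorem borelChar_mul {m : G →* GL (Fin 2) F} {B : Subgroup G} (hB : IsBorelOf m B)
    (α β : MulChar F ℂ) (h k : B) :
    borelChar m B α β (h * k) = borelChar m B α β h * borelChar m B α β k :=
  map_mul (borelCharHom hB α β) h k

theorem borelChar_conj {m : G →* GL (Fin 2) F} {B : Subgroup G} (hB : IsBorelOf m B)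
    (α β : MulChar F ℂ) (h k : B) :
    borelChar m B α β (k * h * k⁻¹) = borelChar m B α β h := by
  rw [← borelCharHom_apply hB, map_mul, map_mul, mul_comm (borelCharHom hB α β k), mul_assoc,
    ← map_mul, mul_inv_cancel, map_one, mul_one, borelCharHom_apply]

theorem isIrrCharacter_borelChar {m : G →* GL (Fin 2) F} {B : Subgroup G} (hB : IsBorelOf m B)
    (α β : MulChar F ℂ) :
    IsIrrCharacter B (borelChar m B α β) := by
  have := isIrrCharacter_of_monoidHom (borelCharHom hB α β).toHomUnits
  convert this using 1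
  funext g
  rw [MonoidHom.coe_toHomUnits, borelCharHom_apply]

theorem extendByZero_borelChar [DecidableEq F] {m : G →* GL (Fin 2) F} {B : Subgroup G}
    (hB : IsBorelOf m B) (α β : MulChar F ℂ) (y : G) :
    extendByZero B (borelChar m B α β) y =
      if ent m y 1 0 = 0 then α (ent m y 0 0) * β (ent m y 1 1) else 0 := by
  split_ifs with h
  · rw [extendByZero_of_mem _ _ ((hB y).2 h)]
    rfl
  · rw [extendByZero_of_not_mem _ _ (fun hy => h ((hB y).1 hy))]

/-- the values of the function induced from `borelChar` -/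
theorem indFun_borelChar [Fintype F] [DecidableEq F] [Fintype G] {m : G →* GL (Fin 2) F}
    {B : Subgroup G} {r : Option F → G} (hr : BorelReps m B r) (α β : MulChar F ℂ) (g : G) :
    indFun B (borelChar m B α β) g =
      (if ent m g 1 0 = 0 then α (ent m g 0 0) * β (ent m g 1 1) else 0) +
        ∑ x : F, if ent m g 1 0 * x ^ 2 + (ent m g 1 1 - ent m g 0 0) * x - ent m g 0 1 = 0 then
          α (ent m g 1 0 * x + ent m g 1 1) * β (ent m g 0 0 - ent m g 1 0 * x) else 0 := by
  rw [indFun_eq_sum_transversal B (borelChar m B α β) (borelChar_conj hr.isBorel α β) r hr.bijective g,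
    Fintype.sum_option, extendByZero_borelChar hr.isBorel, hr.ent_conj_none, hr.ent_conj_none,
    hr.ent_conj_none]
  congr 1
  refine Finset.sum_congr rfl fun x _ => ?_
  rw [extendByZero_borelChar hr.isBorel, (hr.ent_conj_some x g).1, (hr.ent_conj_some x g).2.1,
    (hr.ent_conj_some x g).2.2]


/-- coset representatives of the Borel subgroup in `SL₂` -/
def repSL (o : Option F) : Matrix.SpecialLinearGroup (Fin 2) F :=
  match o with
  | none => 1
  | some c => ⟨!![c, -1; 1, 0], by simp [Matrix.det_fin_two]⟩

theorem borelReps_SL : BorelReps (Matrix.SpecialLinearGroup.toGL)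
    ((Cfsg.upperTriangularGL 2 F).comap Matrix.SpecialLinearGroup.toGL) (repSL (F := F)) where
  isBorel := isBorelOf_comap _
  none_eq := map_one _
  some_eq := fun _ => rfl

theorem borelReps_GL : BorelReps (MonoidHom.id (GL (Fin 2) F)) (Cfsg.upperTriangularGL 2 F)
    (fun o => Matrix.SpecialLinearGroup.toGL (repSL (F := F) o)) where
  isBorel := isBorelOf_id
  none_eq := by
    change Matrix.SpecialLinearGroup.toGL (1 : Matrix.SpecialLinearGroup (Fin 2) F) = 1
    exact map_one _
  some_eq := fun _ => rfl

end Cfsg.Agent.Helper12
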