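import Mathlib
import Cfsg.Agent.Lib.Helper12.BorelInd
import Cfsg.Agent.Lib.Helper24.CharOrtho

set_option autoImplicit false

namespace Cfsg.Agent.Helper12

open Cfsg Cfsg.Agent.Helper24

open scoped ComplexConjugate

variable {F : Type*} [Field F] {G : Type*} [Group G]

/-- the values of the induced function on the Borel subgroup itself -/
theorem indFun_borelChar_of_mem [Fintype F] [DecidableEq F] [Fintype G] {m : G →* GL (Fin 2) F}
    {B : Subgroup G} {r : Option F → G} (hr : BorelReps m B r) (α β : MulChar F ℂ) (b : B) :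
    indFun B (borelChar m B α β) (b : G) =
      α (ent m (b : G) 0 0) * β (ent m (b : G) 1 1) +
        ((Finset.univ.filter (fun x : F =>
          (ent m (b : G) 1 1 - ent m (b : G) 0 0) * x = ent m (b : G) 0 1)).card : ℂ) *
          (α (ent m (b : G) 1 1) * β (ent m (b : G) 0 0)) := by
  rw [indFun_borelChar hr, if_pos ((hr.isBorel _).1 b.2), (hr.isBorel _).1 b.2]
  congr 1
  have : ∀ x : F, (if (0 : F) * x ^ 2 + (ent m (b : G) 1 1 - ent m (b : G) 0 0) * x -
      ent m (b : G) 0 1 = 0 then α (0 * x + ent m (b : G) 1 1) * β (ent m (b : G) 0 0 - 0 * x) else 0) =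
      if (ent m (b : G) 1 1 - ent m (b : G) 0 0) * x = ent m (b : G) 0 1 then
        α (ent m (b : G) 1 1) * β (ent m (b : G) 0 0) else 0 := by
    intro x
    have e1 : (0 : F) * x ^ 2 + (ent m (b : G) 1 1 - ent m (b : G) 0 0) * x - ent m (b : G) 0 1 = 0 ↔
        (ent m (b : G) 1 1 - ent m (b : G) 0 0) * x = ent m (b : G) 0 1 := by
      rw [zero_mul, zero_add, sub_eq_zero]
    by_cases h : (ent m (b : G) 1 1 - ent m (b : G) 0 0) * x = ent m (b : G) 0 1
    · rw [if_pos (e1.2 h), if_pos h, zero_mul, zero_add, sub_zero]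
    · rw [if_neg (fun h' => h (e1.1 h')), if_neg h]
  rw [Finset.sum_congr rfl (fun x _ => this x), Finset.sum_ite, Finset.sum_const,
    Finset.sum_const_zero, add_zero, nsmul_eq_mul]

/-- a parametrisation of the Borel subgroup by a "torus" `T` and the upper right entry -/
structure BorelParam (m : G →* GL (Fin 2) F) (B : Subgroup G) {T : Type*} (a d : T → F)
    (e : T × F ≃ B) : Prop where
  ent00 : ∀ t u, ent m (e (t, u) : G) 0 0 = a t
  ent01 : ∀ t u, ent m (e (t, u) : G) 0 1 = u
  ent11 : ∀ t u, ent m (e (t, u) : G) 1 1 = d t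

theorem sum_card_filter_mul_eq [Fintype F] [DecidableEq F] (c : F) :
    ∑ u : F, ((Finset.univ.filter (fun x : F => c * x = u)).card : ℂ) = (Fintype.card F : ℂ) := by
  have := Finset.card_eq_sum_card_fiberwise (f := fun x : F => c * x) (s := Finset.univ)
    (t := Finset.univ) (fun _ _ => Finset.mem_coe.2 (Finset.mem_univ _))
  rw [Finset.card_univ] at this
  rw [this]
  push_cast
  rfl

/-- the Mackey formula for the functions induced from the Borel subgroup -/
theorem classInner_indFun_borelChar [Fintype F] [DecidableEq F] [Fintype G]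
    {m : G →* GL (Fin 2) F} {B : Subgroup G} {r : Option F → G} (hr : BorelReps m B r)
    {T : Type*} [Fintype T] [Nonempty T] {a d : T → F} {e : T × F ≃ B} (he : BorelParam m B a d e)
    (α β α' β' : MulChar F ℂ) :
    classInner (indFun B (borelChar m B α β)) (indFun B (borelChar m B α' β')) =
      (Fintype.card T : ℂ)⁻¹ * ∑ t : T,
        (α (a t) * β (d t) * conj (α' (a t) * β' (d t)) +
          α (a t) * β (d t) * conj (α' (d t) * β' (a t))) := by
  classical
  haveI : Fintype B := Fintype.ofFinite B
  rw [frobenius_reciprocity B _ (isClassFunction_indFun B _)]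
  unfold classInner
  have hcard : Nat.card B = Fintype.card T * Fintype.card F := by
    rw [← Nat.card_congr e, Nat.card_prod, Nat.card_eq_fintype_card, Nat.card_eq_fintype_card]
  rw [← Equiv.sum_comp e, Fintype.sum_prod_type]
  have hq : (Fintype.card F : ℂ) ≠ 0 := by
    have : 0 < Fintype.card F := Fintype.card_pos
    exact_mod_cast this.ne'
  have hT : (Fintype.card T : ℂ) ≠ 0 := by
    have : 0 < Fintype.card T := Fintype.card_pos
    exact_mod_cast this.ne'
  have key : ∀ t : T, ∑ u : F, borelChar m B α β (e (t, u)) *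
      conj (indFun B (borelChar m B α' β') ((e (t, u) : B) : G)) =
      (Fintype.card F : ℂ) * (α (a t) * β (d t) * conj (α' (a t) * β' (d t)) +
          α (a t) * β (d t) * conj (α' (d t) * β' (a t))) := by
    intro t
    have h1 : ∀ u : F, borelChar m B α β (e (t, u)) *
        conj (indFun B (borelChar m B α' β') ((e (t, u) : B) : G)) =
        α (a t) * β (d t) * conj (α' (a t) * β' (d t)) +
          ((Finset.univ.filter (fun x : F => (d t - a t) * x = u)).card : ℂ) *
            (α (a t) * β (d t) * conj (α' (d t) * β' (a t))) := by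
      intro u
      rw [indFun_borelChar_of_mem hr, borelChar_apply, he.ent00, he.ent01, he.ent11, map_add,
        map_mul (starRingEnd ℂ) (Nat.cast _), Complex.conj_natCast]
      ring
    rw [Finset.sum_congr rfl (fun u _ => h1 u), Finset.sum_add_distrib, Finset.sum_const,
      Finset.card_univ, nsmul_eq_mul, ← Finset.sum_mul, sum_card_filter_mul_eq]
    ring
  rw [Finset.sum_congr rfl (fun t _ => key t), ← Finset.mul_sum, hcard]
  push_cast
  field_simp

end Cfsg.Agent.Helper12
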