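import Mathlib
import Cfsg.Agent.Lib.Helper12.BorelMackey

set_option autoImplicit false

namespace Cfsg.Agent.Helper12

open Cfsg Cfsg.Agent.Helper24

open scoped ComplexConjugate

variable {F : Type*} [Field F]

theorem sum_units_eq_sum [Fintype F] [DecidableEq F] (f : F → ℂ) (h0 : f 0 = 0) :
    ∑ a : Fˣ, f (a : F) = ∑ a : F, f a := by
  rw [← Finset.sum_subset (Finset.subset_univ
    (Finset.univ.map ⟨((↑) : Fˣ → F), Units.val_injective⟩))]
  · rw [Finset.sum_map]
    rfl
  · intro x _ hx
    by_cases h : x = 0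
    · rw [h, h0]
    · exfalso
      apply hx
      rw [Finset.mem_map]
      exact ⟨Units.mk0 x h, Finset.mem_univ _, rfl⟩

/-- orthogonality of multiplicative characters, as a sum over the units -/
theorem sum_units_mul_conj [Fintype F] [DecidableEq F] (α α' : MulChar F ℂ) :
    ∑ a : Fˣ, α (a : F) * conj (α' (a : F)) =
      if α = α' then ((Fintype.card F : ℂ) - 1) else 0 := by
  have h1 : ∀ a : F, α a * conj (α' a) = (α * α'⁻¹) a := by
    intro a
    rw [MulChar.mul_apply, ← MulChar.star_apply']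
    rfl
  rw [sum_units_eq_sum (fun a => α a * conj (α' a)) (by simp [MulChar.map_zero]), Finset.sum_congr rfl (fun a _ => h1 a)]
  split_ifs with h
  · rw [h, mul_inv_cancel, MulChar.sum_one_eq_card_units, Fintype.card_units, Nat.cast_sub
      Fintype.card_pos, Nat.cast_one]
  · apply MulChar.sum_eq_zero_of_ne_one
    intro h'
    exact h (mul_inv_eq_one.1 h')

theorem card_sub_one_ne_zero [Fintype F] : ((Fintype.card F : ℂ) - 1) ≠ 0 := by
  have : 1 < Fintype.card F := Fintype.one_lt_card
  have h2 : ((Fintype.card F : ℂ) - 1) = ((Fintype.card F - 1 : ℕ) : ℂ) := by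
    rw [Nat.cast_sub this.le, Nat.cast_one]
  rw [h2]
  have : Fintype.card F - 1 ≠ 0 := by omega
  exact_mod_cast this

/-! ### the parametrisation of the Borel subgroup of `SL₂` -/

/-- `Fˣ × F ≃ B` for the Borel subgroup of `SL₂` -/
noncomputable def borelEquivSL : Fˣ × F ≃ borelSL2 F where
  toFun p := borelMk (p.1 : F) p.2 p.1.ne_zero
  invFun b := (Units.mk0 _ (borel_entry_00_ne b),
    ((b : Matrix.SpecialLinearGroup (Fin 2) F) : Matrix (Fin 2) (Fin 2) F) 0 1)
  left_inv p := by
    apply Prod.ext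
    · apply Units.ext
      simp [borelMk_coe]
    · simp [borelMk_coe]
  right_inv b := by
    apply borel_ext
    · simp [borelMk_coe]
    · simp [borelMk_coe]

theorem borelParam_SL : BorelParam (Matrix.SpecialLinearGroup.toGL)
    ((Cfsg.upperTriangularGL 2 F).comap Matrix.SpecialLinearGroup.toGL)
    (fun t : Fˣ => (t : F)) (fun t : Fˣ => ((t⁻¹ : Fˣ) : F)) (borelEquivSL (F := F)) where
  ent00 := fun t u => by
    change (((borelMk (t : F) u t.ne_zero : borelSL2 F) : Matrix.SpecialLinearGroup (Fin 2) F) :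
      Matrix (Fin 2) (Fin 2) F) 0 0 = _
    simp [borelMk_coe]
  ent01 := fun t u => by
    change (((borelMk (t : F) u t.ne_zero : borelSL2 F) : Matrix.SpecialLinearGroup (Fin 2) F) :
      Matrix (Fin 2) (Fin 2) F) 0 1 = _
    simp [borelMk_coe]
  ent11 := fun t u => by
    change (((borelMk (t : F) u t.ne_zero : borelSL2 F) : Matrix.SpecialLinearGroup (Fin 2) F) :
      Matrix (Fin 2) (Fin 2) F) 1 1 = _
    simp [borelMk_coe]

/-- the Mackey formula for the principal series of `SL₂` -/
theorem classInner_indFun_SL [Fintype F] [DecidableEq F] (α α' : MulChar F ℂ) :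
    classInner
      (indFun ((Cfsg.upperTriangularGL 2 F).comap Matrix.SpecialLinearGroup.toGL)
        (borelChar Matrix.SpecialLinearGroup.toGL
          ((Cfsg.upperTriangularGL 2 F).comap Matrix.SpecialLinearGroup.toGL) α 1))
      (indFun ((Cfsg.upperTriangularGL 2 F).comap Matrix.SpecialLinearGroup.toGL)
        (borelChar Matrix.SpecialLinearGroup.toGL
          ((Cfsg.upperTriangularGL 2 F).comap Matrix.SpecialLinearGroup.toGL) α' 1)) =
      (if α = α' then 1 else 0) + (if α = α'⁻¹ then 1 else 0) := by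
  rw [classInner_indFun_borelChar borelReps_SL borelParam_SL]
  have h1 : ∀ t : Fˣ, (α (t : F) * (1 : MulChar F ℂ) ((t⁻¹ : Fˣ) : F) *
      conj (α' (t : F) * (1 : MulChar F ℂ) ((t⁻¹ : Fˣ) : F)) +
      α (t : F) * (1 : MulChar F ℂ) ((t⁻¹ : Fˣ) : F) *
        conj (α' ((t⁻¹ : Fˣ) : F) * (1 : MulChar F ℂ) (t : F))) =
      α (t : F) * conj (α' (t : F)) + α (t : F) * conj (α'⁻¹ (t : F)) := by
    intro t
    rw [MulChar.one_apply_coe, MulChar.one_apply_coe, MulChar.inv_apply', Units.val_inv_eq_inv_val]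
    simp
  rw [Finset.sum_congr rfl (fun t _ => h1 t), Finset.sum_add_distrib, sum_units_mul_conj,
    sum_units_mul_conj, Fintype.card_units, Nat.cast_sub Fintype.card_pos, Nat.cast_one]
  have hq := card_sub_one_ne_zero (F := F)
  split_ifs <;> field_simp <;> ring

end Cfsg.Agent.Helper12
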