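import Mathlib
import Cfsg.Agent.Lib.Helper12.BorelMackey2

set_option autoImplicit false

namespace Cfsg.Agent.Helper12

open Cfsg Cfsg.Agent.Helper24

open scoped ComplexConjugate

variable {F : Type*} [Field F]

/-- the upper triangular element `[[s, u], [0, t]]` of `GL₂` -/
noncomputable def borelMatGL (s t : Fˣ) (u : F) : GL (Fin 2) F :=
  Matrix.GeneralLinearGroup.mkOfDetNeZero !![(s : F), u; 0, (t : F)] (by
    rw [Matrix.det_fin_two_of]
    simp)

theorem borelMatGL_coe (s t : Fˣ) (u : F) :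
    ((borelMatGL s t u : GL (Fin 2) F) : Matrix (Fin 2) (Fin 2) F) = !![(s : F), u; 0, (t : F)] := rfl

theorem borelMatGL_mem (s t : Fˣ) (u : F) : borelMatGL s t u ∈ Cfsg.upperTriangularGL 2 F := by
  rw [mem_upperTriangularGL_two_iff, borelMatGL_coe]
  simp

theorem borelGL_entry_10 (b : Cfsg.upperTriangularGL 2 F) :
    ((b : GL (Fin 2) F) : Matrix (Fin 2) (Fin 2) F) 1 0 = 0 :=
  (mem_upperTriangularGL_two_iff _).1 b.2

theorem borelGL_entry_00_ne (b : Cfsg.upperTriangularGL 2 F) :
    ((b : GL (Fin 2) F) : Matrix (Fin 2) (Fin 2) F) 0 0 ≠ 0 := isBorelOf_id.ent00_ne b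

theorem borelGL_entry_11_ne (b : Cfsg.upperTriangularGL 2 F) :
    ((b : GL (Fin 2) F) : Matrix (Fin 2) (Fin 2) F) 1 1 ≠ 0 := isBorelOf_id.ent11_ne b

/-- `(Fˣ × Fˣ) × F ≃ B` for the Borel subgroup of `GL₂` -/
noncomputable def borelEquivGL : (Fˣ × Fˣ) × F ≃ Cfsg.upperTriangularGL 2 F where
  toFun p := ⟨borelMatGL p.1.1 p.1.2 p.2, borelMatGL_mem _ _ _⟩
  invFun b := ((Units.mk0 _ (borelGL_entry_00_ne b), Units.mk0 _ (borelGL_entry_11_ne b)),
    ((b : GL (Fin 2) F) : Matrix (Fin 2) (Fin 2) F) 0 1)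
  left_inv p := by
    apply Prod.ext
    · apply Prod.ext
      · apply Units.ext
        simp [borelMatGL_coe]
      · apply Units.ext
        simp [borelMatGL_coe]
    · simp [borelMatGL_coe]
  right_inv b := by
    apply Subtype.ext
    apply Matrix.GeneralLinearGroup.ext
    intro i j
    fin_cases i <;> fin_cases j
    · simp [borelMatGL_coe]
    · simp [borelMatGL_coe]
    · simp only [borelMatGL_coe]
      simp only [Fin.mk_one, Fin.zero_eta, Matrix.of_apply, Matrix.cons_val', Matrix.cons_val_zero,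
        Matrix.cons_val_one, Matrix.cons_val_fin_one]
      exact (borelGL_entry_10 b).symm
    · simp [borelMatGL_coe]

theorem borelParam_GL : BorelParam (MonoidHom.id (GL (Fin 2) F)) (Cfsg.upperTriangularGL 2 F)
    (fun t : Fˣ × Fˣ => (t.1 : F)) (fun t : Fˣ × Fˣ => (t.2 : F)) (borelEquivGL (F := F)) where
  ent00 := fun t u => by
    change ((borelMatGL t.1 t.2 u : GL (Fin 2) F) : Matrix (Fin 2) (Fin 2) F) 0 0 = _
    simp [borelMatGL_coe]
  ent01 := fun t u => by
    change ((borelMatGL t.1 t.2 u : GL (Fin 2) F) : Matrix (Fin 2) (Fin 2) F) 0 1 = _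
    simp [borelMatGL_coe]
  ent11 := fun t u => by
    change ((borelMatGL t.1 t.2 u : GL (Fin 2) F) : Matrix (Fin 2) (Fin 2) F) 1 1 = _
    simp [borelMatGL_coe]

/-- the Mackey formula for the principal series of `GL₂` -/
theorem classInner_indFun_GL [Fintype F] [DecidableEq F] (α β α' β' : MulChar F ℂ) :
    classInner
      (indFun (Cfsg.upperTriangularGL 2 F)
        (borelChar (MonoidHom.id (GL (Fin 2) F)) (Cfsg.upperTriangularGL 2 F) α β))
      (indFun (Cfsg.upperTriangularGL 2 F)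
        (borelChar (MonoidHom.id (GL (Fin 2) F)) (Cfsg.upperTriangularGL 2 F) α' β')) =
      (if α = α' ∧ β = β' then 1 else 0) + (if α = β' ∧ β = α' then 1 else 0) := by
  rw [classInner_indFun_borelChar borelReps_GL borelParam_GL]
  have h1 : ∀ t : Fˣ × Fˣ, (α (t.1 : F) * β (t.2 : F) * conj (α' (t.1 : F) * β' (t.2 : F)) +
      α (t.1 : F) * β (t.2 : F) * conj (α' (t.2 : F) * β' (t.1 : F))) =
      (α (t.1 : F) * conj (α' (t.1 : F))) * (β (t.2 : F) * conj (β' (t.2 : F))) +
      (α (t.1 : F) * conj (β' (t.1 : F))) * (β (t.2 : F) * conj (α' (t.2 : F))) := by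
    intro t
    rw [map_mul, map_mul]
    ring
  have hA : ∀ (f g : F → ℂ), ∑ t : Fˣ × Fˣ, f (t.1 : F) * g (t.2 : F) =
      (∑ s : Fˣ, f (s : F)) * (∑ t : Fˣ, g (t : F)) := by
    intro f g
    simp only [Fintype.sum_prod_type]
    rw [Finset.sum_mul_sum]
  rw [Finset.sum_congr rfl (fun t _ => h1 t), Finset.sum_add_distrib,
    hA (fun s => α s * conj (α' s)) (fun t => β t * conj (β' t)),
    hA (fun s => α s * conj (β' s)) (fun t => β t * conj (α' t)), sum_units_mul_conj,
    sum_units_mul_conj, sum_units_mul_conj, sum_units_mul_conj, Fintype.card_prod,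
    Fintype.card_units, Nat.cast_mul, Nat.cast_sub Fintype.card_pos, Nat.cast_one]
  have hq := card_sub_one_ne_zero (F := F)
  have e1 : ∀ (P Q : Prop) [Decidable P] [Decidable Q], (if P ∧ Q then (1 : ℂ) else 0) =
      (if P then 1 else 0) * (if Q then 1 else 0) := by
    intro P Q _ _
    by_cases hP : P <;> by_cases hQ : Q <;> simp [hP, hQ]
  have e2 : ∀ (P : Prop) [Decidable P], (if P then ((Fintype.card F : ℂ) - 1) else 0) =
      ((Fintype.card F : ℂ) - 1) * (if P then 1 else 0) := by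
    intro P _
    by_cases hP : P <;> simp [hP]
  rw [e1, e1, e2 (α = α'), e2 (β = β'), e2 (α = β'), e2 (β = α')]
  generalize (if α = α' then (1 : ℂ) else 0) = x1
  generalize (if β = β' then (1 : ℂ) else 0) = x2
  generalize (if α = β' then (1 : ℂ) else 0) = x3
  generalize (if β = α' then (1 : ℂ) else 0) = x4
  field_simp

end Cfsg.Agent.Helper12
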