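import Mathlib
import Cfsg.Agent.Lib.Helper12.BorelMackeyGL
import Cfsg.Agent.Lib.Helper12.CharNormTwo
import Cfsg.Agent.Lib.Helper24.CharComplete

set_option autoImplicit false

namespace Cfsg.Agent.Helper12

open Cfsg Cfsg.Agent.Helper24

open scoped ComplexConjugate

variable {F : Type*} [Field F]

/-- the linear character `α ∘ det` of `GL₂` -/
noncomputable def detChar (α : MulChar F ℂ) : GL (Fin 2) F → ℂ :=
  fun g => α (g : Matrix (Fin 2) (Fin 2) F).det

theorem detChar_apply (α : MulChar F ℂ) (g : GL (Fin 2) F) :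
    detChar α g = α (g : Matrix (Fin 2) (Fin 2) F).det := rfl

theorem isIrrCharacter_detChar (α : MulChar F ℂ) : IsIrrCharacter (GL (Fin 2) F) (detChar α) := by
  have := isIrrCharacter_of_monoidHom ((MulChar.toUnitHom α).comp (Matrix.GeneralLinearGroup.det : GL (Fin 2) F →* Fˣ))
  convert this using 1
  funext g
  rw [MonoidHom.comp_apply, MulChar.coe_toUnitHom, Matrix.GeneralLinearGroup.val_det_apply]
  rfl

theorem detChar_one (α : MulChar F ℂ) : detChar α 1 = 1 := by
  rw [detChar_apply, Units.val_one, Matrix.det_one, map_one]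

theorem detChar_borel (α : MulChar F ℂ) (b : Cfsg.upperTriangularGL 2 F) :
    detChar α (b : GL (Fin 2) F) =
      borelChar (MonoidHom.id (GL (Fin 2) F)) (Cfsg.upperTriangularGL 2 F) α α b := by
  rw [detChar_apply, borelChar_apply, Matrix.det_fin_two, borelGL_entry_10 b, mul_zero, sub_zero,
    map_mul]
  rfl

section finite

variable [Fintype F] [DecidableEq F]

/-- the principal series functions of `GL₂` -/
noncomputable def ps (α β : MulChar F ℂ) : GL (Fin 2) F → ℂ :=
  indFun (Cfsg.upperTriangularGL 2 F)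
    (borelChar (MonoidHom.id (GL (Fin 2) F)) (Cfsg.upperTriangularGL 2 F) α β)

theorem isCharacter_ps (α β : MulChar F ℂ) : IsCharacter (GL (Fin 2) F) (ps α β) :=
  isCharacter_indFun _ (isCharacter_of_isIrrCharacter (isIrrCharacter_borelChar isBorelOf_id α β))

theorem ps_apply (α β : MulChar F ℂ) (g : GL (Fin 2) F) :
    ps α β g =
    (if (g : Matrix (Fin 2) (Fin 2) F) 1 0 = 0 then α ((g : Matrix (Fin 2) (Fin 2) F) 0 0) *
        β ((g : Matrix (Fin 2) (Fin 2) F) 1 1) else 0) +
      ∑ x : F, if (g : Matrix (Fin 2) (Fin 2) F) 1 0 * x ^ 2 +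
          ((g : Matrix (Fin 2) (Fin 2) F) 1 1 - (g : Matrix (Fin 2) (Fin 2) F) 0 0) * x -
          (g : Matrix (Fin 2) (Fin 2) F) 0 1 = 0 then
        α ((g : Matrix (Fin 2) (Fin 2) F) 1 0 * x + (g : Matrix (Fin 2) (Fin 2) F) 1 1) *
          β ((g : Matrix (Fin 2) (Fin 2) F) 0 0 - (g : Matrix (Fin 2) (Fin 2) F) 1 0 * x)
        else 0 := by
  unfold ps
  rw [indFun_borelChar borelReps_GL]
  rfl

theorem ps_one (α β : MulChar F ℂ) : ps α β 1 = (Fintype.card F : ℂ) + 1 := by
  rw [ps_apply]
  simp only [Units.val_one, Matrix.one_apply_eq, Matrix.one_apply_ne,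
    ne_eq, one_ne_zero, not_false_eq_true, zero_ne_one, if_true, zero_mul, sub_self, zero_add,
    sub_zero, map_one, mul_one, Finset.sum_const, Finset.card_univ, nsmul_eq_mul, add_zero]
  ring

theorem classInner_ps (α β α' β' : MulChar F ℂ) :
    classInner (ps α β) (ps α' β') =
      (if α = α' ∧ β = β' then 1 else 0) + (if α = β' ∧ β = α' then 1 else 0) :=
  classInner_indFun_GL α β α' β'

theorem isIrrCharacter_ps (α β : MulChar F ℂ) (h : α ≠ β) :
    IsIrrCharacter (GL (Fin 2) F) (ps α β) := by
  classical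
  letI : Fintype (IrrCharacter (GL (Fin 2) F)) := irrFintype
  rw [isIrrCharacter_iff, classInner_ps]
  refine ⟨isCharacter_ps α β, ?_⟩
  rw [if_pos ⟨rfl, rfl⟩, if_neg (fun h' => h h'.1), add_zero]

theorem classInner_ps_detChar (α : MulChar F ℂ) : classInner (ps α α) (detChar α) = 1 := by
  classical
  haveI : Fintype (Cfsg.upperTriangularGL 2 F) := Fintype.ofFinite _
  unfold ps
  rw [frobenius_reciprocity _ _ (isClassFunction_of_isIrrCharacter (isIrrCharacter_detChar α))]
  have : (fun h : Cfsg.upperTriangularGL 2 F => detChar α (h : GL (Fin 2) F)) =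
      borelChar (MonoidHom.id (GL (Fin 2) F)) (Cfsg.upperTriangularGL 2 F) α α := by
    funext b
    exact detChar_borel α b
  rw [this, irr_orthogonality (isIrrCharacter_borelChar isBorelOf_id α α)
    (isIrrCharacter_borelChar isBorelOf_id α α), if_pos rfl]

/-- the twisted Steinberg characters of `GL₂` -/
noncomputable def st (α : MulChar F ℂ) : GL (Fin 2) F → ℂ := ps α α - detChar α

theorem ps_self (α : MulChar F ℂ) : ps α α = detChar α + st α := by
  unfold st
  abel

theorem isIrrCharacter_st (α : MulChar F ℂ) : IsIrrCharacter (GL (Fin 2) F) (st α) := by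
  have hnorm : classInner (ps α α) (ps α α) = 2 := by
    rw [classInner_ps, if_pos ⟨rfl, rfl⟩]
    norm_num
  obtain ⟨χ₁, χ₂, h1, h2, hne, hsum⟩ := exists_two_irr_of_norm_two (isCharacter_ps α α) hnorm
  have h3 := classInner_ps_detChar α
  rw [hsum, classInner_add_left, irr_orthogonality h1 (isIrrCharacter_detChar α),
    irr_orthogonality h2 (isIrrCharacter_detChar α)] at h3
  by_cases hc1 : χ₁ = detChar α
  · have : st α = χ₂ := by
      unfold st
      rw [hsum, hc1]
      abel
    rw [this]
    exact h2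
  · rw [if_neg hc1, zero_add] at h3
    by_cases hc2 : χ₂ = detChar α
    · have : st α = χ₁ := by
        unfold st
        rw [hsum, hc2]
        abel
      rw [this]
      exact h1
    · rw [if_neg hc2] at h3
      norm_num at h3

theorem st_one (α : MulChar F ℂ) : st α 1 = (Fintype.card F : ℂ) := by
  unfold st
  rw [Pi.sub_apply, ps_one, detChar_one]
  ring

end finite

end Cfsg.Agent.Helper12
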