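import Mathlib
import Cfsg.Agent.Lib.Helper12.GL2Irr

set_option autoImplicit false

namespace Cfsg.Agent.Helper12

open Cfsg Cfsg.Agent.Helper24

open scoped ComplexConjugate

variable {F : Type*} [Field F] [Fintype F] [DecidableEq F]

/-! ### dual orthogonality for the multiplicative characters of a finite field -/

theorem sum_mulChar_apply_eq_zero [Fintype (MulChar F ℂ)] {a : F} (ha : a ≠ 1) :
    ∑ χ : MulChar F ℂ, χ a = 0 := by
  obtain ⟨χ, hχ⟩ := MulChar.exists_apply_ne_one_of_hasEnoughRootsOfUnity F ℂ ha
  refine eq_zero_of_mul_eq_self_left hχ ?_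
  simp only [Finset.mul_sum, ← MulChar.mul_apply]
  exact Fintype.sum_bijective _ (Group.mulLeft_bijective χ) _ _ fun χ' ↦ rfl

theorem card_mulChar [Fintype (MulChar F ℂ)] :
    Fintype.card (MulChar F ℂ) = Fintype.card F - 1 := by
  rw [← Nat.card_eq_fintype_card, MulChar.card_eq_card_units_of_hasEnoughRootsOfUnity F ℂ,
    Nat.card_eq_fintype_card, Fintype.card_units]

theorem sum_mulChar_mul_conj [Fintype (MulChar F ℂ)] (a b : Fˣ) :
    ∑ χ : MulChar F ℂ, χ (a : F) * conj (χ (b : F)) =
      if a = b then ((Fintype.card F : ℂ) - 1) else 0 := by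
  have h1 : ∀ χ : MulChar F ℂ, χ (a : F) * conj (χ (b : F)) = χ ((a * b⁻¹ : Fˣ) : F) := by
    intro χ
    have : conj (χ (b : F)) = χ⁻¹ (b : F) := MulChar.star_apply' χ (b : F)
    rw [this, MulChar.inv_apply', Units.val_mul, map_mul, Units.val_inv_eq_inv_val]
  rw [Finset.sum_congr rfl (fun χ _ => h1 χ)]
  split_ifs with h
  · rw [h, mul_inv_cancel, Units.val_one]
    simp only [map_one, Finset.sum_const, Finset.card_univ, nsmul_eq_mul, mul_one]
    rw [card_mulChar, Nat.cast_sub Fintype.card_pos, Nat.cast_one]
  · apply sum_mulChar_apply_eq_zero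
    intro h'
    apply h
    have : a * b⁻¹ = 1 := Units.ext (by rw [h', Units.val_one])
    exact mul_inv_eq_one.1 this

/-! ### distinctness of the families -/

theorem det_borelMatGL (s t : Fˣ) (u : F) :
    ((borelMatGL s t u : GL (Fin 2) F) : Matrix (Fin 2) (Fin 2) F).det = (s : F) * (t : F) := by
  rw [borelMatGL_coe, Matrix.det_fin_two_of]
  ring

theorem detChar_injective : Function.Injective (detChar (F := F)) := by
  intro α β h
  apply MulChar.ext
  intro a
  have := congrFun h (borelMatGL a 1 0)
  rw [detChar_apply, detChar_apply, det_borelMatGL, Units.val_one, mul_one] at this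
  exact this

theorem two_le_card : 2 ≤ Fintype.card F := Fintype.one_lt_card

theorem card_cast_ne_one : (Fintype.card F : ℂ) ≠ 1 := by
  have := two_le_card (F := F)
  intro h
  have : Fintype.card F = 1 := by exact_mod_cast h
  omega

theorem st_ne_detChar (α β : MulChar F ℂ) : st α ≠ detChar β := by
  intro h
  have := congrFun h 1
  rw [st_one, detChar_one] at this
  exact card_cast_ne_one this

theorem ps_ne_detChar (α β γ : MulChar F ℂ) : ps α β ≠ detChar γ := by
  intro h
  have := congrFun h 1
  rw [ps_one, detChar_one] at this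
  have h2 : (Fintype.card F : ℂ) = 0 := by linear_combination this
  have : Fintype.card F = 0 := by exact_mod_cast h2
  have := two_le_card (F := F)
  omega

theorem ps_ne_st (α β γ : MulChar F ℂ) : ps α β ≠ st γ := by
  intro h
  have := congrFun h 1
  rw [ps_one, st_one] at this
  have h2 : (1 : ℂ) = 0 := by linear_combination this
  exact one_ne_zero h2

theorem classInner_detChar_st (α β : MulChar F ℂ) : classInner (detChar α) (st β) = 0 := by
  rw [irr_orthogonality (isIrrCharacter_detChar α) (isIrrCharacter_st β),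
    if_neg (fun h => st_ne_detChar β α h.symm)]

theorem classInner_st_detChar (α β : MulChar F ℂ) : classInner (st α) (detChar β) = 0 := by
  rw [irr_orthogonality (isIrrCharacter_st α) (isIrrCharacter_detChar β),
    if_neg (st_ne_detChar α β)]

theorem st_injective : Function.Injective (st (F := F)) := by
  intro α β h
  have h1 := classInner_ps α α β β
  rw [ps_self α, ps_self β, classInner_add_left, classInner_add_right, classInner_add_right,
    classInner_detChar_st, classInner_st_detChar, h,
    irr_orthogonality (isIrrCharacter_st β) (isIrrCharacter_st β), if_pos rfl,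
    irr_orthogonality (isIrrCharacter_detChar α) (isIrrCharacter_detChar β)] at h1
  by_contra hne
  have e1 : (if α = β ∧ α = β then (1 : ℂ) else 0) = 0 := if_neg (fun h => hne h.1)
  have e2 : (if detChar α = detChar β then (1 : ℂ) else 0) = 0 :=
    if_neg (fun h => hne (detChar_injective h))
  rw [e1, e2] at h1
  norm_num at h1

theorem ps_eq_ps_iff (α β α' β' : MulChar F ℂ) :
    ps α β = ps α' β' ↔ (α = α' ∧ β = β') ∨ (α = β' ∧ β = α') := by
  constructor
  · intro h
    have h1 := classInner_ps α β α β
    have h2 := classInner_ps α β α' β'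
    rw [← h, h1] at h2
    by_contra hcon
    push Not at hcon
    have e3 : (if α = α' ∧ β = β' then (1 : ℂ) else 0) = 0 := if_neg (fun h => hcon.1 h.1 h.2)
    have e4 : (if α = β' ∧ β = α' then (1 : ℂ) else 0) = 0 := if_neg (fun h => hcon.2 h.1 h.2)
    have e1 : (if α = α ∧ β = β then (1 : ℂ) else 0) = 1 := if_pos ⟨rfl, rfl⟩
    rw [e1, e3, e4] at h2
    split_ifs at h2 <;> norm_num at h2
  · rintro (⟨rfl, rfl⟩ | ⟨rfl, rfl⟩)
    · rfl
    · by_cases hαβ : α = β
      · rw [hαβ]
      · have hirr1 := isIrrCharacter_ps α β hαβ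
        have hirr2 := isIrrCharacter_ps β α (fun h => hαβ h.symm)
        have h1 := irr_orthogonality hirr1 hirr2
        rw [classInner_ps, if_neg (fun h => hαβ h.1), if_pos ⟨rfl, rfl⟩] at h1
        by_contra hne
        rw [if_neg hne] at h1
        norm_num at h1

/-! ### cuspidal characters -/

/-- an irreducible character of `GL₂` is cuspidal when it is orthogonal to the principal series -/
def IsCuspidalGL2 (χ : GL (Fin 2) F → ℂ) : Prop := ∀ α β : MulChar F ℂ, classInner (ps α β) χ = 0

theorem noncuspidal_cases {χ : GL (Fin 2) F → ℂ} (hχ : IsIrrCharacter (GL (Fin 2) F) χ)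
    (h : ¬ IsCuspidalGL2 χ) :
    (∃ α, χ = detChar α) ∨ (∃ α, χ = st α) ∨ (∃ α β, α ≠ β ∧ χ = ps α β) := by
  unfold IsCuspidalGL2 at h
  push Not at h
  obtain ⟨α, β, hne⟩ := h
  by_cases hαβ : α = β
  · subst hαβ
    rw [ps_self, classInner_add_left, irr_orthogonality (isIrrCharacter_detChar α) hχ,
      irr_orthogonality (isIrrCharacter_st α) hχ] at hne
    by_cases h1 : detChar α = χ
    · left; exact ⟨α, h1.symm⟩
    · by_cases h2 : st α = χ
      · right; left; exact ⟨α, h2.symm⟩
      · rw [if_neg h1, if_neg h2] at hne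
        norm_num at hne
  · right; right
    refine ⟨α, β, hαβ, ?_⟩
    rw [irr_orthogonality (isIrrCharacter_ps α β hαβ) hχ] at hne
    by_contra h1
    rw [if_neg (fun h => h1 h.symm)] at hne
    exact hne rfl

theorem not_cuspidal_detChar (α : MulChar F ℂ) : ¬ IsCuspidalGL2 (detChar α) := by
  intro h
  have := h α α
  rw [classInner_ps_detChar] at this
  exact one_ne_zero this

theorem not_cuspidal_st (α : MulChar F ℂ) : ¬ IsCuspidalGL2 (st α) := by
  intro h
  have := h α α
  rw [ps_self, classInner_add_left, classInner_detChar_st,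
    irr_orthogonality (isIrrCharacter_st α) (isIrrCharacter_st α), if_pos rfl] at this
  norm_num at this

theorem not_cuspidal_ps (α β : MulChar F ℂ) (hαβ : α ≠ β) : ¬ IsCuspidalGL2 (ps α β) := by
  intro h
  have := h α β
  rw [classInner_ps, if_pos ⟨rfl, rfl⟩, if_neg (fun h => hαβ h.1)] at this
  norm_num at this

end Cfsg.Agent.Helper12
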