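import Mathlib
import Cfsg.Agent.Lib.Helper12.GL2Irr2

set_option autoImplicit false

namespace Cfsg.Agent.Helper12

open Cfsg Cfsg.Agent.Helper24

open scoped ComplexConjugate

variable {F : Type*} [Field F] [Fintype F] [DecidableEq F]

/-- the orthogonality of a class function to a principal series function, written out on the
Borel subgroup -/
theorem sum_borel_eq_zero_of_classInner {χ : GL (Fin 2) F → ℂ}
    (hcf : IsClassFunction (GL (Fin 2) F) χ) (α β : MulChar F ℂ)
    (h : classInner (ps α β) χ = 0) :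
    ∑ p : Fˣ × Fˣ, α (p.1 : F) * β (p.2 : F) *
      ∑ u : F, conj (χ (borelMatGL p.1 p.2 u)) = 0 := by
  classical
  haveI : Fintype (Cfsg.upperTriangularGL 2 F) := Fintype.ofFinite _
  unfold ps at h
  rw [frobenius_reciprocity _ _ hcf] at h
  unfold classInner at h
  have hB : (Nat.card (Cfsg.upperTriangularGL 2 F) : ℂ) ≠ 0 := by
    have : 0 < Nat.card (Cfsg.upperTriangularGL 2 F) := Nat.card_pos
    exact_mod_cast this.ne'
  have h1 := (mul_eq_zero.1 h).resolve_left (inv_ne_zero hB)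
  rw [← Equiv.sum_comp (borelEquivGL (F := F)), Fintype.sum_prod_type] at h1
  rw [← h1]
  refine Finset.sum_congr rfl fun p _ => ?_
  rw [Finset.mul_sum]
  refine Finset.sum_congr rfl fun u _ => ?_
  rw [borelChar_apply, borelParam_GL.ent00, borelParam_GL.ent11]
  rfl

theorem cuspidal_sum_eq_zero [Fintype (MulChar F ℂ)] {χ : GL (Fin 2) F → ℂ}
    (hcf : IsClassFunction (GL (Fin 2) F) χ) (hc : IsCuspidalGL2 χ) (s t : Fˣ) :
    ∑ u : F, χ (borelMatGL s t u) = 0 := by
  set S : Fˣ × Fˣ → ℂ := fun p => ∑ u : F, conj (χ (borelMatGL p.1 p.2 u)) with hS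
  have h0 : ∀ α β : MulChar F ℂ, ∑ p : Fˣ × Fˣ, α (p.1 : F) * β (p.2 : F) * S p = 0 :=
    fun α β => sum_borel_eq_zero_of_classInner hcf α β (hc α β)
  have hT : ∑ α : MulChar F ℂ, ∑ β : MulChar F ℂ, conj (α (s : F)) * conj (β (t : F)) *
      ∑ p : Fˣ × Fˣ, α (p.1 : F) * β (p.2 : F) * S p = 0 := by
    apply Finset.sum_eq_zero
    intro α _
    apply Finset.sum_eq_zero
    intro β _
    rw [h0, mul_zero]
  have hT2 : ∑ α : MulChar F ℂ, ∑ β : MulChar F ℂ, conj (α (s : F)) * conj (β (t : F)) *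
      ∑ p : Fˣ × Fˣ, α (p.1 : F) * β (p.2 : F) * S p =
      ∑ p : Fˣ × Fˣ, (∑ α : MulChar F ℂ, α (p.1 : F) * conj (α (s : F))) *
        (∑ β : MulChar F ℂ, β (p.2 : F) * conj (β (t : F))) * S p := by
    calc ∑ α : MulChar F ℂ, ∑ β : MulChar F ℂ, conj (α (s : F)) * conj (β (t : F)) *
          ∑ p : Fˣ × Fˣ, α (p.1 : F) * β (p.2 : F) * S p
        = ∑ α : MulChar F ℂ, ∑ β : MulChar F ℂ, ∑ p : Fˣ × Fˣ,
            conj (α (s : F)) * conj (β (t : F)) * (α (p.1 : F) * β (p.2 : F) * S p) := by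
          simp only [Finset.mul_sum]
      _ = ∑ α : MulChar F ℂ, ∑ p : Fˣ × Fˣ, ∑ β : MulChar F ℂ,
            conj (α (s : F)) * conj (β (t : F)) * (α (p.1 : F) * β (p.2 : F) * S p) :=
          Finset.sum_congr rfl (fun α _ => Finset.sum_comm)
      _ = ∑ p : Fˣ × Fˣ, ∑ α : MulChar F ℂ, ∑ β : MulChar F ℂ,
            conj (α (s : F)) * conj (β (t : F)) * (α (p.1 : F) * β (p.2 : F) * S p) :=
          Finset.sum_comm
      _ = _ := by
          refine Finset.sum_congr rfl fun p _ => ?_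
          rw [Finset.sum_mul_sum, Finset.sum_mul]
          refine Finset.sum_congr rfl fun α _ => ?_
          rw [Finset.sum_mul]
          refine Finset.sum_congr rfl fun β _ => ?_
          ring
  rw [hT2] at hT
  simp only [sum_mulChar_mul_conj] at hT
  rw [Finset.sum_eq_single (s, t)] at hT
  · rw [if_pos rfl, if_pos rfl] at hT
    have hq := card_sub_one_ne_zero (F := F)
    have hS0 : S (s, t) = 0 := by
      rcases mul_eq_zero.1 hT with h | h
      · rcases mul_eq_zero.1 h with h | h <;> exact absurd h hq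
      · exact h
    rw [hS] at hS0
    simp only at hS0
    rw [← map_sum] at hS0
    exact (map_eq_zero (starRingEnd ℂ)).1 hS0
  · intro p _ hp
    by_cases h1 : p.1 = s
    · have h2 : p.2 ≠ t := fun h2 => hp (Prod.ext h1 h2)
      rw [if_neg h2, mul_zero, zero_mul]
    · rw [if_neg h1, zero_mul, zero_mul]
  · intro h
    exact absurd (Finset.mem_univ _) h

end Cfsg.Agent.Helper12
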