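import Mathlib
import Cfsg.Agent.Lib.Helper12.GL2Irr3
import Cfsg.Agent.Lib.Helper24.CharLinear

set_option autoImplicit false

namespace Cfsg.Agent.Helper12

open Cfsg Cfsg.Agent.Helper24

open scoped ComplexConjugate

variable {F : Type*} [Field F] [Fintype F] [DecidableEq F]

omit [Fintype F] [DecidableEq F] in
theorem borelMatGL_one_one_zero : borelMatGL (1 : Fˣ) 1 (0 : F) = 1 := by
  apply Matrix.GeneralLinearGroup.ext
  intro i j
  fin_cases i <;> fin_cases j <;> simp [borelMatGL_coe]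

omit [Fintype F] [DecidableEq F] in
theorem borelMatGL_mul (s t s' t' : Fˣ) (u u' : F) :
    borelMatGL s t u * borelMatGL s' t' u' = borelMatGL (s * s') (t * t') (s * u' + u * t') := by
  apply Matrix.GeneralLinearGroup.ext
  intro i j
  rw [Matrix.GeneralLinearGroup.coe_mul, borelMatGL_coe, borelMatGL_coe, borelMatGL_coe]
  fin_cases i <;> fin_cases j <;> simp [Matrix.mul_apply, Fin.sum_univ_two]

omit [Fintype F] [DecidableEq F] in
/-- conjugating a unipotent element by a diagonal one -/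
theorem classFunction_unipotent {χ : GL (Fin 2) F → ℂ}
    (hcf : IsClassFunction (GL (Fin 2) F) χ) (u : F) (hu : u ≠ 0) :
    χ (borelMatGL 1 1 u) = χ (borelMatGL 1 1 1) := by
  have h := hcf (borelMatGL 1 1 1) (borelMatGL (Units.mk0 u hu) 1 0)
  rw [← h]
  congr 1
  rw [eq_mul_inv_iff_mul_eq, borelMatGL_mul, borelMatGL_mul]
  simp

omit [Fintype F] [DecidableEq F] in
/-- conjugating a regular diagonal element by a unipotent one -/
theorem classFunction_split {χ : GL (Fin 2) F → ℂ}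
    (hcf : IsClassFunction (GL (Fin 2) F) χ) (s t : Fˣ) (hst : s ≠ t) (u : F) :
    χ (borelMatGL s t u) = χ (borelMatGL s t 0) := by
  have hne : (t : F) - (s : F) ≠ 0 := by
    intro h
    apply hst
    exact Units.ext (sub_eq_zero.1 h).symm
  have h := hcf (borelMatGL s t 0) (borelMatGL 1 1 (u / ((t : F) - (s : F))))
  rw [← h]
  congr 1
  rw [eq_mul_inv_iff_mul_eq, borelMatGL_mul, borelMatGL_mul]
  congr 1
  · rw [mul_comm]
  · rw [mul_comm]
  · simp only [Units.val_one, one_mul, mul_zero, zero_mul, add_zero, zero_add]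
    field_simp
    ring

theorem cuspidal_unipotent [Fintype (MulChar F ℂ)] {χ : GL (Fin 2) F → ℂ}
    (hcf : IsClassFunction (GL (Fin 2) F) χ) (hc : IsCuspidalGL2 χ) :
    χ 1 + ((Fintype.card F : ℂ) - 1) * χ (borelMatGL 1 1 1) = 0 := by
  have h := cuspidal_sum_eq_zero hcf hc 1 1
  rw [← Finset.add_sum_erase Finset.univ _ (Finset.mem_univ (0 : F)), borelMatGL_one_one_zero] at h
  have h2 : ∀ u ∈ Finset.univ.erase (0 : F), χ (borelMatGL 1 1 u) = χ (borelMatGL 1 1 1) := by
    intro u hu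
    exact classFunction_unipotent hcf u (Finset.ne_of_mem_erase hu)
  rw [Finset.sum_congr rfl h2, Finset.sum_const, Finset.card_erase_of_mem (Finset.mem_univ _),
    Finset.card_univ, nsmul_eq_mul, Nat.cast_sub Fintype.card_pos, Nat.cast_one] at h
  exact h

theorem cuspidal_split [Fintype (MulChar F ℂ)] {χ : GL (Fin 2) F → ℂ}
    (hcf : IsClassFunction (GL (Fin 2) F) χ) (hc : IsCuspidalGL2 χ) (s t : Fˣ) (hst : s ≠ t) :
    χ (borelMatGL s t 0) = 0 := by
  have h := cuspidal_sum_eq_zero hcf hc s t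
  rw [Finset.sum_congr rfl (fun u _ => classFunction_split hcf s t hst u), Finset.sum_const,
    Finset.card_univ, nsmul_eq_mul] at h
  have hq : (Fintype.card F : ℂ) ≠ 0 := by
    have : 0 < Fintype.card F := Fintype.card_pos
    exact_mod_cast this.ne'
  exact (mul_eq_zero.1 h).resolve_left hq

/-- the degree of a cuspidal irreducible character is divisible by `q - 1` -/
theorem cuspidal_degree_dvd [Fintype (MulChar F ℂ)] {χ : GL (Fin 2) F → ℂ}
    (hχ : IsIrrCharacter (GL (Fin 2) F) χ) (hc : IsCuspidalGL2 χ) (n : ℕ) (hn : χ 1 = n) :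
    (Fintype.card F - 1) ∣ n := by
  have hcf := isClassFunction_of_isIrrCharacter hχ
  have h := cuspidal_unipotent hcf hc
  have hq1 : 1 < Fintype.card F := Fintype.one_lt_card
  have hq : ((Fintype.card F - 1 : ℕ) : ℂ) = (Fintype.card F : ℂ) - 1 := by
    rw [Nat.cast_sub hq1.le, Nat.cast_one]
  have hq0 : ((Fintype.card F - 1 : ℕ) : ℚ) ≠ 0 := by
    have : Fintype.card F - 1 ≠ 0 := by omega
    exact_mod_cast this
  have hq0' : ((Fintype.card F - 1 : ℕ) : ℂ) ≠ 0 := by
    have : Fintype.card F - 1 ≠ 0 := by omega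
    exact_mod_cast this
  have hint := isIntegral_of_isCharacter (isCharacter_of_isIrrCharacter hχ) (borelMatGL 1 1 1)
  have hval : χ (borelMatGL 1 1 1) = algebraMap ℚ ℂ (-(n : ℚ) / ((Fintype.card F - 1 : ℕ) : ℚ)) := by
    rw [hn, ← hq] at h
    have : χ (borelMatGL 1 1 1) = -(n : ℂ) / ((Fintype.card F - 1 : ℕ) : ℂ) := by
      field_simp
      linear_combination h
    rw [this]
    simp
  rw [hval, isIntegral_algebraMap_iff (algebraMap ℚ ℂ).injective] at hint
  obtain ⟨m, hm⟩ := IsIntegrallyClosed.isIntegral_iff.mp hint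
  have h3 : (m : ℚ) * ((Fintype.card F - 1 : ℕ) : ℚ) = -(n : ℚ) := by
    have : (algebraMap ℤ ℚ m) = (m : ℚ) := rfl
    rw [this] at hm
    rw [hm]
    field_simp
  have h4 : (-m) * ((Fintype.card F - 1 : ℕ) : ℤ) = (n : ℤ) := by
    have : ((-m : ℤ) : ℚ) * (((Fintype.card F - 1 : ℕ) : ℤ) : ℚ) = ((n : ℤ) : ℚ) := by
      push_cast
      linear_combination (-1 : ℚ) * h3
    exact_mod_cast this
  have h5 : ((Fintype.card F - 1 : ℕ) : ℤ) ∣ (n : ℤ) := ⟨-m, by rw [← h4]; ring⟩
  exact_mod_cast h5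

end Cfsg.Agent.Helper12
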