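import Mathlib
import Cfsg.Agent.Lib.Helper12.GL2Irr4
import Cfsg.Agent.Lib.Helper12.GL2Classes

set_option autoImplicit false

namespace Cfsg.Agent.Helper12

open Cfsg Cfsg.Agent.Helper24

open scoped ComplexConjugate

variable {F : Type*} [Field F] [Fintype F] [DecidableEq F]

/-- the principal series as a function of the unordered pair of characters -/
noncomputable def psSym : Sym2 (MulChar F ℂ) → (GL (Fin 2) F → ℂ) :=
  Sym2.lift ⟨fun α β => ps α β, fun α β => (ps_eq_ps_iff α β β α).2 (Or.inr ⟨rfl, rfl⟩)⟩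

theorem psSym_mk (α β : MulChar F ℂ) : psSym s(α, β) = ps α β := rfl

theorem isIrrCharacter_psSym (z : Sym2 (MulChar F ℂ)) (hz : ¬ z.IsDiag) :
    IsIrrCharacter (GL (Fin 2) F) (psSym z) := by
  induction z using Sym2.ind with
  | _ α β =>
    rw [Sym2.mk_isDiag_iff] at hz
    rw [psSym_mk]
    exact isIrrCharacter_ps α β hz

theorem psSym_injective (z z' : Sym2 (MulChar F ℂ)) (h : psSym z = psSym z') : z = z' := by
  induction z using Sym2.ind with
  | _ α β =>
    induction z' using Sym2.ind with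
    | _ α' β' =>
      rw [psSym_mk, psSym_mk, ps_eq_ps_iff] at h
      rw [Sym2.eq_iff]
      exact h

theorem psSym_one (z : Sym2 (MulChar F ℂ)) : psSym z 1 = (Fintype.card F : ℂ) + 1 := by
  induction z using Sym2.ind with
  | _ α β => rw [psSym_mk, ps_one]

theorem not_cuspidal_psSym (z : Sym2 (MulChar F ℂ)) (hz : ¬ z.IsDiag) :
    ¬ IsCuspidalGL2 (psSym z) := by
  induction z using Sym2.ind with
  | _ α β =>
    rw [Sym2.mk_isDiag_iff] at hz
    rw [psSym_mk]
    exact not_cuspidal_ps α β hz

/-- the parametrisation of the non-cuspidal irreducible characters -/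
noncomputable def ncMap :
    (MulChar F ℂ ⊕ MulChar F ℂ) ⊕ {z : Sym2 (MulChar F ℂ) // ¬ z.IsDiag} →
      {χ : IrrCharacter (GL (Fin 2) F) // ¬ IsCuspidalGL2 (χ : GL (Fin 2) F → ℂ)}
  | Sum.inl (Sum.inl α) => ⟨⟨detChar α, isIrrCharacter_detChar α⟩, not_cuspidal_detChar α⟩
  | Sum.inl (Sum.inr α) => ⟨⟨st α, isIrrCharacter_st α⟩, not_cuspidal_st α⟩
  | Sum.inr z => ⟨⟨psSym z.1, isIrrCharacter_psSym z.1 z.2⟩, not_cuspidal_psSym z.1 z.2⟩

theorem ncMap_bijective : Function.Bijective (ncMap (F := F)) := by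
  constructor
  · rintro ((α | α) | z) ((β | β) | z') h
    · have h1 : detChar α = detChar β := congrArg (fun x => x.1.1) h
      rw [detChar_injective h1]
    · have h1 : detChar α = st β := congrArg (fun x => x.1.1) h
      exact absurd h1.symm (st_ne_detChar β α)
    · have h1 : detChar α = psSym z'.1 := congrArg (fun x => x.1.1) h
      exfalso
      obtain ⟨z', hz'⟩ := z'
      induction z' using Sym2.ind with
      | _ α' β' => exact ps_ne_detChar α' β' α h1.symm
    · have h1 : st α = detChar β := congrArg (fun x => x.1.1) h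
      exact absurd h1 (st_ne_detChar α β)
    · have h1 : st α = st β := congrArg (fun x => x.1.1) h
      rw [st_injective h1]
    · have h1 : st α = psSym z'.1 := congrArg (fun x => x.1.1) h
      exfalso
      obtain ⟨z', hz'⟩ := z'
      induction z' using Sym2.ind with
      | _ α' β' => exact ps_ne_st α' β' α h1.symm
    · have h1 : psSym z.1 = detChar β := congrArg (fun x => x.1.1) h
      exfalso
      obtain ⟨z, hz⟩ := z
      induction z using Sym2.ind with
      | _ α' β' => exact ps_ne_detChar α' β' β h1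
    · have h1 : psSym z.1 = st β := congrArg (fun x => x.1.1) h
      exfalso
      obtain ⟨z, hz⟩ := z
      induction z using Sym2.ind with
      | _ α' β' => exact ps_ne_st α' β' β h1
    · have h1 : psSym z.1 = psSym z'.1 := congrArg (fun x => x.1.1) h
      have := psSym_injective z.1 z'.1 h1
      rw [Subtype.ext this]
  · rintro ⟨⟨χ, hχ⟩, hc⟩
    rcases noncuspidal_cases hχ hc with ⟨α, rfl⟩ | ⟨α, rfl⟩ | ⟨α, β, hαβ, rfl⟩
    · exact ⟨Sum.inl (Sum.inl α), rfl⟩
    · exact ⟨Sum.inl (Sum.inr α), rfl⟩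
    · exact ⟨Sum.inr ⟨s(α, β), by rw [Sym2.mk_isDiag_iff]; exact hαβ⟩, rfl⟩

end Cfsg.Agent.Helper12
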