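import Mathlib
import Cfsg.Agent.Lib.Helper12.GL2Count

set_option autoImplicit false

namespace Cfsg.Agent.Helper12

open Cfsg Cfsg.Agent.Helper24

open scoped ComplexConjugate

variable {F : Type*} [Field F] [Fintype F] [DecidableEq F]

theorem charDegree_detChar (α : MulChar F ℂ) : charDegree (detChar α) = 1 :=
  charDegree_natCast 1 (by rw [detChar_one]; simp)

theorem charDegree_st (α : MulChar F ℂ) : charDegree (st α) = Fintype.card F :=
  charDegree_natCast _ (st_one α)

theorem charDegree_psSym (z : Sym2 (MulChar F ℂ)) : charDegree (psSym z) = Fintype.card F + 1 :=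
  charDegree_natCast _ (by rw [psSym_one]; push_cast; ring)

theorem card_GL2 : Nat.card (GL (Fin 2) F) =
    (Fintype.card F ^ 2 - 1) * (Fintype.card F ^ 2 - Fintype.card F) := by
  rw [Matrix.card_GL_field, Fin.prod_univ_two]
  simp

theorem two_mul_choose_two (n : ℕ) : 2 * n.choose 2 = n * (n - 1) := by
  rw [Nat.choose_two_right]
  exact Nat.two_mul_div_two_of_even (Nat.even_mul_pred_self n)

section counting

variable [Fintype (MulChar F ℂ)] [Fintype (IrrCharacter (GL (Fin 2) F))]

open Classical in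
theorem card_noncuspidal :
    Fintype.card {χ : IrrCharacter (GL (Fin 2) F) // ¬ IsCuspidalGL2 (χ : GL (Fin 2) F → ℂ)} =
      (Fintype.card F - 1) + (Fintype.card F - 1) + (Fintype.card F - 1).choose 2 := by
  rw [← Fintype.card_congr (Equiv.ofBijective _ (ncMap_bijective (F := F))), Fintype.card_sum,
    Fintype.card_sum, Sym2.card_subtype_not_diag, card_mulChar]

open Classical in
theorem sum_sq_noncuspidal :
    ∑ χ : {χ : IrrCharacter (GL (Fin 2) F) // ¬ IsCuspidalGL2 (χ : GL (Fin 2) F → ℂ)},
      charDegree ((χ : IrrCharacter (GL (Fin 2) F)) : GL (Fin 2) F → ℂ) ^ 2 =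
      (Fintype.card F - 1) + (Fintype.card F - 1) * Fintype.card F ^ 2 +
        (Fintype.card F - 1).choose 2 * (Fintype.card F + 1) ^ 2 := by
  rw [← Equiv.sum_comp (Equiv.ofBijective _ (ncMap_bijective (F := F))), Fintype.sum_sum_type,
    Fintype.sum_sum_type]
  have h1 : ∀ α : MulChar F ℂ, charDegree ((((Equiv.ofBijective _ (ncMap_bijective (F := F)))
      (Sum.inl (Sum.inl α))) : IrrCharacter (GL (Fin 2) F)) : GL (Fin 2) F → ℂ) ^ 2 = 1 := by
    intro α
    change charDegree (detChar α) ^ 2 = 1
    rw [charDegree_detChar]; norm_num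
  have h2 : ∀ α : MulChar F ℂ, charDegree ((((Equiv.ofBijective _ (ncMap_bijective (F := F)))
      (Sum.inl (Sum.inr α))) : IrrCharacter (GL (Fin 2) F)) : GL (Fin 2) F → ℂ) ^ 2 =
      Fintype.card F ^ 2 := by
    intro α
    change charDegree (st α) ^ 2 = _
    rw [charDegree_st]
  have h3 : ∀ z : {z : Sym2 (MulChar F ℂ) // ¬ z.IsDiag},
      charDegree ((((Equiv.ofBijective _ (ncMap_bijective (F := F)))
      (Sum.inr z)) : IrrCharacter (GL (Fin 2) F)) : GL (Fin 2) F → ℂ) ^ 2 =
      (Fintype.card F + 1) ^ 2 := by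
    intro z
    change charDegree (psSym z.1) ^ 2 = _
    rw [charDegree_psSym]
  rw [Finset.sum_congr rfl (fun α _ => h1 α), Finset.sum_congr rfl (fun α _ => h2 α),
    Finset.sum_congr rfl (fun z _ => h3 z)]
  simp only [Finset.sum_const, Finset.card_univ, smul_eq_mul, mul_one]
  rw [Sym2.card_subtype_not_diag, card_mulChar]

end counting

end Cfsg.Agent.Helper12
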