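import Mathlib
import Cfsg.Agent.Lib.Helper12.GL2Count2

set_option autoImplicit false

namespace Cfsg.Agent.Helper12

open Cfsg Cfsg.Agent.Helper24

open scoped ComplexConjugate

variable {F : Type*} [Field F] [Fintype F] [DecidableEq F]

open Classical in
/-- the cuspidal characters of `GL₂(q)` have degree `q - 1`, and there are `q (q - 1) / 2` of
them -/
theorem cuspidal_counting [Fintype (MulChar F ℂ)] [Fintype (IrrCharacter (GL (Fin 2) F))] :
    (∀ χ : IrrCharacter (GL (Fin 2) F), IsCuspidalGL2 (χ : GL (Fin 2) F → ℂ) →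
      charDegree (χ : GL (Fin 2) F → ℂ) = Fintype.card F - 1) ∧
    2 * Fintype.card {χ : IrrCharacter (GL (Fin 2) F) // IsCuspidalGL2 (χ : GL (Fin 2) F → ℂ)} =
      Fintype.card F * (Fintype.card F - 1) := by
  have hq2 : 2 ≤ Fintype.card F := two_le_card
  obtain ⟨k, hk⟩ := Nat.exists_eq_add_of_le hq2
  set n := Fintype.card F - 1 with hn
  have hqn : Fintype.card F = n + 1 := by omega
  have hn1 : n = k + 1 := by omega
  set c := n.choose 2 with hc
  have e3 : 2 * c = n * (n - 1) := two_mul_choose_two n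
  set K := Fintype.card {χ : IrrCharacter (GL (Fin 2) F) // IsCuspidalGL2 (χ : GL (Fin 2) F → ℂ)}
    with hK
  -- the number of characters
  have hIrr : Fintype.card (IrrCharacter (GL (Fin 2) F)) = Fintype.card F ^ 2 - 1 := by
    rw [← Nat.card_eq_fintype_card, card_irr_eq_card_conjClasses, card_conjClasses_GL2]
  have e2 : K + (n + n + c) = (n + 1) ^ 2 - 1 := by
    rw [← hqn, ← hIrr, ← card_noncuspidal, hK]
    have := Fintype.sum_subtype_add_sum_subtype
      (fun χ : IrrCharacter (GL (Fin 2) F) => IsCuspidalGL2 (χ : GL (Fin 2) F → ℂ)) (fun _ => 1)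
    simpa using this
  -- the sum of the squares of the degrees
  set S₂ := ∑ χ : {χ : IrrCharacter (GL (Fin 2) F) // IsCuspidalGL2 (χ : GL (Fin 2) F → ℂ)},
      charDegree ((χ : IrrCharacter (GL (Fin 2) F)) : GL (Fin 2) F → ℂ) ^ 2 with hS₂
  have e1 : S₂ + (n + n * (n + 1) ^ 2 + c * (n + 1 + 1) ^ 2) =
      ((n + 1) ^ 2 - 1) * ((n + 1) ^ 2 - (n + 1)) := by
    rw [← hqn, ← card_GL2, ← sum_charDegree_sq, ← sum_sq_noncuspidal, hS₂]
    exact Fintype.sum_subtype_add_sum_subtype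
      (fun χ : IrrCharacter (GL (Fin 2) F) => IsCuspidalGL2 (χ : GL (Fin 2) F → ℂ))
      (fun χ => charDegree (χ : GL (Fin 2) F → ℂ) ^ 2)
  -- integer forms
  have e1' : (S₂ : ℤ) + (n + n * (n + 1) ^ 2 + c * (n + 1 + 1) ^ 2) =
      ((n + 1) ^ 2 - 1) * ((n + 1) ^ 2 - (n + 1)) := by
    have h1 : 1 ≤ (n + 1) ^ 2 := Nat.one_le_pow _ _ (by omega)
    have h2 : n + 1 ≤ (n + 1) ^ 2 := by nlinarith
    have := congrArg (fun x : ℕ => (x : ℤ)) e1
    simp only [Nat.cast_add, Nat.cast_mul, Nat.cast_pow, Nat.cast_one, Nat.cast_sub h1,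
      Nat.cast_sub h2] at this
    exact this
  have e2' : (K : ℤ) + (n + n + c) = (n + 1) ^ 2 - 1 := by
    have h1 : 1 ≤ (n + 1) ^ 2 := Nat.one_le_pow _ _ (by omega)
    have := congrArg (fun x : ℕ => (x : ℤ)) e2
    simp only [Nat.cast_add, Nat.cast_pow, Nat.cast_one, Nat.cast_sub h1] at this
    exact this
  have e3' : 2 * (c : ℤ) = n * (n - 1) := by
    have h1 : 1 ≤ n := by omega
    have := congrArg (fun x : ℕ => (x : ℤ)) e3
    simp only [Nat.cast_mul, Nat.cast_ofNat, Nat.cast_sub h1, Nat.cast_one] at this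
    exact this
  have hSK : (S₂ : ℤ) = (n : ℤ) ^ 2 * K := by
    linear_combination e1' - (n : ℤ) ^ 2 * e2' - 2 * ((n : ℤ) + 1) * e3'
  have hSK' : S₂ = n ^ 2 * K := by exact_mod_cast hSK
  -- divisibility
  have hdvd : ∀ χ : {χ : IrrCharacter (GL (Fin 2) F) // IsCuspidalGL2 (χ : GL (Fin 2) F → ℂ)},
      n ^ 2 ≤ charDegree ((χ : IrrCharacter (GL (Fin 2) F)) : GL (Fin 2) F → ℂ) ^ 2 := by
    intro χ
    have h1 := cuspidal_degree_dvd χ.1.2 χ.2 _ (irr_one_eq_charDegree χ.1.2)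
    have h2 := charDegree_pos χ.1.2
    exact Nat.pow_le_pow_left (Nat.le_of_dvd h2 h1) 2
  have hall : ∀ χ ∈ (Finset.univ : Finset {χ : IrrCharacter (GL (Fin 2) F) //
      IsCuspidalGL2 (χ : GL (Fin 2) F → ℂ)}),
      n ^ 2 = charDegree ((χ : IrrCharacter (GL (Fin 2) F)) : GL (Fin 2) F → ℂ) ^ 2 := by
    rw [← Finset.sum_eq_sum_iff_of_le (fun χ _ => hdvd χ)]
    rw [Finset.sum_const, Finset.card_univ, smul_eq_mul, ← hS₂, hSK', mul_comm]
  refine ⟨?_, ?_⟩
  · intro χ hχ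
    have := hall ⟨χ, hχ⟩ (Finset.mem_univ _)
    exact (Nat.pow_left_injective (by norm_num : 2 ≠ 0) this).symm
  · have : (2 * (K : ℤ)) = (n + 1) * n := by
      linear_combination 2 * e2' - e3'
    rw [hqn]
    exact_mod_cast this

end Cfsg.Agent.Helper12
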