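import Mathlib
import Cfsg.Agent.Lib.Helper12.GL2Count3

set_option autoImplicit false

namespace Cfsg.Agent.Helper12

open Cfsg Cfsg.Agent.Helper24

open scoped ComplexConjugate

variable {F : Type*} [Field F] [Fintype F] [DecidableEq F]

/-- the classification of the irreducible characters of `GL₂(q)` -/
theorem GL2_irr_cases {χ : GL (Fin 2) F → ℂ} (hχ : IsIrrCharacter (GL (Fin 2) F) χ) :
    (∃ α, χ = detChar α) ∨ (∃ α, χ = st α) ∨ (∃ α β, α ≠ β ∧ χ = ps α β) ∨
      (IsCuspidalGL2 χ ∧ χ 1 = (Fintype.card F : ℂ) - 1) := by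
  classical
  letI : Fintype (IrrCharacter (GL (Fin 2) F)) := irrFintype
  letI : Fintype (MulChar F ℂ) := Fintype.ofFinite _
  by_cases hc : IsCuspidalGL2 χ
  · right; right; right
    refine ⟨hc, ?_⟩
    have h1 := (cuspidal_counting (F := F)).1 ⟨χ, hχ⟩ hc
    rw [irr_one_eq_charDegree hχ]
    change ((charDegree χ : ℕ) : ℂ) = _
    rw [h1, Nat.cast_sub Fintype.card_pos, Nat.cast_one]
  · rcases noncuspidal_cases hχ hc with h | h | h
    · left; exact h
    · right; left; exact h
    · right; right; left; exact h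

theorem card_cast_sub_one_ne_one (h3 : 3 ≤ Fintype.card F) : (Fintype.card F : ℂ) - 1 ≠ 1 := by
  intro h
  have : (Fintype.card F : ℂ) = 2 := by linear_combination h
  have : Fintype.card F = 2 := by exact_mod_cast this
  omega

theorem card_cast_ne_zero : (Fintype.card F : ℂ) ≠ 0 := by
  have : 0 < Fintype.card F := Fintype.card_pos
  exact_mod_cast this.ne'

/-- the number of irreducible characters of degree one -/
theorem card_irr_deg_one (h3 : 3 ≤ Fintype.card F) :
    Nat.card {χ : IrrCharacter (GL (Fin 2) F) // (χ : GL (Fin 2) F → ℂ) 1 = 1} =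
      Fintype.card F - 1 := by
  classical
  letI : Fintype (MulChar F ℂ) := Fintype.ofFinite _
  rw [← card_mulChar (F := F), ← Nat.card_eq_fintype_card (α := MulChar F ℂ)]
  symm
  apply Nat.card_congr
  refine Equiv.ofBijective (fun α => ⟨⟨detChar α, isIrrCharacter_detChar α⟩, detChar_one α⟩) ⟨?_, ?_⟩
  · intro α β h
    exact detChar_injective (congrArg (fun x => x.1.1) h)
  · rintro ⟨⟨χ, hχ⟩, h1⟩
    simp only at h1
    rcases GL2_irr_cases hχ with ⟨α, rfl⟩ | ⟨α, rfl⟩ | ⟨α, β, -, rfl⟩ | ⟨-, hd⟩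
    · exact ⟨α, rfl⟩
    · exfalso
      rw [st_one] at h1
      exact card_cast_ne_one h1
    · exfalso
      rw [ps_one] at h1
      exact card_cast_ne_zero (F := F) (by linear_combination h1)
    · exfalso
      rw [hd] at h1
      exact card_cast_sub_one_ne_one h3 h1

/-- the number of irreducible characters of degree `q` -/
theorem card_irr_deg_q (h3 : 3 ≤ Fintype.card F) :
    Nat.card {χ : IrrCharacter (GL (Fin 2) F) //
      (χ : GL (Fin 2) F → ℂ) 1 = (Fintype.card F : ℂ)} = Fintype.card F - 1 := by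
  classical
  letI : Fintype (MulChar F ℂ) := Fintype.ofFinite _
  rw [← card_mulChar (F := F), ← Nat.card_eq_fintype_card (α := MulChar F ℂ)]
  symm
  apply Nat.card_congr
  refine Equiv.ofBijective (fun α => ⟨⟨st α, isIrrCharacter_st α⟩, st_one α⟩) ⟨?_, ?_⟩
  · intro α β h
    exact st_injective (congrArg (fun x => x.1.1) h)
  · rintro ⟨⟨χ, hχ⟩, h1⟩
    simp only at h1
    rcases GL2_irr_cases hχ with ⟨α, rfl⟩ | ⟨α, rfl⟩ | ⟨α, β, -, rfl⟩ | ⟨-, hd⟩
    · exfalso
      rw [detChar_one] at h1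
      exact card_cast_ne_one h1.symm
    · exact ⟨α, rfl⟩
    · exfalso
      rw [ps_one] at h1
      exact one_ne_zero (by linear_combination h1 : (1 : ℂ) = 0)
    · exfalso
      rw [hd] at h1
      exact one_ne_zero (by linear_combination (-1 : ℂ) * h1 : (1 : ℂ) = 0)

/-- the number of irreducible characters of degree `q + 1` -/
theorem card_irr_deg_q_add_one (h3 : 3 ≤ Fintype.card F) :
    Nat.card {χ : IrrCharacter (GL (Fin 2) F) //
      (χ : GL (Fin 2) F → ℂ) 1 = (Fintype.card F : ℂ) + 1} =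
      (Fintype.card F - 1) * (Fintype.card F - 2) / 2 := by
  classical
  letI : Fintype (MulChar F ℂ) := Fintype.ofFinite _
  have hc : Fintype.card {z : Sym2 (MulChar F ℂ) // ¬ z.IsDiag} =
      (Fintype.card F - 1) * (Fintype.card F - 2) / 2 := by
    rw [Sym2.card_subtype_not_diag, card_mulChar, Nat.choose_two_right, Nat.sub_sub]
  rw [← hc, ← Nat.card_eq_fintype_card (α := {z : Sym2 (MulChar F ℂ) // ¬ z.IsDiag})]
  symm
  apply Nat.card_congr
  refine Equiv.ofBijective
    (fun z => ⟨⟨psSym z.1, isIrrCharacter_psSym z.1 z.2⟩, psSym_one z.1⟩) ⟨?_, ?_⟩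
  · intro z z' h
    exact Subtype.ext (psSym_injective z.1 z'.1 (congrArg (fun x => x.1.1) h))
  · rintro ⟨⟨χ, hχ⟩, h1⟩
    simp only at h1
    rcases GL2_irr_cases hχ with ⟨α, rfl⟩ | ⟨α, rfl⟩ | ⟨α, β, hαβ, rfl⟩ | ⟨-, hd⟩
    · exfalso
      rw [detChar_one] at h1
      exact card_cast_ne_zero (F := F) (by linear_combination (-1 : ℂ) * h1)
    · exfalso
      rw [st_one] at h1
      exact one_ne_zero (by linear_combination (-1 : ℂ) * h1 : (1 : ℂ) = 0)
    · exact ⟨⟨s(α, β), by rw [Sym2.mk_isDiag_iff]; exact hαβ⟩, rfl⟩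
    · exfalso
      rw [hd] at h1
      have : (2 : ℂ) = 0 := by linear_combination (-1 : ℂ) * h1
      norm_num at this

/-- the number of irreducible characters of degree `q - 1` -/
theorem card_irr_deg_q_sub_one (h3 : 3 ≤ Fintype.card F) :
    Nat.card {χ : IrrCharacter (GL (Fin 2) F) //
      (χ : GL (Fin 2) F → ℂ) 1 = (Fintype.card F : ℂ) - 1} =
      Fintype.card F * (Fintype.card F - 1) / 2 := by
  classical
  letI : Fintype (IrrCharacter (GL (Fin 2) F)) := irrFintype
  letI : Fintype (MulChar F ℂ) := Fintype.ofFinite _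
  have h2 := (cuspidal_counting (F := F)).2
  have hK : Fintype.card {χ : IrrCharacter (GL (Fin 2) F) //
      IsCuspidalGL2 (χ : GL (Fin 2) F → ℂ)} = Fintype.card F * (Fintype.card F - 1) / 2 := by
    rw [← h2]
    simp
  rw [← hK, ← Nat.card_eq_fintype_card (α := {χ : IrrCharacter (GL (Fin 2) F) //
      IsCuspidalGL2 (χ : GL (Fin 2) F → ℂ)})]
  apply Nat.card_congr
  refine Equiv.subtypeEquivRight ?_
  intro χ
  constructor
  · intro h1
    rcases GL2_irr_cases χ.2 with ⟨α, hα⟩ | ⟨α, hα⟩ | ⟨α, β, -, hα⟩ | ⟨hcusp, -⟩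
    · exfalso
      rw [hα, detChar_one] at h1
      exact card_cast_sub_one_ne_one h3 h1.symm
    · exfalso
      rw [hα, st_one] at h1
      exact one_ne_zero (by linear_combination h1 : (1 : ℂ) = 0)
    · exfalso
      rw [hα, ps_one] at h1
      have : (2 : ℂ) = 0 := by linear_combination h1
      norm_num at this
    · exact hcusp
  · intro hc
    rcases GL2_irr_cases χ.2 with ⟨α, hα⟩ | ⟨α, hα⟩ | ⟨α, β, hαβ, hα⟩ | ⟨-, hd⟩
    · exfalso; rw [hα] at hc; exact not_cuspidal_detChar α hc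
    · exfalso; rw [hα] at hc; exact not_cuspidal_st α hc
    · exfalso; rw [hα] at hc; exact not_cuspidal_ps α β hαβ hc
    · exact hd

end Cfsg.Agent.Helper12
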