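import Mathlib
import Cfsg.Agent.Lib.Helper12.GL2Final

set_option autoImplicit false

namespace Cfsg.Agent.Helper12

open Cfsg Cfsg.Agent.Helper24

open scoped ComplexConjugate

variable {F : Type*} [Field F] [Fintype F] [DecidableEq F]

theorem ps_apply_split (α β : MulChar F ℂ) (g : GL (Fin 2) F)
    (h01 : (g : Matrix (Fin 2) (Fin 2) F) 0 1 = 0) (h10 : (g : Matrix (Fin 2) (Fin 2) F) 1 0 = 0)
    (hne : (g : Matrix (Fin 2) (Fin 2) F) 0 0 ≠ (g : Matrix (Fin 2) (Fin 2) F) 1 1) :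
    ps α β g = α ((g : Matrix (Fin 2) (Fin 2) F) 0 0) * β ((g : Matrix (Fin 2) (Fin 2) F) 1 1) +
      α ((g : Matrix (Fin 2) (Fin 2) F) 1 1) * β ((g : Matrix (Fin 2) (Fin 2) F) 0 0) := by
  rw [ps_apply, if_pos h10, h10, h01]
  congr 1
  have hne' : (g : Matrix (Fin 2) (Fin 2) F) 1 1 - (g : Matrix (Fin 2) (Fin 2) F) 0 0 ≠ 0 :=
    fun h => hne (sub_eq_zero.1 h).symm
  rw [Finset.sum_eq_single (0 : F)]
  · simp
  · intro x _ hx
    rw [if_neg]
    intro h
    apply hx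
    have : ((g : Matrix (Fin 2) (Fin 2) F) 1 1 - (g : Matrix (Fin 2) (Fin 2) F) 0 0) * x = 0 := by
      linear_combination h
    rcases mul_eq_zero.1 this with h1 | h1
    · exact absurd h1 hne'
    · exact h1
  · intro h
    exact absurd (Finset.mem_univ _) h

theorem ps_apply_elliptic (α β : MulChar F ℂ) (g : GL (Fin 2) F)
    (hno : ∀ (c : F) (v : Fin 2 → F), v ≠ 0 → (g : Matrix (Fin 2) (Fin 2) F).mulVec v ≠ c • v) :
    ps α β g = 0 := by
  rw [ps_apply]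
  have hc0 : (g : Matrix (Fin 2) (Fin 2) F) 1 0 ≠ 0 := by
    intro hc0
    apply hno ((g : Matrix (Fin 2) (Fin 2) F) 0 0) ![1, 0] (by
      intro h
      have := congrFun h 0
      simp at this)
    ext i
    fin_cases i
    · simp [Matrix.mulVec, dotProduct, Fin.sum_univ_two]
    · simp [Matrix.mulVec, dotProduct, Fin.sum_univ_two, hc0]
  rw [if_neg hc0, zero_add]
  apply Finset.sum_eq_zero
  intro x _
  rw [if_neg]
  intro h
  apply hno ((g : Matrix (Fin 2) (Fin 2) F) 1 0 * x + (g : Matrix (Fin 2) (Fin 2) F) 1 1) ![x, 1] (by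
    intro h
    have := congrFun h 1
    simp at this)
  ext i
  fin_cases i
  · simp [Matrix.mulVec, dotProduct, Fin.sum_univ_two]
    linear_combination (-1 : F) * h
  · simp [Matrix.mulVec, dotProduct, Fin.sum_univ_two]

theorem ps_apply_unipotent (α β : MulChar F ℂ) (g : GL (Fin 2) F)
    (h10 : (g : Matrix (Fin 2) (Fin 2) F) 1 0 = 0)
    (h00 : (g : Matrix (Fin 2) (Fin 2) F) 0 0 = (g : Matrix (Fin 2) (Fin 2) F) 1 1)
    (h01 : (g : Matrix (Fin 2) (Fin 2) F) 0 1 ≠ 0) :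
    ps α β g = α ((g : Matrix (Fin 2) (Fin 2) F) 0 0) * β ((g : Matrix (Fin 2) (Fin 2) F) 0 0) := by
  rw [ps_apply, if_pos h10, h10, ← h00]
  rw [Finset.sum_eq_zero, add_zero]
  intro x _
  rw [if_neg]
  intro h
  apply h01
  linear_combination (-1 : F) * h

omit [DecidableEq F] in
theorem norm_mulChar_eq_one (α : MulChar F ℂ) {a : F} (ha : a ≠ 0) : ‖α a‖ = 1 := by
  have h1 : α a * conj (α a) = 1 := by
    have : conj (α a) = α⁻¹ a := MulChar.star_apply' α a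
    rw [this, ← MulChar.mul_apply, mul_inv_cancel, MulChar.one_apply (isUnit_iff_ne_zero.2 ha)]
  have h2 : (‖α a‖ : ℂ) ^ 2 = 1 := by
    rw [← Complex.mul_conj', h1]
  have h3 : ‖α a‖ ^ 2 = 1 := by exact_mod_cast h2
  have h4 : 0 ≤ ‖α a‖ := norm_nonneg _
  nlinarith

omit [Fintype F] [DecidableEq F] in
theorem eq_borelMatGL (g : GL (Fin 2) F) (h10 : (g : Matrix (Fin 2) (Fin 2) F) 1 0 = 0) :
    ∃ s t : Fˣ, (s : F) = (g : Matrix (Fin 2) (Fin 2) F) 0 0 ∧
      (t : F) = (g : Matrix (Fin 2) (Fin 2) F) 1 1 ∧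
      g = borelMatGL s t ((g : Matrix (Fin 2) (Fin 2) F) 0 1) := by
  have hmem : g ∈ Cfsg.upperTriangularGL 2 F := (mem_upperTriangularGL_two_iff g).2 h10
  refine ⟨Units.mk0 _ (borelGL_entry_00_ne ⟨g, hmem⟩), Units.mk0 _ (borelGL_entry_11_ne ⟨g, hmem⟩),
    rfl, rfl, ?_⟩
  apply Matrix.GeneralLinearGroup.ext
  intro i j
  rw [borelMatGL_coe]
  fin_cases i <;> fin_cases j
  · simp
  · simp
  · simpa using h10
  · simp

end Cfsg.Agent.Helper12
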