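import Mathlib
import Cfsg.Agent.Lib.Helper12.GL2Values
import Cfsg.Agent.Lib.Helper12.SL2Upper
import Cfsg.Agent.Lib.Helper5.Clifford
import Cfsg.Agent.Lib.Helper5.CharCenter
import Cfsg.Agent.Lib.Helper12.CharNormTwo

set_option autoImplicit false

namespace Cfsg.Agent.Helper12

open Cfsg Cfsg.Agent.Helper24 Cfsg.Agent.Helper5

open scoped ComplexConjugate

variable {F : Type*} [Field F]

/-- restriction of a function on `GL₂` to `SL₂` -/
def resSL (π : GL (Fin 2) F → ℂ) : Matrix.SpecialLinearGroup (Fin 2) F → ℂ :=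
  fun g => π (Matrix.SpecialLinearGroup.toGL g)

theorem resSL_apply (π : GL (Fin 2) F → ℂ) (g : Matrix.SpecialLinearGroup (Fin 2) F) :
    resSL π g = π (Matrix.SpecialLinearGroup.toGL g) := rfl

theorem resSL_add (π π' : GL (Fin 2) F → ℂ) : resSL (π + π') = resSL π + resSL π' := rfl

theorem resSL_sub (π π' : GL (Fin 2) F → ℂ) : resSL (π - π') = resSL π - resSL π' := rfl

theorem resSL_mul (π π' : GL (Fin 2) F → ℂ) : resSL (π * π') = resSL π * resSL π' := rfl

theorem resSL_one (π : GL (Fin 2) F → ℂ) : resSL π 1 = π 1 := by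
  rw [resSL_apply, map_one]

theorem isCharacter_resSL {π : GL (Fin 2) F → ℂ} (h : IsCharacter (GL (Fin 2) F) π) :
    IsCharacter (Matrix.SpecialLinearGroup (Fin 2) F) (resSL π) :=
  isCharacter_comp Matrix.SpecialLinearGroup.toGL h

theorem toGL_coe (g : Matrix.SpecialLinearGroup (Fin 2) F) :
    ((Matrix.SpecialLinearGroup.toGL g : GL (Fin 2) F) : Matrix (Fin 2) (Fin 2) F) =
      (g : Matrix (Fin 2) (Fin 2) F) := rfl

theorem resSL_detChar (γ : MulChar F ℂ) : resSL (detChar γ) = fun _ => (1 : ℂ) := by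
  funext g
  rw [resSL_apply, detChar_apply, toGL_coe, g.2, map_one]

theorem resSL_mul_detChar (π : GL (Fin 2) F → ℂ) (γ : MulChar F ℂ) :
    resSL (π * detChar γ) = resSL π := by
  rw [resSL_mul, resSL_detChar]
  funext g
  simp

/-- the image of `SL₂` in `GL₂` is normal -/
theorem range_toGL_normal' :
    (Matrix.SpecialLinearGroup.toGL (n := Fin 2) (R := F)).range.Normal := by
  constructor
  rintro n ⟨g, rfl⟩ x
  have hdet : ((x * Matrix.SpecialLinearGroup.toGL g * x⁻¹ : GL (Fin 2) F) :
      Matrix (Fin 2) (Fin 2) F).det = 1 := by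
    have h1 : Matrix.GeneralLinearGroup.det (x * Matrix.SpecialLinearGroup.toGL g * x⁻¹) =
        Matrix.GeneralLinearGroup.det (Matrix.SpecialLinearGroup.toGL g) := by
      rw [map_mul, map_mul, map_inv, mul_comm, ← mul_assoc, inv_mul_cancel, one_mul]
    have h2 := congrArg (fun u : Fˣ => (u : F)) h1
    simp only [Matrix.GeneralLinearGroup.val_det_apply] at h2
    rw [h2]
    exact g.2
  exact ⟨⟨_, hdet⟩, Matrix.GeneralLinearGroup.ext (fun i j => rfl)⟩

section finite

variable [Fintype F] [DecidableEq F]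

theorem sum_det_one (f : GL (Fin 2) F → ℂ) :
    ∑ g : GL (Fin 2) F, (if (g : Matrix (Fin 2) (Fin 2) F).det = 1 then f g else 0) =
      ∑ s : Matrix.SpecialLinearGroup (Fin 2) F, f (Matrix.SpecialLinearGroup.toGL s) := by
  rw [← Finset.sum_filter]
  symm
  apply Finset.sum_bij (fun s _ => Matrix.SpecialLinearGroup.toGL s)
  · intro s _
    rw [Finset.mem_filter]
    exact ⟨Finset.mem_univ _, s.2⟩
  · intro a _ b _ h
    exact Matrix.SpecialLinearGroup.toGL_injective h
  · intro g hg
    rw [Finset.mem_filter] at hg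
    exact ⟨⟨(g : Matrix (Fin 2) (Fin 2) F), hg.2⟩, Finset.mem_univ _,
      Matrix.GeneralLinearGroup.ext (fun i j => rfl)⟩
  · intro s _
    rfl

theorem card_GL2_eq_mul : (Nat.card (GL (Fin 2) F) : ℂ) =
    ((Fintype.card F : ℂ) - 1) * (Nat.card (Matrix.SpecialLinearGroup (Fin 2) F) : ℂ) := by
  rw [card_GL2, card_SL2]
  have h1 : 1 ≤ Fintype.card F ^ 2 := Nat.one_le_pow _ _ Fintype.card_pos
  have h2 : Fintype.card F ≤ Fintype.card F ^ 2 := by
    have : 0 < Fintype.card F := Fintype.card_pos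
    nlinarith
  push_cast [Nat.cast_sub h1, Nat.cast_sub h2]
  ring

/-- inner products of restrictions to `SL₂` via twists by characters of the determinant -/
theorem classInner_resSL [Fintype (MulChar F ℂ)] (π π' : GL (Fin 2) F → ℂ) :
    classInner (resSL π) (resSL π') =
      ∑ γ : MulChar F ℂ, classInner (π * detChar γ) π' := by
  have hq : (Fintype.card F : ℂ) - 1 ≠ 0 := card_sub_one_ne_zero
  have hS : (Nat.card (Matrix.SpecialLinearGroup (Fin 2) F) : ℂ) ≠ 0 := by
    have : 0 < Nat.card (Matrix.SpecialLinearGroup (Fin 2) F) := Nat.card_pos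
    exact_mod_cast this.ne'
  unfold classInner
  rw [← Finset.mul_sum, Finset.sum_comm]
  have h1 : ∀ g : GL (Fin 2) F, ∑ γ : MulChar F ℂ, (π * detChar γ) g * conj (π' g) =
      if (g : Matrix (Fin 2) (Fin 2) F).det = 1 then
        ((Fintype.card F : ℂ) - 1) * (π g * conj (π' g)) else 0 := by
    intro g
    have h2 : ∀ γ : MulChar F ℂ, (π * detChar γ) g * conj (π' g) =
        γ (g : Matrix (Fin 2) (Fin 2) F).det * (π g * conj (π' g)) := by
      intro γ
      rw [Pi.mul_apply, detChar_apply]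
      ring
    rw [Finset.sum_congr rfl (fun γ _ => h2 γ), ← Finset.sum_mul]
    split_ifs with hd
    · rw [hd]
      simp only [map_one, Finset.sum_const, Finset.card_univ, nsmul_eq_mul, mul_one]
      rw [card_mulChar, Nat.cast_sub Fintype.card_pos, Nat.cast_one]
    · rw [sum_mulChar_apply_eq_zero hd, zero_mul]
  rw [Finset.sum_congr rfl (fun g _ => h1 g)]
  have h3 := sum_det_one (F := F) (fun g => ((Fintype.card F : ℂ) - 1) * (π g * conj (π' g)))
  rw [h3, ← Finset.mul_sum, card_GL2_eq_mul]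
  simp only [resSL_apply]
  field_simp

/-- values of an irreducible character at products with central elements -/
theorem irr_mul_central {G : Type*} [Group G] [Fintype G] {χ : G → ℂ} (hχ : IsIrrCharacter G χ)
    (x a : G) (ha : ∀ y : G, y * a = a * y) : χ (x * a) = χ x * χ a / χ 1 := by
  have h := sum_char_mul_conj hχ x a
  have h1 : ∀ y : G, χ (x * (y * a * y⁻¹)) = χ (x * a) := by
    intro y
    rw [ha y, mul_inv_cancel_right]
  rw [Finset.sum_congr rfl (fun y _ => h1 y), Finset.sum_const, Finset.card_univ, nsmul_eq_mul,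
    ← Nat.card_eq_fintype_card] at h
  have hG : (Nat.card G : ℂ) ≠ 0 := by
    have : 0 < Nat.card G := Nat.card_pos
    exact_mod_cast this.ne'
  apply mul_left_cancel₀ hG
  rw [h]
  ring

theorem irr_central_ne_zero {G : Type*} [Group G] [Fintype G] {χ : G → ℂ}
    (hχ : IsIrrCharacter G χ) (a : G) (ha : ∀ y : G, y * a = a * y) : χ a ≠ 0 := by
  intro h0
  have h := irr_mul_central hχ a⁻¹ a ha
  rw [inv_mul_cancel, h0, mul_zero, zero_div] at h
  obtain ⟨n, hn, h1⟩ := irr_one_eq hχ
  rw [h1] at h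
  have : (n : ℂ) ≠ 0 := by exact_mod_cast hn.ne'
  exact this h

/-- the scalar matrix in `GL₂` -/
noncomputable def scalarGL (a : Fˣ) : GL (Fin 2) F := borelMatGL a a 0

theorem scalarGL_comm (a : Fˣ) (y : GL (Fin 2) F) : y * scalarGL a = scalarGL a * y := by
  apply Matrix.GeneralLinearGroup.ext
  intro i j
  rw [Matrix.GeneralLinearGroup.coe_mul, Matrix.GeneralLinearGroup.coe_mul]
  unfold scalarGL
  rw [borelMatGL_coe]
  fin_cases i <;> fin_cases j <;> simp [Matrix.mul_apply, Fin.sum_univ_two, mul_comm]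

theorem det_scalarGL (a : Fˣ) :
    ((scalarGL a : GL (Fin 2) F) : Matrix (Fin 2) (Fin 2) F).det = (a : F) * (a : F) := by
  unfold scalarGL
  rw [det_borelMatGL]

/-- a twist by a character of the determinant fixing an irreducible character is quadratic -/
theorem sq_eq_one_of_twist_eq {π : GL (Fin 2) F → ℂ} (hπ : IsIrrCharacter (GL (Fin 2) F) π)
    (γ : MulChar F ℂ) (h : π * detChar γ = π) : γ ^ 2 = 1 := by
  ext a
  have h1 := congrFun h (scalarGL a)
  rw [Pi.mul_apply, detChar_apply, det_scalarGL] at h1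
  have h2 := irr_central_ne_zero hπ (scalarGL a) (scalarGL_comm a)
  have h3 : γ ((a : F) * (a : F)) = 1 := by
    apply mul_left_cancel₀ h2
    rw [h1, mul_one]
  rw [MulChar.pow_apply_coe, MulChar.one_apply_coe, pow_two, ← map_mul]
  exact h3

omit [DecidableEq F] in
/-- a multiplicative character of a finite field is determined by its value at a generator -/
theorem mulChar_eq_of_generator (g : Fˣ) (hg : ∀ x : Fˣ, x ∈ Subgroup.zpowers g)
    (γ γ' : MulChar F ℂ) (h : γ (g : F) = γ' (g : F)) : γ = γ' := by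
  ext a
  obtain ⟨k, rfl⟩ := Subgroup.mem_zpowers_iff.1 (hg a)
  have h1 : ∀ δ : MulChar F ℂ, δ ((g ^ k : Fˣ) : F) = (MulChar.toUnitHom δ g : ℂ) ^ k := by
    intro δ
    rw [← MulChar.coe_toUnitHom, map_zpow, Units.val_zpow_eq_zpow_val]
  rw [h1, h1, MulChar.coe_toUnitHom, MulChar.coe_toUnitHom, h]

omit [DecidableEq F] in
/-- two non-trivial quadratic characters coincide -/
theorem quadratic_mulChar_unique (γ γ' : MulChar F ℂ) (h : γ ^ 2 = 1) (h' : γ' ^ 2 = 1)
    (h1 : γ ≠ 1) (h1' : γ' ≠ 1) : γ = γ' := by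
  obtain ⟨g, hg⟩ := IsCyclic.exists_generator (α := Fˣ)
  have hval : ∀ δ : MulChar F ℂ, δ ^ 2 = 1 → δ ≠ 1 → δ (g : F) = -1 := by
    intro δ hδ hδ1
    have h2 : δ (g : F) ^ 2 = 1 := by
      have := congrArg (fun ε : MulChar F ℂ => ε (g : F)) hδ
      simp only [MulChar.pow_apply_coe, MulChar.one_apply_coe] at this
      exact this
    have h3 : (δ (g : F) - 1) * (δ (g : F) + 1) = 0 := by linear_combination h2
    rcases mul_eq_zero.1 h3 with h4 | h4
    · exfalso
      apply hδ1
      apply mulChar_eq_of_generator g hg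
      rw [MulChar.one_apply_coe]
      exact sub_eq_zero.1 h4
    · exact eq_neg_of_add_eq_zero_left h4
  apply mulChar_eq_of_generator g hg
  rw [hval γ h h1, hval γ' h' h1']

/-- in characteristic two the only quadratic character is trivial -/
theorem quadratic_mulChar_trivial (heven : Even (Fintype.card F)) (γ : MulChar F ℂ)
    (h : γ ^ 2 = 1) : γ = 1 := by
  have h1 : γ ^ (Fintype.card F - 1) = 1 := by
    have := MulChar.pow_card_eq_one (χ := γ)
    rwa [Fintype.card_units] at this
  obtain ⟨k, hk⟩ := heven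
  have hk1 : 1 ≤ k := by
    have : 0 < Fintype.card F := Fintype.card_pos
    omega
  have h2 : Fintype.card F - 1 = 2 * (k - 1) + 1 := by omega
  rw [h2, pow_succ, pow_mul, h, one_pow, one_mul] at h1
  exact h1

/-- `SL₂` as a subgroup of `GL₂` -/
noncomputable def slEquiv : Matrix.SpecialLinearGroup (Fin 2) F ≃*
    (Matrix.SpecialLinearGroup.toGL (n := Fin 2) (R := F)).range :=
  MonoidHom.ofInjective Matrix.SpecialLinearGroup.toGL_injective

omit [Fintype F] [DecidableEq F] in
theorem slEquiv_coe (g : Matrix.SpecialLinearGroup (Fin 2) F) :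
    ((slEquiv g : (Matrix.SpecialLinearGroup.toGL (n := Fin 2) (R := F)).range) :
      GL (Fin 2) F) = Matrix.SpecialLinearGroup.toGL g := rfl

omit [Fintype F] [DecidableEq F] in
theorem restrict_range_eq (π : GL (Fin 2) F → ℂ) :
    (fun n : (Matrix.SpecialLinearGroup.toGL (n := Fin 2) (R := F)).range =>
      π (n : GL (Fin 2) F)) = resSL π ∘ slEquiv.symm := by
  funext n
  obtain ⟨g, rfl⟩ := slEquiv.surjective n
  rw [Function.comp_apply, slEquiv.symm_apply_apply, slEquiv_coe, resSL_apply]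

/-- every irreducible character of `SL₂` lies under an irreducible character of `GL₂` -/
theorem exists_GL2_above {χ : Matrix.SpecialLinearGroup (Fin 2) F → ℂ}
    (hχ : IsIrrCharacter (Matrix.SpecialLinearGroup (Fin 2) F) χ) :
    ∃ π : GL (Fin 2) F → ℂ, IsIrrCharacter (GL (Fin 2) F) π ∧ classInner (resSL π) χ ≠ 0 := by
  classical
  haveI hN : (Matrix.SpecialLinearGroup.toGL (n := Fin 2) (R := F)).range.Normal :=
    range_toGL_normal'
  letI : Fintype (Matrix.SpecialLinearGroup.toGL (n := Fin 2) (R := F)).range :=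
    Fintype.ofFinite _
  set N := (Matrix.SpecialLinearGroup.toGL (n := Fin 2) (R := F)).range with hNdef
  have hχ' : IsIrrCharacter N (χ ∘ slEquiv.symm) := isIrrCharacter_comp_equiv slEquiv.symm hχ
  have hI : IsCharacter (GL (Fin 2) F) (indFun N (χ ∘ slEquiv.symm)) :=
    isCharacter_indFun N (isCharacter_of_isIrrCharacter hχ')
  have hI0 : indFun N (χ ∘ slEquiv.symm) ≠ 0 := by
    intro h0
    have h1 := congrFun h0 1
    rw [indFun_one, Pi.zero_apply] at h1
    obtain ⟨n, hn, h2⟩ := irr_one_eq hχ'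
    rw [h2] at h1
    have h3 : (N.index : ℂ) ≠ 0 := by
      have : N.index ≠ 0 := Subgroup.index_ne_zero_of_finite
      exact_mod_cast this
    have h4 : (n : ℂ) ≠ 0 := by exact_mod_cast hn.ne'
    exact mul_ne_zero h3 h4 h1
  obtain ⟨π, hπ, hne⟩ := exists_constituent hI hI0
  refine ⟨π, hπ, ?_⟩
  rw [frobenius_reciprocity N _ (isClassFunction_of_isIrrCharacter hπ), restrict_range_eq,
    classInner_comp_equiv slEquiv.symm] at hne
  intro h0
  apply hne
  rw [← classInner_conj_symm, h0, map_zero]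

/-- the squared norm of the restriction of an irreducible character of `GL₂` to `SL₂` -/
theorem norm_resSL {π : GL (Fin 2) F → ℂ} (hπ : IsIrrCharacter (GL (Fin 2) F) π) :
    ((∀ γ : MulChar F ℂ, π * detChar γ = π → γ = 1) ∧ classInner (resSL π) (resSL π) = 1) ∨
    ((∃ γ : MulChar F ℂ, γ ≠ 1 ∧ π * detChar γ = π) ∧ classInner (resSL π) (resSL π) = 2) := by
  classical
  letI : Fintype (MulChar F ℂ) := Fintype.ofFinite _
  letI : Fintype (IrrCharacter (GL (Fin 2) F)) := irrFintype
  have hirr : ∀ γ : MulChar F ℂ, IsIrrCharacter (GL (Fin 2) F) (π * detChar γ) := fun γ =>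
    isIrrCharacter_mul_linear hπ (isCharacter_of_isIrrCharacter (isIrrCharacter_detChar γ))
      (detChar_one γ)
  have h1 : ∀ γ : MulChar F ℂ, classInner (π * detChar γ) π =
      if π * detChar γ = π then 1 else 0 := fun γ => irr_orthogonality (hirr γ) hπ
  have hone : π * detChar (1 : MulChar F ℂ) = π := by
    funext g
    rw [Pi.mul_apply, detChar_apply,
      MulChar.one_apply (isUnit_iff_ne_zero.2 (GL2_det_ne_zero' g)), mul_one]
  rw [classInner_resSL, Finset.sum_congr rfl (fun γ _ => h1 γ)]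
  by_cases hex : ∃ γ : MulChar F ℂ, γ ≠ 1 ∧ π * detChar γ = π
  · right
    refine ⟨hex, ?_⟩
    obtain ⟨γ₁, hγ₁, hfix⟩ := hex
    have hiff : ∀ γ : MulChar F ℂ, (if π * detChar γ = π then (1 : ℂ) else 0) =
        (if γ = 1 then 1 else 0) + (if γ = γ₁ then 1 else 0) := by
      intro γ
      by_cases hγ : π * detChar γ = π
      · rw [if_pos hγ]
        by_cases hγ1 : γ = 1
        · rw [if_pos hγ1, if_neg (by rw [hγ1]; exact hγ₁.symm), add_zero]
        · rw [if_neg hγ1, zero_add, if_pos]
          exact quadratic_mulChar_unique γ γ₁ (sq_eq_one_of_twist_eq hπ γ hγ)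
            (sq_eq_one_of_twist_eq hπ γ₁ hfix) hγ1 hγ₁
      · rw [if_neg hγ, if_neg (fun h => hγ (by rw [h]; exact hone)),
          if_neg (fun h => hγ (by rw [h]; exact hfix)), add_zero]
    rw [Finset.sum_congr rfl (fun γ _ => hiff γ), Finset.sum_add_distrib,
      Finset.sum_ite_eq' Finset.univ (1 : MulChar F ℂ), Finset.sum_ite_eq' Finset.univ γ₁]
    simp only [Finset.mem_univ, if_true]
    norm_num
  · left
    push Not at hex
    have hall : ∀ γ : MulChar F ℂ, π * detChar γ = π → γ = 1 := by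
      intro γ hγ
      by_contra hne
      exact hex γ hne hγ
    refine ⟨hall, ?_⟩
    have hiff : ∀ γ : MulChar F ℂ, (if π * detChar γ = π then (1 : ℂ) else 0) =
        (if γ = 1 then 1 else 0) := by
      intro γ
      by_cases hγ : π * detChar γ = π
      · rw [if_pos hγ, if_pos (hall γ hγ)]
      · rw [if_neg hγ, if_neg (fun h => hγ (by rw [h]; exact hone))]
    rw [Finset.sum_congr rfl (fun γ _ => hiff γ), Finset.sum_ite_eq' Finset.univ (1 : MulChar F ℂ)]
    simp

/-- restrictions of norm one are irreducible -/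
theorem isIrrCharacter_resSL_of_norm_one {π : GL (Fin 2) F → ℂ}
    (hπ : IsCharacter (GL (Fin 2) F) π) (h : classInner (resSL π) (resSL π) = 1) :
    IsIrrCharacter (Matrix.SpecialLinearGroup (Fin 2) F) (resSL π) := by
  classical
  letI : Fintype (IrrCharacter (Matrix.SpecialLinearGroup (Fin 2) F)) := irrFintype
  rw [isIrrCharacter_iff]
  exact ⟨isCharacter_resSL hπ, h⟩

/-- restrictions of norm two split into two conjugate irreducible characters -/
theorem resSL_split {π : GL (Fin 2) F → ℂ} (hπ : IsIrrCharacter (GL (Fin 2) F) π)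
    (h : classInner (resSL π) (resSL π) = 2) :
    ∃ χ₁ χ₂ : Matrix.SpecialLinearGroup (Fin 2) F → ℂ,
      IsIrrCharacter (Matrix.SpecialLinearGroup (Fin 2) F) χ₁ ∧
      IsIrrCharacter (Matrix.SpecialLinearGroup (Fin 2) F) χ₂ ∧ χ₁ ≠ χ₂ ∧
      resSL π = χ₁ + χ₂ ∧
      ∃ x : GL (Fin 2) F, ∀ g h : Matrix.SpecialLinearGroup (Fin 2) F,
        Matrix.SpecialLinearGroup.toGL h = x * Matrix.SpecialLinearGroup.toGL g * x⁻¹ →
          χ₂ h = χ₁ g := by
  classical
  obtain ⟨χ₁, χ₂, h1, h2, hne, hsum⟩ :=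
    exists_two_irr_of_norm_two (isCharacter_resSL (isCharacter_of_isIrrCharacter hπ)) h
  haveI hN : (Matrix.SpecialLinearGroup.toGL (n := Fin 2) (R := F)).range.Normal :=
    range_toGL_normal'
  letI : Fintype (Matrix.SpecialLinearGroup.toGL (n := Fin 2) (R := F)).range :=
    Fintype.ofFinite _
  have hϑ₁ := isIrrCharacter_comp_equiv (slEquiv (F := F)).symm h1
  have hϑ₂ := isIrrCharacter_comp_equiv (slEquiv (F := F)).symm h2
  have hin1 : classInner (fun n : (Matrix.SpecialLinearGroup.toGL (n := Fin 2) (R := F)).range =>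
      π (n : GL (Fin 2) F)) (χ₁ ∘ (slEquiv (F := F)).symm) ≠ 0 := by
    rw [restrict_range_eq, classInner_comp_equiv (slEquiv (F := F)).symm, hsum,
      classInner_add_left, irr_orthogonality h1 h1,
      irr_orthogonality h2 h1, if_pos rfl, if_neg hne.symm]
    norm_num
  have hin2 : classInner (fun n : (Matrix.SpecialLinearGroup.toGL (n := Fin 2) (R := F)).range =>
      π (n : GL (Fin 2) F)) (χ₂ ∘ (slEquiv (F := F)).symm) ≠ 0 := by
    rw [restrict_range_eq, classInner_comp_equiv (slEquiv (F := F)).symm, hsum,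
      classInner_add_left, irr_orthogonality h1 h2,
      irr_orthogonality h2 h2, if_pos rfl, if_neg hne]
    norm_num
  obtain ⟨x, hx⟩ := clifford_conj _ hπ hϑ₁ hϑ₂ hin1 hin2
  refine ⟨χ₁, χ₂, h1, h2, hne, hsum, x⁻¹, ?_⟩
  intro g h hgh
  have h3 := congrFun hx (slEquiv h)
  rw [conjFun_apply, Function.comp_apply, Function.comp_apply, MulEquiv.symm_apply_apply] at h3
  rw [← h3]
  congr 1
  apply (slEquiv (F := F)).injective
  rw [MulEquiv.apply_symm_apply]
  apply Subtype.ext
  change x * ((slEquiv h : (Matrix.SpecialLinearGroup.toGL (n := Fin 2) (R := F)).range) :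
    GL (Fin 2) F) * x⁻¹ =
    ((slEquiv g : (Matrix.SpecialLinearGroup.toGL (n := Fin 2) (R := F)).range) : GL (Fin 2) F)
  rw [slEquiv_coe, slEquiv_coe, hgh]
  group

end finite

end Cfsg.Agent.Helper12
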