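import Mathlib
import Cfsg.Prelude.Def_Blocks
import Cfsg.Agent.Lib.Helper24.CharLinear
import Cfsg.Agent.Lib.Helper24.CharInduced
import Cfsg.Agent.Lib.Helper24.CharComplete
import Cfsg.Agent.Lib.Helper10.BR996Defs
import Cfsg.Agent.Lib.Helper12.BR996WT

/-!
# S0996 pieces DEGEQ + NORM (helper12): the degree equation and the norm identity `∑ A(χ)² = w (n+1)`
-/

set_option autoImplicit false
set_option linter.unusedSectionVars false
set_option linter.unusedVariables false
set_option linter.style.haveILetI false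

namespace Cfsg.Agent.Helper10.BR996

open scoped ComplexConjugate
open Cfsg Cfsg.Agent.Helper24

universe u

variable {G : Type u} [Group G] [Fintype G] [Fintype (IrrCharacter G)]
  (p : ℕ) [Fact p.Prime] (P : Subgroup G)

local notation "𝒩" => Subgroup.normalizer (P : Set G)

namespace DEGNORM

/-- column orthogonality for the columns `1` and `z ≠ 1` -/
theorem sum_degree_mul_apply {z : G} (hz : z ≠ 1) :
    ∑ χ : IrrCharacter G, (charDegree (χ : G → ℂ) : ℂ) * (χ : G → ℂ) z = 0 := by
  have h := second_orthogonality (G := G) z 1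
  have hempty : IsEmpty {y : G // y * 1 * y⁻¹ = z} := by
    constructor
    rintro ⟨y, hy⟩
    apply hz
    rw [← hy]
    group
  rw [Nat.card_of_isEmpty, Nat.cast_zero] at h
  rw [← h]
  apply Finset.sum_congr rfl
  intro χ _
  rw [irr_one_eq_charDegree χ.2, Complex.conj_natCast, mul_comm]

end DEGNORM

/-! ## PIECE DEGEQ: the degree equation (second orthogonality, columns `1` and `z ∈ P ∖ 1`) -/

/-- PIECE DEGEQ. -/
theorem degree_equation (hcard : Nat.card P = p) :
    ∑ χ : IrrCharacter G, (charDegree (χ : G → ℂ) : ℂ) * dsum P (χ : G → ℂ) = 0 := by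
  classical
  unfold dsum
  simp only [Finset.mul_sum]
  rw [Finset.sum_comm]
  apply Finset.sum_eq_zero
  intro z _
  by_cases hz : z ∈ P ∧ z ≠ 1
  · simp only [if_pos hz]
    exact DEGNORM.sum_degree_mul_apply hz.2
  · simp only [if_neg hz, mul_zero, Finset.sum_const_zero]

/-! ## PIECE NORM: `∑_χ A(χ)² = ⟨Π,Π⟩ = A(Π) = w (n+1)` -/

/-- PIECE NORM. -/
theorem norm_identity (hcard : Nat.card P = p) (hcent : Subgroup.centralizer (P : Set G) ≤ P)
    (a : IrrCharacter G → ℕ) (ha : ∀ χ : IrrCharacter G, Aw P (χ : G → ℂ) = (a χ : ℂ))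
    (n : ℕ) (hidx : (𝒩).index = 1 + n * p) :
    ∑ χ : IrrCharacter G, a χ ^ 2 = P.relIndex 𝒩 * (n + 1) := by
  classical
  have hp0 : (p : ℂ) ≠ 0 := by
    have : p ≠ 0 := (Fact.out : p.Prime).ne_zero
    exact_mod_cast this
  have hPi : IsCharacter G (permP P) := permP_isCharacter P
  have hPic : IsClassFunction G (permP P) := isClassFunction_of_isCharacter hPi
  -- `⟨Π, χ⟩ = a χ`
  have hin : ∀ χ : IrrCharacter G, classInner (permP P) (χ : G → ℂ) = (a χ : ℂ) := by
    intro χ
    rw [← classInner_conj_symm (χ : G → ℂ) (permP P),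
      classInner_permP P (isClassFunction_of_isIrrCharacter χ.2), ha, Complex.conj_natCast]
  -- Parseval
  have h1 : classInner (permP P) (permP P) = ((∑ χ : IrrCharacter G, a χ ^ 2 : ℕ) : ℂ) := by
    rw [classInner_eq_sum_mul hPic]
    push_cast
    apply Finset.sum_congr rfl
    intro χ _
    rw [hin, Complex.conj_natCast, sq]
  -- `⟨Π, Π⟩ = A(Π)`
  have h2 : classInner (permP P) (permP P) = Aw P (permP P) := classInner_permP P hPic
  -- `p A(Π) = Π(1) + (p-1) w`
  have h3 := Aw_eq p P hcard (permP P)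
  rw [permP_one, dsum_const p P hcard ((P.relIndex 𝒩 : ℕ) : ℂ)
    (fun z hz hz1 => permP_of_mem p P hcard hcent hz hz1)] at h3
  have h4 : P.index = P.relIndex 𝒩 * (1 + n * p) := by
    rw [← hidx]
    exact (Subgroup.relIndex_mul_index Subgroup.le_normalizer).symm
  rw [h4] at h3
  have h5 : (p : ℂ) * Aw P (permP P) = (p : ℂ) * ((P.relIndex 𝒩 * (n + 1) : ℕ) : ℂ) := by
    rw [h3]
    push_cast
    ring
  have h6 : Aw P (permP P) = ((P.relIndex 𝒩 * (n + 1) : ℕ) : ℂ) := mul_left_cancel₀ hp0 h5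
  rw [h2, h6] at h1
  exact_mod_cast h1.symm

end Cfsg.Agent.Helper10.BR996
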