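import Mathlib
import Cfsg.Agent.Lib.Helper2.BR996G3
import Cfsg.Agent.Lib.Helper12.BR996GB

/-!
# S0996 piece GB (helper12): wrapper of `card_normalizer_core` on helper2's G3

`P ≤ G` of prime order `p` with `C_G(P) ≤ P`, `N = N_G(P)`, `w = |N : P| ≥ 2`, `|G : N| = 1 + n p`, and every
`N ⊓ x N x⁻¹` (`x ∉ N`) of order `w`.  Then `|N_G(W)| = w (n+1)` for every `W ≤ N` of order `w`, in particular for
`W = N ⊓ x N x⁻¹`; and `(n+1) ∣ p - 1` when `n + 1 < p`.
-/

set_option autoImplicit false

namespace Cfsg.Agent.Helper12.BR996GB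

open Cfsg.Agent.Helper2

variable {G : Type*} [Group G] [Finite G] (P : Subgroup G) (p : ℕ) [Fact p.Prime]

/-- GB for an arbitrary subgroup `W ≤ N` of order `w` -/
theorem card_normalizer_of_card (hP : Nat.card P = p) (hC : Subgroup.centralizer (P : Set G) ≤ P)
    (w n : ℕ) (hw : P.relIndex (Subgroup.normalizer (P : Set G)) = w) (hw2 : 2 ≤ w)
    (hr : (Subgroup.normalizer (P : Set G)).index = 1 + n * p)
    (hyp : ∀ x : G, x ∉ Subgroup.normalizer (P : Set G) →
      Nat.card (Subgroup.normalizer (P : Set G) ⊓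
        (Subgroup.normalizer (P : Set G)).map (MulAut.conj x).toMonoidHom : Subgroup G) = w)
    (W : Subgroup G) (hWN : W ≤ Subgroup.normalizer (P : Set G)) (hW : Nat.card W = w) :
    Nat.card (Subgroup.normalizer (W : Set G)) = w * (n + 1) := by
  have hpp : p.Prime := Fact.out
  subst hw
  apply card_normalizer_core P (Subgroup.normalizer (P : Set G)) W p _ n hpp Subgroup.le_normalizer hP
    (BR996G3.card_normalizer P p hP) (BR996G3.coprime_relIndex P p hP hC).symm hr hWN hW
  · intro x hx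
    rw [cj_eq_map]
    exact hyp x hx
  · intro W' hW'N hW'
    obtain ⟨y, hy, hyW⟩ := BR996G3.exists_conj_eq P p hP hC W W' hWN hW hW'N hW'
    exact ⟨y, hy, by rw [cj_eq_map, hyW]⟩
  · exact BR996G3.normalizer_inf_eq P p hP hC W hWN hW (by omega)

/-- GB: the normalizer of a two-point stabilizer `N ⊓ x N x⁻¹` has order `w (n+1)` -/
theorem card_normalizer_inter (hP : Nat.card P = p) (hC : Subgroup.centralizer (P : Set G) ≤ P)
    (w n : ℕ) (hw : P.relIndex (Subgroup.normalizer (P : Set G)) = w) (hw2 : 2 ≤ w)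
    (hr : (Subgroup.normalizer (P : Set G)).index = 1 + n * p)
    (hyp : ∀ x : G, x ∉ Subgroup.normalizer (P : Set G) →
      Nat.card (Subgroup.normalizer (P : Set G) ⊓
        (Subgroup.normalizer (P : Set G)).map (MulAut.conj x).toMonoidHom : Subgroup G) = w)
    (x : G) (hx : x ∉ Subgroup.normalizer (P : Set G)) :
    Nat.card (Subgroup.normalizer ((Subgroup.normalizer (P : Set G) ⊓
        (Subgroup.normalizer (P : Set G)).map (MulAut.conj x).toMonoidHom : Subgroup G) : Set G)) =
      w * (n + 1) :=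
  card_normalizer_of_card P p hP hC w n hw hw2 hr hyp _ inf_le_left (hyp x hx)

/-- GB, corollary: `(n+1) ∣ p - 1` when `n + 1 < p` -/
theorem succ_dvd_pred_of_hyp (hP : Nat.card P = p) (hC : Subgroup.centralizer (P : Set G) ≤ P)
    (w n : ℕ) (hw : P.relIndex (Subgroup.normalizer (P : Set G)) = w) (hw2 : 2 ≤ w)
    (hr : (Subgroup.normalizer (P : Set G)).index = 1 + n * p)
    (hyp : ∀ x : G, x ∉ Subgroup.normalizer (P : Set G) →
      Nat.card (Subgroup.normalizer (P : Set G) ⊓
        (Subgroup.normalizer (P : Set G)).map (MulAut.conj x).toMonoidHom : Subgroup G) = w)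
    (hn : n + 1 < p) : n + 1 ∣ p - 1 := by
  have hpp : p.Prime := Fact.out
  obtain ⟨W, hWN, hW⟩ := BR996G3.exists_compl P p hP hC
  rw [hw] at hW
  have h1 := card_normalizer_of_card P p hP hC w n hw hw2 hr hyp W hWN hW
  have h2 : Nat.card (Subgroup.normalizer (W : Set G)) ∣ Nat.card G := Subgroup.card_subgroup_dvd_card _
  have h3 : Nat.card G = (1 + n * p) * (p * w) := by
    rw [← hr, ← hw, ← BR996G3.card_normalizer P p hP, mul_comm]
    exact (Subgroup.card_mul_index _).symm
  rw [h1, h3] at h2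
  exact succ_dvd_pred p w n hpp hn h2 (by omega)

end Cfsg.Agent.Helper12.BR996GB
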