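import Mathlib
import Cfsg.Agent.Lib.Helper24.CharInduced
import Cfsg.Agent.Lib.Helper12.BR996GB
import Cfsg.Agent.Lib.Helper12.BR996GBW
import Cfsg.Agent.Lib.Helper12.BR996GH

/-!
# S0996 piece GI (helper12): the norm of the permutation character `1_N^G` as a sum of orders of
two-point stabilizers:  `⟨1_N^G, 1_N^G⟩ = |N|⁻² ∑_x |N ⊓ x N x⁻¹|`
-/

set_option autoImplicit false

namespace Cfsg.Agent.Helper12.BR996GB

open Cfsg Cfsg.Agent.Helper24

open scoped ComplexConjugate

universe u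

variable {G : Type u} [Group G] [Fintype G]

/-- the extension by zero of the constant function `1` -/
theorem extendByZero_one_apply (N : Subgroup G) [DecidablePred (· ∈ N)] (y : G) :
    extendByZero N (fun _ => (1 : ℂ)) y = if y ∈ N then 1 else 0 := by
  split_ifs with h
  · exact extendByZero_of_mem N _ h
  · exact extendByZero_of_not_mem N _ h

/-- the values of `1_N^G` on `N`, summed: `∑_{h ∈ N} 1_N^G(h) = |N|⁻¹ ∑_x |N ⊓ x N x⁻¹|` -/
theorem sum_indFun_one (N : Subgroup G) [Fintype N] :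
    ∑ h : N, indFun N (fun _ => (1 : ℂ)) (h : G) =
      (Nat.card N : ℂ)⁻¹ * ∑ x : G, (Nat.card (N ⊓ N.map (MulAut.conj x).toMonoidHom : Subgroup G) : ℂ) := by
  classical
  simp only [indFun_apply]
  rw [← Finset.mul_sum, Finset.sum_comm]
  congr 1
  apply Finset.sum_congr rfl
  intro x _
  rw [← cj_eq_map]
  simp only [extendByZero_one_apply]
  rw [Finset.sum_boole]
  congr 1
  rw [Nat.card_eq_fintype_card, ← Fintype.card_subtype]
  apply Fintype.card_congr
  refine ⟨fun h => ⟨h.1.1, ⟨h.1.2, mem_cj.mpr h.2⟩⟩, fun k => ⟨⟨k.1, k.2.1⟩, mem_cj.mp k.2.2⟩, ?_, ?_⟩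
  · intro h; rfl
  · intro k; rfl

/-- **GI**: `⟨1_N^G, 1_N^G⟩ = |N|⁻² ∑_x |N ⊓ x N x⁻¹|` -/
theorem classInner_indFun_one (N : Subgroup G) :
    classInner (indFun N (fun _ => (1 : ℂ))) (indFun N (fun _ => (1 : ℂ))) =
      ((Nat.card N : ℂ)⁻¹) ^ 2 *
        ∑ x : G, (Nat.card (N ⊓ N.map (MulAut.conj x).toMonoidHom : Subgroup G) : ℂ) := by
  classical
  haveI : Fintype N := Fintype.ofFinite N
  rw [frobenius_reciprocity N _ (isClassFunction_indFun N _)]
  unfold classInner
  have hreal : ∀ h : N, conj (indFun N (fun _ => (1 : ℂ)) (h : G)) = indFun N (fun _ => (1 : ℂ)) (h : G) := by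
    intro h
    rw [indFun_apply, map_mul, map_inv₀, Complex.conj_natCast, map_sum]
    congr 1
    apply Finset.sum_congr rfl
    intro x _
    rw [extendByZero_one_apply]
    split_ifs <;> simp
  simp only [one_mul, hreal]
  rw [sum_indFun_one, ← mul_assoc, sq]

/-- **GI, ℕ form**: if `⟨1_N^G, 1_N^G⟩ = n + 1` then the orders of the `N ⊓ x N x⁻¹` add up to `(n+1) |N|²` -/
theorem sum_card_of_classInner (N : Subgroup G) (n : ℕ)
    (h : classInner (indFun N (fun _ => (1 : ℂ))) (indFun N (fun _ => (1 : ℂ))) = (n : ℂ) + 1) :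
    ∑ x : G, Nat.card (N ⊓ N.map (MulAut.conj x).toMonoidHom : Subgroup G) =
      (n + 1) * Nat.card N ^ 2 := by
  rw [classInner_indFun_one] at h
  have hN : (Nat.card N : ℂ) ≠ 0 := by
    have : Nat.card N ≠ 0 := Nat.card_pos.ne'
    exact_mod_cast this
  have h2 : (∑ x : G, (Nat.card (N ⊓ N.map (MulAut.conj x).toMonoidHom : Subgroup G) : ℂ)) =
      ((n : ℂ) + 1) * (Nat.card N : ℂ) ^ 2 := by
    rw [← h]
    field_simp
  exact_mod_cast h2

/-! ### the combined statements in the setting of helper2's G3 -/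

section combined

variable (P : Subgroup G) (p : ℕ) [Fact p.Prime]

/-- `⟨1_N^G, 1_N^G⟩ = n + 1` ⟹ every `N ⊓ x N x⁻¹` (`x ∉ N`) has order `w` -/
theorem hyp_of_classInner (hP : Nat.card P = p) (hC : Subgroup.centralizer (P : Set G) ≤ P)
    (n : ℕ) (hr : (Subgroup.normalizer (P : Set G)).index = 1 + n * p)
    (h : classInner (indFun (Subgroup.normalizer (P : Set G)) (fun _ => (1 : ℂ)))
      (indFun (Subgroup.normalizer (P : Set G)) (fun _ => (1 : ℂ))) = (n : ℂ) + 1) :
    ∀ x : G, x ∉ Subgroup.normalizer (P : Set G) →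
      Nat.card (Subgroup.normalizer (P : Set G) ⊓
        (Subgroup.normalizer (P : Set G)).map (MulAut.conj x).toMonoidHom : Subgroup G) =
        P.relIndex (Subgroup.normalizer (P : Set G)) :=
  hyp_of_sum P p hP hC n hr (sum_card_of_classInner _ n h)

/-- `⟨1_N^G, 1_N^G⟩ = n + 1` ⟹ `|N_G(W)| = w (n+1)` for every `W ≤ N` of order `w ≥ 2` -/
theorem card_normalizer_of_classInner (hP : Nat.card P = p)
    (hC : Subgroup.centralizer (P : Set G) ≤ P) (w n : ℕ)
    (hw : P.relIndex (Subgroup.normalizer (P : Set G)) = w) (hw2 : 2 ≤ w)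
    (hr : (Subgroup.normalizer (P : Set G)).index = 1 + n * p)
    (h : classInner (indFun (Subgroup.normalizer (P : Set G)) (fun _ => (1 : ℂ)))
      (indFun (Subgroup.normalizer (P : Set G)) (fun _ => (1 : ℂ))) = (n : ℂ) + 1)
    (W : Subgroup G) (hWN : W ≤ Subgroup.normalizer (P : Set G)) (hW : Nat.card W = w) :
    Nat.card (Subgroup.normalizer (W : Set G)) = w * (n + 1) :=
  card_normalizer_of_card P p hP hC w n hw hw2 hr
    (fun x hx => by rw [← hw]; exact hyp_of_classInner P p hP hC n hr h x hx) W hWN hW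

/-- `⟨1_N^G, 1_N^G⟩ = n + 1`, `n + 1 < p` ⟹ `(n+1) ∣ p - 1` -/
theorem succ_dvd_pred_of_classInner (hP : Nat.card P = p)
    (hC : Subgroup.centralizer (P : Set G) ≤ P) (w n : ℕ)
    (hw : P.relIndex (Subgroup.normalizer (P : Set G)) = w) (hw2 : 2 ≤ w)
    (hr : (Subgroup.normalizer (P : Set G)).index = 1 + n * p)
    (h : classInner (indFun (Subgroup.normalizer (P : Set G)) (fun _ => (1 : ℂ)))
      (indFun (Subgroup.normalizer (P : Set G)) (fun _ => (1 : ℂ))) = (n : ℂ) + 1)
    (hn : n + 1 < p) : n + 1 ∣ p - 1 :=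
  succ_dvd_pred_of_hyp P p hP hC w n hw hw2 hr
    (fun x hx => by rw [← hw]; exact hyp_of_classInner P p hP hC n hr h x hx) hn

end combined

end Cfsg.Agent.Helper12.BR996GB
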