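import Mathlib
import Cfsg.Prelude.Def_Blocks
import Cfsg.Agent.Lib.Helper24.CharLinear
import Cfsg.Agent.Lib.Helper24.CharInduced
import Cfsg.Agent.Lib.Helper10.BR996Defs
import Cfsg.Agent.Lib.Helper12.BR996GI

/-!
# S0996 piece RANK (helper12): `⟨1_N^G, 1_N^G⟩ = n + 1` forces all `|N ∩ N^x| = w`

Wrapper of `Cfsg.Agent.Helper12.BR996GB.hyp_of_classInner`.
-/

set_option autoImplicit false
set_option linter.unusedSectionVars false
set_option linter.unusedVariables false

namespace Cfsg.Agent.Helper10.BR996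

open scoped ComplexConjugate
open Cfsg Cfsg.Agent.Helper24

universe u

variable {G : Type u} [Group G] [Fintype G] [Fintype (IrrCharacter G)]
  (p : ℕ) [Fact p.Prime] (P : Subgroup G)

local notation "𝒩" => Subgroup.normalizer (P : Set G)

/-- PIECE RANK. -/
theorem card_inf_conj_of_rank (hcard : Nat.card P = p)
    (hcent : Subgroup.centralizer (P : Set G) ≤ P) (n : ℕ) (hidx : (𝒩).index = 1 + n * p)
    (hrank : classInner (permN P) (permN P) = ((n : ℂ) + 1)) :
    ∀ x : G, x ∉ 𝒩 →
      Nat.card ↥(𝒩 ⊓ (𝒩).map (MulAut.conj x).toMonoidHom) = P.relIndex 𝒩 :=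
  Cfsg.Agent.Helper12.BR996GB.hyp_of_classInner P p hcard hcent n hidx hrank

end Cfsg.Agent.Helper10.BR996
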