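import Mathlib

set_option autoImplicit false

namespace Cfsg.Agent.Helper12

/-- the class number of a group with an abelian subgroup `T` of index two, inverted by every
element outside `T`, and with exactly two elements of square one in `T` -/
theorem card_conjClasses_of_inverting {N : Type*} [Group N] [Finite N] (T : Subgroup N)
    (hidx : T.index = 2)
    (hab : ∀ a ∈ T, ∀ b ∈ T, a * b = b * a)
    (hinv : ∀ x : N, x ∉ T → ∀ t ∈ T, x * t * x⁻¹ = t⁻¹)
    (z : N) (hzT : z ∈ T) (hz1 : z ≠ 1) (hz2 : z * z = 1)
    (hsq : ∀ t ∈ T, t * t = 1 → t = 1 ∨ t = z) :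
    2 * Nat.card (ConjClasses N) = Nat.card T + 6 := by
  classical
  haveI : Fintype N := Fintype.ofFinite N
  set n := Nat.card T with hn
  have hN : Nat.card N = 2 * n := by rw [← T.card_mul_index, hidx, mul_comm]
  have hzinv : z⁻¹ = z := inv_eq_of_mul_eq_one_left hz2
  have hcomm_iff : ∀ x y : N, Commute x y ↔ x * y * x⁻¹ = y := by
    intro x y
    rw [mul_inv_eq_iff_eq_mul]
    exact Iff.rfl
  -- centralizer sizes
  have hc1 : ∀ x : N, x ∈ T → x * x ≠ 1 → Nat.card {y : N // Commute x y} = n := by
    intro x hx hx2
    rw [hn]
    apply Nat.card_congr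
    apply Equiv.subtypeEquivRight
    intro y
    constructor
    · intro hc
      by_contra hy
      apply hx2
      have h1 := hinv y hy x hx
      have h2 : y * x * y⁻¹ = x := (hcomm_iff y x).1 hc.symm
      rw [h2] at h1
      calc x * x = x * x⁻¹ := by rw [← h1]
        _ = 1 := mul_inv_cancel x
    · intro hy
      exact hab x hx y hy
  have hc2 : ∀ x : N, x ∈ T → x * x = 1 → Nat.card {y : N // Commute x y} = 2 * n := by
    intro x hx hx2
    rw [← hN]
    apply Nat.card_congr
    apply Equiv.subtypeUnivEquiv
    intro y
    by_cases hy : y ∈ T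
    · exact hab x hx y hy
    · have h1 := hinv y hy x hx
      have hxinv : x⁻¹ = x := inv_eq_of_mul_eq_one_left hx2
      rw [hxinv] at h1
      exact ((hcomm_iff y x).2 h1).symm
  have hT2 : ∀ t : N, t ∈ T → (t * t = 1 ↔ t = 1 ∨ t = z) := by
    intro t ht
    constructor
    · exact hsq t ht
    · rintro (rfl | rfl)
      · exact one_mul 1
      · exact hz2
  have hc3 : ∀ x : N, x ∉ T → Nat.card {y : N // Commute x y} = 4 := by
    intro x hx
    have hxz : x * z ∉ T := by
      rw [Subgroup.mul_mem_iff_of_index_two hidx]
      intro h
      exact hx (h.2 hzT)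
    have hset : Finset.univ.filter (fun y : N => Commute x y) = {1, z, x, x * z} := by
      ext y
      simp only [Finset.mem_filter, Finset.mem_univ, true_and, Finset.mem_insert,
        Finset.mem_singleton]
      constructor
      · intro hc
        by_cases hy : y ∈ T
        · have h1 := hinv x hx y hy
          rw [(hcomm_iff x y).1 hc] at h1
          have h2 : y * y = 1 := by
            calc y * y = y * y⁻¹ := by rw [← h1]
              _ = 1 := mul_inv_cancel y
          rcases hsq y hy h2 with h | h
          · left; exact h
          · right; left; exact h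
        · have ht : x⁻¹ * y ∈ T := by
            rw [Subgroup.mul_mem_iff_of_index_two hidx, inv_mem_iff]
            exact ⟨fun h => absurd h hx, fun h => absurd h hy⟩
          have hct : Commute x (x⁻¹ * y) := (Commute.refl x).inv_right.mul_right hc
          have h1 := hinv x hx _ ht
          rw [(hcomm_iff x _).1 hct] at h1
          have h2 : (x⁻¹ * y) * (x⁻¹ * y) = 1 := by
            calc (x⁻¹ * y) * (x⁻¹ * y) = (x⁻¹ * y) * (x⁻¹ * y)⁻¹ := by rw [← h1]
              _ = 1 := mul_inv_cancel _
          rcases hsq _ ht h2 with h | h
          · right; right; left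
            exact (inv_mul_eq_one.1 h).symm
          · right; right; right
            rw [← h, mul_inv_cancel_left]
      · have hzc : Commute x z := by
          rw [hcomm_iff, hinv x hx z hzT, hzinv]
        rintro (h | h | h | h)
        · rw [h]; exact Commute.one_right x
        · rw [h]; exact hzc
        · rw [h]
        · rw [h]; exact (Commute.refl x).mul_right hzc
    rw [Nat.card_eq_fintype_card, Fintype.card_subtype, hset]
    have hx1 : x ≠ 1 := fun h => hx (by rw [h]; exact T.one_mem)
    have hxz' : x ≠ z := fun h => hx (by rw [h]; exact hzT)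
    have hxz1 : x * z ≠ 1 := fun h => hxz (by rw [h]; exact T.one_mem)
    have hxzz : x * z ≠ z := fun h => hxz (by rw [h]; exact hzT)
    have hxxz : x ≠ x * z := by
      intro h
      apply hz1
      have := mul_left_cancel (a := x) (b := 1) (c := z) (by rw [mul_one]; exact h)
      exact this.symm
    rw [Finset.card_insert_of_notMem, Finset.card_insert_of_notMem,
      Finset.card_insert_of_notMem, Finset.card_singleton]
    · simp only [Finset.mem_singleton]
      exact hxxz
    · simp only [Finset.mem_insert, Finset.mem_singleton, not_or]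
      exact ⟨fun h => hxz' h.symm, fun h => hxzz h.symm⟩
    · simp only [Finset.mem_insert, Finset.mem_singleton, not_or]
      exact ⟨fun h => hz1 h.symm, fun h => hx1 h.symm, fun h => hxz1 h.symm⟩
  -- count the elements of each kind
  have hA : (Finset.univ.filter (fun x : N => x ∈ T)).card = n := by
    rw [hn, Nat.card_eq_fintype_card, Fintype.card_subtype]
  have hB : (Finset.univ.filter (fun x : N => ¬ x ∈ T)).card = n := by
    have h1 := Finset.card_filter_add_card_filter_not (s := (Finset.univ : Finset N))
      (fun x : N => x ∈ T)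
    rw [hA, Finset.card_univ, ← Nat.card_eq_fintype_card, hN] at h1
    omega
  have hA1 : ((Finset.univ.filter (fun x : N => x ∈ T)).filter (fun x => x * x = 1)).card = 2 := by
    have : (Finset.univ.filter (fun x : N => x ∈ T)).filter (fun x => x * x = 1) = {1, z} := by
      ext t
      simp only [Finset.mem_filter, Finset.mem_univ, true_and, Finset.mem_insert,
        Finset.mem_singleton]
      constructor
      · rintro ⟨ht, h2⟩
        exact hsq t ht h2
      · rintro (rfl | rfl)
        · exact ⟨T.one_mem, one_mul 1⟩
        · exact ⟨hzT, hz2⟩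
    rw [this, Finset.card_pair hz1.symm]
  have hA2 : ((Finset.univ.filter (fun x : N => x ∈ T)).filter (fun x => ¬ x * x = 1)).card + 2 =
      n := by
    have h1 := Finset.card_filter_add_card_filter_not
      (s := (Finset.univ.filter (fun x : N => x ∈ T))) (fun x : N => x * x = 1)
    rw [hA1, hA] at h1
    omega
  have hsum : Nat.card {p : N × N // Commute p.1 p.2} = n * (n + 6) := by
    rw [Nat.card_congr (Equiv.subtypeProdEquivSigmaSubtype Commute), Nat.card_sigma]
    have hval : ∀ x : N, Nat.card {y : N // Commute x y} =
        if x ∈ T then (if x * x = 1 then 2 * n else n) else 4 := by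
      intro x
      by_cases hx : x ∈ T
      · rw [if_pos hx]
        by_cases hx2 : x * x = 1
        · rw [if_pos hx2]; exact hc2 x hx hx2
        · rw [if_neg hx2]; exact hc1 x hx hx2
      · rw [if_neg hx]; exact hc3 x hx
    simp_rw [hval]
    rw [Finset.sum_ite, Finset.sum_ite, Finset.sum_const, Finset.sum_const, Finset.sum_const,
      hA1, hB]
    simp only [smul_eq_mul]
    obtain ⟨m, hm⟩ : ∃ m, ((Finset.univ.filter (fun x : N => x ∈ T)).filter
        (fun x => ¬ x * x = 1)).card = m := ⟨_, rfl⟩
    rw [hm]
    rw [hm] at hA2
    rw [← hA2]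
    ring
  have hfin := card_comm_eq_card_conjClasses_mul_card N
  rw [hsum, hN] at hfin
  have hnpos : 0 < n := by
    rw [hn]
    exact Nat.card_pos
  have : n * (n + 6) = n * (2 * Nat.card (ConjClasses N)) := by
    rw [hfin]; ring
  exact (Nat.eq_of_mul_eq_mul_left hnpos this).symm

end Cfsg.Agent.Helper12
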