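import Mathlib
import Cfsg.Agent.Lib.Helper24.CharComplete

set_option autoImplicit false

namespace Cfsg.Agent.Helper12

open Cfsg Cfsg.Agent.Helper24

open scoped ComplexConjugate

universe u

variable {G : Type u} [Group G]

/-- a unique irreducible character of a given degree -/
theorem card_irr_unique (d : ℂ) (χ₀ : G → ℂ) (h0 : IsIrrCharacter G χ₀) (h1 : χ₀ 1 = d)
    (huniq : ∀ χ : G → ℂ, IsIrrCharacter G χ → χ 1 = d → χ = χ₀) :
    Nat.card {χ : IrrCharacter G // (χ : G → ℂ) 1 = d} = 1 := by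
  rw [Nat.card_eq_one_iff_unique]
  refine ⟨⟨?_⟩, ⟨⟨⟨χ₀, h0⟩, h1⟩⟩⟩
  rintro ⟨⟨χ, hχ⟩, hd⟩ ⟨⟨χ', hχ'⟩, hd'⟩
  apply Subtype.ext
  apply Subtype.ext
  show χ = χ'
  rw [huniq χ hχ hd, huniq χ' hχ' hd']

/-- exactly two irreducible characters of a given degree -/
theorem card_irr_pair (d : ℂ) (χ₁ χ₂ : G → ℂ) (h1 : IsIrrCharacter G χ₁)
    (h2 : IsIrrCharacter G χ₂) (hne : χ₁ ≠ χ₂) (hd1 : χ₁ 1 = d) (hd2 : χ₂ 1 = d)
    (hall : ∀ χ : G → ℂ, IsIrrCharacter G χ → χ 1 = d → χ = χ₁ ∨ χ = χ₂) :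
    Nat.card {χ : IrrCharacter G // (χ : G → ℂ) 1 = d} = 2 := by
  classical
  have e : {χ : IrrCharacter G // (χ : G → ℂ) 1 = d} ≃ Bool :=
    { toFun := fun χ => decide ((χ : IrrCharacter G) = ⟨χ₁, h1⟩)
      invFun := fun b => if b then ⟨⟨χ₁, h1⟩, hd1⟩ else ⟨⟨χ₂, h2⟩, hd2⟩
      left_inv := by
        rintro ⟨⟨χ, hχ⟩, hd⟩
        by_cases hc : χ = χ₁
        · subst hc
          simp
        · have hc2 : χ = χ₂ := (hall χ hχ hd).resolve_left hc
          subst hc2
          have : ¬ ((⟨χ, hχ⟩ : IrrCharacter G) = ⟨χ₁, h1⟩) := fun h => hc (congrArg Subtype.val h)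
          simp [this]
      right_inv := by
        intro b
        cases b
        · have : ¬ ((⟨χ₂, h2⟩ : IrrCharacter G) = ⟨χ₁, h1⟩) := fun h =>
            hne (congrArg Subtype.val h).symm
          simp [this]
        · simp }
  rw [Nat.card_congr e]
  simp

variable [Fintype G]

/-- counting the irreducible characters and the group order by degrees -/
theorem card_irr_fiberwise (D : Finset ℕ)
    (hD : ∀ χ : G → ℂ, IsIrrCharacter G χ → charDegree χ ∈ D) :
    Nat.card (ConjClasses G) =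
      ∑ d ∈ D, Nat.card {χ : IrrCharacter G // (χ : G → ℂ) 1 = (d : ℂ)} ∧
    Nat.card G = ∑ d ∈ D, d ^ 2 * Nat.card {χ : IrrCharacter G // (χ : G → ℂ) 1 = (d : ℂ)} := by
  classical
  letI : Fintype (IrrCharacter G) := irrFintype
  have hcard : ∀ d : ℕ, Nat.card {χ : IrrCharacter G // (χ : G → ℂ) 1 = (d : ℂ)} =
      (Finset.univ.filter (fun χ : IrrCharacter G => charDegree (χ : G → ℂ) = d)).card := by
    intro d
    rw [Nat.card_eq_fintype_card, Fintype.card_subtype]
    congr 1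
    ext χ
    simp only [Finset.mem_filter, Finset.mem_univ, true_and]
    rw [irr_one_eq_charDegree χ.2]
    exact Nat.cast_inj
  have hmaps : ∀ χ ∈ (Finset.univ : Finset (IrrCharacter G)), charDegree (χ : G → ℂ) ∈ D :=
    fun χ _ => hD χ.1 χ.2
  constructor
  · rw [← card_irr_eq_card_conjClasses, Nat.card_eq_fintype_card, ← Finset.card_univ,
      Finset.card_eq_sum_card_fiberwise hmaps]
    exact Finset.sum_congr rfl (fun d _ => (hcard d).symm)
  · rw [← sum_charDegree_sq, ← Finset.sum_fiberwise_of_maps_to hmaps]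
    apply Finset.sum_congr rfl
    intro d _
    rw [hcard d, mul_comm, ← smul_eq_mul, ← Finset.sum_const]
    apply Finset.sum_congr rfl
    intro χ hχ
    rw [Finset.mem_filter] at hχ
    rw [hχ.2]

end Cfsg.Agent.Helper12
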