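import Mathlib
import Cfsg.Agent.Lib.Helper12.SL2Upper
import Cfsg.Agent.Lib.Helper12.ConjCount

set_option autoImplicit false

namespace Cfsg.Agent.Helper12

variable {F : Type*} [Field F]

theorem scalar_SL2_sq (g : Matrix.SpecialLinearGroup (Fin 2) F)
    (h : IsScalar2 (g : Matrix (Fin 2) (Fin 2) F)) :
    (g : Matrix (Fin 2) (Fin 2) F) 0 0 * (g : Matrix (Fin 2) (Fin 2) F) 0 0 = 1 := by
  rcases scalar_SL2_entry g h with h1 | h1 <;> rw [h1] <;> ring

section finite

variable [Fintype F]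

theorem half_trace_sq (hF : ringChar F ≠ 2) (g : Matrix.SpecialLinearGroup (Fin 2) F)
    (h : ¬ Rep1 g) :
    ((g : Matrix (Fin 2) (Fin 2) F).trace / 2) * ((g : Matrix (Fin 2) (Fin 2) F).trace / 2) = 1 := by
  have h2 : (2 : F) ≠ 0 := Ring.two_ne_zero hF
  have ht : (g : Matrix (Fin 2) (Fin 2) F).trace ^ 2 = 4 := by
    by_contra hne
    exact h (rep1_of_trace_sq_ne hF g hne)
  field_simp
  linear_combination ht

open Classical in
/-- a complete conjugacy invariant on `SL₂` in odd characteristic -/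
noncomputable def SL2inv (hF : ringChar F ≠ 2) (g : Matrix.SpecialLinearGroup (Fin 2) F) :
    {e : F // e * e = 1} ⊕ (F ⊕ {e : F // e * e = 1}) :=
  if h : IsScalar2 (g : Matrix (Fin 2) (Fin 2) F) then
    Sum.inl ⟨(g : Matrix (Fin 2) (Fin 2) F) 0 0, scalar_SL2_sq g h⟩
  else if h' : Rep1 g then Sum.inr (Sum.inl (g : Matrix (Fin 2) (Fin 2) F).trace)
  else Sum.inr (Sum.inr ⟨(g : Matrix (Fin 2) (Fin 2) F).trace / 2, half_trace_sq hF g h'⟩)

theorem SL2inv_of_scalar (hF : ringChar F ≠ 2) (g : Matrix.SpecialLinearGroup (Fin 2) F)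
    (h : IsScalar2 (g : Matrix (Fin 2) (Fin 2) F)) :
    SL2inv hF g = Sum.inl ⟨(g : Matrix (Fin 2) (Fin 2) F) 0 0, scalar_SL2_sq g h⟩ := by
  unfold SL2inv
  rw [dif_pos h]

theorem SL2inv_of_rep1 (hF : ringChar F ≠ 2) (g : Matrix.SpecialLinearGroup (Fin 2) F)
    (h : ¬ IsScalar2 (g : Matrix (Fin 2) (Fin 2) F)) (h' : Rep1 g) :
    SL2inv hF g = Sum.inr (Sum.inl (g : Matrix (Fin 2) (Fin 2) F).trace) := by
  unfold SL2inv
  rw [dif_neg h, dif_pos h']

theorem SL2inv_of_not_rep1 (hF : ringChar F ≠ 2) (g : Matrix.SpecialLinearGroup (Fin 2) F)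
    (h : ¬ IsScalar2 (g : Matrix (Fin 2) (Fin 2) F)) (h' : ¬ Rep1 g) :
    SL2inv hF g = Sum.inr (Sum.inr ⟨(g : Matrix (Fin 2) (Fin 2) F).trace / 2,
      half_trace_sq hF g h'⟩) := by
  unfold SL2inv
  rw [dif_neg h, dif_neg h']

theorem SL2inv_eq_of_isConj (hF : ringChar F ≠ 2) (a b : Matrix.SpecialLinearGroup (Fin 2) F)
    (hc : IsConj a b) : SL2inv hF a = SL2inv hF b := by
  by_cases ha : IsScalar2 (a : Matrix (Fin 2) (Fin 2) F)
  · have := eq_of_isConj_of_isScalar2 a b ha hc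
    rw [this]
  · have hb : ¬ IsScalar2 (b : Matrix (Fin 2) (Fin 2) F) := fun h =>
      ha ((isScalar2_iff_of_isConj a b hc).2 h)
    obtain ⟨htr, hrep⟩ := (SL2_isConj_iff hF a b ha hb).1 hc
    by_cases ha' : Rep1 a
    · rw [SL2inv_of_rep1 hF a ha ha', SL2inv_of_rep1 hF b hb (hrep.1 ha'), htr]
    · have hb' : ¬ Rep1 b := fun h => ha' (hrep.2 h)
      rw [SL2inv_of_not_rep1 hF a ha ha', SL2inv_of_not_rep1 hF b hb hb']
      congr 2
      apply Subtype.ext
      show (a : Matrix (Fin 2) (Fin 2) F).trace / 2 = (b : Matrix (Fin 2) (Fin 2) F).trace / 2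
      rw [htr]

theorem isConj_of_SL2inv_eq (hF : ringChar F ≠ 2) (a b : Matrix.SpecialLinearGroup (Fin 2) F)
    (h : SL2inv hF a = SL2inv hF b) : IsConj a b := by
  have h2 : (2 : F) ≠ 0 := Ring.two_ne_zero hF
  by_cases ha : IsScalar2 (a : Matrix (Fin 2) (Fin 2) F)
  · rw [SL2inv_of_scalar hF a ha] at h
    by_cases hb : IsScalar2 (b : Matrix (Fin 2) (Fin 2) F)
    · rw [SL2inv_of_scalar hF b hb] at h
      have h00 := congrArg Subtype.val (Sum.inl.inj h)
      rw [SL2_eq_of_isScalar2 a b ha hb h00]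
    · exfalso
      by_cases hb' : Rep1 b
      · rw [SL2inv_of_rep1 hF b hb hb'] at h
        exact Sum.inl_ne_inr h
      · rw [SL2inv_of_not_rep1 hF b hb hb'] at h
        exact Sum.inl_ne_inr h
  · by_cases hb : IsScalar2 (b : Matrix (Fin 2) (Fin 2) F)
    · exfalso
      rw [SL2inv_of_scalar hF b hb] at h
      by_cases ha' : Rep1 a
      · rw [SL2inv_of_rep1 hF a ha ha'] at h
        exact Sum.inr_ne_inl h
      · rw [SL2inv_of_not_rep1 hF a ha ha'] at h
        exact Sum.inr_ne_inl h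
    · rw [SL2_isConj_iff hF a b ha hb]
      by_cases ha' : Rep1 a
      · rw [SL2inv_of_rep1 hF a ha ha'] at h
        by_cases hb' : Rep1 b
        · rw [SL2inv_of_rep1 hF b hb hb'] at h
          exact ⟨Sum.inl.inj (Sum.inr.inj h), ⟨fun _ => hb', fun _ => ha'⟩⟩
        · exfalso
          rw [SL2inv_of_not_rep1 hF b hb hb'] at h
          exact Sum.inl_ne_inr (Sum.inr.inj h)
      · rw [SL2inv_of_not_rep1 hF a ha ha'] at h
        by_cases hb' : Rep1 b
        · exfalso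
          rw [SL2inv_of_rep1 hF b hb hb'] at h
          exact Sum.inr_ne_inl (Sum.inr.inj h)
        · rw [SL2inv_of_not_rep1 hF b hb hb'] at h
          have h3 := congrArg Subtype.val (Sum.inr.inj (Sum.inr.inj h))
          simp only at h3
          refine ⟨?_, ⟨fun h => absurd h ha', fun h => absurd h hb'⟩⟩
          field_simp at h3
          exact h3

theorem exists_not_isSquare (hF : ringChar F ≠ 2) : ∃ c : F, c ≠ 0 ∧ ¬ IsSquare c := by
  obtain ⟨c, hc⟩ := FiniteField.exists_nonsquare hF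
  refine ⟨c, ?_, hc⟩
  rintro rfl
  exact hc IsSquare.zero

theorem SL2inv_surjective (hF : ringChar F ≠ 2) : Function.Surjective (SL2inv (F := F) hF) := by
  have h2 : (2 : F) ≠ 0 := Ring.two_ne_zero hF
  rintro (⟨e, he⟩ | t | ⟨e, he⟩)
  · refine ⟨upperSL e 0 he, ?_⟩
    have hs : IsScalar2 ((upperSL e 0 he : Matrix.SpecialLinearGroup (Fin 2) F) :
        Matrix (Fin 2) (Fin 2) F) := by
      rw [upperSL_coe]
      refine ⟨?_, ?_, ?_⟩ <;> simp
    rw [SL2inv_of_scalar hF _ hs]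
    congr 2
  · let g : Matrix.SpecialLinearGroup (Fin 2) F :=
      ⟨companion2 t 1, det_companion2 t 1⟩
    have hns : ¬ IsScalar2 (g : Matrix (Fin 2) (Fin 2) F) := companion2_not_scalar t 1
    have hrep : Rep1 g := by
      refine ⟨![1, 0], ?_⟩
      rw [qf2_eq]
      simp [g, companion2]
    refine ⟨g, ?_⟩
    rw [SL2inv_of_rep1 hF g hns hrep]
    congr 2
    exact trace_companion2 t 1
  · obtain ⟨c, hc0, hc⟩ := exists_not_isSquare (F := F) hF
    have hb : -c ≠ 0 := neg_ne_zero.2 hc0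
    have hns := upperSL_not_scalar e (-c) he hb
    have hrep : ¬ Rep1 (upperSL e (-c) he) := by
      rw [rep1_upperSL_iff e (-c) he hb, neg_neg]
      exact hc
    refine ⟨upperSL e (-c) he, ?_⟩
    rw [SL2inv_of_not_rep1 hF _ hns hrep]
    congr 2
    apply Subtype.ext
    show ((upperSL e (-c) he : Matrix.SpecialLinearGroup (Fin 2) F) :
      Matrix (Fin 2) (Fin 2) F).trace / 2 = e
    rw [trace_upperSL]
    field_simp
    ring

/-- the number of conjugacy classes of `SL₂(q)`, `q` odd, is `q + 4` -/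
theorem card_conjClasses_SL2 (hF : ringChar F ≠ 2) :
    Nat.card (ConjClasses (Matrix.SpecialLinearGroup (Fin 2) F)) = Fintype.card F + 4 := by
  rw [card_conjClasses_of_invariant (SL2inv (F := F) hF) (SL2inv_eq_of_isConj hF)
    (isConj_of_SL2inv_eq hF) (SL2inv_surjective hF)]
  rw [Nat.card_sum, Nat.card_sum, card_sq_eq_one hF, Nat.card_eq_fintype_card]
  ring

end finite

end Cfsg.Agent.Helper12
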