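import Mathlib
import Cfsg.Agent.Lib.Helper12.SL2Res

set_option autoImplicit false

namespace Cfsg.Agent.Helper12

open Cfsg Cfsg.Agent.Helper24 Cfsg.Agent.Helper5

open scoped ComplexConjugate

variable {F : Type*} [Field F] [Fintype F] [DecidableEq F]

/-! ### twists of the characters of `GL₂` -/

omit [Fintype F] [DecidableEq F] in
theorem detChar_mul_detChar (α γ : MulChar F ℂ) : detChar α * detChar γ = detChar (α * γ) := by
  funext g
  rw [Pi.mul_apply, detChar_apply, detChar_apply, detChar_apply, MulChar.mul_apply]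

theorem ps_mul_detChar (α β γ : MulChar F ℂ) : ps α β * detChar γ = ps (α * γ) (β * γ) := by
  funext g
  rw [Pi.mul_apply, ps_apply, ps_apply, detChar_apply, add_mul, Finset.sum_mul]
  have hdet := Matrix.det_fin_two (g : Matrix (Fin 2) (Fin 2) F)
  congr 1
  · split_ifs with h10
    · rw [hdet, h10, mul_zero, sub_zero, map_mul, MulChar.mul_apply, MulChar.mul_apply]
      ring
    · rw [zero_mul]
  · apply Finset.sum_congr rfl
    intro x _
    split_ifs with hQ
    · have hXY : (g : Matrix (Fin 2) (Fin 2) F).det =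
          ((g : Matrix (Fin 2) (Fin 2) F) 1 0 * x + (g : Matrix (Fin 2) (Fin 2) F) 1 1) *
            ((g : Matrix (Fin 2) (Fin 2) F) 0 0 - (g : Matrix (Fin 2) (Fin 2) F) 1 0 * x) := by
        rw [hdet]
        linear_combination (g : Matrix (Fin 2) (Fin 2) F) 1 0 * hQ
      rw [hXY, map_mul, MulChar.mul_apply, MulChar.mul_apply]
      ring
    · rw [zero_mul]

theorem st_mul_detChar (α γ : MulChar F ℂ) : st α * detChar γ = st (α * γ) := by
  unfold st
  rw [sub_mul, ps_mul_detChar, detChar_mul_detChar]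

/-! ### the non-cuspidal characters of `SL₂` -/

/-- the Steinberg character of `SL₂` -/
noncomputable def stSL : Matrix.SpecialLinearGroup (Fin 2) F → ℂ := resSL (st (1 : MulChar F ℂ))

/-- the principal series of `SL₂` -/
noncomputable def psSL (μ : MulChar F ℂ) : Matrix.SpecialLinearGroup (Fin 2) F → ℂ :=
  resSL (ps μ (1 : MulChar F ℂ))

theorem resSL_st (α : MulChar F ℂ) : resSL (st α) = stSL (F := F) := by
  have h := st_mul_detChar (1 : MulChar F ℂ) α
  rw [one_mul] at h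
  rw [← h, resSL_mul_detChar]
  rfl

theorem resSL_ps (α β : MulChar F ℂ) : resSL (ps α β) = psSL (α * β⁻¹) := by
  have h := ps_mul_detChar (α * β⁻¹) (1 : MulChar F ℂ) β
  rw [one_mul, inv_mul_cancel_right] at h
  rw [← h, resSL_mul_detChar]
  rfl

theorem isCharacter_psSL (μ : MulChar F ℂ) :
    IsCharacter (Matrix.SpecialLinearGroup (Fin 2) F) (psSL μ) :=
  isCharacter_resSL (isCharacter_ps μ 1)

theorem psSL_one_apply (μ : MulChar F ℂ) : psSL μ 1 = (Fintype.card F : ℂ) + 1 := by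
  unfold psSL
  rw [resSL_one, ps_one]

theorem stSL_one_apply : stSL (F := F) 1 = (Fintype.card F : ℂ) := by
  unfold stSL
  rw [resSL_one, st_one]

theorem classInner_psSL (μ μ' : MulChar F ℂ) :
    classInner (psSL μ) (psSL μ') =
      (if μ = μ' then 1 else 0) + (if μ * μ' = 1 then 1 else 0) := by
  classical
  letI : Fintype (MulChar F ℂ) := Fintype.ofFinite _
  unfold psSL
  rw [classInner_resSL]
  have h1 : ∀ γ : MulChar F ℂ, classInner (ps μ 1 * detChar γ) (ps μ' 1) =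
      (if γ = 1 then (if μ = μ' then 1 else 0) else 0) +
        (if γ = μ' then (if μ * μ' = 1 then 1 else 0) else 0) := by
    intro γ
    rw [ps_mul_detChar, classInner_ps, one_mul]
    congr 1
    · by_cases hγ : γ = 1
      · rw [if_pos hγ, hγ, mul_one]
        by_cases hμ : μ = μ'
        · rw [if_pos hμ, if_pos ⟨hμ, rfl⟩]
        · rw [if_neg hμ, if_neg (fun h => hμ h.1)]
      · rw [if_neg hγ, if_neg (fun h => hγ h.2)]
    · by_cases hγ : γ = μ'
      · rw [if_pos hγ, hγ]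
        by_cases hμ : μ * μ' = 1
        · rw [if_pos hμ, if_pos ⟨hμ, rfl⟩]
        · rw [if_neg hμ, if_neg (fun h => hμ h.1)]
      · rw [if_neg hγ, if_neg (fun h => hγ h.2)]
  rw [Finset.sum_congr rfl (fun γ _ => h1 γ), Finset.sum_add_distrib,
    Finset.sum_ite_eq' Finset.univ (1 : MulChar F ℂ), Finset.sum_ite_eq' Finset.univ μ']
  simp only [Finset.mem_univ, if_true]

theorem isIrrCharacter_psSL (μ : MulChar F ℂ) (h : μ ^ 2 ≠ 1) :
    IsIrrCharacter (Matrix.SpecialLinearGroup (Fin 2) F) (psSL μ) := by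
  apply isIrrCharacter_resSL_of_norm_one (isCharacter_ps μ 1)
  change classInner (psSL μ) (psSL μ) = 1
  rw [classInner_psSL, if_pos rfl, if_neg (by rw [← pow_two]; exact h), add_zero]

theorem isIrrCharacter_stSL :
    IsIrrCharacter (Matrix.SpecialLinearGroup (Fin 2) F) (stSL (F := F)) := by
  classical
  rcases norm_resSL (isIrrCharacter_st (1 : MulChar F ℂ)) with ⟨-, h⟩ | ⟨⟨γ, hγ, hfix⟩, -⟩
  · exact isIrrCharacter_resSL_of_norm_one
      (isCharacter_of_isIrrCharacter (isIrrCharacter_st (1 : MulChar F ℂ))) h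
  · exfalso
    rw [st_mul_detChar, one_mul] at hfix
    exact hγ (st_injective hfix)

/-! ### the Clifford correspondence -/

/-- `χ` and `χ'` are the two distinct irreducible constituents of `ρ`, conjugate under `GL₂` -/
structure IsHalfPair (ρ χ χ' : Matrix.SpecialLinearGroup (Fin 2) F → ℂ) : Prop where
  irr : IsIrrCharacter (Matrix.SpecialLinearGroup (Fin 2) F) χ
  irr' : IsIrrCharacter (Matrix.SpecialLinearGroup (Fin 2) F) χ'
  ne : χ ≠ χ'
  sum : ρ = χ + χ'
  cj : ∃ x : GL (Fin 2) F, ∀ g h : Matrix.SpecialLinearGroup (Fin 2) F,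
    Matrix.SpecialLinearGroup.toGL h = x * Matrix.SpecialLinearGroup.toGL g * x⁻¹ → χ' h = χ g

omit [Fintype F] [DecidableEq F] in
theorem IsHalfPair.symm {ρ χ χ' : Matrix.SpecialLinearGroup (Fin 2) F → ℂ}
    (h : IsHalfPair ρ χ χ') : IsHalfPair ρ χ' χ := by
  obtain ⟨x, hx⟩ := h.cj
  refine ⟨h.irr', h.irr, h.ne.symm, by rw [h.sum, add_comm], x⁻¹, ?_⟩
  intro g k hgk
  symm
  apply hx k g
  rw [hgk]
  group

omit [Fintype F] [DecidableEq F] in
theorem IsHalfPair.one_eq {ρ χ χ' : Matrix.SpecialLinearGroup (Fin 2) F → ℂ}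
    (h : IsHalfPair ρ χ χ') : χ' 1 = χ 1 := by
  obtain ⟨x, hx⟩ := h.cj
  apply hx 1 1
  rw [map_one]
  group

omit [Fintype F] [DecidableEq F] in
theorem IsHalfPair.two_mul_one {ρ χ χ' : Matrix.SpecialLinearGroup (Fin 2) F → ℂ}
    (h : IsHalfPair ρ χ χ') : 2 * χ 1 = ρ 1 := by
  rw [h.sum, Pi.add_apply, h.one_eq]
  ring

/-- every irreducible character of `SL₂` is the restriction of an irreducible character of `GL₂`
or one half of such a restriction -/
theorem SL2_irr_above {χ : Matrix.SpecialLinearGroup (Fin 2) F → ℂ}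
    (hχ : IsIrrCharacter (Matrix.SpecialLinearGroup (Fin 2) F) χ) :
    ∃ π : GL (Fin 2) F → ℂ, IsIrrCharacter (GL (Fin 2) F) π ∧
      (((∀ γ : MulChar F ℂ, π * detChar γ = π → γ = 1) ∧
          classInner (resSL π) (resSL π) = 1 ∧ resSL π = χ) ∨
       ((∃ γ : MulChar F ℂ, γ ≠ 1 ∧ π * detChar γ = π) ∧
          classInner (resSL π) (resSL π) = 2 ∧
          ∃ χ' : Matrix.SpecialLinearGroup (Fin 2) F → ℂ, IsHalfPair (resSL π) χ χ')) := by
  classical
  obtain ⟨π, hπ, hne⟩ := exists_GL2_above hχ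
  refine ⟨π, hπ, ?_⟩
  rcases norm_resSL hπ with ⟨h1, h2⟩ | ⟨h1, h2⟩
  · left
    refine ⟨h1, h2, ?_⟩
    have hirr := isIrrCharacter_resSL_of_norm_one (isCharacter_of_isIrrCharacter hπ) h2
    rw [irr_orthogonality hirr hχ] at hne
    by_contra hcon
    rw [if_neg hcon] at hne
    exact hne rfl
  · right
    refine ⟨h1, h2, ?_⟩
    obtain ⟨χ₁, χ₂, hi1, hi2, hne12, hsum, x, hx⟩ := resSL_split hπ h2
    have hP : IsHalfPair (resSL π) χ₁ χ₂ := ⟨hi1, hi2, hne12, hsum, x, hx⟩
    rw [hsum, classInner_add_left, irr_orthogonality hi1 hχ, irr_orthogonality hi2 hχ] at hne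
    by_cases hc1 : χ₁ = χ
    · rw [← hc1]
      exact ⟨χ₂, hP⟩
    · rw [if_neg hc1, zero_add] at hne
      by_cases hc2 : χ₂ = χ
      · rw [← hc2]
        exact ⟨χ₁, hP.symm⟩
      · rw [if_neg hc2] at hne
        exact absurd rfl hne

/-- the classification of the irreducible characters of `SL₂(q)` -/
theorem SL2_irr_cases {χ : Matrix.SpecialLinearGroup (Fin 2) F → ℂ}
    (hχ : IsIrrCharacter (Matrix.SpecialLinearGroup (Fin 2) F) χ) :
    (χ = fun _ => (1 : ℂ)) ∨ (χ = stSL) ∨ (∃ μ : MulChar F ℂ, μ ^ 2 ≠ 1 ∧ χ = psSL μ) ∨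
    (∃ μ : MulChar F ℂ, μ ≠ 1 ∧ μ ^ 2 = 1 ∧
      ∃ χ' : Matrix.SpecialLinearGroup (Fin 2) F → ℂ, IsHalfPair (psSL μ) χ χ') ∨
    (∃ π : GL (Fin 2) F → ℂ, IsIrrCharacter (GL (Fin 2) F) π ∧ IsCuspidalGL2 π ∧
      π 1 = (Fintype.card F : ℂ) - 1 ∧ (∀ γ : MulChar F ℂ, π * detChar γ = π → γ = 1) ∧
      resSL π = χ) ∨
    (∃ π : GL (Fin 2) F → ℂ, IsIrrCharacter (GL (Fin 2) F) π ∧ IsCuspidalGL2 π ∧
      π 1 = (Fintype.card F : ℂ) - 1 ∧ (∃ γ : MulChar F ℂ, γ ≠ 1 ∧ π * detChar γ = π) ∧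
      ∃ χ' : Matrix.SpecialLinearGroup (Fin 2) F → ℂ, IsHalfPair (resSL π) χ χ') := by
  classical
  obtain ⟨π, hπ, hcase⟩ := SL2_irr_above hχ
  rcases GL2_irr_cases hπ with ⟨α, rfl⟩ | ⟨α, rfl⟩ | ⟨α, β, hαβ, rfl⟩ | ⟨hcusp, hdeg⟩
  · -- determinant characters
    rcases hcase with ⟨-, -, hres⟩ | ⟨⟨γ, hγ, hfix⟩, -, -⟩
    · left
      rw [← hres, resSL_detChar]
    · exfalso
      rw [detChar_mul_detChar] at hfix
      apply hγ
      have := detChar_injective hfix
      exact mul_left_cancel (a := α) (by rw [this, mul_one])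
  · -- Steinberg characters
    rcases hcase with ⟨-, -, hres⟩ | ⟨⟨γ, hγ, hfix⟩, -, -⟩
    · right; left
      rw [← hres, resSL_st]
    · exfalso
      rw [st_mul_detChar] at hfix
      apply hγ
      have := st_injective hfix
      exact mul_left_cancel (a := α) (by rw [this, mul_one])
  · -- principal series
    have hμ1 : α * β⁻¹ ≠ 1 := fun h => hαβ (mul_inv_eq_one.1 h)
    rw [resSL_ps] at hcase
    rcases hcase with ⟨-, hnorm, hres⟩ | ⟨-, hnorm, χ', hP⟩
    · right; right; left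
      refine ⟨α * β⁻¹, ?_, hres.symm⟩
      intro h2
      rw [classInner_psSL, if_pos rfl, if_pos (by rw [← pow_two]; exact h2)] at hnorm
      norm_num at hnorm
    · right; right; right; left
      refine ⟨α * β⁻¹, hμ1, ?_, χ', hP⟩
      by_contra h2
      rw [classInner_psSL, if_pos rfl, if_neg (by rw [← pow_two]; exact h2)] at hnorm
      norm_num at hnorm
  · -- cuspidal characters
    rcases hcase with ⟨h1, -, hres⟩ | ⟨h1, -, χ', hP⟩
    · right; right; right; right; left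
      exact ⟨π, hπ, hcusp, hdeg, h1, hres⟩
    · right; right; right; right; right
      exact ⟨π, hπ, hcusp, hdeg, h1, χ', hP⟩

end Cfsg.Agent.Helper12
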