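import Mathlib
import Cfsg.Agent.Lib.Helper12.SL2Irr
import Cfsg.Agent.Lib.Helper12.SL2Classes
import Cfsg.Agent.Lib.Helper12.IrrCount

set_option autoImplicit false

namespace Cfsg.Agent.Helper12

open Cfsg Cfsg.Agent.Helper24 Cfsg.Agent.Helper5

open scoped ComplexConjugate

variable {F : Type*} [Field F] [Fintype F] [DecidableEq F]

/-- the degrees in the classification of the irreducible characters of `SL₂(q)` -/
theorem SL2_degree_cases {χ : Matrix.SpecialLinearGroup (Fin 2) F → ℂ}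
    (hχ : IsIrrCharacter (Matrix.SpecialLinearGroup (Fin 2) F) χ) (d : ℕ) (hd : χ 1 = (d : ℂ)) :
    (d = 1 ∧ χ = fun _ => (1 : ℂ)) ∨ (d = Fintype.card F ∧ χ = stSL) ∨
    (d = Fintype.card F + 1 ∧ ∃ μ : MulChar F ℂ, μ ^ 2 ≠ 1 ∧ χ = psSL μ) ∨
    (2 * d = Fintype.card F + 1 ∧ ∃ μ : MulChar F ℂ, μ ≠ 1 ∧ μ ^ 2 = 1 ∧
      ∃ χ' : Matrix.SpecialLinearGroup (Fin 2) F → ℂ, IsHalfPair (psSL μ) χ χ') ∨
    (d + 1 = Fintype.card F ∧ ∃ π : GL (Fin 2) F → ℂ, IsIrrCharacter (GL (Fin 2) F) π ∧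
      IsCuspidalGL2 π ∧ π 1 = (Fintype.card F : ℂ) - 1 ∧
      (∀ γ : MulChar F ℂ, π * detChar γ = π → γ = 1) ∧ resSL π = χ) ∨
    (2 * d + 1 = Fintype.card F ∧ ∃ π : GL (Fin 2) F → ℂ, IsIrrCharacter (GL (Fin 2) F) π ∧
      IsCuspidalGL2 π ∧ π 1 = (Fintype.card F : ℂ) - 1 ∧
      (∃ γ : MulChar F ℂ, γ ≠ 1 ∧ π * detChar γ = π) ∧
      ∃ χ' : Matrix.SpecialLinearGroup (Fin 2) F → ℂ, IsHalfPair (resSL π) χ χ') := by
  rcases SL2_irr_cases hχ with h | h | ⟨μ, hμ, h⟩ | ⟨μ, hμ1, hμ2, χ', hP⟩ |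
    ⟨π, hπ, hc, hdeg, hfix, hres⟩ | ⟨π, hπ, hc, hdeg, hfix, χ', hP⟩
  · left
    refine ⟨?_, h⟩
    rw [h] at hd
    have hd' : (1 : ℂ) = (d : ℂ) := hd
    exact_mod_cast hd'.symm
  · right; left
    refine ⟨?_, h⟩
    rw [h, stSL_one_apply] at hd
    exact_mod_cast hd.symm
  · right; right; left
    refine ⟨?_, μ, hμ, h⟩
    rw [h, psSL_one_apply] at hd
    exact_mod_cast hd.symm
  · right; right; right; left
    refine ⟨?_, μ, hμ1, hμ2, χ', hP⟩
    have h2 := hP.two_mul_one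
    rw [psSL_one_apply, hd] at h2
    exact_mod_cast h2
  · right; right; right; right; left
    refine ⟨?_, π, hπ, hc, hdeg, hfix, hres⟩
    rw [← hres, resSL_one, hdeg] at hd
    have : ((d + 1 : ℕ) : ℂ) = (Fintype.card F : ℂ) := by
      push_cast
      linear_combination -hd
    exact_mod_cast this
  · right; right; right; right; right
    refine ⟨?_, π, hπ, hc, hdeg, hfix, χ', hP⟩
    have h2 := hP.two_mul_one
    rw [resSL_one, hdeg, hd] at h2
    have : ((2 * d + 1 : ℕ) : ℂ) = (Fintype.card F : ℂ) := by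
      push_cast
      linear_combination h2
    exact_mod_cast this

/-! ### quadratic characters -/

omit [DecidableEq F] in
theorem exists_quadratic_mulChar (hodd : Odd (Fintype.card F)) :
    ∃ γ₀ : MulChar F ℂ, γ₀ ≠ 1 ∧ γ₀ ^ 2 = 1 := by
  classical
  letI : Fintype (MulChar F ℂ) := Fintype.ofFinite _
  have hcard : Nat.card (MulChar F ℂ) = Fintype.card F - 1 := by
    rw [Nat.card_eq_fintype_card, card_mulChar]
  have h2 : 2 ∣ Nat.card (MulChar F ℂ) := by
    rw [hcard]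
    obtain ⟨k, hk⟩ := hodd
    exact ⟨k, by omega⟩
  haveI : Fact (Nat.Prime 2) := ⟨Nat.prime_two⟩
  obtain ⟨x, hx⟩ := exists_prime_orderOf_dvd_card' 2 h2
  refine ⟨x, ?_, ?_⟩
  · rintro rfl
    rw [orderOf_one] at hx
    norm_num at hx
  · rw [← hx]
    exact pow_orderOf_eq_one x

theorem card_sq_ne_one_odd [Fintype (MulChar F ℂ)] (hodd : Odd (Fintype.card F)) :
    (Finset.univ.filter (fun μ : MulChar F ℂ => μ ^ 2 ≠ 1)).card = Fintype.card F - 3 := by
  classical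
  obtain ⟨γ₀, hγ1, hγ2⟩ := exists_quadratic_mulChar (F := F) hodd
  have h1 := Finset.card_filter_add_card_filter_not (s := (Finset.univ : Finset (MulChar F ℂ)))
    (fun μ : MulChar F ℂ => μ ^ 2 = 1)
  have h2 : (Finset.univ.filter (fun μ : MulChar F ℂ => μ ^ 2 = 1)) = {1, γ₀} := by
    ext μ
    simp only [Finset.mem_filter, Finset.mem_univ, true_and, Finset.mem_insert,
      Finset.mem_singleton]
    constructor
    · intro h
      by_cases hμ : μ = 1
      · left; exact hμ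
      · right; exact quadratic_mulChar_unique μ γ₀ h hγ2 hμ hγ1
    · rintro (rfl | rfl)
      · exact one_pow 2
      · exact hγ2
  rw [h2, Finset.card_pair hγ1.symm, Finset.card_univ, card_mulChar] at h1
  have h3 : (Finset.univ.filter (fun μ : MulChar F ℂ => μ ^ 2 ≠ 1)).card =
      (Finset.univ.filter (fun μ : MulChar F ℂ => ¬ μ ^ 2 = 1)).card := by
    congr 1
  rw [h3]
  obtain ⟨k, hk⟩ := hodd
  omega

theorem card_sq_ne_one_even [Fintype (MulChar F ℂ)] (heven : Even (Fintype.card F)) :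
    (Finset.univ.filter (fun μ : MulChar F ℂ => μ ^ 2 ≠ 1)).card = Fintype.card F - 2 := by
  classical
  have h1 := Finset.card_filter_add_card_filter_not (s := (Finset.univ : Finset (MulChar F ℂ)))
    (fun μ : MulChar F ℂ => μ ^ 2 = 1)
  have h2 : (Finset.univ.filter (fun μ : MulChar F ℂ => μ ^ 2 = 1)) = {1} := by
    ext μ
    simp only [Finset.mem_filter, Finset.mem_univ, true_and, Finset.mem_singleton]
    constructor
    · intro h
      exact quadratic_mulChar_trivial heven μ h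
    · rintro rfl
      exact one_pow 2
  rw [h2, Finset.card_singleton, Finset.card_univ, card_mulChar] at h1
  have h3 : (Finset.univ.filter (fun μ : MulChar F ℂ => μ ^ 2 ≠ 1)).card =
      (Finset.univ.filter (fun μ : MulChar F ℂ => ¬ μ ^ 2 = 1)).card := by
    congr 1
  rw [h3]
  omega

/-! ### counting the principal series -/

theorem psSL_eq_iff (μ μ' : MulChar F ℂ) (hμ : μ ^ 2 ≠ 1) (hμ' : μ' ^ 2 ≠ 1) :
    psSL μ = psSL μ' ↔ μ = μ' ∨ μ * μ' = 1 := by
  have h1 := irr_orthogonality (isIrrCharacter_psSL μ hμ) (isIrrCharacter_psSL μ' hμ')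
  rw [classInner_psSL] at h1
  constructor
  · intro h
    rw [if_pos h] at h1
    by_contra hcon
    push Not at hcon
    rw [if_neg hcon.1, if_neg hcon.2] at h1
    norm_num at h1
  · intro h
    by_contra hcon
    rw [if_neg hcon] at h1
    rcases h with h | h
    · rw [if_pos h] at h1
      split_ifs at h1 <;> norm_num at h1
    · rw [if_pos h] at h1
      split_ifs at h1 <;> norm_num at h1

open Classical in
theorem card_image_psSL [Fintype (MulChar F ℂ)] :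
    2 * ((Finset.univ.filter (fun μ : MulChar F ℂ => μ ^ 2 ≠ 1)).image
      (fun μ => psSL μ)).card =
      (Finset.univ.filter (fun μ : MulChar F ℂ => μ ^ 2 ≠ 1)).card := by
  set S := Finset.univ.filter (fun μ : MulChar F ℂ => μ ^ 2 ≠ 1) with hS
  rw [Finset.card_eq_sum_card_image (fun μ => psSL μ) S]
  rw [Finset.sum_const_nat (m := 2), mul_comm]
  intro χ hχ
  obtain ⟨μ₀, hμ₀, rfl⟩ := Finset.mem_image.1 hχ
  rw [hS, Finset.mem_filter] at hμ₀
  have hμ₀' : μ₀⁻¹ ^ 2 ≠ 1 := by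
    rw [inv_pow]
    intro h
    exact hμ₀.2 (inv_eq_one.1 h)
  have hfib : S.filter (fun μ => psSL μ = psSL μ₀) = {μ₀, μ₀⁻¹} := by
    ext μ
    simp only [hS, Finset.mem_filter, Finset.mem_univ, true_and, Finset.mem_insert,
      Finset.mem_singleton]
    constructor
    · rintro ⟨h1, h2⟩
      rcases (psSL_eq_iff μ μ₀ h1 hμ₀.2).1 h2 with h | h
      · left; exact h
      · right; exact eq_inv_of_mul_eq_one_left h
    · rintro (rfl | rfl)
      · exact ⟨hμ₀.2, rfl⟩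
      · exact ⟨hμ₀', (psSL_eq_iff _ _ hμ₀' hμ₀.2).2 (Or.inr (inv_mul_cancel μ₀))⟩
  rw [hfib, Finset.card_pair]
  intro h
  apply hμ₀.2
  rw [pow_two]
  nth_rewrite 1 [h]
  exact inv_mul_cancel μ₀

/-- the number of irreducible characters of degree `q + 1`, provided they all are principal
series -/
theorem card_irr_ps [Fintype (MulChar F ℂ)]
    (hcase : ∀ χ : Matrix.SpecialLinearGroup (Fin 2) F → ℂ,
      IsIrrCharacter (Matrix.SpecialLinearGroup (Fin 2) F) χ → χ 1 = (Fintype.card F : ℂ) + 1 →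
        ∃ μ : MulChar F ℂ, μ ^ 2 ≠ 1 ∧ χ = psSL μ) :
    2 * Nat.card {χ : IrrCharacter (Matrix.SpecialLinearGroup (Fin 2) F) //
      (χ : Matrix.SpecialLinearGroup (Fin 2) F → ℂ) 1 = (Fintype.card F : ℂ) + 1} =
      (Finset.univ.filter (fun μ : MulChar F ℂ => μ ^ 2 ≠ 1)).card := by
  classical
  rw [← card_image_psSL]
  congr 1
  set T := (Finset.univ.filter (fun μ : MulChar F ℂ => μ ^ 2 ≠ 1)).image (fun μ => psSL μ)
    with hT
  rw [← Fintype.card_coe T, ← Nat.card_eq_fintype_card (α := ↥T)]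
  apply Nat.card_congr
  refine Equiv.ofBijective (fun χ => ⟨(χ.1 : Matrix.SpecialLinearGroup (Fin 2) F → ℂ), ?_⟩)
    ⟨?_, ?_⟩
  · obtain ⟨μ, hμ, h⟩ := hcase χ.1.1 χ.1.2 χ.2
    rw [hT, Finset.mem_image]
    exact ⟨μ, by rw [Finset.mem_filter]; exact ⟨Finset.mem_univ _, hμ⟩, h.symm⟩
  · intro χ χ' h
    apply Subtype.ext
    apply Subtype.ext
    have h' := congrArg Subtype.val h
    exact h'
  · rintro ⟨f, hf⟩
    rw [hT, Finset.mem_image] at hf
    obtain ⟨μ, hμ, rfl⟩ := hf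
    rw [Finset.mem_filter] at hμ
    exact ⟨⟨⟨psSL μ, isIrrCharacter_psSL μ hμ.2⟩, psSL_one_apply μ⟩, rfl⟩

/-! ### half pairs -/

theorem IsHalfPair.eq_or_eq {ρ χ₁ χ₂ χ χ' : Matrix.SpecialLinearGroup (Fin 2) F → ℂ}
    (h : IsHalfPair ρ χ₁ χ₂) (h' : IsHalfPair ρ χ χ') : χ = χ₁ ∨ χ = χ₂ := by
  have h1 : classInner ρ χ = 1 := by
    rw [h'.sum, classInner_add_left, irr_orthogonality h'.irr h'.irr,
      irr_orthogonality h'.irr' h'.irr, if_pos rfl, if_neg h'.ne.symm, add_zero]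
  rw [h.sum, classInner_add_left, irr_orthogonality h.irr h'.irr,
    irr_orthogonality h.irr' h'.irr] at h1
  by_cases hc1 : χ₁ = χ
  · left; exact hc1.symm
  · by_cases hc2 : χ₂ = χ
    · right; exact hc2.symm
    · rw [if_neg hc1, if_neg hc2] at h1
      norm_num at h1

/-- the two halves of the principal series attached to the quadratic character -/
theorem exists_halfPair_psSL (hodd : Odd (Fintype.card F)) :
    ∃ (γ₀ : MulChar F ℂ) (ξ₁ ξ₂ : Matrix.SpecialLinearGroup (Fin 2) F → ℂ),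
      γ₀ ≠ 1 ∧ γ₀ ^ 2 = 1 ∧ IsHalfPair (psSL γ₀) ξ₁ ξ₂ := by
  obtain ⟨γ₀, hγ1, hγ2⟩ := exists_quadratic_mulChar (F := F) hodd
  have hnorm : classInner (resSL (ps γ₀ (1 : MulChar F ℂ))) (resSL (ps γ₀ (1 : MulChar F ℂ))) = 2 := by
    change classInner (psSL γ₀) (psSL γ₀) = 2
    rw [classInner_psSL, if_pos rfl, if_pos (by rw [← pow_two]; exact hγ2)]
    norm_num
  obtain ⟨ξ₁, ξ₂, h1, h2, hne, hsum, hx⟩ := resSL_split (isIrrCharacter_ps γ₀ 1 hγ1) hnorm
  exact ⟨γ₀, ξ₁, ξ₂, hγ1, hγ2, ⟨h1, h2, hne, hsum, hx⟩⟩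

end Cfsg.Agent.Helper12
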