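import Mathlib
import Cfsg.Agent.Lib.Helper12.SL2Count

set_option autoImplicit false

namespace Cfsg.Agent.Helper12

open Cfsg Cfsg.Agent.Helper24 Cfsg.Agent.Helper5

open scoped ComplexConjugate

variable {F : Type*} [Field F] [Fintype F] [DecidableEq F]

/-! ### values of the principal series of `SL₂` -/

omit [Fintype F] [DecidableEq F] in
theorem SL2_diag_entries (g : Matrix.SpecialLinearGroup (Fin 2) F)
    (h01 : (g : Matrix (Fin 2) (Fin 2) F) 0 1 = 0) :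
    (g : Matrix (Fin 2) (Fin 2) F) 0 0 * (g : Matrix (Fin 2) (Fin 2) F) 1 1 = 1 := by
  have hdet := g.2
  rw [Matrix.det_fin_two, h01] at hdet
  linear_combination hdet

omit [Fintype F] [DecidableEq F] in
theorem SL2_diag_entries' (g : Matrix.SpecialLinearGroup (Fin 2) F)
    (h10 : (g : Matrix (Fin 2) (Fin 2) F) 1 0 = 0) :
    (g : Matrix (Fin 2) (Fin 2) F) 0 0 * (g : Matrix (Fin 2) (Fin 2) F) 1 1 = 1 := by
  have hdet := g.2
  rw [Matrix.det_fin_two, h10] at hdet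
  linear_combination hdet

theorem psSL_apply_split (μ : MulChar F ℂ) (g : Matrix.SpecialLinearGroup (Fin 2) F)
    (h01 : (g : Matrix (Fin 2) (Fin 2) F) 0 1 = 0) (h10 : (g : Matrix (Fin 2) (Fin 2) F) 1 0 = 0)
    (hsq : (g : Matrix (Fin 2) (Fin 2) F) 0 0 ^ 2 ≠ 1) :
    psSL μ g = μ ((g : Matrix (Fin 2) (Fin 2) F) 0 0) + μ ((g : Matrix (Fin 2) (Fin 2) F) 1 1) := by
  have hd := SL2_diag_entries g h01
  have h00 : (g : Matrix (Fin 2) (Fin 2) F) 0 0 ≠ 0 := by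
    intro h0
    rw [h0, zero_mul] at hd
    exact zero_ne_one hd
  have h11 : (g : Matrix (Fin 2) (Fin 2) F) 1 1 ≠ 0 := by
    intro h0
    rw [h0, mul_zero] at hd
    exact zero_ne_one hd
  have hne : (g : Matrix (Fin 2) (Fin 2) F) 0 0 ≠ (g : Matrix (Fin 2) (Fin 2) F) 1 1 := by
    intro h
    apply hsq
    rw [← h] at hd
    rw [pow_two]
    exact hd
  unfold psSL
  rw [resSL_apply, ps_apply_split μ 1 _ h01 h10 hne, toGL_coe,
    MulChar.one_apply (isUnit_iff_ne_zero.2 h00), MulChar.one_apply (isUnit_iff_ne_zero.2 h11)]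
  ring

theorem psSL_apply_elliptic (μ : MulChar F ℂ) (g : Matrix.SpecialLinearGroup (Fin 2) F)
    (hno : ∀ (c : F) (v : Fin 2 → F), v ≠ 0 → (g : Matrix (Fin 2) (Fin 2) F).mulVec v ≠ c • v) :
    psSL μ g = 0 := by
  unfold psSL
  rw [resSL_apply, ps_apply_elliptic μ 1 _ hno]

theorem psSL_apply_upper (μ : MulChar F ℂ) (g : Matrix.SpecialLinearGroup (Fin 2) F)
    (h10 : (g : Matrix (Fin 2) (Fin 2) F) 1 0 = 0)
    (h00 : (g : Matrix (Fin 2) (Fin 2) F) 0 0 = (g : Matrix (Fin 2) (Fin 2) F) 1 1)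
    (h01 : (g : Matrix (Fin 2) (Fin 2) F) 0 1 ≠ 0) :
    psSL μ g = μ ((g : Matrix (Fin 2) (Fin 2) F) 0 0) := by
  have hd := SL2_diag_entries' g h10
  have h00' : (g : Matrix (Fin 2) (Fin 2) F) 0 0 ≠ 0 := by
    intro h0
    rw [h0, zero_mul] at hd
    exact zero_ne_one hd
  unfold psSL
  rw [resSL_apply, ps_apply_unipotent μ 1 _ h10 h00 h01, toGL_coe,
    MulChar.one_apply (isUnit_iff_ne_zero.2 h00'), mul_one]

/-! ### values of the cuspidal characters of `GL₂` -/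

theorem cuspidal_apply_unipotent {π : GL (Fin 2) F → ℂ} (hπ : IsIrrCharacter (GL (Fin 2) F) π)
    (hc : IsCuspidalGL2 π) (hdeg : π 1 = (Fintype.card F : ℂ) - 1) (g : GL (Fin 2) F)
    (h10 : (g : Matrix (Fin 2) (Fin 2) F) 1 0 = 0) (h00 : (g : Matrix (Fin 2) (Fin 2) F) 0 0 = 1)
    (h11 : (g : Matrix (Fin 2) (Fin 2) F) 1 1 = 1) (h01 : (g : Matrix (Fin 2) (Fin 2) F) 0 1 ≠ 0) :
    π g = -1 := by
  classical
  letI : Fintype (MulChar F ℂ) := Fintype.ofFinite _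
  have hcf := isClassFunction_of_isIrrCharacter hπ
  obtain ⟨s, t, hs, ht, hg⟩ := eq_borelMatGL g h10
  have hs1 : s = 1 := Units.ext (by rw [hs, h00, Units.val_one])
  have ht1 : t = 1 := Units.ext (by rw [ht, h11, Units.val_one])
  rw [hg, hs1, ht1, classFunction_unipotent hcf _ h01]
  have h := cuspidal_unipotent hcf hc
  rw [hdeg] at h
  have hq : (Fintype.card F : ℂ) - 1 ≠ 0 := card_sub_one_ne_zero
  apply mul_left_cancel₀ hq
  linear_combination h

theorem cuspidal_apply_split {π : GL (Fin 2) F → ℂ} (hπ : IsIrrCharacter (GL (Fin 2) F) π)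
    (hc : IsCuspidalGL2 π) (g : GL (Fin 2) F)
    (h01 : (g : Matrix (Fin 2) (Fin 2) F) 0 1 = 0) (h10 : (g : Matrix (Fin 2) (Fin 2) F) 1 0 = 0)
    (hne : (g : Matrix (Fin 2) (Fin 2) F) 0 0 ≠ (g : Matrix (Fin 2) (Fin 2) F) 1 1) :
    π g = 0 := by
  classical
  letI : Fintype (MulChar F ℂ) := Fintype.ofFinite _
  have hcf := isClassFunction_of_isIrrCharacter hπ
  obtain ⟨s, t, hs, ht, hg⟩ := eq_borelMatGL g h10
  rw [hg, h01]
  apply cuspidal_split hcf hc
  intro hst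
  apply hne
  rw [← hs, ← ht, hst]

end Cfsg.Agent.Helper12
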