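import Mathlib
import Cfsg.Agent.Lib.Helper12.SL2Values

set_option autoImplicit false

namespace Cfsg.Agent.Helper12

open Cfsg Cfsg.Agent.Helper24 Cfsg.Agent.Helper5

open scoped ComplexConjugate

variable {F : Type*} [Field F]

/-- conjugation of an element of `SL₂` by an element of `GL₂` -/
noncomputable def conjSL (x : GL (Fin 2) F) (g : Matrix.SpecialLinearGroup (Fin 2) F) :
    Matrix.SpecialLinearGroup (Fin 2) F :=
  ⟨(x : Matrix (Fin 2) (Fin 2) F) * (g : Matrix (Fin 2) (Fin 2) F) *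
      ((x⁻¹ : GL (Fin 2) F) : Matrix (Fin 2) (Fin 2) F), by
    rw [Matrix.det_mul, Matrix.det_mul, g.2, mul_one, ← Matrix.det_mul,
      ← Matrix.GeneralLinearGroup.coe_mul, mul_inv_cancel]
    simp⟩

theorem toGL_conjSL (x : GL (Fin 2) F) (g : Matrix.SpecialLinearGroup (Fin 2) F) :
    Matrix.SpecialLinearGroup.toGL (conjSL x g) = x * Matrix.SpecialLinearGroup.toGL g * x⁻¹ := by
  apply Matrix.GeneralLinearGroup.ext
  intro i j
  rfl

theorem conjSL_coe (x : GL (Fin 2) F) (g : Matrix.SpecialLinearGroup (Fin 2) F) :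
    ((conjSL x g : Matrix.SpecialLinearGroup (Fin 2) F) : Matrix (Fin 2) (Fin 2) F) =
      (x : Matrix (Fin 2) (Fin 2) F) * (g : Matrix (Fin 2) (Fin 2) F) *
      ((x⁻¹ : GL (Fin 2) F) : Matrix (Fin 2) (Fin 2) F) := rfl

theorem conjSL_mul (x y : GL (Fin 2) F) (g : Matrix.SpecialLinearGroup (Fin 2) F) :
    conjSL (x * y) g = conjSL x (conjSL y g) := by
  apply Matrix.SpecialLinearGroup.toGL_injective
  rw [toGL_conjSL, toGL_conjSL, toGL_conjSL]
  group

theorem conjSL_toGL (n g : Matrix.SpecialLinearGroup (Fin 2) F) :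
    conjSL (Matrix.SpecialLinearGroup.toGL n) g = n * g * n⁻¹ := by
  apply Matrix.SpecialLinearGroup.toGL_injective
  rw [toGL_conjSL, map_mul, map_mul, map_inv]

theorem trace_conjSL (x : GL (Fin 2) F) (g : Matrix.SpecialLinearGroup (Fin 2) F) :
    ((conjSL x g : Matrix.SpecialLinearGroup (Fin 2) F) : Matrix (Fin 2) (Fin 2) F).trace =
      (g : Matrix (Fin 2) (Fin 2) F).trace := by
  rw [conjSL_coe, Matrix.trace_mul_comm, ← Matrix.mul_assoc, ← Matrix.GeneralLinearGroup.coe_mul,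
    inv_mul_cancel]
  simp

theorem conjSL_of_scalar (x : GL (Fin 2) F) (g : Matrix.SpecialLinearGroup (Fin 2) F)
    (h : IsScalar2 (g : Matrix (Fin 2) (Fin 2) F)) : conjSL x g = g := by
  apply Subtype.ext
  rw [conjSL_coe, (isScalar2_iff _).1 h]
  rw [Matrix.mul_smul, Matrix.mul_one, Matrix.smul_mul, ← Matrix.GeneralLinearGroup.coe_mul,
    mul_inv_cancel]
  simp

theorem isScalar2_conjSL (x : GL (Fin 2) F) (g : Matrix.SpecialLinearGroup (Fin 2) F) :
    IsScalar2 ((conjSL x g : Matrix.SpecialLinearGroup (Fin 2) F) : Matrix (Fin 2) (Fin 2) F) ↔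
      IsScalar2 (g : Matrix (Fin 2) (Fin 2) F) := by
  constructor
  · intro h
    have h1 := conjSL_of_scalar x⁻¹ _ h
    rw [← conjSL_mul, inv_mul_cancel] at h1
    have h2 : conjSL (1 : GL (Fin 2) F) g = g := by
      apply Matrix.SpecialLinearGroup.toGL_injective
      rw [toGL_conjSL]
      group
    rw [h2] at h1
    rw [h1]
    exact h
  · intro h
    rw [conjSL_of_scalar x g h]
    exact h

/-- the diagonal element `diag(δ, 1)` of `GL₂` -/
noncomputable def dgGL (δ : Fˣ) : GL (Fin 2) F := borelMatGL δ 1 0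

theorem dgGL_coe (δ : Fˣ) :
    ((dgGL δ : GL (Fin 2) F) : Matrix (Fin 2) (Fin 2) F) = !![(δ : F), 0; 0, 1] := by
  unfold dgGL
  rw [borelMatGL_coe, Units.val_one]

theorem dgGL_inv_coe (δ : Fˣ) :
    (((dgGL δ)⁻¹ : GL (Fin 2) F) : Matrix (Fin 2) (Fin 2) F) = !![((δ⁻¹ : Fˣ) : F), 0; 0, 1] := by
  have h : (dgGL δ)⁻¹ = dgGL δ⁻¹ := by
    rw [inv_eq_iff_mul_eq_one]
    unfold dgGL
    rw [borelMatGL_mul]
    simp only [mul_inv_cancel, mul_one, mul_zero, zero_mul, add_zero]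
    exact borelMatGL_one_one_zero
  rw [h, dgGL_coe]

/-- upper unitriangular elements of `SL₂` -/
noncomputable def uni (b : F) : Matrix.SpecialLinearGroup (Fin 2) F := upperSL 1 b (one_mul 1)

theorem uni_coe (b : F) :
    ((uni b : Matrix.SpecialLinearGroup (Fin 2) F) : Matrix (Fin 2) (Fin 2) F) = !![1, b; 0, 1] :=
  rfl

theorem conjSL_dgGL_upperSL (δ : Fˣ) (e b : F) (he : e * e = 1) :
    conjSL (dgGL δ) (upperSL e b he) = upperSL e ((δ : F) * b) he := by
  apply Subtype.ext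
  rw [conjSL_coe, dgGL_coe, dgGL_inv_coe, upperSL_coe, upperSL_coe]
  have hδ : (δ : F) ≠ 0 := δ.ne_zero
  ext i j
  fin_cases i <;> fin_cases j <;> simp [Matrix.mul_apply, Fin.sum_univ_two]
  field_simp

theorem det_dgGL (δ : Fˣ) : Matrix.GeneralLinearGroup.det (dgGL δ) = δ := by
  apply Units.ext
  rw [Matrix.GeneralLinearGroup.val_det_apply, dgGL_coe, Matrix.det_fin_two_of]
  simp

theorem exists_toGL_mul_dgGL (x : GL (Fin 2) F) :
    ∃ n : Matrix.SpecialLinearGroup (Fin 2) F,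
      x = Matrix.SpecialLinearGroup.toGL n * dgGL (Matrix.GeneralLinearGroup.det x) := by
  set δ := Matrix.GeneralLinearGroup.det x with hδ
  have hdet : Matrix.GeneralLinearGroup.det (x * (dgGL δ)⁻¹) = 1 := by
    rw [map_mul, map_inv, det_dgGL, ← hδ, mul_inv_cancel]
  have hdet' : ((x * (dgGL δ)⁻¹ : GL (Fin 2) F) : Matrix (Fin 2) (Fin 2) F).det = 1 := by
    have := congrArg (fun u : Fˣ => (u : F)) hdet
    simpa using this
  refine ⟨⟨_, hdet'⟩, ?_⟩
  have : Matrix.SpecialLinearGroup.toGL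
      (⟨_, hdet'⟩ : Matrix.SpecialLinearGroup (Fin 2) F) = x * (dgGL δ)⁻¹ :=
    Matrix.GeneralLinearGroup.ext (fun i j => rfl)
  rw [this, inv_mul_cancel_right]

section finite

variable [Fintype F] [DecidableEq F]

omit [Fintype F] [DecidableEq F] in
/-- a half pair is swapped by a diagonal element -/
theorem IsHalfPair.exists_diag {ρ χ χ' : Matrix.SpecialLinearGroup (Fin 2) F → ℂ}
    (h : IsHalfPair ρ χ χ') :
    ∃ δ : Fˣ, ∀ g : Matrix.SpecialLinearGroup (Fin 2) F, χ' (conjSL (dgGL δ) g) = χ g := by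
  obtain ⟨x, hx⟩ := h.cj
  obtain ⟨n, hn⟩ := exists_toGL_mul_dgGL x
  refine ⟨Matrix.GeneralLinearGroup.det x, ?_⟩
  intro g
  have h1 : χ' (conjSL x g) = χ g := hx g (conjSL x g) (toGL_conjSL x g)
  rw [← h1]
  conv_rhs => rw [hn, conjSL_mul, conjSL_toGL]
  exact ((isClassFunction_of_isIrrCharacter h.irr') _ n).symm

theorem SL2_isConj_of_trace_sq_ne (hF : ringChar F ≠ 2)
    (g h : Matrix.SpecialLinearGroup (Fin 2) F)
    (ht : (g : Matrix (Fin 2) (Fin 2) F).trace ^ 2 ≠ 4)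
    (htr : (g : Matrix (Fin 2) (Fin 2) F).trace = (h : Matrix (Fin 2) (Fin 2) F).trace) :
    IsConj g h := by
  have h2 : (2 : F) ≠ 0 := Ring.two_ne_zero hF
  have hns : ∀ k : Matrix.SpecialLinearGroup (Fin 2) F,
      (k : Matrix (Fin 2) (Fin 2) F).trace ^ 2 ≠ 4 →
        ¬ IsScalar2 (k : Matrix (Fin 2) (Fin 2) F) := by
    intro k hk hs
    apply hk
    have h00 := hs.2.2
    rw [Matrix.trace_fin_two, ← h00]
    have := scalar_SL2_sq k hs
    linear_combination 4 * this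
  rw [SL2_isConj_iff hF g h (hns g ht) (hns h (by rw [← htr]; exact ht))]
  exact ⟨htr, ⟨fun _ => rep1_of_trace_sq_ne hF h (by rw [← htr]; exact ht),
    fun _ => rep1_of_trace_sq_ne hF g ht⟩⟩

theorem IsHalfPair.eq_of_trace_sq_ne (hF : ringChar F ≠ 2)
    {ρ χ χ' : Matrix.SpecialLinearGroup (Fin 2) F → ℂ} (h : IsHalfPair ρ χ χ')
    (g : Matrix.SpecialLinearGroup (Fin 2) F)
    (ht : (g : Matrix (Fin 2) (Fin 2) F).trace ^ 2 ≠ 4) : χ' g = χ g := by
  obtain ⟨δ, hδ⟩ := h.exists_diag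
  rw [← hδ g]
  have hc : IsConj g (conjSL (dgGL δ) g) :=
    SL2_isConj_of_trace_sq_ne hF g _ ht (trace_conjSL _ g).symm
  obtain ⟨P, hP⟩ := isConj_iff.1 hc
  rw [← hP]
  exact ((isClassFunction_of_isIrrCharacter h.irr') g P).symm

omit [Fintype F] [DecidableEq F] in
theorem IsHalfPair.eq_of_scalar
    {ρ χ χ' : Matrix.SpecialLinearGroup (Fin 2) F → ℂ} (h : IsHalfPair ρ χ χ')
    (g : Matrix.SpecialLinearGroup (Fin 2) F)
    (hs : IsScalar2 (g : Matrix (Fin 2) (Fin 2) F)) : χ' g = χ g := by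
  obtain ⟨δ, hδ⟩ := h.exists_diag
  rw [← hδ g, conjSL_of_scalar _ g hs]

omit [Fintype F] [DecidableEq F] in
/-- twice the value of a half at an element where the two halves agree -/
theorem IsHalfPair.two_mul_apply {ρ χ χ' : Matrix.SpecialLinearGroup (Fin 2) F → ℂ}
    (h : IsHalfPair ρ χ χ') (g : Matrix.SpecialLinearGroup (Fin 2) F) (hg : χ' g = χ g) :
    2 * χ g = ρ g := by
  rw [h.sum, Pi.add_apply, hg]
  ring

omit [Fintype F] [DecidableEq F] in
theorem IsHalfPair.apply_uni {ρ χ χ' : Matrix.SpecialLinearGroup (Fin 2) F → ℂ}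
    (h : IsHalfPair ρ χ χ') :
    ∃ δ : Fˣ, ∀ (e b : F) (he : e * e = 1), χ' (upperSL e ((δ : F) * b) he) = χ (upperSL e b he) := by
  obtain ⟨δ, hδ⟩ := h.exists_diag
  refine ⟨δ, fun e b he => ?_⟩
  rw [← hδ, conjSL_dgGL_upperSL]

omit [DecidableEq F] in
/-- the sums of the two halves over the unipotent radical agree -/
theorem IsHalfPair.two_mul_sum_uni {ρ χ χ' : Matrix.SpecialLinearGroup (Fin 2) F → ℂ}
    (h : IsHalfPair ρ χ χ') : 2 * ∑ b : F, χ (uni b) = ∑ b : F, ρ (uni b) := by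
  obtain ⟨δ, hδ⟩ := h.apply_uni
  have h1 : ∑ b : F, χ' (uni b) = ∑ b : F, χ (uni b) := by
    rw [← Equiv.sum_comp (Equiv.mulLeft₀ (δ : F) δ.ne_zero) (fun b => χ' (uni b))]
    apply Finset.sum_congr rfl
    intro b _
    exact hδ 1 b (one_mul 1)
  rw [h.sum]
  simp only [Pi.add_apply]
  rw [Finset.sum_add_distrib, h1]
  ring

omit [DecidableEq F] in
theorem uni_zero : uni (0 : F) = 1 := upperSL_one_zero

/-- sums over the upper unitriangular subgroup -/
theorem sum_unitriangular (f : Matrix.SpecialLinearGroup (Fin 2) F → ℂ) :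
    (∑ g : Matrix.SpecialLinearGroup (Fin 2) F,
      if (g : Matrix (Fin 2) (Fin 2) F) 1 0 = 0 ∧ (g : Matrix (Fin 2) (Fin 2) F) 0 0 = 1 ∧
        (g : Matrix (Fin 2) (Fin 2) F) 1 1 = 1 then f g else 0) = ∑ b : F, f (uni b) := by
  rw [← Finset.sum_filter]
  symm
  apply Finset.sum_bij (fun b _ => uni b)
  · intro b _
    rw [Finset.mem_filter]
    refine ⟨Finset.mem_univ _, ?_⟩
    rw [uni_coe]
    simp
  · intro a _ b _ hab
    have := congrArg (fun g : Matrix.SpecialLinearGroup (Fin 2) F =>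
      (g : Matrix (Fin 2) (Fin 2) F) 0 1) hab
    simpa [uni_coe] using this
  · intro g hg
    rw [Finset.mem_filter] at hg
    obtain ⟨-, h10, h00, h11⟩ := hg
    refine ⟨(g : Matrix (Fin 2) (Fin 2) F) 0 1, Finset.mem_univ _, ?_⟩
    apply Subtype.ext
    rw [uni_coe]
    ext i j
    fin_cases i <;> fin_cases j <;> simp [h10, h00, h11]
  · intro b _
    rfl

/-- a function on `F` constant off zero -/
theorem sum_field_of_const (f : F → ℂ) (c : ℂ) (h : ∀ b : F, b ≠ 0 → f b = c) :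
    ∑ b : F, f b = f 0 + ((Fintype.card F : ℂ) - 1) * c := by
  rw [← Finset.add_sum_erase Finset.univ f (Finset.mem_univ (0 : F))]
  congr 1
  rw [Finset.sum_congr rfl (fun b hb => h b (Finset.ne_of_mem_erase hb)), Finset.sum_const,
    Finset.card_erase_of_mem (Finset.mem_univ _), Finset.card_univ, nsmul_eq_mul,
    Nat.cast_sub Fintype.card_pos, Nat.cast_one]

end finite

end Cfsg.Agent.Helper12
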