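import Mathlib
import Cfsg.Agent.Lib.Helper12.SL2Half

set_option autoImplicit false

namespace Cfsg.Agent.Helper12

open Cfsg Cfsg.Agent.Helper24 Cfsg.Agent.Helper5

open scoped ComplexConjugate

variable {F : Type*} [Field F] [Fintype F] [DecidableEq F]

/-! ### the types of elements of `SL₂(q)`, `q` odd -/

omit [DecidableEq F] in
/-- non-scalar elements with trace `±2` are conjugate to upper triangular ones -/
theorem exists_conj_upperSL (hF : ringChar F ≠ 2) (g : Matrix.SpecialLinearGroup (Fin 2) F)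
    (hns : ¬ IsScalar2 (g : Matrix (Fin 2) (Fin 2) F))
    (ht : (g : Matrix (Fin 2) (Fin 2) F).trace ^ 2 = 4) :
    ∃ (e b : F) (he : e * e = 1), b ≠ 0 ∧ IsConj g (upperSL e b he) := by
  have h2 : (2 : F) ≠ 0 := Ring.two_ne_zero hF
  set e := (g : Matrix (Fin 2) (Fin 2) F).trace / 2 with he_def
  have he : e * e = 1 := by
    rw [he_def]
    field_simp
    linear_combination ht
  have htr : ∀ b : F, (g : Matrix (Fin 2) (Fin 2) F).trace =
      ((upperSL e b he : Matrix.SpecialLinearGroup (Fin 2) F) :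
        Matrix (Fin 2) (Fin 2) F).trace := by
    intro b
    rw [trace_upperSL, he_def]
    field_simp
    ring
  by_cases hrep : Rep1 g
  · refine ⟨e, -1, he, by simp, ?_⟩
    have hb : (-1 : F) ≠ 0 := by simp
    rw [SL2_isConj_iff hF g _ hns (upperSL_not_scalar e (-1) he hb)]
    refine ⟨htr _, ⟨fun _ => ?_, fun _ => hrep⟩⟩
    rw [rep1_upperSL_iff e (-1) he hb, neg_neg]
    exact IsSquare.one
  · obtain ⟨c, hc0, hc⟩ := exists_not_isSquare (F := F) hF
    have hb : -c ≠ 0 := neg_ne_zero.2 hc0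
    refine ⟨e, -c, he, hb, ?_⟩
    rw [SL2_isConj_iff hF g _ hns (upperSL_not_scalar e (-c) he hb)]
    refine ⟨htr _, ⟨fun h => absurd h hrep, fun h => ?_⟩⟩
    rw [rep1_upperSL_iff e (-c) he hb, neg_neg] at h
    exact absurd h hc

/-- diagonal elements of `SL₂` -/
noncomputable def diagSL (a : Fˣ) : Matrix.SpecialLinearGroup (Fin 2) F :=
  ⟨!![(a : F), 0; 0, ((a⁻¹ : Fˣ) : F)], by
    rw [Matrix.det_fin_two_of]
    simp⟩

omit [Fintype F] in
theorem diagSL_coe (a : Fˣ) :
    ((diagSL a : Matrix.SpecialLinearGroup (Fin 2) F) : Matrix (Fin 2) (Fin 2) F) =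
      !![(a : F), 0; 0, ((a⁻¹ : Fˣ) : F)] := rfl

/-- elements with an eigenvector and trace not `±2` are conjugate to diagonal ones -/
theorem exists_conj_diagSL (hF : ringChar F ≠ 2) (g : Matrix.SpecialLinearGroup (Fin 2) F)
    (ht : (g : Matrix (Fin 2) (Fin 2) F).trace ^ 2 ≠ 4)
    (hev : ∃ (c : F) (v : Fin 2 → F), v ≠ 0 ∧ (g : Matrix (Fin 2) (Fin 2) F).mulVec v = c • v) :
    ∃ a : Fˣ, (a : F) ^ 2 ≠ 1 ∧ IsConj g (diagSL a) := by
  obtain ⟨c, v, hv, hgv⟩ := hev
  have hdet := g.2
  rw [Matrix.det_fin_two] at hdet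
  have e0 := congrFun hgv 0
  have e1 := congrFun hgv 1
  simp only [Matrix.mulVec, dotProduct, Fin.sum_univ_two, Pi.smul_apply, smul_eq_mul] at e0 e1
  -- the characteristic equation
  have hchar : c ^ 2 - (g : Matrix (Fin 2) (Fin 2) F).trace * c + 1 = 0 := by
    rw [Matrix.trace_fin_two]
    by_cases hv0 : v 0 = 0
    · have hv1 : v 1 ≠ 0 := by
        intro h1
        apply hv
        ext i
        fin_cases i
        · exact hv0
        · exact h1
      rw [hv0] at e0 e1
      have h01 : (g : Matrix (Fin 2) (Fin 2) F) 0 1 = 0 := by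
        have : (g : Matrix (Fin 2) (Fin 2) F) 0 1 * v 1 = 0 := by linear_combination e0
        exact (mul_eq_zero.1 this).resolve_right hv1
      have h11 : (g : Matrix (Fin 2) (Fin 2) F) 1 1 = c := by
        have : ((g : Matrix (Fin 2) (Fin 2) F) 1 1 - c) * v 1 = 0 := by linear_combination e1
        exact sub_eq_zero.1 ((mul_eq_zero.1 this).resolve_right hv1)
      rw [h01] at hdet
      rw [h11] at hdet ⊢
      linear_combination -hdet
    · have key : (c ^ 2 - ((g : Matrix (Fin 2) (Fin 2) F) 0 0 +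
          (g : Matrix (Fin 2) (Fin 2) F) 1 1) * c + 1) * v 0 = 0 := by
        linear_combination ((g : Matrix (Fin 2) (Fin 2) F) 1 1 - c) * e0 -
          (g : Matrix (Fin 2) (Fin 2) F) 0 1 * e1 - v 0 * hdet
      exact (mul_eq_zero.1 key).resolve_right hv0
  have hc0 : c ≠ 0 := by
    rintro rfl
    simp at hchar
  set a : Fˣ := Units.mk0 c hc0 with ha
  have hac : (a : F) = c := rfl
  have hainv : ((a⁻¹ : Fˣ) : F) = c⁻¹ := by
    rw [Units.val_inv_eq_inv_val]
    rfl
  have htr : (g : Matrix (Fin 2) (Fin 2) F).trace =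
      ((diagSL a : Matrix.SpecialLinearGroup (Fin 2) F) : Matrix (Fin 2) (Fin 2) F).trace := by
    rw [diagSL_coe, Matrix.trace_fin_two_of, hac, hainv]
    field_simp
    linear_combination -hchar
  refine ⟨a, ?_, SL2_isConj_of_trace_sq_ne hF g _ ht htr⟩
  intro hsq
  apply ht
  rw [hac] at hsq
  have h1 : (g : Matrix (Fin 2) (Fin 2) F).trace * c = 2 := by
    linear_combination -hchar + hsq
  have h2 : ((g : Matrix (Fin 2) (Fin 2) F).trace * c) ^ 2 = 4 := by
    rw [h1]; norm_num
  rw [mul_pow, hsq, mul_one] at h2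
  exact h2

/-! ### the values of the permutation character on the projective line -/

theorem psSL_apply_scalar (μ : MulChar F ℂ) (g : Matrix.SpecialLinearGroup (Fin 2) F)
    (hs : IsScalar2 (g : Matrix (Fin 2) (Fin 2) F)) :
    psSL μ g = ((Fintype.card F : ℂ) + 1) * μ ((g : Matrix (Fin 2) (Fin 2) F) 0 0) := by
  obtain ⟨h01, h10, h00⟩ := hs
  have hsq := scalar_SL2_sq g ⟨h01, h10, h00⟩
  have hne : (g : Matrix (Fin 2) (Fin 2) F) 0 0 ≠ 0 := by
    intro h0
    rw [h0, zero_mul] at hsq
    exact zero_ne_one hsq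
  unfold psSL
  rw [resSL_apply, ps_apply, toGL_coe, if_pos h10, h10, h01, ← h00,
    MulChar.one_apply (isUnit_iff_ne_zero.2 hne)]
  simp only [zero_mul, sub_self, sub_zero, zero_add, add_zero, if_true,
    MulChar.one_apply (isUnit_iff_ne_zero.2 hne), mul_one, Finset.sum_const, Finset.card_univ,
    nsmul_eq_mul]
  ring

theorem apply_eq_of_isConj {G : Type*} [Group G] {f : G → ℂ} (hf : IsClassFunction G f) {g h : G}
    (hc : IsConj g h) : f h = f g := by
  obtain ⟨P, hP⟩ := isConj_iff.1 hc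
  rw [← hP]
  exact hf g P

/-- non-scalar elements of trace `±2` -/
def IsTypeA (g : Matrix.SpecialLinearGroup (Fin 2) F) : Prop :=
  ¬ IsScalar2 (g : Matrix (Fin 2) (Fin 2) F) ∧ (g : Matrix (Fin 2) (Fin 2) F).trace ^ 2 = 4

omit [Fintype F] [DecidableEq F] in
theorem trace_sq_of_scalar (g : Matrix.SpecialLinearGroup (Fin 2) F)
    (hs : IsScalar2 (g : Matrix (Fin 2) (Fin 2) F)) :
    (g : Matrix (Fin 2) (Fin 2) F).trace ^ 2 = 4 := by
  have h00 := hs.2.2
  rw [Matrix.trace_fin_two, ← h00]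
  have := scalar_SL2_sq g hs
  linear_combination 4 * this

theorem fix_scalar (g : Matrix.SpecialLinearGroup (Fin 2) F)
    (hs : IsScalar2 (g : Matrix (Fin 2) (Fin 2) F)) :
    psSL (1 : MulChar F ℂ) g = (Fintype.card F : ℂ) + 1 := by
  have hsq := scalar_SL2_sq g hs
  have hne : (g : Matrix (Fin 2) (Fin 2) F) 0 0 ≠ 0 := by
    intro h0
    rw [h0, zero_mul] at hsq
    exact zero_ne_one hsq
  rw [psSL_apply_scalar 1 g hs, MulChar.one_apply (isUnit_iff_ne_zero.2 hne), mul_one]

theorem psSL_typeA (hF : ringChar F ≠ 2) (μ : MulChar F ℂ)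
    (g : Matrix.SpecialLinearGroup (Fin 2) F) (hA : IsTypeA g) :
    ∃ e : F, e * e = 1 ∧ psSL μ g = μ e := by
  obtain ⟨e, b, he, hb, hc⟩ := exists_conj_upperSL hF g hA.1 hA.2
  refine ⟨e, he, ?_⟩
  rw [← apply_eq_of_isConj (isClassFunction_of_isCharacter (isCharacter_psSL μ)) hc,
    psSL_apply_upper μ (upperSL e b he) (by simp [upperSL_coe]) (by simp [upperSL_coe])
      (by simpa [upperSL_coe] using hb)]
  simp [upperSL_coe]

theorem fix_typeA (hF : ringChar F ≠ 2) (g : Matrix.SpecialLinearGroup (Fin 2) F)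
    (hA : IsTypeA g) : psSL (1 : MulChar F ℂ) g = 1 := by
  obtain ⟨e, he, h⟩ := psSL_typeA hF 1 g hA
  have hne : e ≠ 0 := by
    rintro rfl
    simp at he
  rw [h, MulChar.one_apply (isUnit_iff_ne_zero.2 hne)]

theorem psSL_regular (hF : ringChar F ≠ 2) (μ : MulChar F ℂ)
    (g : Matrix.SpecialLinearGroup (Fin 2) F)
    (ht : (g : Matrix (Fin 2) (Fin 2) F).trace ^ 2 ≠ 4) :
    psSL μ g = 0 ∨ ∃ a : Fˣ, (a : F) ^ 2 ≠ 1 ∧ psSL μ g = μ (a : F) + μ ((a⁻¹ : Fˣ) : F) := by
  by_cases hev : ∃ (c : F) (v : Fin 2 → F), v ≠ 0 ∧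
      (g : Matrix (Fin 2) (Fin 2) F).mulVec v = c • v
  · right
    obtain ⟨a, ha, hc⟩ := exists_conj_diagSL hF g ht hev
    refine ⟨a, ha, ?_⟩
    rw [← apply_eq_of_isConj (isClassFunction_of_isCharacter (isCharacter_psSL μ)) hc,
      psSL_apply_split μ (diagSL a) (by simp [diagSL_coe]) (by simp [diagSL_coe])
        (by simpa [diagSL_coe] using ha)]
    simp [diagSL_coe]
  · left
    push Not at hev
    exact psSL_apply_elliptic μ g hev

theorem fix_regular (hF : ringChar F ≠ 2) (g : Matrix.SpecialLinearGroup (Fin 2) F)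
    (ht : (g : Matrix (Fin 2) (Fin 2) F).trace ^ 2 ≠ 4) :
    psSL (1 : MulChar F ℂ) g = 0 ∨ psSL (1 : MulChar F ℂ) g = 2 := by
  rcases psSL_regular hF 1 g ht with h | ⟨a, -, h⟩
  · left; exact h
  · right
    rw [h, MulChar.one_apply a.isUnit, MulChar.one_apply (a⁻¹).isUnit]
    norm_num

/-! ### counting the non-scalar elements of trace `±2` -/

theorem psSL_one_eq : psSL (1 : MulChar F ℂ) = (fun _ => (1 : ℂ)) + stSL := by
  unfold psSL stSL
  rw [ps_self, resSL_add, resSL_detChar]

theorem stSL_ne_one : (stSL (F := F)) ≠ fun _ => (1 : ℂ) := by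
  intro h
  have h1 := congrFun h 1
  rw [stSL_one_apply] at h1
  exact card_cast_ne_one h1

theorem classInner_psSL_one_one :
    classInner (psSL (1 : MulChar F ℂ)) (fun _ => (1 : ℂ)) = 1 := by
  rw [psSL_one_eq, classInner_add_left, irr_orthogonality isIrrCharacter_one isIrrCharacter_one,
    irr_orthogonality isIrrCharacter_stSL isIrrCharacter_one, if_pos rfl, if_neg stSL_ne_one,
    add_zero]

omit [DecidableEq F] in
theorem upperSL_zero_scalar (e : F) (he : e * e = 1) :
    IsScalar2 ((upperSL e 0 he : Matrix.SpecialLinearGroup (Fin 2) F) :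
      Matrix (Fin 2) (Fin 2) F) := by
  rw [upperSL_coe]
  refine ⟨?_, ?_, ?_⟩ <;> simp

open Classical in
theorem card_scalar_SL2 (hF : ringChar F ≠ 2) :
    (Finset.univ.filter (fun g : Matrix.SpecialLinearGroup (Fin 2) F =>
      IsScalar2 (g : Matrix (Fin 2) (Fin 2) F))).card = 2 := by
  rw [← Fintype.card_subtype, ← Nat.card_eq_fintype_card]
  refine Eq.trans ?_ (card_sq_eq_one (F := F) hF)
  apply Nat.card_congr
  exact
    { toFun := fun g => ⟨(g.1 : Matrix (Fin 2) (Fin 2) F) 0 0, scalar_SL2_sq g.1 g.2⟩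
      invFun := fun e => ⟨upperSL e.1 0 e.2, upperSL_zero_scalar e.1 e.2⟩
      left_inv := by
        rintro ⟨g, hg⟩
        apply Subtype.ext
        show upperSL ((g : Matrix (Fin 2) (Fin 2) F) 0 0) 0 (scalar_SL2_sq g hg) = g
        exact SL2_eq_of_isScalar2 _ g (upperSL_zero_scalar _ _) hg (by simp [upperSL_coe])
      right_inv := by
        rintro ⟨e, he⟩
        apply Subtype.ext
        simp [upperSL_coe] }

open Classical in
/-- there are `2 (q² - 1)` non-scalar elements of trace `±2` in `SL₂(q)`, `q` odd -/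
theorem card_typeA (hF : ringChar F ≠ 2) :
    ((Finset.univ.filter (fun g : Matrix.SpecialLinearGroup (Fin 2) F => IsTypeA g)).card : ℂ) =
      2 * ((Fintype.card F : ℂ) ^ 2 - 1) := by
  set f := psSL (1 : MulChar F ℂ) with hf
  have hN : (Nat.card (Matrix.SpecialLinearGroup (Fin 2) F) : ℂ) ≠ 0 := by
    have : 0 < Nat.card (Matrix.SpecialLinearGroup (Fin 2) F) := Nat.card_pos
    exact_mod_cast this.ne'
  have S1 : ∑ g : Matrix.SpecialLinearGroup (Fin 2) F, f g =
      (Nat.card (Matrix.SpecialLinearGroup (Fin 2) F) : ℂ) := by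
    have h := classInner_psSL_one_one (F := F)
    unfold classInner at h
    simp only [map_one, mul_one] at h
    rw [← hf] at h
    field_simp at h
    exact h
  have S2 : ∑ g : Matrix.SpecialLinearGroup (Fin 2) F, f g * conj (f g) =
      2 * (Nat.card (Matrix.SpecialLinearGroup (Fin 2) F) : ℂ) := by
    have h := classInner_psSL (1 : MulChar F ℂ) 1
    rw [if_pos rfl, if_pos (one_mul 1)] at h
    unfold classInner at h
    rw [← hf] at h
    field_simp at h
    linear_combination h
  have hpt : ∀ g : Matrix.SpecialLinearGroup (Fin 2) F, f g * conj (f g) - 2 * f g =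
      (if IsScalar2 (g : Matrix (Fin 2) (Fin 2) F) then ((Fintype.card F : ℂ) ^ 2 - 1) else 0) -
        (if IsTypeA g then 1 else 0) := by
    intro g
    by_cases hs : IsScalar2 (g : Matrix (Fin 2) (Fin 2) F)
    · rw [if_pos hs, if_neg (fun h : IsTypeA g => h.1 hs), hf, fix_scalar g hs]
      simp only [map_add, map_natCast, map_one]
      ring
    · rw [if_neg hs]
      by_cases ht : (g : Matrix (Fin 2) (Fin 2) F).trace ^ 2 = 4
      · rw [if_pos ⟨hs, ht⟩, hf, fix_typeA hF g ⟨hs, ht⟩]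
        simp only [map_one]
        ring
      · rw [if_neg (fun h : IsTypeA g => ht h.2)]
        rcases fix_regular hF g ht with h | h
        · rw [hf, h]; simp
        · rw [hf, h]
          simp only [map_ofNat]
          ring
  have hsum : ∑ g : Matrix.SpecialLinearGroup (Fin 2) F, (f g * conj (f g) - 2 * f g) = 0 := by
    rw [Finset.sum_sub_distrib, ← Finset.mul_sum, S1, S2]
    ring
  rw [Finset.sum_congr rfl (fun g _ => hpt g), Finset.sum_sub_distrib, Finset.sum_ite,
    Finset.sum_ite, Finset.sum_const_zero, Finset.sum_const_zero, add_zero, add_zero,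
    Finset.sum_const, Finset.sum_const, card_scalar_SL2 hF] at hsum
  simp only [nsmul_eq_mul, mul_one] at hsum
  linear_combination -hsum

/-! ### the difference of the two halves -/

omit [Fintype F] in
theorem diagSL_conj_upperSL (s : Fˣ) (e b : F) (he : e * e = 1) :
    diagSL s * upperSL e b he * (diagSL s)⁻¹ = upperSL e ((s : F) ^ 2 * b) he := by
  rw [mul_inv_eq_iff_eq_mul]
  apply Subtype.ext
  rw [Matrix.SpecialLinearGroup.coe_mul, Matrix.SpecialLinearGroup.coe_mul, diagSL_coe, upperSL_coe,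
    upperSL_coe]
  have hs : (s : F) ≠ 0 := s.ne_zero
  ext i j
  fin_cases i <;> fin_cases j <;> simp [Matrix.mul_apply, Fin.sum_univ_two]
  · ring
  · field_simp
  · ring

omit [Fintype F] in
theorem isConj_upperSL_sq (s : Fˣ) (e b : F) (he : e * e = 1) :
    IsConj (upperSL e b he) (upperSL e ((s : F) ^ 2 * b) he) := by
  rw [isConj_iff]
  exact ⟨diagSL s, diagSL_conj_upperSL s e b he⟩

omit [Fintype F] in
theorem conjSL_dgGL_sq (s : Fˣ) (g : Matrix.SpecialLinearGroup (Fin 2) F) :
    conjSL (dgGL (s ^ 2)) g = diagSL s * g * (diagSL s)⁻¹ := by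
  rw [eq_mul_inv_iff_mul_eq]
  apply Subtype.ext
  rw [Matrix.SpecialLinearGroup.coe_mul, Matrix.SpecialLinearGroup.coe_mul, diagSL_coe, conjSL_coe,
    dgGL_coe, dgGL_inv_coe, Matrix.eta_fin_two (g : Matrix (Fin 2) (Fin 2) F)]
  have hs : (s : F) ≠ 0 := s.ne_zero
  simp only [Matrix.mul_fin_two, Units.val_pow_eq_pow_val, Units.val_inv_eq_inv_val, inv_pow]
  ext i j
  fin_cases i <;> fin_cases j <;> simp <;> field_simp

omit [Fintype F] in
/-- the diagonal element swapping a half pair has non-square determinant -/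
theorem IsHalfPair.exists_diag_nonsquare {ρ χ χ' : Matrix.SpecialLinearGroup (Fin 2) F → ℂ}
    (h : IsHalfPair ρ χ χ') :
    ∃ δ : Fˣ, ¬ IsSquare (δ : F) ∧
      ∀ g : Matrix.SpecialLinearGroup (Fin 2) F, χ' (conjSL (dgGL δ) g) = χ g := by
  obtain ⟨δ, hδ⟩ := h.exists_diag
  refine ⟨δ, ?_, hδ⟩
  rintro ⟨s, hs⟩
  have hs0 : s ≠ 0 := by
    rintro rfl
    rw [mul_zero] at hs
    exact δ.ne_zero hs
  have hδs : δ = (Units.mk0 s hs0) ^ 2 := by
    apply Units.ext
    rw [hs, Units.val_pow_eq_pow_val, Units.val_mk0, pow_two]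
  apply h.ne
  funext g
  rw [← hδ g, hδs, conjSL_dgGL_sq]
  exact (isClassFunction_of_isIrrCharacter h.irr') g _

/-- values of the two halves at the upper unitriangular elements -/
theorem IsHalfPair.apply_uni_cases (hF : ringChar F ≠ 2)
    {ρ χ χ' : Matrix.SpecialLinearGroup (Fin 2) F → ℂ} (h : IsHalfPair ρ χ χ')
    (e b : F) (he : e * e = 1) (hb : b ≠ 0) :
    (IsSquare b → χ (upperSL e b he) = χ (upperSL e 1 he) ∧
      χ' (upperSL e b he) = χ' (upperSL e 1 he)) ∧
    (¬ IsSquare b → χ (upperSL e b he) = χ' (upperSL e 1 he) ∧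
      χ' (upperSL e b he) = χ (upperSL e 1 he)) := by
  have hcf := isClassFunction_of_isIrrCharacter h.irr
  have hcf' := isClassFunction_of_isIrrCharacter h.irr'
  have hsq : ∀ (s : F), s ≠ 0 → ∀ b' : F, χ (upperSL e (s ^ 2 * b') he) = χ (upperSL e b' he) ∧
      χ' (upperSL e (s ^ 2 * b') he) = χ' (upperSL e b' he) := by
    intro s hs b'
    have hc := isConj_upperSL_sq (Units.mk0 s hs) e b' he
    rw [Units.val_mk0] at hc
    exact ⟨apply_eq_of_isConj hcf hc, apply_eq_of_isConj hcf' hc⟩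
  constructor
  · rintro ⟨s, hs⟩
    have hs0 : s ≠ 0 := by
      rintro rfl
      rw [mul_zero] at hs
      exact hb hs
    have := hsq s hs0 1
    rw [mul_one, pow_two, ← hs] at this
    exact this
  · intro hnsq
    obtain ⟨δ, hδ, hswap⟩ := h.exists_diag_nonsquare
    have hswap' : ∀ b' : F, χ' (upperSL e ((δ : F) * b') he) = χ (upperSL e b' he) := by
      intro b'
      rw [← hswap, conjSL_dgGL_upperSL]
    obtain ⟨r, hr⟩ := isSquare_mul_of_not_isSquare hF b (δ : F) hnsq hδ
    have hδ0 : (δ : F) ≠ 0 := δ.ne_zero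
    have hr0 : r ≠ 0 := by
      rintro rfl
      rw [mul_zero] at hr
      exact (mul_ne_zero hb hδ0) hr
    have hb' : b = (δ : F) * (r / (δ : F)) ^ 2 := by
      field_simp
      linear_combination hr
    have hs0 : r / (δ : F) ≠ 0 := div_ne_zero hr0 hδ0
    constructor
    · -- `χ (uni (δ s²)) = χ' (uni (δ² s²)) = χ' (uni 1)`
      have h1 := hswap' b
      have h2 : (δ : F) * b = ((δ : F) * (r / (δ : F))) ^ 2 * 1 := by
        rw [hb']
        ring
      rw [← h1, h2]
      exact (hsq _ (mul_ne_zero hδ0 hs0) 1).2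
    · have h1 := hswap' ((r / (δ : F)) ^ 2)
      rw [← hb'] at h1
      rw [h1]
      have := (hsq _ hs0 1).1
      rw [mul_one] at this
      exact this

omit [DecidableEq F] in
theorem upperSL_eq_uni_mul (e b : F) (he : e * e = 1) :
    upperSL e b he = uni (e * b) * upperSL e 0 he := by
  unfold uni
  rw [upperSL_mul]
  apply upperSL_congr
  · ring
  · linear_combination (-b) * he

/-- the modulus of the central factor -/
theorem irr_central_factor {G : Type*} [Group G] [Fintype G] {χ : G → ℂ}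
    (hχ : IsIrrCharacter G χ) (z : G) (hz : ∀ y : G, y * z = z * y) :
    (χ z / χ 1) * conj (χ z / χ 1) = 1 := by
  have h1 := irr_mul_central hχ z⁻¹ z hz
  rw [inv_mul_cancel, irr_inv (isCharacter_of_isIrrCharacter hχ)] at h1
  obtain ⟨n, hn, h2⟩ := irr_one_eq hχ
  have hn0 : (n : ℂ) ≠ 0 := by exact_mod_cast hn.ne'
  rw [h2] at h1 ⊢
  rw [map_div₀, Complex.conj_natCast]
  field_simp
  field_simp at h1
  linear_combination -h1

omit [DecidableEq F] in
theorem upperSL_zero_comm (e : F) (he : e * e = 1) (y : Matrix.SpecialLinearGroup (Fin 2) F) :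
    y * upperSL e 0 he = upperSL e 0 he * y :=
  (Subgroup.mem_center_iff.1 (mem_center_of_isScalar2 _ (upperSL_zero_scalar e he)) y)

/-- the squared modulus of the difference of the two halves on the elements of type A -/
theorem IsHalfPair.diff_typeA (hF : ringChar F ≠ 2)
    {ρ χ χ' : Matrix.SpecialLinearGroup (Fin 2) F → ℂ} (h : IsHalfPair ρ χ χ')
    (g : Matrix.SpecialLinearGroup (Fin 2) F) (hA : IsTypeA g) :
    (χ g - χ' g) * conj (χ g - χ' g) =
      (χ (uni 1) - χ' (uni 1)) * conj (χ (uni 1) - χ' (uni 1)) := by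
  have hcf := isClassFunction_of_isIrrCharacter h.irr
  have hcf' := isClassFunction_of_isIrrCharacter h.irr'
  obtain ⟨e, b, he, hb, hc⟩ := exists_conj_upperSL hF g hA.1 hA.2
  rw [← apply_eq_of_isConj hcf hc, ← apply_eq_of_isConj hcf' hc, upperSL_eq_uni_mul e b he,
    irr_mul_central h.irr _ _ (upperSL_zero_comm e he),
    irr_mul_central h.irr' _ _ (upperSL_zero_comm e he), h.one_eq,
    h.eq_of_scalar _ (upperSL_zero_scalar e he)]
  have hfac := irr_central_factor h.irr (upperSL e 0 he) (upperSL_zero_comm e he)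
  set c := χ (upperSL e 0 he) / χ 1 with hc_def
  have he0 : e ≠ 0 := by
    rintro rfl
    simp at he
  have heb : e * b ≠ 0 := mul_ne_zero he0 hb
  have hcases := h.apply_uni_cases hF 1 (e * b) (one_mul 1) heb
  have huni : ∀ b' : F, upperSL 1 b' (one_mul 1) = uni b' := fun _ => rfl
  rw [huni, huni] at hcases
  have key : ∀ x y : ℂ, (x * χ (upperSL e 0 he) / χ 1 - y * χ (upperSL e 0 he) / χ 1) *
      conj (x * χ (upperSL e 0 he) / χ 1 - y * χ (upperSL e 0 he) / χ 1) =
      (x - y) * conj (x - y) := by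
    intro x y
    have : x * χ (upperSL e 0 he) / χ 1 - y * χ (upperSL e 0 he) / χ 1 = (x - y) * c := by
      rw [hc_def]; ring
    rw [this, map_mul]
    linear_combination ((x - y) * conj (x - y)) * hfac
  rw [key]
  by_cases hsq : IsSquare (e * b)
  · obtain ⟨h1, h2⟩ := hcases.1 hsq
    rw [h1, h2]
  · obtain ⟨h1, h2⟩ := hcases.2 hsq
    rw [h1, h2]
    simp only [map_sub]
    ring

open Classical in
/-- the squared modulus of the difference of the two halves at the transvection -/
theorem IsHalfPair.norm_diff (hF : ringChar F ≠ 2)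
    {ρ χ χ' : Matrix.SpecialLinearGroup (Fin 2) F → ℂ} (h : IsHalfPair ρ χ χ') :
    (χ (uni 1) - χ' (uni 1)) * conj (χ (uni 1) - χ' (uni 1)) = (Fintype.card F : ℂ) := by
  set D := χ (uni 1) - χ' (uni 1) with hD
  have hnorm : classInner (χ - χ') (χ - χ') = 2 := by
    have e1 : χ - χ' = χ + (-1 : ℂ) • χ' := by
      funext g; simp [sub_eq_add_neg]
    rw [e1, classInner_add_left, classInner_add_right, classInner_add_right,
      classInner_smul_left, classInner_smul_right, classInner_smul_right, classInner_smul_left,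
      irr_orthogonality h.irr h.irr, irr_orthogonality h.irr h.irr',
      irr_orthogonality h.irr' h.irr, irr_orthogonality h.irr' h.irr', if_pos rfl, if_pos rfl,
      if_neg h.ne, if_neg h.ne.symm]
    simp
    norm_num
  have hpt : ∀ g : Matrix.SpecialLinearGroup (Fin 2) F,
      (χ - χ') g * conj ((χ - χ') g) = if IsTypeA g then D * conj D else 0 := by
    intro g
    simp only [Pi.sub_apply]
    by_cases hA : IsTypeA g
    · rw [if_pos hA, h.diff_typeA hF g hA]
    · rw [if_neg hA]
      have heq : χ' g = χ g := by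
        by_cases hs : IsScalar2 (g : Matrix (Fin 2) (Fin 2) F)
        · exact h.eq_of_scalar g hs
        · apply h.eq_of_trace_sq_ne hF g
          intro ht
          exact hA ⟨hs, ht⟩
      rw [heq, sub_self, zero_mul]
  unfold classInner at hnorm
  rw [Finset.sum_congr rfl (fun g _ => hpt g), Finset.sum_ite, Finset.sum_const_zero, add_zero,
    Finset.sum_const, nsmul_eq_mul, card_typeA hF, card_SL2] at hnorm
  have hq1 : 1 ≤ Fintype.card F ^ 2 := Nat.one_le_pow _ _ Fintype.card_pos
  have hq2 : (2 : ℝ) ≤ (Fintype.card F : ℝ) := by exact_mod_cast (two_le_card (F := F))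
  have hne : ((Fintype.card F : ℂ) ^ 2 - 1) ≠ 0 := by
    have : ((Fintype.card F : ℝ) ^ 2 - 1) ≠ 0 := by nlinarith
    exact_mod_cast this
  have hq0 : (Fintype.card F : ℂ) ≠ 0 := card_cast_ne_zero
  push_cast [Nat.cast_sub hq1] at hnorm
  field_simp at hnorm
  exact hnorm

/-- the square of the difference of the two halves at the transvection -/
theorem IsHalfPair.sq_diff (hF : ringChar F ≠ 2)
    {ρ χ χ' : Matrix.SpecialLinearGroup (Fin 2) F → ℂ} (h : IsHalfPair ρ χ χ') :
    (χ (uni 1) - χ' (uni 1)) ^ 2 =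
      (-1 : ℂ) ^ ((Fintype.card F - 1) / 2) * (Fintype.card F : ℂ) := by
  have hnorm := h.norm_diff hF
  have hinv : (uni (1 : F))⁻¹ = uni (-1) := by
    rw [inv_eq_iff_mul_eq_one]
    unfold uni
    rw [upperSL_mul]
    rw [← upperSL_one_zero]
    apply upperSL_congr <;> ring
  have hc1 : conj (χ (uni 1)) = χ (uni (-1)) := by
    rw [← irr_inv (isCharacter_of_isIrrCharacter h.irr), hinv]
  have hc2 : conj (χ' (uni 1)) = χ' (uni (-1)) := by
    rw [← irr_inv (isCharacter_of_isIrrCharacter h.irr'), hinv]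
  have hcases := h.apply_uni_cases hF 1 (-1) (one_mul 1) (by simp)
  have huni : ∀ b' : F, upperSL 1 b' (one_mul 1) = uni b' := fun _ => rfl
  rw [huni, huni] at hcases
  have hodd : Fintype.card F % 2 = 1 := FiniteField.odd_card_of_char_ne_two hF
  rw [map_sub, hc1, hc2] at hnorm
  by_cases hsq : IsSquare (-1 : F)
  · obtain ⟨h1, h2⟩ := hcases.1 hsq
    rw [h1, h2] at hnorm
    have h4 : Fintype.card F % 4 ≠ 3 := FiniteField.isSquare_neg_one_iff.1 hsq
    have heven : Even ((Fintype.card F - 1) / 2) := by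
      rw [Nat.even_iff]; omega
    rw [heven.neg_one_pow, one_mul, pow_two]
    exact hnorm
  · obtain ⟨h1, h2⟩ := hcases.2 hsq
    rw [h1, h2] at hnorm
    have h4 : ¬ Fintype.card F % 4 ≠ 3 := fun h => hsq (FiniteField.isSquare_neg_one_iff.2 h)
    have hodd' : Odd ((Fintype.card F - 1) / 2) := by
      rw [Nat.odd_iff]; omega
    rw [hodd'.neg_one_pow, pow_two]
    linear_combination -hnorm

end Cfsg.Agent.Helper12
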