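import Mathlib
import Cfsg.Agent.Lib.Helper12.SL2Gauss

set_option autoImplicit false

namespace Cfsg.Agent.Helper12

open Cfsg Cfsg.Agent.Helper24 Cfsg.Agent.Helper5

open scoped ComplexConjugate

open Matrix

variable {F : Type*} [Field F]

/-- an element of `SL₂` without eigenvectors over the ground field -/
def IsElliptic (g : Matrix.SpecialLinearGroup (Fin 2) F) : Prop :=
  ∀ (c : F) (v : Fin 2 → F), v ≠ 0 → (g : Matrix (Fin 2) (Fin 2) F).mulVec v ≠ c • v

/-- the characteristic polynomial of an elliptic element has no roots -/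
theorem IsElliptic.charpoly_ne_zero {g : Matrix.SpecialLinearGroup (Fin 2) F} (h : IsElliptic g)
    (a : F) : a ^ 2 - (g : Matrix (Fin 2) (Fin 2) F).trace * a + 1 ≠ 0 := by
  intro h0
  have hdet : ((g : Matrix (Fin 2) (Fin 2) F) - a • (1 : Matrix (Fin 2) (Fin 2) F)).det = 0 := by
    have hd := g.2
    rw [Matrix.det_fin_two] at hd ⊢
    rw [Matrix.trace_fin_two] at h0
    simp only [Matrix.sub_apply, Matrix.smul_apply, Matrix.one_apply_eq, Matrix.one_apply_ne,
      ne_eq, one_ne_zero, zero_ne_one, not_false_eq_true, smul_eq_mul, mul_one, mul_zero, sub_zero]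
    linear_combination h0 + hd
  obtain ⟨v, hv, hgv⟩ := Matrix.exists_mulVec_eq_zero_iff.2 hdet
  apply h a v hv
  rw [Matrix.sub_mulVec, Matrix.smul_mulVec, Matrix.one_mulVec, sub_eq_zero] at hgv
  exact hgv

theorem IsElliptic.trace_sq_ne {g : Matrix.SpecialLinearGroup (Fin 2) F} (h : IsElliptic g)
    (h2 : (2 : F) ≠ 0) : (g : Matrix (Fin 2) (Fin 2) F).trace ^ 2 ≠ 4 := by
  intro ht
  apply h.charpoly_ne_zero ((g : Matrix (Fin 2) (Fin 2) F).trace / 2)
  field_simp
  linear_combination -ht

theorem IsElliptic.not_scalar {g : Matrix.SpecialLinearGroup (Fin 2) F} (h : IsElliptic g) :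
    ¬ IsScalar2 (g : Matrix (Fin 2) (Fin 2) F) := by
  intro hs
  apply h ((g : Matrix (Fin 2) (Fin 2) F) 0 0) ![1, 0] (by
    intro h0
    have := congrFun h0 0
    simp at this)
  obtain ⟨h01, h10, h00⟩ := hs
  ext i
  fin_cases i
  · simp [Matrix.mulVec, dotProduct, Fin.sum_univ_two]
  · simp [Matrix.mulVec, dotProduct, Fin.sum_univ_two, h10]

theorem isElliptic_of_isConj {g h : Matrix.SpecialLinearGroup (Fin 2) F} (hg : IsElliptic g)
    (hc : IsConj g h) : IsElliptic h := by
  obtain ⟨P, rfl⟩ := isConj_iff.1 hc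
  intro c v hv hPv
  rw [coe_conj_SL2] at hPv
  have hPu : IsUnit (P : Matrix (Fin 2) (Fin 2) F).det := by rw [P.2]; exact isUnit_one
  apply hg c ((P : Matrix (Fin 2) (Fin 2) F)⁻¹ *ᵥ v)
  · intro h0
    apply hv
    have := congrArg (fun w => (P : Matrix (Fin 2) (Fin 2) F) *ᵥ w) h0
    simp only [Matrix.mulVec_mulVec, Matrix.mul_nonsing_inv _ hPu, Matrix.one_mulVec,
      Matrix.mulVec_zero] at this
    exact this
  · have := congrArg (fun w => (P : Matrix (Fin 2) (Fin 2) F)⁻¹ *ᵥ w) hPv
    simp only [Matrix.mulVec_mulVec, Matrix.mulVec_smul] at this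
    rw [← Matrix.mul_assoc, ← Matrix.mul_assoc, Matrix.nonsing_inv_mul _ hPu, Matrix.one_mul] at this
    rw [Matrix.mulVec_mulVec]
    exact this

/-! ### the conjugacy class and the centraliser of an elliptic element -/

/-- the elements of `SL₂` with a given trace whose characteristic polynomial has no root -/
noncomputable def traceEquiv (t : F) (ht : ∀ a : F, a ^ 2 - t * a + 1 ≠ 0) :
    {h : Matrix.SpecialLinearGroup (Fin 2) F // (h : Matrix (Fin 2) (Fin 2) F).trace = t} ≃
      F × Fˣ where
  toFun h := ((h.1 : Matrix (Fin 2) (Fin 2) F) 0 0, Units.mk0 ((h.1 : Matrix (Fin 2) (Fin 2) F) 0 1)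
    (by
      intro h01
      have hd := h.1.2
      have htr := h.2
      rw [Matrix.det_fin_two, h01] at hd
      rw [Matrix.trace_fin_two] at htr
      apply ht ((h.1 : Matrix (Fin 2) (Fin 2) F) 0 0)
      linear_combination -hd + (h.1 : Matrix (Fin 2) (Fin 2) F) 0 0 * htr))
  invFun p := ⟨⟨!![p.1, (p.2 : F); (p.1 * (t - p.1) - 1) / (p.2 : F), t - p.1], by
      rw [Matrix.det_fin_two_of]
      have : (p.2 : F) ≠ 0 := p.2.ne_zero
      field_simp
      ring⟩, by
    rw [Matrix.trace_fin_two]
    simp⟩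
  left_inv h := by
    have hd := h.1.2
    have htr := h.2
    rw [Matrix.det_fin_two] at hd
    rw [Matrix.trace_fin_two] at htr
    have h01 : (h.1 : Matrix (Fin 2) (Fin 2) F) 0 1 ≠ 0 := by
      intro h01
      rw [h01] at hd
      apply ht ((h.1 : Matrix (Fin 2) (Fin 2) F) 0 0)
      linear_combination -hd + (h.1 : Matrix (Fin 2) (Fin 2) F) 0 0 * htr
    apply Subtype.ext
    apply Subtype.ext
    ext i j
    fin_cases i <;> fin_cases j
    · simp
    · simp
    · simp only [Units.val_mk0, Fin.mk_one, Fin.zero_eta, Matrix.of_apply, Matrix.cons_val',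
        Matrix.cons_val_zero, Matrix.cons_val_one, Matrix.cons_val_fin_one]
      rw [div_eq_iff h01]
      linear_combination hd - (h.1 : Matrix (Fin 2) (Fin 2) F) 0 0 * htr
    · simp only [Fin.mk_one, Matrix.of_apply, Matrix.cons_val', Matrix.cons_val_one,
        Matrix.cons_val_fin_one]
      linear_combination -htr
  right_inv p := by
    apply Prod.ext
    · simp
    · apply Units.ext
      simp

section finite

variable [Fintype F] [DecidableEq F]

theorem card_trace_eq (t : F) (ht : ∀ a : F, a ^ 2 - t * a + 1 ≠ 0) :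
    Nat.card {h : Matrix.SpecialLinearGroup (Fin 2) F //
      (h : Matrix (Fin 2) (Fin 2) F).trace = t} = Fintype.card F * (Fintype.card F - 1) := by
  rw [Nat.card_congr (traceEquiv t ht), Nat.card_prod, Nat.card_eq_fintype_card,
    Nat.card_eq_fintype_card, Fintype.card_units]

/-- the centraliser of an elliptic element of `SL₂(q)` has order `q + 1` -/
theorem card_centralizer_elliptic (hF : ringChar F ≠ 2)
    (g : Matrix.SpecialLinearGroup (Fin 2) F) (hg : IsElliptic g) :
    Nat.card (Subgroup.centralizer ({g} : Set (Matrix.SpecialLinearGroup (Fin 2) F))) =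
      Fintype.card F + 1 := by
  have h2 : (2 : F) ≠ 0 := Ring.two_ne_zero hF
  set t := (g : Matrix (Fin 2) (Fin 2) F).trace with ht
  have hcar : Nat.card (ConjClasses.mk g).carrier = Fintype.card F * (Fintype.card F - 1) := by
    rw [← card_trace_eq t hg.charpoly_ne_zero]
    apply Nat.card_congr
    apply Equiv.subtypeEquivRight
    intro h
    rw [ConjClasses.mem_carrier_iff_mk_eq, ConjClasses.mk_eq_mk_iff_isConj]
    constructor
    · intro hc
      exact trace_eq_of_isConj h g hc
    · intro htr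
      exact (SL2_isConj_of_trace_sq_ne hF g h (hg.trace_sq_ne h2) htr.symm).symm
  have h := card_carrier_mul_card_centralizer g
  rw [hcar, card_SL2] at h
  have hq : 2 ≤ Fintype.card F := two_le_card
  have hpos : 0 < Fintype.card F * (Fintype.card F - 1) := by
    apply Nat.mul_pos <;> omega
  apply Nat.eq_of_mul_eq_mul_left hpos
  rw [h]
  have : Fintype.card F ^ 2 - 1 = (Fintype.card F - 1) * (Fintype.card F + 1) := by
    obtain ⟨n, hn⟩ : ∃ n, Fintype.card F = n + 1 := ⟨Fintype.card F - 1, by omega⟩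
    rw [hn]
    simp only [Nat.add_sub_cancel]
    have : (n + 1) ^ 2 = n * (n + 1 + 1) + 1 := by ring
    rw [this, Nat.add_sub_cancel]
  rw [this]
  ring

end finite

end Cfsg.Agent.Helper12
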