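import Mathlib
import Cfsg.Agent.Lib.Helper12.SL2Elliptic

set_option autoImplicit false

namespace Cfsg.Agent.Helper12

open Cfsg Cfsg.Agent.Helper24 Cfsg.Agent.Helper5

open scoped ComplexConjugate

open Matrix

variable {F : Type*} [Field F]

/-- the centraliser of an element of `SL₂` -/
abbrev torus (g : Matrix.SpecialLinearGroup (Fin 2) F) :
    Subgroup (Matrix.SpecialLinearGroup (Fin 2) F) :=
  Subgroup.centralizer ({g} : Set (Matrix.SpecialLinearGroup (Fin 2) F))

theorem mem_torus_iff (g h : Matrix.SpecialLinearGroup (Fin 2) F) :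
    h ∈ torus g ↔ g * h = h * g := by
  rw [Subgroup.mem_centralizer_iff]
  simp only [Set.mem_singleton_iff, forall_eq]

theorem mem_torus_iff_coe (g h : Matrix.SpecialLinearGroup (Fin 2) F)
    (hg : ¬ IsScalar2 (g : Matrix (Fin 2) (Fin 2) F)) :
    h ∈ torus g ↔ ∃ a b : F, (h : Matrix (Fin 2) (Fin 2) F) =
      a • (1 : Matrix (Fin 2) (Fin 2) F) + b • (g : Matrix (Fin 2) (Fin 2) F) := by
  rw [mem_torus_iff, ← commute_iff_exists_smul _ _ hg]
  constructor
  · intro h1
    have := congrArg (fun x : Matrix.SpecialLinearGroup (Fin 2) F =>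
      (x : Matrix (Fin 2) (Fin 2) F)) h1
    simp only [Matrix.SpecialLinearGroup.coe_mul] at this
    exact this.symm
  · intro h1
    apply Subtype.ext
    rw [Matrix.SpecialLinearGroup.coe_mul, Matrix.SpecialLinearGroup.coe_mul]
    exact h1.symm

theorem commute_smul_add (M : Matrix (Fin 2) (Fin 2) F) (a b a' b' : F) :
    (a • (1 : Matrix (Fin 2) (Fin 2) F) + b • M) * (a' • (1 : Matrix (Fin 2) (Fin 2) F) + b' • M) =
      (a' • (1 : Matrix (Fin 2) (Fin 2) F) + b' • M) *
        (a • (1 : Matrix (Fin 2) (Fin 2) F) + b • M) := by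
  have : Commute (a • (1 : Matrix (Fin 2) (Fin 2) F) + b • M)
      (a' • (1 : Matrix (Fin 2) (Fin 2) F) + b' • M) := by
    apply Commute.add_left <;> apply Commute.add_right
    · exact (Commute.one_left _).smul_left a |>.smul_right a'
    · exact (Commute.one_left _).smul_left a |>.smul_right b'
    · exact (Commute.one_right _).smul_left b |>.smul_right a'
    · exact (Commute.refl M).smul_left b |>.smul_right b'
  exact this

/-- the torus of a non-scalar element is commutative -/
theorem torus_comm (g : Matrix.SpecialLinearGroup (Fin 2) F)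
    (hg : ¬ IsScalar2 (g : Matrix (Fin 2) (Fin 2) F))
    (h h' : Matrix.SpecialLinearGroup (Fin 2) F) (hh : h ∈ torus g) (hh' : h' ∈ torus g) :
    h * h' = h' * h := by
  obtain ⟨a, b, e⟩ := (mem_torus_iff_coe g h hg).1 hh
  obtain ⟨a', b', e'⟩ := (mem_torus_iff_coe g h' hg).1 hh'
  apply Subtype.ext
  rw [Matrix.SpecialLinearGroup.coe_mul, Matrix.SpecialLinearGroup.coe_mul, e, e']
  exact commute_smul_add _ a b a' b'

theorem det_smul_one_add_smul (M : Matrix (Fin 2) (Fin 2) F) (a b : F) :
    (a • (1 : Matrix (Fin 2) (Fin 2) F) + b • M).det =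
      a ^ 2 + a * b * M.trace + b ^ 2 * M.det := by
  rw [Matrix.det_fin_two, Matrix.det_fin_two, Matrix.trace_fin_two]
  simp only [Matrix.add_apply, Matrix.smul_apply, Matrix.one_apply_eq, Matrix.one_apply_ne,
    ne_eq, one_ne_zero, zero_ne_one, not_false_eq_true, smul_eq_mul, mul_one, mul_zero, zero_add]
  ring

/-- the norm form of an elliptic element is anisotropic -/
theorem IsElliptic.norm_ne_zero {g : Matrix.SpecialLinearGroup (Fin 2) F} (hg : IsElliptic g)
    (a b : F) (hab : a ≠ 0 ∨ b ≠ 0) :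
    a ^ 2 + a * b * (g : Matrix (Fin 2) (Fin 2) F).trace + b ^ 2 ≠ 0 := by
  by_cases hb : b = 0
  · rw [hb]
    have ha : a ≠ 0 := hab.resolve_right (fun h => h hb)
    simpa using ha
  · have h1 := hg.charpoly_ne_zero (-a / b)
    intro h0
    apply h1
    field_simp
    linear_combination h0

theorem IsElliptic.det_ne_zero {g : Matrix.SpecialLinearGroup (Fin 2) F} (hg : IsElliptic g)
    (a b : F) (hab : a ≠ 0 ∨ b ≠ 0) :
    (a • (1 : Matrix (Fin 2) (Fin 2) F) + b • (g : Matrix (Fin 2) (Fin 2) F)).det ≠ 0 := by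
  rw [det_smul_one_add_smul, g.2, mul_one]
  exact hg.norm_ne_zero a b hab

theorem IsElliptic.eq_zero_of_det_eq_zero {g : Matrix.SpecialLinearGroup (Fin 2) F}
    (hg : IsElliptic g) (a b : F)
    (h : (a • (1 : Matrix (Fin 2) (Fin 2) F) + b • (g : Matrix (Fin 2) (Fin 2) F)).det = 0) :
    a = 0 ∧ b = 0 := by
  by_contra hcon
  apply hg.det_ne_zero a b _ h
  by_contra h2
  push Not at h2
  exact hcon h2

/-! ### the torus of an elliptic element -/

theorem isScalar2_smul_one_add (M : Matrix (Fin 2) (Fin 2) F) (a : F) :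
    IsScalar2 (a • (1 : Matrix (Fin 2) (Fin 2) F) + (0 : F) • M) := by
  rw [zero_smul, add_zero]
  exact isScalar2_smul_one a

/-- non-scalar elements of the torus of an elliptic element generate the same torus -/
theorem torus_eq_of_mem {g h : Matrix.SpecialLinearGroup (Fin 2) F} (hg : IsElliptic g)
    (hh : h ∈ torus g) (hns : ¬ IsScalar2 (h : Matrix (Fin 2) (Fin 2) F)) :
    IsElliptic h ∧ torus h = torus g := by
  obtain ⟨a, b, e⟩ := (mem_torus_iff_coe g h hg.not_scalar).1 hh
  have hb : b ≠ 0 := by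
    rintro rfl
    apply hns
    rw [e]
    exact isScalar2_smul_one_add _ a
  constructor
  · intro c v hv hcv
    apply hg ((c - a) / b) v hv
    rw [e, Matrix.add_mulVec, Matrix.smul_mulVec, Matrix.one_mulVec, Matrix.smul_mulVec] at hcv
    have h1 : b • ((g : Matrix (Fin 2) (Fin 2) F) *ᵥ v) = (c - a) • v := by
      rw [sub_smul, ← hcv]
      abel
    have h2 := congrArg (fun w => b⁻¹ • w) h1
    simp only [smul_smul, inv_mul_cancel₀ hb, one_smul] at h2
    rw [h2, div_eq_inv_mul]
  · ext x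
    constructor
    · intro hx
      obtain ⟨a', b', e'⟩ := (mem_torus_iff_coe h x hns).1 hx
      rw [mem_torus_iff_coe g x hg.not_scalar]
      refine ⟨a' + b' * a, b' * b, ?_⟩
      rw [e', e, smul_add, smul_smul, smul_smul, add_smul, add_assoc]
    · intro hx
      obtain ⟨a', b', e'⟩ := (mem_torus_iff_coe g x hg.not_scalar).1 hx
      rw [mem_torus_iff]
      apply Subtype.ext
      rw [Matrix.SpecialLinearGroup.coe_mul, Matrix.SpecialLinearGroup.coe_mul, e, e']
      exact commute_smul_add _ a b a' b'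

theorem self_mem_torus (g : Matrix.SpecialLinearGroup (Fin 2) F) : g ∈ torus g := by
  rw [mem_torus_iff]

theorem coe_inv_SL2 (c : Matrix.SpecialLinearGroup (Fin 2) F) :
    ((c⁻¹ : Matrix.SpecialLinearGroup (Fin 2) F) : Matrix (Fin 2) (Fin 2) F) =
      (c : Matrix (Fin 2) (Fin 2) F).trace • (1 : Matrix (Fin 2) (Fin 2) F) -
        (c : Matrix (Fin 2) (Fin 2) F) := by
  rw [Matrix.SpecialLinearGroup.coe_inv, Matrix.adjugate_fin_two, Matrix.trace_fin_two]
  ext i j
  fin_cases i <;> fin_cases j <;> simp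

theorem sq_SL2 (c : Matrix.SpecialLinearGroup (Fin 2) F) :
    (c : Matrix (Fin 2) (Fin 2) F) * (c : Matrix (Fin 2) (Fin 2) F) =
      (c : Matrix (Fin 2) (Fin 2) F).trace • (c : Matrix (Fin 2) (Fin 2) F) -
        (1 : Matrix (Fin 2) (Fin 2) F) := by
  rw [sq_eq2, c.2, one_smul]

/-- two elements of the torus of an elliptic element with the same trace are equal or inverse -/
theorem eq_or_eq_inv_of_trace_eq {g h c : Matrix.SpecialLinearGroup (Fin 2) F} (hg : IsElliptic g)
    (hh : h ∈ torus g) (hc : c ∈ torus g)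
    (htr : (h : Matrix (Fin 2) (Fin 2) F).trace = (c : Matrix (Fin 2) (Fin 2) F).trace) :
    h = c ∨ h = c⁻¹ := by
  obtain ⟨a, b, e⟩ := (mem_torus_iff_coe g h hg.not_scalar).1 hh
  obtain ⟨a', b', e'⟩ := (mem_torus_iff_coe g c hg.not_scalar).1 hc
  set H := (h : Matrix (Fin 2) (Fin 2) F) with hH
  set C := (c : Matrix (Fin 2) (Fin 2) F) with hC
  set G := (g : Matrix (Fin 2) (Fin 2) F) with hG
  have hcomm : H * C = C * H := by
    rw [e, e']
    exact commute_smul_add _ a b a' b'
  have hprod : (H - C) * (H - (C.trace • (1 : Matrix (Fin 2) (Fin 2) F) - C)) = 0 := by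
    have h1 := sq_SL2 h
    have h2 := sq_SL2 c
    rw [← hH] at h1
    rw [← hC] at h2
    rw [sub_mul, mul_sub, mul_sub, mul_sub, mul_sub, h1, h2, htr, Matrix.mul_smul,
      Matrix.mul_smul, Matrix.mul_one, Matrix.mul_one, hcomm]
    abel
  have hdet := congrArg Matrix.det hprod
  rw [Matrix.det_mul, Matrix.det_zero] at hdet
  rcases mul_eq_zero.1 hdet with h0 | h0
  · left
    have e1 : H - C = (a - a') • (1 : Matrix (Fin 2) (Fin 2) F) + (b - b') • G := by
      rw [e, e', sub_smul, sub_smul]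
      abel
    rw [e1] at h0
    obtain ⟨h1, h2⟩ := hg.eq_zero_of_det_eq_zero _ _ h0
    apply Subtype.ext
    change H = C
    rw [e, e', sub_eq_zero.1 h1, sub_eq_zero.1 h2]
  · right
    obtain ⟨tc, htc⟩ : ∃ tc : F, tc = C.trace := ⟨_, rfl⟩
    rw [← htc] at h0
    have e1 : H - (tc • (1 : Matrix (Fin 2) (Fin 2) F) - C) =
        (a - tc + a') • (1 : Matrix (Fin 2) (Fin 2) F) + (b + b') • G := by
      rw [e, e', add_smul, add_smul, sub_smul]
      abel
    rw [e1] at h0
    obtain ⟨h1, h2⟩ := hg.eq_zero_of_det_eq_zero _ _ h0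
    apply Subtype.ext
    rw [coe_inv_SL2]
    change H = C.trace • (1 : Matrix (Fin 2) (Fin 2) F) - C
    rw [← htc]
    have ha : a = tc - a' := by linear_combination h1
    have hb : b = -b' := by linear_combination h2
    rw [e, e', ha, hb, sub_smul, neg_smul]
    abel

end Cfsg.Agent.Helper12
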