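import Mathlib
import Cfsg.Agent.Lib.Helper12.SL2Torus
import Cfsg.Agent.Lib.Helper12.Dicyclic

set_option autoImplicit false

namespace Cfsg.Agent.Helper12

open Cfsg

open Matrix

variable {F : Type*} [Field F]

/-- the central element `-1` of `SL₂` -/
def negOneSL : Matrix.SpecialLinearGroup (Fin 2) F := upperSL (-1) 0 (by ring)

theorem negOneSL_coe :
    ((negOneSL : Matrix.SpecialLinearGroup (Fin 2) F) : Matrix (Fin 2) (Fin 2) F) = -1 := by
  rw [negOneSL, upperSL_coe]
  ext i j
  fin_cases i <;> fin_cases j <;> simp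

theorem trace_inv_SL2 (g : Matrix.SpecialLinearGroup (Fin 2) F) :
    ((g⁻¹ : Matrix.SpecialLinearGroup (Fin 2) F) : Matrix (Fin 2) (Fin 2) F).trace =
      (g : Matrix (Fin 2) (Fin 2) F).trace := by
  rw [coe_inv_SL2]
  simp only [Matrix.trace_fin_two, Matrix.sub_apply, Matrix.smul_apply, Matrix.one_apply_eq,
    smul_eq_mul, mul_one]
  ring

theorem torus_inv (g : Matrix.SpecialLinearGroup (Fin 2) F) : torus g⁻¹ = torus g := by
  ext h
  rw [mem_torus_iff, mem_torus_iff]
  exact Commute.inv_left_iff (a := g) (b := h)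

theorem conj_mem_torus_iff (x g h : Matrix.SpecialLinearGroup (Fin 2) F) :
    x * h * x⁻¹ ∈ torus (x * g * x⁻¹) ↔ h ∈ torus g := by
  rw [mem_torus_iff, mem_torus_iff]
  exact Commute.conj_iff x (a := g) (b := h)

/-- an element of `SL₂` of square one is `±1`, away from characteristic two -/
theorem SL2_sq_eq_one (h2 : (2 : F) ≠ 0) (t : Matrix.SpecialLinearGroup (Fin 2) F)
    (ht : t * t = 1) : t = 1 ∨ t = negOneSL := by
  have hinv : t⁻¹ = t := inv_eq_of_mul_eq_one_left ht
  have h1 := coe_inv_SL2 t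
  rw [hinv] at h1
  set M := (t : Matrix (Fin 2) (Fin 2) F) with hM
  have e01 := congrFun (congrFun h1 0) 1
  have e10 := congrFun (congrFun h1 1) 0
  have e00 := congrFun (congrFun h1 0) 0
  have e11 := congrFun (congrFun h1 1) 1
  simp only [Matrix.sub_apply, Matrix.smul_apply, Matrix.one_apply_eq, Matrix.one_apply_ne,
    ne_eq, one_ne_zero, zero_ne_one, not_false_eq_true, smul_eq_mul, mul_one, mul_zero,
    Matrix.trace_fin_two, zero_sub] at e01 e10 e00 e11
  have h01 : M 0 1 = 0 := by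
    have : 2 * M 0 1 = 0 := by linear_combination e01
    rcases mul_eq_zero.1 this with h | h
    · exact absurd h h2
    · exact h
  have h10 : M 1 0 = 0 := by
    have : 2 * M 1 0 = 0 := by linear_combination e10
    rcases mul_eq_zero.1 this with h | h
    · exact absurd h h2
    · exact h
  have h00 : M 0 0 = M 1 1 := by linear_combination e00
  have hs : IsScalar2 M := ⟨h01, h10, h00⟩
  rcases scalar_SL2_entry t hs with h | h
  · left
    apply SL2_eq_of_isScalar2 t 1 hs
    · rw [Matrix.SpecialLinearGroup.coe_one]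
      exact isScalar2_smul_one (1 : F) |> fun h => by simpa using h
    · rw [h, Matrix.SpecialLinearGroup.coe_one, Matrix.one_apply_eq]
  · right
    apply SL2_eq_of_isScalar2 t negOneSL hs
    · rw [negOneSL_coe]
      refine ⟨?_, ?_, ?_⟩ <;> simp
    · rw [h, negOneSL_coe]
      simp

theorem negOneSL_mul_self : (negOneSL : Matrix.SpecialLinearGroup (Fin 2) F) * negOneSL = 1 := by
  apply Subtype.ext
  rw [Matrix.SpecialLinearGroup.coe_mul, negOneSL_coe, Matrix.SpecialLinearGroup.coe_one]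
  simp

theorem negOneSL_ne_one (h2 : (2 : F) ≠ 0) :
    (negOneSL : Matrix.SpecialLinearGroup (Fin 2) F) ≠ 1 := by
  intro h
  have h1 := congrArg (fun x : Matrix.SpecialLinearGroup (Fin 2) F =>
    (x : Matrix (Fin 2) (Fin 2) F) 0 0) h
  simp only [negOneSL_coe, Matrix.SpecialLinearGroup.coe_one, Matrix.neg_apply,
    Matrix.one_apply_eq] at h1
  apply h2
  linear_combination -h1

theorem negOneSL_mem_torus (g : Matrix.SpecialLinearGroup (Fin 2) F) : negOneSL ∈ torus g := by
  rw [mem_torus_iff]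
  apply Subtype.ext
  rw [Matrix.SpecialLinearGroup.coe_mul, Matrix.SpecialLinearGroup.coe_mul, negOneSL_coe]
  simp

/-! ### regular elements -/

/-- a non-scalar element `g` such that only `g` and `g⁻¹` have the trace of `g` in the torus -/
structure IsRegularSL (g : Matrix.SpecialLinearGroup (Fin 2) F) : Prop where
  ns : ¬ IsScalar2 (g : Matrix (Fin 2) (Fin 2) F)
  reg : ∀ h ∈ torus g, (h : Matrix (Fin 2) (Fin 2) F).trace =
    (g : Matrix (Fin 2) (Fin 2) F).trace → h = g ∨ h = g⁻¹

theorem IsElliptic.isRegularSL {g : Matrix.SpecialLinearGroup (Fin 2) F} (hg : IsElliptic g) :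
    IsRegularSL g :=
  ⟨hg.not_scalar, fun h hh htr => eq_or_eq_inv_of_trace_eq hg hh (self_mem_torus g) htr⟩

theorem ne_inv_of_not_scalar (h2 : (2 : F) ≠ 0) {g : Matrix.SpecialLinearGroup (Fin 2) F}
    (hns : ¬ IsScalar2 (g : Matrix (Fin 2) (Fin 2) F)) : g ≠ g⁻¹ := by
  intro h
  apply hns
  have h1 : g * g = 1 := by
    nth_rewrite 2 [h]
    exact mul_inv_cancel g
  rcases SL2_sq_eq_one h2 g h1 with h | h
  · rw [h, Matrix.SpecialLinearGroup.coe_one]
    refine ⟨?_, ?_, ?_⟩ <;> simp
  · rw [h, negOneSL_coe]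
    refine ⟨?_, ?_, ?_⟩ <;> simp

theorem mem_normalizer_torus_iff {g : Matrix.SpecialLinearGroup (Fin 2) F} (hr : IsRegularSL g)
    (x : Matrix.SpecialLinearGroup (Fin 2) F) :
    x ∈ Subgroup.normalizer ((torus g : Subgroup (Matrix.SpecialLinearGroup (Fin 2) F)) :
      Set (Matrix.SpecialLinearGroup (Fin 2) F)) ↔ x * g * x⁻¹ = g ∨ x * g * x⁻¹ = g⁻¹ := by
  constructor
  · intro hx
    have h1 : x * g * x⁻¹ ∈ torus g :=
      (Subgroup.mem_normalizer_iff.1 hx g).1 (self_mem_torus g)
    apply hr.reg _ h1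
    exact (trace_eq_of_isConj g _ (isConj_iff.2 ⟨x, rfl⟩)).symm
  · intro hx
    have htor : torus (x * g * x⁻¹) = torus g := by
      rcases hx with h | h
      · rw [h]
      · rw [h, torus_inv]
    rw [Subgroup.mem_normalizer_iff]
    intro h
    rw [← htor, conj_mem_torus_iff, htor]

/-- an element inverting `g` inverts the whole torus of `g` -/
theorem inverts_torus {g : Matrix.SpecialLinearGroup (Fin 2) F}
    (hns : ¬ IsScalar2 (g : Matrix (Fin 2) (Fin 2) F))
    (x : Matrix.SpecialLinearGroup (Fin 2) F) (hx : x * g * x⁻¹ = g⁻¹)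
    (h : Matrix.SpecialLinearGroup (Fin 2) F) (hh : h ∈ torus g) : x * h * x⁻¹ = h⁻¹ := by
  obtain ⟨a, b, e⟩ := (mem_torus_iff_coe g h hns).1 hh
  apply Subtype.ext
  have hx' := congrArg (fun y : Matrix.SpecialLinearGroup (Fin 2) F =>
    (y : Matrix (Fin 2) (Fin 2) F)) hx
  simp only [Matrix.SpecialLinearGroup.coe_mul] at hx'
  have hxx : (x : Matrix (Fin 2) (Fin 2) F) *
      ((x⁻¹ : Matrix.SpecialLinearGroup (Fin 2) F) : Matrix (Fin 2) (Fin 2) F) = 1 := by
    rw [← Matrix.SpecialLinearGroup.coe_mul, mul_inv_cancel, Matrix.SpecialLinearGroup.coe_one]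
  rw [Matrix.SpecialLinearGroup.coe_mul, Matrix.SpecialLinearGroup.coe_mul, e, Matrix.mul_add,
    Matrix.add_mul, Matrix.mul_smul, Matrix.smul_mul, Matrix.mul_one, hxx, Matrix.mul_smul,
    Matrix.smul_mul, hx', coe_inv_SL2 h, e, coe_inv_SL2 g]
  have htr : (a • (1 : Matrix (Fin 2) (Fin 2) F) + b • (g : Matrix (Fin 2) (Fin 2) F)).trace =
      2 * a + b * (g : Matrix (Fin 2) (Fin 2) F).trace := by
    simp only [Matrix.trace_fin_two, Matrix.add_apply, Matrix.smul_apply, Matrix.one_apply_eq,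
      smul_eq_mul, mul_one]
    ring
  rw [htr]
  set t := (g : Matrix (Fin 2) (Fin 2) F).trace
  rw [smul_sub, smul_smul, add_smul, ← smul_smul 2 a, two_smul]
  abel

/-- an element of `SL₂` inverting a non-scalar element has square `-1` -/
theorem sq_eq_neg_one_of_inverts {g : Matrix.SpecialLinearGroup (Fin 2) F}
    (hns : ¬ IsScalar2 (g : Matrix (Fin 2) (Fin 2) F))
    (x : Matrix.SpecialLinearGroup (Fin 2) F) (hx : x * g * x⁻¹ = g⁻¹) :
    ((x * x : Matrix.SpecialLinearGroup (Fin 2) F) : Matrix (Fin 2) (Fin 2) F) = -1 := by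
  have hx1 : x * g = g⁻¹ * x := by
    rw [← hx, inv_mul_cancel_right]
  have hx' := congrArg (fun y : Matrix.SpecialLinearGroup (Fin 2) F =>
    (y : Matrix (Fin 2) (Fin 2) F)) hx1
  simp only [Matrix.SpecialLinearGroup.coe_mul] at hx'
  rw [coe_inv_SL2 g] at hx'
  set X := (x : Matrix (Fin 2) (Fin 2) F) with hX
  set G := (g : Matrix (Fin 2) (Fin 2) F) with hG
  have e00 := congrFun (congrFun hx' 0) 0
  have e01 := congrFun (congrFun hx' 0) 1
  have e10 := congrFun (congrFun hx' 1) 0
  have e11 := congrFun (congrFun hx' 1) 1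
  simp only [Matrix.mul_apply, Fin.sum_univ_two, Matrix.sub_apply, Matrix.smul_apply,
    Matrix.one_apply_eq, Matrix.one_apply_ne, ne_eq, one_ne_zero, zero_ne_one, not_false_eq_true,
    smul_eq_mul, mul_one, mul_zero, Matrix.trace_fin_two] at e00 e01 e10 e11
  have hb : (X 0 0 + X 1 1) * G 0 1 = 0 := by linear_combination e01
  have hc : (X 0 0 + X 1 1) * G 1 0 = 0 := by linear_combination e10
  have hd : (X 0 0 + X 1 1) * (G 0 0 - G 1 1) = 0 := by linear_combination e00 - e11
  have htr : X 0 0 + X 1 1 = 0 := by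
    by_contra hne
    apply hns
    refine ⟨?_, ?_, ?_⟩
    · exact (mul_eq_zero.1 hb).resolve_left hne
    · exact (mul_eq_zero.1 hc).resolve_left hne
    · exact sub_eq_zero.1 ((mul_eq_zero.1 hd).resolve_left hne)
  rw [Matrix.SpecialLinearGroup.coe_mul, sq_SL2, Matrix.trace_fin_two, htr, zero_smul, zero_sub]

section finite

variable [Fintype F] [DecidableEq F]

theorem exists_inverting (hF : ringChar F ≠ 2) (g : Matrix.SpecialLinearGroup (Fin 2) F)
    (ht : (g : Matrix (Fin 2) (Fin 2) F).trace ^ 2 ≠ 4) :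
    ∃ w : Matrix.SpecialLinearGroup (Fin 2) F, w * g * w⁻¹ = g⁻¹ := by
  have := SL2_isConj_of_trace_sq_ne hF g g⁻¹ ht (trace_inv_SL2 g).symm
  exact isConj_iff.1 this

/-- the normaliser of the torus of a regular element has twice the order of the torus -/
theorem index_torus_normalizer (hF : ringChar F ≠ 2) {g : Matrix.SpecialLinearGroup (Fin 2) F}
    (hr : IsRegularSL g) (ht : (g : Matrix (Fin 2) (Fin 2) F).trace ^ 2 ≠ 4) :
    ((torus g).subgroupOf (Subgroup.normalizer ((torus g :
      Subgroup (Matrix.SpecialLinearGroup (Fin 2) F)) :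
        Set (Matrix.SpecialLinearGroup (Fin 2) F)))).index = 2 := by
  have h2 : (2 : F) ≠ 0 := Ring.two_ne_zero hF
  obtain ⟨w, hw⟩ := exists_inverting hF g ht
  have hne := ne_inv_of_not_scalar h2 hr.ns
  have hwN : w ∈ Subgroup.normalizer ((torus g :
      Subgroup (Matrix.SpecialLinearGroup (Fin 2) F)) :
        Set (Matrix.SpecialLinearGroup (Fin 2) F)) :=
    (mem_normalizer_torus_iff hr w).2 (Or.inr hw)
  rw [Subgroup.index_eq_two_iff]
  refine ⟨⟨w, hwN⟩, ?_⟩
  rintro ⟨b, hb⟩
  rw [Subgroup.mem_subgroupOf, Subgroup.mem_subgroupOf]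
  change Xor' (b * w ∈ torus g) (b ∈ torus g)
  have hbw : (b * w) * g * (b * w)⁻¹ = (b * g * b⁻¹)⁻¹ := by
    calc (b * w) * g * (b * w)⁻¹ = b * (w * g * w⁻¹) * b⁻¹ := by group
      _ = b * g⁻¹ * b⁻¹ := by rw [hw]
      _ = (b * g * b⁻¹)⁻¹ := by group
  have hmem : ∀ y : Matrix.SpecialLinearGroup (Fin 2) F, y ∈ torus g ↔ y * g * y⁻¹ = g := by
    intro y
    rw [mem_torus_iff, mul_inv_eq_iff_eq_mul]
    exact eq_comm
  rcases (mem_normalizer_torus_iff hr b).1 hb with h | h
  · right
    refine ⟨(hmem b).2 h, ?_⟩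
    rw [hmem, hbw, h]
    exact fun h' => hne h'.symm
  · left
    refine ⟨?_, ?_⟩
    · rw [hmem, hbw, h, inv_inv]
    · rw [hmem, h]
      exact fun h' => hne h'.symm

theorem card_normalizer_torus (hF : ringChar F ≠ 2) {g : Matrix.SpecialLinearGroup (Fin 2) F}
    (hr : IsRegularSL g) (ht : (g : Matrix (Fin 2) (Fin 2) F).trace ^ 2 ≠ 4) :
    Nat.card (Subgroup.normalizer ((torus g :
      Subgroup (Matrix.SpecialLinearGroup (Fin 2) F)) :
        Set (Matrix.SpecialLinearGroup (Fin 2) F))) = 2 * Nat.card (torus g) := by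
  have h1 := Subgroup.card_mul_index ((torus g).subgroupOf (Subgroup.normalizer ((torus g :
      Subgroup (Matrix.SpecialLinearGroup (Fin 2) F)) :
        Set (Matrix.SpecialLinearGroup (Fin 2) F))))
  rw [index_torus_normalizer hF hr ht,
    Nat.card_congr (Subgroup.subgroupOfEquivOfLe Subgroup.le_normalizer).toEquiv] at h1
  rw [← h1, mul_comm]

omit [Fintype F] [DecidableEq F] in
/-- elements of the normaliser outside the torus have square `-1` -/
theorem sq_of_mem_normalizer_torus {g : Matrix.SpecialLinearGroup (Fin 2) F}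
    (hr : IsRegularSL g) (x : Matrix.SpecialLinearGroup (Fin 2) F)
    (hx : x ∈ Subgroup.normalizer ((torus g :
      Subgroup (Matrix.SpecialLinearGroup (Fin 2) F)) :
        Set (Matrix.SpecialLinearGroup (Fin 2) F))) (hxT : x ∉ torus g) :
    ((x * x : Matrix.SpecialLinearGroup (Fin 2) F) : Matrix (Fin 2) (Fin 2) F) = -1 := by
  rcases (mem_normalizer_torus_iff hr x).1 hx with h | h
  · exfalso
    apply hxT
    rw [mem_torus_iff]
    rw [mul_inv_eq_iff_eq_mul] at h
    exact h.symm
  · exact sq_eq_neg_one_of_inverts hr.ns x h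

/-- the class number of the normaliser of the torus of a regular element -/
theorem card_conjClasses_normalizer_torus (hF : ringChar F ≠ 2)
    {g : Matrix.SpecialLinearGroup (Fin 2) F}
    (hr : IsRegularSL g) (ht : (g : Matrix (Fin 2) (Fin 2) F).trace ^ 2 ≠ 4) :
    2 * Nat.card (ConjClasses (Subgroup.normalizer ((torus g :
      Subgroup (Matrix.SpecialLinearGroup (Fin 2) F)) :
        Set (Matrix.SpecialLinearGroup (Fin 2) F)))) = Nat.card (torus g) + 6 := by
  have h2 : (2 : F) ≠ 0 := Ring.two_ne_zero hF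
  set N := Subgroup.normalizer ((torus g :
      Subgroup (Matrix.SpecialLinearGroup (Fin 2) F)) :
        Set (Matrix.SpecialLinearGroup (Fin 2) F)) with hN
  have hTN : torus g ≤ N := Subgroup.le_normalizer
  have hz : (negOneSL : Matrix.SpecialLinearGroup (Fin 2) F) ∈ N := hTN (negOneSL_mem_torus g)
  rw [← Nat.card_congr (Subgroup.subgroupOfEquivOfLe hTN).toEquiv]
  apply card_conjClasses_of_inverting ((torus g).subgroupOf N) (index_torus_normalizer hF hr ht)
    ?_ ?_ ⟨negOneSL, hz⟩ ?_ ?_ ?_ ?_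
  · rintro ⟨a, ha⟩ ha' ⟨b, hb⟩ hb'
    rw [Subgroup.mem_subgroupOf] at ha' hb'
    apply Subtype.ext
    exact torus_comm g hr.ns a b ha' hb'
  · rintro ⟨x, hx⟩ hxT ⟨t, ht'⟩ htT
    rw [Subgroup.mem_subgroupOf] at hxT htT
    apply Subtype.ext
    change x * t * x⁻¹ = t⁻¹
    rcases (mem_normalizer_torus_iff hr x).1 hx with h | h
    · exfalso
      apply hxT
      change x ∈ torus g
      rw [mem_torus_iff]
      rw [mul_inv_eq_iff_eq_mul] at h
      exact h.symm
    · exact inverts_torus hr.ns x h t htT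
  · rw [Subgroup.mem_subgroupOf]
    exact negOneSL_mem_torus g
  · intro h
    apply negOneSL_ne_one h2
    exact congrArg Subtype.val h
  · apply Subtype.ext
    exact negOneSL_mul_self
  · rintro ⟨t, ht'⟩ _ htt
    have h1 : t * t = 1 := congrArg Subtype.val htt
    rcases SL2_sq_eq_one h2 t h1 with h | h
    · left; exact Subtype.ext h
    · right; exact Subtype.ext h

end finite

end Cfsg.Agent.Helper12
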