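import Mathlib
import Cfsg.Agent.Lib.Helper12.SL2Norm

set_option autoImplicit false

namespace Cfsg.Agent.Helper12

open Cfsg

open Matrix

variable {F : Type*} [Field F]

/-! ### the ring generated by an element of `SL₂` -/

/-- the matrices `a + b g` -/
def torusRing (g : Matrix.SpecialLinearGroup (Fin 2) F) : Subring (Matrix (Fin 2) (Fin 2) F) where
  carrier := {M | ∃ a b : F, M = a • (1 : Matrix (Fin 2) (Fin 2) F) +
    b • (g : Matrix (Fin 2) (Fin 2) F)}
  mul_mem' := by
    rintro _ _ ⟨a, b, rfl⟩ ⟨a', b', rfl⟩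
    refine ⟨a * a' - b * b', a * b' + a' * b + b * b' * (g : Matrix (Fin 2) (Fin 2) F).trace, ?_⟩
    simp only [add_mul, mul_add, smul_mul_assoc, mul_smul_comm, one_mul, mul_one]
    rw [sq_SL2 g]
    module
  one_mem' := ⟨1, 0, by simp⟩
  add_mem' := by
    rintro _ _ ⟨a, b, rfl⟩ ⟨a', b', rfl⟩
    exact ⟨a + a', b + b', by module⟩
  zero_mem' := ⟨0, 0, by simp⟩
  neg_mem' := by
    rintro _ ⟨a, b, rfl⟩
    exact ⟨-a, -b, by module⟩

theorem isElliptic_of_charpoly (g : Matrix.SpecialLinearGroup (Fin 2) F)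
    (h : ∀ a : F, a ^ 2 - (g : Matrix (Fin 2) (Fin 2) F).trace * a + 1 ≠ 0) : IsElliptic g := by
  intro c v hv hcv
  apply h c
  have hdet : ((g : Matrix (Fin 2) (Fin 2) F) - c • (1 : Matrix (Fin 2) (Fin 2) F)).det = 0 := by
    apply Matrix.exists_mulVec_eq_zero_iff.1
    refine ⟨v, hv, ?_⟩
    rw [Matrix.sub_mulVec, Matrix.smul_mulVec, Matrix.one_mulVec, hcv, sub_self]
  have hd := g.2
  rw [Matrix.det_fin_two] at hd hdet
  rw [Matrix.trace_fin_two]
  simp only [Matrix.sub_apply, Matrix.smul_apply, Matrix.one_apply_eq, Matrix.one_apply_ne,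
    ne_eq, one_ne_zero, zero_ne_one, not_false_eq_true, smul_eq_mul, mul_one, mul_zero,
    sub_zero] at hdet
  linear_combination hdet - hd

/-- the torus of an elliptic element is cyclic -/
theorem isCyclic_torus [Finite F] {g : Matrix.SpecialLinearGroup (Fin 2) F} (hg : IsElliptic g) :
    IsCyclic (torus g) := by
  letI : CommRing (torusRing g) :=
    { (inferInstance : Ring (torusRing g)) with
      mul_comm := fun x y => by
        obtain ⟨a, b, e⟩ := x.2
        obtain ⟨a', b', e'⟩ := y.2
        apply Subtype.ext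
        change x.1 * y.1 = y.1 * x.1
        rw [e, e']
        exact commute_smul_add _ a b a' b' }
  haveI : Nontrivial (torusRing g) := ⟨⟨0, 1, fun h => by
    have := congrArg Subtype.val h
    exact zero_ne_one this⟩⟩
  have : NoZeroDivisors (torusRing g) := ⟨fun {x y} hxy => by
    obtain ⟨a, b, e⟩ := x.2
    obtain ⟨a', b', e'⟩ := y.2
    have h1 : x.1 * y.1 = 0 := congrArg Subtype.val hxy
    have h2 := congrArg Matrix.det h1
    have hz : (0 : Matrix (Fin 2) (Fin 2) F).det = 0 := by simp [Matrix.det_fin_two]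
    rw [Matrix.det_mul, hz] at h2
    rcases mul_eq_zero.1 h2 with h0 | h0
    · left
      rw [e] at h0
      obtain ⟨ha, hb⟩ := hg.eq_zero_of_det_eq_zero a b h0
      apply Subtype.ext
      rw [e, ha, hb]
      simp
    · right
      rw [e'] at h0
      obtain ⟨ha, hb⟩ := hg.eq_zero_of_det_eq_zero a' b' h0
      apply Subtype.ext
      rw [e', ha, hb]
      simp⟩
  haveI : IsDomain (torusRing g) := NoZeroDivisors.to_isDomain _
  let f : torus g →* torusRing g :=
    { toFun := fun h => ⟨(h.1 : Matrix (Fin 2) (Fin 2) F),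
        (mem_torus_iff_coe g h.1 hg.not_scalar).1 h.2⟩
      map_one' := by
        apply Subtype.ext
        simp
      map_mul' := fun h h' => by
        apply Subtype.ext
        simp }
  apply isCyclic_of_injective_ringHom f
  intro h h' hh
  apply Subtype.ext
  apply Subtype.ext
  have h3 : (f h).1 = (f h').1 := congrArg Subtype.val hh
  exact h3

/-! ### traces -/

theorem root_iff_exists_unit (t : F) :
    (∃ a : F, a ^ 2 - t * a + 1 = 0) ↔ ∃ u : Fˣ, t = (u : F) + ((u⁻¹ : Fˣ) : F) := by
  constructor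
  · rintro ⟨a, ha⟩
    have ha0 : a ≠ 0 := by
      rintro rfl
      simp at ha
    refine ⟨Units.mk0 a ha0, ?_⟩
    rw [Units.val_inv_eq_inv_val, Units.val_mk0]
    field_simp
    linear_combination -ha
  · rintro ⟨u, rfl⟩
    refine ⟨(u : F), ?_⟩
    have hu : (u : F) ≠ 0 := u.ne_zero
    rw [Units.val_inv_eq_inv_val]
    field_simp
    ring

section finite

variable [Fintype F] [DecidableEq F]

/-- there are traces of elliptic elements -/
theorem exists_elliptic_trace : ∃ t : F, ∀ a : F, a ^ 2 - t * a + 1 ≠ 0 := by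
  by_contra hcon
  push Not at hcon
  have hsurj : Function.Surjective (fun u : Fˣ => (u : F) + ((u⁻¹ : Fˣ) : F)) := by
    intro t
    obtain ⟨u, hu⟩ := (root_iff_exists_unit t).1 (hcon t)
    exact ⟨u, hu.symm⟩
  have h1 := Fintype.card_le_of_surjective _ hsurj
  rw [Fintype.card_units] at h1
  have : 2 ≤ Fintype.card F := Fintype.one_lt_card
  omega

theorem exists_elliptic : ∃ g : Matrix.SpecialLinearGroup (Fin 2) F, IsElliptic g := by
  obtain ⟨t, ht⟩ := exists_elliptic_trace (F := F)
  refine ⟨⟨companion2 t 1, det_companion2 t 1⟩, ?_⟩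
  apply isElliptic_of_charpoly
  intro a
  change a ^ 2 - (companion2 t 1).trace * a + 1 ≠ 0
  rw [trace_companion2]
  exact ht a

/-- at least `(q + 1) / 2` elements of `F` are of the form `u + u⁻¹` -/
theorem card_split_traces (hF : ringChar F ≠ 2) :
    Fintype.card F + 1 ≤ 2 * ((Finset.univ : Finset Fˣ).image
      (fun u : Fˣ => (u : F) + ((u⁻¹ : Fˣ) : F))).card := by
  have h2 : (2 : F) ≠ 0 := Ring.two_ne_zero hF
  set φ : Fˣ → F := fun u : Fˣ => (u : F) + ((u⁻¹ : Fˣ) : F) with hφ
  set s' : Finset Fˣ := Finset.univ.filter (fun a : Fˣ => a ≠ 1 ∧ a ≠ -1) with hs'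
  have hneg : (-1 : Fˣ) ≠ 1 := by
    intro h
    have := congrArg Units.val h
    simp only [Units.val_neg, Units.val_one] at this
    apply h2
    linear_combination -this
  have hcard : s'.card + 2 = Fintype.card F - 1 := by
    have h1 := Finset.card_filter_add_card_filter_not (s := (Finset.univ : Finset Fˣ))
      (fun a : Fˣ => a ≠ 1 ∧ a ≠ -1)
    rw [Finset.card_univ, Fintype.card_units] at h1
    have h3 : (Finset.univ.filter (fun a : Fˣ => ¬ (a ≠ 1 ∧ a ≠ -1))) = {1, -1} := by
      ext a
      simp only [Finset.mem_filter, Finset.mem_univ, true_and, Finset.mem_insert,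
        Finset.mem_singleton]
      tauto
    rw [h3, Finset.card_pair hneg.symm] at h1
    exact h1
  have hfib : ∀ b ∈ s'.image φ, (s'.filter (fun a => φ a = b)).card ≤ 2 := by
    intro b hb
    obtain ⟨a, ha, rfl⟩ := Finset.mem_image.1 hb
    have hsub : s'.filter (fun c => φ c = φ a) ⊆ {a, a⁻¹} := by
      intro c hc
      rw [Finset.mem_filter] at hc
      have h1 : (c : F) + ((c⁻¹ : Fˣ) : F) = (a : F) + ((a⁻¹ : Fˣ) : F) := hc.2
      rw [Units.val_inv_eq_inv_val, Units.val_inv_eq_inv_val] at h1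
      have hc0 : (c : F) ≠ 0 := c.ne_zero
      have ha0 : (a : F) ≠ 0 := a.ne_zero
      have h3 : ((c : F) - a) * ((c : F) - (a : F)⁻¹) = 0 := by
        field_simp at h1 ⊢
        linear_combination h1
      rw [Finset.mem_insert, Finset.mem_singleton]
      rcases mul_eq_zero.1 h3 with h0 | h0
      · left
        exact Units.ext (sub_eq_zero.1 h0)
      · right
        apply Units.ext
        rw [Units.val_inv_eq_inv_val]
        exact sub_eq_zero.1 h0
    exact (Finset.card_le_card hsub).trans Finset.card_le_two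
  have h3 := Finset.card_le_mul_card_image s' 2 hfib
  -- the values `2` and `-2`
  have hval : ∀ a : Fˣ, φ a = 2 → a = 1 := by
    intro a ha
    have h1 : (a : F) + ((a⁻¹ : Fˣ) : F) = 2 := ha
    rw [Units.val_inv_eq_inv_val] at h1
    have ha0 : (a : F) ≠ 0 := a.ne_zero
    have h4 : ((a : F) - 1) ^ 2 = 0 := by
      field_simp at h1
      linear_combination h1
    apply Units.ext
    rw [Units.val_one]
    exact sub_eq_zero.1 (pow_eq_zero_iff (by norm_num) |>.1 h4)
  have hval' : ∀ a : Fˣ, φ a = -2 → a = -1 := by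
    intro a ha
    have h1 : (a : F) + ((a⁻¹ : Fˣ) : F) = -2 := ha
    rw [Units.val_inv_eq_inv_val] at h1
    have ha0 : (a : F) ≠ 0 := a.ne_zero
    have h4 : ((a : F) + 1) ^ 2 = 0 := by
      field_simp at h1
      linear_combination h1
    apply Units.ext
    rw [Units.val_neg, Units.val_one]
    have := pow_eq_zero_iff (by norm_num) |>.1 h4
    linear_combination this
  have hsub : insert (2 : F) (insert (-2 : F) (s'.image φ)) ⊆ (Finset.univ : Finset Fˣ).image φ := by
    intro t ht
    rw [Finset.mem_insert, Finset.mem_insert] at ht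
    rw [Finset.mem_image]
    rcases ht with rfl | rfl | ht
    · refine ⟨1, Finset.mem_univ _, ?_⟩
      simp only [hφ, inv_one, Units.val_one]
      norm_num
    · refine ⟨-1, Finset.mem_univ _, ?_⟩
      simp only [hφ, inv_neg, inv_one, Units.val_neg, Units.val_one]
      norm_num
    · obtain ⟨a, _, rfl⟩ := Finset.mem_image.1 ht
      exact ⟨a, Finset.mem_univ _, rfl⟩
  have h4 := Finset.card_le_card hsub
  have hn2 : (-2 : F) ∉ s'.image φ := by
    intro h
    obtain ⟨a, ha, hav⟩ := Finset.mem_image.1 h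
    rw [hs', Finset.mem_filter] at ha
    exact ha.2.2 (hval' a hav)
  have hn1 : (2 : F) ∉ insert (-2 : F) (s'.image φ) := by
    intro h
    rw [Finset.mem_insert] at h
    rcases h with h | h
    · apply h2
      have h5 : (2 : F) * 2 = 0 := by linear_combination h
      exact mul_self_eq_zero.1 h5
    · obtain ⟨a, ha, hav⟩ := Finset.mem_image.1 h
      rw [hs', Finset.mem_filter] at ha
      exact ha.2.1 (hval a hav)
  rw [Finset.card_insert_of_notMem hn1, Finset.card_insert_of_notMem hn2] at h4
  have hq : 2 ≤ Fintype.card F := Fintype.one_lt_card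
  omega

open Classical in
/-- the non-scalar elements of the torus of an elliptic element have at least `(q - 1) / 2`
traces -/
theorem card_torus_traces (hF : ringChar F ≠ 2) {g : Matrix.SpecialLinearGroup (Fin 2) F}
    (hg : IsElliptic g) :
    Fintype.card F - 1 ≤ 2 * ((Finset.univ.filter (fun h : Matrix.SpecialLinearGroup (Fin 2) F =>
      h ∈ torus g ∧ ¬ IsScalar2 (h : Matrix (Fin 2) (Fin 2) F))).image
        (fun h : Matrix.SpecialLinearGroup (Fin 2) F =>
          (h : Matrix (Fin 2) (Fin 2) F).trace)).card := by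
  set s := Finset.univ.filter (fun h : Matrix.SpecialLinearGroup (Fin 2) F =>
      h ∈ torus g ∧ ¬ IsScalar2 (h : Matrix (Fin 2) (Fin 2) F)) with hs
  have hT : (Finset.univ.filter (fun h : Matrix.SpecialLinearGroup (Fin 2) F =>
      h ∈ torus g)).card = Fintype.card F + 1 := by
    rw [← card_centralizer_elliptic hF g hg, Nat.card_eq_fintype_card, Fintype.card_subtype]
  have hcard : s.card + 2 = Fintype.card F + 1 := by
    have hsub : Finset.univ.filter (fun h : Matrix.SpecialLinearGroup (Fin 2) F =>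
          IsScalar2 (h : Matrix (Fin 2) (Fin 2) F)) ⊆
        Finset.univ.filter (fun h : Matrix.SpecialLinearGroup (Fin 2) F => h ∈ torus g) := by
      intro h hh
      rw [Finset.mem_filter] at hh ⊢
      refine ⟨Finset.mem_univ _, ?_⟩
      rw [mem_torus_iff]
      exact (Subgroup.mem_center_iff.1 (mem_center_of_isScalar2 h hh.2) g)
    have hs' : s = Finset.univ.filter (fun h : Matrix.SpecialLinearGroup (Fin 2) F =>
        h ∈ torus g) \ Finset.univ.filter (fun h : Matrix.SpecialLinearGroup (Fin 2) F =>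
          IsScalar2 (h : Matrix (Fin 2) (Fin 2) F)) := by
      ext h
      simp only [hs, Finset.mem_filter, Finset.mem_univ, true_and, Finset.mem_sdiff]
    have h1 := Finset.card_sdiff_add_card_eq_card hsub
    rw [← hs', hT, card_scalar_SL2 hF] at h1
    exact h1
  have hfib : ∀ b ∈ s.image (fun h : Matrix.SpecialLinearGroup (Fin 2) F =>
      (h : Matrix (Fin 2) (Fin 2) F).trace),
      (s.filter (fun a : Matrix.SpecialLinearGroup (Fin 2) F =>
        (a : Matrix (Fin 2) (Fin 2) F).trace = b)).card ≤ 2 := by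
    intro b hb
    obtain ⟨c, hc, rfl⟩ := Finset.mem_image.1 hb
    rw [hs, Finset.mem_filter] at hc
    have hsub : s.filter (fun a : Matrix.SpecialLinearGroup (Fin 2) F =>
        (a : Matrix (Fin 2) (Fin 2) F).trace =
        (c : Matrix (Fin 2) (Fin 2) F).trace) ⊆ {c, c⁻¹} := by
      intro a ha
      rw [Finset.mem_filter, hs, Finset.mem_filter] at ha
      rw [Finset.mem_insert, Finset.mem_singleton]
      exact eq_or_eq_inv_of_trace_eq hg ha.1.2.1 hc.2.1 ha.2
    exact (Finset.card_le_card hsub).trans Finset.card_le_two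
  have h3 := Finset.card_le_mul_card_image s 2 hfib
  omega

/-- every elliptic element is conjugate into the torus of a given one -/
theorem exists_conj_mem_torus (hF : ringChar F ≠ 2) {g₀ : Matrix.SpecialLinearGroup (Fin 2) F}
    (hg₀ : IsElliptic g₀) (g : Matrix.SpecialLinearGroup (Fin 2) F) (hg : IsElliptic g) :
    ∃ h : Matrix.SpecialLinearGroup (Fin 2) F, h * g * h⁻¹ ∈ torus g₀ := by
  classical
  have h2 : (2 : F) ≠ 0 := Ring.two_ne_zero hF
  set s := Finset.univ.filter (fun h : Matrix.SpecialLinearGroup (Fin 2) F =>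
      h ∈ torus g₀ ∧ ¬ IsScalar2 (h : Matrix (Fin 2) (Fin 2) F)) with hs
  set A := s.image (fun h : Matrix.SpecialLinearGroup (Fin 2) F =>
    (h : Matrix (Fin 2) (Fin 2) F).trace) with hA
  set B := (Finset.univ : Finset Fˣ).image (fun u : Fˣ => (u : F) + ((u⁻¹ : Fˣ) : F)) with hB
  set E := Finset.univ.filter (fun t : F => ∀ a : F, a ^ 2 - t * a + 1 ≠ 0) with hE
  have hAE : A ⊆ E := by
    intro t ht
    obtain ⟨c, hc, rfl⟩ := Finset.mem_image.1 ht
    rw [hs, Finset.mem_filter] at hc
    rw [hE, Finset.mem_filter]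
    exact ⟨Finset.mem_univ _, (torus_eq_of_mem hg₀ hc.2.1 hc.2.2).1.charpoly_ne_zero⟩
  have hEB : Disjoint E B := by
    rw [Finset.disjoint_left]
    intro t htE htB
    rw [hE, Finset.mem_filter] at htE
    obtain ⟨u, _, hu⟩ := Finset.mem_image.1 htB
    obtain ⟨a, ha⟩ := (root_iff_exists_unit t).2 ⟨u, hu.symm⟩
    exact htE.2 a ha
  have h1 : E.card + B.card ≤ Fintype.card F := by
    rw [← Finset.card_union_of_disjoint hEB]
    exact Finset.card_le_univ _
  have h3 := card_split_traces (F := F) hF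
  have h4 := card_torus_traces hF hg₀
  rw [← hB] at h3
  rw [← hs, ← hA] at h4
  have hle : E.card ≤ A.card := by omega
  have hEA : A = E := Finset.eq_of_subset_of_card_le hAE hle
  have ht : (g : Matrix (Fin 2) (Fin 2) F).trace ∈ A := by
    rw [hEA, hE, Finset.mem_filter]
    exact ⟨Finset.mem_univ _, hg.charpoly_ne_zero⟩
  obtain ⟨c, hc, hct⟩ := Finset.mem_image.1 ht
  rw [hs, Finset.mem_filter] at hc
  have hconj := SL2_isConj_of_trace_sq_ne hF g c (hg.trace_sq_ne h2) hct.symm
  obtain ⟨x, hx⟩ := isConj_iff.1 hconj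
  exact ⟨x, by rw [hx]; exact hc.2.1⟩

end finite

end Cfsg.Agent.Helper12
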