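import Mathlib
import Cfsg.Agent.Lib.Helper12.TwoByTwo

set_option autoImplicit false

namespace Cfsg.Agent.Helper12

open Matrix Polynomial

variable {F : Type*} [Field F]

theorem sq_eq_of_det_one (M : Matrix (Fin 2) (Fin 2) F) (hdet : M.det = 1) :
    M * M = M.trace • M - 1 := by
  rw [sq_eq2, hdet, one_smul]

/-- split semisimple case: if `l` is an eigenvalue with `l² ≠ 1` and `l^(2k) = 1`
then `M^k` is scalar -/
theorem pow_eq_smul_of_root (M : Matrix (Fin 2) (Fin 2) F) (hdet : M.det = 1) (l : F)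
    (hl : l ^ 2 - M.trace * l + 1 = 0) (hl1 : l ^ 2 ≠ 1) (k : ℕ) (hk : l ^ (2 * k) = 1) :
    M ^ k = (l ^ k) • (1 : Matrix (Fin 2) (Fin 2) F) := by
  have hl0 : l ≠ 0 := by
    rintro rfl
    simp at hl
  set μ := l⁻¹ with hμ
  have hlμ : l * μ = 1 := mul_inv_cancel₀ hl0
  have ht : M.trace = l + μ := by
    have : l * (M.trace - (l + μ)) = 0 := by linear_combination (-1 : F) * hl - hlμ
    rcases mul_eq_zero.1 this with h | h
    · exact absurd h hl0
    · exact sub_eq_zero.1 h
  have hδ : l - μ ≠ 0 := by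
    intro h
    apply hl1
    have : l = μ := sub_eq_zero.1 h
    rw [pow_two]
    nth_rewrite 2 [this]
    exact hlμ
  have hsq := sq_eq_of_det_one M hdet
  have h1 : M * (M - μ • (1 : Matrix (Fin 2) (Fin 2) F)) =
      l • (M - μ • (1 : Matrix (Fin 2) (Fin 2) F)) := by
    rw [mul_sub, hsq, ht, smul_sub, smul_smul, hlμ, add_smul]
    simp only [mul_smul_comm, mul_one, one_smul]
    abel
  have h2 : M * (l • (1 : Matrix (Fin 2) (Fin 2) F) - M) =
      μ • (l • (1 : Matrix (Fin 2) (Fin 2) F) - M) := by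
    rw [mul_sub, hsq, ht, smul_sub, smul_smul, mul_comm μ l, hlμ, add_smul]
    simp only [mul_smul_comm, mul_one, one_smul]
    abel
  have h1k : ∀ k : ℕ, M ^ k * (M - μ • (1 : Matrix (Fin 2) (Fin 2) F)) =
      (l ^ k) • (M - μ • (1 : Matrix (Fin 2) (Fin 2) F)) := by
    intro k
    induction k with
    | zero => simp
    | succ k ih => rw [pow_succ, mul_assoc, h1, mul_smul_comm, ih, smul_smul, pow_succ, mul_comm]
  have h2k : ∀ k : ℕ, M ^ k * (l • (1 : Matrix (Fin 2) (Fin 2) F) - M) =
      (μ ^ k) • (l • (1 : Matrix (Fin 2) (Fin 2) F) - M) := by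
    intro k
    induction k with
    | zero => simp
    | succ k ih => rw [pow_succ, mul_assoc, h2, mul_smul_comm, ih, smul_smul, pow_succ, mul_comm]
  have hlk : μ ^ k = l ^ k := by
    have h3 : l ^ k * l ^ k = 1 := by rw [← pow_add, ← two_mul]; exact hk
    have h4 : l ^ k * μ ^ k = 1 := by rw [← mul_pow, hlμ, one_pow]
    have hlk0 : l ^ k ≠ 0 := pow_ne_zero _ hl0
    exact mul_left_cancel₀ hlk0 (h4.trans h3.symm)
  have hsum : (l - μ) • M ^ k = (l - μ) • ((l ^ k) • (1 : Matrix (Fin 2) (Fin 2) F)) := by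
    have : (l - μ) • M ^ k = M ^ k * (M - μ • (1 : Matrix (Fin 2) (Fin 2) F)) +
        M ^ k * (l • (1 : Matrix (Fin 2) (Fin 2) F) - M) := by
      rw [← mul_add]
      have : M - μ • (1 : Matrix (Fin 2) (Fin 2) F) + (l • (1 : Matrix (Fin 2) (Fin 2) F) - M) =
          (l - μ) • (1 : Matrix (Fin 2) (Fin 2) F) := by
        rw [sub_smul]; abel
      rw [this, mul_smul_comm, mul_one]
    rw [this, h1k, h2k, hlk, ← smul_add]
    have : M - μ • (1 : Matrix (Fin 2) (Fin 2) F) + (l • (1 : Matrix (Fin 2) (Fin 2) F) - M) =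
        (l - μ) • (1 : Matrix (Fin 2) (Fin 2) F) := by
      rw [sub_smul]; abel
    rw [this, smul_comm]
  exact smul_right_injective _ hδ hsum

/-- unipotent case: if `l` is a double eigenvalue (`l² = 1`) then `M^p` is scalar -/
theorem pow_char_eq_smul_of_root (M : Matrix (Fin 2) (Fin 2) F) (hdet : M.det = 1) (l : F)
    (hl : l ^ 2 - M.trace * l + 1 = 0) (hl1 : l ^ 2 = 1) (p : ℕ) [Fact p.Prime] [CharP F p] :
    M ^ p = (l ^ p) • (1 : Matrix (Fin 2) (Fin 2) F) := by
  have hpp : p.Prime := Fact.out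
  have hl0 : l ≠ 0 := by
    rintro rfl
    simp at hl
  have ht : M.trace = 2 * l := by
    have : l * (M.trace - 2 * l) = 0 := by linear_combination (-1 : F) * hl - hl1
    rcases mul_eq_zero.1 this with h | h
    · exact absurd h hl0
    · exact sub_eq_zero.1 h
  set N := M - l • (1 : Matrix (Fin 2) (Fin 2) F) with hN
  have hsq := sq_eq_of_det_one M hdet
  have hNN : N * N = 0 := by
    rw [hN, sub_mul, mul_sub, mul_sub, hsq, ht]
    simp only [smul_mul_assoc, mul_smul_comm, mul_one, one_mul, smul_smul]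
    rw [← pow_two, hl1, two_mul, add_smul, one_smul]
    abel
  have hNp : N ^ p = 0 := by
    obtain ⟨m, hm⟩ := Nat.exists_eq_add_of_le hpp.two_le
    rw [hm, pow_add, pow_two, hNN, zero_mul]
  have hM : M = l • (1 : Matrix (Fin 2) (Fin 2) F) + N := by rw [hN]; abel
  have hcomm : Commute (l • (1 : Matrix (Fin 2) (Fin 2) F)) N := by
    rw [Commute, SemiconjBy]; simp
  rw [hM, add_pow_char_of_commute p hcomm, hNp, add_zero, _root_.smul_pow, one_pow]

section finite

variable [Fintype F]

theorem gcd_two_card_sub_one_of_odd (h : Fintype.card F % 2 = 1) :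
    Nat.gcd 2 (Fintype.card F - 1) = 2 := by
  have : 2 ∣ Fintype.card F - 1 := by omega
  exact Nat.gcd_eq_left this

theorem gcd_two_card_sub_one_of_even (h : Fintype.card F % 2 = 0) :
    Nat.gcd 2 (Fintype.card F - 1) = 1 := by
  have h1 : 1 < Fintype.card F := Fintype.one_lt_card
  have hodd : Odd (Fintype.card F - 1) := by
    rw [Nat.odd_iff]; omega
  exact Nat.coprime_two_left.2 hodd

/-- anisotropic case: if the characteristic polynomial has no root, then `M^((q+1)/d)` is `±1` -/
theorem pow_eq_smul_of_no_root (M : Matrix (Fin 2) (Fin 2) F) (hdet : M.det = 1)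
    (hirr : ∀ l : F, l ^ 2 - M.trace * l + 1 ≠ 0) :
    ∃ c : F, c ^ 2 = 1 ∧
      M ^ ((Fintype.card F + 1) / Nat.gcd 2 (Fintype.card F - 1)) =
        c • (1 : Matrix (Fin 2) (Fin 2) F) := by
  classical
  set t := M.trace with ht
  set f : F[X] := X ^ 2 - C t * X + 1 with hf
  have hfdeg : f.natDegree = 2 := by
    rw [hf]
    compute_degree!
  have hfmonic : f.Monic := by
    rw [hf]
    monicity!
  have hf0 : f ≠ 0 := hfmonic.ne_zero
  have hfirr : Irreducible f := by
    apply Polynomial.irreducible_of_degree_le_three_of_not_isRoot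
    · rw [hfdeg]; decide
    · intro x hx
      apply hirr x
      rw [IsRoot, hf] at hx
      simpa using hx
  haveI : Fact (Irreducible f) := ⟨hfirr⟩
  haveI : Module.Finite F (AdjoinRoot f) := hfmonic.finite_adjoinRoot
  haveI : Finite (AdjoinRoot f) := Module.finite_of_finite F
  set α : AdjoinRoot f := AdjoinRoot.root f with hα
  -- norm of α is 1
  have hnorm : Algebra.norm F α = 1 := by
    have h1 := Algebra.PowerBasis.norm_gen_eq_coeff_zero_minpoly (AdjoinRoot.powerBasis hf0)
    rw [AdjoinRoot.powerBasis_gen, AdjoinRoot.powerBasis_dim, hfdeg, AdjoinRoot.minpoly_root hf0,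
      hfmonic.leadingCoeff, inv_one, C_1, mul_one] at h1
    rw [h1, hf]
    simp
  have hcardK : Nat.card (AdjoinRoot f) = Fintype.card F ^ 2 := by
    rw [Module.natCard_eq_pow_finrank (K := F), (AdjoinRoot.powerBasis hf0).finrank,
      AdjoinRoot.powerBasis_dim, hfdeg, Nat.card_eq_fintype_card]
  have hq1 : 1 < Fintype.card F := Fintype.one_lt_card
  have hexp : (Nat.card (AdjoinRoot f) - 1) / (Nat.card F - 1) = Fintype.card F + 1 := by
    rw [hcardK, Nat.card_eq_fintype_card]
    have : Fintype.card F ^ 2 - 1 = (Fintype.card F + 1) * (Fintype.card F - 1) := by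
      obtain ⟨m, hm⟩ := Nat.exists_eq_add_of_le hq1.le
      rw [hm]
      simp only [Nat.add_sub_cancel_left]
      have : (1 + m) ^ 2 = (1 + m + 1) * m + 1 := by ring
      rw [this, Nat.add_sub_cancel]
    rw [this, Nat.mul_div_cancel _ (by omega)]
  have hαpow : α ^ (Fintype.card F + 1) = 1 := by
    have := FiniteField.algebraMap_norm_eq_pow (K := F) (K' := AdjoinRoot f) (x := α)
    rw [hnorm, map_one, hexp] at this
    exact this.symm
  -- the exponent
  set k := (Fintype.card F + 1) / Nat.gcd 2 (Fintype.card F - 1) with hk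
  have hc : ∃ c : F, c ^ 2 = 1 ∧ α ^ k = AdjoinRoot.of f c := by
    rcases Nat.mod_two_eq_zero_or_one (Fintype.card F) with hev | hodd
    · refine ⟨1, one_pow 2, ?_⟩
      rw [hk, gcd_two_card_sub_one_of_even hev, Nat.div_one, hαpow, map_one]
    · have hk2 : 2 * k = Fintype.card F + 1 := by
        rw [hk, gcd_two_card_sub_one_of_odd hodd]
        omega
      have hsq : (α ^ k) ^ 2 = 1 := by rw [← pow_mul, mul_comm, hk2, hαpow]
      have : (α ^ k - 1) * (α ^ k + 1) = 0 := by linear_combination hsq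
      rcases mul_eq_zero.1 this with h | h
      · exact ⟨1, one_pow 2, by rw [sub_eq_zero.1 h, map_one]⟩
      · refine ⟨-1, by ring, ?_⟩
        rw [eq_neg_of_add_eq_zero_left h, map_neg, map_one]
  obtain ⟨c, hc2, hck⟩ := hc
  refine ⟨c, hc2, ?_⟩
  have hdvd : f ∣ X ^ k - C c := by
    rw [← AdjoinRoot.mk_eq_zero, map_sub, map_pow, AdjoinRoot.mk_X, AdjoinRoot.mk_C, ← hα, hck,
      sub_self]
  obtain ⟨h, hh⟩ := hdvd
  have haev : aeval M f = 0 := by
    rw [hf]
    simp only [map_add, map_sub, map_mul, map_pow, aeval_X, aeval_C, map_one]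
    rw [pow_two, sq_eq_of_det_one M hdet, Algebra.algebraMap_eq_smul_one, smul_mul_assoc, one_mul]
    abel
  have := congrArg (aeval M) hh
  rw [map_mul, haev, zero_mul] at this
  simp only [map_sub, map_pow, aeval_X, aeval_C] at this
  rw [Algebra.algebraMap_eq_smul_one] at this
  exact sub_eq_zero.1 this

end finite

end Cfsg.Agent.Helper12
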