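import Mathlib
import Cfsg.Agent.Lib.Helper12.SL2Norm

set_option autoImplicit false

namespace Cfsg.Agent.Helper12

open Cfsg

open Matrix

variable {F : Type*} [Field F]

/-- data of a diagonal element with eigenvalue of square different from one -/
structure IsSplitReg (d : Matrix.SpecialLinearGroup (Fin 2) F) : Prop where
  h01 : (d : Matrix (Fin 2) (Fin 2) F) 0 1 = 0
  h10 : (d : Matrix (Fin 2) (Fin 2) F) 1 0 = 0
  hsq : (d : Matrix (Fin 2) (Fin 2) F) 0 0 ^ 2 ≠ 1

namespace IsSplitReg

variable {d : Matrix.SpecialLinearGroup (Fin 2) F} (hd : IsSplitReg d)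

include hd

theorem mul_eq_one : (d : Matrix (Fin 2) (Fin 2) F) 0 0 * (d : Matrix (Fin 2) (Fin 2) F) 1 1 = 1 := by
  have hdet := d.2
  rw [Matrix.det_fin_two, hd.h01] at hdet
  linear_combination hdet

theorem entry_ne : (d : Matrix (Fin 2) (Fin 2) F) 0 0 ≠ (d : Matrix (Fin 2) (Fin 2) F) 1 1 := by
  intro h
  apply hd.hsq
  have := hd.mul_eq_one
  rw [← h] at this
  rw [pow_two]
  exact this

theorem not_scalar : ¬ IsScalar2 (d : Matrix (Fin 2) (Fin 2) F) := fun h => hd.entry_ne h.2.2

theorem mem_torus_iff' (g : Matrix.SpecialLinearGroup (Fin 2) F) :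
    g ∈ torus d ↔ ((g : Matrix (Fin 2) (Fin 2) F) 0 1 = 0 ∧
      (g : Matrix (Fin 2) (Fin 2) F) 1 0 = 0) := by
  rw [mem_torus_iff]
  have hne := hd.entry_ne
  constructor
  · intro h
    have h' := congrArg (fun y : Matrix.SpecialLinearGroup (Fin 2) F =>
      (y : Matrix (Fin 2) (Fin 2) F)) h
    simp only [Matrix.SpecialLinearGroup.coe_mul] at h'
    have e01 := congrFun (congrFun h' 0) 1
    have e10 := congrFun (congrFun h' 1) 0
    simp only [Matrix.mul_apply, Fin.sum_univ_two, hd.h01, hd.h10, mul_zero, zero_mul, add_zero,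
      zero_add] at e01 e10
    constructor
    · have : ((d : Matrix (Fin 2) (Fin 2) F) 0 0 - (d : Matrix (Fin 2) (Fin 2) F) 1 1) *
          (g : Matrix (Fin 2) (Fin 2) F) 0 1 = 0 := by linear_combination e01
      exact (mul_eq_zero.1 this).resolve_left (sub_ne_zero.2 hne)
    · have : ((d : Matrix (Fin 2) (Fin 2) F) 0 0 - (d : Matrix (Fin 2) (Fin 2) F) 1 1) *
          (g : Matrix (Fin 2) (Fin 2) F) 1 0 = 0 := by linear_combination -e10
      exact (mul_eq_zero.1 this).resolve_left (sub_ne_zero.2 hne)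
  · rintro ⟨g01, g10⟩
    apply Subtype.ext
    rw [Matrix.SpecialLinearGroup.coe_mul, Matrix.SpecialLinearGroup.coe_mul]
    ext i j
    fin_cases i <;> fin_cases j <;>
      simp [Matrix.mul_apply, Fin.sum_univ_two, hd.h01, hd.h10, g01, g10, mul_comm]

theorem trace_sq_ne : (d : Matrix (Fin 2) (Fin 2) F).trace ^ 2 ≠ 4 := by
  intro h
  apply hd.entry_ne
  rw [Matrix.trace_fin_two] at h
  have h1 := hd.mul_eq_one
  have : ((d : Matrix (Fin 2) (Fin 2) F) 0 0 - (d : Matrix (Fin 2) (Fin 2) F) 1 1) ^ 2 = 0 := by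
    linear_combination h - 4 * h1
  exact sub_eq_zero.1 (pow_eq_zero_iff (by norm_num) |>.1 this)

theorem isRegularSL : IsRegularSL d := by
  refine ⟨hd.not_scalar, ?_⟩
  intro h hh htr
  obtain ⟨g01, g10⟩ := (hd.mem_torus_iff' h).1 hh
  have h1 := hd.mul_eq_one
  have h2 := SL2_diag_entries h g01
  rw [Matrix.trace_fin_two, Matrix.trace_fin_two] at htr
  set a := (d : Matrix (Fin 2) (Fin 2) F) 0 0 with ha
  set a' := (d : Matrix (Fin 2) (Fin 2) F) 1 1 with ha'
  set b := (h : Matrix (Fin 2) (Fin 2) F) 0 0 with hb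
  set b' := (h : Matrix (Fin 2) (Fin 2) F) 1 1 with hb'
  have hprod : (b - a) * (b - a') = 0 := by
    linear_combination b * htr - h2 + h1
  rcases mul_eq_zero.1 hprod with h0 | h0
  · left
    have hba : b = a := sub_eq_zero.1 h0
    have hba' : b' = a' := by linear_combination htr - hba
    apply Subtype.ext
    ext i j
    fin_cases i <;> fin_cases j
    · exact hba
    · exact g01.trans hd.h01.symm
    · exact g10.trans hd.h10.symm
    · exact hba'
  · right
    have hba : b = a' := sub_eq_zero.1 h0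
    have hba' : b' = a := by linear_combination htr - hba
    apply Subtype.ext
    rw [coe_inv_SL2, Matrix.trace_fin_two]
    ext i j
    fin_cases i <;> fin_cases j
    · simp only [Fin.zero_eta, Matrix.sub_apply, Matrix.smul_apply, Matrix.one_apply_eq,
        smul_eq_mul, mul_one]
      change b = a + a' - a
      rw [hba]; ring
    · simp only [Fin.zero_eta, Fin.mk_one, Matrix.sub_apply, Matrix.smul_apply, ne_eq,
        zero_ne_one, not_false_eq_true, Matrix.one_apply_ne, smul_eq_mul, mul_zero, zero_sub]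
      rw [g01, hd.h01, neg_zero]
    · simp only [Fin.zero_eta, Fin.mk_one, Matrix.sub_apply, Matrix.smul_apply, ne_eq,
        one_ne_zero, not_false_eq_true, Matrix.one_apply_ne, smul_eq_mul, mul_zero, zero_sub]
      rw [g10, hd.h10, neg_zero]
    · simp only [Fin.mk_one, Matrix.sub_apply, Matrix.smul_apply, Matrix.one_apply_eq,
        smul_eq_mul, mul_one]
      change b' = a + a' - a'
      rw [hba']; ring

/-- the `(0,0)` entry as a homomorphism on the diagonal torus -/
noncomputable def entryHom : torus d →* F where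
  toFun g := (g.1 : Matrix (Fin 2) (Fin 2) F) 0 0
  map_one' := by simp
  map_mul' g h := by
    have g01 := ((hd.mem_torus_iff' g.1).1 g.2).1
    change ((g.1 * h.1 : Matrix.SpecialLinearGroup (Fin 2) F) : Matrix (Fin 2) (Fin 2) F) 0 0 = _
    rw [Matrix.SpecialLinearGroup.coe_mul, Matrix.mul_apply, Fin.sum_univ_two, g01, zero_mul,
      add_zero]

theorem entryHom_injective : Function.Injective hd.entryHom := by
  intro g h hgh
  have hgh' : (g.1 : Matrix (Fin 2) (Fin 2) F) 0 0 = (h.1 : Matrix (Fin 2) (Fin 2) F) 0 0 := hgh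
  obtain ⟨g01, g10⟩ := (hd.mem_torus_iff' g.1).1 g.2
  obtain ⟨h01, h10⟩ := (hd.mem_torus_iff' h.1).1 h.2
  have e1 := SL2_diag_entries g.1 g01
  have e2 := SL2_diag_entries h.1 h01
  have hne : (g.1 : Matrix (Fin 2) (Fin 2) F) 0 0 ≠ 0 := by
    intro h0
    rw [h0, zero_mul] at e1
    exact zero_ne_one e1
  have h11 : (g.1 : Matrix (Fin 2) (Fin 2) F) 1 1 = (h.1 : Matrix (Fin 2) (Fin 2) F) 1 1 := by
    apply mul_left_cancel₀ hne
    rw [e1, hgh', e2]
  apply Subtype.ext
  apply Subtype.ext
  ext i j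
  fin_cases i <;> fin_cases j
  · exact hgh'
  · exact g01.trans h01.symm
  · exact g10.trans h10.symm
  · exact h11

theorem isCyclic_torus [Finite F] : IsCyclic (torus d) :=
  isCyclic_of_injective_ringHom hd.entryHom hd.entryHom_injective

theorem card_torus [Fintype F] : Nat.card (torus d) = Fintype.card F - 1 := by
  classical
  rw [← Fintype.card_units, ← Nat.card_eq_fintype_card]
  apply Nat.card_congr
  refine Equiv.ofBijective (fun g => Units.mk0 (hd.entryHom g) ?_) ⟨?_, ?_⟩
  · have g01 := ((hd.mem_torus_iff' g.1).1 g.2).1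
    have e1 := SL2_diag_entries g.1 g01
    intro h0
    change (g.1 : Matrix (Fin 2) (Fin 2) F) 0 0 = 0 at h0
    rw [h0, zero_mul] at e1
    exact zero_ne_one e1
  · intro g h hgh
    apply hd.entryHom_injective
    have := congrArg Units.val hgh
    simpa using this
  · intro a
    refine ⟨⟨diagSL a, ?_⟩, ?_⟩
    · rw [hd.mem_torus_iff', diagSL_coe]
      simp
    · apply Units.ext
      change (diagSL a : Matrix (Fin 2) (Fin 2) F) 0 0 = a
      rw [diagSL_coe]
      simp

end IsSplitReg

end Cfsg.Agent.Helper12
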