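import Mathlib
import Cfsg.Agent.Lib.Helper12.SL2Nonsplit
import Cfsg.Agent.Lib.Helper12.SL2Split
import Cfsg.Agent.Lib.Helper12.SL2Pow

set_option autoImplicit false

namespace Cfsg.Agent.Helper12

open Cfsg

open Matrix

variable {F : Type*} [Field F]

/-! ### transport along conjugation -/

theorem IsRegularSL.conj {g : Matrix.SpecialLinearGroup (Fin 2) F} (hr : IsRegularSL g)
    (x : Matrix.SpecialLinearGroup (Fin 2) F) : IsRegularSL (x * g * x⁻¹) := by
  have hc : IsConj g (x * g * x⁻¹) := isConj_iff.2 ⟨x, rfl⟩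
  refine ⟨fun h => hr.ns ((isScalar2_iff_of_isConj _ _ hc).2 h), ?_⟩
  intro h hh htr
  have h1 : x⁻¹ * h * x ∈ torus g := by
    have := (conj_mem_torus_iff x g (x⁻¹ * h * x)).1 (by
      have e : x * (x⁻¹ * h * x) * x⁻¹ = h := by group
      rw [e]; exact hh)
    exact this
  have h2 : ((x⁻¹ * h * x : Matrix.SpecialLinearGroup (Fin 2) F) :
      Matrix (Fin 2) (Fin 2) F).trace = (g : Matrix (Fin 2) (Fin 2) F).trace := by
    have e1 : IsConj h (x⁻¹ * h * x) := isConj_iff.2 ⟨x⁻¹, by rw [inv_inv]⟩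
    rw [← trace_eq_of_isConj _ _ e1, htr, ← trace_eq_of_isConj _ _ hc]
  rcases hr.reg _ h1 h2 with h3 | h3
  · left
    rw [← h3]; group
  · right
    have : h = x * (x⁻¹ * h * x) * x⁻¹ := by group
    rw [this, h3]; group

/-- conjugation as a homomorphism between tori -/
noncomputable def torusConjHom (x g : Matrix.SpecialLinearGroup (Fin 2) F) :
    torus g →* torus (x * g * x⁻¹) where
  toFun h := ⟨x * h.1 * x⁻¹, (conj_mem_torus_iff x g h.1).2 h.2⟩
  map_one' := by
    apply Subtype.ext
    simp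
  map_mul' h k := by
    apply Subtype.ext
    change x * (h.1 * k.1) * x⁻¹ = (x * h.1 * x⁻¹) * (x * k.1 * x⁻¹)
    group

theorem torusConjHom_bijective (x g : Matrix.SpecialLinearGroup (Fin 2) F) :
    Function.Bijective (torusConjHom x g) := by
  constructor
  · intro h k hhk
    have h1 : x * h.1 * x⁻¹ = x * k.1 * x⁻¹ := congrArg Subtype.val hhk
    apply Subtype.ext
    exact mul_left_cancel (mul_right_cancel h1)
  · intro k
    have hk : x⁻¹ * k.1 * x ∈ torus g := by
      apply (conj_mem_torus_iff x g _).1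
      have e : x * (x⁻¹ * k.1 * x) * x⁻¹ = k.1 := by group
      rw [e]; exact k.2
    refine ⟨⟨x⁻¹ * k.1 * x, hk⟩, ?_⟩
    apply Subtype.ext
    change x * (x⁻¹ * k.1 * x) * x⁻¹ = k.1
    group

theorem card_torus_conj (x g : Matrix.SpecialLinearGroup (Fin 2) F) :
    Nat.card (torus (x * g * x⁻¹)) = Nat.card (torus g) :=
  (Nat.card_congr (Equiv.ofBijective _ (torusConjHom_bijective x g))).symm

theorem isCyclic_torus_conj (x g : Matrix.SpecialLinearGroup (Fin 2) F)
    (h : IsCyclic (torus g)) : IsCyclic (torus (x * g * x⁻¹)) :=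
  isCyclic_of_surjective (torusConjHom x g) (torusConjHom_bijective x g).2

/-! ### subgroups of a torus containing the regular element -/

theorem centralizer_eq_torus {c : Matrix.SpecialLinearGroup (Fin 2) F}
    (hns : ¬ IsScalar2 (c : Matrix (Fin 2) (Fin 2) F))
    (P : Subgroup (Matrix.SpecialLinearGroup (Fin 2) F)) (hcP : c ∈ P) (hP : P ≤ torus c) :
    Subgroup.centralizer (P : Set (Matrix.SpecialLinearGroup (Fin 2) F)) = torus c := by
  ext x
  constructor
  · intro hx
    rw [Subgroup.mem_centralizer_iff] at hx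
    rw [mem_torus_iff]
    exact hx c hcP
  · intro hx
    rw [Subgroup.mem_centralizer_iff]
    intro h hh
    exact torus_comm c hns h x (hP hh) hx

theorem normalizer_eq_normalizer_torus {c : Matrix.SpecialLinearGroup (Fin 2) F}
    (hr : IsRegularSL c)
    (P : Subgroup (Matrix.SpecialLinearGroup (Fin 2) F)) (hcP : c ∈ P) (hP : P ≤ torus c) :
    Subgroup.normalizer (P : Set (Matrix.SpecialLinearGroup (Fin 2) F)) =
      Subgroup.normalizer ((torus c : Subgroup (Matrix.SpecialLinearGroup (Fin 2) F)) :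
        Set (Matrix.SpecialLinearGroup (Fin 2) F)) := by
  have key : ∀ y : Matrix.SpecialLinearGroup (Fin 2) F,
      y ∈ Subgroup.normalizer ((torus c : Subgroup (Matrix.SpecialLinearGroup (Fin 2) F)) :
        Set (Matrix.SpecialLinearGroup (Fin 2) F)) → ∀ p ∈ P, y * p * y⁻¹ ∈ P := by
    intro y hy p hp
    rcases (mem_normalizer_torus_iff hr y).1 hy with h | h
    · have hyT : y ∈ torus c := by
        rw [mem_torus_iff]
        rw [mul_inv_eq_iff_eq_mul] at h
        exact h.symm
      have : y * p = p * y := torus_comm c hr.ns y p hyT (hP hp)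
      rw [this, mul_inv_cancel_right]
      exact hp
    · rw [inverts_torus hr.ns y h p (hP hp)]
      exact P.inv_mem hp
  ext x
  constructor
  · intro hx
    have h1 : x * c * x⁻¹ ∈ P := (Subgroup.mem_normalizer_iff.1 hx c).1 hcP
    apply (mem_normalizer_torus_iff hr x).2
    apply hr.reg _ (hP h1)
    exact (trace_eq_of_isConj c _ (isConj_iff.2 ⟨x, rfl⟩)).symm
  · intro hx
    rw [Subgroup.mem_normalizer_iff]
    intro h
    constructor
    · exact key x hx h
    · intro hh
      have := key x⁻¹ (Subgroup.inv_mem _ hx) _ hh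
      have e : x⁻¹ * (x * h * x⁻¹) * x⁻¹⁻¹ = h := by group
      rw [e] at this
      exact this

/-! ### orders of elements with an eigenvalue -/

theorem SL2_pow_two_char_eq_one (p : ℕ) [Fact p.Prime] [CharP F p]
    (c : Matrix.SpecialLinearGroup (Fin 2) F) (l : F)
    (hl : l ^ 2 - (c : Matrix (Fin 2) (Fin 2) F).trace * l + 1 = 0) (hl1 : l ^ 2 = 1) :
    c ^ (2 * p) = 1 := by
  apply Subtype.ext
  rw [Matrix.SpecialLinearGroup.coe_pow, Matrix.SpecialLinearGroup.coe_one, mul_comm, pow_mul,
    pow_char_eq_smul_of_root _ c.2 l hl hl1 p, smul_pow, one_pow, ← pow_mul, mul_comm, pow_mul,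
    hl1, one_pow, one_smul]

theorem SL2_pow_card_sub_one_eq_one [Fintype F]
    (c : Matrix.SpecialLinearGroup (Fin 2) F) (l : F)
    (hl : l ^ 2 - (c : Matrix (Fin 2) (Fin 2) F).trace * l + 1 = 0) (hl1 : l ^ 2 ≠ 1) :
    c ^ (Fintype.card F - 1) = 1 := by
  have hl0 : l ≠ 0 := by
    rintro rfl
    simp at hl
  have hpow : l ^ (Fintype.card F - 1) = 1 := FiniteField.pow_card_sub_one_eq_one l hl0
  apply Subtype.ext
  rw [Matrix.SpecialLinearGroup.coe_pow, Matrix.SpecialLinearGroup.coe_one,
    pow_eq_smul_of_root _ c.2 l hl hl1 (Fintype.card F - 1) (by rw [mul_comm, pow_mul, hpow, one_pow]),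
    hpow, one_smul]

theorem IsElliptic.pow_card_add_one [Fintype F] [DecidableEq F] (hF : ringChar F ≠ 2)
    {c : Matrix.SpecialLinearGroup (Fin 2) F} (hc : IsElliptic c) :
    c ^ (Fintype.card F + 1) = 1 := by
  have h1 := card_centralizer_elliptic hF c hc
  have h2 : (⟨c, self_mem_torus c⟩ : torus c) ^ Nat.card (torus c) = 1 := pow_card_eq_one'
  rw [h1] at h2
  exact congrArg Subtype.val h2

theorem eq_one_of_pow_coprime {G : Type*} [Group G] (c : G) (m n : ℕ) (hm : c ^ m = 1)
    (hn : c ^ n = 1) (hmn : Nat.Coprime m n) : c = 1 := by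
  have := pow_gcd_eq_one.2 ⟨hm, hn⟩
  rw [hmn, pow_one] at this
  exact this

end Cfsg.Agent.Helper12
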