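import Mathlib
import Cfsg.Agent.Lib.Helper12.SL2Sylow
import Cfsg.Agent.Lib.Helper8.IndFun
import Cfsg.Agent.Lib.Helper8.InnerExtra
import Cfsg.Agent.Lib.Helper18.GenChar

set_option autoImplicit false

namespace Cfsg.Agent.Helper12

open Cfsg Cfsg.Agent.Helper24 Cfsg.Agent.Helper5

open scoped ComplexConjugate

open Matrix

/-! ### general facts on induced functions -/

section general

variable {G : Type*} [Group G] [Fintype G]

theorem indFun_eq_zero_of_not_conj (H : Subgroup G) (θ : H → ℂ) (g : G)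
    (h : ∀ x : G, x⁻¹ * g * x ∉ H) : indFun H θ g = 0 := by
  rw [Helper8.indFun_apply]
  rw [Finset.sum_eq_zero, mul_zero]
  intro x _
  exact Helper8.extendByZero_of_not_mem H θ _ (h x)

theorem indFun_central (H : Subgroup G) (θ : H → ℂ) (z : G) (hz : ∀ y : G, y * z = z * y)
    (hzH : z ∈ H) : indFun H θ z = (H.index : ℂ) * θ ⟨z, hzH⟩ := by
  rw [Helper8.indFun_apply]
  have : ∀ x : G, extendByZero H θ (x⁻¹ * z * x) = θ ⟨z, hzH⟩ := by
    intro x
    have e : x⁻¹ * z * x = z := by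
      rw [mul_assoc, ← hz x, inv_mul_cancel_left]
    rw [e]
    exact Helper8.extendByZero_of_mem H θ z hzH
  simp only [this, Finset.sum_const, Finset.card_univ, nsmul_eq_mul]
  have hH : (Nat.card H : ℂ) ≠ 0 := by
    have : 0 < Nat.card H := Nat.card_pos
    exact_mod_cast this.ne'
  rw [← Nat.card_eq_fintype_card, ← H.card_mul_index]
  push_cast
  field_simp

end general

variable {F : Type*} [Field F] [Fintype F] [DecidableEq F]

/-! ### functions induced from the torus of an elliptic element -/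

open Classical in
/-- the value of an induced function at a non-scalar element of the torus -/
theorem indFun_torus_apply (hF : ringChar F ≠ 2) {g₀ : Matrix.SpecialLinearGroup (Fin 2) F}
    (hg₀ : IsElliptic g₀) (θ : torus g₀ → ℂ) (c : Matrix.SpecialLinearGroup (Fin 2) F)
    (hc : c ∈ torus g₀) (hns : ¬ IsScalar2 (c : Matrix (Fin 2) (Fin 2) F)) :
    indFun (torus g₀) θ c = θ ⟨c, hc⟩ + θ ⟨c⁻¹, (torus g₀).inv_mem hc⟩ := by
  have h2 : (2 : F) ≠ 0 := Ring.two_ne_zero hF
  obtain ⟨hce, htor⟩ := torus_eq_of_mem hg₀ hc hns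
  have hr := hce.isRegularSL
  have hne : c ≠ c⁻¹ := ne_inv_of_not_scalar h2 hns
  obtain ⟨w, hw⟩ := exists_inverting hF c (hce.trace_sq_ne h2)
  rw [Helper8.indFun_apply]
  have hval : ∀ x : Matrix.SpecialLinearGroup (Fin 2) F,
      extendByZero (torus g₀) θ (x⁻¹ * c * x) =
        (if x⁻¹ * c * x = c then θ ⟨c, hc⟩ else 0) +
          (if x⁻¹ * c * x = c⁻¹ then θ ⟨c⁻¹, (torus g₀).inv_mem hc⟩ else 0) := by
    intro x
    by_cases h1 : x⁻¹ * c * x = c
    · rw [if_pos h1, if_neg (by rw [h1]; exact hne), add_zero]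
      have := Helper8.extendByZero_of_mem (torus g₀) θ c hc
      rw [← this]
      congr 1
    · rw [if_neg h1, zero_add]
      by_cases h3 : x⁻¹ * c * x = c⁻¹
      · rw [if_pos h3]
        have := Helper8.extendByZero_of_mem (torus g₀) θ c⁻¹ ((torus g₀).inv_mem hc)
        rw [← this]
        congr 1
      · rw [if_neg h3]
        apply Helper8.extendByZero_of_not_mem
        intro hmem
        rw [← htor] at hmem
        have htr : ((x⁻¹ * c * x : Matrix.SpecialLinearGroup (Fin 2) F) :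
            Matrix (Fin 2) (Fin 2) F).trace = (c : Matrix (Fin 2) (Fin 2) F).trace := by
          have e1 : IsConj c (x⁻¹ * c * x) := isConj_iff.2 ⟨x⁻¹, by rw [inv_inv]⟩
          exact (trace_eq_of_isConj _ _ e1).symm
        rcases hr.reg _ hmem htr with h | h
        · exact h1 h
        · exact h3 h
  rw [Finset.sum_congr rfl (fun x _ => hval x), Finset.sum_add_distrib]
  simp only [Finset.sum_ite, Finset.sum_const, Finset.sum_const_zero, add_zero, nsmul_eq_mul,
    smul_zero]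
  have hS1 : (Finset.univ.filter (fun x : Matrix.SpecialLinearGroup (Fin 2) F =>
      x⁻¹ * c * x = c)).card = Nat.card (torus g₀) := by
    rw [← htor, Nat.card_eq_fintype_card, Fintype.card_subtype]
    congr 1
    ext x
    simp only [Finset.mem_filter, Finset.mem_univ, true_and]
    rw [mem_torus_iff, mul_assoc, inv_mul_eq_iff_eq_mul]
  have hS2 : (Finset.univ.filter (fun x : Matrix.SpecialLinearGroup (Fin 2) F =>
      x⁻¹ * c * x = c⁻¹)).card = (Finset.univ.filter
        (fun x : Matrix.SpecialLinearGroup (Fin 2) F => x⁻¹ * c * x = c)).card := by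
    have hw' : w⁻¹ * c * w = c⁻¹ := by
      have : c = w⁻¹ * c⁻¹ * w := by rw [← hw]; group
      calc w⁻¹ * c * w = (w⁻¹ * c⁻¹ * w)⁻¹ := by group
        _ = c⁻¹ := by rw [← this]
    have : Finset.univ.filter (fun x : Matrix.SpecialLinearGroup (Fin 2) F =>
        x⁻¹ * c * x = c⁻¹) = (Finset.univ.filter
        (fun x : Matrix.SpecialLinearGroup (Fin 2) F => x⁻¹ * c * x = c)).map
          (Equiv.mulLeft w⁻¹).toEmbedding := by
      ext y
      simp only [Finset.mem_filter, Finset.mem_univ, true_and, Finset.mem_map,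
        Equiv.coe_toEmbedding, Equiv.coe_mulLeft]
      constructor
      · intro hy
        refine ⟨w * y, ?_, by group⟩
        calc (w * y)⁻¹ * c * (w * y) = y⁻¹ * (w⁻¹ * c * w) * y := by group
          _ = y⁻¹ * c⁻¹ * y := by rw [hw']
          _ = (y⁻¹ * c * y)⁻¹ := by group
          _ = c := by rw [hy, inv_inv]
      · rintro ⟨x, hx, rfl⟩
        calc (w⁻¹ * x)⁻¹ * c * (w⁻¹ * x) = x⁻¹ * (w * c * w⁻¹) * x := by group
          _ = x⁻¹ * c⁻¹ * x := by rw [hw]
          _ = (x⁻¹ * c * x)⁻¹ := by group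
          _ = c⁻¹ := by rw [hx]
    rw [this, Finset.card_map]
  rw [hS2, hS1]
  have hH : (Nat.card (torus g₀) : ℂ) ≠ 0 := by
    have : 0 < Nat.card (torus g₀) := Nat.card_pos
    exact_mod_cast this.ne'
  field_simp

/-- an induced function from the torus vanishes at the non-scalar elements with an eigenvector -/
theorem indFun_torus_eq_zero {g₀ : Matrix.SpecialLinearGroup (Fin 2) F}
    (hg₀ : IsElliptic g₀) (θ : torus g₀ → ℂ) (g : Matrix.SpecialLinearGroup (Fin 2) F)
    (hns : ¬ IsScalar2 (g : Matrix (Fin 2) (Fin 2) F)) (hne : ¬ IsElliptic g) :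
    indFun (torus g₀) θ g = 0 := by
  apply indFun_eq_zero_of_not_conj
  intro x hx
  have hconj : IsConj g (x⁻¹ * g * x) := isConj_iff.2 ⟨x⁻¹, by rw [inv_inv]⟩
  have hns' : ¬ IsScalar2 ((x⁻¹ * g * x : Matrix.SpecialLinearGroup (Fin 2) F) :
      Matrix (Fin 2) (Fin 2) F) := fun h => hns ((isScalar2_iff_of_isConj _ _ hconj).2 h)
  have hell := (torus_eq_of_mem hg₀ hx hns').1
  exact hne (isElliptic_of_isConj hell hconj.symm)

/-! ### the generalized character `St · π_α - π_α` -/

/-- the generalized character `St · π_α - π_α`; it is supported on the elements of trace `±2` -/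
noncomputable def cuspPhi (α : MulChar F ℂ) : Matrix.SpecialLinearGroup (Fin 2) F → ℂ :=
  stSL * psSL α - psSL α

theorem cuspPhi_eq (α : MulChar F ℂ) (g : Matrix.SpecialLinearGroup (Fin 2) F) :
    cuspPhi α g = (psSL (1 : MulChar F ℂ) g - 2) * psSL α g := by
  have h := congrFun (psSL_one_eq (F := F)) g
  rw [Pi.add_apply] at h
  unfold cuspPhi
  rw [Pi.sub_apply, Pi.mul_apply, h]
  ring

theorem isGenChar_cuspPhi (α : MulChar F ℂ) :
    IsGeneralizedCharacter (Matrix.SpecialLinearGroup (Fin 2) F) (cuspPhi α) :=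
  Cfsg.Agent.Helper18.isGenChar_sub
    (Cfsg.Agent.Helper18.isGenChar_of_isCharacter
      (isCharacter_mul (isCharacter_of_isIrrCharacter isIrrCharacter_stSL) (isCharacter_psSL α)))
    (Cfsg.Agent.Helper18.isGenChar_of_isCharacter (isCharacter_psSL α))

theorem cuspPhi_scalar (α : MulChar F ℂ) (z : Matrix.SpecialLinearGroup (Fin 2) F)
    (hs : IsScalar2 (z : Matrix (Fin 2) (Fin 2) F)) :
    cuspPhi α z = ((Fintype.card F : ℂ) ^ 2 - 1) * α ((z : Matrix (Fin 2) (Fin 2) F) 0 0) := by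
  rw [cuspPhi_eq, fix_scalar z hs, psSL_apply_scalar α z hs]
  ring

theorem cuspPhi_typeA (hF : ringChar F ≠ 2) (α : MulChar F ℂ)
    (g : Matrix.SpecialLinearGroup (Fin 2) F) (hA : IsTypeA g) :
    ∃ e : F, e * e = 1 ∧ cuspPhi α g = - α e := by
  obtain ⟨e, he, h⟩ := psSL_typeA hF α g hA
  refine ⟨e, he, ?_⟩
  rw [cuspPhi_eq, fix_typeA hF g hA, h]
  ring

theorem cuspPhi_regular (hF : ringChar F ≠ 2) (α : MulChar F ℂ)
    (g : Matrix.SpecialLinearGroup (Fin 2) F)
    (ht : (g : Matrix (Fin 2) (Fin 2) F).trace ^ 2 ≠ 4) : cuspPhi α g = 0 := by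
  rw [cuspPhi_eq]
  by_cases hev : ∃ (c : F) (v : Fin 2 → F), v ≠ 0 ∧
      (g : Matrix (Fin 2) (Fin 2) F).mulVec v = c • v
  · obtain ⟨a, ha, hc⟩ := exists_conj_diagSL hF g ht hev
    have h1 : psSL (1 : MulChar F ℂ) g = 2 := by
      rw [← apply_eq_of_isConj (isClassFunction_of_isCharacter (isCharacter_psSL 1)) hc,
        psSL_apply_split 1 (diagSL a) (by simp [diagSL_coe]) (by simp [diagSL_coe])
          (by simpa [diagSL_coe] using ha)]
      simp only [diagSL_coe, Matrix.of_apply, Matrix.cons_val', Matrix.cons_val_zero,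
        Matrix.cons_val_fin_one, Matrix.cons_val_one]
      rw [MulChar.one_apply a.isUnit, MulChar.one_apply (a⁻¹).isUnit]
      norm_num
    rw [h1, sub_self, zero_mul]
  · have : psSL α g = 0 := by
      apply psSL_apply_elliptic
      intro c v hv hcv
      exact hev ⟨c, v, hv, hcv⟩
    rw [this, mul_zero]

omit [Fintype F] [DecidableEq F] in
theorem mulChar_sq_one (α : MulChar F ℂ) (e : F) (he : e * e = 1) : α e = 1 ∨ α e = -1 := by
  have h1 : α e * α e = 1 := by rw [← map_mul, he, map_one]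
  have : (α e - 1) * (α e + 1) = 0 := by linear_combination h1
  rcases mul_eq_zero.1 this with h | h
  · left; exact sub_eq_zero.1 h
  · right; exact eq_neg_of_add_eq_zero_left h

omit [Fintype F] [DecidableEq F] in
theorem mulChar_mul_conj_one (α : MulChar F ℂ) (e : F) (he : e * e = 1) :
    α e * conj (α e) = 1 := by
  rcases mulChar_sq_one α e he with h | h <;> rw [h] <;> simp

omit [DecidableEq F] in
theorem card_SL2_cast : (Nat.card (Matrix.SpecialLinearGroup (Fin 2) F) : ℂ) =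
    (Fintype.card F : ℂ) * ((Fintype.card F : ℂ) ^ 2 - 1) := by
  rw [card_SL2]
  have hq : 1 ≤ Fintype.card F ^ 2 := Nat.one_le_pow _ _ Fintype.card_pos
  push_cast [Nat.cast_sub hq]
  ring

omit [DecidableEq F] in
theorem card_sq_sub_one_ne_zero : (Fintype.card F : ℂ) ^ 2 - 1 ≠ 0 := by
  have h1 : 2 ≤ Fintype.card F := Fintype.one_lt_card
  have h2 : (2 : ℝ) ≤ (Fintype.card F : ℝ) := by exact_mod_cast h1
  intro h
  have h3 : ((Fintype.card F : ℝ) ^ 2 - 1 : ℝ) = 0 := by exact_mod_cast h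
  nlinarith

open Classical in
/-- the norm of `cuspPhi α` is `2 q` -/
theorem classInner_cuspPhi_self (hF : ringChar F ≠ 2) (α : MulChar F ℂ) :
    classInner (cuspPhi α) (cuspPhi α) = 2 * (Fintype.card F : ℂ) := by
  unfold classInner
  have hval : ∀ g : Matrix.SpecialLinearGroup (Fin 2) F,
      cuspPhi α g * conj (cuspPhi α g) =
        (if IsScalar2 (g : Matrix (Fin 2) (Fin 2) F) then ((Fintype.card F : ℂ) ^ 2 - 1) ^ 2
          else 0) + (if IsTypeA g then 1 else 0) := by
    intro g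
    by_cases hs : IsScalar2 (g : Matrix (Fin 2) (Fin 2) F)
    · rw [if_pos hs, if_neg (fun h : IsTypeA g => h.1 hs), add_zero, cuspPhi_scalar α g hs,
        map_mul, map_sub, map_pow, Complex.conj_natCast, map_one]
      have := mulChar_mul_conj_one α _ (scalar_SL2_sq g hs)
      linear_combination ((Fintype.card F : ℂ) ^ 2 - 1) ^ 2 * this
    · rw [if_neg hs, zero_add]
      by_cases ht : (g : Matrix (Fin 2) (Fin 2) F).trace ^ 2 = 4
      · have hA : IsTypeA g := ⟨hs, ht⟩
        rw [if_pos hA]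
        obtain ⟨e, he, h⟩ := cuspPhi_typeA hF α g hA
        rw [h, map_neg, neg_mul_neg]
        exact mulChar_mul_conj_one α e he
      · rw [if_neg (fun h : IsTypeA g => ht h.2), cuspPhi_regular hF α g ht, zero_mul]
  rw [Finset.sum_congr rfl (fun g _ => hval g), Finset.sum_add_distrib]
  simp only [Finset.sum_ite, Finset.sum_const, Finset.sum_const_zero, add_zero, nsmul_eq_mul,
    mul_one]
  rw [card_scalar_SL2 hF, card_typeA hF, card_SL2_cast]
  have h1 := card_cast_ne_zero (F := F)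
  have h2 := card_sq_sub_one_ne_zero (F := F)
  push_cast
  field_simp
  ring

/-! ### sums over the torus -/

omit [Fintype F] [DecidableEq F] in
theorem isScalar2_iff_eq (g : Matrix.SpecialLinearGroup (Fin 2) F) :
    IsScalar2 (g : Matrix (Fin 2) (Fin 2) F) ↔ g = 1 ∨ g = negOneSL := by
  constructor
  · intro hs
    rcases scalar_SL2_entry g hs with h | h
    · left
      apply SL2_eq_of_isScalar2 g 1 hs
      · rw [Matrix.SpecialLinearGroup.coe_one]
        refine ⟨?_, ?_, ?_⟩ <;> simp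
      · rw [h, Matrix.SpecialLinearGroup.coe_one, Matrix.one_apply_eq]
    · right
      apply SL2_eq_of_isScalar2 g negOneSL hs
      · rw [negOneSL_coe]
        refine ⟨?_, ?_, ?_⟩ <;> simp
      · rw [h, negOneSL_coe]
        simp
  · rintro (rfl | rfl)
    · rw [Matrix.SpecialLinearGroup.coe_one]
      refine ⟨?_, ?_, ?_⟩ <;> simp
    · rw [negOneSL_coe]
      refine ⟨?_, ?_, ?_⟩ <;> simp

omit [Fintype F] [DecidableEq F] in
theorem isScalar2_mem_torus (g₀ g : Matrix.SpecialLinearGroup (Fin 2) F)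
    (hs : IsScalar2 (g : Matrix (Fin 2) (Fin 2) F)) : g ∈ torus g₀ := by
  rw [mem_torus_iff]
  exact (Subgroup.mem_center_iff.1 (mem_center_of_isScalar2 g hs) g₀)

open Classical in
theorem sum_torus_scalar (hF : ringChar F ≠ 2) (g₀ : Matrix.SpecialLinearGroup (Fin 2) F)
    (h : Matrix.SpecialLinearGroup (Fin 2) F → ℂ) :
    ∑ c : torus g₀, (if IsScalar2 ((c : Matrix.SpecialLinearGroup (Fin 2) F) :
      Matrix (Fin 2) (Fin 2) F) then h c else 0) = h 1 + h negOneSL := by
  have h2 : (2 : F) ≠ 0 := Ring.two_ne_zero hF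
  rw [← sum_eq_sum_subgroup (torus g₀) (fun g : Matrix.SpecialLinearGroup (Fin 2) F =>
    if IsScalar2 (g : Matrix (Fin 2) (Fin 2) F) then h g else 0)]
  · rw [← Finset.sum_filter]
    have : Finset.univ.filter (fun g : Matrix.SpecialLinearGroup (Fin 2) F =>
        IsScalar2 (g : Matrix (Fin 2) (Fin 2) F)) = {1, negOneSL} := by
      ext g
      simp only [Finset.mem_filter, Finset.mem_univ, true_and, Finset.mem_insert,
        Finset.mem_singleton]
      exact isScalar2_iff_eq g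
    rw [this, Finset.sum_pair (negOneSL_ne_one h2).symm]
  · intro x hx
    rw [if_neg]
    intro hs
    exact hx (isScalar2_mem_torus g₀ x hs)

/-! ### linear characters of the torus -/

section theta

variable {g₀ : Matrix.SpecialLinearGroup (Fin 2) F} (θ : torus g₀ →* ℂˣ)

omit [Fintype F] [DecidableEq F] in
theorem theta_inv (c : torus g₀) : ((θ c⁻¹ : ℂˣ) : ℂ) * ((θ c : ℂˣ) : ℂ) = 1 := by
  rw [← Units.val_mul, ← map_mul, inv_mul_cancel, map_one, Units.val_one]

theorem theta_conj (c : torus g₀) : conj ((θ c : ℂˣ) : ℂ) = ((θ c⁻¹ : ℂˣ) : ℂ) := by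
  have := irr_inv (isCharacter_of_isIrrCharacter (isIrrCharacter_of_monoidHom θ)) c
  exact this.symm

theorem theta_mul_conj (c : torus g₀) : ((θ c : ℂˣ) : ℂ) * conj ((θ c : ℂˣ) : ℂ) = 1 := by
  rw [theta_conj, mul_comm]
  exact theta_inv θ c

omit [Fintype F] [DecidableEq F] in
theorem theta_sq_of_scalar (c : torus g₀)
    (hs : IsScalar2 ((c : Matrix.SpecialLinearGroup (Fin 2) F) : Matrix (Fin 2) (Fin 2) F)) :
    ((θ c : ℂˣ) : ℂ) * ((θ c : ℂˣ) : ℂ) = 1 := by
  have hc : c * c = 1 := by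
    apply Subtype.ext
    rcases (isScalar2_iff_eq c.1).1 hs with h | h
    · change c.1 * c.1 = 1
      rw [h, one_mul]
    · change c.1 * c.1 = 1
      rw [h, negOneSL_mul_self]
  rw [← Units.val_mul, ← map_mul, hc, map_one, Units.val_one]

end theta

omit [DecidableEq F] in
theorem card_torus_cast (hF : ringChar F ≠ 2) {g₀ : Matrix.SpecialLinearGroup (Fin 2) F}
    (hg₀ : IsElliptic g₀) : (Nat.card (torus g₀) : ℂ) = (Fintype.card F : ℂ) + 1 := by
  classical
  rw [card_centralizer_elliptic hF g₀ hg₀]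
  push_cast
  ring

omit [DecidableEq F] in
theorem index_torus_cast (hF : ringChar F ≠ 2) {g₀ : Matrix.SpecialLinearGroup (Fin 2) F}
    (hg₀ : IsElliptic g₀) :
    ((torus g₀).index : ℂ) = (Fintype.card F : ℂ) * ((Fintype.card F : ℂ) - 1) := by
  have h1 := (torus g₀).card_mul_index
  have h2 : ((Nat.card (torus g₀) * (torus g₀).index : ℕ) : ℂ) =
      (Nat.card (Matrix.SpecialLinearGroup (Fin 2) F) : ℂ) := by rw [h1]
  rw [Nat.cast_mul, card_torus_cast hF hg₀, card_SL2_cast] at h2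
  have hq : (Fintype.card F : ℂ) + 1 ≠ 0 := by
    have : (0 : ℝ) < (Fintype.card F : ℝ) + 1 := by positivity
    intro h
    have h3 : ((Fintype.card F : ℝ) + 1 : ℝ) = 0 := by exact_mod_cast h
    linarith
  apply mul_left_cancel₀ hq
  rw [h2]
  ring

/-! ### the inner products -/

open Classical in
theorem classInner_cuspPhi_indFun (hF : ringChar F ≠ 2)
    {g₀ : Matrix.SpecialLinearGroup (Fin 2) F} (hg₀ : IsElliptic g₀) (θ : torus g₀ →* ℂˣ)
    (α : MulChar F ℂ)
    (hα : α (-1) = ((θ ⟨negOneSL, negOneSL_mem_torus g₀⟩ : ℂˣ) : ℂ)) :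
    classInner (cuspPhi α) (indFun (torus g₀) (fun c => ((θ c : ℂˣ) : ℂ))) =
      2 * ((Fintype.card F : ℂ) - 1) := by
  have h2 : (2 : F) ≠ 0 := Ring.two_ne_zero hF
  rw [Helper8.classInner_indFun_right _ _ _
    (Helper8.isClassFunction_of_isGeneralizedCharacter (isGenChar_cuspPhi α))]
  unfold classInner
  set h : Matrix.SpecialLinearGroup (Fin 2) F → ℂ := fun g =>
    ((Fintype.card F : ℂ) ^ 2 - 1) * α ((g : Matrix (Fin 2) (Fin 2) F) 0 0) *
      conj (extendByZero (torus g₀) (fun c => ((θ c : ℂˣ) : ℂ)) g) with hh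
  have hval : ∀ c : torus g₀, cuspPhi α (c : Matrix.SpecialLinearGroup (Fin 2) F) *
      conj ((θ c : ℂˣ) : ℂ) =
      if IsScalar2 ((c : Matrix.SpecialLinearGroup (Fin 2) F) : Matrix (Fin 2) (Fin 2) F)
        then h c else 0 := by
    intro c
    by_cases hs : IsScalar2 ((c : Matrix.SpecialLinearGroup (Fin 2) F) :
        Matrix (Fin 2) (Fin 2) F)
    · rw [if_pos hs, cuspPhi_scalar α _ hs, hh]
      simp only
      rw [Helper8.extendByZero_coe]
    · rw [if_neg hs]
      have hell := (torus_eq_of_mem hg₀ c.2 hs).1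
      rw [cuspPhi_regular hF α _ (hell.trace_sq_ne h2), zero_mul]
  rw [Finset.sum_congr rfl (fun c _ => hval c), sum_torus_scalar hF g₀ h, card_torus_cast hF hg₀]
  have e1 : h 1 = (Fintype.card F : ℂ) ^ 2 - 1 := by
    rw [hh]
    simp only
    have : extendByZero (torus g₀) (fun c => ((θ c : ℂˣ) : ℂ)) 1 = 1 := by
      have := Helper8.extendByZero_coe (torus g₀) (fun c => ((θ c : ℂˣ) : ℂ)) 1
      simpa using this
    rw [this, Matrix.SpecialLinearGroup.coe_one, Matrix.one_apply_eq, map_one, map_one]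
    ring
  have e2 : h negOneSL = (Fintype.card F : ℂ) ^ 2 - 1 := by
    rw [hh]
    simp only
    have h3 := Helper8.extendByZero_coe (torus g₀) (fun c => ((θ c : ℂˣ) : ℂ))
      ⟨negOneSL, negOneSL_mem_torus g₀⟩
    simp only at h3
    rw [h3, negOneSL_coe]
    have : ((-1 : Matrix (Fin 2) (Fin 2) F)) 0 0 = -1 := by simp
    rw [this, hα, mul_assoc, theta_mul_conj, mul_one]
  rw [e1, e2]
  have hq : (Fintype.card F : ℂ) + 1 ≠ 0 := by
    have : (0 : ℝ) < (Fintype.card F : ℝ) + 1 := by positivity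
    intro h
    have h3 : ((Fintype.card F : ℝ) + 1 : ℝ) = 0 := by exact_mod_cast h
    linarith
  field_simp
  ring

open Classical in
theorem classInner_indFun_torus_self (hF : ringChar F ≠ 2)
    {g₀ : Matrix.SpecialLinearGroup (Fin 2) F} (hg₀ : IsElliptic g₀) (θ : torus g₀ →* ℂˣ)
    (hθ : ∃ c : torus g₀, θ c ^ 2 ≠ 1) :
    classInner (indFun (torus g₀) (fun c => ((θ c : ℂˣ) : ℂ)))
      (indFun (torus g₀) (fun c => ((θ c : ℂˣ) : ℂ))) = 2 * (Fintype.card F : ℂ) - 3 := by
  have h2 : (2 : F) ≠ 0 := Ring.two_ne_zero hF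
  rw [Helper8.classInner_indFun_left _ _ _ (Helper8.indFun_isClassFunction _ _)]
  unfold classInner
  set k : ℂ := (Fintype.card F : ℂ) * ((Fintype.card F : ℂ) - 1) - 2 with hk
  have hval : ∀ c : torus g₀, ((θ c : ℂˣ) : ℂ) *
      conj (indFun (torus g₀) (fun c => ((θ c : ℂˣ) : ℂ))
        (c : Matrix.SpecialLinearGroup (Fin 2) F)) =
      (1 + ((θ c : ℂˣ) : ℂ) ^ 2) +
      (if IsScalar2 ((c : Matrix.SpecialLinearGroup (Fin 2) F) : Matrix (Fin 2) (Fin 2) F)
        then (fun _ => k) (c : Matrix.SpecialLinearGroup (Fin 2) F) else 0) := by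
    intro c
    by_cases hs : IsScalar2 ((c : Matrix.SpecialLinearGroup (Fin 2) F) :
        Matrix (Fin 2) (Fin 2) F)
    · rw [if_pos hs, indFun_central (torus g₀) _ c.1
        (fun y => (Subgroup.mem_center_iff.1 (mem_center_of_isScalar2 c.1 hs) y)) c.2,
        index_torus_cast hF hg₀]
      simp only [Subtype.coe_eta]
      rw [map_mul, map_mul, map_sub, Complex.conj_natCast, map_one]
      have e1 := theta_mul_conj θ c
      have e2 := theta_sq_of_scalar θ c hs
      rw [hk]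
      linear_combination ((Fintype.card F : ℂ) * ((Fintype.card F : ℂ) - 1)) * e1 - e2
    · rw [if_neg hs, add_zero, indFun_torus_apply hF hg₀ _ c.1 c.2 hs]
      simp only [Subtype.coe_eta]
      have e0 : (⟨(c.1)⁻¹, (torus g₀).inv_mem c.2⟩ : torus g₀) = c⁻¹ := rfl
      rw [e0, map_add, theta_conj, theta_conj, inv_inv]
      have e1 := theta_inv θ c
      linear_combination e1
  rw [Finset.sum_congr rfl (fun c _ => hval c), Finset.sum_add_distrib,
    sum_torus_scalar hF g₀ (fun _ => k), Finset.sum_add_distrib, Finset.sum_const,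
    Finset.card_univ, ← Nat.card_eq_fintype_card, nsmul_eq_mul, mul_one, card_torus_cast hF hg₀]
  have hsum : ∑ c : torus g₀, ((θ c : ℂˣ) : ℂ) ^ 2 = 0 := by
    have := sum_hom_units_eq_zero ((Units.coeHom ℂ).comp (θ ^ 2)) (by
      obtain ⟨c, hc⟩ := hθ
      intro h
      apply hc
      have h1 := DFunLike.congr_fun h c
      simp only [MonoidHom.coe_comp, Function.comp_apply, MonoidHom.pow_apply,
        Units.coeHom_apply, MonoidHom.one_apply] at h1
      exact Units.ext h1)
    rw [← this]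
    apply Finset.sum_congr rfl
    intro c _
    simp only [MonoidHom.coe_comp, Function.comp_apply, MonoidHom.pow_apply, Units.coeHom_apply,
      Units.val_pow_eq_pow_val]
  rw [hsum, hk]
  have hq : (Fintype.card F : ℂ) + 1 ≠ 0 := by
    have : (0 : ℝ) < (Fintype.card F : ℝ) + 1 := by positivity
    intro h
    have h3 : ((Fintype.card F : ℝ) + 1 : ℝ) = 0 := by exact_mod_cast h
    linarith
  field_simp
  ring

/-! ### the cuspidal characters -/

omit [Fintype F] [DecidableEq F] in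
theorem isScalar2_of_mem_center (g : Matrix.SpecialLinearGroup (Fin 2) F)
    (h : g ∈ Subgroup.center (Matrix.SpecialLinearGroup (Fin 2) F)) :
    IsScalar2 (g : Matrix (Fin 2) (Fin 2) F) := by
  obtain ⟨r, -, hr⟩ := Matrix.SpecialLinearGroup.mem_center_iff.1 h
  rw [← hr]
  refine ⟨?_, ?_, ?_⟩ <;> simp

omit [DecidableEq F] in
theorem exists_mulChar_neg_one (h2 : (2 : F) ≠ 0) (s : ℂ) (hs : s = 1 ∨ s = -1) :
    ∃ α : MulChar F ℂ, α (-1) = s := by
  rcases hs with rfl | rfl
  · exact ⟨1, MulChar.one_apply (isUnit_one.neg)⟩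
  · have ha : (-1 : F) ≠ 1 := by
      intro h
      apply h2
      linear_combination -h
    obtain ⟨χ, hχ⟩ := MulChar.exists_apply_ne_one_of_hasEnoughRootsOfUnity F ℂ ha
    refine ⟨χ, ?_⟩
    rcases mulChar_sq_one χ (-1) (by ring) with h | h
    · exact absurd h hχ
    · exact h

/-- the candidate cuspidal character -/
noncomputable def cuspChar (g₀ : Matrix.SpecialLinearGroup (Fin 2) F) (θ : torus g₀ →* ℂˣ)
    (α : MulChar F ℂ) : Matrix.SpecialLinearGroup (Fin 2) F → ℂ :=
  cuspPhi α - indFun (torus g₀) (fun c => ((θ c : ℂˣ) : ℂ))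

theorem cuspChar_apply (g₀ : Matrix.SpecialLinearGroup (Fin 2) F) (θ : torus g₀ →* ℂˣ)
    (α : MulChar F ℂ) (g : Matrix.SpecialLinearGroup (Fin 2) F) :
    cuspChar g₀ θ α g = cuspPhi α g - indFun (torus g₀) (fun c => ((θ c : ℂˣ) : ℂ)) g := rfl

theorem isGenChar_cuspChar (g₀ : Matrix.SpecialLinearGroup (Fin 2) F) (θ : torus g₀ →* ℂˣ)
    (α : MulChar F ℂ) :
    IsGeneralizedCharacter (Matrix.SpecialLinearGroup (Fin 2) F) (cuspChar g₀ θ α) :=
  Cfsg.Agent.Helper18.isGenChar_sub (isGenChar_cuspPhi α)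
    (Cfsg.Agent.Helper18.isGenChar_indFun _
      (Cfsg.Agent.Helper18.isGenChar_of_isCharacter
        (isCharacter_of_isIrrCharacter (isIrrCharacter_of_monoidHom θ))))

section values

variable (hF : ringChar F ≠ 2) {g₀ : Matrix.SpecialLinearGroup (Fin 2) F} (hg₀ : IsElliptic g₀)
  (θ : torus g₀ →* ℂˣ) (α : MulChar F ℂ)

include hF hg₀

theorem cuspChar_apply_torus (c : torus g₀)
    (hns : ¬ IsScalar2 ((c : Matrix.SpecialLinearGroup (Fin 2) F) : Matrix (Fin 2) (Fin 2) F)) :
    cuspChar g₀ θ α c = -(((θ c : ℂˣ) : ℂ) + (((θ c)⁻¹ : ℂˣ) : ℂ)) := by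
  have h2 : (2 : F) ≠ 0 := Ring.two_ne_zero hF
  have hell := (torus_eq_of_mem hg₀ c.2 hns).1
  rw [cuspChar_apply, cuspPhi_regular hF α _ (hell.trace_sq_ne h2),
    indFun_torus_apply hF hg₀ _ c.1 c.2 hns]
  simp only [Subtype.coe_eta]
  have e0 : (⟨(c.1)⁻¹, (torus g₀).inv_mem c.2⟩ : torus g₀) = c⁻¹ := rfl
  rw [e0, map_inv]
  ring

theorem cuspChar_scalar (c : torus g₀)
    (hs : IsScalar2 ((c : Matrix.SpecialLinearGroup (Fin 2) F) : Matrix (Fin 2) (Fin 2) F))
    (hα : α (((c : Matrix.SpecialLinearGroup (Fin 2) F) : Matrix (Fin 2) (Fin 2) F) 0 0) =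
      ((θ c : ℂˣ) : ℂ)) :
    cuspChar g₀ θ α c = ((Fintype.card F : ℂ) - 1) * ((θ c : ℂˣ) : ℂ) := by
  rw [cuspChar_apply, cuspPhi_scalar α _ hs, indFun_central (torus g₀) _ c.1
    (fun y => (Subgroup.mem_center_iff.1 (mem_center_of_isScalar2 c.1 hs) y)) c.2,
    index_torus_cast hF hg₀, hα]
  simp only [Subtype.coe_eta]
  ring

theorem cuspChar_one : cuspChar g₀ θ α 1 = (Fintype.card F : ℂ) - 1 := by
  have h := cuspChar_scalar hF hg₀ θ α 1 (by
    rw [OneMemClass.coe_one, Matrix.SpecialLinearGroup.coe_one]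
    refine ⟨?_, ?_, ?_⟩ <;> simp) (by
    rw [OneMemClass.coe_one, Matrix.SpecialLinearGroup.coe_one, Matrix.one_apply_eq, map_one,
      map_one, Units.val_one])
  rw [OneMemClass.coe_one, map_one, Units.val_one, mul_one] at h
  exact h

theorem cuspChar_split (g : Matrix.SpecialLinearGroup (Fin 2) F)
    (ht : (g : Matrix (Fin 2) (Fin 2) F).trace ^ 2 ≠ 4) (hne : ¬ IsElliptic g) :
    cuspChar g₀ θ α g = 0 := by
  have hns : ¬ IsScalar2 (g : Matrix (Fin 2) (Fin 2) F) := fun h => ht (trace_sq_of_scalar g h)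
  rw [cuspChar_apply, cuspPhi_regular hF α g ht, indFun_torus_eq_zero hg₀ _ g hns hne, sub_zero]

theorem cuspChar_unipotent (g : Matrix.SpecialLinearGroup (Fin 2) F)
    (h10 : (g : Matrix (Fin 2) (Fin 2) F) 1 0 = 0) (h00 : (g : Matrix (Fin 2) (Fin 2) F) 0 0 = 1)
    (h11 : (g : Matrix (Fin 2) (Fin 2) F) 1 1 = 1) (h01 : (g : Matrix (Fin 2) (Fin 2) F) 0 1 ≠ 0) :
    cuspChar g₀ θ α g = -1 := by
  have hns : ¬ IsScalar2 (g : Matrix (Fin 2) (Fin 2) F) := fun h => h01 h.1
  have hne : ¬ IsElliptic g := by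
    intro h
    apply h 1 ![1, 0]
    · intro h0
      have := congrFun h0 0
      simp at this
    · ext i
      fin_cases i
      · simp [Matrix.mulVec, dotProduct, Fin.sum_univ_two, h00]
      · simp [Matrix.mulVec, dotProduct, Fin.sum_univ_two, h10]
  rw [cuspChar_apply, indFun_torus_eq_zero hg₀ _ g hns hne, sub_zero, cuspPhi_eq,
    psSL_apply_upper 1 g h10 (by rw [h00, h11]) h01,
    psSL_apply_upper α g h10 (by rw [h00, h11]) h01, h00, map_one, map_one]
  ring

theorem classInner_cuspChar_self (hθ : ∃ c : torus g₀, θ c ^ 2 ≠ 1)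
    (hα : α (-1) = ((θ ⟨negOneSL, negOneSL_mem_torus g₀⟩ : ℂˣ) : ℂ)) :
    classInner (cuspChar g₀ θ α) (cuspChar g₀ θ α) = 1 := by
  unfold cuspChar
  rw [Helper8.classInner_sub_left, Helper8.classInner_sub_right, Helper8.classInner_sub_right,
    classInner_cuspPhi_self hF α, classInner_indFun_torus_self hF hg₀ θ hθ,
    classInner_cuspPhi_indFun hF hg₀ θ α hα,
    ← classInner_conj_symm (cuspPhi α) (indFun (torus g₀) (fun c => ((θ c : ℂˣ) : ℂ))),
    classInner_cuspPhi_indFun hF hg₀ θ α hα]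
  simp only [map_mul, map_sub, map_one, Complex.conj_natCast, map_ofNat]
  ring

theorem isIrrCharacter_cuspChar (hθ : ∃ c : torus g₀, θ c ^ 2 ≠ 1)
    (hα : α (-1) = ((θ ⟨negOneSL, negOneSL_mem_torus g₀⟩ : ℂˣ) : ℂ)) :
    IsIrrCharacter (Matrix.SpecialLinearGroup (Fin 2) F) (cuspChar g₀ θ α) := by
  rcases Helper8.genChar_norm_one (isGenChar_cuspChar g₀ θ α)
    (classInner_cuspChar_self hF hg₀ θ α hθ hα) with h | h
  · exact h
  · exfalso
    obtain ⟨n, hn, h1⟩ := irr_one_eq h
    rw [Pi.neg_apply, cuspChar_one hF hg₀ θ α] at h1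
    have hq : 2 ≤ Fintype.card F := Fintype.one_lt_card
    have h3 : (1 : ℝ) - (Fintype.card F : ℝ) = (n : ℝ) := by
      have : ((1 - (Fintype.card F : ℝ) : ℝ) : ℂ) = ((n : ℝ) : ℂ) := by
        push_cast
        rw [← h1]; ring
      exact_mod_cast this
    have h4 : (2 : ℝ) ≤ (Fintype.card F : ℝ) := by exact_mod_cast hq
    have h5 : (0 : ℝ) < (n : ℝ) := by exact_mod_cast hn
    linarith

end values

end Cfsg.Agent.Helper12
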