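import Mathlib
import Cfsg.Agent.Lib.Helper12.SL2Sylow
import Cfsg.Agent.Lib.Helper12.SL2Cusp

set_option autoImplicit false

namespace Cfsg.Agent.Helper12

open Cfsg

variable {F : Type*} [Field F]

/-! ### elements of square `-1` -/

theorem negOneSL_comm (g : Matrix.SpecialLinearGroup (Fin 2) F) :
    negOneSL * g = g * negOneSL := by
  have := negOneSL_mem_torus g
  rw [mem_torus_iff] at this
  exact this.symm

theorem negOneSL_mem_center :
    (negOneSL : Matrix.SpecialLinearGroup (Fin 2) F) ∈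
      Subgroup.center (Matrix.SpecialLinearGroup (Fin 2) F) := by
  rw [Subgroup.mem_center_iff]
  intro g
  exact (negOneSL_comm g).symm

theorem negOneSL_inv : (negOneSL : Matrix.SpecialLinearGroup (Fin 2) F)⁻¹ = negOneSL :=
  inv_eq_of_mul_eq_one_left negOneSL_mul_self

theorem conj_negOneSL (g : Matrix.SpecialLinearGroup (Fin 2) F) :
    g * negOneSL * g⁻¹ = negOneSL := by
  rw [← negOneSL_comm, mul_inv_cancel_right]

theorem not_scalar_of_sq (h2 : (2 : F) ≠ 0) {c : Matrix.SpecialLinearGroup (Fin 2) F}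
    (hc : c * c = negOneSL) : ¬ IsScalar2 (c : Matrix (Fin 2) (Fin 2) F) := by
  intro hs
  rcases (isScalar2_iff_eq c).1 hs with h | h
  · rw [h, one_mul] at hc
    exact negOneSL_ne_one h2 hc.symm
  · rw [h, negOneSL_mul_self] at hc
    exact negOneSL_ne_one h2 hc.symm

theorem trace_eq_zero_of_sq (h2 : (2 : F) ≠ 0) {c : Matrix.SpecialLinearGroup (Fin 2) F}
    (hc : c * c = negOneSL) : (c : Matrix (Fin 2) (Fin 2) F).trace = 0 := by
  have h1 := sq_SL2 c
  have h3 : ((c * c : Matrix.SpecialLinearGroup (Fin 2) F) : Matrix (Fin 2) (Fin 2) F) = -1 := by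
    rw [hc, negOneSL_coe]
  rw [Matrix.SpecialLinearGroup.coe_mul, h1] at h3
  have h4 : (c : Matrix (Fin 2) (Fin 2) F).trace • (c : Matrix (Fin 2) (Fin 2) F) = 0 := by
    have : (c : Matrix (Fin 2) (Fin 2) F).trace • (c : Matrix (Fin 2) (Fin 2) F) =
        ((c : Matrix (Fin 2) (Fin 2) F).trace • (c : Matrix (Fin 2) (Fin 2) F) - 1) + 1 := by
      abel
    rw [this, h3]
    abel
  by_contra ht
  have h5 : (c : Matrix (Fin 2) (Fin 2) F) = 0 := by
    rcases smul_eq_zero.1 h4 with h | h
    · exact absurd h ht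
    · exact h
  have h6 := c.2
  rw [h5, Matrix.det_zero] at h6
  exact zero_ne_one h6

theorem trace_sq_ne_of_sq (h2 : (2 : F) ≠ 0) {c : Matrix.SpecialLinearGroup (Fin 2) F}
    (hc : c * c = negOneSL) : (c : Matrix (Fin 2) (Fin 2) F).trace ^ 2 ≠ 4 := by
  rw [trace_eq_zero_of_sq h2 hc]
  intro h
  apply h2
  have h4 : (2 : F) * 2 = 0 := by linear_combination -h
  rcases mul_eq_zero.1 h4 with h | h <;> exact h

theorem inv_eq_neg_of_sq {c : Matrix.SpecialLinearGroup (Fin 2) F}
    (hc : c * c = negOneSL) : c⁻¹ = negOneSL * c := by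
  rw [inv_eq_iff_mul_eq_one, negOneSL_comm, ← mul_assoc, hc, negOneSL_mul_self]

theorem orderOf_of_sq (h2 : (2 : F) ≠ 0) {c : Matrix.SpecialLinearGroup (Fin 2) F}
    (hc : c * c = negOneSL) : orderOf c = 4 := by
  have h4 : c ^ 4 = 1 := by
    have : c ^ 4 = (c * c) * (c * c) := by
      rw [← pow_two, ← pow_two, ← pow_mul]
    rw [this, hc, negOneSL_mul_self]
  have h2' : c ^ 2 ≠ 1 := by
    rw [pow_two, hc]
    exact negOneSL_ne_one h2
  have : (4 : ℕ) = 2 ^ 2 := by norm_num
  rw [this]
  apply orderOf_eq_prime_pow (p := 2) (n := 1)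
  · simpa using h2'
  · simpa using h4

/-- the standard element of square `-1` -/
def quatI : Matrix.SpecialLinearGroup (Fin 2) F := ⟨companion2 0 1, det_companion2 0 1⟩

theorem quatI_mul_self : (quatI : Matrix.SpecialLinearGroup (Fin 2) F) * quatI = negOneSL := by
  apply Subtype.ext
  rw [Matrix.SpecialLinearGroup.coe_mul, negOneSL_coe]
  change companion2 0 1 * companion2 0 1 = -1
  ext i j
  fin_cases i <;> fin_cases j <;> simp [companion2, Matrix.mul_apply, Fin.sum_univ_two]

section finite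

variable [Fintype F] [DecidableEq F]

/-- a regular semisimple element lies in a cyclic torus of order `q - 1` or `q + 1` -/
theorem regular_of_trace_sq_ne (hF : ringChar F ≠ 2) (c : Matrix.SpecialLinearGroup (Fin 2) F)
    (htr : (c : Matrix (Fin 2) (Fin 2) F).trace ^ 2 ≠ 4) :
    IsRegularSL c ∧ IsCyclic (torus c) ∧
      (Nat.card (torus c) = Fintype.card F - 1 ∨ Nat.card (torus c) = Fintype.card F + 1) := by
  by_cases hell : IsElliptic c
  · exact ⟨hell.isRegularSL, isCyclic_torus hell, Or.inr (card_centralizer_elliptic hF c hell)⟩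
  · have hev : ∃ (l : F) (v : Fin 2 → F), v ≠ 0 ∧
        (c : Matrix (Fin 2) (Fin 2) F).mulVec v = l • v := by
      by_contra hcon
      apply hell
      intro l v hv hlv
      exact hcon ⟨l, v, hv, hlv⟩
    obtain ⟨a, ha, hconj⟩ := exists_conj_diagSL hF c htr hev
    obtain ⟨y, hy⟩ := isConj_iff.1 hconj
    have hd : IsSplitReg (diagSL a) := by
      refine ⟨?_, ?_, ?_⟩
      · rw [diagSL_coe]; simp
      · rw [diagSL_coe]; simp
      · rw [diagSL_coe]; simpa using ha
    have hce : c = y⁻¹ * diagSL a * y⁻¹⁻¹ := by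
      rw [← hy]; group
    refine ⟨?_, ?_, Or.inl ?_⟩
    · rw [hce]
      exact hd.isRegularSL.conj y⁻¹
    · rw [hce]
      exact isCyclic_torus_conj _ _ hd.isCyclic_torus
    · rw [hce, card_torus_conj, hd.card_torus]

omit [Fintype F] [DecidableEq F] in
theorem four_dvd_card_torus [Finite F] (h2 : (2 : F) ≠ 0) {c : Matrix.SpecialLinearGroup (Fin 2) F}
    (hc : c * c = negOneSL) : 4 ∣ Nat.card (torus c) := by
  have h1 : orderOf (⟨c, self_mem_torus c⟩ : torus c) = 4 := by
    rw [← orderOf_of_sq h2 hc]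
    exact (Subgroup.orderOf_mk c (self_mem_torus c))
  rw [← h1]
  exact orderOf_dvd_natCard _

end finite

/-! ### generalities -/

/-- the relations satisfied by the Hurwitz unit -/
theorem hurwitz_rel {R : Type*} [Ring R] (c w : R) (hcc : c * c = -1) (hww : w * w = -1)
    (hwc : w * c = -(c * w)) :
    (1 + c) * (1 + w) * c = w * ((1 + c) * (1 + w)) ∧
    (1 + c) * (1 + w) * w = (c * w) * ((1 + c) * (1 + w)) := by
  have hcc' : ∀ x : R, c * (c * x) = -x := fun x => by rw [← mul_assoc, hcc, neg_mul, one_mul]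
  have hww' : ∀ x : R, w * (w * x) = -x := fun x => by rw [← mul_assoc, hww, neg_mul, one_mul]
  have hwc' : ∀ x : R, w * (c * x) = -(c * (w * x)) := fun x => by
    rw [← mul_assoc, hwc, neg_mul, mul_assoc]
  constructor
  · simp only [mul_add, add_mul, mul_one, one_mul, mul_assoc, hwc, hcc, hww, hcc', hwc',
      mul_neg, neg_mul, neg_neg]
    abel
  · simp only [mul_add, add_mul, mul_one, one_mul, mul_assoc, hwc, hcc, hww, hcc', hww', hwc',
      mul_neg, neg_neg]
    abel

theorem card_subgroup_eq_card_filter {G : Type*} [Group G] [Fintype G] (H : Subgroup G)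
    [DecidablePred (· ∈ H)] : Nat.card H = (Finset.univ.filter (· ∈ H)).card := by
  rw [Nat.card_eq_fintype_card]
  exact Fintype.card_subtype _

/-- in a finite cyclic group the elements killed by the order of a subgroup lie in it -/
theorem mem_of_pow_card_eq_one {T : Type*} [Group T] [Finite T] [IsCyclic T] (K : Subgroup T)
    (x : T) (hx : x ^ Nat.card K = 1) : x ∈ K := by
  classical
  letI := Fintype.ofFinite T
  have hpos : 0 < Nat.card K := Nat.card_pos
  have h1 := IsCyclic.card_pow_eq_one_le (α := T) hpos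
  have hsub : (K : Set T).toFinset ⊆ Finset.univ.filter (fun a : T => a ^ Nat.card K = 1) := by
    intro k hk
    rw [Set.mem_toFinset] at hk
    rw [Finset.mem_filter]
    refine ⟨Finset.mem_univ _, ?_⟩
    have h3 : (⟨k, hk⟩ : K) ^ Nat.card K = 1 := pow_card_eq_one'
    have h4 := congrArg Subtype.val h3
    rw [Subgroup.coe_pow] at h4
    exact h4
  have hcard : ((K : Set T).toFinset).card = Nat.card K := by
    rw [Set.toFinset_card, Nat.card_eq_fintype_card]
    rfl
  have heq := Finset.eq_of_subset_of_card_le hsub (by rw [hcard]; exact h1)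
  have hmem : x ∈ Finset.univ.filter (fun a : T => a ^ Nat.card K = 1) := by
    rw [Finset.mem_filter]
    exact ⟨Finset.mem_univ _, hx⟩
  rw [← heq, Set.mem_toFinset] at hmem
  exact hmem

/-- the same for subgroups of an ambient group -/
theorem mem_of_pow_card_eq_one' {G : Type*} [Group G] (T K : Subgroup G) [Finite T]
    (hT : IsCyclic T) (hKT : K ≤ T) (x : G) (hxT : x ∈ T) (hx : x ^ Nat.card K = 1) : x ∈ K := by
  have h1 : Nat.card (K.subgroupOf T) = Nat.card K :=
    Nat.card_congr (Subgroup.subgroupOfEquivOfLe hKT).toEquiv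
  have h2 : (⟨x, hxT⟩ : T) ∈ K.subgroupOf T := by
    apply mem_of_pow_card_eq_one
    rw [h1]
    apply Subtype.ext
    simpa using hx
  exact Subgroup.mem_subgroupOf.1 h2

/-- the `2`-part of the order of `SL₂(q)` -/
theorem factorization_two_card_SL2 (q n : ℕ) (hodd : Odd q) (hn : n = q - 1 ∨ n = q + 1)
    (h4 : 4 ∣ n) (hq : 2 ≤ q) :
    (q * ((q - 1) * (q + 1))).factorization 2 = n.factorization 2 + 1 := by
  obtain ⟨k, hk⟩ := hodd
  have hq2 : ¬ 2 ∣ q := by omega
  have h2 : ∀ m : ℕ, m % 4 = 2 → m.factorization 2 = 1 := by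
    intro m hm
    obtain ⟨j, hj⟩ : ∃ j, m = 2 * j := ⟨m / 2, by omega⟩
    have hjodd : ¬ 2 ∣ j := by omega
    have hj0 : j ≠ 0 := by omega
    rw [hj, Nat.factorization_mul two_ne_zero hj0, Finsupp.add_apply,
      Nat.Prime.factorization_self Nat.prime_two, Nat.factorization_eq_zero_of_not_dvd hjodd]
  have hq0 : q ≠ 0 := by omega
  have hq1 : q - 1 ≠ 0 := by omega
  have hq3 : q + 1 ≠ 0 := by omega
  rw [Nat.factorization_mul hq0 (mul_ne_zero hq1 hq3), Nat.factorization_mul hq1 hq3,
    Finsupp.add_apply, Finsupp.add_apply, Nat.factorization_eq_zero_of_not_dvd hq2]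
  rcases hn with rfl | rfl
  · rw [h2 (q + 1) (by omega)]
    ring
  · rw [h2 (q - 1) (by omega)]
    ring

/-- in a cyclic group of order `2 * m` the elements killed by `m` are squares -/
theorem exists_sq_of_pow_eq_one {K : Type*} [Group K] [Finite K] [IsCyclic K] (m : ℕ)
    (hm : Nat.card K = 2 * m) (c : K) (hc : c ^ m = 1) : ∃ e : K, e * e = c := by
  obtain ⟨d, hd⟩ := IsCyclic.exists_generator (α := K)
  have hord : orderOf d = 2 * m := by
    rw [orderOf_eq_card_of_forall_mem_zpowers hd, hm]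
  have hm0 : 0 < m := by
    have : 0 < Nat.card K := Nat.card_pos
    omega
  obtain ⟨k, hk⟩ := (mem_powers_iff_mem_zpowers.2 (hd c))
  have hk' : d ^ k = c := hk
  have h1 : d ^ (k * m) = 1 := by
    rw [pow_mul, hk', hc]
  have h2 := orderOf_dvd_of_pow_eq_one h1
  rw [hord] at h2
  have h3 : 2 ∣ k := Nat.dvd_of_mul_dvd_mul_right hm0 h2
  obtain ⟨j, hj⟩ := h3
  refine ⟨d ^ j, ?_⟩
  rw [← pow_add, ← two_mul, ← hj, hk']

/-- a subgroup whose order has the full power of `p` contains a conjugate of every Sylow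
`p`-subgroup -/
theorem exists_conj_mem_of_factorization {G : Type*} [Group G] [Finite G] {p : ℕ} [Fact p.Prime]
    (N : Subgroup G) (hv : (Nat.card N).factorization p = (Nat.card G).factorization p)
    (S : Sylow p G) : ∃ g : G, ∀ s ∈ (S : Subgroup G), g⁻¹ * s * g ∈ N := by
  obtain ⟨P₀⟩ : Nonempty (Sylow p N) := inferInstance
  have hS₀card : Nat.card ((P₀ : Subgroup N).map N.subtype) =
      p ^ (Nat.card G).factorization p := by
    rw [← hv, ← P₀.card_eq_multiplicity]
    exact Nat.card_congr ((P₀ : Subgroup N).equivMapOfInjective N.subtype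
      N.subtype_injective).symm.toEquiv
  obtain ⟨g, hg⟩ := MulAction.exists_smul_eq G (Sylow.ofCard _ hS₀card) S
  refine ⟨g, ?_⟩
  intro s hs
  rw [← hg, Sylow.coe_subgroup_smul, Subgroup.mem_pointwise_smul_iff_inv_smul_mem] at hs
  have h1 : g⁻¹ * s * g ∈ (P₀ : Subgroup N).map N.subtype := by
    simpa [MulAut.smul_def] using hs
  obtain ⟨y, -, hy⟩ := Subgroup.mem_map.1 h1
  rw [← hy]
  exact y.2

theorem det_one_add_of_sq (h2 : (2 : F) ≠ 0) {c : Matrix.SpecialLinearGroup (Fin 2) F}
    (hc : c * c = negOneSL) : (1 + (c : Matrix (Fin 2) (Fin 2) F)).det = 2 := by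
  have htr := trace_eq_zero_of_sq h2 hc
  have hdet := c.2
  rw [Matrix.trace_fin_two] at htr
  rw [Matrix.det_fin_two] at hdet ⊢
  simp only [Matrix.add_apply, Matrix.one_apply_eq, Matrix.one_apply_ne, ne_eq, one_ne_zero,
    not_false_eq_true, zero_ne_one, zero_add]
  linear_combination htr + hdet

/-- the Hurwitz unit: an element permuting `c`, `w`, `c * w` cyclically -/
theorem exists_hurwitz (h2 : (2 : F) ≠ 0) (c w : Matrix.SpecialLinearGroup (Fin 2) F)
    (hc : c * c = negOneSL) (hw : w * w = negOneSL) (hwc : w * c * w⁻¹ = c⁻¹) :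
    ∃ u : Matrix.SpecialLinearGroup (Fin 2) F, u * c * u⁻¹ = w ∧ u * w * u⁻¹ = c * w := by
  have hCC : (c : Matrix (Fin 2) (Fin 2) F) * (c : Matrix (Fin 2) (Fin 2) F) = -1 := by
    rw [← Matrix.SpecialLinearGroup.coe_mul, hc, negOneSL_coe]
  have hWW : (w : Matrix (Fin 2) (Fin 2) F) * (w : Matrix (Fin 2) (Fin 2) F) = -1 := by
    rw [← Matrix.SpecialLinearGroup.coe_mul, hw, negOneSL_coe]
  have hWC : (w : Matrix (Fin 2) (Fin 2) F) * (c : Matrix (Fin 2) (Fin 2) F) =
      -((c : Matrix (Fin 2) (Fin 2) F) * (w : Matrix (Fin 2) (Fin 2) F)) := by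
    rw [mul_inv_eq_iff_eq_mul, inv_eq_neg_of_sq hc] at hwc
    have := congrArg (fun x : Matrix.SpecialLinearGroup (Fin 2) F =>
      (x : Matrix (Fin 2) (Fin 2) F)) hwc
    simp only [Matrix.SpecialLinearGroup.coe_mul, negOneSL_coe] at this
    rw [this]
    simp
  obtain ⟨hr1, hr2⟩ := hurwitz_rel _ _ hCC hWW hWC
  have hdet : ((2⁻¹ : F) • ((1 + (c : Matrix (Fin 2) (Fin 2) F)) *
      (1 + (w : Matrix (Fin 2) (Fin 2) F)))).det = 1 := by
    rw [Matrix.det_smul, Matrix.det_mul, det_one_add_of_sq h2 hc, det_one_add_of_sq h2 hw,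
      Fintype.card_fin]
    field_simp
  obtain ⟨u, hu⟩ : ∃ u : Matrix.SpecialLinearGroup (Fin 2) F,
      (u : Matrix (Fin 2) (Fin 2) F) = (2⁻¹ : F) • ((1 + (c : Matrix (Fin 2) (Fin 2) F)) *
      (1 + (w : Matrix (Fin 2) (Fin 2) F))) := ⟨⟨_, hdet⟩, rfl⟩
  refine ⟨u, ?_, ?_⟩
  · rw [mul_inv_eq_iff_eq_mul]
    apply Subtype.ext
    rw [Matrix.SpecialLinearGroup.coe_mul, Matrix.SpecialLinearGroup.coe_mul, hu,
      Matrix.smul_mul, Matrix.mul_smul, hr1]
  · rw [mul_inv_eq_iff_eq_mul]
    apply Subtype.ext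
    rw [Matrix.SpecialLinearGroup.coe_mul, Matrix.SpecialLinearGroup.coe_mul,
      Matrix.SpecialLinearGroup.coe_mul, hu, Matrix.smul_mul, Matrix.mul_smul, hr2]

section sylow

variable [Fintype F] [DecidableEq F]

theorem card_SL2_factored : Nat.card (Matrix.SpecialLinearGroup (Fin 2) F) =
    Fintype.card F * ((Fintype.card F - 1) * (Fintype.card F + 1)) := by
  have hqpos : 2 ≤ Fintype.card F := Fintype.one_lt_card
  rw [card_SL2]
  congr 1
  obtain ⟨m, hm⟩ : ∃ m, Fintype.card F = m + 1 := ⟨Fintype.card F - 1, by omega⟩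
  rw [hm]
  simp only [Nat.add_sub_cancel]
  have : (m + 1) ^ 2 = m * (m + 1 + 1) + 1 := by ring
  rw [this, Nat.add_sub_cancel]

/-- a Sylow `2`-subgroup of `SL₂(q)`, `q` odd, lies in the normaliser of a torus of order
divisible by four, and meets the torus in a subgroup of index two -/
theorem sylow_two_structure (hodd : Odd (Fintype.card F))
    (S : Sylow 2 (Matrix.SpecialLinearGroup (Fin 2) F)) :
    ∃ c : Matrix.SpecialLinearGroup (Fin 2) F, c * c = negOneSL ∧
      (S : Subgroup (Matrix.SpecialLinearGroup (Fin 2) F)) ≤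
        Subgroup.normalizer ((torus c : Subgroup (Matrix.SpecialLinearGroup (Fin 2) F)) :
          Set (Matrix.SpecialLinearGroup (Fin 2) F)) ∧
      Nat.card (S : Subgroup (Matrix.SpecialLinearGroup (Fin 2) F)) =
        2 * Nat.card ((S : Subgroup (Matrix.SpecialLinearGroup (Fin 2) F)) ⊓ torus c :
          Subgroup (Matrix.SpecialLinearGroup (Fin 2) F)) ∧
      Nat.card ((S : Subgroup (Matrix.SpecialLinearGroup (Fin 2) F)) ⊓ torus c :
          Subgroup (Matrix.SpecialLinearGroup (Fin 2) F)) =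
        2 ^ (Nat.card (torus c)).factorization 2 := by
  classical
  have hF : ringChar F ≠ 2 := by
    intro h
    have := FiniteField.even_card_of_char_two h
    rw [Nat.odd_iff] at hodd
    omega
  have h2 : (2 : F) ≠ 0 := Ring.two_ne_zero hF
  -- the standard element
  have hc₀ : (quatI : Matrix.SpecialLinearGroup (Fin 2) F) * quatI = negOneSL := quatI_mul_self
  have htr₀ := trace_sq_ne_of_sq h2 hc₀
  obtain ⟨hr₀, hcyc₀, hn₀⟩ := regular_of_trace_sq_ne hF quatI htr₀
  have h4₀ := four_dvd_card_torus h2 hc₀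
  have hcardN₀ := card_normalizer_torus hF hr₀ htr₀
  have hv : (Nat.card (Matrix.SpecialLinearGroup (Fin 2) F)).factorization 2 =
      (Nat.card (torus (quatI : Matrix.SpecialLinearGroup (Fin 2) F))).factorization 2 + 1 := by
    rw [card_SL2_factored]
    exact factorization_two_card_SL2 _ _ hodd hn₀ h4₀ Fintype.one_lt_card
  have hvN : (Nat.card (Subgroup.normalizer ((torus (quatI :
      Matrix.SpecialLinearGroup (Fin 2) F) : Subgroup (Matrix.SpecialLinearGroup (Fin 2) F)) :
        Set (Matrix.SpecialLinearGroup (Fin 2) F)))).factorization 2 =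
      (Nat.card (torus (quatI : Matrix.SpecialLinearGroup (Fin 2) F))).factorization 2 + 1 := by
    rw [hcardN₀, Nat.factorization_mul two_ne_zero Nat.card_pos.ne', Finsupp.add_apply,
      Nat.Prime.factorization_self Nat.prime_two]
    ring
  obtain ⟨g, hmemS⟩ := exists_conj_mem_of_factorization (Subgroup.normalizer ((torus (quatI :
      Matrix.SpecialLinearGroup (Fin 2) F) : Subgroup (Matrix.SpecialLinearGroup (Fin 2) F)) :
        Set (Matrix.SpecialLinearGroup (Fin 2) F))) (by rw [hv, hvN]) S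
  -- the conjugate element
  have hr : IsRegularSL (g * quatI * g⁻¹) := hr₀.conj g
  have hcc : (g * quatI * g⁻¹) * (g * quatI * g⁻¹) = negOneSL := by
    have : (g * quatI * g⁻¹) * (g * quatI * g⁻¹) = g * (quatI * quatI) * g⁻¹ := by group
    rw [this, hc₀, conj_negOneSL]
  have hSN : (S : Subgroup (Matrix.SpecialLinearGroup (Fin 2) F)) ≤
      Subgroup.normalizer ((torus (g * quatI * g⁻¹) :
        Subgroup (Matrix.SpecialLinearGroup (Fin 2) F)) :
          Set (Matrix.SpecialLinearGroup (Fin 2) F)) := by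
    intro s hs
    rw [mem_normalizer_torus_iff hr]
    rcases (mem_normalizer_torus_iff hr₀ _).1 (hmemS s hs) with h | h
    · left
      have : s * (g * quatI * g⁻¹) * s⁻¹ = g * ((g⁻¹ * s * g) * quatI * (g⁻¹ * s * g)⁻¹) * g⁻¹ := by
        group
      rw [this, h]
    · right
      have : s * (g * quatI * g⁻¹) * s⁻¹ = g * ((g⁻¹ * s * g) * quatI * (g⁻¹ * s * g)⁻¹) * g⁻¹ := by
        group
      rw [this, h]
      group
  refine ⟨g * quatI * g⁻¹, hcc, hSN, ?_⟩
  -- cardinalities
  have hcardT : Nat.card (torus (g * quatI * g⁻¹)) =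
      Nat.card (torus (quatI : Matrix.SpecialLinearGroup (Fin 2) F)) := card_torus_conj g quatI
  have hcardS : Nat.card (S : Subgroup (Matrix.SpecialLinearGroup (Fin 2) F)) =
      2 ^ ((Nat.card (torus (g * quatI * g⁻¹))).factorization 2 + 1) := by
    rw [hcardT, ← hv]
    exact S.card_eq_multiplicity
  have htr : ((g * quatI * g⁻¹ : Matrix.SpecialLinearGroup (Fin 2) F) :
      Matrix (Fin 2) (Fin 2) F).trace ^ 2 ≠ 4 := trace_sq_ne_of_sq h2 hcc
  have hidx : (torus (g * quatI * g⁻¹)).relIndex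
      (S : Subgroup (Matrix.SpecialLinearGroup (Fin 2) F)) ≤ 2 := by
    have h1 : (torus (g * quatI * g⁻¹)).relIndex (Subgroup.normalizer ((torus (g * quatI * g⁻¹) :
        Subgroup (Matrix.SpecialLinearGroup (Fin 2) F)) :
          Set (Matrix.SpecialLinearGroup (Fin 2) F))) = 2 := index_torus_normalizer hF hr htr
    exact le_trans (Subgroup.relIndex_le_of_le_right hSN (by rw [h1]; norm_num)) (le_of_eq h1)
  have hmul : Nat.card ((S : Subgroup (Matrix.SpecialLinearGroup (Fin 2) F)) ⊓
      torus (g * quatI * g⁻¹) : Subgroup (Matrix.SpecialLinearGroup (Fin 2) F)) *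
      (torus (g * quatI * g⁻¹)).relIndex (S : Subgroup (Matrix.SpecialLinearGroup (Fin 2) F)) =
      Nat.card (S : Subgroup (Matrix.SpecialLinearGroup (Fin 2) F)) := by
    have h1 := Subgroup.card_mul_index ((torus (g * quatI * g⁻¹)).subgroupOf
      (S : Subgroup (Matrix.SpecialLinearGroup (Fin 2) F)))
    rw [← h1]
    congr 1
    rw [inf_comm, ← Subgroup.inf_subgroupOf_right]
    exact (Nat.card_congr (Subgroup.subgroupOfEquivOfLe inf_le_right).toEquiv).symm
  -- the intersection is a `2`-group inside the torus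
  obtain ⟨b, hb⟩ : ∃ b : ℕ, Nat.card ((S : Subgroup (Matrix.SpecialLinearGroup (Fin 2) F)) ⊓
      torus (g * quatI * g⁻¹) : Subgroup (Matrix.SpecialLinearGroup (Fin 2) F)) = 2 ^ b := by
    have hp : IsPGroup 2 ((S : Subgroup (Matrix.SpecialLinearGroup (Fin 2) F)) ⊓
        torus (g * quatI * g⁻¹) : Subgroup (Matrix.SpecialLinearGroup (Fin 2) F)) :=
      S.isPGroup'.to_le inf_le_left
    exact IsPGroup.iff_card.1 hp
  have hble : b ≤ (Nat.card (torus (g * quatI * g⁻¹))).factorization 2 := by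
    have hdvd : 2 ^ b ∣ Nat.card (torus (g * quatI * g⁻¹)) := by
      rw [← hb]
      exact Subgroup.card_dvd_of_le inf_le_right
    exact (Nat.Prime.pow_dvd_iff_le_factorization Nat.prime_two Nat.card_pos.ne').1 hdvd
  rw [hb] at hmul ⊢
  rw [hcardS] at hmul ⊢
  have hle : 2 ^ ((Nat.card (torus (g * quatI * g⁻¹))).factorization 2 + 1) ≤ 2 ^ b * 2 := by
    rw [← hmul]
    exact Nat.mul_le_mul_left _ hidx
  rw [← pow_succ] at hle
  have hle' := (Nat.pow_le_pow_iff_right (by norm_num : 1 < 2)).1 hle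
  have hbeq : b = (Nat.card (torus (g * quatI * g⁻¹))).factorization 2 := by omega
  rw [← hbeq]
  exact ⟨by rw [pow_succ]; ring, rfl⟩

/-- the data attached to a Sylow `2`-subgroup -/
structure QuatData (S : Subgroup (Matrix.SpecialLinearGroup (Fin 2) F))
    (c : Matrix.SpecialLinearGroup (Fin 2) F) : Prop where
  sq : c * c = negOneSL
  le : S ≤ Subgroup.normalizer ((torus c : Subgroup (Matrix.SpecialLinearGroup (Fin 2) F)) :
          Set (Matrix.SpecialLinearGroup (Fin 2) F))
  card : Nat.card S = 2 * Nat.card (S ⊓ torus c : Subgroup (Matrix.SpecialLinearGroup (Fin 2) F))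
  cardT : Nat.card (S ⊓ torus c : Subgroup (Matrix.SpecialLinearGroup (Fin 2) F)) =
        2 ^ (Nat.card (torus c)).factorization 2

theorem exists_quatData (hodd : Odd (Fintype.card F))
    (S : Sylow 2 (Matrix.SpecialLinearGroup (Fin 2) F)) :
    ∃ c : Matrix.SpecialLinearGroup (Fin 2) F,
      QuatData (S : Subgroup (Matrix.SpecialLinearGroup (Fin 2) F)) c := by
  obtain ⟨c, h1, h2, h3, h4⟩ := sylow_two_structure hodd S
  exact ⟨c, ⟨h1, h2, h3, h4⟩⟩

namespace QuatData

variable {S : Subgroup (Matrix.SpecialLinearGroup (Fin 2) F)}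
  {c : Matrix.SpecialLinearGroup (Fin 2) F}

theorem four_dvd (h : QuatData S c) (h2 : (2 : F) ≠ 0) :
    4 ∣ Nat.card (S ⊓ torus c : Subgroup (Matrix.SpecialLinearGroup (Fin 2) F)) := by
  rw [h.cardT]
  have h4 := four_dvd_card_torus h2 h.sq
  have : (4 : ℕ) = 2 ^ 2 := by norm_num
  rw [this] at h4 ⊢
  exact pow_dvd_pow 2
    ((Nat.Prime.pow_dvd_iff_le_factorization Nat.prime_two Nat.card_pos.ne').1 h4)

theorem self_mem (h : QuatData S c) (hF : ringChar F ≠ 2) : c ∈ S := by
  have h2 : (2 : F) ≠ 0 := Ring.two_ne_zero hF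
  have htr := trace_sq_ne_of_sq h2 h.sq
  obtain ⟨hr, hcyc, -⟩ := regular_of_trace_sq_ne hF c htr
  have hmem : c ∈ (S ⊓ torus c : Subgroup (Matrix.SpecialLinearGroup (Fin 2) F)) := by
    apply mem_of_pow_card_eq_one' (torus c) _ hcyc inf_le_right c (self_mem_torus c)
    obtain ⟨k, hk⟩ := h.four_dvd h2
    rw [hk, pow_mul]
    have : c ^ 4 = 1 := by
      rw [← orderOf_of_sq h2 h.sq]
      exact pow_orderOf_eq_one c
    rw [this, one_pow]
  exact hmem.1

theorem exists_not_mem (h : QuatData S c) [Finite S] : ∃ w ∈ S, w ∉ torus c := by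
  by_contra hcon
  push_neg at hcon
  have : (S ⊓ torus c : Subgroup (Matrix.SpecialLinearGroup (Fin 2) F)) = S :=
    inf_eq_left.2 hcon
  have h1 := h.card
  rw [this] at h1
  have : 0 < Nat.card S := Nat.card_pos
  omega

/-- an element of `S` outside the torus inverts the torus -/
theorem inverts (h : QuatData S c) (hF : ringChar F ≠ 2)
    (w : Matrix.SpecialLinearGroup (Fin 2) F) (hwS : w ∈ S) (hwT : w ∉ torus c) :
    w * c * w⁻¹ = c⁻¹ := by
  have h2 : (2 : F) ≠ 0 := Ring.two_ne_zero hF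
  have htr := trace_sq_ne_of_sq h2 h.sq
  obtain ⟨hr, -, -⟩ := regular_of_trace_sq_ne hF c htr
  rcases (mem_normalizer_torus_iff hr w).1 (h.le hwS) with h1 | h1
  · exfalso
    apply hwT
    rw [mem_torus_iff]
    rw [mul_inv_eq_iff_eq_mul] at h1
    exact h1.symm
  · exact h1

theorem centralizer_eq (h : QuatData S c) (hF : ringChar F ≠ 2) :
    Subgroup.centralizer (S : Set (Matrix.SpecialLinearGroup (Fin 2) F)) =
      Subgroup.center (Matrix.SpecialLinearGroup (Fin 2) F) := by
  have h2 : (2 : F) ≠ 0 := Ring.two_ne_zero hF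
  apply le_antisymm
  · intro x hx
    rw [Subgroup.mem_centralizer_iff] at hx
    have hxT : x ∈ torus c := by
      rw [mem_torus_iff]
      exact hx c (h.self_mem hF)
    obtain ⟨w, hwS, hwT⟩ := h.exists_not_mem
    have h1 := inverts_torus (not_scalar_of_sq h2 h.sq) w (h.inverts hF w hwS hwT) x hxT
    have h3 : w * x * w⁻¹ = x := by
      rw [hx w hwS, mul_inv_cancel_right]
    rw [h3] at h1
    have h4 : x * x = 1 := by
      nth_rw 1 [h1]
      exact inv_mul_cancel x
    rcases SL2_sq_eq_one h2 x h4 with h5 | h5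
    · rw [h5]
      exact Subgroup.one_mem _
    · rw [h5]
      exact negOneSL_mem_center
  · exact Subgroup.center_le_centralizer _

/-- the elements of the torus normalising `S` lie in `S` -/
theorem mem_of_mem_torus (h : QuatData S c) (hF : ringChar F ≠ 2)
    (x : Matrix.SpecialLinearGroup (Fin 2) F) (hxT : x ∈ torus c)
    (hxN : x ∈ Subgroup.normalizer (S : Set (Matrix.SpecialLinearGroup (Fin 2) F))) : x ∈ S := by
  have h2 : (2 : F) ≠ 0 := Ring.two_ne_zero hF
  have htr := trace_sq_ne_of_sq h2 h.sq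
  obtain ⟨hr, hcyc, -⟩ := regular_of_trace_sq_ne hF c htr
  obtain ⟨w, hwS, hwT⟩ := h.exists_not_mem
  have hinv := inverts_torus hr.ns w (h.inverts hF w hwS hwT)
  have h1 : x * w * x⁻¹ ∈ S := (Subgroup.mem_normalizer_iff.1 hxN w).1 hwS
  have h3 : x * w * x⁻¹ = x * x * w := by
    have := hinv x⁻¹ (inv_mem hxT)
    rw [inv_inv, mul_inv_eq_iff_eq_mul] at this
    rw [mul_assoc, this, mul_assoc]
  rw [h3] at h1
  have h4 : x * x ∈ S := by
    have := S.mul_mem h1 (S.inv_mem hwS)
    rwa [mul_inv_cancel_right] at this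
  have h5 : x * x ∈ (S ⊓ torus c : Subgroup (Matrix.SpecialLinearGroup (Fin 2) F)) :=
    ⟨h4, mul_mem hxT hxT⟩
  have h6 : (x * x) ^ Nat.card (S ⊓ torus c : Subgroup (Matrix.SpecialLinearGroup (Fin 2) F))
      = 1 := by
    have h7 : (⟨x * x, h5⟩ : (S ⊓ torus c : Subgroup (Matrix.SpecialLinearGroup (Fin 2) F))) ^
        Nat.card (S ⊓ torus c : Subgroup (Matrix.SpecialLinearGroup (Fin 2) F)) = 1 :=
      pow_card_eq_one'
    have h8 := congrArg Subtype.val h7
    rw [Subgroup.coe_pow] at h8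
    exact h8
  have h7 : x ^ Nat.card (torus c) = 1 := by
    have h7 : (⟨x, hxT⟩ : torus c) ^ Nat.card (torus c) = 1 := pow_card_eq_one'
    have h8 := congrArg Subtype.val h7
    rw [Subgroup.coe_pow] at h8
    exact h8
  have h8 : x ^ Nat.card (S ⊓ torus c : Subgroup (Matrix.SpecialLinearGroup (Fin 2) F)) = 1 := by
    have hg : Nat.gcd (2 * Nat.card (S ⊓ torus c :
        Subgroup (Matrix.SpecialLinearGroup (Fin 2) F))) (Nat.card (torus c)) =
        Nat.card (S ⊓ torus c : Subgroup (Matrix.SpecialLinearGroup (Fin 2) F)) := by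
      rw [h.cardT]
      have hn := Nat.ordProj_mul_ordCompl_eq_self (Nat.card (torus c)) 2
      have hodd : ¬ 2 ∣ Nat.card (torus c) / 2 ^ (Nat.card (torus c)).factorization 2 :=
        Nat.not_dvd_ordCompl Nat.prime_two Nat.card_pos.ne'
      have hcop : Nat.Coprime 2 (Nat.card (torus c) / 2 ^ (Nat.card (torus c)).factorization 2) :=
        (Nat.Prime.coprime_iff_not_dvd Nat.prime_two).2 hodd
      nth_rw 2 [← hn]
      rw [mul_comm 2, Nat.gcd_mul_left, hcop, mul_one]
    rw [← hg]
    apply pow_gcd_eq_one.2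
    refine ⟨?_, h7⟩
    rw [pow_mul, pow_two]
    exact h6
  exact (mem_of_pow_card_eq_one' (torus c) _ hcyc inf_le_right x hxT h8).1

/-- the normaliser of `S` meets the normaliser of the torus in `S` -/
theorem normalizer_inf_le (h : QuatData S c) (hF : ringChar F ≠ 2) :
    Subgroup.normalizer (S : Set (Matrix.SpecialLinearGroup (Fin 2) F)) ⊓
      Subgroup.normalizer ((torus c : Subgroup (Matrix.SpecialLinearGroup (Fin 2) F)) :
          Set (Matrix.SpecialLinearGroup (Fin 2) F)) ≤ S := by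
  have h2 : (2 : F) ≠ 0 := Ring.two_ne_zero hF
  have htr := trace_sq_ne_of_sq h2 h.sq
  obtain ⟨hr, hcyc, -⟩ := regular_of_trace_sq_ne hF c htr
  rintro x ⟨hxNS, hxNT⟩
  by_cases hxT : x ∈ torus c
  · exact h.mem_of_mem_torus hF x hxT hxNS
  · obtain ⟨w, hwS, hwT⟩ := h.exists_not_mem
    have hw := h.inverts hF w hwS hwT
    have hx : x * c * x⁻¹ = c⁻¹ := by
      rcases (mem_normalizer_torus_iff hr x).1 hxNT with h1 | h1
      · exfalso
        apply hxT
        rw [mem_torus_iff]
        rw [mul_inv_eq_iff_eq_mul] at h1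
        exact h1.symm
      · exact h1
    have h1 : w⁻¹ * x ∈ torus c := by
      rw [mem_torus_iff]
      rw [mul_inv_eq_iff_eq_mul] at hx hw
      have hw' : w⁻¹ * c⁻¹ = c * w⁻¹ := by
        rw [inv_mul_eq_iff_eq_mul, ← mul_assoc, hw, mul_inv_cancel_right]
      rw [mul_assoc, hx, ← mul_assoc w⁻¹, hw', mul_assoc]
    have h3 : w⁻¹ * x ∈ Subgroup.normalizer (S : Set (Matrix.SpecialLinearGroup (Fin 2) F)) :=
      mul_mem (inv_mem (Subgroup.le_normalizer hwS)) hxNS
    have h4 := h.mem_of_mem_torus hF _ h1 h3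
    have h5 : x = w * (w⁻¹ * x) := by group
    rw [h5]
    exact S.mul_mem hwS h4

/-- if the torus has order divisible by eight then `S` is self-normalising -/
theorem normalizer_eq (h : QuatData S c) (hF : ringChar F ≠ 2)
    (h8 : 8 ∣ Nat.card (torus c)) :
    Subgroup.normalizer (S : Set (Matrix.SpecialLinearGroup (Fin 2) F)) = S := by
  have h2 : (2 : F) ≠ 0 := Ring.two_ne_zero hF
  have htr := trace_sq_ne_of_sq h2 h.sq
  obtain ⟨hr, hcyc, -⟩ := regular_of_trace_sq_ne hF c htr
  apply le_antisymm _ Subgroup.le_normalizer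
  intro x hx
  apply h.normalizer_inf_le hF
  refine ⟨hx, ?_⟩
  -- the element `c` is a square in `S ⊓ T`
  have hK : IsCyclic (S ⊓ torus c : Subgroup (Matrix.SpecialLinearGroup (Fin 2) F)) := by
    have := hcyc
    exact isCyclic_of_surjective _ (Subgroup.subgroupOfEquivOfLe
      (inf_le_right : (S ⊓ torus c : Subgroup (Matrix.SpecialLinearGroup (Fin 2) F)) ≤
        torus c)).surjective
  have h8K : 8 ∣ Nat.card (S ⊓ torus c : Subgroup (Matrix.SpecialLinearGroup (Fin 2) F)) := by
    rw [h.cardT]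
    have : (8 : ℕ) = 2 ^ 3 := by norm_num
    rw [this] at h8 ⊢
    exact pow_dvd_pow 2
      ((Nat.Prime.pow_dvd_iff_le_factorization Nat.prime_two Nat.card_pos.ne').1 h8)
  obtain ⟨j, hj⟩ := h8K
  have hcK : c ∈ (S ⊓ torus c : Subgroup (Matrix.SpecialLinearGroup (Fin 2) F)) :=
    ⟨h.self_mem hF, self_mem_torus c⟩
  have hc4 : c ^ 4 = 1 := by
    rw [← orderOf_of_sq h2 h.sq]
    exact pow_orderOf_eq_one c
  obtain ⟨e, he⟩ := exists_sq_of_pow_eq_one (K := (S ⊓ torus c :
    Subgroup (Matrix.SpecialLinearGroup (Fin 2) F))) (4 * j) (by rw [hj]; ring) ⟨c, hcK⟩ (by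
      apply Subtype.ext
      rw [Subgroup.coe_pow, pow_mul]
      change (c ^ 4) ^ j = 1
      rw [hc4, one_pow])
  have he' : (e : Matrix.SpecialLinearGroup (Fin 2) F) * e = c := congrArg Subtype.val he
  have heS : (e : Matrix.SpecialLinearGroup (Fin 2) F) ∈ S := e.2.1
  have hxe : x * e * x⁻¹ ∈ S := (Subgroup.mem_normalizer_iff.1 hx e).1 heS
  have hxc : x * c * x⁻¹ = (x * e * x⁻¹) * (x * e * x⁻¹) := by
    have : x * ((e : Matrix.SpecialLinearGroup (Fin 2) F) * e) * x⁻¹ =
        (x * e * x⁻¹) * (x * e * x⁻¹) := by group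
    rw [he'] at this
    exact this
  have hxeT : x * e * x⁻¹ ∈ torus c := by
    by_contra hcon
    have h3 := sq_of_mem_normalizer_torus hr _ (h.le hxe) hcon
    have h4 : x * c * x⁻¹ = negOneSL := by
      apply Subtype.ext
      rw [hxc, h3, negOneSL_coe]
    have h5 : c = negOneSL := by
      have : c = x⁻¹ * (x * c * x⁻¹) * x⁻¹⁻¹ := by group
      rw [this, h4, conj_negOneSL]
    apply not_scalar_of_sq h2 h.sq
    rw [h5, isScalar2_iff_eq]
    right; rfl
  have hxcT : x * c * x⁻¹ ∈ torus c := by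
    rw [hxc]
    exact mul_mem hxeT hxeT
  exact (mem_normalizer_torus_iff hr x).2
    (hr.reg _ hxcT (trace_eq_of_isConj c _ (isConj_iff.2 ⟨x, rfl⟩)).symm)

end QuatData

/-- two elements inverting `c` differ by an element of the torus -/
theorem inv_mul_mem_torus_of_inverts {c w x : Matrix.SpecialLinearGroup (Fin 2) F}
    (hw : w * c * w⁻¹ = c⁻¹) (hx : x * c * x⁻¹ = c⁻¹) : w⁻¹ * x ∈ torus c := by
  rw [mem_torus_iff]
  rw [mul_inv_eq_iff_eq_mul] at hx hw
  have hw' : w⁻¹ * c⁻¹ = c * w⁻¹ := by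
    rw [inv_mul_eq_iff_eq_mul, ← mul_assoc, hw, mul_inv_cancel_right]
  rw [mul_assoc, hx, ← mul_assoc w⁻¹, hw', mul_assoc]

/-- if the order of the torus is not divisible by eight then `S` has index three in its
normaliser -/
theorem card_normalizer_of_not_eight_dvd (S : Sylow 2 (Matrix.SpecialLinearGroup (Fin 2) F))
    {c : Matrix.SpecialLinearGroup (Fin 2) F}
    (h : QuatData (S : Subgroup (Matrix.SpecialLinearGroup (Fin 2) F)) c)
    (hF : ringChar F ≠ 2) (h8 : ¬ 8 ∣ Nat.card (torus c)) :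
    Nat.card (Subgroup.normalizer ((S : Subgroup (Matrix.SpecialLinearGroup (Fin 2) F)) :
      Set (Matrix.SpecialLinearGroup (Fin 2) F))) =
      3 * Nat.card (S : Subgroup (Matrix.SpecialLinearGroup (Fin 2) F)) := by
  classical
  have h2 : (2 : F) ≠ 0 := Ring.two_ne_zero hF
  have htr := trace_sq_ne_of_sq h2 h.sq
  obtain ⟨hr, hcyc, -⟩ := regular_of_trace_sq_ne hF c htr
  have hcS := h.self_mem hF
  -- the orders
  have hcardK : Nat.card ((S : Subgroup (Matrix.SpecialLinearGroup (Fin 2) F)) ⊓ torus c :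
      Subgroup (Matrix.SpecialLinearGroup (Fin 2) F)) = 4 := by
    have h4 := four_dvd_card_torus h2 h.sq
    have hlt : (Nat.card (torus c)).factorization 2 < 3 := by
      by_contra hcon
      push Not at hcon
      apply h8
      have : (8 : ℕ) = 2 ^ 3 := by norm_num
      rw [this]
      exact (Nat.Prime.pow_dvd_iff_le_factorization Nat.prime_two Nat.card_pos.ne').2 hcon
    have hge : 2 ≤ (Nat.card (torus c)).factorization 2 := by
      have : (4 : ℕ) = 2 ^ 2 := by norm_num
      rw [this] at h4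
      exact (Nat.Prime.pow_dvd_iff_le_factorization Nat.prime_two Nat.card_pos.ne').1 h4
    have : (Nat.card (torus c)).factorization 2 = 2 := by omega
    rw [h.cardT, this]
    norm_num
  have hcardS : Nat.card (S : Subgroup (Matrix.SpecialLinearGroup (Fin 2) F)) = 8 := by
    rw [h.card, hcardK]
  obtain ⟨w, hwS, hwT⟩ := h.exists_not_mem
  have hwc := h.inverts hF w hwS hwT
  have hww : w * w = negOneSL := by
    apply Subtype.ext
    rw [negOneSL_coe]
    exact sq_of_mem_normalizer_torus hr w (h.le hwS) hwT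
  obtain ⟨u, huc, huw⟩ := exists_hurwitz h2 c w h.sq hww hwc
  -- the intersection with the torus is generated by `c`
  have hKc : ∀ k ∈ ((S : Subgroup (Matrix.SpecialLinearGroup (Fin 2) F)) ⊓ torus c :
      Subgroup (Matrix.SpecialLinearGroup (Fin 2) F)), ∃ i : ℕ, k = c ^ i := by
    have hle : Subgroup.zpowers c ≤ ((S : Subgroup (Matrix.SpecialLinearGroup (Fin 2) F)) ⊓
        torus c : Subgroup (Matrix.SpecialLinearGroup (Fin 2) F)) := by
      rw [Subgroup.zpowers_le]
      exact ⟨hcS, self_mem_torus c⟩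
    have hcardz : Nat.card (Subgroup.zpowers c) = 4 := by
      rw [Nat.card_zpowers, orderOf_of_sq h2 h.sq]
    have heq := Subgroup.eq_of_le_of_card_ge hle (by rw [hcardK, hcardz])
    intro k hk
    rw [← heq] at hk
    obtain ⟨i, hi⟩ := mem_powers_iff_mem_zpowers.2 hk
    exact ⟨i, hi.symm⟩
  -- `u` normalises `S`
  have huN : u ∈ Subgroup.normalizer ((S : Subgroup (Matrix.SpecialLinearGroup (Fin 2) F)) :
      Set (Matrix.SpecialLinearGroup (Fin 2) F)) := by
    apply Subgroup.mem_normalizer_fintype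
    intro s hs
    have hs' : s ∈ (S : Subgroup (Matrix.SpecialLinearGroup (Fin 2) F)) := hs
    have hcw : c * w ∈ (S : Subgroup (Matrix.SpecialLinearGroup (Fin 2) F)) := mul_mem hcS hwS
    by_cases hsT : s ∈ torus c
    · obtain ⟨i, rfl⟩ := hKc s ⟨hs', hsT⟩
      have : u * c ^ i * u⁻¹ = w ^ i := by
        rw [← huc, conj_pow]
      rw [this]
      exact pow_mem hwS i
    · have h1 : w⁻¹ * s ∈ torus c :=
        inv_mul_mem_torus_of_inverts hwc (h.inverts hF s hs' hsT)
      obtain ⟨i, hi⟩ := hKc (w⁻¹ * s)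
        ⟨(S : Subgroup (Matrix.SpecialLinearGroup (Fin 2) F)).mul_mem
          ((S : Subgroup (Matrix.SpecialLinearGroup (Fin 2) F)).inv_mem hwS) hs', h1⟩
      have hs'' : s = w * c ^ i := by
        rw [← hi]
        group
      have hci : u * c ^ i * u⁻¹ = w ^ i := by
        rw [← huc, conj_pow]
      have : u * s * u⁻¹ = (c * w) * w ^ i := by
        have e : u * (w * c ^ i) * u⁻¹ = (u * w * u⁻¹) * (u * c ^ i * u⁻¹) := by group
        rw [hs'', e, huw, hci]
      rw [this]
      exact mul_mem hcw (pow_mem hwS i)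
  -- `u` does not lie in `S`
  have huS : u ∉ (S : Subgroup (Matrix.SpecialLinearGroup (Fin 2) F)) := by
    intro hu
    rcases (mem_normalizer_torus_iff hr u).1 (h.le hu) with h1 | h1
    · rw [huc] at h1
      apply hwT
      rw [h1]
      exact self_mem_torus c
    · rw [huc] at h1
      apply hwT
      rw [h1]
      exact inv_mem (self_mem_torus c)
  -- the bound
  have hbound : Nat.card (Subgroup.normalizer ((S : Subgroup
      (Matrix.SpecialLinearGroup (Fin 2) F)) : Set (Matrix.SpecialLinearGroup (Fin 2) F))) ≤ 24 := by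
    rw [card_subgroup_eq_card_filter]
    have hS8 : (Finset.univ.filter (fun s : Matrix.SpecialLinearGroup (Fin 2) F =>
        s ∈ (S : Subgroup (Matrix.SpecialLinearGroup (Fin 2) F)))).card = 8 := by
      rw [← card_subgroup_eq_card_filter, hcardS]
    have hK4 : (Finset.univ.filter (fun s : Matrix.SpecialLinearGroup (Fin 2) F =>
        s ∈ ((S : Subgroup (Matrix.SpecialLinearGroup (Fin 2) F)) ⊓ torus c :
      Subgroup (Matrix.SpecialLinearGroup (Fin 2) F)))).card = 4 := by
      rw [← card_subgroup_eq_card_filter, hcardK]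
    have hnS : (negOneSL : Matrix.SpecialLinearGroup (Fin 2) F) ∈
        (S : Subgroup (Matrix.SpecialLinearGroup (Fin 2) F)) := by
      rw [← h.sq]
      exact mul_mem hcS hcS
    have hT6 : (((Finset.univ.filter (fun s : Matrix.SpecialLinearGroup (Fin 2) F =>
        s ∈ (S : Subgroup (Matrix.SpecialLinearGroup (Fin 2) F)))).erase 1).erase
          negOneSL).card = 6 := by
      rw [Finset.card_erase_of_mem, Finset.card_erase_of_mem, hS8]
      · rw [Finset.mem_filter]
        exact ⟨Finset.mem_univ _, Subgroup.one_mem _⟩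
      · rw [Finset.mem_erase, Finset.mem_filter]
        exact ⟨negOneSL_ne_one h2, Finset.mem_univ _, hnS⟩
    have himg : (Finset.univ.filter (fun x : Matrix.SpecialLinearGroup (Fin 2) F =>
        x ∈ Subgroup.normalizer ((S : Subgroup (Matrix.SpecialLinearGroup (Fin 2) F)) :
          Set (Matrix.SpecialLinearGroup (Fin 2) F)))).image (fun x => x * c * x⁻¹) ⊆
        ((Finset.univ.filter (fun s : Matrix.SpecialLinearGroup (Fin 2) F =>
        s ∈ (S : Subgroup (Matrix.SpecialLinearGroup (Fin 2) F)))).erase 1).erase negOneSL := by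
      intro a ha
      obtain ⟨x, hx, rfl⟩ := Finset.mem_image.1 ha
      rw [Finset.mem_filter] at hx
      rw [Finset.mem_erase, Finset.mem_erase, Finset.mem_filter]
      refine ⟨?_, ?_, Finset.mem_univ _, (Subgroup.mem_normalizer_iff.1 hx.2 c).1 hcS⟩
      · intro hcon
        have h5 : c = negOneSL := by
          have : c = x⁻¹ * (x * c * x⁻¹) * x⁻¹⁻¹ := by group
          rw [this, hcon, conj_negOneSL]
        apply not_scalar_of_sq h2 h.sq
        rw [h5, isScalar2_iff_eq]
        right; rfl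
      · intro hcon
        have h5 : c = 1 := by
          have : c = x⁻¹ * (x * c * x⁻¹) * x⁻¹⁻¹ := by group
          rw [this, hcon]
          group
        apply not_scalar_of_sq h2 h.sq
        rw [h5, isScalar2_iff_eq]
        left; rfl
    have hfib : ∀ a ∈ (Finset.univ.filter (fun x : Matrix.SpecialLinearGroup (Fin 2) F =>
        x ∈ Subgroup.normalizer ((S : Subgroup (Matrix.SpecialLinearGroup (Fin 2) F)) :
          Set (Matrix.SpecialLinearGroup (Fin 2) F)))).image (fun x => x * c * x⁻¹),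
        ((Finset.univ.filter (fun x : Matrix.SpecialLinearGroup (Fin 2) F =>
        x ∈ Subgroup.normalizer ((S : Subgroup (Matrix.SpecialLinearGroup (Fin 2) F)) :
          Set (Matrix.SpecialLinearGroup (Fin 2) F)))).filter
            (fun x => x * c * x⁻¹ = a)).card ≤ 4 := by
      intro a ha
      obtain ⟨y, hy, rfl⟩ := Finset.mem_image.1 ha
      rw [Finset.mem_filter] at hy
      have hsub : ((Finset.univ.filter (fun x : Matrix.SpecialLinearGroup (Fin 2) F =>
          x ∈ Subgroup.normalizer ((S : Subgroup (Matrix.SpecialLinearGroup (Fin 2) F)) :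
          Set (Matrix.SpecialLinearGroup (Fin 2) F)))).filter
            (fun x => x * c * x⁻¹ = y * c * y⁻¹)) ⊆
          (Finset.univ.filter (fun s : Matrix.SpecialLinearGroup (Fin 2) F =>
            s ∈ ((S : Subgroup (Matrix.SpecialLinearGroup (Fin 2) F)) ⊓ torus c :
            Subgroup (Matrix.SpecialLinearGroup (Fin 2) F)))).image (fun k => y * k) := by
        intro x hx
        rw [Finset.mem_filter, Finset.mem_filter] at hx
        obtain ⟨⟨-, hxN⟩, hxy⟩ := hx
        have h1 : y⁻¹ * x ∈ torus c := by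
          rw [mem_torus_iff]
          have : (y⁻¹ * x) * c * (y⁻¹ * x)⁻¹ = c := by
            have e : (y⁻¹ * x) * c * (y⁻¹ * x)⁻¹ = y⁻¹ * (x * c * x⁻¹) * y := by group
            rw [e, hxy]
            group
          rw [mul_inv_eq_iff_eq_mul] at this
          exact this.symm
        have h3 : y⁻¹ * x ∈ Subgroup.normalizer ((S : Subgroup
            (Matrix.SpecialLinearGroup (Fin 2) F)) : Set (Matrix.SpecialLinearGroup (Fin 2) F)) :=
          mul_mem (inv_mem hy.2) hxN
        have h4 := h.mem_of_mem_torus hF _ h1 h3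
        rw [Finset.mem_image]
        refine ⟨y⁻¹ * x, ?_, by group⟩
        rw [Finset.mem_filter]
        exact ⟨Finset.mem_univ _, h4, h1⟩
      calc _ ≤ ((Finset.univ.filter (fun s : Matrix.SpecialLinearGroup (Fin 2) F =>
            s ∈ ((S : Subgroup (Matrix.SpecialLinearGroup (Fin 2) F)) ⊓ torus c :
            Subgroup (Matrix.SpecialLinearGroup (Fin 2) F)))).image (fun k => y * k)).card :=
            Finset.card_le_card hsub
        _ ≤ _ := Finset.card_image_le
        _ = 4 := hK4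
    calc _ ≤ 4 * ((Finset.univ.filter (fun x : Matrix.SpecialLinearGroup (Fin 2) F =>
        x ∈ Subgroup.normalizer ((S : Subgroup (Matrix.SpecialLinearGroup (Fin 2) F)) :
          Set (Matrix.SpecialLinearGroup (Fin 2) F)))).image (fun x => x * c * x⁻¹)).card :=
          Finset.card_le_mul_card_image _ 4 hfib
      _ ≤ 4 * 6 := by
          rw [← hT6]
          exact Nat.mul_le_mul_left _ (Finset.card_le_card himg)
      _ = 24 := by norm_num
  -- arithmetic
  have hdvd : Nat.card (S : Subgroup (Matrix.SpecialLinearGroup (Fin 2) F)) ∣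
      Nat.card (Subgroup.normalizer ((S : Subgroup
      (Matrix.SpecialLinearGroup (Fin 2) F)) : Set (Matrix.SpecialLinearGroup (Fin 2) F))) :=
    Subgroup.card_dvd_of_le Subgroup.le_normalizer
  have hne : Nat.card (Subgroup.normalizer ((S : Subgroup
      (Matrix.SpecialLinearGroup (Fin 2) F)) : Set (Matrix.SpecialLinearGroup (Fin 2) F))) ≠
      Nat.card (S : Subgroup (Matrix.SpecialLinearGroup (Fin 2) F)) := by
    intro heq
    have := Subgroup.eq_of_le_of_card_ge (Subgroup.le_normalizer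
      (H := (S : Subgroup (Matrix.SpecialLinearGroup (Fin 2) F)))) (le_of_eq heq)
    apply huS
    rw [this]
    exact huN
  have h16 : ¬ 16 ∣ Nat.card (Subgroup.normalizer ((S : Subgroup
      (Matrix.SpecialLinearGroup (Fin 2) F)) : Set (Matrix.SpecialLinearGroup (Fin 2) F))) := by
    intro h16
    have h1 : 16 ∣ Nat.card (Matrix.SpecialLinearGroup (Fin 2) F) :=
      dvd_trans h16 (Subgroup.card_subgroup_dvd_card _)
    have h3 := S.card_eq_multiplicity
    rw [hcardS] at h3
    have h4 : (Nat.card (Matrix.SpecialLinearGroup (Fin 2) F)).factorization 2 = 3 := by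
      have : (2 : ℕ) ^ 3 = 2 ^ (Nat.card (Matrix.SpecialLinearGroup (Fin 2) F)).factorization 2 := by
        rw [← h3]
        norm_num
      exact (Nat.pow_right_injective (le_refl 2) this).symm
    have : (16 : ℕ) = 2 ^ (3 + 1) := by norm_num
    rw [this, ← h4] at h1
    exact Nat.pow_succ_factorization_not_dvd Nat.card_pos.ne' Nat.prime_two h1
  obtain ⟨m, hm⟩ := hdvd
  rw [hcardS] at hm hne ⊢
  rw [hm] at hbound hne h16 ⊢
  have : m = 3 := by omega
  rw [this]

end sylow

end Cfsg.Agent.Helper12
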