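import Mathlib

/-!
# The `(2,3,5)` von Dyck group has at most 60 elements

If `x² = c⁵ = (xc)³ = 1` then every element of `⟨x, c⟩` is of the form `c^i * r` with `r` one of
twelve explicit coset representatives of `⟨c⟩`.
-/

set_option autoImplicit false

namespace Cfsg.Agent.Helper12.Ico

variable {G : Type*} [Group G] {x c : G}

/-- the relations. -/
structure Rel (x c : G) : Prop where
  hx : x * x = 1
  hc : c ^ 5 = 1
  h3 : x * c * (x * c) * (x * c) = 1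

namespace Rel

theorem x_inv (h : Rel x c) : x⁻¹ = x := inv_eq_of_mul_eq_one_left h.hx

theorem c_inv (h : Rel x c) : c⁻¹ = c ^ 4 := by
  have : c ^ 4 * c = 1 := by rw [← pow_succ]; exact h.hc
  exact inv_eq_of_mul_eq_one_left this

theorem xcx (h : Rel x c) : x * c * x = c⁻¹ * x * c⁻¹ := by
  have h1 : x * c * x * (c * x * c) = 1 := by
    have := h.h3
    simpa [mul_assoc] using this
  have h2 : x * c * x = (c * x * c)⁻¹ := eq_inv_of_mul_eq_one_left h1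
  rw [h2, mul_inv_rev, mul_inv_rev, h.x_inv, mul_assoc]

theorem xcix (h : Rel x c) : x * c⁻¹ * x = c * x * c := by
  have h1 := congrArg (fun g => g⁻¹) h.xcx
  simp only [mul_inv_rev, inv_inv, h.x_inv] at h1
  simpa [mul_assoc] using h1

/-- right-tail versions for rewriting. -/
theorem xx' (h : Rel x c) (g : G) : x * (x * g) = g := by
  rw [← mul_assoc, h.hx, one_mul]

theorem xcx' (h : Rel x c) (g : G) : x * (c * (x * g)) = c⁻¹ * (x * (c⁻¹ * g)) := by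
  have := h.xcx
  calc x * (c * (x * g)) = (x * c * x) * g := by group
    _ = (c⁻¹ * x * c⁻¹) * g := by rw [this]
    _ = c⁻¹ * (x * (c⁻¹ * g)) := by group

theorem xcix' (h : Rel x c) (g : G) : x * (c⁻¹ * (x * g)) = c * (x * (c * g)) := by
  have := h.xcix
  calc x * (c⁻¹ * (x * g)) = (x * c⁻¹ * x) * g := by group
    _ = (c * x * c) * g := by rw [this]
    _ = c * (x * (c * g)) := by group

theorem c3 (h : Rel x c) : c ^ 3 = c⁻¹ * c⁻¹ := by
  have h5 := h.hc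
  calc c ^ 3 = c ^ 5 * (c⁻¹ * c⁻¹) := by group
    _ = c⁻¹ * c⁻¹ := by rw [h5, one_mul]

theorem c4 (h : Rel x c) : c ^ 4 = c⁻¹ := h.c_inv.symm

theorem c2 (h : Rel x c) : c ^ 2 = c⁻¹ * c⁻¹ * c⁻¹ := by
  have h5 := h.hc
  calc c ^ 2 = c ^ 5 * (c⁻¹ * c⁻¹ * c⁻¹) := by group
    _ = c⁻¹ * c⁻¹ * c⁻¹ := by rw [h5, one_mul]

/-- `x c³ x = c x c² x c`. -/
theorem d3 (h : Rel x c) : x * c ^ 3 * x = c * (x * c ^ 2 * x * c) := by
  rw [h.c3]
  calc x * (c⁻¹ * c⁻¹) * x = (x * c⁻¹ * x) * (x * c⁻¹ * x) := by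
        have := h.hx
        calc x * (c⁻¹ * c⁻¹) * x = x * c⁻¹ * 1 * (c⁻¹ * x) := by group
          _ = x * c⁻¹ * (x * x) * (c⁻¹ * x) := by rw [this]
          _ = (x * c⁻¹ * x) * (x * c⁻¹ * x) := by group
    _ = (c * x * c) * (c * x * c) := by rw [h.xcix]
    _ = c * (x * c ^ 2 * x * c) := by simp only [pow_succ, pow_zero, one_mul, mul_assoc]

/-- `x c² x c x = c⁴ x c³`. -/
theorem d4 (h : Rel x c) : x * c ^ 2 * x * c * x = c ^ 4 * (x * c ^ 3) := by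
  calc x * c ^ 2 * x * c * x = x * c ^ 2 * (x * c * x) := by group
    _ = x * c ^ 2 * (c⁻¹ * x * c⁻¹) := by rw [h.xcx]
    _ = (x * c * x) * c⁻¹ := by group
    _ = (c⁻¹ * x * c⁻¹) * c⁻¹ := by rw [h.xcx]
    _ = c⁻¹ * (x * (c⁻¹ * c⁻¹)) := by group
    _ = c ^ 4 * (x * c ^ 3) := by rw [h.c3, h.c4]

/-- `x c² x c⁴ x = c x c² x c²`. -/
theorem d5 (h : Rel x c) : x * c ^ 2 * x * c ^ 4 * x = c * (x * c ^ 2 * x * c ^ 2) := by
  calc x * c ^ 2 * x * c ^ 4 * x = x * c ^ 2 * (x * c⁻¹ * x) := by rw [h.c4]; group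
    _ = x * c ^ 2 * (c * x * c) := by rw [h.xcix]
    _ = (x * c ^ 3 * x) * c := by group
    _ = c * (x * c ^ 2 * x * c) * c := by rw [h.d3]
    _ = c * (x * c ^ 2 * x * c ^ 2) := by simp only [pow_succ, pow_zero, one_mul, mul_assoc]

/-- `x c² x c² x = c⁴ x c² x c⁴`. -/
theorem d6 (h : Rel x c) : x * c ^ 2 * x * c ^ 2 * x = c ^ 4 * (x * c ^ 2 * x * c ^ 4) := by
  have h5 := h.d5
  have hx := h.hx
  have e : x * c ^ 2 * x * c ^ 4 = c * (x * c ^ 2 * x * c ^ 2) * x := by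
    calc x * c ^ 2 * x * c ^ 4 = x * c ^ 2 * x * c ^ 4 * (x * x) := by rw [hx, mul_one]
      _ = (x * c ^ 2 * x * c ^ 4 * x) * x := by group
      _ = c * (x * c ^ 2 * x * c ^ 2) * x := by rw [h5]
  rw [e, h.c4]
  group

/-- the antipode satisfies `z c = c⁴ z`. -/
theorem d7 (h : Rel x c) :
    x * c ^ 2 * x * c ^ 3 * x * c = c ^ 4 * (x * c ^ 2 * x * c ^ 3 * x) := by
  have hz : x * c ^ 2 * x * c ^ 3 * x = c * (x * c ^ 2 * x * c ^ 3 * x) * c := by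
    calc x * c ^ 2 * x * c ^ 3 * x = x * c ^ 2 * (x * c ^ 3 * x) := by group
      _ = x * c ^ 2 * (c * (x * c ^ 2 * x * c)) := by rw [h.d3]
      _ = (x * c ^ 3 * x) * (c ^ 2 * x * c) := by group
      _ = c * (x * c ^ 2 * x * c) * (c ^ 2 * x * c) := by rw [h.d3]
      _ = c * (x * c ^ 2 * x * c ^ 3 * x) * c := by group
  rw [h.c4]
  calc x * c ^ 2 * x * c ^ 3 * x * c = c⁻¹ * (c * (x * c ^ 2 * x * c ^ 3 * x) * c) := by group
    _ = c⁻¹ * (x * c ^ 2 * x * c ^ 3 * x) := by rw [← hz]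

end Rel

end Cfsg.Agent.Helper12.Ico
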