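import Mathlib
import Cfsg.Agent.Lib.Helper12.Icosa

/-!
# Coset enumeration for the `(2,3,5)` group: at most 60 elements
-/

set_option autoImplicit false

namespace Cfsg.Agent.Helper12.Ico

variable {G : Type*} [Group G]

/-- the twelve coset representatives of `⟨c⟩`. -/
def rep (x c : G) (j : ℕ) : G :=
  if j = 0 then 1 else if j ≤ 5 then x * c ^ (j - 1) else
    if j ≤ 10 then x * c ^ 2 * x * c ^ (j - 6) else x * c ^ 2 * x * c ^ 3 * x

/-- the set of products `c^i * rep j`. -/
def SS (x c : G) : Set G := {g | ∃ i j : ℕ, j < 12 ∧ g = c ^ i * rep x c j}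

variable {x c : G}

theorem one_mem_SS : (1 : G) ∈ SS x c := ⟨0, 0, by norm_num, by simp [rep]⟩

theorem mul_c_mem (h : Rel x c) {g : G} (hg : g ∈ SS x c) : g * c ∈ SS x c := by
  obtain ⟨i, j, hj, rfl⟩ := hg
  have h5 := h.hc
  interval_cases j
  · exact ⟨i + 1, 0, by norm_num, by simp [rep, pow_succ]⟩
  · exact ⟨i, 2, by norm_num, by simp [rep, mul_assoc]⟩
  · exact ⟨i, 3, by norm_num, by simp [rep, mul_assoc, pow_succ]⟩
  · exact ⟨i, 4, by norm_num, by simp [rep, mul_assoc, pow_succ]⟩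
  · exact ⟨i, 5, by norm_num, by simp [rep, mul_assoc, pow_succ]⟩
  · refine ⟨i, 1, by norm_num, ?_⟩
    simp only [rep]
    norm_num
    rw [mul_assoc, mul_assoc, ← pow_succ, h5, mul_one]
  · exact ⟨i, 7, by norm_num, by simp [rep, mul_assoc]⟩
  · exact ⟨i, 8, by norm_num, by simp [rep, mul_assoc, pow_succ]⟩
  · exact ⟨i, 9, by norm_num, by simp [rep, mul_assoc, pow_succ]⟩
  · exact ⟨i, 10, by norm_num, by simp [rep, mul_assoc, pow_succ]⟩
  · refine ⟨i, 6, by norm_num, ?_⟩
    simp only [rep]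
    norm_num
    rw [mul_assoc (c ^ i), mul_assoc (x * c ^ 2 * x), ← pow_succ, h5, mul_one]
  · refine ⟨i + 4, 11, by norm_num, ?_⟩
    simp only [rep]
    norm_num
    rw [mul_assoc (c ^ i), h.d7, pow_add]
    simp only [mul_assoc]

theorem mul_x_mem (h : Rel x c) {g : G} (hg : g ∈ SS x c) : g * x ∈ SS x c := by
  obtain ⟨i, j, hj, rfl⟩ := hg
  have hx := h.hx
  interval_cases j
  · exact ⟨i, 1, by norm_num, by simp [rep]⟩
  · refine ⟨i, 0, by norm_num, ?_⟩
    simp only [rep]
    norm_num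
    rw [mul_assoc, hx, mul_one]
  · refine ⟨i + 4, 5, by norm_num, ?_⟩
    simp only [rep]
    norm_num
    rw [mul_assoc (c ^ i), h.xcx, pow_add, h.c4]
    group
  · exact ⟨i, 6, by norm_num, by simp [rep, mul_assoc]⟩
  · refine ⟨i + 1, 7, by norm_num, ?_⟩
    simp only [rep]
    norm_num
    rw [mul_assoc (c ^ i), h.d3, pow_succ c i]
    simp only [mul_assoc]
  · refine ⟨i + 1, 2, by norm_num, ?_⟩
    simp only [rep]
    norm_num
    rw [mul_assoc (c ^ i), h.c4, h.xcix, pow_succ c i]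
    simp only [mul_assoc]
  · refine ⟨i, 3, by norm_num, ?_⟩
    simp only [rep]
    norm_num
    rw [mul_assoc (c ^ i), mul_assoc (x * c ^ 2), hx, mul_one]
  · refine ⟨i + 4, 4, by norm_num, ?_⟩
    simp only [rep]
    norm_num
    rw [mul_assoc (c ^ i), h.d4, pow_add]
    simp only [mul_assoc]
  · refine ⟨i + 4, 10, by norm_num, ?_⟩
    simp only [rep]
    norm_num
    rw [mul_assoc (c ^ i), h.d6, pow_add]
    simp only [mul_assoc]
  · exact ⟨i, 11, by norm_num, by simp [rep, mul_assoc]⟩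
  · refine ⟨i + 1, 8, by norm_num, ?_⟩
    simp only [rep]
    norm_num
    rw [mul_assoc (c ^ i), h.d5, pow_succ c i]
    simp only [mul_assoc]
  · refine ⟨i, 9, by norm_num, ?_⟩
    simp only [rep]
    norm_num
    rw [mul_assoc (c ^ i), mul_assoc (x * c ^ 2 * x * c ^ 3), hx, mul_one]

theorem closure_le_SS (h : Rel x c) {g : G} (hg : g ∈ Subgroup.closure ({x, c} : Set G)) :
    g ∈ SS x c := by
  induction hg using Subgroup.closure_induction_right with
  | one => exact one_mem_SS
  | mul_right g hg y hy ih =>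
    rcases hy with rfl | rfl
    · exact mul_x_mem h ih
    · exact mul_c_mem h ih
  | mul_inv_cancel g hg y hy ih =>
    rcases hy with rfl | rfl
    · rw [h.x_inv]
      exact mul_x_mem h ih
    · rw [h.c_inv]
      have e : g * y ^ 4 = g * y * y * y * y := by
        simp only [pow_succ, pow_zero, one_mul, mul_assoc]
      rw [e]
      exact mul_c_mem h (mul_c_mem h (mul_c_mem h (mul_c_mem h ih)))

/-- the parametrisation by `Fin 5 × Fin 12`. -/
def par (x c : G) (t : Fin 5 × Fin 12) : G := c ^ (t.1 : ℕ) * rep x c (t.2 : ℕ)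

theorem par_surjective (h : Rel x c) (hgen : Subgroup.closure ({x, c} : Set G) = ⊤) :
    Function.Surjective (par x c) := by
  intro g
  have hg : g ∈ Subgroup.closure ({x, c} : Set G) := by rw [hgen]; trivial
  obtain ⟨i, j, hj, rfl⟩ := closure_le_SS h hg
  refine ⟨(⟨i % 5, Nat.mod_lt _ (by norm_num)⟩, ⟨j, hj⟩), ?_⟩
  show c ^ (i % 5) * rep x c j = c ^ i * rep x c j
  congr 1
  conv_rhs => rw [← Nat.mod_add_div i 5]
  rw [pow_add, pow_mul, h.hc, one_pow, mul_one]

theorem card_le_sixty (h : Rel x c) (hgen : Subgroup.closure ({x, c} : Set G) = ⊤) :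
    Finite G ∧ Nat.card G ≤ 60 := by
  have hs := par_surjective h hgen
  have : Finite G := Finite.of_surjective _ hs
  refine ⟨inferInstance, ?_⟩
  have := Nat.card_le_card_of_surjective _ hs
  simpa using this

end Cfsg.Agent.Helper12.Ico
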