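import Mathlib
import Cfsg.Agent.Lib.Helper12.Icosa2

/-!
# The `(2,3,5)` group is `A₅`
-/

set_option autoImplicit false

namespace Cfsg.Agent.Helper12.Ico

open Equiv

/-- the relators `x², y³, (xy)⁵` on generators `false ↦ x`, `true ↦ y`. -/
def rels : Set (FreeGroup Bool) :=
  {FreeGroup.of false * FreeGroup.of false,
   FreeGroup.of true * FreeGroup.of true * FreeGroup.of true,
   (FreeGroup.of false * FreeGroup.of true) ^ 5}

/-- the von Dyck group. -/
abbrev Dyck : Type := PresentedGroup rels

/-- generator `x`. -/
def gx : Dyck := PresentedGroup.of false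

/-- generator `y`. -/
def gy : Dyck := PresentedGroup.of true

theorem gx_sq : gx * gx = 1 := by
  have h : FreeGroup.of false * FreeGroup.of false ∈ rels := by simp [rels]
  have := PresentedGroup.one_of_mem h
  simpa [gx, PresentedGroup.of] using this

theorem gy_cube : gy * gy * gy = 1 := by
  have h : FreeGroup.of true * FreeGroup.of true * FreeGroup.of true ∈ rels := by simp [rels]
  have := PresentedGroup.one_of_mem h
  simpa [gy, PresentedGroup.of] using this

theorem gxy_pow : (gx * gy) ^ 5 = 1 := by
  have h : (FreeGroup.of false * FreeGroup.of true) ^ 5 ∈ rels := by simp [rels]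
  have := PresentedGroup.one_of_mem h
  simpa [gx, gy, PresentedGroup.of] using this

theorem dyck_rel : Rel gx (gx * gy) := by
  have e : gx * (gx * gy) = gy := by rw [← mul_assoc, gx_sq, one_mul]
  refine ⟨gx_sq, gxy_pow, ?_⟩
  rw [e]
  exact gy_cube

theorem dyck_gen : Subgroup.closure ({gx, gx * gy} : Set Dyck) = ⊤ := by
  rw [eq_top_iff, ← PresentedGroup.closure_range_of rels, Subgroup.closure_le]
  rintro _ ⟨b, rfl⟩
  have hx : gx ∈ Subgroup.closure ({gx, gx * gy} : Set Dyck) :=
    Subgroup.subset_closure (by simp)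
  have hc : gx * gy ∈ Subgroup.closure ({gx, gx * gy} : Set Dyck) :=
    Subgroup.subset_closure (by simp)
  cases b
  · exact hx
  · have e : (PresentedGroup.of true : Dyck) = gx * (gx * gy) := by
      rw [← mul_assoc, gx_sq, one_mul]
      rfl
    rw [SetLike.mem_coe, e]
    exact Subgroup.mul_mem _ hx hc

theorem dyck_card : Finite Dyck ∧ Nat.card Dyck ≤ 60 := card_le_sixty dyck_rel dyck_gen

/-- an involution of `A₅`. -/
def pa : Perm (Fin 5) := swap 0 1 * swap 2 3

/-- a `3`-cycle of `A₅`. -/
def pb : Perm (Fin 5) := swap 1 2 * swap 2 4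

theorem pa_mem : pa ∈ alternatingGroup (Fin 5) := by
  rw [Equiv.Perm.mem_alternatingGroup]
  decide

theorem pb_mem : pb ∈ alternatingGroup (Fin 5) := by
  rw [Equiv.Perm.mem_alternatingGroup]
  decide

/-- generators in `A₅`. -/
def qa : alternatingGroup (Fin 5) := ⟨pa, pa_mem⟩

/-- generators in `A₅`. -/
def qb : alternatingGroup (Fin 5) := ⟨pb, pb_mem⟩

theorem qa_sq : qa * qa = 1 := by
  apply Subtype.ext
  show pa * pa = 1
  decide

theorem qb_cube : qb * qb * qb = 1 := by
  apply Subtype.ext
  show pb * pb * pb = 1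
  decide

theorem qab_pow : (qa * qb) ^ 5 = 1 := by
  apply Subtype.ext
  show (pa * pb) ^ 5 = 1
  decide

theorem qa_ne : qa ≠ 1 := by
  intro h
  have := congrArg Subtype.val h
  revert this
  show pa ≠ 1
  decide

theorem qb_ne : qb ≠ 1 := by
  intro h
  have := congrArg Subtype.val h
  revert this
  show pb ≠ 1
  decide

theorem qab_ne : qa * qb ≠ 1 := by
  intro h
  have := congrArg Subtype.val h
  revert this
  show pa * pb ≠ 1
  decide

/-- the map onto `A₅`. -/
def toA5 : Dyck →* alternatingGroup (Fin 5) :=
  PresentedGroup.toGroup (f := fun b => cond b qb qa) (by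
    intro r hr
    simp only [rels, Set.mem_insert_iff, Set.mem_singleton_iff] at hr
    rcases hr with rfl | rfl | rfl
    · simp only [map_mul, FreeGroup.lift_apply_of, cond_false]
      exact qa_sq
    · simp only [map_mul, FreeGroup.lift_apply_of, cond_true]
      exact qb_cube
    · simp only [map_pow, map_mul, FreeGroup.lift_apply_of, cond_false, cond_true]
      exact qab_pow)

theorem toA5_gx : toA5 gx = qa := PresentedGroup.toGroup.of _

theorem toA5_gy : toA5 gy = qb := PresentedGroup.toGroup.of _

theorem orderOf_dvd_card_range {G H : Type*} [Group G] [Group H] [Finite H] (f : G →* H) (g : G) :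
    orderOf (f g) ∣ Nat.card f.range := by
  have h1 : orderOf (⟨f g, g, rfl⟩ : f.range) = orderOf (f g) := Subgroup.orderOf_mk _ _
  rw [← h1]
  exact orderOf_dvd_natCard _

theorem toA5_surjective : Function.Surjective toA5 := by
  rw [← MonoidHom.range_eq_top]
  have hcard : Nat.card (alternatingGroup (Fin 5)) = 60 := by
    rw [Nat.card_eq_fintype_card]
    decide
  have h2 : orderOf qa = 2 := orderOf_eq_prime (by rw [pow_two]; exact qa_sq) qa_ne
  have h3 : orderOf qb = 3 := orderOf_eq_prime (by
    rw [pow_succ, pow_two]; exact qb_cube) qb_ne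
  haveI : Fact (Nat.Prime 5) := ⟨by norm_num⟩
  have h5 : orderOf (qa * qb) = 5 := orderOf_eq_prime qab_pow qab_ne
  have d2 : 2 ∣ Nat.card toA5.range := by
    have := orderOf_dvd_card_range toA5 gx
    rwa [toA5_gx, h2] at this
  have d3 : 3 ∣ Nat.card toA5.range := by
    have := orderOf_dvd_card_range toA5 gy
    rwa [toA5_gy, h3] at this
  have d5 : 5 ∣ Nat.card toA5.range := by
    have := orderOf_dvd_card_range toA5 (gx * gy)
    rwa [map_mul, toA5_gx, toA5_gy, h5] at this
  have d30 : 30 ∣ Nat.card toA5.range := by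
    have h6 : 6 ∣ Nat.card toA5.range :=
      Nat.Coprime.mul_dvd_of_dvd_of_dvd (by norm_num) d2 d3
    exact Nat.Coprime.mul_dvd_of_dvd_of_dvd (by norm_num : Nat.Coprime 6 5) h6 d5
  have hidx := Subgroup.card_mul_index toA5.range
  rw [hcard] at hidx
  obtain ⟨k, hk⟩ := d30
  have hk0 : k ≠ 0 := by
    rintro rfl
    rw [mul_zero] at hk
    have : 0 < Nat.card toA5.range := Nat.card_pos
    omega
  have hidx2 : toA5.range.index = 1 ∨ toA5.range.index = 2 := by
    rw [hk] at hidx
    have : k * toA5.range.index = 2 := by nlinarith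
    have hle : toA5.range.index ∣ 2 := Dvd.intro_left _ this
    have := (Nat.dvd_prime Nat.prime_two).mp hle
    exact this
  rcases hidx2 with h1 | h2'
  · exact Subgroup.index_eq_one.mp h1
  · haveI : toA5.range.Normal := Subgroup.normal_of_index_eq_two h2'
    haveI := alternatingGroup.isSimpleGroup_five
    rcases Subgroup.Normal.eq_bot_or_eq_top (H := toA5.range) inferInstance with hb | ht
    · exfalso
      rw [hb, Subgroup.index_bot, hcard] at h2'
      omega
    · exact ht

/-- the von Dyck group `(2,3,5)` is `A₅`. -/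
noncomputable def dyckEquiv : Dyck ≃* alternatingGroup (Fin 5) := by
  haveI : Finite Dyck := dyck_card.1
  have hcard : Nat.card (alternatingGroup (Fin 5)) = 60 := by
    rw [Nat.card_eq_fintype_card]
    decide
  have hb : Function.Bijective toA5 :=
    Function.Surjective.bijective_of_nat_card_le toA5_surjective (by
      rw [hcard]; exact dyck_card.2)
  exact MulEquiv.ofBijective toA5 hb

/-- Any nontrivial `(2,3,5)`-generated subgroup is a copy of `A₅`. -/
theorem exists_A5 {G : Type*} [Group G] (x y : G) (hx : x * x = 1) (hy : y * y * y = 1)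
    (hxy : (x * y) ^ 5 = 1) (hne : x ≠ 1) :
    ∃ H : Subgroup G, Nonempty (H ≃* alternatingGroup (Fin 5)) := by
  let φ : Dyck →* G :=
    PresentedGroup.toGroup (f := fun b => cond b y x) (by
      intro r hr
      simp only [rels, Set.mem_insert_iff, Set.mem_singleton_iff] at hr
      rcases hr with rfl | rfl | rfl
      · simp only [map_mul, FreeGroup.lift_apply_of, cond_false]
        exact hx
      · simp only [map_mul, FreeGroup.lift_apply_of, cond_true]
        exact hy
      · simp only [map_pow, map_mul, FreeGroup.lift_apply_of, cond_false, cond_true]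
        exact hxy)
  have hφx : φ gx = x := PresentedGroup.toGroup.of _
  haveI := alternatingGroup.isSimpleGroup_five
  haveI : Nontrivial Dyck := dyckEquiv.toEquiv.nontrivial
  haveI : IsSimpleGroup Dyck :=
    IsSimpleGroup.isSimpleGroup_of_surjective dyckEquiv.symm.toMonoidHom dyckEquiv.symm.surjective
  have hinj : Function.Injective φ := by
    rw [← MonoidHom.ker_eq_bot_iff]
    rcases Subgroup.Normal.eq_bot_or_eq_top (H := φ.ker) inferInstance with hb | ht
    · exact hb
    · exfalso
      have : gx ∈ φ.ker := by rw [ht]; trivial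
      rw [MonoidHom.mem_ker, hφx] at this
      exact hne this
  exact ⟨φ.range, ⟨(MonoidHom.ofInjective hinj).symm.trans dyckEquiv⟩⟩

end Cfsg.Agent.Helper12.Ico
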