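import Mathlib

/-!
# Maximal subgroups of `PSL₂(q)` via Dickson's theorem (helper12), part 1:
abstract facts on derived subgroups
-/

set_option autoImplicit false

namespace Cfsg.Agent.Helper12.PSL2Max

section abstract

variable {A B : Type*} [Group A] [Group B]

/-- the map induced on derived subgroups -/
def commMap (f : A →* B) : commutator A →* commutator B :=
  (f.comp (commutator A).subtype).codRestrict (commutator B) (by
    intro x
    have h1 : (commutator A).map f ≤ commutator B := by
      rw [commutator_def, commutator_def, Subgroup.map_commutator]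
      exact Subgroup.commutator_mono le_top le_top
    exact h1 ⟨x.1, x.2, rfl⟩)

theorem commMap_coe (f : A →* B) (x : commutator A) : ((commMap f x : commutator B) : B) = f x :=
  rfl

theorem commMap_injective (f : A →* B) (hf : Function.Injective f) :
    Function.Injective (commMap f) := by
  intro x y hxy
  have h1 : f x = f y := congrArg Subtype.val hxy
  exact Subtype.ext (hf h1)

theorem commMap_surjective (f : A →* B) (hf : Function.Surjective f) :
    Function.Surjective (commMap f) := by
  rintro ⟨y, hy⟩
  have h1 : (commutator A).map f = commutator B := by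
    rw [commutator_def, commutator_def, Subgroup.map_commutator]
    congr 1
    · exact Subgroup.map_top_of_surjective f hf
    · exact Subgroup.map_top_of_surjective f hf
  rw [← h1] at hy
  obtain ⟨x, hx, rfl⟩ := hy
  exact ⟨⟨x, hx⟩, rfl⟩

theorem isCyclic_commutator_of_injective (f : A →* B) (hf : Function.Injective f)
    (h : IsCyclic (commutator B)) : IsCyclic (commutator A) :=
  isCyclic_of_injective (commMap f) (commMap_injective f hf)

theorem isPGroup_commutator_of_injective {p : ℕ} (f : A →* B) (hf : Function.Injective f)
    (h : IsPGroup p (commutator B)) : IsPGroup p (commutator A) :=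
  h.of_injective (commMap f) (commMap_injective f hf)

theorem isPGroup_commutator_of_surjective {p : ℕ} (f : A →* B) (hf : Function.Surjective f)
    (h : IsPGroup p (commutator A)) : IsPGroup p (commutator B) :=
  h.of_surjective (commMap f) (commMap_surjective f hf)

theorem isCyclic_commutator_of_le {G : Type*} [Group G] {H M : Subgroup G} (h : H ≤ M)
    (hM : IsCyclic (commutator ↥M)) : IsCyclic (commutator ↥H) :=
  isCyclic_commutator_of_injective (Subgroup.inclusion h) (Subgroup.inclusion_injective h) hM

theorem isPGroup_commutator_of_le {G : Type*} [Group G] {p : ℕ} {H M : Subgroup G} (h : H ≤ M)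
    (hM : IsPGroup p (commutator ↥M)) : IsPGroup p (commutator ↥H) :=
  isPGroup_commutator_of_injective (Subgroup.inclusion h) (Subgroup.inclusion_injective h) hM

/-- a commutative group has cyclic (trivial) derived subgroup -/
theorem isCyclic_commutator_of_comm (hA : ∀ a b : A, a * b = b * a) :
    IsCyclic (commutator A) := by
  have h1 : commutator A = ⊥ := by
    rw [commutator_def, Subgroup.commutator_eq_bot_iff_le_centralizer]
    intro x _
    rw [Subgroup.mem_centralizer_iff]
    intro y _
    exact hA y x
  rw [h1]
  exact isCyclic_of_subsingleton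

end abstract

section simple

variable {X : Type*} [Group X] [IsSimpleGroup X]

theorem commutator_eq_top_of_simple (hX : ¬ ∀ a b : X, a * b = b * a) : commutator X = ⊤ := by
  have hn : (commutator X).Normal := inferInstance
  rcases hn.eq_bot_or_eq_top with h | h
  · exfalso
    apply hX
    intro a b
    have h1 := Subgroup.commutator_mem_commutator (Subgroup.mem_top a) (Subgroup.mem_top b)
    rw [← commutator_def, h, Subgroup.mem_bot, commutatorElement_eq_one_iff_mul_comm] at h1
    exact h1
  · exact h

theorem not_isCyclic_commutator_of_simple (hX : ¬ ∀ a b : X, a * b = b * a) :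
    ¬ IsCyclic (commutator X) := by
  intro hc
  rw [commutator_eq_top_of_simple hX] at hc
  have h1 : IsCyclic X := (Subgroup.topEquiv (G := X)).isCyclic.1 hc
  apply hX
  intro a b
  obtain ⟨g, hg⟩ := h1.exists_generator
  obtain ⟨i, rfl⟩ := Subgroup.mem_zpowers_iff.1 (hg a)
  obtain ⟨j, rfl⟩ := Subgroup.mem_zpowers_iff.1 (hg b)
  rw [← zpow_add, ← zpow_add, add_comm]

theorem not_isPGroup_commutator_of_simple [Finite X] (hX : ¬ ∀ a b : X, a * b = b * a)
    (p : ℕ) [Fact p.Prime] : ¬ IsPGroup p (commutator X) := by
  intro hc
  rw [commutator_eq_top_of_simple hX] at hc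
  have h1 : IsPGroup p X := hc.of_surjective (Subgroup.topEquiv (G := X)).toMonoidHom
    (Subgroup.topEquiv (G := X)).surjective
  haveI h2 : Group.IsNilpotent X := h1.isNilpotent
  have h3 : Group.IsSolvable X := inferInstance
  exact hX (IsSimpleGroup.comm_iff_isSolvable.2 h3)

end simple

section dihedral

/-- the sign character of a dihedral group -/
def dihedralSign (k : ℕ) : DihedralGroup k →* ℤˣ where
  toFun g := match g with
    | DihedralGroup.r _ => 1
    | DihedralGroup.sr _ => -1
  map_one' := rfl
  map_mul' := by
    intro a b
    cases a <;> cases b <;> simp [DihedralGroup.r_mul_r, DihedralGroup.r_mul_sr,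
      DihedralGroup.sr_mul_r, DihedralGroup.sr_mul_sr]

theorem isCyclic_commutator_dihedral (k : ℕ) : IsCyclic (commutator (DihedralGroup k)) := by
  have h1 : commutator (DihedralGroup k) ≤ (dihedralSign k).ker :=
    Abelianization.commutator_subset_ker _
  have h2 : (dihedralSign k).ker ≤ Subgroup.zpowers (DihedralGroup.r (1 : ZMod k)) := by
    intro g hg
    rw [MonoidHom.mem_ker] at hg
    cases g with
    | r i =>
      rw [Subgroup.mem_zpowers_iff]
      refine ⟨(i.cast : ℤ), ?_⟩
      rw [DihedralGroup.r_one_zpow]
      simp
    | sr i =>
      exfalso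
      change (-1 : ℤˣ) = 1 at hg
      exact absurd hg (by decide)
  exact Subgroup.isCyclic_of_le (le_trans h1 h2)

end dihedral

end Cfsg.Agent.Helper12.PSL2Max
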