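import Mathlib
import Cfsg.Agent.Lib.Helper12.PSL2Max1
import Cfsg.Agent.Lib.Helper11.DicksonRef

/-!
# Maximal subgroups of `PSL₂(q)` via Dickson's theorem (helper12), part 2:
the Borel case and the maximality criterion
-/

set_option autoImplicit false

namespace Cfsg.Agent.Helper12.PSL2Max

open Matrix Matrix.SpecialLinearGroup
open scoped MatrixGroups
open Cfsg.Agent.Helper2.SL2S Cfsg.Agent.Helper11.Klein Cfsg.Agent.Helper12

variable {F : Type*} [Field F]

/-- the diagonal character of the Borel subgroup -/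
def borelChar : borelSL2 F →* Fˣ where
  toFun x := Units.mk0 (((x : SL(2, F)) : Matrix (Fin 2) (Fin 2) F) 0 0) (borel_entry_00_ne x)
  map_one' := by
    apply Units.ext
    simp
  map_mul' := by
    intro x y
    apply Units.ext
    simp only [Units.val_mk0, Units.val_mul]
    rw [Subgroup.coe_mul, coe_mul, Matrix.mul_apply, Fin.sum_univ_two, borel_entry_10 y,
      mul_zero, add_zero]

theorem borelChar_coe (x : borelSL2 F) :
    ((borelChar x : Fˣ) : F) = ((x : SL(2, F)) : Matrix (Fin 2) (Fin 2) F) 0 0 := rfl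

theorem eq_u_of_borelChar (x : borelSL2 F) (hx : borelChar x = 1) :
    (x : SL(2, F)) = u (((x : SL(2, F)) : Matrix (Fin 2) (Fin 2) F) 0 1) := by
  have h00 : ((x : SL(2, F)) : Matrix (Fin 2) (Fin 2) F) 0 0 = 1 := by
    rw [← borelChar_coe, hx, Units.val_one]
  apply Subtype.ext
  rw [u_coe]
  ext i j
  fin_cases i <;> fin_cases j
  · exact h00
  · rfl
  · exact borel_entry_10 x
  · show ((x : SL(2, F)) : Matrix (Fin 2) (Fin 2) F) 1 1 = 1
    rw [borel_entry_11, h00, inv_one]

theorem pow_p_of_borelChar (p : ℕ) [Fact p.Prime] [CharP F p] (x : borelSL2 F)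
    (hx : borelChar x = 1) : x ^ p = 1 := by
  apply Subtype.ext
  rw [Subgroup.coe_pow, eq_u_of_borelChar x hx, Cfsg.Agent.Helper4.DSL.u_pow_p, Subgroup.coe_one]

/-- **the Borel case**: a subgroup whose preimage has a frame has a `p`-group as derived
subgroup -/
theorem isPGroup_commutator_of_frame (p : ℕ) [Fact p.Prime] [CharP F p]
    (M : Subgroup (Matrix.ProjectiveSpecialLinearGroup (Fin 2) F)) (s : SL(2, F))
    (hs : ∀ h ∈ preim M, ((s * h * s⁻¹ : SL(2, F)) : Matrix (Fin 2) (Fin 2) F) 1 0 = 0) :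
    IsPGroup p (commutator ↥M) := by
  let ψ : ↥(preim M) →* borelSL2 F :=
    { toFun := fun h => ⟨s * h.1 * s⁻¹, (mem_borelSL2_iff _).2 (hs h.1 h.2)⟩
      map_one' := by
        apply Subtype.ext
        simp
      map_mul' := by
        intro a b
        apply Subtype.ext
        simp only [Subgroup.coe_mul]
        group }
  have hψ : Function.Injective ψ := by
    intro a b hab
    have h1 : s * a.1 * s⁻¹ = s * b.1 * s⁻¹ := congrArg Subtype.val hab
    exact Subtype.ext (mul_left_cancel (mul_right_cancel h1))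
  have h1 : commutator ↥(preim M) ≤ (borelChar.comp ψ).ker :=
    Abelianization.commutator_subset_ker _
  have h2 : IsPGroup p (borelChar.comp ψ).ker := by
    intro g
    refine ⟨1, ?_⟩
    rw [pow_one]
    have hg : borelChar (ψ g.1) = 1 := g.2
    have h3 := pow_p_of_borelChar p (ψ g.1) hg
    rw [← map_pow] at h3
    have h4 : g.1 ^ p = 1 := hψ (by rw [h3, map_one])
    exact Subtype.ext h4
  have h3 : IsPGroup p (commutator ↥(preim M)) := h2.to_le h1
  let π : ↥(preim M) →* ↥M :=
    (QuotientGroup.mk' (Subgroup.center (Matrix.SpecialLinearGroup (Fin 2) F))).subgroupComap M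
  have hπ : Function.Surjective π :=
    MonoidHom.subgroupComap_surjective_of_surjective _ _ (QuotientGroup.mk'_surjective _)
  exact isPGroup_commutator_of_surjective π hπ h3

/-- **maximality criterion** from Dickson's theorem -/
theorem isCoatom_of_dickson [Fintype F] (p : ℕ) [Fact p.Prime] [CharP F p] {q : ℕ}
    (hF : Fintype.card F = q)
    (H : Subgroup (Matrix.ProjectiveSpecialLinearGroup (Fin 2) F)) (hH : H ≠ ⊤)
    (h1 : ¬ IsCyclic (commutator ↥H)) (h2 : ¬ IsPGroup p (commutator ↥H))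
    (h3 : ∀ M : Subgroup (Matrix.ProjectiveSpecialLinearGroup (Fin 2) F), H < M → M ≠ ⊤ →
      ¬ Nonempty (M ≃* alternatingGroup (Fin 4)) ∧ ¬ Nonempty (M ≃* Equiv.Perm (Fin 4)) ∧
      ¬ Nonempty (M ≃* alternatingGroup (Fin 5)) ∧
      ∀ (K : Type) (_ : Field K) (_ : Fintype K) (m : ℕ), Fintype.card K ^ m = q →
        ¬ Nonempty (M ≃* Matrix.ProjectiveSpecialLinearGroup (Fin 2) K) ∧
        ¬ Nonempty (M ≃* Matrix.ProjGenLinGroup (Fin 2) K)) : IsCoatom H := by
  refine ⟨hH, ?_⟩
  intro M hM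
  by_contra hMtop
  obtain ⟨hA4, hS4, hA5, hK⟩ := h3 M hM hMtop
  rcases Cfsg.Agent.Helper11.Dickson.dickson_refined hF p M with
    ⟨k, _, (⟨hc, _⟩ | ⟨e⟩)⟩ | ⟨_, s, hs⟩ | h | h | h | ⟨K, iK, iF, m, hm, h⟩
  · apply h1
    apply isCyclic_commutator_of_le hM.le
    apply isCyclic_commutator_of_comm
    intro a b
    obtain ⟨g, hg⟩ := hc.exists_generator
    obtain ⟨i, rfl⟩ := Subgroup.mem_zpowers_iff.1 (hg a)
    obtain ⟨j, rfl⟩ := Subgroup.mem_zpowers_iff.1 (hg b)
    rw [← _root_.zpow_add, ← _root_.zpow_add, add_comm]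
  · obtain ⟨e⟩ := e
    apply h1
    apply isCyclic_commutator_of_le hM.le
    exact isCyclic_commutator_of_injective e.toMonoidHom e.injective
      (isCyclic_commutator_dihedral k)
  · apply h2
    exact isPGroup_commutator_of_le hM.le (isPGroup_commutator_of_frame p M s hs)
  · exact hA4 h
  · exact hS4 h
  · exact hA5 h
  · rcases h with h | h
    · exact (hK K iK iF m hm).1 h
    · exact (hK K iK iF m hm).2 h

end Cfsg.Agent.Helper12.PSL2Max
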