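import Mathlib
import Cfsg.Agent.Lib.Helper12.PSL2Max2
import Cfsg.Agent.Lib.Helper12.Icosa3
import Cfsg.Agent.Lib.Helper11.DicksonIdx

/-!
# Maximal subgroups of `PSL₂(q)` via Dickson's theorem (helper12), part 3: orders
-/

set_option autoImplicit false

namespace Cfsg.Agent.Helper12.PSL2Max

open Matrix Matrix.SpecialLinearGroup
open scoped MatrixGroups

theorem card_lt_of_lt {G : Type*} [Group G] [Finite G] {H M : Subgroup G} (h : H < M) :
    Nat.card H < Nat.card M := by
  rcases lt_or_eq_of_le (Subgroup.card_le_of_le h.le) with h1 | h1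
  · exact h1
  · exfalso
    exact h.ne (Subgroup.eq_of_le_of_card_ge h.le h1.ge)

theorem card_PSL2_mul' (F : Type*) [Field F] [Fintype F] {q : ℕ} (hq : Fintype.card F = q) :
    Nat.gcd 2 (q - 1) * Nat.card (Matrix.ProjectiveSpecialLinearGroup (Fin 2) F) =
      q * (q - 1) * (q + 1) := by
  rw [← hq]; exact Cfsg.Agent.Helper11.Dickson.card_PSL2_mul

theorem card_PGL2' (K : Type*) [Field K] [Fintype K] {k : ℕ} (hk : Fintype.card K = k) :
    Nat.card (Matrix.ProjGenLinGroup (Fin 2) K) = k * (k - 1) * (k + 1) := by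
  rw [← hk]; exact Cfsg.Agent.Helper11.Dickson.card_PGL2_eq K

theorem gcd_two_pos (n : ℕ) : 0 < Nat.gcd 2 n := Nat.gcd_pos_of_pos_left _ (by norm_num)

/-- fields of the same order have `PSL₂` of the same order -/
theorem card_PSL2_congr (K F : Type*) [Field K] [Fintype K] [Field F] [Fintype F]
    (h : Fintype.card K = Fintype.card F) :
    Nat.card (Matrix.ProjectiveSpecialLinearGroup (Fin 2) K) =
      Nat.card (Matrix.ProjectiveSpecialLinearGroup (Fin 2) F) := by
  have h1 := card_PSL2_mul' K h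
  have h2 := card_PSL2_mul' F rfl
  rw [← h2] at h1
  exact Nat.eq_of_mul_eq_mul_left (gcd_two_pos _) h1

theorem gcd_two_odd {q : ℕ} (hq : Odd q) : Nat.gcd 2 (q - 1) = 2 := by
  obtain ⟨t, ht⟩ := hq
  rw [ht, Nat.add_sub_cancel]
  exact Nat.gcd_eq_left (Dvd.intro _ rfl)

theorem gcd_two_even {q : ℕ} (hq : Even q) (h0 : 0 < q) : Nat.gcd 2 (q - 1) = 1 := by
  obtain ⟨t, ht⟩ := hq
  have h1 : q - 1 = 2 * (t - 1) + 1 := by omega
  rw [h1]
  have : Nat.Coprime 2 (2 * (t - 1) + 1) := by
    rw [Nat.coprime_two_left]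
    exact ⟨t - 1, rfl⟩
  exact this

/-- the order of `PGL₂(K)` is twice that of `PSL₂(F)` for odd `#K = #F` -/
theorem card_PGL2_eq_two_mul (K F : Type*) [Field K] [Fintype K] [Field F] [Fintype F]
    (h : Fintype.card K = Fintype.card F) (hodd : Odd (Fintype.card F)) :
    Nat.card (Matrix.ProjGenLinGroup (Fin 2) K) =
      2 * Nat.card (Matrix.ProjectiveSpecialLinearGroup (Fin 2) F) := by
  have h1 := card_PGL2' K h
  have h2 := card_PSL2_mul' F rfl
  rw [gcd_two_odd hodd] at h2
  rw [h1, h2]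

theorem card_A5 : Nat.card (alternatingGroup (Fin 5)) = 60 := by
  rw [Nat.card_eq_fintype_card]; decide

theorem card_A4 : Nat.card (alternatingGroup (Fin 4)) = 12 := by
  rw [Nat.card_eq_fintype_card]; decide

theorem card_S4 : Nat.card (Equiv.Perm (Fin 4)) = 24 := by
  rw [Nat.card_eq_fintype_card]; decide

theorem A5_noncomm : ¬ ∀ a b : alternatingGroup (Fin 5), a * b = b * a := by
  intro h
  have := h Cfsg.Agent.Helper12.Ico.qa Cfsg.Agent.Helper12.Ico.qb
  revert this
  decide

theorem not_isCyclic_commutator_A5 : ¬ IsCyclic (commutator (alternatingGroup (Fin 5))) := by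
  exact not_isCyclic_commutator_of_simple A5_noncomm

theorem not_isPGroup_commutator_A5 (p : ℕ) [Fact p.Prime] :
    ¬ IsPGroup p (commutator (alternatingGroup (Fin 5))) := by
  exact not_isPGroup_commutator_of_simple A5_noncomm p

end Cfsg.Agent.Helper12.PSL2Max
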