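import Mathlib
import Cfsg.Prelude.Def_Blocks
import Cfsg.Agent.Lib.Helper1.TLDRES
import Cfsg.Agent.Lib.Helper24.CharHom

/-!
# S4503, Step C, part 1: the projection `C_G(P) = P × K → K` and inflation of characters of `K`

(helper12, for helper14's proof of S4503)
-/

set_option autoImplicit false
set_option linter.unusedSectionVars false
set_option linter.unusedVariables false

namespace Cfsg.Agent.Helper12.BRC

open Cfsg Cfsg.Agent.Helper24 Cfsg.Agent.Helper5.TLD
open scoped ComplexConjugate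

section Proj

variable (p : ℕ) [Fact p.Prime] {G : Type*} [Group G] [Finite G]

/-- an exponent killing `P` and fixing `K` -/
theorem exists_proj_exponent (K : Subgroup G) (hK2 : ¬ p ∣ Nat.card K) :
    ∃ m : ℕ, p ∣ m ∧ m ≡ 1 [MOD Nat.card K] := by
  have hp : p.Prime := Fact.out
  have hcop : Nat.Coprime p (Nat.card K) := (Nat.Prime.coprime_iff_not_dvd hp).2 hK2
  obtain ⟨m, hm0, hm1⟩ := Nat.chineseRemainder hcop 0 1
  exact ⟨m, (Nat.modEq_zero_iff_dvd).1 hm0, hm1⟩

theorem pow_of_decomp (P : Sylow p G) (hP : Nat.card P = p) (K : Subgroup G) (m : ℕ)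
    (hm0 : p ∣ m) (hm1 : m ≡ 1 [MOD Nat.card K]) {u k : G} (hu : u ∈ (P : Subgroup G))
    (hk : k ∈ K) (huk : u * k = k * u) : (u * k) ^ m = k := by
  have h1 : u ^ m = 1 := by
    obtain ⟨c, rfl⟩ := hm0
    have hup : u ^ p = 1 := by
      have h := Subgroup.orderOf_dvd_natCard (P : Subgroup G) hu
      rw [hP] at h
      exact orderOf_dvd_iff_pow_eq_one.1 h
    rw [pow_mul, hup, one_pow]
  have h2 : k ^ m = k := by
    have hk' : k ^ Nat.card K = 1 :=
      orderOf_dvd_iff_pow_eq_one.1 (Subgroup.orderOf_dvd_natCard K hk)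
    have hmod : m % Nat.card K = 1 % Nat.card K := hm1
    rw [pow_eq_pow_mod m hk', hmod, ← pow_eq_pow_mod 1 hk', pow_one]
  rw [(show Commute u k from huk).mul_pow, h1, h2, one_mul]

/-- elements of `P` commute with elements of `C_G(P)` -/
theorem comm_of_mem (P : Sylow p G) {u c : G} (hu : u ∈ (P : Subgroup G))
    (hc : c ∈ Subgroup.centralizer ((P : Subgroup G) : Set G)) : u * c = c * u :=
  (Subgroup.mem_centralizer_iff.1 hc u hu)

/-- the projection of `C_G(P) = P × K` onto `K`, as a power map -/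
noncomputable def projK (P : Sylow p G) (hP : Nat.card P = p) (K : Subgroup G)
    (hK1 : ∀ y : G, y ∈ K ↔
      (y ∈ Subgroup.centralizer ((P : Subgroup G) : Set G) ∧ ¬ p ∣ orderOf y))
    (hK2 : ¬ p ∣ Nat.card K) :
    Subgroup.centralizer ((P : Subgroup G) : Set G) →* K where
  toFun c := ⟨(c : G) ^ (exists_proj_exponent p K hK2).choose, by
    obtain ⟨hm0, hm1⟩ := (exists_proj_exponent p K hK2).choose_spec
    obtain ⟨u, k, hu, hk, hc⟩ := res_decomp p P hP K hK1 (c : G) c.2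
    rw [hc, pow_of_decomp p P hP K _ hm0 hm1 hu hk (comm_of_mem p P hu ((hK1 k).1 hk).1)]
    exact hk⟩
  map_one' := by
    apply Subtype.ext
    simp
  map_mul' c c' := by
    obtain ⟨hm0, hm1⟩ := (exists_proj_exponent p K hK2).choose_spec
    obtain ⟨u, k, hu, hk, hc⟩ := res_decomp p P hP K hK1 (c : G) c.2
    obtain ⟨u', k', hu', hk', hc'⟩ := res_decomp p P hP K hK1 (c' : G) c'.2
    apply Subtype.ext
    have hkC := ((hK1 k).1 hk).1
    have hk'C := ((hK1 k').1 hk').1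
    have hprod : ((c * c' : Subgroup.centralizer ((P : Subgroup G) : Set G)) : G) =
        (u * u') * (k * k') := by
      rw [Subgroup.coe_mul, hc, hc']
      have h1 : u' * k = k * u' := comm_of_mem p P hu' hkC
      calc u * k * (u' * k') = u * (k * u') * k' := by group
        _ = u * (u' * k) * k' := by rw [h1]
        _ = u * u' * (k * k') := by group
    have hcomm : (u * u') * (k * k') = (k * k') * (u * u') :=
      comm_of_mem p P (Subgroup.mul_mem _ hu hu') (Subgroup.mul_mem _ hkC hk'C)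
    show ((c * c' : Subgroup.centralizer ((P : Subgroup G) : Set G)) : G) ^ _ =
      (c : G) ^ _ * (c' : G) ^ _
    rw [hprod, pow_of_decomp p P hP K _ hm0 hm1 (Subgroup.mul_mem _ hu hu')
      (Subgroup.mul_mem _ hk hk') hcomm, hc, hc',
      pow_of_decomp p P hP K _ hm0 hm1 hu hk (comm_of_mem p P hu hkC),
      pow_of_decomp p P hP K _ hm0 hm1 hu' hk' (comm_of_mem p P hu' hk'C)]

theorem projK_spec (P : Sylow p G) (hP : Nat.card P = p) (K : Subgroup G)
    (hK1 : ∀ y : G, y ∈ K ↔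
      (y ∈ Subgroup.centralizer ((P : Subgroup G) : Set G) ∧ ¬ p ∣ orderOf y))
    (hK2 : ¬ p ∣ Nat.card K) (c : Subgroup.centralizer ((P : Subgroup G) : Set G))
    {u k : G} (hu : u ∈ (P : Subgroup G)) (hk : k ∈ K) (hc : (c : G) = u * k) :
    ((projK p P hP K hK1 hK2 c : K) : G) = k := by
  obtain ⟨hm0, hm1⟩ := (exists_proj_exponent p K hK2).choose_spec
  show (c : G) ^ _ = k
  rw [hc, pow_of_decomp p P hP K _ hm0 hm1 hu hk (comm_of_mem p P hu ((hK1 k).1 hk).1)]

theorem projK_of_mem_K (P : Sylow p G) (hP : Nat.card P = p) (K : Subgroup G)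
    (hK1 : ∀ y : G, y ∈ K ↔
      (y ∈ Subgroup.centralizer ((P : Subgroup G) : Set G) ∧ ¬ p ∣ orderOf y))
    (hK2 : ¬ p ∣ Nat.card K) (k : K) :
    projK p P hP K hK1 hK2 ⟨(k : G), ((hK1 k).1 k.2).1⟩ = k := by
  apply Subtype.ext
  exact projK_spec p P hP K hK1 hK2 _ (Subgroup.one_mem _) k.2 (one_mul _).symm

theorem projK_of_mem_P (P : Sylow p G) (hP : Nat.card P = p) (K : Subgroup G)
    (hK1 : ∀ y : G, y ∈ K ↔
      (y ∈ Subgroup.centralizer ((P : Subgroup G) : Set G) ∧ ¬ p ∣ orderOf y))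
    (hK2 : ¬ p ∣ Nat.card K) (c : Subgroup.centralizer ((P : Subgroup G) : Set G))
    (hc : (c : G) ∈ (P : Subgroup G)) : projK p P hP K hK1 hK2 c = 1 := by
  apply Subtype.ext
  exact projK_spec p P hP K hK1 hK2 c hc (Subgroup.one_mem _) (mul_one _).symm

theorem projK_surjective (P : Sylow p G) (hP : Nat.card P = p) (K : Subgroup G)
    (hK1 : ∀ y : G, y ∈ K ↔
      (y ∈ Subgroup.centralizer ((P : Subgroup G) : Set G) ∧ ¬ p ∣ orderOf y))
    (hK2 : ¬ p ∣ Nat.card K) : Function.Surjective (projK p P hP K hK1 hK2) :=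
  fun k => ⟨_, projK_of_mem_K p P hP K hK1 hK2 k⟩

/-- inflation of an irreducible character of `K` to `C_G(P) = P × K` -/
noncomputable def inflK (P : Sylow p G) (hP : Nat.card P = p) (K : Subgroup G)
    (hK1 : ∀ y : G, y ∈ K ↔
      (y ∈ Subgroup.centralizer ((P : Subgroup G) : Set G) ∧ ¬ p ∣ orderOf y))
    (hK2 : ¬ p ∣ Nat.card K) (ϑ : IrrCharacter K) :
    IrrCharacter (Subgroup.centralizer ((P : Subgroup G) : Set G)) :=
  ⟨(ϑ : K → ℂ) ∘ projK p P hP K hK1 hK2,
    isIrrCharacter_comp_of_surjective _ (projK_surjective p P hP K hK1 hK2) ϑ.2⟩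

theorem inflK_apply (P : Sylow p G) (hP : Nat.card P = p) (K : Subgroup G)
    (hK1 : ∀ y : G, y ∈ K ↔
      (y ∈ Subgroup.centralizer ((P : Subgroup G) : Set G) ∧ ¬ p ∣ orderOf y))
    (hK2 : ¬ p ∣ Nat.card K) (ϑ : IrrCharacter K)
    (c : Subgroup.centralizer ((P : Subgroup G) : Set G)) :
    (inflK p P hP K hK1 hK2 ϑ : Subgroup.centralizer ((P : Subgroup G) : Set G) → ℂ) c =
      (ϑ : K → ℂ) (projK p P hP K hK1 hK2 c) := rfl

theorem inflK_of_mem_K (P : Sylow p G) (hP : Nat.card P = p) (K : Subgroup G)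
    (hK1 : ∀ y : G, y ∈ K ↔
      (y ∈ Subgroup.centralizer ((P : Subgroup G) : Set G) ∧ ¬ p ∣ orderOf y))
    (hK2 : ¬ p ∣ Nat.card K) (ϑ : IrrCharacter K) (k : K) :
    (inflK p P hP K hK1 hK2 ϑ : Subgroup.centralizer ((P : Subgroup G) : Set G) → ℂ)
      ⟨(k : G), ((hK1 k).1 k.2).1⟩ = (ϑ : K → ℂ) k := by
  rw [inflK_apply, projK_of_mem_K]

theorem inflK_ker (P : Sylow p G) (hP : Nat.card P = p) (K : Subgroup G)
    (hK1 : ∀ y : G, y ∈ K ↔
      (y ∈ Subgroup.centralizer ((P : Subgroup G) : Set G) ∧ ¬ p ∣ orderOf y))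
    (hK2 : ¬ p ∣ Nat.card K) (ϑ : IrrCharacter K)
    (x : Subgroup.centralizer ((P : Subgroup G) : Set G)) (hx : (x : G) ∈ (P : Subgroup G)) :
    (inflK p P hP K hK1 hK2 ϑ : Subgroup.centralizer ((P : Subgroup G) : Set G) → ℂ) x =
      (inflK p P hP K hK1 hK2 ϑ : Subgroup.centralizer ((P : Subgroup G) : Set G) → ℂ) 1 := by
  rw [inflK_apply, inflK_apply, projK_of_mem_P p P hP K hK1 hK2 x hx, map_one]

end Proj

end Cfsg.Agent.Helper12.BRC
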