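import Mathlib
import Cfsg.Prelude.Def_Characters

/-!
# S4503, Step E tool, part 1: a `p`-singular element centralizes a unique Sylow `p`-subgroup
when `|P| = p`, and the count `#{x | x⁻¹ g x ∈ C_G(P)} = |N_G(P)|`

(helper12, for S4503)
-/

set_option autoImplicit false
set_option linter.unusedSectionVars false
set_option linter.unusedVariables false
set_option linter.style.haveILetI false

namespace Cfsg.Agent.Helper12.BRE

open Cfsg

section TI

variable (p : ℕ) [Fact p.Prime] {G : Type*} [Group G] [Finite G]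

theorem card_sylow_eq (P : Sylow p G) (hP : Nat.card P = p) (Q : Sylow p G) : Nat.card Q = p := by
  rw [Sylow.card_eq_multiplicity Q, ← Sylow.card_eq_multiplicity P, hP]

/-- a Sylow `p`-subgroup (of order `p`) centralized by the `p`-singular element `g` is generated by
`g ^ (orderOf g / p)` -/
theorem sylow_eq_zpowers (P : Sylow p G) (hP : Nat.card P = p) (Q : Sylow p G) {g : G}
    (hg : p ∣ orderOf g) (hQ : ∀ u ∈ (Q : Subgroup G), g * u = u * g) :
    (Q : Subgroup G) = Subgroup.zpowers (g ^ (orderOf g / p)) := by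
  have hp : p.Prime := Fact.out
  set r : G := g ^ (orderOf g / p) with hr
  have hro : orderOf r = p := orderOf_pow_orderOf_div (orderOf_pos g).ne' hg
  have hQcard : Nat.card (Q : Subgroup G) = p := card_sylow_eq p P hP Q
  have hrcard : Nat.card (Subgroup.zpowers r) = p := by rw [Nat.card_zpowers, hro]
  have hrc : r ∈ Subgroup.centralizer ((Q : Subgroup G) : Set G) := by
    rw [Subgroup.mem_centralizer_iff]
    intro u hu
    have hc : Commute g u := hQ u hu
    exact ((hc.pow_left (orderOf g / p)).eq).symm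
  have hle : Subgroup.zpowers r ≤ Subgroup.normalizer ((Q : Subgroup G) : Set G) :=
    (Subgroup.zpowers_le.2 hrc).trans (Subgroup.centralizer_le_normalizer _)
  have hpg : IsPGroup p (Subgroup.zpowers r) := IsPGroup.of_card (n := 1) (by rw [hrcard, pow_one])
  have hsup : IsPGroup p (Subgroup.zpowers r ⊔ (Q : Subgroup G) : Subgroup G) :=
    hpg.to_sup_of_normal_right' Q.2 hle
  have heq : Subgroup.zpowers r ⊔ (Q : Subgroup G) = (Q : Subgroup G) :=
    Q.is_maximal' hsup le_sup_right
  have hrQ : Subgroup.zpowers r ≤ (Q : Subgroup G) := by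
    rw [← heq]
    exact le_sup_left
  exact (Subgroup.eq_of_le_of_card_ge hrQ (by rw [hQcard, hrcard])).symm

/-- existence of a Sylow `p`-subgroup centralized by a `p`-singular element -/
theorem exists_sylow_centralized (P : Sylow p G) (hP : Nat.card P = p) {g : G}
    (hg : p ∣ orderOf g) : ∃ Q : Sylow p G, ∀ u ∈ (Q : Subgroup G), g * u = u * g := by
  have hp : p.Prime := Fact.out
  set r : G := g ^ (orderOf g / p) with hr
  have hro : orderOf r = p := orderOf_pow_orderOf_div (orderOf_pos g).ne' hg
  have hrcard : Nat.card (Subgroup.zpowers r) = p := by rw [Nat.card_zpowers, hro]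
  have hpg : IsPGroup p (Subgroup.zpowers r) := IsPGroup.of_card (n := 1) (by rw [hrcard, pow_one])
  obtain ⟨Q, hQ⟩ := hpg.exists_le_sylow
  have hQcard : Nat.card (Q : Subgroup G) = p := card_sylow_eq p P hP Q
  have heq : Subgroup.zpowers r = (Q : Subgroup G) :=
    Subgroup.eq_of_le_of_card_ge hQ (by rw [hQcard, hrcard])
  refine ⟨Q, fun u hu => ?_⟩
  rw [← heq] at hu
  obtain ⟨k, rfl⟩ := hu
  have hc : Commute g r := (Commute.refl g).pow_right _
  exact (hc.zpow_right k).eq

/-- `x⁻¹ g x ∈ C_G(P)` iff `g` centralizes `x • P` -/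
theorem conj_mem_centralizer_iff (P : Sylow p G) (g x : G) :
    x⁻¹ * g * x ∈ Subgroup.centralizer ((P : Subgroup G) : Set G) ↔
      ∀ u ∈ ((x • P : Sylow p G) : Subgroup G), g * u = u * g := by
  constructor
  · intro h u hu
    rw [Sylow.smul_def, Sylow.pointwise_smul_def,
      Subgroup.mem_pointwise_smul_iff_inv_smul_mem] at hu
    have hu' : x⁻¹ * u * x ∈ (P : Subgroup G) := by
      have e : (MulAut.conj x)⁻¹ • u = x⁻¹ * u * x := by
        rw [← map_inv, MulAut.smul_def, MulAut.conj_apply, inv_inv]
      rw [e] at hu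
      exact hu
    have h1 := Subgroup.mem_centralizer_iff.1 h _ hu'
    -- (x⁻¹ u x)(x⁻¹ g x) = (x⁻¹ g x)(x⁻¹ u x)
    have h2 : x⁻¹ * (u * g) * x = x⁻¹ * (g * u) * x := by
      calc x⁻¹ * (u * g) * x = (x⁻¹ * u * x) * (x⁻¹ * g * x) := by group
        _ = (x⁻¹ * g * x) * (x⁻¹ * u * x) := h1
        _ = x⁻¹ * (g * u) * x := by group
    have h3 := mul_left_cancel (mul_right_cancel h2)
    exact h3.symm
  · intro h
    rw [Subgroup.mem_centralizer_iff]
    intro u hu
    have hu' : x * u * x⁻¹ ∈ ((x • P : Sylow p G) : Subgroup G) := by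
      rw [Sylow.smul_def, Sylow.pointwise_smul_def,
        Subgroup.mem_pointwise_smul_iff_inv_smul_mem]
      have e : (MulAut.conj x)⁻¹ • (x * u * x⁻¹) = u := by
        rw [← map_inv, MulAut.smul_def, MulAut.conj_apply, inv_inv]
        group
      rw [e]
      exact hu
    have h1 := h _ hu'
    calc u * (x⁻¹ * g * x) = x⁻¹ * ((x * u * x⁻¹) * g) * x := by group
      _ = x⁻¹ * (g * (x * u * x⁻¹)) * x := by rw [h1]
      _ = x⁻¹ * g * x * u := by group

/-- the number of `x` with `x • P = Q` is `|N_G(P)|` -/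
theorem card_smul_eq (P Q : Sylow p G) :
    Nat.card {x : G // x • P = Q} = Nat.card (Subgroup.normalizer ((P : Subgroup G) : Set G)) := by
  obtain ⟨x₀, hx₀⟩ := MulAction.exists_smul_eq G P Q
  symm
  refine Nat.card_congr
    { toFun := fun n => ⟨x₀ * (n : G), by
        rw [mul_smul, Sylow.smul_eq_iff_mem_normalizer.2 n.2, hx₀]⟩
      invFun := fun x => ⟨x₀⁻¹ * (x : G), Sylow.smul_eq_iff_mem_normalizer.1 (by
        rw [mul_smul, x.2, ← hx₀, inv_smul_smul])⟩
      left_inv := fun n => by
        apply Subtype.ext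
        simp
      right_inv := fun x => by
        apply Subtype.ext
        simp }

/-- **the count**: a `p`-singular element lies in exactly `|N_G(P)|` conjugates (counted with
the conjugating element) of `C_G(P)` -/
theorem card_conj_mem_centralizer (P : Sylow p G) (hP : Nat.card P = p) {g : G}
    (hg : p ∣ orderOf g) :
    Nat.card {x : G // x⁻¹ * g * x ∈ Subgroup.centralizer ((P : Subgroup G) : Set G)} =
      Nat.card (Subgroup.normalizer ((P : Subgroup G) : Set G)) := by
  obtain ⟨Q, hQ⟩ := exists_sylow_centralized p P hP hg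
  rw [← card_smul_eq p P Q]
  refine Nat.card_congr (Equiv.subtypeEquivRight fun x => ?_)
  rw [conj_mem_centralizer_iff]
  constructor
  · intro h
    apply Sylow.ext
    rw [sylow_eq_zpowers p P hP (x • P) hg h, sylow_eq_zpowers p P hP Q hg hQ]
  · intro h
    rw [h]
    exact hQ

end TI

end Cfsg.Agent.Helper12.BRE
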