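import Mathlib
import Cfsg.Prelude.Def_Characters
import Cfsg.Agent.Lib.Helper12.BRE1
import Cfsg.Agent.Lib.Helper12.BRC1

/-!
# S4503, Step E tool, part 2: the TI-partition formula

For a class function `F` vanishing on the `p`-regular elements (`|P| = p`):
`|N_G(P)| * ∑_{g ∈ G} F g = |G| * ∑_{c ∈ C_G(P)} F c`, and `∑_{c ∈ C_G(P)} = ∑_{a ∈ P} ∑_{k ∈ K}`.

(helper12, for S4503)
-/

set_option autoImplicit false
set_option linter.unusedSectionVars false
set_option linter.unusedVariables false
set_option linter.style.haveILetI false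

namespace Cfsg.Agent.Helper12.BRE

open Cfsg Cfsg.Agent.Helper12.BRC

section Formula

variable (p : ℕ) [Fact p.Prime] {G : Type*} [Group G] [Finite G]

/-- **TI-partition formula.** -/
theorem ti_sum_formula (P : Sylow p G) (hP : Nat.card P = p) [Fintype G]
    [Fintype (Subgroup.centralizer ((P : Subgroup G) : Set G))]
    (F : G → ℂ) (hF : IsClassFunction G F) (hreg : ∀ g : G, ¬ p ∣ orderOf g → F g = 0) :
    (Nat.card (Subgroup.normalizer ((P : Subgroup G) : Set G)) : ℂ) * ∑ g : G, F g =
      (Nat.card G : ℂ) *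
        ∑ c : Subgroup.centralizer ((P : Subgroup G) : Set G), F (c : G) := by
  classical
  -- Step 2: the inner sum over a conjugate of `C`
  have hstep2 : ∀ x : G, ∑ c : Subgroup.centralizer ((P : Subgroup G) : Set G),
      F (x * (c : G) * x⁻¹) =
      ∑ g : G, if x⁻¹ * g * x ∈ Subgroup.centralizer ((P : Subgroup G) : Set G) then F g
        else 0 := by
    intro x
    have h1 : ∑ g : G, (if x⁻¹ * g * x ∈ Subgroup.centralizer ((P : Subgroup G) : Set G)
        then F g else 0) =
        ∑ h : G, (if h ∈ Subgroup.centralizer ((P : Subgroup G) : Set G)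
          then F (x * h * x⁻¹) else 0) := by
      symm
      refine Fintype.sum_equiv (MulAut.conj x).toEquiv _ _ (fun h => ?_)
      have e : x⁻¹ * ((MulAut.conj x).toEquiv h) * x = h := by
        show x⁻¹ * (x * h * x⁻¹) * x = h
        group
      rw [e]
      rfl
    rw [h1, ← Finset.sum_filter]
    symm
    exact Finset.sum_subtype (Finset.univ.filter
      (fun h : G => h ∈ Subgroup.centralizer ((P : Subgroup G) : Set G)))
      (fun h => by simp) (fun h => F (x * h * x⁻¹))
  -- Step 1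
  have hstep1 : ∑ x : G, ∑ c : Subgroup.centralizer ((P : Subgroup G) : Set G),
      F (x * (c : G) * x⁻¹) =
      (Nat.card G : ℂ) * ∑ c : Subgroup.centralizer ((P : Subgroup G) : Set G), F (c : G) := by
    have : ∀ x : G, ∑ c : Subgroup.centralizer ((P : Subgroup G) : Set G),
        F (x * (c : G) * x⁻¹) =
        ∑ c : Subgroup.centralizer ((P : Subgroup G) : Set G), F (c : G) := by
      intro x
      refine Finset.sum_congr rfl fun c _ => ?_
      exact hF (c : G) x
    rw [Finset.sum_congr rfl (fun x _ => this x), Finset.sum_const, Finset.card_univ,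
      nsmul_eq_mul, Nat.card_eq_fintype_card]
  -- Step 3 and 4
  have hstep3 : ∑ x : G, ∑ g : G,
      (if x⁻¹ * g * x ∈ Subgroup.centralizer ((P : Subgroup G) : Set G) then F g else 0) =
      (Nat.card (Subgroup.normalizer ((P : Subgroup G) : Set G)) : ℂ) * ∑ g : G, F g := by
    rw [Finset.sum_comm, Finset.mul_sum]
    refine Finset.sum_congr rfl fun g _ => ?_
    by_cases hg : p ∣ orderOf g
    · rw [← Finset.sum_filter, Finset.sum_const, nsmul_eq_mul,
        ← card_conj_mem_centralizer p P hP hg, Nat.card_eq_fintype_card,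
        Fintype.card_subtype]
    · rw [hreg g hg]
      simp
  rw [← hstep3, ← hstep1]
  exact (Finset.sum_congr rfl (fun x _ => (hstep2 x).symm))

end Formula

section Decomp

variable (p : ℕ) [Fact p.Prime] {G : Type*} [Group G] [Finite G]

/-- `C_G(P) ≃ P × K` -/
noncomputable def prodEquiv (P : Sylow p G) (hP : Nat.card P = p) (K : Subgroup G)
    (hK1 : ∀ y : G, y ∈ K ↔
      (y ∈ Subgroup.centralizer ((P : Subgroup G) : Set G) ∧ ¬ p ∣ orderOf y))
    (hK2 : ¬ p ∣ Nat.card K) :
    ↥(P : Subgroup G) × ↥K ≃ ↥(Subgroup.centralizer ((P : Subgroup G) : Set G)) where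
  toFun ak := ⟨(ak.1 : G) * (ak.2 : G), Subgroup.mul_mem _
    (Cfsg.Agent.Helper5.TL.gt_le_centralizer p P hP ak.1.2) ((hK1 _).1 ak.2.2).1⟩
  invFun c := ⟨⟨(c : G) * ((projK p P hP K hK1 hK2 c : K) : G)⁻¹, by
    obtain ⟨u, k, hu, hk, hc⟩ := Cfsg.Agent.Helper5.TLD.res_decomp p P hP K hK1 (c : G) c.2
    rw [projK_spec p P hP K hK1 hK2 c hu hk hc, hc, mul_assoc, mul_inv_cancel, mul_one]
    exact hu⟩, projK p P hP K hK1 hK2 c⟩
  left_inv ak := by
    have hspec : ((projK p P hP K hK1 hK2
        ⟨(ak.1 : G) * (ak.2 : G), Subgroup.mul_mem _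
          (Cfsg.Agent.Helper5.TL.gt_le_centralizer p P hP ak.1.2) ((hK1 _).1 ak.2.2).1⟩ : K) : G) =
        (ak.2 : G) :=
      projK_spec p P hP K hK1 hK2 _ ak.1.2 ak.2.2 rfl
    apply Prod.ext
    · apply Subtype.ext
      show (ak.1 : G) * (ak.2 : G) * ((projK p P hP K hK1 hK2 _ : K) : G)⁻¹ = (ak.1 : G)
      rw [hspec, mul_assoc, mul_inv_cancel, mul_one]
    · apply Subtype.ext
      exact hspec
  right_inv c := by
    apply Subtype.ext
    show (c : G) * ((projK p P hP K hK1 hK2 c : K) : G)⁻¹ *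
      ((projK p P hP K hK1 hK2 c : K) : G) = (c : G)
    rw [inv_mul_cancel_right]

/-- the sum over `C_G(P)` as a double sum over `P` and `K` -/
theorem sum_centralizer_eq (P : Sylow p G) (hP : Nat.card P = p) (K : Subgroup G)
    (hK1 : ∀ y : G, y ∈ K ↔
      (y ∈ Subgroup.centralizer ((P : Subgroup G) : Set G) ∧ ¬ p ∣ orderOf y))
    (hK2 : ¬ p ∣ Nat.card K)
    [Fintype (Subgroup.centralizer ((P : Subgroup G) : Set G))] [Fintype ↥(P : Subgroup G)]
    [Fintype K] (F : G → ℂ) :
    ∑ c : Subgroup.centralizer ((P : Subgroup G) : Set G), F (c : G) =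
      ∑ a : ↥(P : Subgroup G), ∑ k : ↥K, F ((a : G) * (k : G)) := by
  rw [← Fintype.sum_prod_type']
  symm
  exact Fintype.sum_equiv (prodEquiv p P hP K hK1 hK2) _ _ (fun ak => rfl)

end Decomp

end Cfsg.Agent.Helper12.BRE
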