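import Mathlib
import Cfsg.Prelude.Def_Blocks
import Cfsg.Agent.Lib.Helper12.BRE2
import Cfsg.Agent.Lib.Helper1.TLDDCHAR
import Cfsg.Agent.Lib.Helper2.TLDGT2
import Cfsg.Agent.Lib.Helper24.CharComplete

/-!
# S4503 piece INNER (exact skeleton signature of `plans/S4503_Skel.lean.txt`)

`inner_delta`: if the `p`-regular elements of `C_G(P)` are central, `ζ' = ζ` on the `p`-regular
elements, `ζ|_P ⟂ ζ'|_P`, and `χ = s` on `P^# × V`, then `⟨ζ ζ̄, χ⟩ - ⟨ζ ζ̄', χ⟩ = s c` with `c > 0`.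
(helper12)
-/

set_option autoImplicit false
set_option linter.unusedSectionVars false
set_option linter.unusedVariables false
set_option linter.style.haveILetI false

namespace Cfsg.Agent.Helper14.BRB

open scoped ComplexConjugate
open Cfsg Cfsg.Agent.Helper24 Cfsg.Agent.Helper5.TLD

universe u

variable {G : Type u} [Group G] [Fintype G] (p : ℕ) [Fact p.Prime]

variable (P : Sylow p G)

local notation "𝒞" => Subgroup.centralizer ((P : Subgroup G) : Set G)
local notation "𝒩" => Subgroup.normalizer ((P : Subgroup G) : Set G)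

/-- central character values of two irreducible characters agreeing at `z` and at `1` -/
theorem INNER_central_mul (ζ ζ' : IrrCharacter G) (z : G) (hz : z ∈ Subgroup.center G)
    (h1 : (ζ' : G → ℂ) 1 = (ζ : G → ℂ) 1) (hzz : (ζ' : G → ℂ) z = (ζ : G → ℂ) z) :
    ∃ w : ℂ, w * conj w = 1 ∧ ∀ a : G, (ζ : G → ℂ) (a * z) = w * (ζ : G → ℂ) a ∧
      (ζ' : G → ℂ) (a * z) = w * (ζ' : G → ℂ) a := by
  classical
  have hcen : ∀ z ∈ Subgroup.center G, ∀ h : G, z * h = h * z :=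
    fun z hz h => ((Subgroup.mem_center_iff.1 hz) h).symm
  obtain ⟨lam, hlam⟩ := dchar_exists_central_hom (Subgroup.center G) hcen ζ
  obtain ⟨lam', hlam'⟩ := dchar_exists_central_hom (Subgroup.center G) hcen ζ'
  set zz : Subgroup.center G := ⟨z, hz⟩ with hzz'
  have hζ1 : (ζ : G → ℂ) 1 ≠ 0 := by
    rw [irr_one_eq_charDegree ζ.2]
    exact_mod_cast (charDegree_pos ζ.2).ne'
  have e1 : ((lam zz : ℂˣ) : ℂ) * (ζ : G → ℂ) 1 = (ζ : G → ℂ) z := by
    have := hlam zz 1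
    rw [mul_one] at this
    exact this.symm
  have e2 : ((lam' zz : ℂˣ) : ℂ) * (ζ' : G → ℂ) 1 = (ζ' : G → ℂ) z := by
    have := hlam' zz 1
    rw [mul_one] at this
    exact this.symm
  have hlameq : ((lam' zz : ℂˣ) : ℂ) = ((lam zz : ℂˣ) : ℂ) := by
    rw [h1, hzz, ← e1] at e2
    exact mul_right_cancel₀ hζ1 e2
  refine ⟨((lam zz : ℂˣ) : ℂ), ?_, fun a => ⟨?_, ?_⟩⟩
  · have hpow : ((lam zz : ℂˣ) : ℂ) ^ (orderOf zz) = 1 := by
      rw [← Units.val_pow_eq_pow_val, ← map_pow, pow_orderOf_eq_one, map_one, Units.val_one]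
    have hnorm : ‖((lam zz : ℂˣ) : ℂ)‖ = 1 :=
      Complex.norm_eq_one_of_pow_eq_one hpow (orderOf_pos zz).ne'
    rw [Complex.mul_conj, Complex.normSq_eq_norm_sq, hnorm]
    simp
  · have : a * z = (zz : G) * a := (hcen z hz a).symm
    rw [this, hlam zz a]
  · have : a * z = (zz : G) * a := (hcen z hz a).symm
    rw [this, hlam' zz a, hlameq]

/-- PIECE INNER (Step E, first half). -/
theorem inner_delta (hP : Nat.card P = p)
    (hV : ∀ v ∈ 𝒞, ¬ p ∣ orderOf v → v ∈ Subgroup.center G)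
    (ζ ζ' : IrrCharacter G)
    (hreg : ∀ g : G, ¬ p ∣ orderOf g → (ζ' : G → ℂ) g = (ζ : G → ℂ) g)
    (hdisj : ∑ᶠ a : (P : Subgroup G), (ζ : G → ℂ) (a : G) * conj ((ζ' : G → ℂ) (a : G)) = 0)
    (χ : IrrCharacter G) (s : ℤ)
    (hχ : ∀ x : G, x ∈ (P : Subgroup G) → x ≠ 1 → ∀ y : G, y ∈ 𝒞 → ¬ p ∣ orderOf y →
      (χ : G → ℂ) (x * y) = (s : ℂ)) :
    ∃ c : ℝ, 0 < c ∧
      classInner (fun g => (ζ : G → ℂ) g * conj ((ζ : G → ℂ) g)) (χ : G → ℂ) -
        classInner (fun g => (ζ : G → ℂ) g * conj ((ζ' : G → ℂ) g)) (χ : G → ℂ) =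
          ((s : ℝ) * c : ℝ) := by
  classical
  have hp : p.Prime := Fact.out
  haveI : Fintype 𝒞 := Fintype.ofFinite _
  haveI : Fintype (P : Subgroup G) := Fintype.ofFinite _
  obtain ⟨K, n₀, hK1, hK2, hK3, hK4, -⟩ := exists_pcore' p P hP
  haveI : Fintype K := Fintype.ofFinite _
  have hcζ := isClassFunction_of_isIrrCharacter ζ.2
  have hcζ' := isClassFunction_of_isIrrCharacter ζ'.2
  have hcχ := isClassFunction_of_isIrrCharacter χ.2
  have hreg1 : ¬ p ∣ orderOf (1 : G) := by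
    rw [orderOf_one]
    exact hp.not_dvd_one
  have hζ'1 : (ζ' : G → ℂ) 1 = (ζ : G → ℂ) 1 := hreg 1 hreg1
  set Δ : G → ℂ := fun g => (ζ : G → ℂ) g * conj ((ζ : G → ℂ) g) -
    (ζ : G → ℂ) g * conj ((ζ' : G → ℂ) g) with hΔ
  set F : G → ℂ := fun g => Δ g * conj ((χ : G → ℂ) g) with hF
  have hFc : IsClassFunction G F := by
    intro g h
    simp only [hF, hΔ]
    rw [hcζ g h, hcζ' g h, hcχ g h]
  have hFreg : ∀ g, ¬ p ∣ orderOf g → F g = 0 := by
    intro g hg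
    simp only [hF, hΔ]
    rw [hreg g hg, sub_self, zero_mul]
  have hdiff : classInner (fun g => (ζ : G → ℂ) g * conj ((ζ : G → ℂ) g)) (χ : G → ℂ) -
      classInner (fun g => (ζ : G → ℂ) g * conj ((ζ' : G → ℂ) g)) (χ : G → ℂ) =
      (Nat.card G : ℂ)⁻¹ * ∑ g, F g := by
    unfold classInner
    rw [← mul_sub, ← Finset.sum_sub_distrib]
    congr 1
    refine Finset.sum_congr rfl fun g _ => ?_
    simp only [hF, hΔ]
    ring
  have hti := Cfsg.Agent.Helper12.BRE.ti_sum_formula p P hP F hFc hFreg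
  have hsum := Cfsg.Agent.Helper12.BRE.sum_centralizer_eq p P hP K hK1 hK2 F
  have hΔ1 : Δ 1 = 0 := by
    simp only [hΔ]
    rw [hζ'1, sub_self]
  -- the value of `Δ` on `a k`
  have hΔak : ∀ (a : G) (k : K), Δ (a * (k : G)) = Δ a := by
    intro a k
    have hk := (hK1 (k : G)).1 k.2
    have hkc : (k : G) ∈ Subgroup.center G := hV _ hk.1 hk.2
    obtain ⟨w, hw, hwa⟩ := INNER_central_mul ζ ζ' (k : G) hkc hζ'1 (hreg _ hk.2)
    simp only [hΔ]
    rw [(hwa a).1, (hwa a).2, map_mul, map_mul]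
    linear_combination ((ζ : G → ℂ) a * conj ((ζ : G → ℂ) a) -
      (ζ : G → ℂ) a * conj ((ζ' : G → ℂ) a)) * hw
  have hinner : ∀ a : (P : Subgroup G), ∑ k : K, F ((a : G) * (k : G)) =
      (Nat.card K : ℂ) * (Δ (a : G) * (s : ℂ)) := by
    intro a
    by_cases ha : (a : G) = 1
    · rw [ha, hΔ1, zero_mul, mul_zero]
      refine Finset.sum_eq_zero fun k _ => ?_
      rw [one_mul]
      exact hFreg _ ((hK1 (k : G)).1 k.2).2
    · have : ∀ k : K, F ((a : G) * (k : G)) = Δ (a : G) * (s : ℂ) := by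
        intro k
        have hk := (hK1 (k : G)).1 k.2
        simp only [hF]
        rw [hΔak (a : G) k, hχ (a : G) a.2 ha (k : G) hk.1 hk.2]
        simp
      rw [Finset.sum_congr rfl (fun k _ => this k), Finset.sum_const, Finset.card_univ,
        nsmul_eq_mul, Nat.card_eq_fintype_card]
  rw [finsum_eq_sum_of_fintype] at hdisj
  set S : ℝ := ∑ a : (P : Subgroup G), Complex.normSq ((ζ : G → ℂ) (a : G)) with hS
  have hSΔ : ∑ a : (P : Subgroup G), Δ (a : G) = (S : ℂ) := by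
    simp only [hΔ]
    rw [Finset.sum_sub_distrib, hdisj, sub_zero, hS, Complex.ofReal_sum]
    refine Finset.sum_congr rfl fun a _ => ?_
    rw [Complex.mul_conj]
  have hSpos : 0 < S := by
    have h1 : Complex.normSq ((ζ : G → ℂ) ((1 : (P : Subgroup G)) : G)) ≤ S :=
      Finset.single_le_sum (f := fun a : (P : Subgroup G) => Complex.normSq ((ζ : G → ℂ) (a : G)))
        (fun a _ => Complex.normSq_nonneg _) (Finset.mem_univ _)
    refine lt_of_lt_of_le ?_ h1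
    rw [Complex.normSq_pos, Subgroup.coe_one, irr_one_eq_charDegree ζ.2]
    exact_mod_cast (charDegree_pos ζ.2).ne'
  have hCsum : ∑ c : 𝒞, F (c : G) = (Nat.card K : ℂ) * (s : ℂ) * (S : ℂ) := by
    rw [hsum, Finset.sum_congr rfl (fun a _ => hinner a), ← Finset.mul_sum, ← Finset.sum_mul, hSΔ]
    ring
  have hNpos : 0 < Nat.card 𝒩 := Nat.card_pos
  have hKpos : 0 < Nat.card K := Nat.card_pos
  have hGpos : 0 < Nat.card G := Nat.card_pos
  refine ⟨(Nat.card K : ℝ) * S / (Nat.card 𝒩 : ℝ), by positivity, ?_⟩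
  rw [hdiff]
  have hN0 : (Nat.card 𝒩 : ℂ) ≠ 0 := by exact_mod_cast hNpos.ne'
  have hG0 : (Nat.card G : ℂ) ≠ 0 := by exact_mod_cast hGpos.ne'
  have hsumF : ∑ g, F g = (Nat.card G : ℂ) * ((Nat.card K : ℂ) * (s : ℂ) * (S : ℂ)) /
      (Nat.card 𝒩 : ℂ) := by
    rw [eq_div_iff hN0, mul_comm, hti, hCsum]
  rw [hsumF]
  push_cast
  field_simp
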