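import Mathlib
import Cfsg.Prelude.Def_Blocks
import Cfsg.Agent.S0936
import Cfsg.Agent.Lib.Helper12.BRC1
import Cfsg.Agent.Lib.Helper2.TLDGT2
import Cfsg.Agent.Lib.Helper6.TLDDCOL
import Cfsg.Agent.Lib.Helper24.GlaubPGroup

/-!
# S4503, Step C, part 2: the third main theorem for `C_G(P) = P × K`, `|P| = p`

A character `1_P × ν` of `C_G(P)` whose block induces the principal block of `G` is trivial.
(helper12, for helper14's proof of S4503)
-/

set_option autoImplicit false
set_option linter.unusedSectionVars false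
set_option linter.unusedVariables false
set_option linter.style.haveILetI false

namespace Cfsg.Agent.Helper12.BRC

open Cfsg Cfsg.Agent.Helper23.Blk Cfsg.Agent.Helper24 Cfsg.Agent.Helper24.Glaub
  Cfsg.Agent.Helper5.TLD
open scoped ComplexConjugate

section C1

variable (p : ℕ) [Fact p.Prime] {G : Type*} [Group G] [Finite G]

/-- class sizes in `C_G(P)` are prime to `p` -/
theorem not_dvd_index_centralizer (P : Sylow p G) (hP : Nat.card P = p) (K : Subgroup G)
    (hK1 : ∀ y : G, y ∈ K ↔
      (y ∈ Subgroup.centralizer ((P : Subgroup G) : Set G) ∧ ¬ p ∣ orderOf y))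
    (hK2 : ¬ p ∣ Nat.card K)
    (hK4 : ∀ c : G, (∀ u ∈ (P : Subgroup G), c * u = u * c) →
        ∃ u k : G, u ∈ (P : Subgroup G) ∧ k ∈ K ∧ c = u * k)
    (c : Subgroup.centralizer ((P : Subgroup G) : Set G)) :
    ¬ p ∣ (Subgroup.centralizer
      ({c} : Set (Subgroup.centralizer ((P : Subgroup G) : Set G)))).index := by
  have hp : p.Prime := Fact.out
  have hPC : (P : Subgroup G) ≤ Subgroup.centralizer ((P : Subgroup G) : Set G) :=
    Cfsg.Agent.Helper5.TL.gt_le_centralizer p P hP
  have hP'card : Nat.card ((P : Subgroup G).subgroupOf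
      (Subgroup.centralizer ((P : Subgroup G) : Set G))) = p :=
    (Nat.card_congr (Subgroup.subgroupOfEquivOfLe hPC).toEquiv).trans hP
  have hle : (P : Subgroup G).subgroupOf (Subgroup.centralizer ((P : Subgroup G) : Set G)) ≤
      Subgroup.centralizer ({c} : Set (Subgroup.centralizer ((P : Subgroup G) : Set G))) := by
    intro x hx
    rw [Subgroup.mem_subgroupOf] at hx
    rw [Subgroup.mem_centralizer_iff]
    intro y hy
    rw [Set.mem_singleton_iff] at hy
    subst hy
    apply Subtype.ext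
    rw [Subgroup.coe_mul, Subgroup.coe_mul]
    exact (Subgroup.mem_centralizer_iff.1 y.2 (x : G) hx).symm
  have hdvd : p ∣ Nat.card (Subgroup.centralizer
      ({c} : Set (Subgroup.centralizer ((P : Subgroup G) : Set G)))) := by
    have := Subgroup.card_dvd_of_le hle
    rwa [hP'card] at this
  have hcard : Nat.card (Subgroup.centralizer ((P : Subgroup G) : Set G)) = p * Nat.card K := by
    have := dcol_card_centralizer p P hP K hK1 hK4
    exact_mod_cast this
  have hmul := Subgroup.index_mul_card (Subgroup.centralizer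
      ({c} : Set (Subgroup.centralizer ((P : Subgroup G) : Set G))))
  intro hidx
  obtain ⟨i, hi⟩ := hidx
  obtain ⟨j, hj⟩ := hdvd
  rw [hi, hj, hcard] at hmul
  apply hK2
  refine ⟨i * j, ?_⟩
  have h2 : p * (p * (i * j)) = p * Nat.card K := by
    rw [← hmul]
    ring
  exact (Nat.eq_of_mul_eq_mul_left hp.pos h2).symm

/-- **Third main theorem for `C_G(P)`**: a character of `C_G(P)` with `P` in its kernel lying in
the principal block of `C_G(P)` is the principal character. -/
theorem eq_one_of_mem_principalBlock (M : Ideal AlgInt) (hM : IsPModular p M) (P : Sylow p G)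
    (hP : Nat.card P = p)
    (φ : IrrCharacter (Subgroup.centralizer ((P : Subgroup G) : Set G)))
    (hφP : ∀ x : Subgroup.centralizer ((P : Subgroup G) : Set G), (x : G) ∈ (P : Subgroup G) →
      (φ : Subgroup.centralizer ((P : Subgroup G) : Set G) → ℂ) x =
        (φ : Subgroup.centralizer ((P : Subgroup G) : Set G) → ℂ) 1)
    (hmem : φ ∈ principalBlock M (Subgroup.centralizer ((P : Subgroup G) : Set G))) :
    ∀ c : Subgroup.centralizer ((P : Subgroup G) : Set G),
      (φ : Subgroup.centralizer ((P : Subgroup G) : Set G) → ℂ) c = 1 := by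
  classical
  have hp : p.Prime := Fact.out
  haveI hMp : M.IsPrime := hM.2.1.isPrime
  obtain ⟨K, n₀, hK1, hK2, hK3, hK4, -⟩ := exists_pcore' p P hP
  haveI : Fintype K := Fintype.ofFinite K
  have hKC : ∀ k : K, (k : G) ∈ Subgroup.centralizer ((P : Subgroup G) : Set G) :=
    fun k => ((hK1 k).1 k.2).1
  obtain ⟨ϑ, hϑ⟩ := exists_res_irr p P hP K hK1 φ hφP
  have hsame : SameBlock M (fun _ : Subgroup.centralizer ((P : Subgroup G) : Set G) => (1 : ℂ))
      (φ : Subgroup.centralizer ((P : Subgroup G) : Set G) → ℂ) := hmem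
  have hd : (φ : Subgroup.centralizer ((P : Subgroup G) : Set G) → ℂ) 1 =
      (charDegree (φ : Subgroup.centralizer ((P : Subgroup G) : Set G) → ℂ) : ℂ) :=
    irr_one_eq_charDegree φ.2
  have hdpos : 0 < charDegree (φ : Subgroup.centralizer ((P : Subgroup G) : Set G) → ℂ) :=
    charDegree_pos φ.2
  set d : ℕ := charDegree (φ : Subgroup.centralizer ((P : Subgroup G) : Set G) → ℂ) with hddef
  have hd0 : (d : ℂ) ≠ 0 := by exact_mod_cast hdpos.ne'
  have hcK0 : (Nat.card K : ℂ) ≠ 0 := by exact_mod_cast (Nat.card_pos (α := K)).ne'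
  -- `ϑ` is the principal character
  have hprin : ϑ = principalChar K := by
    by_contra hne
    -- the terms
    have hterm : ∀ k : K, MemLocalIdeal M
        ((Nat.card K : ℂ)⁻¹ * ((ϑ : K → ℂ) k * conj ((ϑ : K → ℂ) k) -
          (d : ℂ) * conj ((ϑ : K → ℂ) k))) := by
      intro k
      set ck : Subgroup.centralizer ((P : Subgroup G) : Set G) := ⟨(k : G), hKC k⟩ with hck
      set n : ℕ := (Subgroup.centralizer
        ({ck} : Set (Subgroup.centralizer ((P : Subgroup G) : Set G)))).index with hn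
      have hnp : ¬ p ∣ n := not_dvd_index_centralizer p P hP K hK1 hK2 hK4 ck
      have hn0 : (n : ℂ) ≠ 0 := by
        intro h0
        have : n = 0 := by exact_mod_cast h0
        exact hnp (this ▸ dvd_zero p)
      have h1 := memLocalIdeal_neg (hsame ck)
      rw [neg_sub] at h1
      have hval : centralChar (φ : Subgroup.centralizer ((P : Subgroup G) : Set G) → ℂ) ck -
          centralChar (fun _ : Subgroup.centralizer ((P : Subgroup G) : Set G) => (1 : ℂ)) ck =
          (n : ℂ) * ((ϑ : K → ℂ) k / (d : ℂ) - 1) := by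
        unfold centralChar
        rw [hd, ← hn, hϑ k]
        field_simp
        rfl
      rw [hval] at h1
      have hR : MemLocalRing M ((Nat.card K : ℂ)⁻¹ * (n : ℂ)⁻¹ * ((d : ℂ) *
          conj ((ϑ : K → ℂ) k))) :=
        memLocalRing_mul (memLocalRing_mul (memLocalRing_inv_natCast hM hK2)
          (memLocalRing_inv_natCast hM hnp))
          (memLocalRing_mul (memLocalRing_natCast d) (memLocalRing_conj_irr ϑ k))
      have h2 := memLocalIdeal_mul_left hR h1
      have heq : (Nat.card K : ℂ)⁻¹ * (n : ℂ)⁻¹ * ((d : ℂ) * conj ((ϑ : K → ℂ) k)) *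
          ((n : ℂ) * ((ϑ : K → ℂ) k / (d : ℂ) - 1)) =
          (Nat.card K : ℂ)⁻¹ * ((ϑ : K → ℂ) k * conj ((ϑ : K → ℂ) k) -
            (d : ℂ) * conj ((ϑ : K → ℂ) k)) := by
        field_simp
      rw [heq] at h2
      exact h2
    have hsum := memLocalIdeal_sum (M := M) Finset.univ
      (fun k : K => (Nat.card K : ℂ)⁻¹ * ((ϑ : K → ℂ) k * conj ((ϑ : K → ℂ) k) -
          (d : ℂ) * conj ((ϑ : K → ℂ) k))) (fun k _ => hterm k)
    have h11 : classInner (ϑ : K → ℂ) (ϑ : K → ℂ) = 1 := by
      rw [irr_orthogonality' ϑ ϑ, if_pos rfl]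
    have h10 : classInner ((principalChar K : IrrCharacter K) : K → ℂ) (ϑ : K → ℂ) = 0 := by
      rw [irr_orthogonality' (principalChar K) ϑ, if_neg (fun h => hne h.symm)]
    have hval : ∑ k : K, (Nat.card K : ℂ)⁻¹ * ((ϑ : K → ℂ) k * conj ((ϑ : K → ℂ) k) -
          (d : ℂ) * conj ((ϑ : K → ℂ) k)) = 1 := by
      have e1 : ∑ k : K, (Nat.card K : ℂ)⁻¹ * ((ϑ : K → ℂ) k * conj ((ϑ : K → ℂ) k) -
          (d : ℂ) * conj ((ϑ : K → ℂ) k)) =
          classInner (ϑ : K → ℂ) (ϑ : K → ℂ) -
            (d : ℂ) * classInner ((principalChar K : IrrCharacter K) : K → ℂ) (ϑ : K → ℂ) := by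
        unfold classInner
        rw [← Finset.mul_sum, Finset.sum_sub_distrib, ← Finset.mul_sum]
        have : ∀ k : K, ((principalChar K : IrrCharacter K) : K → ℂ) k = 1 := fun _ => rfl
        simp only [this, one_mul]
        ring
      rw [e1, h11, h10, mul_zero, sub_zero]
    rw [hval] at hsum
    exact not_memLocalIdeal_one hsum
  intro c
  obtain ⟨u, k, hu, hk, hc⟩ := res_decomp p P hP K hK1 (c : G) c.2
  have hPC : (P : Subgroup G) ≤ Subgroup.centralizer ((P : Subgroup G) : Set G) :=
    Cfsg.Agent.Helper5.TL.gt_le_centralizer p P hP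
  have hchar : IsCharacter (Subgroup.centralizer ((P : Subgroup G) : Set G))
      (φ : Subgroup.centralizer ((P : Subgroup G) : Set G) → ℂ) :=
    isCharacter_of_isIrrCharacter φ.2
  have hcu : (⟨u, hPC hu⟩ : Subgroup.centralizer ((P : Subgroup G) : Set G)) ∈ charKer hchar :=
    (mem_charKer hchar _).2 (hφP _ hu)
  have hcdec : c = (⟨k, hKC ⟨k, hk⟩⟩ : Subgroup.centralizer ((P : Subgroup G) : Set G)) *
      ⟨u, hPC hu⟩ := by
    apply Subtype.ext
    rw [Subgroup.coe_mul, hc]
    exact comm_of_mem p P hu (hKC ⟨k, hk⟩)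
  rw [hcdec, char_mul_of_mem_charKer hchar hcu, ← hϑ ⟨k, hk⟩, hprin]
  rfl

end C1

end Cfsg.Agent.Helper12.BRC
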