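import Mathlib
import Cfsg.Prelude.Def_Blocks
import Cfsg.Agent.S0923
import Cfsg.Agent.Lib.Helper5.TLDDefs
import Cfsg.Agent.Lib.Helper5.Clifford
import Cfsg.Agent.Lib.Helper18.BlockOver
import Cfsg.Agent.Lib.Helper23.BlockOrtho
import Cfsg.Agent.Lib.Helper23.BlockContrib
import Cfsg.Agent.Lib.Helper23.TLSM
import Cfsg.Agent.Lib.Helper24.CharHom

/-!
# S4442 Layer D, piece DSM: the second main theorem for the `φ`-part `FP`

For a Sylow `p`-subgroup `P` of order `p`, `a ∈ P^#`, `χ ∈ B` and `φ ∈ Irr(C_G(P))` with `P` in its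
kernel whose block does not induce `B`: `FP p P φ χ a = 0`.
-/

set_option autoImplicit false
set_option linter.unusedSectionVars false
set_option linter.style.haveILetI false

namespace Cfsg.Agent.Helper5.TLD

open Cfsg Cfsg.Agent.Helper23.Blk Cfsg.Agent.Helper24 Cfsg.Agent.Helper18 Cfsg.Agent.Helper5.TL
open scoped ComplexConjugate

universe u

/-- **General form.** `x` a `p`-element, `C = C_G(x)`, `χ ∈ B`, `φ ∈ Irr(C)` whose block does not
induce `B`, `N` a normal subgroup of `C` of order prime to `p` containing all `p`-regular elements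
of `C`, with `φ|_N` irreducible: `∑_{c ∈ N} χ (x c) conj (φ c) = 0`. -/
theorem dsm_general {G : Type u} [Group G] [Finite G] {p : ℕ} [Fact p.Prime] {M : Ideal AlgInt}
    (hM : IsPModular p M) (x : G) (hx : ∃ k : ℕ, orderOf x = p ^ k)
    (C : Subgroup G) (hC : C = Subgroup.centralizer ({x} : Set G))
    (B : Set (IrrCharacter G)) (hB : IsPBlock M B) (χ : IrrCharacter G) (hχ : χ ∈ B)
    (φ : IrrCharacter C)
    (hnot : ¬ IsInducedBlock M C (blockOf M (φ : C → ℂ)) B)
    (N : Subgroup C) [N.Normal] (hpN : ¬ p ∣ Nat.card N)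
    (hreg : ∀ c : C, ¬ p ∣ orderOf c → c ∈ N)
    (hφN : IsIrrCharacter N (fun n : N => (φ : C → ℂ) n))
    [Fintype C] :
    ∑ c : C, (N : Set C).indicator
      (fun c => (χ : G → ℂ) (x * (c : G)) * conj ((φ : C → ℂ) c)) c = 0 := by
  classical
  subst hC
  haveI : Fintype G := Fintype.ofFinite G
  letI : Fintype (IrrCharacter (Subgroup.centralizer ({x} : Set G))) := irrFintype
  haveI : Fintype N := Fintype.ofFinite _
  haveI hMp : M.IsPrime := hM.2.1.isPrime
  have hb : IsPBlock M (blockOf M (φ : Subgroup.centralizer ({x} : Set G) → ℂ)) := ⟨φ, rfl⟩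
  have hone : ¬ p ∣ orderOf (1 : Subgroup.centralizer ({x} : Set G)) := by
    rw [orderOf_one]
    exact fun h => (Fact.out : p.Prime).one_lt.ne' (Nat.dvd_one.1 h)
  have h0 := Cfsg.Agent.S0923.result p M hM x hx B hB χ hχ _ hb hnot 1 hone
  rw [blockPart_eq_sum, Finset.sum_apply] at h0
  -- members of the block of `φ` restrict to `N` as multiples of `φ|_N`
  have hinv : ∀ g : Subgroup.centralizer ({x} : Set G),
      conjFun N g (fun n : N => (φ : Subgroup.centralizer ({x} : Set G) → ℂ) n) =
        (fun n : N => (φ : Subgroup.centralizer ({x} : Set G) → ℂ) n) := by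
    intro g
    funext n
    rw [conjFun_apply]
    exact isClassFunction_of_isCharacter (isCharacter_of_isIrrCharacter φ.2) (n : _) g
  have hφover : classInner (fun n : N => (φ : Subgroup.centralizer ({x} : Set G) → ℂ) n)
      (fun n : N => (φ : Subgroup.centralizer ({x} : Set G) → ℂ) n) ≠ 0 := by
    rw [irr_orthogonality hφN hφN, if_pos rfl]
    exact one_ne_zero
  have hres : ∀ ξ : IrrCharacter (Subgroup.centralizer ({x} : Set G)),
      ξ ∈ blockOf M (φ : Subgroup.centralizer ({x} : Set G) → ℂ) →
      ∃ e : ℕ, e ≠ 0 ∧ ∀ n : N, (ξ : Subgroup.centralizer ({x} : Set G) → ℂ) n =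
        (e : ℂ) * (φ : Subgroup.centralizer ({x} : Set G) → ℂ) n := by
    intro ξ hξ
    have h2 := over_of_sameBlock N hM hpN hφN hξ hφover
    obtain ⟨e, he0, -, he⟩ := Cfsg.Agent.Helper5.restrict_eq_smul_of_invariant N ξ.2 hφN hinv h2
    refine ⟨e, he0, fun n => ?_⟩
    have := congrFun he n
    simpa only [Pi.smul_apply, smul_eq_mul] using this
  -- the multiplicities
  set E : IrrCharacter (Subgroup.centralizer ({x} : Set G)) → ℂ := fun ξ =>
    (ξ : Subgroup.centralizer ({x} : Set G) → ℂ) 1 /
      (φ : Subgroup.centralizer ({x} : Set G) → ℂ) 1 with hE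
  obtain ⟨d, hdpos, hd⟩ := irr_one_eq φ.2
  have hφ1 : (φ : Subgroup.centralizer ({x} : Set G) → ℂ) 1 ≠ 0 := by
    rw [hd]
    exact_mod_cast hdpos.ne'
  have hEnat : ∀ ξ : IrrCharacter (Subgroup.centralizer ({x} : Set G)),
      ξ ∈ blockOf M (φ : Subgroup.centralizer ({x} : Set G) → ℂ) →
      ∃ e : ℕ, e ≠ 0 ∧ E ξ = (e : ℂ) ∧ ∀ n : N, (ξ : Subgroup.centralizer ({x} : Set G) → ℂ) n =
        (e : ℂ) * (φ : Subgroup.centralizer ({x} : Set G) → ℂ) n := by
    intro ξ hξ
    obtain ⟨e, he0, he⟩ := hres ξ hξ
    refine ⟨e, he0, ?_, he⟩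
    have := he 1
    rw [hE]
    simp only
    have h1 : ((1 : N) : Subgroup.centralizer ({x} : Set G)) = 1 := rfl
    rw [h1] at this
    rw [this, mul_div_assoc, div_self hφ1, mul_one]
  set S' : ℂ := (∑ ξ : IrrCharacter (Subgroup.centralizer ({x} : Set G)),
      if ξ ∈ blockOf M (φ : Subgroup.centralizer ({x} : Set G) → ℂ) then E ξ * E ξ else 0) *
      (φ : Subgroup.centralizer ({x} : Set G) → ℂ) 1 with hS'
  have hS'0 : S' ≠ 0 := by
    rw [hS']
    refine mul_ne_zero ?_ hφ1
    intro h0'
    have hre := congrArg Complex.re h0'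
    rw [Complex.re_sum, Complex.zero_re] at hre
    have hnn : ∀ ξ : IrrCharacter (Subgroup.centralizer ({x} : Set G)), ξ ∈ Finset.univ →
        0 ≤ (if ξ ∈ blockOf M (φ : Subgroup.centralizer ({x} : Set G) → ℂ) then E ξ * E ξ
          else 0 : ℂ).re := by
      intro ξ _
      split_ifs with hξ
      · obtain ⟨e, -, he, -⟩ := hEnat ξ hξ
        rw [he]
        have : ((e : ℂ) * (e : ℂ)).re = ((e * e : ℕ) : ℝ) := by
          push_cast
          simp
        rw [this]
        positivity
      · simp
    have hz := (Finset.sum_eq_zero_iff_of_nonneg hnn).1 hre φ (Finset.mem_univ _)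
    rw [if_pos (mem_blockOf_self φ)] at hz
    obtain ⟨e, he0, he, -⟩ := hEnat φ (mem_blockOf_self φ)
    rw [he] at hz
    have : ((e : ℂ) * (e : ℂ)).re = ((e * e : ℕ) : ℝ) := by
      push_cast
      simp
    rw [this] at hz
    have : e * e = 0 := by exact_mod_cast hz
    rcases Nat.mul_eq_zero.1 this with h | h <;> exact he0 h
  -- the inner sums
  have hT : ∀ c : Subgroup.centralizer ({x} : Set G),
      (∑ ξ : IrrCharacter (Subgroup.centralizer ({x} : Set G)),
        if ξ ∈ blockOf M (φ : Subgroup.centralizer ({x} : Set G) → ℂ) then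
          (ξ : Subgroup.centralizer ({x} : Set G) → ℂ) 1 *
            conj ((ξ : Subgroup.centralizer ({x} : Set G) → ℂ) c) else 0) =
      (N : Set (Subgroup.centralizer ({x} : Set G))).indicator
        (fun c => S' * conj ((φ : Subgroup.centralizer ({x} : Set G) → ℂ) c)) c := by
    intro c
    by_cases hc : c ∈ N
    · rw [Set.indicator_of_mem (show c ∈ (N : Set _) from hc), hS', mul_assoc, Finset.sum_mul]
      apply Finset.sum_congr rfl
      intro ξ _
      split_ifs with hξ
      · obtain ⟨e, -, he, hen⟩ := hEnat ξ hξ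
        have h1 := hen 1
        have h2 := hen ⟨c, hc⟩
        have h3 : ((1 : N) : Subgroup.centralizer ({x} : Set G)) = 1 := rfl
        rw [h3] at h1
        simp only at h2
        rw [he, h1, h2, map_mul, Complex.conj_natCast]
        ring
      · rw [zero_mul]
    · rw [Set.indicator_of_notMem (show c ∉ (N : Set _) from hc)]
      have hcp : p ∣ orderOf c := by
        by_contra hcon
        exact hc (hreg c hcon)
      have hw := weak_block_orthogonality hM hb
        (x := (1 : Subgroup.centralizer ({x} : Set G))) (y := c) hone hcp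
      rw [finsum_mem_def, finsum_eq_sum_of_fintype] at hw
      refine Eq.trans ?_ hw
      apply Finset.sum_congr rfl
      intro ξ _
      by_cases hξ : ξ ∈ blockOf M (φ : Subgroup.centralizer ({x} : Set G) → ℂ)
      · rw [if_pos hξ, Set.indicator_of_mem hξ]
      · rw [if_neg hξ, Set.indicator_of_notMem hξ]
  have hcard : (Nat.card (Subgroup.centralizer ({x} : Set G)) : ℂ) ≠ 0 := by
    exact_mod_cast Nat.card_pos.ne'
  have key : (∑ ξ : IrrCharacter (Subgroup.centralizer ({x} : Set G)),
      ((if ξ ∈ blockOf M (φ : Subgroup.centralizer ({x} : Set G) → ℂ) then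
        classInner (fun c : Subgroup.centralizer ({x} : Set G) => (χ : G → ℂ) (x * (c : G)))
          (ξ : Subgroup.centralizer ({x} : Set G) → ℂ) else 0) •
        (ξ : Subgroup.centralizer ({x} : Set G) → ℂ)) 1) =
      (Nat.card (Subgroup.centralizer ({x} : Set G)) : ℂ)⁻¹ *
        (S' * ∑ c : Subgroup.centralizer ({x} : Set G),
          (N : Set (Subgroup.centralizer ({x} : Set G))).indicator
            (fun c => (χ : G → ℂ) (x * (c : G)) *
              conj ((φ : Subgroup.centralizer ({x} : Set G) → ℂ) c)) c) := by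
    have h1 : ∀ ξ : IrrCharacter (Subgroup.centralizer ({x} : Set G)),
        ((if ξ ∈ blockOf M (φ : Subgroup.centralizer ({x} : Set G) → ℂ) then
          classInner (fun c : Subgroup.centralizer ({x} : Set G) => (χ : G → ℂ) (x * (c : G)))
            (ξ : Subgroup.centralizer ({x} : Set G) → ℂ) else 0) •
          (ξ : Subgroup.centralizer ({x} : Set G) → ℂ)) 1 =
        (Nat.card (Subgroup.centralizer ({x} : Set G)) : ℂ)⁻¹ *
          ∑ c : Subgroup.centralizer ({x} : Set G), (χ : G → ℂ) (x * (c : G)) *
            (if ξ ∈ blockOf M (φ : Subgroup.centralizer ({x} : Set G) → ℂ) then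
              (ξ : Subgroup.centralizer ({x} : Set G) → ℂ) 1 *
                conj ((ξ : Subgroup.centralizer ({x} : Set G) → ℂ) c) else 0) := by
      intro ξ
      rw [Pi.smul_apply, smul_eq_mul]
      split_ifs with hξ
      · rw [classInner, mul_assoc, Finset.sum_mul]
        congr 1
        apply Finset.sum_congr rfl
        intro c _
        ring
      · simp
    rw [Finset.sum_congr rfl (fun ξ _ => h1 ξ), ← Finset.mul_sum, Finset.sum_comm]
    congr 1
    rw [Finset.mul_sum]
    apply Finset.sum_congr rfl
    intro c _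
    rw [← Finset.mul_sum, hT c]
    by_cases hc : c ∈ N
    · rw [Set.indicator_of_mem (show c ∈ (N : Set _) from hc),
        Set.indicator_of_mem (show c ∈ (N : Set _) from hc)]
      ring
    · rw [Set.indicator_of_notMem (show c ∉ (N : Set _) from hc),
        Set.indicator_of_notMem (show c ∉ (N : Set _) from hc)]
      ring
  rw [key] at h0
  rcases mul_eq_zero.1 h0 with h | h
  · exact absurd (inv_eq_zero.1 h) hcard
  · rcases mul_eq_zero.1 h with h | h
    · exact absurd h hS'0
    · exact h

section LayerD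

variable (p : ℕ) [Fact p.Prime] {G : Type*} [Group G] [Finite G]

/-- PIECE DSM (second main theorem, `Cfsg.Agent.S0923.result`): the `φ`-part of `χ ∈ B` vanishes
on `P^#` when the block of `φ` does not induce `B`. -/
theorem FP_eq_zero_of_not_induced (M : Ideal AlgInt) (hM : IsPModular p M) (P : Sylow p G)
    (hP : Nat.card P = p) (B : Set (IrrCharacter G)) (hB : IsPBlock M B)
    (χ : IrrCharacter G) (hχ : χ ∈ B)
    (φ : IrrCharacter (Subgroup.centralizer ((P : Subgroup G) : Set G)))
    (hφP : ∀ x : Subgroup.centralizer ((P : Subgroup G) : Set G), (x : G) ∈ (P : Subgroup G) →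
      (φ : Subgroup.centralizer ((P : Subgroup G) : Set G) → ℂ) x =
        (φ : Subgroup.centralizer ((P : Subgroup G) : Set G) → ℂ) 1)
    (hnot : ¬ IsInducedBlock M (Subgroup.centralizer ((P : Subgroup G) : Set G))
      (blockOf M (φ : Subgroup.centralizer ((P : Subgroup G) : Set G) → ℂ)) B)
    (a : G) (ha : a ∈ (P : Subgroup G)) (ha1 : a ≠ 1) :
    FP p P (φ : Subgroup.centralizer ((P : Subgroup G) : Set G) → ℂ) (χ : G → ℂ) a = 0 := by
  classical
  have hpP : p.Prime := Fact.out
  have hcent := sm_centralizer_eq p P hP a ha ha1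
  have hox : orderOf a = p := by
    have h1 : orderOf a ∣ p := by
      have := Subgroup.orderOf_dvd_natCard (P : Subgroup G) ha
      rwa [hP] at this
    rcases (Nat.dvd_prime hpP).1 h1 with h | h
    · exact absurd (orderOf_eq_one_iff.1 h) ha1
    · exact h
  have hx' : ∃ k : ℕ, orderOf a = p ^ k := ⟨1, by rw [hox, pow_one]⟩
  -- the Sylow subgroup of the centralizer
  have hPle : (P : Subgroup G) ≤ Subgroup.centralizer ((P : Subgroup G) : Set G) := by
    intro u hu
    rw [Subgroup.mem_centralizer_iff]
    intro v hv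
    obtain ⟨k, rfl⟩ := Subgroup.mem_zpowers_iff.1 (sm_mem_zpowers p P hP a ha ha1 hu)
    obtain ⟨l, rfl⟩ := Subgroup.mem_zpowers_iff.1 (sm_mem_zpowers p P hP a ha ha1 hv)
    exact (((Commute.refl a).zpow_right k).zpow_left l).eq
  have hcentral : ∀ (c u : Subgroup.centralizer ((P : Subgroup G) : Set G)),
      u ∈ (P.subtype hPle : Subgroup (Subgroup.centralizer ((P : Subgroup G) : Set G))) →
        u * c = c * u := by
    intro c u hu
    have hu' : (u : G) ∈ (P : Subgroup G) := by
      rw [Sylow.coe_subtype, Subgroup.mem_subgroupOf] at hu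
      exact hu
    have hc := c.2
    rw [Subgroup.mem_centralizer_iff] at hc
    apply Subtype.ext
    show (u : G) * (c : G) = (c : G) * (u : G)
    exact hc (u : G) hu'
  have hNC : Subgroup.normalizer
      ((P.subtype hPle : Subgroup (Subgroup.centralizer ((P : Subgroup G) : Set G))) :
        Set (Subgroup.centralizer ((P : Subgroup G) : Set G))) ≤
      Subgroup.centralizer
      ((P.subtype hPle : Subgroup (Subgroup.centralizer ((P : Subgroup G) : Set G))) :
        Set (Subgroup.centralizer ((P : Subgroup G) : Set G))) := by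
    intro c _
    rw [Subgroup.mem_centralizer_iff]
    intro u hu
    exact hcentral c u hu
  have hpN : ¬ p ∣ Nat.card (MonoidHom.transferSylow (P.subtype hPle) hNC).ker :=
    MonoidHom.not_dvd_card_ker_transferSylow (P.subtype hPle) hNC
  have hreg : ∀ c : Subgroup.centralizer ((P : Subgroup G) : Set G), ¬ p ∣ orderOf c →
      c ∈ (MonoidHom.transferSylow (P.subtype hPle) hNC).ker := by
    intro c hc
    rw [MonoidHom.mem_ker]
    have h1 : orderOf (MonoidHom.transferSylow (P.subtype hPle) hNC c) ∣ orderOf c :=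
      orderOf_map_dvd _ c
    obtain ⟨k, hk⟩ := (P.subtype hPle).2 (MonoidHom.transferSylow (P.subtype hPle) hNC c)
    have h2 : orderOf (MonoidHom.transferSylow (P.subtype hPle) hNC c) ∣ p ^ k :=
      orderOf_dvd_of_pow_eq_one hk
    obtain ⟨j, -, hj⟩ := (Nat.dvd_prime_pow hpP).1 h2
    rcases Nat.eq_zero_or_pos j with rfl | hjpos
    · rw [pow_zero] at hj
      exact orderOf_eq_one_iff.1 hj
    · exfalso
      apply hc
      rw [hj] at h1
      exact dvd_trans (dvd_pow_self p hjpos.ne') h1
  -- `φ` restricted to the normal `p`-complement is irreducible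
  haveI hPn : ((P.subtype hPle : Sylow p (Subgroup.centralizer ((P : Subgroup G) : Set G))) :
      Subgroup (Subgroup.centralizer ((P : Subgroup G) : Set G))).Normal := by
    constructor
    intro u hu c
    have h1 : c * u * c⁻¹ = u := by
      rw [← hcentral c u hu, mul_inv_cancel_right]
    rw [h1]
    exact hu
  have hφN : IsIrrCharacter (MonoidHom.transferSylow (P.subtype hPle) hNC).ker
      (fun n : (MonoidHom.transferSylow (P.subtype hPle) hNC).ker =>
        (φ : Subgroup.centralizer ((P : Subgroup G) : Set G) → ℂ) n) := by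
    have hker : ∀ u ∈ ((P.subtype hPle : Sylow p (Subgroup.centralizer ((P : Subgroup G) : Set G))) :
        Subgroup (Subgroup.centralizer ((P : Subgroup G) : Set G))),
        (φ : Subgroup.centralizer ((P : Subgroup G) : Set G) → ℂ) u =
          (φ : Subgroup.centralizer ((P : Subgroup G) : Set G) → ℂ) 1 := by
      intro u hu
      apply hφP u
      rw [Sylow.coe_subtype, Subgroup.mem_subgroupOf] at hu
      exact hu
    obtain ⟨ψ, hψ, hφψ⟩ := exists_deflate
      ((P.subtype hPle : Sylow p (Subgroup.centralizer ((P : Subgroup G) : Set G))) :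
        Subgroup (Subgroup.centralizer ((P : Subgroup G) : Set G))) φ.2 hker
    have hcompl := MonoidHom.ker_transferSylow_isComplement' (P.subtype hPle) hNC
    have hsurj : Function.Surjective
        ((QuotientGroup.mk' ((P.subtype hPle :
          Sylow p (Subgroup.centralizer ((P : Subgroup G) : Set G))) :
            Subgroup (Subgroup.centralizer ((P : Subgroup G) : Set G)))).comp
          (MonoidHom.transferSylow (P.subtype hPle) hNC).ker.subtype) := by
      intro q
      obtain ⟨c, rfl⟩ := QuotientGroup.mk'_surjective _ q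
      obtain ⟨⟨n, u⟩, hnu⟩ := hcompl.2 c
      refine ⟨n, ?_⟩
      simp only at hnu
      rw [← hnu]
      simp only [MonoidHom.coe_comp, Function.comp_apply, Subgroup.coe_subtype,
        QuotientGroup.mk'_apply]
      exact (QuotientGroup.mk_mul_of_mem (n : Subgroup.centralizer ((P : Subgroup G) : Set G))
        u.2).symm
    have h1 := isIrrCharacter_comp_of_surjective _ hsurj hψ
    have h2 : (ψ ∘ ((QuotientGroup.mk' ((P.subtype hPle :
          Sylow p (Subgroup.centralizer ((P : Subgroup G) : Set G))) :
            Subgroup (Subgroup.centralizer ((P : Subgroup G) : Set G)))).comp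
          (MonoidHom.transferSylow (P.subtype hPle) hNC).ker.subtype)) =
        (fun n : (MonoidHom.transferSylow (P.subtype hPle) hNC).ker =>
          (φ : Subgroup.centralizer ((P : Subgroup G) : Set G) → ℂ) n) := by
      funext n
      rw [hφψ]
      rfl
    rw [← h2]
    exact h1
  haveI : Fintype (Subgroup.centralizer ((P : Subgroup G) : Set G)) := Fintype.ofFinite _
  have key := dsm_general hM a hx' (Subgroup.centralizer ((P : Subgroup G) : Set G)) hcent B hB
    χ hχ φ hnot (MonoidHom.transferSylow (P.subtype hPle) hNC).ker hpN hreg hφN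
  -- rewrite the index set
  have hset : {c : Subgroup.centralizer ((P : Subgroup G) : Set G) | ¬ p ∣ orderOf c} =
      (((MonoidHom.transferSylow (P.subtype hPle) hNC).ker :
        Subgroup (Subgroup.centralizer ((P : Subgroup G) : Set G))) :
        Set (Subgroup.centralizer ((P : Subgroup G) : Set G))) := by
    ext c
    constructor
    · intro hc
      exact hreg c hc
    · intro hc hdiv
      apply hpN
      have h1 : orderOf c ∣ Nat.card (MonoidHom.transferSylow (P.subtype hPle) hNC).ker :=
        Subgroup.orderOf_dvd_natCard _ hc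
      exact dvd_trans hdiv h1
  unfold FP
  rw [hset, finsum_mem_def, finsum_eq_sum_of_fintype, key, mul_zero]

end LayerD

end Cfsg.Agent.Helper5.TLD
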