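import Mathlib
import Cfsg.Prelude.Def_Blocks
import Cfsg.Agent.S0936
import Cfsg.Agent.Lib.Helper12.BRC2
import Cfsg.Agent.Lib.Helper12.TLDDSM
import Cfsg.Agent.Lib.Helper1.TLDFPK
import Cfsg.Agent.Lib.Helper24.CharComplete

/-!
# S4503, Step C, part 3: characters of the principal block are constant on `a K`, and the
kernel trick (Lemma K)

`|P| = p`, `C_G(P) = P × K`.
* `not_induced_principal`: the block of `1_P × ν`, `ν ≠ 1`, does not induce the principal block;
* `principal_const`: `χ (a * v) = χ a` for `χ` in the principal block, `1 ≠ a ∈ P`, `v` a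
  `p`-regular element of `C_G(P)`;
* `sum_mul_eq_zero_of_sum_eq_zero`: a character without `H`-fixed vectors has
  `∑_{h ∈ H} χ (h g) = 0` for all `g`;
* `kernel_trick`: `χ` in the principal block without `P`-fixed vectors has `K` in its kernel.
(helper12, for helper14's proof of S4503)
-/

set_option autoImplicit false
set_option linter.unusedSectionVars false
set_option linter.unusedVariables false
set_option linter.style.haveILetI false

namespace Cfsg.Agent.Helper12.BRC

open Cfsg Cfsg.Agent.Helper23.Blk Cfsg.Agent.Helper24 Cfsg.Agent.Helper24.Glaub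
  Cfsg.Agent.Helper5.TLD
open scoped ComplexConjugate

section C2

variable (p : ℕ) [Fact p.Prime] {G : Type*} [Group G] [Finite G]

theorem isPBlock_principalBlock (M : Ideal AlgInt) : IsPBlock M (principalBlock M G) :=
  ⟨principalChar G, rfl⟩

/-- a block of `C_G(P)` containing `φ` (with `P ≤ ker φ`) and inducing the principal block of `G`
forces `φ = 1` -/
theorem eq_one_of_induced (M : Ideal AlgInt) (hM : IsPModular p M) (P : Sylow p G)
    (hP : Nat.card P = p)
    (φ : IrrCharacter (Subgroup.centralizer ((P : Subgroup G) : Set G)))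
    (hφP : ∀ x : Subgroup.centralizer ((P : Subgroup G) : Set G), (x : G) ∈ (P : Subgroup G) →
      (φ : Subgroup.centralizer ((P : Subgroup G) : Set G) → ℂ) x =
        (φ : Subgroup.centralizer ((P : Subgroup G) : Set G) → ℂ) 1)
    (hind : IsInducedBlock M (Subgroup.centralizer ((P : Subgroup G) : Set G))
      (blockOf M (φ : Subgroup.centralizer ((P : Subgroup G) : Set G) → ℂ))
      (principalBlock M G)) :
    ∀ c : Subgroup.centralizer ((P : Subgroup G) : Set G),
      (φ : Subgroup.centralizer ((P : Subgroup G) : Set G) → ℂ) c = 1 := by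
  haveI hMp : M.IsPrime := hM.2.1.isPrime
  haveI : Fintype (Subgroup.centralizer ((P : Subgroup G) : Set G)) := Fintype.ofFinite _
  have heq := (Cfsg.Agent.S0936.result p M hM (Subgroup.centralizer ((P : Subgroup G) : Set G))
    _ ⟨_, hind⟩).1 hind
  have hmem : φ ∈ principalBlock M (Subgroup.centralizer ((P : Subgroup G) : Set G)) := by
    rw [← heq]
    exact mem_blockOf_self φ
  exact eq_one_of_mem_principalBlock p M hM P hP φ hφP hmem

/-- **Step C1**: the block of a nontrivial `1_P × ν` does not induce the principal block. -/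
theorem not_induced_principal (M : Ideal AlgInt) (hM : IsPModular p M) (P : Sylow p G)
    (hP : Nat.card P = p)
    (φ : IrrCharacter (Subgroup.centralizer ((P : Subgroup G) : Set G)))
    (hφP : ∀ x : Subgroup.centralizer ((P : Subgroup G) : Set G), (x : G) ∈ (P : Subgroup G) →
      (φ : Subgroup.centralizer ((P : Subgroup G) : Set G) → ℂ) x =
        (φ : Subgroup.centralizer ((P : Subgroup G) : Set G) → ℂ) 1)
    (hne : ∃ x : Subgroup.centralizer ((P : Subgroup G) : Set G),
      (φ : Subgroup.centralizer ((P : Subgroup G) : Set G) → ℂ) x ≠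
        (φ : Subgroup.centralizer ((P : Subgroup G) : Set G) → ℂ) 1) :
    ¬ IsInducedBlock M (Subgroup.centralizer ((P : Subgroup G) : Set G))
      (blockOf M (φ : Subgroup.centralizer ((P : Subgroup G) : Set G) → ℂ))
      (principalBlock M G) := by
  intro hind
  obtain ⟨x, hx⟩ := hne
  have h1 := eq_one_of_induced p M hM P hP φ hφP hind
  exact hx ((h1 x).trans (h1 1).symm)

/-- **Step C2**: characters of the principal block are constant on `a K`. -/
theorem principal_const (M : Ideal AlgInt) (hM : IsPModular p M) (P : Sylow p G)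
    (hP : Nat.card P = p) (χ : IrrCharacter G) (hχ : χ ∈ principalBlock M G)
    (a : G) (ha : a ∈ (P : Subgroup G)) (ha1 : a ≠ 1)
    (v : G) (hv : v ∈ Subgroup.centralizer ((P : Subgroup G) : Set G))
    (hv' : ¬ p ∣ orderOf v) : (χ : G → ℂ) (a * v) = (χ : G → ℂ) a := by
  classical
  haveI hMp : M.IsPrime := hM.2.1.isPrime
  obtain ⟨K, n₀, hK1, hK2, hK3, hK4, -⟩ := exists_pcore' p P hP
  haveI : Fintype K := Fintype.ofFinite K
  letI : Fintype (IrrCharacter K) := irrFintype
  have hKC : ∀ k : K, (k : G) ∈ Subgroup.centralizer ((P : Subgroup G) : Set G) :=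
    fun k => ((hK1 k).1 k.2).1
  set F : K → ℂ := fun k => (χ : G → ℂ) (a * (k : G)) with hF
  have hχcf : IsClassFunction G (χ : G → ℂ) := isClassFunction_of_isIrrCharacter χ.2
  have hFcf : IsClassFunction K F := by
    intro g h
    simp only [hF]
    have hcomm : a * (h : G) = (h : G) * a := comm_of_mem p P ha (hKC h)
    have : a * ((h * g * h⁻¹ : K) : G) = (h : G) * (a * (g : G)) * (h : G)⁻¹ := by
      rw [Subgroup.coe_mul, Subgroup.coe_mul, Subgroup.coe_inv]
      calc a * ((h : G) * (g : G) * (h : G)⁻¹) = (a * (h : G)) * (g : G) * (h : G)⁻¹ := by group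
        _ = ((h : G) * a) * (g : G) * (h : G)⁻¹ := by rw [hcomm]
        _ = (h : G) * (a * (g : G)) * (h : G)⁻¹ := by group
    rw [this, hχcf]
  -- the non-principal coefficients vanish
  have hcoef : ∀ ϑ : IrrCharacter K, ϑ ≠ principalChar K → classInner F (ϑ : K → ℂ) = 0 := by
    intro ϑ hϑ
    have hnot : ¬ IsInducedBlock M (Subgroup.centralizer ((P : Subgroup G) : Set G))
        (blockOf M (inflK p P hP K hK1 hK2 ϑ :
          Subgroup.centralizer ((P : Subgroup G) : Set G) → ℂ)) (principalBlock M G) := by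
      intro hind
      have h1 := eq_one_of_induced p M hM P hP (inflK p P hP K hK1 hK2 ϑ)
        (inflK_ker p P hP K hK1 hK2 ϑ) hind
      apply hϑ
      apply Subtype.ext
      funext k
      rw [← inflK_of_mem_K p P hP K hK1 hK2 ϑ k, h1]
      rfl
    have hzero := FP_eq_zero_of_not_induced p M hM P hP (principalBlock M G)
      (isPBlock_principalBlock M) χ hχ (inflK p P hP K hK1 hK2 ϑ)
      (inflK_ker p P hP K hK1 hK2 ϑ) hnot a ha ha1
    rw [FP_eq_sum p P K hK1] at hzero
    unfold classInner
    rw [Nat.card_eq_fintype_card]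
    rw [← hzero]
    congr 1
    refine Finset.sum_congr rfl fun k _ => ?_
    rw [inflK_of_mem_K p P hP K hK1 hK2 ϑ k]
  have hexp := classFunction_expansion hFcf
  have hconst : ∀ k : K, F k = classInner F ((principalChar K : IrrCharacter K) : K → ℂ) := by
    intro k
    have h1 := congrFun hexp k
    rw [Finset.sum_apply, Finset.sum_eq_single (principalChar K)] at h1
    · rw [h1]
      simp only [Pi.smul_apply, smul_eq_mul]
      have : ((principalChar K : IrrCharacter K) : K → ℂ) k = 1 := rfl
      rw [this, mul_one]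
    · intro ϑ _ hϑ
      rw [hcoef ϑ hϑ]
      simp
    · intro h
      exact absurd (Finset.mem_univ _) h
  have hvK : v ∈ K := (hK1 v).2 ⟨hv, hv'⟩
  have h1 := hconst ⟨v, hvK⟩
  have h2 := hconst 1
  simp only [hF] at h1 h2
  rw [h1, ← h2]
  simp

end C2

section K0

variable {G : Type*} [Group G] [Finite G]

/-- a character without `H`-fixed vectors: the operator `∑_{h ∈ H} ρ(h)` vanishes, so
`∑_{h ∈ H} χ (h g) = 0` for all `g` -/
theorem sum_mul_eq_zero_of_sum_eq_zero {χ : G → ℂ} (hχ : IsCharacter G χ) (H : Subgroup G)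
    [Fintype H] (h0 : ∑ h : H, χ (h : G) = 0) (g : G) : ∑ h : H, χ ((h : G) * g) = 0 := by
  classical
  obtain ⟨n, ρ, rfl⟩ := hχ
  set S : Module.End ℂ (Fin n → ℂ) := ∑ h : H, ρ (h : G) with hS
  have hcard0 : (Fintype.card H : ℂ) ≠ 0 := by
    exact_mod_cast (Fintype.card_pos (α := H)).ne'
  have hSS : S * S = (Fintype.card H : ℂ) • S := by
    rw [hS, Finset.sum_mul]
    have : ∀ h : H, ρ (h : G) * ∑ h' : H, ρ (h' : G) = ∑ h' : H, ρ (h' : G) := by
      intro h
      rw [Finset.mul_sum]
      have e : ∀ h' : H, ρ (h : G) * ρ (h' : G) = ρ (((h * h' : H)) : G) := by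
        intro h'
        rw [Subgroup.coe_mul, map_mul]
      simp_rw [e]
      exact Fintype.sum_equiv (Equiv.mulLeft h) _ _ (fun _ => rfl)
    rw [Finset.sum_congr rfl (fun h _ => this h), Finset.sum_const, Finset.card_univ,
      ← Nat.cast_smul_eq_nsmul ℂ]
  set E : Module.End ℂ (Fin n → ℂ) := (Fintype.card H : ℂ)⁻¹ • S with hE
  have hidem : IsIdempotentElem E := by
    unfold IsIdempotentElem
    rw [hE, smul_mul_smul_comm, hSS, smul_smul]
    congr 1
    field_simp
  have htr : LinearMap.trace ℂ (Fin n → ℂ) E = 0 := by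
    rw [hE, map_smul, hS, map_sum]
    have : ∑ h : H, LinearMap.trace ℂ (Fin n → ℂ) (ρ (h : G)) = 0 := h0
    rw [this, smul_zero]
  have hE0 : E = 0 := LinearMap.IsIdempotentElem.eq_zero_of_trace_eq_zero hidem htr
  have hS0 : S = 0 := by
    have : S = (Fintype.card H : ℂ) • E := by
      rw [hE, smul_smul, mul_inv_cancel₀ hcard0, one_smul]
    rw [this, hE0, smul_zero]
  have : ∑ h : H, ρ.character ((h : G) * g) = LinearMap.trace ℂ (Fin n → ℂ) (S * ρ g) := by
    rw [hS, Finset.sum_mul, map_sum]
    refine Finset.sum_congr rfl fun h _ => ?_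
    simp only [Representation.character]
    rw [map_mul]
  rw [this, hS0, zero_mul, map_zero]

end K0

section C3

variable (p : ℕ) [Fact p.Prime] {G : Type*} [Group G] [Finite G]

/-- **Lemma K** (the kernel trick): a character of the principal block without `P`-fixed vectors
has every `p`-regular element of `C_G(P)` in its kernel. -/
theorem kernel_trick (M : Ideal AlgInt) (hM : IsPModular p M) (P : Sylow p G)
    (hP : Nat.card P = p) (χ : IrrCharacter G) (hχ : χ ∈ principalBlock M G)
    [Fintype (P : Subgroup G)]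
    (h0 : ∑ a : (P : Subgroup G), (χ : G → ℂ) (a : G) = 0)
    (v : G) (hv : v ∈ Subgroup.centralizer ((P : Subgroup G) : Set G))
    (hv' : ¬ p ∣ orderOf v) : (χ : G → ℂ) v = (χ : G → ℂ) 1 := by
  classical
  have hchar : IsCharacter G (χ : G → ℂ) := isCharacter_of_isIrrCharacter χ.2
  have h1 := sum_mul_eq_zero_of_sum_eq_zero hchar (P : Subgroup G) h0 v
  -- split off `a = 1`
  have hsplit : ∀ f : ↥(P : Subgroup G) → ℂ,
      ∑ a : (P : Subgroup G), f a = f 1 + ∑ a ∈ Finset.univ.erase (1 : (P : Subgroup G)), f a := by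
    intro f
    rw [Finset.add_sum_erase _ _ (Finset.mem_univ _)]
  rw [hsplit] at h1 h0
  have hconst : ∀ a ∈ Finset.univ.erase (1 : (P : Subgroup G)),
      (χ : G → ℂ) ((a : G) * v) = (χ : G → ℂ) (a : G) := by
    intro a ha
    have ha1 : (a : G) ≠ 1 := by
      intro h
      exact (Finset.mem_erase.1 ha).1 (Subtype.ext h)
    exact principal_const p M hM P hP χ hχ (a : G) a.2 ha1 v hv hv'
  rw [Finset.sum_congr rfl hconst] at h1
  simp only [Subgroup.coe_one, one_mul] at h1 h0
  have := h1.trans h0.symm
  exact add_right_cancel this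

end C3

end Cfsg.Agent.Helper12.BRC
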