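import Mathlib
import Cfsg.Prelude.Def_Blocks
import Cfsg.Agent.S0908
import Cfsg.Agent.S0914
import Cfsg.Agent.S0968
import Cfsg.Agent.S0973
import Cfsg.Agent.Lib.Helper1.TLDRES
import Cfsg.Agent.Lib.Helper2.TLDDORB
import Cfsg.Agent.Lib.Helper15.TLDGGT
import Cfsg.Agent.Lib.Helper20.TLDDDICHA
import Cfsg.Agent.Lib.Helper20.TLDDDICHB
import Cfsg.Agent.Lib.Helper23.BlockIdem
import Cfsg.Agent.Lib.Helper23.BlockInducedDefect
import Cfsg.Agent.Lib.Helper23.BlockDefectGroup2
import Cfsg.Agent.Lib.Helper23.BlockPairs4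
import Cfsg.Agent.Lib.Helper24.CharIntegral
import Cfsg.Agent.Lib.Helper28.TLGROOT

/-!
# S4502 (`p ‖ |G|`: the number of irreducible characters of `p'`-degree is `k(N_G(P))`), part A:
block-theoretic lemmas

* `not_dvd_degree`: members of a block with a defect group of order `p` have `p'`-degree;
* `exists_root_at`: a block of positive defect has a root `θ ∈ Irr(C_G(P))` at any Sylow `P`;
* `root_conj`: two roots of a block are `N_G(P)`-conjugate;
* `root_of_conj`: `N_G(P)`-conjugates of roots are roots;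
* `relIndex_stab_conj`: conjugate characters of `C_G(P)` have the same inertial index.
-/

set_option autoImplicit false
set_option linter.unusedSectionVars false
set_option linter.unusedVariables false
set_option linter.style.haveILetI false

namespace Cfsg.Agent.Helper12.MK1

open Cfsg Cfsg.Agent.Helper23.Blk Cfsg.Agent.Helper24 Cfsg.Agent.Helper5.TLD
  Cfsg.Agent.Helper5.TLG
open scoped ComplexConjugate

section A

variable (p : ℕ) [Fact p.Prime] {G : Type*} [Group G] [Finite G]

theorem factorization_eq_one (hdiv : p ∣ Nat.card G) (hsq : ¬ p ^ 2 ∣ Nat.card G) :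
    (Nat.card G).factorization p = 1 := by
  have hprime : p.Prime := Fact.out
  have hGne : Nat.card G ≠ 0 := Nat.card_pos.ne'
  have h1 : 0 < (Nat.card G).factorization p :=
    hprime.factorization_pos_of_dvd hGne hdiv
  have h2 : ¬ 2 ≤ (Nat.card G).factorization p := fun h =>
    hsq ((hprime.pow_dvd_iff_le_factorization hGne).mpr h)
  omega

theorem card_sylow (hdiv : p ∣ Nat.card G) (hsq : ¬ p ^ 2 ∣ Nat.card G) (P : Sylow p G) :
    Nat.card P = p := by
  rw [Sylow.card_eq_multiplicity, factorization_eq_one p hdiv hsq, pow_one]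

/-- blocks containing a character of `p'`-degree have positive defect -/
theorem defect_pos_of_not_dvd (hdiv : p ∣ Nat.card G) (hsq : ¬ p ^ 2 ∣ Nat.card G)
    (B : Set (IrrCharacter G)) (χ : IrrCharacter G) (hχ : χ ∈ B)
    (h : ¬ p ∣ charDegree (χ : G → ℂ)) : 0 < blockDefect p B := by
  unfold blockDefect
  rw [factorization_eq_one p hdiv hsq]
  have h0 : (charDegree (χ : G → ℂ)).factorization p = 0 :=
    Nat.factorization_eq_zero_of_not_dvd h
  have hmem : 0 ∈ (fun χ : IrrCharacter G => (charDegree (χ : G → ℂ)).factorization p) '' B :=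
    ⟨χ, hχ, h0⟩
  have : sInf ((fun χ : IrrCharacter G => (charDegree (χ : G → ℂ)).factorization p) '' B) = 0 :=
    Nat.le_zero.1 (Nat.sInf_le hmem)
  rw [this]
  exact Nat.one_pos

/-- members of a block with a defect group of order `p` have `p'`-degree, when `p ‖ |G|` -/
theorem not_dvd_degree (M : Ideal AlgInt) (hM : IsPModular p M) (hdiv : p ∣ Nat.card G)
    (hsq : ¬ p ^ 2 ∣ Nat.card G) (B : Set (IrrCharacter G)) (hB : IsPBlock M B)
    (D : Subgroup G) (hD : IsDefectGroup p M B D) (hDc : Nat.card D = p)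
    (χ : IrrCharacter G) (hχ : χ ∈ B) : ¬ p ∣ charDegree (χ : G → ℂ) := by
  intro hdvd
  have hprime : p.Prime := Fact.out
  haveI hMp : M.IsPrime := hM.2.1.isPrime
  haveI : Fintype G := Fintype.ofFinite G
  have hBeq : B = blockOf M (χ : G → ℂ) := by
    obtain ⟨ψ, rfl⟩ := hB
    exact (blockOf_eq_of_mem hχ).symm
  have hdeg0 : charDegree (χ : G → ℂ) ≠ 0 := (charDegree_pos χ.2).ne'
  obtain ⟨m, hm⟩ := charDegree_dvd_card χ.2
  have hnot : ¬ p ∣ Nat.card G / charDegree (χ : G → ℂ) := by
    rw [hm, Nat.mul_div_cancel_left _ (Nat.pos_of_ne_zero hdeg0)]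
    intro hpm
    apply hsq
    rw [hm, pow_two]
    exact Nat.mul_dvd_mul hdvd hpm
  have hsingle := (Cfsg.Agent.S0914.result p M hM χ).1 hnot
  have hcard := Cfsg.Agent.S0908.result p M hM B hB D hD
  have hdef0 : blockDefect p B = 0 := by
    rw [hBeq, hsingle]
    unfold blockDefect
    rw [factorization_eq_one p hdiv hsq, Set.image_singleton, csInf_singleton]
    have : 0 < (charDegree (χ : G → ℂ)).factorization p :=
      hprime.factorization_pos_of_dvd hdeg0 hdvd
    omega
  rw [hdef0, pow_zero, hDc] at hcard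
  exact hprime.one_lt.ne' hcard

/-- any Sylow `p`-subgroup is a defect group of a block of positive defect, when `p ‖ |G|` -/
theorem isDefectGroup_of_defect_pos (M : Ideal AlgInt) (hM : IsPModular p M)
    (hdiv : p ∣ Nat.card G) (hsq : ¬ p ^ 2 ∣ Nat.card G) (P : Sylow p G)
    (B : Set (IrrCharacter G)) (hB : IsPBlock M B) (hd : 0 < blockDefect p B) :
    IsDefectGroup p M B (P : Subgroup G) := by
  obtain ⟨P', -, hD', -⟩ := exists_root p M hM hdiv hsq B hB hd
  obtain ⟨g, hg⟩ := MulAction.exists_smul_eq G P' P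
  have hcoe : ((g • P' : Sylow p G) : Subgroup G) =
      (P' : Subgroup G).map (MulAut.conj g).toMonoidHom := by
    rw [Sylow.coe_subgroup_smul, Subgroup.pointwise_smul_def]
    rfl
  have h2 := isDefectGroup_conj hM hB hD' g
  rw [← hcoe, hg] at h2
  exact h2

/-- transport of a root along an equality of subgroups -/
theorem root_transport' (M : Ideal AlgInt) (B : Set (IrrCharacter G)) (D : Subgroup G)
    {H H' : Subgroup G} (h : H = H') (b0 : Set (IrrCharacter H)) (θ0 : IrrCharacter H)
    (hθ0 : θ0 ∈ b0) (hind : IsInducedBlock M H b0 B)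
    (hker : ∀ x : H, (x : G) ∈ D → (θ0 : H → ℂ) x = (θ0 : H → ℂ) 1) :
    ∃ (b : Set (IrrCharacter H')) (θ : IrrCharacter H'), IsInducedBlock M H' b B ∧ θ ∈ b ∧
      ∀ x : H', (x : G) ∈ D → (θ : H' → ℂ) x = (θ : H' → ℂ) 1 := by
  subst h
  exact ⟨b0, θ0, hind, hθ0, hker⟩

/-- a block of positive defect has a root at any Sylow `p`-subgroup, when `p ‖ |G|` -/
theorem exists_root_at (M : Ideal AlgInt) (hM : IsPModular p M)
    (hdiv : p ∣ Nat.card G) (hsq : ¬ p ^ 2 ∣ Nat.card G) (P : Sylow p G)
    (B : Set (IrrCharacter G)) (hB : IsPBlock M B) (hd : 0 < blockDefect p B) :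
    ∃ θ : IrrCharacter (Subgroup.centralizer ((P : Subgroup G) : Set G)),
      (∀ x : Subgroup.centralizer ((P : Subgroup G) : Set G), (x : G) ∈ (P : Subgroup G) →
        (θ : Subgroup.centralizer ((P : Subgroup G) : Set G) → ℂ) x =
          (θ : Subgroup.centralizer ((P : Subgroup G) : Set G) → ℂ) 1) ∧
      IsInducedBlock M (Subgroup.centralizer ((P : Subgroup G) : Set G))
        (blockOf M (θ : Subgroup.centralizer ((P : Subgroup G) : Set G) → ℂ)) B := by
  classical
  haveI hMp : M.IsPrime := hM.2.1.isPrime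
  haveI : Fintype (Subgroup.centralizer ((P : Subgroup G) : Set G)) := Fintype.ofFinite _
  have hP := card_sylow p hdiv hsq P
  have hD := isDefectGroup_of_defect_pos p M hM hdiv hsq P B hB hd
  have hDle := Cfsg.Agent.Helper5.TL.gt_le_centralizer p P hP
  have hL : (P : Subgroup G) ⊔ Subgroup.centralizer ((P : Subgroup G) : Set G) =
      Subgroup.centralizer ((P : Subgroup G) : Set G) := sup_eq_right.mpr hDle
  obtain ⟨⟨b0, hb0D, hb0ind⟩, -⟩ := Cfsg.Agent.S0973.result p M hM B hB (P : Subgroup G) hD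
  have hP' : IsPGroup p ((P : Subgroup G).subgroupOf
      ((P : Subgroup G) ⊔ Subgroup.centralizer ((P : Subgroup G) : Set G))) := by
    have hcard : Nat.card ((P : Subgroup G).subgroupOf
        ((P : Subgroup G) ⊔ Subgroup.centralizer ((P : Subgroup G) : Set G))) = p ^ 1 := by
      rw [pow_one]
      exact (Nat.card_congr (Subgroup.subgroupOfEquivOfLe
        (le_sup_left : (P : Subgroup G) ≤
          (P : Subgroup G) ⊔ Subgroup.centralizer ((P : Subgroup G) : Set G))).toEquiv).trans hP
    exact IsPGroup.of_card hcard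
  have hcent : Subgroup.centralizer ((((P : Subgroup G).subgroupOf
      ((P : Subgroup G) ⊔ Subgroup.centralizer ((P : Subgroup G) : Set G)) :
        Subgroup ((P : Subgroup G) ⊔ Subgroup.centralizer ((P : Subgroup G) : Set G) :
          Subgroup G))) : Set ((P : Subgroup G) ⊔
            Subgroup.centralizer ((P : Subgroup G) : Set G) : Subgroup G)) = ⊤ := by
    rw [eq_top_iff]
    intro x _
    rw [Subgroup.mem_centralizer_iff]
    intro y hy
    have hx : (x : G) ∈ Subgroup.centralizer ((P : Subgroup G) : Set G) := hL.le x.2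
    have hy' : (y : G) ∈ (P : Subgroup G) := Subgroup.mem_subgroupOf.mp hy
    apply Subtype.ext
    exact Subgroup.mem_centralizer_iff.mp hx (y : G) hy'
  have hG' : (P : Subgroup G).subgroupOf
      ((P : Subgroup G) ⊔ Subgroup.centralizer ((P : Subgroup G) : Set G)) ⊔
      Subgroup.centralizer ((((P : Subgroup G).subgroupOf
      ((P : Subgroup G) ⊔ Subgroup.centralizer ((P : Subgroup G) : Set G)) :
        Subgroup ((P : Subgroup G) ⊔ Subgroup.centralizer ((P : Subgroup G) : Set G) :
          Subgroup G))) : Set ((P : Subgroup G) ⊔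
            Subgroup.centralizer ((P : Subgroup G) : Set G) : Subgroup G)) = ⊤ := by
    rw [hcent]; exact sup_top_eq _
  obtain ⟨⟨θ0, ⟨hθ0b, hθ0P⟩, -⟩, -, -⟩ := Cfsg.Agent.S0968.result p M hM
    ((P : Subgroup G).subgroupOf
      ((P : Subgroup G) ⊔ Subgroup.centralizer ((P : Subgroup G) : Set G))) hP' hG'
    b0 hb0ind.1 hb0D
  obtain ⟨b, θ, hind, hθb, hker⟩ := root_transport' M B (P : Subgroup G) hL b0 θ0 hθ0b hb0ind
    (fun x hx => hθ0P x (Subgroup.mem_subgroupOf.mpr hx))
  refine ⟨θ, hker, ?_⟩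
  have hbeq : blockOf M (θ : Subgroup.centralizer ((P : Subgroup G) : Set G) → ℂ) = b := by
    obtain ⟨ψ, rfl⟩ := hind.1
    exact blockOf_eq_of_mem hθb
  rw [hbeq]
  exact hind

/-- two roots of a block are conjugate under `N_G(P)` -/
theorem root_conj (M : Ideal AlgInt) (hM : IsPModular p M) (P : Sylow p G)
    (hP : Nat.card P = p) (B : Set (IrrCharacter G)) (hB : IsPBlock M B)
    (θ φ : IrrCharacter (Subgroup.centralizer ((P : Subgroup G) : Set G)))
    (hθP : ∀ x : Subgroup.centralizer ((P : Subgroup G) : Set G), (x : G) ∈ (P : Subgroup G) →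
      (θ : Subgroup.centralizer ((P : Subgroup G) : Set G) → ℂ) x =
        (θ : Subgroup.centralizer ((P : Subgroup G) : Set G) → ℂ) 1)
    (hφP : ∀ x : Subgroup.centralizer ((P : Subgroup G) : Set G), (x : G) ∈ (P : Subgroup G) →
      (φ : Subgroup.centralizer ((P : Subgroup G) : Set G) → ℂ) x =
        (φ : Subgroup.centralizer ((P : Subgroup G) : Set G) → ℂ) 1)
    (h1 : IsInducedBlock M (Subgroup.centralizer ((P : Subgroup G) : Set G))
      (blockOf M (θ : Subgroup.centralizer ((P : Subgroup G) : Set G) → ℂ)) B)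
    (h2 : IsInducedBlock M (Subgroup.centralizer ((P : Subgroup G) : Set G))
      (blockOf M (φ : Subgroup.centralizer ((P : Subgroup G) : Set G) → ℂ)) B) :
    ∃ n ∈ Subgroup.normalizer ((P : Subgroup G) : Set G),
      ∀ c c' : Subgroup.centralizer ((P : Subgroup G) : Set G), (c' : G) = n * c * n⁻¹ →
        (φ : Subgroup.centralizer ((P : Subgroup G) : Set G) → ℂ) c =
          (θ : Subgroup.centralizer ((P : Subgroup G) : Set G) → ℂ) c' := by
  classical
  haveI hMp : M.IsPrime := hM.2.1.isPrime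
  haveI : Fintype (Subgroup.centralizer ((P : Subgroup G) : Set G)) := Fintype.ofFinite _
  have hPC := Cfsg.Agent.Helper5.TL.gt_le_centralizer p P hP
  have hBP := ddich_isDefectGroup p M hM P hP B hB _ h1
  obtain ⟨n, hn, h⟩ := ddich_conj_blocks_aux p M hM B hB (P : Subgroup G) hBP
    (Subgroup.centralizer ((P : Subgroup G) : Set G)) (sup_eq_right.2 hPC).symm
    (blockOf M (θ : Subgroup.centralizer ((P : Subgroup G) : Set G) → ℂ))
    (blockOf M (φ : Subgroup.centralizer ((P : Subgroup G) : Set G) → ℂ)) h1 h2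
  obtain ⟨θ', hθ'mem, hθ'⟩ := h θ (mem_blockOf_self θ)
  have hnP : ∀ x : G, x ∈ (P : Subgroup G) → n * x * n⁻¹ ∈ (P : Subgroup G) := by
    intro x hx
    exact (Subgroup.mem_normalizer_iff.1 hn x).1 hx
  have hθ'P : ∀ x : Subgroup.centralizer ((P : Subgroup G) : Set G),
      (x : G) ∈ (P : Subgroup G) →
      (θ' : Subgroup.centralizer ((P : Subgroup G) : Set G) → ℂ) x =
        (θ' : Subgroup.centralizer ((P : Subgroup G) : Set G) → ℂ) 1 := by
    intro x hx
    have hx1 : n * (x : G) * n⁻¹ ∈ Subgroup.centralizer ((P : Subgroup G) : Set G) :=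
      hPC (hnP _ hx)
    have h11 : n * ((1 : Subgroup.centralizer ((P : Subgroup G) : Set G)) : G) * n⁻¹ ∈
        Subgroup.centralizer ((P : Subgroup G) : Set G) := by simp
    rw [hθ' x hx1, hθ' 1 h11]
    have := hθP ⟨n * (x : G) * n⁻¹, hx1⟩ (hnP _ hx)
    rw [this]
    have h1eq : (⟨n * ((1 : Subgroup.centralizer ((P : Subgroup G) : Set G)) : G) * n⁻¹, h11⟩ :
        Subgroup.centralizer ((P : Subgroup G) : Set G)) = 1 := by
      apply Subtype.ext
      simp
    rw [h1eq]
  have heq := ddich_eq_of_sameBlock p M hM P hP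
    (fun K hK1 θ hθP => exists_res_irr p P hP K hK1 θ hθP) φ θ' hφP hθ'P hθ'mem
  refine ⟨n, hn, ?_⟩
  intro c c' hcc'
  have hc1 : n * (c : G) * n⁻¹ ∈ Subgroup.centralizer ((P : Subgroup G) : Set G) := by
    rw [← hcc']
    exact c'.2
  rw [heq c, hθ' c hc1]
  have hceq : (⟨n * (c : G) * n⁻¹, hc1⟩ : Subgroup.centralizer ((P : Subgroup G) : Set G)) = c' :=
    Subtype.ext hcc'.symm
  rw [hceq]

end A

end Cfsg.Agent.Helper12.MK1
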