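import Mathlib
import Cfsg.Prelude.Def_Blocks
import Cfsg.Agent.Lib.Helper5.TLDDefs
import Cfsg.Agent.Lib.Helper24.CharLinear
import Cfsg.Agent.Lib.Helper24.CharOrtho
import Cfsg.Agent.S0907

set_option autoImplicit false

/-!
# S4442 Layer D, piece DW: weak block orthogonality for the `θ`-part `FP`
-/

namespace Cfsg.Agent.Helper5.TLD

open scoped ComplexConjugate
open Cfsg

section LayerD

variable (p : ℕ) [Fact p.Prime] {G : Type*} [Group G] [Finite G]

/-- an element `a * c`, `a ∈ P^#` (`|P| = p`), `c ∈ C_G(P)` `p`-regular, has order divisible by `p`. -/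
theorem dw_dvd_orderOf (P : Sylow p G) (hP : Nat.card P = p) (a : G) (ha : a ∈ (P : Subgroup G))
    (ha1 : a ≠ 1) (c : Subgroup.centralizer ((P : Subgroup G) : Set G)) (hc : ¬ p ∣ orderOf c) :
    p ∣ orderOf (a * (c : G)) := by
  have hp : p.Prime := Fact.out
  have hoa : orderOf a = p := by
    have h1 : orderOf (⟨a, ha⟩ : (P : Subgroup G)) ∣ p := by
      have := orderOf_dvd_natCard (⟨a, ha⟩ : (P : Subgroup G))
      rwa [hP] at this
    have h2 : orderOf (⟨a, ha⟩ : (P : Subgroup G)) = orderOf a := by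
      rw [← Subgroup.orderOf_coe]
    rw [h2] at h1
    rcases (Nat.dvd_prime hp).1 h1 with h | h
    · exact absurd (orderOf_eq_one_iff.1 h) ha1
    · exact h
  have hcomm : Commute a (c : G) := by
    have := c.2
    rw [Subgroup.mem_centralizer_iff] at this
    exact this a ha
  have hoc : orderOf (c : G) = orderOf c := Subgroup.orderOf_coe c
  have hcop : Nat.Coprime (orderOf a) (orderOf (c : G)) := by
    rw [hoa, hoc]
    exact (Nat.Prime.coprime_iff_not_dvd hp).2 hc
  rw [hcomm.orderOf_mul_eq_mul_orderOf_of_coprime hcop, hoa]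
  exact dvd_mul_right _ _

/-- PIECE DW (weak block orthogonality `Cfsg.Agent.S0907.result`, with `y = (a c)⁻¹`). -/
theorem sum_block_mul_FP (M : Ideal AlgInt) (hM : IsPModular p M) (P : Sylow p G)
    (hP : Nat.card P = p) (B : Set (IrrCharacter G)) (hB : IsPBlock M B)
    (θ : Subgroup.centralizer ((P : Subgroup G) : Set G) → ℂ)
    (g : G) (hg : ¬ p ∣ orderOf g) (a : G) (ha : a ∈ (P : Subgroup G)) (ha1 : a ≠ 1) :
    ∑ᶠ χ ∈ B, (χ : G → ℂ) g * FP p P θ (χ : G → ℂ) a = 0 := by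
  classical
  haveI : Finite (IrrCharacter G) := Cfsg.Agent.Helper24.irr_finite'
  have key : ∀ c : Subgroup.centralizer ((P : Subgroup G) : Set G), ¬ p ∣ orderOf c →
      ∑ᶠ χ ∈ B, (χ : G → ℂ) g * (χ : G → ℂ) (a * (c : G)) = 0 := by
    intro c hc
    have hy : p ∣ orderOf ((a * (c : G))⁻¹) := by
      rw [orderOf_inv]
      exact dw_dvd_orderOf p P hP a ha ha1 c hc
    have h1 := Cfsg.Agent.S0907.result p M hM B hB g (a * (c : G))⁻¹ hg hy
    have h2 : ∀ χ : IrrCharacter G,
        conj ((χ : G → ℂ) (a * (c : G))⁻¹) = (χ : G → ℂ) (a * (c : G)) := by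
      intro χ
      rw [Cfsg.Agent.Helper24.irr_inv (Cfsg.Agent.Helper24.isCharacter_of_isIrrCharacter χ.2),
        Complex.conj_conj]
    simpa only [h2] using h1
  unfold FP
  set S : Set (Subgroup.centralizer ((P : Subgroup G) : Set G)) := {c | ¬ p ∣ orderOf c} with hS
  rw [finsum_mem_eq_finite_toFinset_sum _ (Set.toFinite B)]
  have h3 : ∀ χ : IrrCharacter G,
      (∑ᶠ c ∈ S, (χ : G → ℂ) (a * (c : G)) * conj (θ c)) =
        ∑ c ∈ (Set.toFinite S).toFinset, (χ : G → ℂ) (a * (c : G)) * conj (θ c) := fun χ =>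
    finsum_mem_eq_finite_toFinset_sum _ (Set.toFinite S)
  simp only [h3]
  have h4 : ∀ χ : IrrCharacter G, (χ : G → ℂ) g * ((Nat.card S : ℂ)⁻¹ *
      ∑ c ∈ (Set.toFinite S).toFinset, (χ : G → ℂ) (a * (c : G)) * conj (θ c)) =
      ∑ c ∈ (Set.toFinite S).toFinset, (Nat.card S : ℂ)⁻¹ * conj (θ c) *
        ((χ : G → ℂ) g * (χ : G → ℂ) (a * (c : G))) := by
    intro χ
    rw [Finset.mul_sum, Finset.mul_sum]
    refine Finset.sum_congr rfl fun c _ => ?_
    ring
  simp only [h4]
  rw [Finset.sum_comm]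
  refine Finset.sum_eq_zero fun c hc => ?_
  rw [← Finset.mul_sum]
  have hcS : c ∈ S := by simpa using hc
  have := key c hcS
  rw [finsum_mem_eq_finite_toFinset_sum _ (Set.toFinite B)] at this
  rw [this, mul_zero]

end LayerD

end Cfsg.Agent.Helper5.TLD
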