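import Mathlib

set_option autoImplicit false

/-!
# S4507, piece EXTPOW (core): a field automorphism of `ℂ` fixing the `m`-th roots of unity and
raising the `p`-th roots of unity to the `u`-th power, with the extension property (piece EXTA) as a
hypothesis
-/

namespace Cfsg.Agent.Helper5.TLG

/-- a ring automorphism of `ℂ` which raises one primitive `n`-th root of unity to the `v`-th power
raises every `n`-th root of unity to the `v`-th power -/
theorem extpow_pow_of_primitive (σ : ℂ ≃+* ℂ) (n v : ℕ) [NeZero n] (ζ : ℂ)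
    (hζ : IsPrimitiveRoot ζ n) (hσ : σ ζ = ζ ^ v) (z : ℂ) (hz : z ^ n = 1) : σ z = z ^ v := by
  obtain ⟨j, -, rfl⟩ := hζ.eq_pow_of_pow_eq_one hz
  rw [map_pow, hσ, ← pow_mul, ← pow_mul, mul_comm]

/-- core of EXTPOW, with the extension property EXTA as a hypothesis -/
theorem exists_ringEquiv_pow_of
    (hEXTA : ∀ (F : Subfield ℂ) (τ : F ≃+* F),
      ∃ σ : ℂ ≃+* ℂ, ∀ x : F, σ (x : ℂ) = ((τ x : F) : ℂ))
    (p : ℕ) [Fact p.Prime] (m : ℕ) (hm : 0 < m) (hpm : ¬ p ∣ m)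
    (u : ℕ) (hu1 : 1 ≤ u) (hup : u < p) :
    ∃ σ : ℂ ≃+* ℂ, (∀ z : ℂ, z ^ m = 1 → σ z = z) ∧ (∀ z : ℂ, z ^ p = 1 → σ z = z ^ u) := by
  have hp : p.Prime := Fact.out
  have hn0 : p * m ≠ 0 := Nat.mul_ne_zero hp.ne_zero hm.ne'
  haveI : NeZero (p * m) := ⟨hn0⟩
  have hcop : Nat.Coprime p m := (Nat.Prime.coprime_iff_not_dvd hp).2 hpm
  obtain ⟨v, hvp, hvm⟩ := Nat.chineseRemainder hcop u 1
  have hvn : Nat.Coprime v (p * m) := by
    apply Nat.Coprime.mul_right
    · have h1 : Nat.gcd v p = Nat.gcd u p := hvp.gcd_eq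
      have h2 : Nat.gcd u p = 1 :=
        Nat.Coprime.symm ((Nat.Prime.coprime_iff_not_dvd hp).2 (Nat.not_dvd_of_pos_of_lt hu1 hup))
      rw [Nat.Coprime, h1, h2]
    · have h1 : Nat.gcd v m = Nat.gcd 1 m := hvm.gcd_eq
      rw [Nat.Coprime, h1, Nat.gcd_one_left]
  -- the cyclotomic field
  have hζ : IsPrimitiveRoot (Complex.exp (2 * Real.pi * Complex.I / ((p * m : ℕ) : ℂ))) (p * m) :=
    Complex.isPrimitiveRoot_exp (p * m) hn0
  set ζ : ℂ := Complex.exp (2 * Real.pi * Complex.I / ((p * m : ℕ) : ℂ)) with hζdef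
  have halg : IsAlgebraic ℚ ζ :=
    ((hζ.isIntegral (Nat.pos_of_ne_zero hn0)).tower_top (A := ℚ)).isAlgebraic
  haveI hcyc : IsCyclotomicExtension {p * m} ℚ (IntermediateField.adjoin ℚ ({ζ} : Set ℂ)) := by
    change IsCyclotomicExtension {p * m} ℚ
      (IntermediateField.adjoin ℚ ({ζ} : Set ℂ)).toSubalgebra
    rw [IntermediateField.adjoin_simple_toSubalgebra_of_isAlgebraic halg]
    exact hζ.adjoin_isCyclotomicExtension ℚ
  have hirr : Irreducible (Polynomial.cyclotomic (p * m) ℚ) :=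
    Polynomial.cyclotomic.irreducible_rat (Nat.pos_of_ne_zero hn0)
  have hz0 := IsCyclotomicExtension.zeta_spec (p * m) ℚ
    (IntermediateField.adjoin ℚ ({ζ} : Set ℂ))
  set z0 := IsCyclotomicExtension.zeta (p * m) ℚ (IntermediateField.adjoin ℚ ({ζ} : Set ℂ))
    with hz0def
  have hμ : IsPrimitiveRoot (z0 ^ v) (p * m) := hz0.pow_of_coprime v hvn
  have hτ₀ := IsCyclotomicExtension.fromZetaAut_spec hμ hirr
  set τ₀ := IsCyclotomicExtension.fromZetaAut hμ hirr with hτ₀def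
  -- as an automorphism of a subfield
  let e : (IntermediateField.adjoin ℚ ({ζ} : Set ℂ)).toSubfield ≃+*
      (IntermediateField.adjoin ℚ ({ζ} : Set ℂ)) :=
    { toFun := fun x => ⟨x.1, x.2⟩
      invFun := fun x => ⟨x.1, x.2⟩
      left_inv := fun _ => rfl
      right_inv := fun _ => rfl
      map_mul' := fun _ _ => rfl
      map_add' := fun _ _ => rfl }
  obtain ⟨σ, hσ⟩ := hEXTA (IntermediateField.adjoin ℚ ({ζ} : Set ℂ)).toSubfield
    (e.trans (τ₀.toRingEquiv.trans e.symm))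
  have hζ' : IsPrimitiveRoot ((z0 : IntermediateField.adjoin ℚ ({ζ} : Set ℂ)) : ℂ) (p * m) :=
    hz0.map_of_injective (f := (IntermediateField.adjoin ℚ ({ζ} : Set ℂ)).val)
      Subtype.val_injective
  have hσζ : σ ((z0 : IntermediateField.adjoin ℚ ({ζ} : Set ℂ)) : ℂ) =
      ((z0 : IntermediateField.adjoin ℚ ({ζ} : Set ℂ)) : ℂ) ^ v := by
    have h1 := hσ (e.symm z0)
    have h2 : ((e.symm z0 : (IntermediateField.adjoin ℚ ({ζ} : Set ℂ)).toSubfield) : ℂ) =
        ((z0 : IntermediateField.adjoin ℚ ({ζ} : Set ℂ)) : ℂ) := rfl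
    rw [h2] at h1
    rw [h1]
    have h3 : (e.trans (τ₀.toRingEquiv.trans e.symm)) (e.symm z0) = e.symm (τ₀ z0) := by
      show e.symm (τ₀ (e (e.symm z0))) = e.symm (τ₀ z0)
      rw [RingEquiv.apply_symm_apply]
    rw [h3, hτ₀]
    rfl
  have key := extpow_pow_of_primitive σ (p * m) v _ hζ' hσζ
  refine ⟨σ, fun z hz => ?_, fun z hz => ?_⟩
  · have hzn : z ^ (p * m) = 1 := by rw [mul_comm, pow_mul, hz, one_pow]
    rw [key z hzn]
    have h1 : v % orderOf z = 1 % orderOf z := hvm.of_dvd (orderOf_dvd_of_pow_eq_one hz)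
    rw [← pow_mod_orderOf z v, h1, pow_mod_orderOf, pow_one]
  · have hzn : z ^ (p * m) = 1 := by rw [pow_mul, hz, one_pow]
    rw [key z hzn]
    have h1 : v % orderOf z = u % orderOf z := hvp.of_dvd (orderOf_dvd_of_pow_eq_one hz)
    rw [← pow_mod_orderOf z v, h1, pow_mod_orderOf]

end Cfsg.Agent.Helper5.TLG
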