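import Mathlib
import Cfsg.Agent.Lib.Helper28.TLGEXTA
import Cfsg.Agent.Lib.Helper12.TLGEXTPOWCore

set_option autoImplicit false

/-!
# S4507, piece EXTPOW: a field automorphism of `ℂ` fixing the `m`-th roots of unity and raising the
`p`-th roots of unity to the `u`-th power
-/

namespace Cfsg.Agent.Helper5.TLG

section Ext

/-- PIECE EXTPOW: for a prime `p`, `p ∤ m` and `1 ≤ u < p` there is a field automorphism of `ℂ` fixing
the `m`-th roots of unity and raising the `p`-th roots of unity to the `u`-th power. -/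
theorem exists_ringEquiv_pow (p : ℕ) [Fact p.Prime] (m : ℕ) (hm : 0 < m) (hpm : ¬ p ∣ m)
    (u : ℕ) (hu1 : 1 ≤ u) (hup : u < p) :
    ∃ σ : ℂ ≃+* ℂ, (∀ z : ℂ, z ^ m = 1 → σ z = z) ∧ (∀ z : ℂ, z ^ p = 1 → σ z = z ^ u) :=
  exists_ringEquiv_pow_of exists_ringEquiv_extends p m hm hpm u hu1 hup

end Ext

end Cfsg.Agent.Helper5.TLG
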