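import Mathlib
import Cfsg.Prelude.Def_Blocks

set_option autoImplicit false

/-!
# S4507, piece STAB: the stabilizer of `θ` in `N_G(P)` is a subgroup
-/

namespace Cfsg.Agent.Helper5.TLG

open scoped ComplexConjugate
open Cfsg

section Root

variable (p : ℕ) [Fact p.Prime] {G : Type*} [Group G] [Finite G]

/-- `N_G(P)` normalizes `C_G(P)` -/
theorem stab_conj_mem (P : Subgroup G) (n : G) (hn : n ∈ Subgroup.normalizer (P : Set G))
    (c : G) (hc : c ∈ Subgroup.centralizer (P : Set G)) :
    n * c * n⁻¹ ∈ Subgroup.centralizer (P : Set G) := by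
  rw [Subgroup.mem_centralizer_iff] at hc ⊢
  intro u hu
  have hu' : n⁻¹ * u * n ∈ P := by
    have := (Subgroup.mem_normalizer_iff'.1 (Subgroup.inv_mem _ hn) (u * n)).2
    rw [Subgroup.mem_normalizer_iff] at hn
    have h2 := (hn (n⁻¹ * u * n)).2
    apply h2
    have : n * (n⁻¹ * u * n) * n⁻¹ = u := by group
    rw [this]
    exact hu
  have h1 := hc (n⁻¹ * u * n) hu'
  calc u * (n * c * n⁻¹) = n * ((n⁻¹ * u * n) * c) * n⁻¹ := by group
    _ = n * (c * (n⁻¹ * u * n)) * n⁻¹ := by rw [h1]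
    _ = n * c * n⁻¹ * u := by group

/-- PIECE STAB: the stabilizer of `θ` in `N_G(P)` is a subgroup. -/
theorem exists_stab (P : Sylow p G)
    (θ : IrrCharacter (Subgroup.centralizer ((P : Subgroup G) : Set G))) :
    ∃ T : Subgroup G, ∀ g : G, g ∈ T ↔ (g ∈ Subgroup.normalizer ((P : Subgroup G) : Set G) ∧
      ∀ c c' : Subgroup.centralizer ((P : Subgroup G) : Set G), (c' : G) = g * c * g⁻¹ →
        (θ : Subgroup.centralizer ((P : Subgroup G) : Set G) → ℂ) c' =
          (θ : Subgroup.centralizer ((P : Subgroup G) : Set G) → ℂ) c) := by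
  have hone : (1 : G) ∈ {g : G | g ∈ Subgroup.normalizer ((P : Subgroup G) : Set G) ∧
      ∀ c c' : Subgroup.centralizer ((P : Subgroup G) : Set G), (c' : G) = g * c * g⁻¹ →
        (θ : Subgroup.centralizer ((P : Subgroup G) : Set G) → ℂ) c' =
          (θ : Subgroup.centralizer ((P : Subgroup G) : Set G) → ℂ) c} := by
    refine ⟨Subgroup.one_mem _, fun c c' h => ?_⟩
    have : c' = c := by
      apply Subtype.ext
      rw [h]
      group
    rw [this]
  have hmul : ∀ g h : G,
      g ∈ {g : G | g ∈ Subgroup.normalizer ((P : Subgroup G) : Set G) ∧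
        ∀ c c' : Subgroup.centralizer ((P : Subgroup G) : Set G), (c' : G) = g * c * g⁻¹ →
          (θ : Subgroup.centralizer ((P : Subgroup G) : Set G) → ℂ) c' =
            (θ : Subgroup.centralizer ((P : Subgroup G) : Set G) → ℂ) c} →
      h ∈ {g : G | g ∈ Subgroup.normalizer ((P : Subgroup G) : Set G) ∧
        ∀ c c' : Subgroup.centralizer ((P : Subgroup G) : Set G), (c' : G) = g * c * g⁻¹ →
          (θ : Subgroup.centralizer ((P : Subgroup G) : Set G) → ℂ) c' =
            (θ : Subgroup.centralizer ((P : Subgroup G) : Set G) → ℂ) c} →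
      g * h ∈ {g : G | g ∈ Subgroup.normalizer ((P : Subgroup G) : Set G) ∧
        ∀ c c' : Subgroup.centralizer ((P : Subgroup G) : Set G), (c' : G) = g * c * g⁻¹ →
          (θ : Subgroup.centralizer ((P : Subgroup G) : Set G) → ℂ) c' =
            (θ : Subgroup.centralizer ((P : Subgroup G) : Set G) → ℂ) c} := by
    rintro g h ⟨hg, hg'⟩ ⟨hh, hh'⟩
    refine ⟨Subgroup.mul_mem _ hg hh, fun c c' hcc' => ?_⟩
    have hmem := stab_conj_mem (P : Subgroup G) h hh (c : G) c.2
    have h1 := hh' c ⟨h * c * h⁻¹, hmem⟩ rfl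
    have h2 := hg' ⟨h * c * h⁻¹, hmem⟩ c' (by
      rw [hcc']
      show g * h * (c : G) * (g * h)⁻¹ = g * (h * (c : G) * h⁻¹) * g⁻¹
      group)
    rw [h2, h1]
  have hinv : ∀ g : G,
      g ∈ {g : G | g ∈ Subgroup.normalizer ((P : Subgroup G) : Set G) ∧
        ∀ c c' : Subgroup.centralizer ((P : Subgroup G) : Set G), (c' : G) = g * c * g⁻¹ →
          (θ : Subgroup.centralizer ((P : Subgroup G) : Set G) → ℂ) c' =
            (θ : Subgroup.centralizer ((P : Subgroup G) : Set G) → ℂ) c} →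
      g⁻¹ ∈ {g : G | g ∈ Subgroup.normalizer ((P : Subgroup G) : Set G) ∧
        ∀ c c' : Subgroup.centralizer ((P : Subgroup G) : Set G), (c' : G) = g * c * g⁻¹ →
          (θ : Subgroup.centralizer ((P : Subgroup G) : Set G) → ℂ) c' =
            (θ : Subgroup.centralizer ((P : Subgroup G) : Set G) → ℂ) c} := by
    rintro g ⟨hg, hg'⟩
    refine ⟨Subgroup.inv_mem _ hg, fun c c' hcc' => ?_⟩
    have := hg' c' c (by
      rw [hcc']
      group)
    exact this.symm
  exact ⟨Subgroup.mk (Submonoid.mk (Subsemigroup.mk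
      {g : G | g ∈ Subgroup.normalizer ((P : Subgroup G) : Set G) ∧
        ∀ c c' : Subgroup.centralizer ((P : Subgroup G) : Set G), (c' : G) = g * c * g⁻¹ →
          (θ : Subgroup.centralizer ((P : Subgroup G) : Set G) → ℂ) c' =
            (θ : Subgroup.centralizer ((P : Subgroup G) : Set G) → ℂ) c}
      (fun {g h} hg hh => hmul g h hg hh)) hone) (fun {g} hg => hinv g hg), fun g => Iff.rfl⟩

end Root

end Cfsg.Agent.Helper5.TLG
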