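import Mathlib
import Cfsg.Prelude.Def_Blocks
import Cfsg.Agent.Lib.Helper24.CharLinear
import Cfsg.Agent.Lib.Helper24.CharOrtho
import Cfsg.Agent.Lib.Helper7.Homo1

set_option autoImplicit false

/-!
# S4507, pieces POWCHAR1, POWCHAR2, POWCHAR3: the linear characters of a group of prime order
-/

namespace Cfsg.Agent.Helper5.TLG

open scoped ComplexConjugate
open Cfsg Cfsg.Agent.Helper24 Cfsg.Agent.Helper7.Homo

section PowChar

variable {A : Type*} [Group A] [Finite A]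

/-- a group of prime order is commutative -/
theorem powchar_comm (p : ℕ) [Fact p.Prime] (hA : Nat.card A = p) : ∀ a b : A, a * b = b * a := by
  haveI := isCyclic_of_prime_card hA
  intro a b
  obtain ⟨g, hg⟩ := IsCyclic.exists_generator (α := A)
  obtain ⟨k, rfl⟩ := Subgroup.mem_zpowers_iff.1 (hg a)
  obtain ⟨l, rfl⟩ := Subgroup.mem_zpowers_iff.1 (hg b)
  rw [← zpow_add, ← zpow_add, add_comm]

/-- an irreducible character of a group of prime order, as a homomorphism to `ℂˣ` -/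
theorem powchar_hom (p : ℕ) [Fact p.Prime] (hA : Nat.card A = p) (ψ : IrrCharacter A) :
    ∃ f : A →* ℂˣ, ∀ a : A, ((f a : ℂˣ) : ℂ) = (ψ : A → ℂ) a := by
  classical
  haveI : Fintype A := Fintype.ofFinite A
  letI : Fintype (IrrCharacter A) := irrFintype
  have hcomm := powchar_comm p hA
  refine ⟨MonoidHom.toHomUnits
    { toFun := (ψ : A → ℂ)
      map_one' := lin_one hcomm ψ
      map_mul' := lin_mul hcomm ψ }, fun a => ?_⟩
  rfl

/-- PIECE POWCHAR3: the values of an irreducible character of a group of prime order `p` are `p`-th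
roots of unity. -/
theorem irr_pow_card (p : ℕ) [Fact p.Prime] (hA : Nat.card A = p) (ψ : IrrCharacter A) (a : A) :
    ((ψ : A → ℂ) a) ^ p = 1 := by
  obtain ⟨f, hf⟩ := powchar_hom p hA ψ
  rw [← hf a, ← Units.val_pow_eq_pow_val, ← map_pow]
  have : a ^ p = 1 := by
    rw [← hA]
    exact pow_card_eq_one'
  rw [this, map_one, Units.val_one]

/-- a nonprincipal irreducible character takes a value different from `1` -/
theorem powchar_exists_ne_one (ψ : IrrCharacter A) (hψ : ψ ≠ principalChar A) :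
    ∃ a : A, (ψ : A → ℂ) a ≠ 1 := by
  by_contra hcon
  push_neg at hcon
  apply hψ
  apply Subtype.ext
  funext a
  exact hcon a

/-- PIECE POWCHAR1: powers of a nonprincipal irreducible character of a group of prime order. -/
theorem exists_powChar (p : ℕ) [Fact p.Prime] (hA : Nat.card A = p) (ψ₀ : IrrCharacter A)
    (hψ₀ : ψ₀ ≠ Cfsg.Agent.Helper24.principalChar A) (u : ℕ) (hu1 : 1 ≤ u) (hup : u < p) :
    ∃ ψ : IrrCharacter A, ψ ≠ Cfsg.Agent.Helper24.principalChar A ∧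
      ∀ a : A, (ψ : A → ℂ) a = ((ψ₀ : A → ℂ) a) ^ u := by
  have hp : p.Prime := Fact.out
  obtain ⟨f, hf⟩ := powchar_hom p hA ψ₀
  have hval : ∀ a : A, (((f ^ u) a : ℂˣ) : ℂ) = ((ψ₀ : A → ℂ) a) ^ u := by
    intro a
    rw [MonoidHom.pow_apply, Units.val_pow_eq_pow_val, hf a]
  refine ⟨⟨fun a => (((f ^ u) a : ℂˣ) : ℂ), isIrrCharacter_of_monoidHom (f ^ u)⟩, ?_, hval⟩
  intro hcon
  obtain ⟨a, ha⟩ := powchar_exists_ne_one ψ₀ hψ₀
  have h1 : ((ψ₀ : A → ℂ) a) ^ u = 1 := by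
    have := congrFun (congrArg Subtype.val hcon) a
    simp only at this
    rw [hval a] at this
    exact this
  have h2 := irr_pow_card p hA ψ₀ a
  have h3 : ((ψ₀ : A → ℂ) a) ^ Nat.gcd u p = 1 := pow_gcd_eq_one.2 ⟨h1, h2⟩
  have hcop : Nat.gcd u p = 1 :=
    Nat.Coprime.symm ((Nat.Prime.coprime_iff_not_dvd hp).2 (Nat.not_dvd_of_pos_of_lt hu1 hup))
  rw [hcop, pow_one] at h3
  exact ha h3

/-- PIECE POWCHAR2: every nonprincipal irreducible character of a group of prime order is a power of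
a given one. -/
theorem exists_pow_eq_char (p : ℕ) [Fact p.Prime] (hA : Nat.card A = p) (ψ₀ ψ₁ : IrrCharacter A)
    (hψ₀ : ψ₀ ≠ Cfsg.Agent.Helper24.principalChar A)
    (hψ₁ : ψ₁ ≠ Cfsg.Agent.Helper24.principalChar A) :
    ∃ u : ℕ, 1 ≤ u ∧ u < p ∧ ∀ a : A, (ψ₁ : A → ℂ) a = ((ψ₀ : A → ℂ) a) ^ u := by
  have hp : p.Prime := Fact.out
  haveI : NeZero p := ⟨hp.ne_zero⟩
  obtain ⟨f₀, hf₀⟩ := powchar_hom p hA ψ₀
  obtain ⟨f₁, hf₁⟩ := powchar_hom p hA ψ₁
  obtain ⟨a, ha⟩ := powchar_exists_ne_one ψ₀ hψ₀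
  have ha1 : a ≠ 1 := by
    rintro rfl
    apply ha
    rw [← hf₀ 1, map_one, Units.val_one]
  have htop := zpowers_eq_top_of_prime_card (G := A) hA ha1
  have hgen : ∀ x : A, ∃ k : ℤ, a ^ k = x := by
    intro x
    have : x ∈ Subgroup.zpowers a := by
      rw [htop]
      exact Subgroup.mem_top x
    exact Subgroup.mem_zpowers_iff.1 this
  -- `ψ₀ a` is a primitive `p`-th root of unity
  have hζp := irr_pow_card p hA ψ₀ a
  have hprim : IsPrimitiveRoot ((ψ₀ : A → ℂ) a) p := by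
    refine IsPrimitiveRoot.mk_of_lt _ hp.pos hζp ?_
    intro l hl0 hlp hl
    have h3 : ((ψ₀ : A → ℂ) a) ^ Nat.gcd l p = 1 := pow_gcd_eq_one.2 ⟨hl, hζp⟩
    have hcop : Nat.gcd l p = 1 :=
      Nat.Coprime.symm ((Nat.Prime.coprime_iff_not_dvd hp).2 (Nat.not_dvd_of_pos_of_lt hl0 hlp))
    rw [hcop, pow_one] at h3
    exact ha h3
  obtain ⟨i, hip, hi⟩ := hprim.eq_pow_of_pow_eq_one (irr_pow_card p hA ψ₁ a)
  have hunit : f₁ a = (f₀ a) ^ i := by
    apply Units.ext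
    rw [Units.val_pow_eq_pow_val, hf₁ a, hf₀ a, hi]
  have hi0 : i ≠ 0 := by
    rintro rfl
    apply hψ₁
    apply Subtype.ext
    funext x
    obtain ⟨k, rfl⟩ := hgen x
    rw [← hf₁ (a ^ k), map_zpow, hunit, pow_zero, one_zpow, Units.val_one]
    rfl
  refine ⟨i, Nat.one_le_iff_ne_zero.2 hi0, hip, fun x => ?_⟩
  obtain ⟨k, rfl⟩ := hgen x
  rw [← hf₁ (a ^ k), ← hf₀ (a ^ k), ← Units.val_pow_eq_pow_val, map_zpow, map_zpow, hunit]
  congr 1
  rw [← zpow_natCast, ← zpow_natCast, ← zpow_mul, ← zpow_mul, mul_comm]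

end PowChar

end Cfsg.Agent.Helper5.TLG
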