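import Mathlib
import Cfsg.Prelude.Def_Blocks
import Cfsg.Agent.Lib.Helper12.MK1A

/-!
# S4502, part B: conjugation of roots by `N_G(P)`

* `ker_of_conj`, `root_of_conj`: `N_G(P)`-conjugates of roots are roots;
* `relIndex_stab_conj`: conjugate characters of `C_G(P)` have the same inertial index.
-/

set_option autoImplicit false
set_option linter.unusedSectionVars false
set_option linter.unusedVariables false
set_option linter.style.haveILetI false

namespace Cfsg.Agent.Helper12.MK1

open Cfsg Cfsg.Agent.Helper23.Blk Cfsg.Agent.Helper24 Cfsg.Agent.Helper5.TLD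
  Cfsg.Agent.Helper5.TLG
open scoped ComplexConjugate

section B

variable (p : ℕ) [Fact p.Prime] {G : Type*} [Group G] [Finite G]

/-- the conjugacy condition in terms of the automorphism `dorbAut` -/
theorem conj_eq_comp (P : Sylow p G)
    (θ φ : IrrCharacter (Subgroup.centralizer ((P : Subgroup G) : Set G)))
    (n : G) (hn : n ∈ Subgroup.normalizer ((P : Subgroup G) : Set G))
    (hφ : ∀ c c' : Subgroup.centralizer ((P : Subgroup G) : Set G), (c' : G) = n * c * n⁻¹ →
      (φ : Subgroup.centralizer ((P : Subgroup G) : Set G) → ℂ) c =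
        (θ : Subgroup.centralizer ((P : Subgroup G) : Set G) → ℂ) c') :
    (φ : Subgroup.centralizer ((P : Subgroup G) : Set G) → ℂ) =
      (θ : Subgroup.centralizer ((P : Subgroup G) : Set G) → ℂ) ∘ (dorbAut p P ⟨n, hn⟩) := by
  funext c
  exact hφ c (dorbAut p P ⟨n, hn⟩ c) rfl

/-- conjugates of characters with `P` in the kernel have `P` in the kernel -/
theorem ker_of_conj (P : Sylow p G)
    (θ φ : IrrCharacter (Subgroup.centralizer ((P : Subgroup G) : Set G)))
    (n : G) (hn : n ∈ Subgroup.normalizer ((P : Subgroup G) : Set G))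
    (hφ : ∀ c c' : Subgroup.centralizer ((P : Subgroup G) : Set G), (c' : G) = n * c * n⁻¹ →
      (φ : Subgroup.centralizer ((P : Subgroup G) : Set G) → ℂ) c =
        (θ : Subgroup.centralizer ((P : Subgroup G) : Set G) → ℂ) c')
    (hθP : ∀ x : Subgroup.centralizer ((P : Subgroup G) : Set G), (x : G) ∈ (P : Subgroup G) →
      (θ : Subgroup.centralizer ((P : Subgroup G) : Set G) → ℂ) x =
        (θ : Subgroup.centralizer ((P : Subgroup G) : Set G) → ℂ) 1) :
    ∀ x : Subgroup.centralizer ((P : Subgroup G) : Set G), (x : G) ∈ (P : Subgroup G) →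
      (φ : Subgroup.centralizer ((P : Subgroup G) : Set G) → ℂ) x =
        (φ : Subgroup.centralizer ((P : Subgroup G) : Set G) → ℂ) 1 := by
  intro x hx
  rw [conj_eq_comp p P θ φ n hn hφ]
  simp only [Function.comp_apply, map_one]
  apply hθP
  rw [dorbAut_apply_coe]
  exact (Subgroup.mem_normalizer_iff.1 hn (x : G)).1 hx

/-- conjugation by an element does not change the induced central character -/
theorem inducedCentralChar_comp (H : Subgroup G) (α : H ≃* H) (n : G)
    (hα : ∀ h : H, ((α h : H) : G) = n * h * n⁻¹) (ξ : H → ℂ) (g : G) :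
    inducedCentralChar H (ξ ∘ α) g = inducedCentralChar H ξ g := by
  unfold inducedCentralChar
  rw [finsum_mem_def, finsum_mem_def]
  have hre : (∑ᶠ h : H, ({h : H | IsConj g (h : G)} : Set H).indicator
      (fun h : H => ξ h / ξ 1) h) =
      ∑ᶠ h : H, ({h : H | IsConj g (h : G)} : Set H).indicator
        (fun h : H => ξ h / ξ 1) (α.toEquiv h) :=
    (finsum_comp_equiv α.toEquiv).symm
  rw [hre]
  refine finsum_congr fun h => ?_
  have hiff : α.toEquiv h ∈ {h : H | IsConj g (h : G)} ↔ h ∈ {h : H | IsConj g (h : G)} := by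
    simp only [Set.mem_ofPred_eq, MulEquiv.toEquiv_eq_coe, MulEquiv.coe_toEquiv, hα h]
    rw [isConj_iff, isConj_iff]
    constructor
    · rintro ⟨c, hc⟩
      refine ⟨n⁻¹ * c, ?_⟩
      have : n⁻¹ * c * g * (n⁻¹ * c)⁻¹ = n⁻¹ * (c * g * c⁻¹) * n := by group
      rw [this, hc]
      group
    · rintro ⟨c, hc⟩
      refine ⟨n * c, ?_⟩
      have : n * c * g * (n * c)⁻¹ = n * (c * g * c⁻¹) * n⁻¹ := by group
      rw [this, hc]
  by_cases hh : h ∈ {h : H | IsConj g (h : G)}
  · rw [Set.indicator_of_mem hh, Set.indicator_of_mem (hiff.2 hh)]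
    simp only [Function.comp_apply, map_one, MulEquiv.toEquiv_eq_coe, MulEquiv.coe_toEquiv]
  · rw [Set.indicator_of_notMem hh, Set.indicator_of_notMem (fun h' => hh (hiff.1 h'))]

/-- conjugates of roots are roots -/
theorem root_of_conj (M : Ideal AlgInt) (hM : IsPModular p M) (P : Sylow p G)
    (B : Set (IrrCharacter G))
    (θ φ : IrrCharacter (Subgroup.centralizer ((P : Subgroup G) : Set G)))
    (n : G) (hn : n ∈ Subgroup.normalizer ((P : Subgroup G) : Set G))
    (hφ : ∀ c c' : Subgroup.centralizer ((P : Subgroup G) : Set G), (c' : G) = n * c * n⁻¹ →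
      (φ : Subgroup.centralizer ((P : Subgroup G) : Set G) → ℂ) c =
        (θ : Subgroup.centralizer ((P : Subgroup G) : Set G) → ℂ) c')
    (h1 : IsInducedBlock M (Subgroup.centralizer ((P : Subgroup G) : Set G))
      (blockOf M (θ : Subgroup.centralizer ((P : Subgroup G) : Set G) → ℂ)) B) :
    IsInducedBlock M (Subgroup.centralizer ((P : Subgroup G) : Set G))
      (blockOf M (φ : Subgroup.centralizer ((P : Subgroup G) : Set G) → ℂ)) B := by
  classical
  haveI hMp : M.IsPrime := hM.2.1.isPrime
  haveI : Fintype (Subgroup.centralizer ((P : Subgroup G) : Set G)) := Fintype.ofFinite _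
  have hcomp := conj_eq_comp p P θ φ n hn hφ
  refine ⟨⟨φ, rfl⟩, h1.2.1, fun ξ hξ χ hχ g => ?_⟩
  -- the conjugate of `ξ`
  have hξ' : IsIrrCharacter (Subgroup.centralizer ((P : Subgroup G) : Set G))
      ((ξ : Subgroup.centralizer ((P : Subgroup G) : Set G) → ℂ) ∘ (dorbAut p P ⟨n, hn⟩).symm) :=
    Cfsg.Agent.Helper5.isIrrCharacter_comp_equiv _ ξ.2
  have hmem : (⟨_, hξ'⟩ : IrrCharacter (Subgroup.centralizer ((P : Subgroup G) : Set G))) ∈
      blockOf M (θ : Subgroup.centralizer ((P : Subgroup G) : Set G) → ℂ) := by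
    have h2 : SameBlock M (φ : Subgroup.centralizer ((P : Subgroup G) : Set G) → ℂ)
        (ξ : Subgroup.centralizer ((P : Subgroup G) : Set G) → ℂ) := hξ
    have h3 := sameBlock_comp_equiv (dorbAut p P ⟨n, hn⟩).symm h2
    have h4 : (φ : Subgroup.centralizer ((P : Subgroup G) : Set G) → ℂ) ∘
        (dorbAut p P ⟨n, hn⟩).symm =
        (θ : Subgroup.centralizer ((P : Subgroup G) : Set G) → ℂ) := by
      rw [hcomp]
      funext c
      simp only [Function.comp_apply, MulEquiv.apply_symm_apply]
    rw [h4] at h3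
    exact h3
  have key := h1.2.2 _ hmem χ hχ g
  have hind : inducedCentralChar (Subgroup.centralizer ((P : Subgroup G) : Set G))
      ((ξ : Subgroup.centralizer ((P : Subgroup G) : Set G) → ℂ) ∘
        (dorbAut p P ⟨n, hn⟩).symm) g =
      inducedCentralChar (Subgroup.centralizer ((P : Subgroup G) : Set G))
        (ξ : Subgroup.centralizer ((P : Subgroup G) : Set G) → ℂ) g := by
    have h5 := inducedCentralChar_comp (Subgroup.centralizer ((P : Subgroup G) : Set G))
      (dorbAut p P ⟨n, hn⟩) n (fun h => rfl)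
      ((ξ : Subgroup.centralizer ((P : Subgroup G) : Set G) → ℂ) ∘
        (dorbAut p P ⟨n, hn⟩).symm) g
    rw [← h5]
    congr 1
    funext c
    simp only [Function.comp_apply, MulEquiv.symm_apply_apply]
  rw [← hind]
  exact key

/-- `|T : C| * |C| = |T|` for `C ≤ T` -/
theorem relIndex_mul_card' {H K : Subgroup G} (h : H ≤ K) :
    H.relIndex K * Nat.card H = Nat.card K := by
  have h1 := (H.subgroupOf K).index_mul_card
  rw [Nat.card_congr (Subgroup.subgroupOfEquivOfLe h).toEquiv] at h1
  exact h1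

/-- the stabilizers of conjugate characters are conjugate (one inclusion) -/
theorem stab_conj_mem' (P : Sylow p G)
    (θ φ : IrrCharacter (Subgroup.centralizer ((P : Subgroup G) : Set G)))
    (n : G) (hn : n ∈ Subgroup.normalizer ((P : Subgroup G) : Set G))
    (hφ : ∀ c c' : Subgroup.centralizer ((P : Subgroup G) : Set G), (c' : G) = n * c * n⁻¹ →
      (φ : Subgroup.centralizer ((P : Subgroup G) : Set G) → ℂ) c =
        (θ : Subgroup.centralizer ((P : Subgroup G) : Set G) → ℂ) c')
    (T T' : Subgroup G)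
    (hT : ∀ g : G, g ∈ T ↔ (g ∈ Subgroup.normalizer ((P : Subgroup G) : Set G) ∧
      ∀ c c' : Subgroup.centralizer ((P : Subgroup G) : Set G), (c' : G) = g * c * g⁻¹ →
        (θ : Subgroup.centralizer ((P : Subgroup G) : Set G) → ℂ) c' =
          (θ : Subgroup.centralizer ((P : Subgroup G) : Set G) → ℂ) c))
    (hT' : ∀ g : G, g ∈ T' ↔ (g ∈ Subgroup.normalizer ((P : Subgroup G) : Set G) ∧
      ∀ c c' : Subgroup.centralizer ((P : Subgroup G) : Set G), (c' : G) = g * c * g⁻¹ →
        (φ : Subgroup.centralizer ((P : Subgroup G) : Set G) → ℂ) c' =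
          (φ : Subgroup.centralizer ((P : Subgroup G) : Set G) → ℂ) c)) :
    (∀ g ∈ T', n * g * n⁻¹ ∈ T) ∧ (∀ g ∈ T, n⁻¹ * g * n ∈ T') := by
  have hcomp := conj_eq_comp p P θ φ n hn hφ
  have hninv : n⁻¹ ∈ Subgroup.normalizer ((P : Subgroup G) : Set G) := Subgroup.inv_mem _ hn
  constructor
  · intro g hg
    obtain ⟨hgN, hg'⟩ := (hT' g).1 hg
    rw [hT]
    refine ⟨Subgroup.mul_mem _ (Subgroup.mul_mem _ hn hgN) hninv, fun c c' hcc' => ?_⟩
    have h1 := hg' ((dorbAut p P ⟨n, hn⟩).symm c) ((dorbAut p P ⟨n, hn⟩).symm c') (by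
      have e1 : (((dorbAut p P ⟨n, hn⟩).symm c' :
          Subgroup.centralizer ((P : Subgroup G) : Set G)) : G) = n⁻¹ * c' * n := rfl
      have e2 : (((dorbAut p P ⟨n, hn⟩).symm c :
          Subgroup.centralizer ((P : Subgroup G) : Set G)) : G) = n⁻¹ * c * n := rfl
      rw [e1, e2, hcc']
      group)
    rw [hcomp] at h1
    simpa only [Function.comp_apply, MulEquiv.apply_symm_apply] using h1
  · intro g hg
    obtain ⟨hgN, hg'⟩ := (hT g).1 hg
    rw [hT']
    refine ⟨by
      have := Subgroup.mul_mem _ (Subgroup.mul_mem _ hninv hgN) hn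
      exact this, fun c c' hcc' => ?_⟩
    rw [hcomp]
    simp only [Function.comp_apply]
    apply hg'
    rw [dorbAut_apply_coe, dorbAut_apply_coe, hcc']
    group

/-- conjugate characters of `C_G(P)` have the same inertial index -/
theorem relIndex_stab_conj (P : Sylow p G)
    (θ φ : IrrCharacter (Subgroup.centralizer ((P : Subgroup G) : Set G)))
    (n : G) (hn : n ∈ Subgroup.normalizer ((P : Subgroup G) : Set G))
    (hφ : ∀ c c' : Subgroup.centralizer ((P : Subgroup G) : Set G), (c' : G) = n * c * n⁻¹ →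
      (φ : Subgroup.centralizer ((P : Subgroup G) : Set G) → ℂ) c =
        (θ : Subgroup.centralizer ((P : Subgroup G) : Set G) → ℂ) c')
    (T T' : Subgroup G)
    (hT : ∀ g : G, g ∈ T ↔ (g ∈ Subgroup.normalizer ((P : Subgroup G) : Set G) ∧
      ∀ c c' : Subgroup.centralizer ((P : Subgroup G) : Set G), (c' : G) = g * c * g⁻¹ →
        (θ : Subgroup.centralizer ((P : Subgroup G) : Set G) → ℂ) c' =
          (θ : Subgroup.centralizer ((P : Subgroup G) : Set G) → ℂ) c))
    (hT' : ∀ g : G, g ∈ T' ↔ (g ∈ Subgroup.normalizer ((P : Subgroup G) : Set G) ∧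
      ∀ c c' : Subgroup.centralizer ((P : Subgroup G) : Set G), (c' : G) = g * c * g⁻¹ →
        (φ : Subgroup.centralizer ((P : Subgroup G) : Set G) → ℂ) c' =
          (φ : Subgroup.centralizer ((P : Subgroup G) : Set G) → ℂ) c)) :
    (Subgroup.centralizer ((P : Subgroup G) : Set G)).relIndex T' =
      (Subgroup.centralizer ((P : Subgroup G) : Set G)).relIndex T := by
  obtain ⟨h1, h2⟩ := stab_conj_mem' p P θ φ n hn hφ T T' hT hT'
  have hcard : Nat.card T' = Nat.card T := by
    refine Nat.card_congr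
      { toFun := fun g => ⟨n * g * n⁻¹, h1 g g.2⟩
        invFun := fun g => ⟨n⁻¹ * g * n, h2 g g.2⟩
        left_inv := fun g => by
          apply Subtype.ext
          show n⁻¹ * (n * (g : G) * n⁻¹) * n = g
          group
        right_inv := fun g => by
          apply Subtype.ext
          show n * (n⁻¹ * (g : G) * n) * n⁻¹ = g
          group }
  have hC := (cent_le_T_le_norm p P θ T hT).1
  have hC' := (cent_le_T_le_norm p P φ T' hT').1
  have e1 := relIndex_mul_card' hC
  have e2 := relIndex_mul_card' hC'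
  have hpos : 0 < Nat.card (Subgroup.centralizer ((P : Subgroup G) : Set G)) := Nat.card_pos
  rw [hcard, ← e1] at e2
  exact Nat.eq_of_mul_eq_mul_right hpos e2

end B

end Cfsg.Agent.Helper12.MK1
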