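import Mathlib
import Cfsg.Prelude.Def_Blocks
import Cfsg.Agent.S0919
import Cfsg.Agent.Lib.Helper12.MK1B
import Cfsg.Agent.Lib.Helper12.TLGSTAB
import Cfsg.Agent.Lib.Helper5.TLDCount
import Cfsg.Agent.Lib.Helper24.GlaubPGroup

/-!
# S4502, part C: the weighted count `f * #Irr_{p'}(G) = Σ_θ (e_θ² + (p - 1))`
-/

set_option autoImplicit false
set_option linter.unusedSectionVars false
set_option linter.unusedVariables false
set_option linter.style.haveILetI false

namespace Cfsg.Agent.Helper12.MK1

open Cfsg Cfsg.Agent.Helper23.Blk Cfsg.Agent.Helper24 Cfsg.Agent.Helper5.TLD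
  Cfsg.Agent.Helper5.TLG
open scoped ComplexConjugate

section C

variable (p : ℕ) [Fact p.Prime] {G : Type*} [Group G] [Finite G]

/-- the inertial subgroup of `θ` in `N_G(P)` -/
noncomputable def stabT (P : Sylow p G)
    (θ : IrrCharacter (Subgroup.centralizer ((P : Subgroup G) : Set G))) : Subgroup G :=
  (exists_stab p P θ).choose

theorem stabT_spec (P : Sylow p G)
    (θ : IrrCharacter (Subgroup.centralizer ((P : Subgroup G) : Set G))) :
    ∀ g : G, g ∈ stabT p P θ ↔ (g ∈ Subgroup.normalizer ((P : Subgroup G) : Set G) ∧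
      ∀ c c' : Subgroup.centralizer ((P : Subgroup G) : Set G), (c' : G) = g * c * g⁻¹ →
        (θ : Subgroup.centralizer ((P : Subgroup G) : Set G) → ℂ) c' =
          (θ : Subgroup.centralizer ((P : Subgroup G) : Set G) → ℂ) c) :=
  (exists_stab p P θ).choose_spec

/-- the inertial index of `θ` -/
noncomputable def eIdx (P : Sylow p G)
    (θ : IrrCharacter (Subgroup.centralizer ((P : Subgroup G) : Set G))) : ℕ :=
  (Subgroup.centralizer ((P : Subgroup G) : Set G)).relIndex (stabT p P θ)

/-- the inertial index does not depend on the choice of the inertial subgroup -/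
theorem eIdx_eq (P : Sylow p G)
    (θ : IrrCharacter (Subgroup.centralizer ((P : Subgroup G) : Set G))) (T : Subgroup G)
    (hT : ∀ g : G, g ∈ T ↔ (g ∈ Subgroup.normalizer ((P : Subgroup G) : Set G) ∧
      ∀ c c' : Subgroup.centralizer ((P : Subgroup G) : Set G), (c' : G) = g * c * g⁻¹ →
        (θ : Subgroup.centralizer ((P : Subgroup G) : Set G) → ℂ) c' =
          (θ : Subgroup.centralizer ((P : Subgroup G) : Set G) → ℂ) c)) :
    eIdx p P θ = (Subgroup.centralizer ((P : Subgroup G) : Set G)).relIndex T := by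
  have : stabT p P θ = T := by
    ext g
    rw [stabT_spec p P θ g, hT g]
  rw [eIdx, this]

/-- the inertial index divides `|N_G(P) : C_G(P)|` -/
theorem eIdx_dvd (P : Sylow p G)
    (θ : IrrCharacter (Subgroup.centralizer ((P : Subgroup G) : Set G))) :
    eIdx p P θ ∣ (Subgroup.centralizer ((P : Subgroup G) : Set G)).relIndex
      (Subgroup.normalizer ((P : Subgroup G) : Set G)) := by
  obtain ⟨h1, h2⟩ := cent_le_T_le_norm p P θ (stabT p P θ) (stabT_spec p P θ)
  exact Dvd.intro _ (Subgroup.relIndex_mul_relIndex _ _ _ h1 h2)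

/-- the sum of the inertial indices over the roots of the block of a character of `p'`-degree -/
theorem sum_roots (M : Ideal AlgInt) (hM : IsPModular p M)
    (hdiv : p ∣ Nat.card G) (hsq : ¬ p ^ 2 ∣ Nat.card G) (P : Sylow p G)
    [Fintype (IrrCharacter (Subgroup.centralizer ((P : Subgroup G) : Set G)))]
    [DecidablePred fun θ : IrrCharacter (Subgroup.centralizer ((P : Subgroup G) : Set G)) =>
      ∀ x : Subgroup.centralizer ((P : Subgroup G) : Set G), (x : G) ∈ (P : Subgroup G) →
        (θ : Subgroup.centralizer ((P : Subgroup G) : Set G) → ℂ) x =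
          (θ : Subgroup.centralizer ((P : Subgroup G) : Set G) → ℂ) 1]
    (χ : IrrCharacter G) (hχ : ¬ p ∣ charDegree (χ : G → ℂ))
    [DecidablePred fun θ : IrrCharacter (Subgroup.centralizer ((P : Subgroup G) : Set G)) =>
      IsInducedBlock M (Subgroup.centralizer ((P : Subgroup G) : Set G))
        (blockOf M (θ : Subgroup.centralizer ((P : Subgroup G) : Set G) → ℂ))
        (blockOf M (χ : G → ℂ))] :
    ∑ θ ∈ Finset.univ.filter
        (fun θ : IrrCharacter (Subgroup.centralizer ((P : Subgroup G) : Set G)) =>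
          ∀ x : Subgroup.centralizer ((P : Subgroup G) : Set G), (x : G) ∈ (P : Subgroup G) →
            (θ : Subgroup.centralizer ((P : Subgroup G) : Set G) → ℂ) x =
              (θ : Subgroup.centralizer ((P : Subgroup G) : Set G) → ℂ) 1),
      (if IsInducedBlock M (Subgroup.centralizer ((P : Subgroup G) : Set G))
        (blockOf M (θ : Subgroup.centralizer ((P : Subgroup G) : Set G) → ℂ))
        (blockOf M (χ : G → ℂ)) then eIdx p P θ else 0) =
      (Subgroup.centralizer ((P : Subgroup G) : Set G)).relIndex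
        (Subgroup.normalizer ((P : Subgroup G) : Set G)) := by
  classical
  haveI hMp : M.IsPrime := hM.2.1.isPrime
  haveI : Fintype G := Fintype.ofFinite G
  have hP := card_sylow p hdiv hsq P
  have hB : IsPBlock M (blockOf M (χ : G → ℂ)) := ⟨χ, rfl⟩
  have hd := defect_pos_of_not_dvd p hdiv hsq (blockOf M (χ : G → ℂ)) χ (mem_blockOf_self χ) hχ
  obtain ⟨θ₀, hθ₀P, hR₀⟩ := exists_root_at p M hM hdiv hsq P _ hB hd
  -- the roots are the conjugates of `θ₀`
  have hiff : ∀ θ : IrrCharacter (Subgroup.centralizer ((P : Subgroup G) : Set G)),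
      ((∀ x : Subgroup.centralizer ((P : Subgroup G) : Set G), (x : G) ∈ (P : Subgroup G) →
        (θ : Subgroup.centralizer ((P : Subgroup G) : Set G) → ℂ) x =
          (θ : Subgroup.centralizer ((P : Subgroup G) : Set G) → ℂ) 1) ∧
        IsInducedBlock M (Subgroup.centralizer ((P : Subgroup G) : Set G))
          (blockOf M (θ : Subgroup.centralizer ((P : Subgroup G) : Set G) → ℂ))
          (blockOf M (χ : G → ℂ))) ↔
      θ ∈ {φ : IrrCharacter (Subgroup.centralizer ((P : Subgroup G) : Set G)) |
        ∃ n ∈ Subgroup.normalizer ((P : Subgroup G) : Set G),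
          ∀ c c' : Subgroup.centralizer ((P : Subgroup G) : Set G), (c' : G) = n * c * n⁻¹ →
            (φ : Subgroup.centralizer ((P : Subgroup G) : Set G) → ℂ) c =
              (θ₀ : Subgroup.centralizer ((P : Subgroup G) : Set G) → ℂ) c'} := by
    intro θ
    constructor
    · rintro ⟨hθP, hR⟩
      exact root_conj p M hM P hP _ hB θ₀ θ hθ₀P hθP hR₀ hR
    · rintro ⟨n, hn, hφ⟩
      exact ⟨ker_of_conj p P θ₀ θ n hn hφ hθ₀P, root_of_conj p M hM P _ θ₀ θ n hn hφ hR₀⟩
  have horb := card_orbit_theta p P θ₀ (stabT p P θ₀) (stabT_spec p P θ₀) (eIdx p P θ₀)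
    ((Subgroup.centralizer ((P : Subgroup G) : Set G)).relIndex
      (Subgroup.normalizer ((P : Subgroup G) : Set G))) rfl rfl
  rw [← Finset.sum_filter, Finset.filter_filter]
  have hfilter : Finset.univ.filter
      (fun θ : IrrCharacter (Subgroup.centralizer ((P : Subgroup G) : Set G)) =>
        (∀ x : Subgroup.centralizer ((P : Subgroup G) : Set G), (x : G) ∈ (P : Subgroup G) →
          (θ : Subgroup.centralizer ((P : Subgroup G) : Set G) → ℂ) x =
            (θ : Subgroup.centralizer ((P : Subgroup G) : Set G) → ℂ) 1) ∧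
        IsInducedBlock M (Subgroup.centralizer ((P : Subgroup G) : Set G))
          (blockOf M (θ : Subgroup.centralizer ((P : Subgroup G) : Set G) → ℂ))
          (blockOf M (χ : G → ℂ))) =
      (Set.toFinite {φ : IrrCharacter (Subgroup.centralizer ((P : Subgroup G) : Set G)) |
        ∃ n ∈ Subgroup.normalizer ((P : Subgroup G) : Set G),
          ∀ c c' : Subgroup.centralizer ((P : Subgroup G) : Set G), (c' : G) = n * c * n⁻¹ →
            (φ : Subgroup.centralizer ((P : Subgroup G) : Set G) → ℂ) c =
              (θ₀ : Subgroup.centralizer ((P : Subgroup G) : Set G) → ℂ) c'}).toFinset := by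
    ext θ
    rw [Finset.mem_filter, Set.Finite.mem_toFinset, ← hiff θ]
    simp
  rw [hfilter]
  have hconst : ∀ θ ∈ (Set.toFinite
      {φ : IrrCharacter (Subgroup.centralizer ((P : Subgroup G) : Set G)) |
        ∃ n ∈ Subgroup.normalizer ((P : Subgroup G) : Set G),
          ∀ c c' : Subgroup.centralizer ((P : Subgroup G) : Set G), (c' : G) = n * c * n⁻¹ →
            (φ : Subgroup.centralizer ((P : Subgroup G) : Set G) → ℂ) c =
              (θ₀ : Subgroup.centralizer ((P : Subgroup G) : Set G) → ℂ) c'}).toFinset,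
      eIdx p P θ = eIdx p P θ₀ := by
    intro θ hθ
    rw [Set.Finite.mem_toFinset] at hθ
    obtain ⟨n, hn, hφ⟩ := hθ
    exact relIndex_stab_conj p P θ₀ θ n hn hφ (stabT p P θ₀) (stabT p P θ)
      (stabT_spec p P θ₀) (stabT_spec p P θ)
  rw [Finset.sum_congr rfl hconst, Finset.sum_const, smul_eq_mul]
  have hcard : (Set.toFinite
      {φ : IrrCharacter (Subgroup.centralizer ((P : Subgroup G) : Set G)) |
        ∃ n ∈ Subgroup.normalizer ((P : Subgroup G) : Set G),
          ∀ c c' : Subgroup.centralizer ((P : Subgroup G) : Set G), (c' : G) = n * c * n⁻¹ →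
            (φ : Subgroup.centralizer ((P : Subgroup G) : Set G) → ℂ) c =
              (θ₀ : Subgroup.centralizer ((P : Subgroup G) : Set G) → ℂ) c'}).toFinset.card =
      (Subgroup.centralizer ((P : Subgroup G) : Set G)).relIndex
        (Subgroup.normalizer ((P : Subgroup G) : Set G)) / eIdx p P θ₀ := by
    rw [← horb, Nat.card_coe_set_eq, Set.ncard_eq_toFinset_card _ (Set.toFinite _)]
  rw [hcard]
  exact Nat.div_mul_cancel (eIdx_dvd p P θ₀)

/-- the number of characters of `p'`-degree in the block induced from the block of `θ` -/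
theorem card_over_root (M : Ideal AlgInt) (hM : IsPModular p M)
    (hdiv : p ∣ Nat.card G) (hsq : ¬ p ^ 2 ∣ Nat.card G) (P : Sylow p G)
    [Fintype (IrrCharacter G)]
    (θ : IrrCharacter (Subgroup.centralizer ((P : Subgroup G) : Set G)))
    (hθP : ∀ x : Subgroup.centralizer ((P : Subgroup G) : Set G), (x : G) ∈ (P : Subgroup G) →
      (θ : Subgroup.centralizer ((P : Subgroup G) : Set G) → ℂ) x =
        (θ : Subgroup.centralizer ((P : Subgroup G) : Set G) → ℂ) 1)
    [DecidablePred fun χ : IrrCharacter G => ¬ p ∣ charDegree (χ : G → ℂ)]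
    [DecidablePred fun χ : IrrCharacter G =>
      IsInducedBlock M (Subgroup.centralizer ((P : Subgroup G) : Set G))
        (blockOf M (θ : Subgroup.centralizer ((P : Subgroup G) : Set G) → ℂ))
        (blockOf M (χ : G → ℂ))] :
    eIdx p P θ * ((Finset.univ.filter
      (fun χ : IrrCharacter G => ¬ p ∣ charDegree (χ : G → ℂ))).filter
      (fun χ : IrrCharacter G =>
        IsInducedBlock M (Subgroup.centralizer ((P : Subgroup G) : Set G))
          (blockOf M (θ : Subgroup.centralizer ((P : Subgroup G) : Set G) → ℂ))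
          (blockOf M (χ : G → ℂ)))).card = eIdx p P θ ^ 2 + (p - 1) := by
  classical
  haveI hMp : M.IsPrime := hM.2.1.isPrime
  haveI : Fintype G := Fintype.ofFinite G
  haveI : Fintype (Subgroup.centralizer ((P : Subgroup G) : Set G)) := Fintype.ofFinite _
  have hP := card_sylow p hdiv hsq P
  have hPC := Cfsg.Agent.Helper5.TL.gt_le_centralizer p P hP
  have hb : IsPBlock M (blockOf M (θ : Subgroup.centralizer ((P : Subgroup G) : Set G) → ℂ)) :=
    ⟨θ, rfl⟩
  obtain ⟨B, hind⟩ := Cfsg.Agent.S0919.result p M hM (P : Subgroup G)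
    (Subgroup.centralizer ((P : Subgroup G) : Set G)) P.2 hPC le_rfl
    (Subgroup.centralizer_le_normalizer _) _ hb
  have hB : IsPBlock M B := hind.2.1
  have hBP := ddich_isDefectGroup p M hM P hP B hB _ hind
  obtain ⟨hed, hcard⟩ := card_block p M hM P hP B hB hBP _ hind θ (mem_blockOf_self θ) hθP
    (stabT p P θ) (stabT_spec p P θ) (eIdx p P θ) rfl
  have hfilter : ((Finset.univ.filter
      (fun χ : IrrCharacter G => ¬ p ∣ charDegree (χ : G → ℂ))).filter
      (fun χ : IrrCharacter G =>
        IsInducedBlock M (Subgroup.centralizer ((P : Subgroup G) : Set G))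
          (blockOf M (θ : Subgroup.centralizer ((P : Subgroup G) : Set G) → ℂ))
          (blockOf M (χ : G → ℂ)))) = (Set.toFinite B).toFinset := by
    ext χ
    rw [Finset.mem_filter, Finset.mem_filter, Set.Finite.mem_toFinset]
    constructor
    · rintro ⟨-, hR⟩
      have := isInducedBlock_unique' hM hR hind
      rw [← this]
      exact mem_blockOf_self χ
    · intro hχ
      have hBeq : blockOf M (χ : G → ℂ) = B := by
        obtain ⟨ψ, rfl⟩ := hB
        exact blockOf_eq_of_mem hχ
      refine ⟨⟨Finset.mem_univ _, ?_⟩, ?_⟩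
      · exact not_dvd_degree p M hM hdiv hsq B hB (P : Subgroup G) hBP hP χ hχ
      · rw [hBeq]
        exact hind
  rw [hfilter, ← Set.ncard_eq_toFinset_card B (Set.toFinite B), ← Nat.card_coe_set_eq, hcard,
    mul_add, Nat.mul_div_cancel' hed, pow_two]

/-- **The weighted count**: `f * #Irr_{p'}(G) = Σ_θ (e_θ² + (p - 1))`, the sum over the irreducible
characters of `C_G(P)` with `P` in their kernel. -/
theorem core_count (hdiv : p ∣ Nat.card G) (hsq : ¬ p ^ 2 ∣ Nat.card G) (P : Sylow p G) :
    (Subgroup.centralizer ((P : Subgroup G) : Set G)).relIndex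
        (Subgroup.normalizer ((P : Subgroup G) : Set G)) *
      Nat.card {χ : IrrCharacter G // ¬ p ∣ charDegree (χ : G → ℂ)} =
    ∑ᶠ θ ∈ {θ : IrrCharacter (Subgroup.centralizer ((P : Subgroup G) : Set G)) |
        ∀ x : Subgroup.centralizer ((P : Subgroup G) : Set G), (x : G) ∈ (P : Subgroup G) →
          (θ : Subgroup.centralizer ((P : Subgroup G) : Set G) → ℂ) x =
            (θ : Subgroup.centralizer ((P : Subgroup G) : Set G) → ℂ) 1},
      (eIdx p P θ ^ 2 + (p - 1)) := by
  classical
  have hprime : p.Prime := Fact.out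
  obtain ⟨M, hM⟩ := Cfsg.Agent.Helper24.Glaub.exists_isPModular hprime
  letI : Fintype (IrrCharacter G) := irrFintype
  letI : Fintype (IrrCharacter (Subgroup.centralizer ((P : Subgroup G) : Set G))) := irrFintype
  rw [finsum_mem_eq_finite_toFinset_sum _ (Set.toFinite _)]
  have hΩ : (Set.toFinite {θ : IrrCharacter (Subgroup.centralizer ((P : Subgroup G) : Set G)) |
        ∀ x : Subgroup.centralizer ((P : Subgroup G) : Set G), (x : G) ∈ (P : Subgroup G) →
          (θ : Subgroup.centralizer ((P : Subgroup G) : Set G) → ℂ) x =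
            (θ : Subgroup.centralizer ((P : Subgroup G) : Set G) → ℂ) 1}).toFinset =
      Finset.univ.filter
        (fun θ : IrrCharacter (Subgroup.centralizer ((P : Subgroup G) : Set G)) =>
          ∀ x : Subgroup.centralizer ((P : Subgroup G) : Set G), (x : G) ∈ (P : Subgroup G) →
            (θ : Subgroup.centralizer ((P : Subgroup G) : Set G) → ℂ) x =
              (θ : Subgroup.centralizer ((P : Subgroup G) : Set G) → ℂ) 1) := by
    ext θ
    simp
  rw [hΩ]
  have hI : Nat.card {χ : IrrCharacter G // ¬ p ∣ charDegree (χ : G → ℂ)} =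
      (Finset.univ.filter (fun χ : IrrCharacter G => ¬ p ∣ charDegree (χ : G → ℂ))).card := by
    rw [Nat.card_eq_fintype_card, Fintype.card_subtype]
  rw [hI]
  -- double counting
  have h1 : ∀ θ ∈ Finset.univ.filter
      (fun θ : IrrCharacter (Subgroup.centralizer ((P : Subgroup G) : Set G)) =>
        ∀ x : Subgroup.centralizer ((P : Subgroup G) : Set G), (x : G) ∈ (P : Subgroup G) →
          (θ : Subgroup.centralizer ((P : Subgroup G) : Set G) → ℂ) x =
            (θ : Subgroup.centralizer ((P : Subgroup G) : Set G) → ℂ) 1),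
      eIdx p P θ ^ 2 + (p - 1) =
        ∑ χ ∈ Finset.univ.filter (fun χ : IrrCharacter G => ¬ p ∣ charDegree (χ : G → ℂ)),
          (if IsInducedBlock M (Subgroup.centralizer ((P : Subgroup G) : Set G))
            (blockOf M (θ : Subgroup.centralizer ((P : Subgroup G) : Set G) → ℂ))
            (blockOf M (χ : G → ℂ)) then eIdx p P θ else 0) := by
    intro θ hθ
    rw [Finset.mem_filter] at hθ
    rw [← card_over_root p M hM hdiv hsq P θ hθ.2, ← Finset.sum_filter, Finset.sum_const,
      smul_eq_mul, mul_comm]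
  rw [Finset.sum_congr rfl h1, Finset.sum_comm]
  have h2 : ∀ χ ∈ Finset.univ.filter (fun χ : IrrCharacter G => ¬ p ∣ charDegree (χ : G → ℂ)),
      ∑ θ ∈ Finset.univ.filter
        (fun θ : IrrCharacter (Subgroup.centralizer ((P : Subgroup G) : Set G)) =>
          ∀ x : Subgroup.centralizer ((P : Subgroup G) : Set G), (x : G) ∈ (P : Subgroup G) →
            (θ : Subgroup.centralizer ((P : Subgroup G) : Set G) → ℂ) x =
              (θ : Subgroup.centralizer ((P : Subgroup G) : Set G) → ℂ) 1),
        (if IsInducedBlock M (Subgroup.centralizer ((P : Subgroup G) : Set G))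
          (blockOf M (θ : Subgroup.centralizer ((P : Subgroup G) : Set G) → ℂ))
          (blockOf M (χ : G → ℂ)) then eIdx p P θ else 0) =
      (Subgroup.centralizer ((P : Subgroup G) : Set G)).relIndex
        (Subgroup.normalizer ((P : Subgroup G) : Set G)) := by
    intro χ hχ
    rw [Finset.mem_filter] at hχ
    exact sum_roots p M hM hdiv hsq P χ hχ.2
  rw [Finset.sum_congr rfl h2, Finset.sum_const, smul_eq_mul, mul_comm]

end C

end Cfsg.Agent.Helper12.MK1
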