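import Mathlib
import Cfsg.Prelude.Def_Blocks
import Cfsg.Agent.S0912
import Cfsg.Agent.Lib.Helper12.MK1C
import Cfsg.Agent.Lib.Helper18.TLDDEXP
import Cfsg.Agent.Lib.Helper24.CharComplete

/-!
# S4502, part D: the normalizer side and the final count
-/

set_option autoImplicit false
set_option linter.unusedSectionVars false
set_option linter.unusedVariables false
set_option linter.style.haveILetI false

namespace Cfsg.Agent.Helper12.MK1

open Cfsg Cfsg.Agent.Helper23.Blk Cfsg.Agent.Helper24 Cfsg.Agent.Helper5.TLD
  Cfsg.Agent.Helper5.TLG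
open scoped ComplexConjugate

section D1

variable (p : ℕ) [Fact p.Prime] {H : Type*} [Group H] [Finite H]

/-- with a normal Sylow `p`-subgroup and `p ‖ |H|`, every irreducible character has `p'`-degree -/
theorem not_dvd_of_normal_sylow (hdiv : p ∣ Nat.card H) (hsq : ¬ p ^ 2 ∣ Nat.card H)
    (Q : Sylow p H) (hQ : (Q : Subgroup H).Normal) (χ : IrrCharacter H) :
    ¬ p ∣ charDegree (χ : H → ℂ) := by
  classical
  have hprime : p.Prime := Fact.out
  obtain ⟨M, hM⟩ := Cfsg.Agent.Helper24.Glaub.exists_isPModular hprime
  haveI hMp : M.IsPrime := hM.2.1.isPrime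
  haveI : Fintype H := Fintype.ofFinite H
  have hB : IsPBlock M (blockOf M (χ : H → ℂ)) := ⟨χ, rfl⟩
  obtain ⟨D, hD⟩ := exists_isDefectGroup hM hB
  have hcore := Cfsg.Agent.S0912.result p M hM _ hB D hD
  have hQcore : (Q : Subgroup H) ≤ pCore p H := by
    unfold pCore
    exact le_sSup (show (Q : Subgroup H) ∈ {N : Subgroup H | N.Normal ∧ IsPGroup p N} from
      ⟨hQ, Q.2⟩)
  have hQD : (Q : Subgroup H) ≤ D := le_trans hQcore hcore
  have hDp := isPGroup_of_isDefectGroup hM hD
  have hDQ : D = (Q : Subgroup H) := Q.is_maximal' hDp hQD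
  rw [hDQ] at hD
  exact not_dvd_degree p M hM hdiv hsq _ hB (Q : Subgroup H) hD (card_sylow p hdiv hsq Q) χ
    (mem_blockOf_self χ)

theorem card_irr_of_normal_sylow (hdiv : p ∣ Nat.card H) (hsq : ¬ p ^ 2 ∣ Nat.card H)
    (Q : Sylow p H) (hQ : (Q : Subgroup H).Normal) :
    Nat.card {χ : IrrCharacter H // ¬ p ∣ charDegree (χ : H → ℂ)} =
      Nat.card (ConjClasses H) := by
  classical
  haveI : Fintype H := Fintype.ofFinite H
  letI : Fintype (IrrCharacter H) := irrFintype
  rw [← card_irr_eq_card_conjClasses]
  exact Nat.card_congr (Equiv.subtypeUnivEquiv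
    (fun χ => not_dvd_of_normal_sylow p hdiv hsq Q hQ χ))

end D1

section D2

variable (p : ℕ) [Fact p.Prime] {G : Type*} [Group G] [Finite G]

/-- `P` as a Sylow subgroup of its normalizer -/
noncomputable def sylN (P : Sylow p G) :
    Sylow p (Subgroup.normalizer ((P : Subgroup G) : Set G)) :=
  P.subtype Subgroup.le_normalizer

theorem mem_sylN (P : Sylow p G) (x : Subgroup.normalizer ((P : Subgroup G) : Set G)) :
    x ∈ (sylN p P : Subgroup (Subgroup.normalizer ((P : Subgroup G) : Set G))) ↔
      (x : G) ∈ (P : Subgroup G) := by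
  rw [sylN, Sylow.coe_subtype, Subgroup.mem_subgroupOf]

theorem sylN_normal (P : Sylow p G) :
    (sylN p P : Subgroup (Subgroup.normalizer ((P : Subgroup G) : Set G))).Normal := by
  constructor
  intro x hx g
  rw [mem_sylN] at hx ⊢
  have := (Subgroup.mem_normalizer_iff.1 g.2 (x : G)).1 hx
  simpa using this

theorem mem_centralizer_sylN (P : Sylow p G)
    (x : Subgroup.normalizer ((P : Subgroup G) : Set G)) :
    x ∈ Subgroup.centralizer
        ((sylN p P : Subgroup (Subgroup.normalizer ((P : Subgroup G) : Set G))) :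
          Set (Subgroup.normalizer ((P : Subgroup G) : Set G))) ↔
      (x : G) ∈ Subgroup.centralizer ((P : Subgroup G) : Set G) := by
  rw [Subgroup.mem_centralizer_iff, Subgroup.mem_centralizer_iff]
  constructor
  · intro hx u hu
    have := hx ⟨u, Subgroup.le_normalizer hu⟩ ((mem_sylN p P _).2 hu)
    exact congrArg Subtype.val this
  · intro hx q hq
    apply Subtype.ext
    exact hx (q : G) ((mem_sylN p P q).1 hq)

theorem centralizer_sylN (P : Sylow p G) :
    Subgroup.centralizer
        ((sylN p P : Subgroup (Subgroup.normalizer ((P : Subgroup G) : Set G))) :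
          Set (Subgroup.normalizer ((P : Subgroup G) : Set G))) =
      (Subgroup.centralizer ((P : Subgroup G) : Set G)).subgroupOf
        (Subgroup.normalizer ((P : Subgroup G) : Set G)) := by
  ext x
  rw [mem_centralizer_sylN, Subgroup.mem_subgroupOf]

theorem normalizer_sylN (P : Sylow p G) :
    Subgroup.normalizer
        ((sylN p P : Subgroup (Subgroup.normalizer ((P : Subgroup G) : Set G))) :
          Set (Subgroup.normalizer ((P : Subgroup G) : Set G))) = ⊤ := by
  haveI := sylN_normal p P
  exact Subgroup.normalizer_eq_top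
    (H := (sylN p P : Subgroup (Subgroup.normalizer ((P : Subgroup G) : Set G))))

/-- the isomorphism `C_{N_G(P)}(P) ≃* C_G(P)` -/
def centIso (P : Sylow p G) :
    Subgroup.centralizer
        ((sylN p P : Subgroup (Subgroup.normalizer ((P : Subgroup G) : Set G))) :
          Set (Subgroup.normalizer ((P : Subgroup G) : Set G))) ≃*
      Subgroup.centralizer ((P : Subgroup G) : Set G) where
  toFun x := ⟨((x : Subgroup.normalizer ((P : Subgroup G) : Set G)) : G),
    (mem_centralizer_sylN p P x.1).1 x.2⟩
  invFun c := ⟨⟨(c : G), Subgroup.centralizer_le_normalizer _ c.2⟩,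
    (mem_centralizer_sylN p P _).2 c.2⟩
  left_inv x := rfl
  right_inv c := rfl
  map_mul' x y := rfl

theorem centIso_coe (P : Sylow p G)
    (x : Subgroup.centralizer
        ((sylN p P : Subgroup (Subgroup.normalizer ((P : Subgroup G) : Set G))) :
          Set (Subgroup.normalizer ((P : Subgroup G) : Set G)))) :
    ((centIso p P x : Subgroup.centralizer ((P : Subgroup G) : Set G)) : G) =
      ((x : Subgroup.normalizer ((P : Subgroup G) : Set G)) : G) := rfl

theorem centIso_symm_coe (P : Sylow p G)
    (c : Subgroup.centralizer ((P : Subgroup G) : Set G)) :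
    ((((centIso p P).symm c : Subgroup.centralizer
        ((sylN p P : Subgroup (Subgroup.normalizer ((P : Subgroup G) : Set G))) :
          Set (Subgroup.normalizer ((P : Subgroup G) : Set G)))) :
      Subgroup.normalizer ((P : Subgroup G) : Set G)) : G) = (c : G) := rfl

/-- the index `|N : C|` computed inside the normalizer -/
theorem relIndex_sylN (P : Sylow p G) :
    (Subgroup.centralizer
        ((sylN p P : Subgroup (Subgroup.normalizer ((P : Subgroup G) : Set G))) :
          Set (Subgroup.normalizer ((P : Subgroup G) : Set G)))).relIndex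
      (Subgroup.normalizer
        ((sylN p P : Subgroup (Subgroup.normalizer ((P : Subgroup G) : Set G))) :
          Set (Subgroup.normalizer ((P : Subgroup G) : Set G)))) =
    (Subgroup.centralizer ((P : Subgroup G) : Set G)).relIndex
      (Subgroup.normalizer ((P : Subgroup G) : Set G)) := by
  rw [normalizer_sylN, Subgroup.relIndex_top_right, centralizer_sylN]
  rfl

/-- the kernel condition is preserved -/
theorem ker_sylN_iff (P : Sylow p G)
    (θ : IrrCharacter (Subgroup.centralizer ((P : Subgroup G) : Set G))) :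
    (∀ x : Subgroup.centralizer
        ((sylN p P : Subgroup (Subgroup.normalizer ((P : Subgroup G) : Set G))) :
          Set (Subgroup.normalizer ((P : Subgroup G) : Set G))),
      (x : Subgroup.normalizer ((P : Subgroup G) : Set G)) ∈
        (sylN p P : Subgroup (Subgroup.normalizer ((P : Subgroup G) : Set G))) →
      ((dexpIrrCongr (centIso p P) θ : IrrCharacter (Subgroup.centralizer ((sylN p P : Subgroup (Subgroup.normalizer ((P : Subgroup G) : Set G))) : Set (Subgroup.normalizer ((P : Subgroup G) : Set G))))) : (Subgroup.centralizer ((sylN p P : Subgroup (Subgroup.normalizer ((P : Subgroup G) : Set G))) : Set (Subgroup.normalizer ((P : Subgroup G) : Set G)))) → ℂ) x =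
        ((dexpIrrCongr (centIso p P) θ : IrrCharacter (Subgroup.centralizer ((sylN p P : Subgroup (Subgroup.normalizer ((P : Subgroup G) : Set G))) : Set (Subgroup.normalizer ((P : Subgroup G) : Set G))))) : (Subgroup.centralizer ((sylN p P : Subgroup (Subgroup.normalizer ((P : Subgroup G) : Set G))) : Set (Subgroup.normalizer ((P : Subgroup G) : Set G)))) → ℂ) 1) ↔
    (∀ x : Subgroup.centralizer ((P : Subgroup G) : Set G), (x : G) ∈ (P : Subgroup G) →
      (θ : Subgroup.centralizer ((P : Subgroup G) : Set G) → ℂ) x =
        (θ : Subgroup.centralizer ((P : Subgroup G) : Set G) → ℂ) 1) := by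
  constructor
  · intro h c hc
    have := h ((centIso p P).symm c) ((mem_sylN p P _).2 hc)
    rw [dexpIrrCongr_apply, dexpIrrCongr_apply, MulEquiv.apply_symm_apply, map_one] at this
    exact this
  · intro h x hx
    rw [dexpIrrCongr_apply, dexpIrrCongr_apply, map_one]
    exact h _ ((mem_sylN p P _).1 hx)

/-- the inertial index is preserved -/
theorem eIdx_sylN (P : Sylow p G)
    (θ : IrrCharacter (Subgroup.centralizer ((P : Subgroup G) : Set G))) :
    eIdx p (sylN p P) (dexpIrrCongr (centIso p P) θ) = eIdx p P θ := by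
  have hTN := (cent_le_T_le_norm p P θ (stabT p P θ) (stabT_spec p P θ)).2
  rw [eIdx_eq p (sylN p P) (dexpIrrCongr (centIso p P) θ)
    ((stabT p P θ).subgroupOf (Subgroup.normalizer ((P : Subgroup G) : Set G))) ?_,
    centralizer_sylN, Subgroup.relIndex_subgroupOf hTN]
  · rfl
  · intro g
    rw [Subgroup.mem_subgroupOf, stabT_spec p P θ (g : G), normalizer_sylN]
    constructor
    · rintro ⟨-, h⟩
      refine ⟨Subgroup.mem_top _, fun c c' hcc' => ?_⟩
      rw [dexpIrrCongr_apply, dexpIrrCongr_apply]
      apply h
      rw [centIso_coe, centIso_coe, hcc']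
      rfl
    · rintro ⟨-, h⟩
      refine ⟨g.2, fun c c' hcc' => ?_⟩
      have := h ((centIso p P).symm c) ((centIso p P).symm c') (by
        apply Subtype.ext
        rw [centIso_symm_coe, hcc']
        rfl)
      rw [dexpIrrCongr_apply, dexpIrrCongr_apply, MulEquiv.apply_symm_apply,
        MulEquiv.apply_symm_apply] at this
      exact this

end D2

end Cfsg.Agent.Helper12.MK1
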