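import Mathlib
import Cfsg.Prelude.Def_Blocks
import Cfsg.Agent.Lib.Helper12.MK1D

/-!
# S4502, part E: the final count

`#Irr_{p'}(G) = k(N_G(P))` when `p ‖ |G|`.
-/

set_option autoImplicit false
set_option linter.unusedSectionVars false
set_option linter.unusedVariables false
set_option linter.style.haveILetI false

namespace Cfsg.Agent.Helper12.MK1

open Cfsg Cfsg.Agent.Helper23.Blk Cfsg.Agent.Helper24 Cfsg.Agent.Helper5.TLD
  Cfsg.Agent.Helper5.TLG
open scoped ComplexConjugate

section E

variable (p : ℕ) [Fact p.Prime] {G : Type*} [Group G] [Finite G]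

theorem pprime_degree_count (hdiv : p ∣ Nat.card G) (hsq : ¬ p ^ 2 ∣ Nat.card G)
    (P : Sylow p G) :
    Nat.card {χ : IrrCharacter G // ¬ p ∣ charDegree (χ : G → ℂ)} =
      Nat.card (ConjClasses (Subgroup.normalizer ((P : Subgroup G) : Set G))) := by
  classical
  have hdivH : p ∣ Nat.card (Subgroup.normalizer ((P : Subgroup G) : Set G)) := by
    have hP : Nat.card (P : Subgroup G) = p := card_sylow p hdiv hsq P
    have := Subgroup.card_dvd_of_le
      (Subgroup.le_normalizer : (P : Subgroup G) ≤ Subgroup.normalizer ((P : Subgroup G) : Set G))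
    rwa [hP] at this
  have hsqH : ¬ p ^ 2 ∣ Nat.card (Subgroup.normalizer ((P : Subgroup G) : Set G)) := by
    intro h
    exact hsq (h.trans (Subgroup.card_subgroup_dvd_card _))
  have hG := core_count p hdiv hsq P
  have hH := core_count p hdivH hsqH (sylN p P)
  rw [relIndex_sylN, card_irr_of_normal_sylow p hdivH hsqH (sylN p P) (sylN_normal p P)] at hH
  have htrans :
      ∑ᶠ θ ∈ {θ : IrrCharacter (Subgroup.centralizer ((P : Subgroup G) : Set G)) |
          ∀ x : Subgroup.centralizer ((P : Subgroup G) : Set G), (x : G) ∈ (P : Subgroup G) →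
            (θ : Subgroup.centralizer ((P : Subgroup G) : Set G) → ℂ) x =
              (θ : Subgroup.centralizer ((P : Subgroup G) : Set G) → ℂ) 1},
        (eIdx p P θ ^ 2 + (p - 1)) =
      ∑ᶠ ψ ∈ {ψ : IrrCharacter (Subgroup.centralizer
            ((sylN p P : Subgroup (Subgroup.normalizer ((P : Subgroup G) : Set G))) :
              Set (Subgroup.normalizer ((P : Subgroup G) : Set G)))) |
          ∀ x : Subgroup.centralizer
            ((sylN p P : Subgroup (Subgroup.normalizer ((P : Subgroup G) : Set G))) :
              Set (Subgroup.normalizer ((P : Subgroup G) : Set G))),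
            (x : Subgroup.normalizer ((P : Subgroup G) : Set G)) ∈
              (sylN p P : Subgroup (Subgroup.normalizer ((P : Subgroup G) : Set G))) →
            (ψ : Subgroup.centralizer
              ((sylN p P : Subgroup (Subgroup.normalizer ((P : Subgroup G) : Set G))) :
                Set (Subgroup.normalizer ((P : Subgroup G) : Set G))) → ℂ) x =
              (ψ : Subgroup.centralizer
                ((sylN p P : Subgroup (Subgroup.normalizer ((P : Subgroup G) : Set G))) :
                  Set (Subgroup.normalizer ((P : Subgroup G) : Set G))) → ℂ) 1},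
        (eIdx p (sylN p P) ψ ^ 2 + (p - 1)) := by
    apply finsum_mem_eq_of_bijOn (dexpIrrCongr (centIso p P))
    · refine ⟨?_, (dexpIrrCongr (centIso p P)).injective.injOn, ?_⟩
      · intro θ hθ
        exact (ker_sylN_iff p P θ).2 hθ
      · intro ψ hψ
        refine ⟨(dexpIrrCongr (centIso p P)).symm ψ, ?_, Equiv.apply_symm_apply _ _⟩
        apply (ker_sylN_iff p P _).1
        rw [Equiv.apply_symm_apply]
        exact hψ
    · intro θ hθ
      rw [eIdx_sylN]
  rw [← htrans, ← hG] at hH
  have hf : (Subgroup.centralizer ((P : Subgroup G) : Set G)).relIndex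
      (Subgroup.normalizer ((P : Subgroup G) : Set G)) ≠ 0 := by
    rw [Subgroup.relIndex]
    exact Subgroup.index_ne_zero_of_finite
  exact (Nat.eq_of_mul_eq_mul_left (Nat.pos_of_ne_zero hf) hH).symm

end E

end Cfsg.Agent.Helper12.MK1
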