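import Mathlib
import Cfsg.Agent.S0169
import Cfsg.Agent.Lib.Helper12.ConjCount
import Cfsg.Agent.Lib.Helper24.CharComplete
import Cfsg.Agent.Lib.Helper24.CharAbelian
import Cfsg.Agent.Lib.Helper24.CharIntegral

set_option autoImplicit false

namespace Cfsg.Agent.Helper12

open Cfsg Cfsg.Agent.Helper24

universe u

/-- class numbers are invariant under isomorphism -/
theorem card_conjClasses_congr {H K : Type*} [Group H] [Group K] (e : H ≃* K) :
    Nat.card (ConjClasses H) = Nat.card (ConjClasses K) := by
  apply card_conjClasses_of_invariant (fun h => ConjClasses.mk (e h))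
  · intro a b hab
    rw [ConjClasses.mk_eq_mk_iff_isConj]
    exact (MonoidHom.map_isConj e.toMonoidHom hab)
  · intro a b hab
    rw [ConjClasses.mk_eq_mk_iff_isConj] at hab
    have := MonoidHom.map_isConj e.symm.toMonoidHom hab
    simpa using this
  · intro c
    obtain ⟨k, rfl⟩ := ConjClasses.mk_surjective c
    exact ⟨e.symm k, by simp⟩

section

variable {H : Type u} [Group H] [Finite H]

/-- if no degree is divisible by `ℓ`, the characters of degree prime to `ℓ` are counted by the
class number -/
theorem card_irr_not_dvd_of_forall (ℓ : ℕ)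
    (h : ∀ χ : IrrCharacter H, ¬ ℓ ∣ charDegree (χ : H → ℂ)) :
    Nat.card {χ : IrrCharacter H // ¬ ℓ ∣ charDegree (χ : H → ℂ)} = Nat.card (ConjClasses H) := by
  haveI : Fintype H := Fintype.ofFinite H
  letI : Fintype (IrrCharacter H) := irrFintype
  rw [← card_irr_eq_card_conjClasses]
  exact Nat.card_congr (Equiv.subtypeUnivEquiv h)

/-- Itô's theorem in the form used here -/
theorem charDegree_dvd_index_of_abelian_normal (A : Subgroup H) [A.Normal]
    (hA : ∀ a ∈ A, ∀ b ∈ A, a * b = b * a) (χ : IrrCharacter H) :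
    charDegree (χ : H → ℂ) ∣ A.index := by
  haveI : Fintype H := Fintype.ofFinite H
  exact Cfsg.Agent.S0169.ito_aux (Nat.card H) H rfl A hA χ.1 χ.2

/-- a group with an abelian subgroup of index two whose class number `k` satisfies
`|H| + 12 = 4 k` has exactly four irreducible characters of odd degree -/
theorem card_irr_odd_of_index_two (A : Subgroup H) (hA : ∀ a ∈ A, ∀ b ∈ A, a * b = b * a)
    (hidx : A.index = 2) (hk : Nat.card H + 12 = 4 * Nat.card (ConjClasses H)) :
    Nat.card {χ : IrrCharacter H // ¬ 2 ∣ charDegree (χ : H → ℂ)} = 4 := by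
  classical
  haveI : Fintype H := Fintype.ofFinite H
  letI : Fintype (IrrCharacter H) := irrFintype
  haveI : A.Normal := Subgroup.normal_of_index_eq_two hidx
  have hdeg : ∀ χ : IrrCharacter H, charDegree (χ : H → ℂ) = 1 ∨ charDegree (χ : H → ℂ) = 2 := by
    intro χ
    have h1 := charDegree_dvd_index_of_abelian_normal A hA χ
    rw [hidx] at h1
    have h2 := Nat.le_of_dvd (by norm_num) h1
    have h3 := charDegree_pos χ.2
    omega
  have hsq := sum_charDegree_sq (G := H)
  have hcard : Nat.card (ConjClasses H) = Fintype.card (IrrCharacter H) := by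
    rw [← card_irr_eq_card_conjClasses, Nat.card_eq_fintype_card]
  rw [Nat.card_eq_fintype_card, Fintype.card_subtype]
  have hterm : ∀ χ : IrrCharacter H, charDegree (χ : H → ℂ) ^ 2 + 3 *
      (if ¬ 2 ∣ charDegree (χ : H → ℂ) then 1 else 0) = 4 := by
    intro χ
    rcases hdeg χ with h | h <;> rw [h] <;> norm_num
  have hsum : ∑ χ : IrrCharacter H, (charDegree (χ : H → ℂ) ^ 2 + 3 *
      (if ¬ 2 ∣ charDegree (χ : H → ℂ) then 1 else 0)) = 4 * Fintype.card (IrrCharacter H) := by
    rw [Finset.sum_congr rfl (fun χ _ => hterm χ), Finset.sum_const, Finset.card_univ,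
      smul_eq_mul, mul_comm]
  rw [Finset.sum_add_distrib, hsq, ← Finset.mul_sum, Finset.sum_boole, ← hcard] at hsum
  simp only [Nat.cast_id] at hsum
  omega

/-- a group of order `24` whose commutator subgroup has index dividing three has exactly four
irreducible characters of odd degree -/
theorem card_irr_odd_of_card_24 (h24 : Nat.card H = 24) (hc : (commutator H).index ∣ 3) :
    Nat.card {χ : IrrCharacter H // ¬ 2 ∣ charDegree (χ : H → ℂ)} = 4 := by
  classical
  haveI : Fintype H := Fintype.ofFinite H
  letI : Fintype (IrrCharacter H) := irrFintype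
  have hsq := sum_charDegree_sq (G := H)
  rw [h24] at hsq
  have hlin := card_linear_characters' (G := H)
  rw [Nat.card_eq_fintype_card, Fintype.card_subtype] at hlin
  have hn1 : (commutator H).index = 1 ∨ (commutator H).index = 3 :=
    (Nat.dvd_prime Nat.prime_three).1 hc
  rw [Nat.card_eq_fintype_card, Fintype.card_subtype]
  -- odd degrees are one or three
  have hodd : ∀ χ : IrrCharacter H, ¬ 2 ∣ charDegree (χ : H → ℂ) →
      charDegree (χ : H → ℂ) = 1 ∨ charDegree (χ : H → ℂ) = 3 := by
    intro χ hχ
    have h1 := charDegree_dvd_card χ.2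
    rw [h24] at h1
    have h2 := Nat.le_of_dvd (by norm_num) h1
    have h3 := charDegree_pos χ.2
    interval_cases (charDegree (χ : H → ℂ)) <;> omega
  have hsplit := Finset.sum_filter_add_sum_filter_not (Finset.univ : Finset (IrrCharacter H))
    (fun χ => ¬ 2 ∣ charDegree (χ : H → ℂ)) (fun χ => charDegree (χ : H → ℂ) ^ 2)
  rw [hsq] at hsplit
  -- the even part is divisible by four
  obtain ⟨m, hm⟩ : 4 ∣ ∑ χ ∈ Finset.univ.filter
      (fun χ : IrrCharacter H => ¬ ¬ 2 ∣ charDegree (χ : H → ℂ)), charDegree (χ : H → ℂ) ^ 2 := by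
    apply Finset.dvd_sum
    intro χ hχ
    rw [Finset.mem_filter, not_not] at hχ
    obtain ⟨j, hj⟩ := hχ.2
    rw [hj]
    exact ⟨j ^ 2, by ring⟩
  -- the odd part
  have hoddsum : ∑ χ ∈ Finset.univ.filter
      (fun χ : IrrCharacter H => ¬ 2 ∣ charDegree (χ : H → ℂ)), charDegree (χ : H → ℂ) ^ 2 + 8 *
      (Finset.univ.filter (fun χ : IrrCharacter H => charDegree (χ : H → ℂ) = 1)).card =
      9 * (Finset.univ.filter (fun χ : IrrCharacter H => ¬ 2 ∣ charDegree (χ : H → ℂ))).card := by
    have h1 : (Finset.univ.filter (fun χ : IrrCharacter H => charDegree (χ : H → ℂ) = 1)) =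
        (Finset.univ.filter (fun χ : IrrCharacter H => ¬ 2 ∣ charDegree (χ : H → ℂ))).filter
          (fun χ : IrrCharacter H => charDegree (χ : H → ℂ) = 1) := by
      ext χ
      simp only [Finset.mem_filter, Finset.mem_univ, true_and]
      constructor
      · intro h
        exact ⟨by rw [h]; norm_num, h⟩
      · exact fun h => h.2
    rw [h1, Finset.card_filter, Finset.mul_sum, ← Finset.sum_add_distrib, Finset.card_eq_sum_ones,
      Finset.mul_sum]
    apply Finset.sum_congr rfl
    intro χ hχ
    rw [Finset.mem_filter] at hχ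
    rcases hodd χ hχ.2 with h | h <;> rw [h] <;> norm_num
  rw [hm] at hsplit
  rcases hn1 with h | h <;> rw [h] at hlin <;> omega

end

end Cfsg.Agent.Helper12
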