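import Mathlib
import Cfsg.Agent.Lib.Helper12.SL2Borel
import Cfsg.Agent.Lib.Helper12.ConjCount
import Cfsg.Agent.Lib.Helper12.SL2Classes

set_option autoImplicit false

namespace Cfsg.Agent.Helper12

variable {F : Type*} [Field F]

/-- the diagonal entry of an element of the Borel subgroup -/
def b00 (x : borelSL2 F) : F :=
  ((x : Matrix.SpecialLinearGroup (Fin 2) F) : Matrix (Fin 2) (Fin 2) F) 0 0

/-- the off-diagonal entry of an element of the Borel subgroup -/
def b01 (x : borelSL2 F) : F :=
  ((x : Matrix.SpecialLinearGroup (Fin 2) F) : Matrix (Fin 2) (Fin 2) F) 0 1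

theorem b00_ne (x : borelSL2 F) : b00 x ≠ 0 := borel_entry_00_ne x

theorem b00_borelMk (s t : F) (hs : s ≠ 0) : b00 (borelMk s t hs) = s := by
  unfold b00
  rw [borelMk_coe]
  simp

theorem b01_borelMk (s t : F) (hs : s ≠ 0) : b01 (borelMk s t hs) = t := by
  unfold b01
  rw [borelMk_coe]
  simp

theorem borel_isConj_iff' (x y : borelSL2 F) :
    IsConj x y ↔ b00 x = b00 y ∧ ∃ s t : F, s ≠ 0 ∧
      b01 y = s ^ 2 * b01 x + s * t * ((b00 x)⁻¹ - b00 x) := by
  rw [borel_isConj_iff, borel_entry_11]
  rfl

open Classical in
/-- a complete invariant of the conjugacy classes of the Borel subgroup -/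
noncomputable def borelInv (x : borelSL2 F) :
    {a : F // a ≠ 0 ∧ a * a ≠ 1} ⊕ ({e : F // e * e = 1} × Option Bool) :=
  if h : b00 x * b00 x = 1 then
    Sum.inr (⟨b00 x, h⟩, if b01 x = 0 then none else some (decide (IsSquare (b01 x))))
  else Sum.inl ⟨b00 x, b00_ne x, h⟩

theorem borelInv_eq_of_isConj (x y : borelSL2 F) (h : IsConj x y) : borelInv x = borelInv y := by
  classical
  obtain ⟨h00, s, t, hs, h01⟩ := (borel_isConj_iff' x y).1 h
  unfold borelInv
  by_cases hsq : b00 x * b00 x = 1
  · have hsq' : b00 y * b00 y = 1 := by rw [← h00]; exact hsq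
    rw [dif_pos hsq, dif_pos hsq']
    have hinv : (b00 x)⁻¹ = b00 x := by
      rw [inv_eq_iff_eq_inv]
      exact eq_inv_of_mul_eq_one_left hsq
    rw [hinv, sub_self, mul_zero, add_zero] at h01
    congr 1
    apply Prod.ext
    · exact Subtype.ext h00
    · simp only
      by_cases h0 : b01 x = 0
      · have h0' : b01 y = 0 := by rw [h01, h0, mul_zero]
        rw [if_pos h0, if_pos h0']
      · have h0' : b01 y ≠ 0 := by
          rw [h01]
          exact mul_ne_zero (pow_ne_zero 2 hs) h0
        rw [if_neg h0, if_neg h0']
        congr 1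
        rw [decide_eq_decide, h01]
        constructor
        · rintro ⟨r, hr⟩
          exact ⟨s * r, by rw [hr]; ring⟩
        · rintro ⟨r, hr⟩
          refine ⟨r / s, ?_⟩
          field_simp
          linear_combination hr
  · have hsq' : ¬ b00 y * b00 y = 1 := by rw [← h00]; exact hsq
    rw [dif_neg hsq, dif_neg hsq']
    congr 1
    exact Subtype.ext h00

section finite

variable [Fintype F] [DecidableEq F]

/-- the product of two non-squares is a square -/
theorem isSquare_mul_of_not_isSquare' (hF : ringChar F ≠ 2) {a b : F} (ha0 : a ≠ 0) (hb0 : b ≠ 0)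
    (ha : ¬ IsSquare a) (hb : ¬ IsSquare b) : IsSquare (a * b) := by
  rw [← quadraticChar_one_iff_isSquare (mul_ne_zero ha0 hb0), map_mul,
    quadraticChar_neg_one_iff_not_isSquare.2 ha, quadraticChar_neg_one_iff_not_isSquare.2 hb]
  norm_num

theorem isConj_of_borelInv_eq (hF : ringChar F ≠ 2) (x y : borelSL2 F)
    (h : borelInv x = borelInv y) : IsConj x y := by
  classical
  rw [borel_isConj_iff']
  unfold borelInv at h
  by_cases hsq : b00 x * b00 x = 1
  · rw [dif_pos hsq] at h
    by_cases hsq' : b00 y * b00 y = 1
    · rw [dif_pos hsq'] at h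
      have h1 := Sum.inr.inj h
      have h00 : b00 x = b00 y := congrArg Subtype.val (congrArg Prod.fst h1)
      have h2 := congrArg Prod.snd h1
      simp only at h2
      refine ⟨h00, ?_⟩
      have hinv : (b00 x)⁻¹ = b00 x := by
        rw [inv_eq_iff_eq_inv]
        exact eq_inv_of_mul_eq_one_left hsq
      rw [hinv, sub_self]
      by_cases h0 : b01 x = 0
      · rw [if_pos h0] at h2
        by_cases h0' : b01 y = 0
        · exact ⟨1, 0, one_ne_zero, by rw [h0, h0']; ring⟩
        · rw [if_neg h0'] at h2
          exact absurd h2 (by simp)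
      · rw [if_neg h0] at h2
        by_cases h0' : b01 y = 0
        · rw [if_pos h0'] at h2
          exact absurd h2 (by simp)
        · rw [if_neg h0'] at h2
          have h3 : IsSquare (b01 x) ↔ IsSquare (b01 y) := by
            simpa using h2
          -- the quotient is a square
          have hquot : IsSquare (b01 y * b01 x) := by
            by_cases hx : IsSquare (b01 x)
            · exact (h3.1 hx).mul hx
            · exact isSquare_mul_of_not_isSquare' hF h0' h0 (fun hy => hx (h3.2 hy)) hx
          obtain ⟨r, hr⟩ := hquot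
          have hr0 : r ≠ 0 := by
            rintro rfl
            rw [mul_zero] at hr
            exact (mul_ne_zero h0' h0) hr
          refine ⟨r / b01 x, 0, div_ne_zero hr0 h0, ?_⟩
          field_simp
          linear_combination hr
    · rw [dif_neg hsq'] at h
      exact absurd h (by simp)
  · rw [dif_neg hsq] at h
    by_cases hsq' : b00 y * b00 y = 1
    · rw [dif_pos hsq'] at h
      exact absurd h (by simp)
    · rw [dif_neg hsq'] at h
      have h00 : b00 x = b00 y := congrArg Subtype.val (Sum.inl.inj h)
      refine ⟨h00, 1, (b01 y - b01 x) / ((b00 x)⁻¹ - b00 x), one_ne_zero, ?_⟩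
      have hne : (b00 x)⁻¹ - b00 x ≠ 0 := by
        intro h0
        apply hsq
        have h1 : (b00 x)⁻¹ = b00 x := sub_eq_zero.1 h0
        nth_rw 1 [← h1]
        exact inv_mul_cancel₀ (b00_ne x)
      rw [one_pow, one_mul, one_mul, div_mul_cancel₀ _ hne]
      ring

theorem borelInv_surjective (hF : ringChar F ≠ 2) :
    Function.Surjective (borelInv (F := F)) := by
  classical
  rintro (⟨a, ha0, ha⟩ | ⟨⟨e, he⟩, o⟩)
  · refine ⟨borelMk a 0 ha0, ?_⟩
    unfold borelInv
    rw [dif_neg (by rw [b00_borelMk]; exact ha)]
    congr 1
    try exact Subtype.ext (b00_borelMk a 0 ha0)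
  · have he0 : e ≠ 0 := by
      rintro rfl
      rw [mul_zero] at he
      exact zero_ne_one he
    obtain ⟨c, hc0, hc⟩ := exists_not_isSquare (F := F) hF
    have key : ∀ t : F, borelInv (borelMk e t he0) =
        Sum.inr (⟨e, he⟩, if t = 0 then none else some (decide (IsSquare t))) := by
      intro t
      unfold borelInv
      rw [dif_pos (by rw [b00_borelMk]; exact he)]
      congr 1
      apply Prod.ext
      · exact Subtype.ext (b00_borelMk e t he0)
      · simp only [b01_borelMk]
    rcases o with _ | b
    · exact ⟨borelMk e 0 he0, by rw [key, if_pos rfl]⟩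
    · cases b
      · refine ⟨borelMk e c he0, ?_⟩
        rw [key, if_neg hc0]
        simp [hc]
      · refine ⟨borelMk e 1 he0, ?_⟩
        rw [key, if_neg one_ne_zero]
        simp

/-- the number of conjugacy classes of the Borel subgroup of `SL₂(q)`, `q` odd, is `q + 3` -/
theorem card_conjClasses_borel (hF : ringChar F ≠ 2) :
    Nat.card (ConjClasses (borelSL2 F)) = Fintype.card F + 3 := by
  classical
  rw [card_conjClasses_of_invariant (borelInv (F := F)) borelInv_eq_of_isConj
    (isConj_of_borelInv_eq hF) (borelInv_surjective hF)]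
  rw [Nat.card_sum, Nat.card_prod, card_sq_eq_one hF]
  have h3 : Nat.card (Option Bool) = 3 := by
    rw [Nat.card_eq_fintype_card]
    rfl
  rw [h3]
  have h2 : (2 : F) ≠ 0 := Ring.two_ne_zero hF
  have hcompl : Nat.card {a : F // a ≠ 0 ∧ a * a ≠ 1} + 3 = Fintype.card F := by
    have e1 : {a : F // a ≠ 0 ∧ a * a ≠ 1} = {a : F // ¬ (a = 0 ∨ a * a = 1)} := by
      congr 1
      ext a
      rw [not_or]
    rw [e1, Nat.card_eq_fintype_card, Fintype.card_subtype_compl]
    have h4 : Fintype.card {a : F // a = 0 ∨ a * a = 1} = 3 := by
      rw [Fintype.card_subtype]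
      have : (Finset.univ.filter (fun a : F => a = 0 ∨ a * a = 1)) = {0, 1, -1} := by
        ext a
        simp only [Finset.mem_filter, Finset.mem_univ, true_and, Finset.mem_insert,
          Finset.mem_singleton]
        constructor
        · rintro (h | h)
          · left; exact h
          · right
            have : (a - 1) * (a + 1) = 0 := by linear_combination h
            rcases mul_eq_zero.1 this with h5 | h5
            · left; exact sub_eq_zero.1 h5
            · right; exact eq_neg_of_add_eq_zero_left h5
        · rintro (h | h | h)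
          · left; exact h
          · right; rw [h]; ring
          · right; rw [h]; ring
      rw [this, Finset.card_insert_of_notMem, Finset.card_insert_of_notMem,
        Finset.card_singleton]
      · have h11 : (1 : F) ≠ -1 := by
          intro h
          apply h2
          linear_combination h
        simp [h11]
      · have h01 : (0 : F) ≠ -1 := by
          intro h
          have : (1 : F) = 0 := by linear_combination h
          exact one_ne_zero this
        simp [h01]
    rw [h4]
    have : 3 ≤ Fintype.card F := by
      rw [← h4]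
      exact Fintype.card_subtype_le _
    omega
  omega

end finite

end Cfsg.Agent.Helper12
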