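import Mathlib
import Cfsg.Agent.Lib.Helper12.SL2BorelClasses
import Cfsg.Agent.Lib.Helper12.SL2Upper
import Cfsg.Agent.Lib.Helper12.McKayGen

set_option autoImplicit false

namespace Cfsg.Agent.Helper12

open Cfsg
open scoped Pointwise

section general

/-- class numbers of equal subgroups -/
theorem card_conjClasses_of_eq {G : Type*} [Group G] {H K : Subgroup G} (h : H = K) :
    Nat.card (ConjClasses H) = Nat.card (ConjClasses K) := by
  subst h; rfl

/-- the class number of the normaliser of a conjugate subgroup -/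
theorem card_conjClasses_normalizer_smul {G : Type*} [Group G] (g : G) (H : Subgroup G) :
    Nat.card (ConjClasses (Subgroup.normalizer ((MulAut.conj g • H : Subgroup G) : Set G))) =
      Nat.card (ConjClasses (Subgroup.normalizer (H : Set G))) := by
  have h1 : (Subgroup.normalizer (H : Set G)).map (MulAut.conj g).toMonoidHom =
      Subgroup.normalizer ((MulAut.conj g • H : Subgroup G) : Set G) := by
    rw [Subgroup.map_equiv_normalizer_eq]
    rfl
  rw [← card_conjClasses_of_eq h1]
  exact (card_conjClasses_congr (Subgroup.equivMapOfInjective _ (MulAut.conj g).toMonoidHom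
    (MulAut.conj g).injective)).symm

end general

variable {F : Type*} [Field F]

/-- the parametrisation of the upper unitriangular matrices -/
def unipHom (F : Type*) [Field F] : Multiplicative F →* Matrix.SpecialLinearGroup (Fin 2) F where
  toFun b := upperSL 1 (Multiplicative.toAdd b) (one_mul 1)
  map_one' := upperSL_one_zero
  map_mul' a b := by
    rw [upperSL_mul]
    apply upperSL_congr
    · ring
    · rw [toAdd_mul]; ring

theorem unipHom_apply (b : Multiplicative F) :
    unipHom F b = upperSL 1 (Multiplicative.toAdd b) (one_mul 1) := rfl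

theorem unipHom_injective : Function.Injective (unipHom F) := by
  intro a b hab
  rw [unipHom_apply, unipHom_apply] at hab
  have h1 := congrArg (fun g : Matrix.SpecialLinearGroup (Fin 2) F =>
    (g : Matrix (Fin 2) (Fin 2) F) 0 1) hab
  simp only [upperSL_coe] at h1
  have h2 : Multiplicative.toAdd a = Multiplicative.toAdd b := by simpa using h1
  exact Multiplicative.toAdd.injective h2

/-- the upper unitriangular subgroup of `SL₂` -/
def unipSL2 (F : Type*) [Field F] : Subgroup (Matrix.SpecialLinearGroup (Fin 2) F) :=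
  (unipHom F).range

theorem mem_unipSL2_iff (g : Matrix.SpecialLinearGroup (Fin 2) F) :
    g ∈ unipSL2 F ↔ (g : Matrix (Fin 2) (Fin 2) F) 1 0 = 0 ∧
      (g : Matrix (Fin 2) (Fin 2) F) 0 0 = 1 ∧ (g : Matrix (Fin 2) (Fin 2) F) 1 1 = 1 := by
  constructor
  · rintro ⟨b, rfl⟩
    rw [unipHom_apply, upperSL_coe]
    simp
  · rintro ⟨h10, h00, h11⟩
    obtain ⟨he, hg⟩ := eq_upperSL_of_entries g h10 (h00.trans h11.symm)
    refine ⟨Multiplicative.ofAdd ((g : Matrix (Fin 2) (Fin 2) F) 0 1), ?_⟩
    rw [unipHom_apply]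
    conv_rhs => rw [hg]
    exact upperSL_congr _ _ _ _ _ _ h00.symm rfl

theorem unipSL2_comm (a b : Matrix.SpecialLinearGroup (Fin 2) F) (ha : a ∈ unipSL2 F)
    (hb : b ∈ unipSL2 F) : a * b = b * a := by
  obtain ⟨x, rfl⟩ := ha
  obtain ⟨y, rfl⟩ := hb
  rw [← map_mul, ← map_mul, mul_comm]

theorem unipSL2_le_borel : unipSL2 F ≤ borelSL2 F := by
  intro g hg
  rw [mem_borelSL2_iff]
  exact ((mem_unipSL2_iff g).1 hg).1

theorem conj_entry_10 (X U : Matrix (Fin 2) (Fin 2) F) :
    (X * U * X.adjugate) 1 0 = (X 1 0 * U 0 0 + X 1 1 * U 1 0) * X 1 1 -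
      (X 1 0 * U 0 1 + X 1 1 * U 1 1) * X 1 0 := by
  rw [Matrix.adjugate_fin_two]
  simp [Matrix.mul_apply, Fin.sum_univ_two]
  ring

theorem conj_entry_00 (X U : Matrix (Fin 2) (Fin 2) F) :
    (X * U * X.adjugate) 0 0 = (X 0 0 * U 0 0 + X 0 1 * U 1 0) * X 1 1 -
      (X 0 0 * U 0 1 + X 0 1 * U 1 1) * X 1 0 := by
  rw [Matrix.adjugate_fin_two]
  simp [Matrix.mul_apply, Fin.sum_univ_two]
  ring

theorem conj_entry_11 (X U : Matrix (Fin 2) (Fin 2) F) :
    (X * U * X.adjugate) 1 1 = -(X 1 0 * U 0 0 + X 1 1 * U 1 0) * X 0 1 +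
      (X 1 0 * U 0 1 + X 1 1 * U 1 1) * X 0 0 := by
  rw [Matrix.adjugate_fin_two]
  simp [Matrix.mul_apply, Fin.sum_univ_two]
  ring

theorem conj_mem_unipSL2 (x u : Matrix.SpecialLinearGroup (Fin 2) F) (hx : x ∈ borelSL2 F)
    (hu : u ∈ unipSL2 F) : x * u * x⁻¹ ∈ unipSL2 F := by
  rw [mem_borelSL2_iff] at hx
  obtain ⟨h10, h00, h11⟩ := (mem_unipSL2_iff u).1 hu
  have hd := x.2
  rw [Matrix.det_fin_two, hx] at hd
  rw [mem_unipSL2_iff, Matrix.SpecialLinearGroup.coe_mul, Matrix.SpecialLinearGroup.coe_mul,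
    Matrix.SpecialLinearGroup.coe_inv, conj_entry_10, conj_entry_00, conj_entry_11, hx, h10, h00,
    h11]
  refine ⟨by ring, ?_, ?_⟩
  · linear_combination hd
  · linear_combination hd

/-- the normaliser of the unitriangular subgroup is the Borel subgroup -/
theorem normalizer_unipSL2 :
    Subgroup.normalizer ((unipSL2 F : Subgroup (Matrix.SpecialLinearGroup (Fin 2) F)) :
      Set (Matrix.SpecialLinearGroup (Fin 2) F)) = borelSL2 F := by
  ext x
  constructor
  · intro hx
    rw [Subgroup.mem_normalizer_iff] at hx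
    have h1 : unipHom F (Multiplicative.ofAdd 1) ∈ unipSL2 F := ⟨_, rfl⟩
    have h2 := (hx _).1 h1
    rw [mem_unipSL2_iff, Matrix.SpecialLinearGroup.coe_mul, Matrix.SpecialLinearGroup.coe_mul,
      Matrix.SpecialLinearGroup.coe_inv, conj_entry_10, unipHom_apply, upperSL_coe] at h2
    have h3 := h2.1
    simp only [Matrix.of_apply, Matrix.cons_val', Matrix.cons_val_zero, Matrix.cons_val_one,
      Matrix.cons_val_fin_one, toAdd_ofAdd] at h3
    rw [mem_borelSL2_iff]
    have h4 : (x : Matrix (Fin 2) (Fin 2) F) 1 0 * (x : Matrix (Fin 2) (Fin 2) F) 1 0 = 0 := by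
      linear_combination -h3
    exact mul_self_eq_zero.1 h4
  · intro hx
    rw [Subgroup.mem_normalizer_iff]
    intro u
    constructor
    · intro hu
      exact conj_mem_unipSL2 x u hx hu
    · intro hu
      have := conj_mem_unipSL2 x⁻¹ _ (inv_mem hx) hu
      have e : x⁻¹ * (x * u * x⁻¹) * x⁻¹⁻¹ = u := by group
      rw [e] at this
      exact this

section finite

variable [Fintype F] [DecidableEq F]

theorem card_unipSL2 : Nat.card (unipSL2 F) = Fintype.card F := by
  rw [unipSL2, ← Nat.card_congr (MonoidHom.ofInjective (unipHom_injective (F := F))).toEquiv,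
    Nat.card_eq_fintype_card, Fintype.card_multiplicative]

theorem factorization_card_SL2 (p : ℕ) [Fact p.Prime] [CharP F p] (n : ℕ)
    (hq : Fintype.card F = p ^ n) :
    (Nat.card (Matrix.SpecialLinearGroup (Fin 2) F)).factorization p = n := by
  have hpp : p.Prime := Fact.out
  have hq2 : 2 ≤ Fintype.card F := Fintype.one_lt_card
  have hpq : p ∣ Fintype.card F ^ 2 := by
    rw [hq]
    have hn : n ≠ 0 := by
      rintro rfl
      rw [pow_zero] at hq
      omega
    exact Dvd.dvd.pow (dvd_pow_self p hn) two_ne_zero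
  have h1 : 1 < Fintype.card F ^ 2 := Nat.one_lt_pow two_ne_zero (by omega)
  rw [card_SL2, Nat.factorization_mul (by omega) (by omega), Finsupp.add_apply]
  have h2 : (Fintype.card F ^ 2 - 1).factorization p = 0 := by
    apply Nat.factorization_eq_zero_of_not_dvd
    intro hdvd
    have : p ∣ Fintype.card F ^ 2 - (Fintype.card F ^ 2 - 1) := Nat.dvd_sub hpq hdvd
    have e : Fintype.card F ^ 2 - (Fintype.card F ^ 2 - 1) = 1 := by omega
    rw [e] at this
    exact hpp.one_lt.ne' (Nat.dvd_one.1 this)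
  rw [h2, add_zero, hq, hpp.factorization_pow, Finsupp.single_eq_same]

/-- the unitriangular subgroup as a Sylow subgroup -/
noncomputable def unipSylow (p : ℕ) [Fact p.Prime] [CharP F p] :
    Sylow p (Matrix.SpecialLinearGroup (Fin 2) F) :=
  Sylow.ofCard (unipSL2 F) (by
    obtain ⟨n, -, hq⟩ := FiniteField.card F p
    rw [factorization_card_SL2 p n hq, card_unipSL2, hq])

theorem unipSylow_coe (p : ℕ) [Fact p.Prime] [CharP F p] :
    ((unipSylow (F := F) p : Sylow p (Matrix.SpecialLinearGroup (Fin 2) F)) :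
      Subgroup (Matrix.SpecialLinearGroup (Fin 2) F)) = unipSL2 F := rfl

/-- every Sylow subgroup for the characteristic is a conjugate of the unitriangular subgroup -/
theorem exists_conj_unipSL2 (p : ℕ) [Fact p.Prime] [CharP F p]
    (S : Sylow p (Matrix.SpecialLinearGroup (Fin 2) F)) :
    ∃ g : Matrix.SpecialLinearGroup (Fin 2) F,
      (S : Subgroup (Matrix.SpecialLinearGroup (Fin 2) F)) = MulAut.conj g • unipSL2 F := by
  obtain ⟨g, hg⟩ := MulAction.exists_smul_eq (Matrix.SpecialLinearGroup (Fin 2) F)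
    (unipSylow (F := F) p) S
  refine ⟨g, ?_⟩
  rw [← hg, Sylow.coe_subgroup_smul, unipSylow_coe]

/-- the class number of the normaliser of a Sylow subgroup for the characteristic -/
theorem card_conjClasses_normalizer_sylow_char (hF : ringChar F ≠ 2) (p : ℕ) [Fact p.Prime]
    [CharP F p] (S : Sylow p (Matrix.SpecialLinearGroup (Fin 2) F)) :
    Nat.card (ConjClasses (Subgroup.normalizer
      ((S : Subgroup (Matrix.SpecialLinearGroup (Fin 2) F)) :
        Set (Matrix.SpecialLinearGroup (Fin 2) F)))) = Fintype.card F + 3 := by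
  obtain ⟨g, hg⟩ := exists_conj_unipSL2 p S
  rw [hg, card_conjClasses_normalizer_smul, card_conjClasses_of_eq normalizer_unipSL2,
    card_conjClasses_borel hF]

/-- the irreducible characters of the normaliser of a Sylow subgroup for the characteristic
all have degree prime to the characteristic -/
theorem card_irr_normalizer_sylow_char (hF : ringChar F ≠ 2) (p : ℕ) [Fact p.Prime]
    [CharP F p] (S : Sylow p (Matrix.SpecialLinearGroup (Fin 2) F)) :
    Nat.card {ψ : IrrCharacter (Subgroup.normalizer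
      ((S : Subgroup (Matrix.SpecialLinearGroup (Fin 2) F)) :
        Set (Matrix.SpecialLinearGroup (Fin 2) F))) //
      ¬ p ∣ charDegree (ψ : Subgroup.normalizer
      ((S : Subgroup (Matrix.SpecialLinearGroup (Fin 2) F)) :
        Set (Matrix.SpecialLinearGroup (Fin 2) F)) → ℂ)} = Fintype.card F + 3 := by
  rw [← card_conjClasses_normalizer_sylow_char hF p S]
  apply card_irr_not_dvd_of_forall
  intro ψ hdvd
  obtain ⟨g, hg⟩ := exists_conj_unipSL2 p S
  haveI : ((S : Subgroup (Matrix.SpecialLinearGroup (Fin 2) F)).subgroupOf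
      (Subgroup.normalizer ((S : Subgroup (Matrix.SpecialLinearGroup (Fin 2) F)) :
        Set (Matrix.SpecialLinearGroup (Fin 2) F)))).Normal := Subgroup.normal_in_normalizer
  have hab : ∀ a ∈ (S : Subgroup (Matrix.SpecialLinearGroup (Fin 2) F)).subgroupOf
      (Subgroup.normalizer ((S : Subgroup (Matrix.SpecialLinearGroup (Fin 2) F)) :
        Set (Matrix.SpecialLinearGroup (Fin 2) F))),
      ∀ b ∈ (S : Subgroup (Matrix.SpecialLinearGroup (Fin 2) F)).subgroupOf
      (Subgroup.normalizer ((S : Subgroup (Matrix.SpecialLinearGroup (Fin 2) F)) :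
        Set (Matrix.SpecialLinearGroup (Fin 2) F))), a * b = b * a := by
    rintro ⟨a, ha⟩ ha' ⟨b, hb⟩ hb'
    rw [Subgroup.mem_subgroupOf] at ha' hb'
    change a ∈ (S : Subgroup (Matrix.SpecialLinearGroup (Fin 2) F)) at ha'
    change b ∈ (S : Subgroup (Matrix.SpecialLinearGroup (Fin 2) F)) at hb'
    rw [hg] at ha' hb'
    obtain ⟨a', ha'', rfl⟩ := (Subgroup.mem_smul_pointwise_iff_exists _ _ _).1 ha'
    obtain ⟨b', hb'', rfl⟩ := (Subgroup.mem_smul_pointwise_iff_exists _ _ _).1 hb'
    apply Subtype.ext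
    change MulAut.conj g • a' * MulAut.conj g • b' = MulAut.conj g • b' * MulAut.conj g • a'
    rw [← smul_mul', ← smul_mul', unipSL2_comm a' b' ha'' hb'']
  have h1 := charDegree_dvd_index_of_abelian_normal _ hab ψ
  have h2 : ((S : Subgroup (Matrix.SpecialLinearGroup (Fin 2) F)).subgroupOf
      (Subgroup.normalizer ((S : Subgroup (Matrix.SpecialLinearGroup (Fin 2) F)) :
        Set (Matrix.SpecialLinearGroup (Fin 2) F)))).index ∣
      (S : Subgroup (Matrix.SpecialLinearGroup (Fin 2) F)).index := by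
    have := Subgroup.relIndex_mul_index (Subgroup.le_normalizer
      (H := (S : Subgroup (Matrix.SpecialLinearGroup (Fin 2) F))))
    exact Dvd.intro _ this
  exact S.not_dvd_index (dvd_trans hdvd (dvd_trans h1 h2))

end finite

end Cfsg.Agent.Helper12
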