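import Mathlib

set_option autoImplicit false

namespace Cfsg.Agent.Helper12

open Matrix Matrix.SpecialLinearGroup

section general

variable {ι : Type*} [Fintype ι] [DecidableEq ι] {K : Type*} [Field K]

/-- the commutator relation for elementary transvections -/
theorem tv_comm_rel {i j k : ι} (hij : i ≠ j) (hjk : j ≠ k) (hik : i ≠ k) (a b : K) :
    transvection hij a * transvection hjk b * transvection hij (-a) * transvection hjk (-b) =
      transvection hik (a * b) := by
  apply Subtype.ext
  simp only [coe_mul, transvection_coe]
  simp [mul_add, add_mul, single_mul_single_of_ne _ _ _ _ hij.symm,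
    single_mul_single_of_ne _ _ _ _ hjk.symm, single_mul_single_of_ne _ _ _ _ hik.symm,
    ← single_neg]
  abel

omit [Fintype ι] in
theorem diag_as_single {i j : ι} (hij : i ≠ j) (a b : K) :
    diagonal (fun k => if k = i then a else if k = j then b else 1) =
      (1 : Matrix ι ι K) + single i i (a - 1) + single j j (b - 1) := by
  ext k l
  simp only [diagonal_apply, Matrix.add_apply, one_apply, single_apply]
  by_cases hkl : k = l
  · subst hkl
    by_cases hki : k = i
    · subst hki
      have : ¬ j = k := fun h => hij h.symm
      simp [this]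
    · by_cases hkj : k = j
      · subst hkj
        simp [hij, hki]
      · have h1 : ¬ i = k := fun h => hki h.symm
        have h2 : ¬ j = k := fun h => hkj h.symm
        simp [hki, hkj, h1, h2]
  · have h1 : ¬ (i = k ∧ i = l) := fun h => hkl (h.1.symm.trans h.2)
    have h2 : ¬ (j = k ∧ j = l) := fun h => hkl (h.1.symm.trans h.2)
    simp [hkl, h1, h2]

/-- a diagonal element with two non-trivial entries is a product of six transvections -/
theorem diag2n_eq {i j : ι} (hij : i ≠ j) (a : K) (ha : a ≠ 0) :
    diag2n hij a ha = transvection hij a * transvection hij.symm (-a⁻¹) * transvection hij a *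
      transvection hij (-1) * transvection hij.symm 1 * transvection hij (-1) := by
  apply Subtype.ext
  rw [diag2n_coe, diag_as_single hij]
  simp only [coe_mul, transvection_coe]
  simp [mul_add, add_mul, single_mul_single_of_ne _ _ _ _ hij.symm,
    single_mul_single_of_ne _ _ _ _ hij, ← single_neg,
    mul_inv_cancel₀ ha, inv_mul_cancel₀ ha, sub_eq_add_neg, single_add]
  abel

/-- a subgroup containing all elementary transvections is everything -/
theorem eq_top_of_forall_transvection [Nontrivial ι] (H : Subgroup (SpecialLinearGroup ι K))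
    (h : ∀ (i j : ι) (hij : i ≠ j) (c : K), transvection hij c ∈ H) : H = ⊤ := by
  rw [eq_top_iff]
  intro M _
  refine diagonal_transvection_induction' (fun M => M ∈ H) M ?_ ?_ ?_
  · intro i j hij c hc
    change diag2n hij c hc ∈ H
    rw [diag2n_eq]
    exact mul_mem (mul_mem (mul_mem (mul_mem (mul_mem (h _ _ _ _) (h _ _ _ _)) (h _ _ _ _))
      (h _ _ _ _)) (h _ _ _ _)) (h _ _ _ _)
  · intro i j hij a
    exact h i j hij a
  · intro A B hA hB
    exact mul_mem hA hB

end general

section cyclic

variable {n : ℕ} {K : Type*} [Field K]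

/-- the signs of the monomial matrix -/
def epsW (n : ℕ) (K : Type*) [Field K] (a : Fin (n + 1)) : K := if a.val = n then (-1) ^ n else 1

theorem epsW_mul_self (a : Fin (n + 1)) : epsW n K a * epsW n K a = 1 := by
  unfold epsW
  split_ifs
  · rw [← mul_pow]; simp
  · simp

/-- the monomial matrix of the long cycle -/
def IsCoxW (w : SpecialLinearGroup (Fin (n + 1)) K) : Prop :=
  ∀ a b : Fin (n + 1), (w : Matrix (Fin (n + 1)) (Fin (n + 1)) K) a b =
    if b = a + 1 then epsW n K a else 0

theorem isCoxW_of_eq (hn : 1 ≤ n) (w : SpecialLinearGroup (Fin (n + 1)) K)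
    (hw : (w : Matrix (Fin (n + 1)) (Fin (n + 1)) K) =
      Matrix.of (fun i j => if j.val = i.val + 1 then 1 else
        if i.val = n ∧ j.val = 0 then (-1) ^ n else 0)) : IsCoxW w := by
  intro a b
  rw [hw, Matrix.of_apply]
  unfold epsW
  by_cases ha : a.val = n
  · have ha1 : a + 1 = 0 := by
      apply Fin.ext
      rw [Fin.val_add, ha]
      simp
    have hb1 : ¬ b.val = a.val + 1 := by
      have := b.2
      omega
    rw [if_neg hb1, ha1, if_pos ha]
    by_cases hb : b = 0
    · subst hb
      simp [ha]
    · have : ¬ b.val = 0 := fun h => hb (Fin.ext h)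
      rw [if_neg hb, if_neg (fun h => this h.2)]
  · have hlt : a.val < n := by
      have := a.2
      omega
    have ha1 : (a + 1).val = a.val + 1 := by
      rw [Fin.val_add]
      have : (1 : Fin (n + 1)).val = 1 := by
        rw [Fin.val_one']
        exact Nat.mod_eq_of_lt (by omega)
      rw [this]
      exact Nat.mod_eq_of_lt (by omega)
    rw [if_neg ha]
    by_cases hb : b = a + 1
    · rw [if_pos hb, if_pos (by rw [hb, ha1])]
    · rw [if_neg hb, if_neg (fun h => hb (Fin.ext (by rw [ha1]; exact h))),
        if_neg (fun h => ha h.1)]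

/-- conjugation by the monomial matrix shifts elementary transvections -/
theorem transvection_mul_coxW {w : SpecialLinearGroup (Fin (n + 1)) K} (hw : IsCoxW w)
    {a b : Fin (n + 1)} (hab : a ≠ b) (c : K) :
    transvection hab c * w = w * transvection
      (show a + 1 ≠ b + 1 from fun h => hab (add_right_cancel h)) (c * epsW n K a * epsW n K b) := by
  apply Subtype.ext
  rw [coe_mul, coe_mul]
  change Matrix.transvection a b c * (w : Matrix (Fin (n + 1)) (Fin (n + 1)) K) =
    (w : Matrix (Fin (n + 1)) (Fin (n + 1)) K) *
      Matrix.transvection (a + 1) (b + 1) (c * epsW n K a * epsW n K b)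
  ext k l
  by_cases hk : k = a
  · subst hk
    rw [transvection_mul_apply_same]
    by_cases hl : l = b + 1
    · subst hl
      rw [mul_transvection_apply_same, hw b (b + 1), if_pos rfl, hw k (k + 1), if_pos rfl]
      have := epsW_mul_self (K := K) k
      linear_combination (-c * epsW n K b) * this
    · rw [mul_transvection_apply_of_ne _ _ _ _ hl, hw b l, if_neg hl, mul_zero, add_zero]
  · rw [transvection_mul_apply_of_ne _ _ _ _ hk]
    by_cases hl : l = b + 1
    · subst hl
      rw [mul_transvection_apply_same, hw k (a + 1),
        if_neg (fun h => hk (add_right_cancel h).symm), mul_zero, add_zero]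
    · rw [mul_transvection_apply_of_ne _ _ _ _ hl]

/-- the root subgroup of an elementary transvection lies in `H` -/
def TvGood (H : Subgroup (SpecialLinearGroup (Fin (n + 1)) K)) (a b : Fin (n + 1)) : Prop :=
  ∀ (hab : a ≠ b) (c : K), transvection hab c ∈ H

theorem tvGood_shift {H : Subgroup (SpecialLinearGroup (Fin (n + 1)) K)}
    {w : SpecialLinearGroup (Fin (n + 1)) K} (hw : IsCoxW w) (hwH : w ∈ H) {a b : Fin (n + 1)}
    (h : TvGood H a b) : TvGood H (a + 1) (b + 1) := by
  intro hab c
  have hab' : a ≠ b := fun h' => hab (by rw [h'])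
  have h1 := transvection_mul_coxW hw hab' (c * epsW n K a * epsW n K b)
  have h2 : c * epsW n K a * epsW n K b * epsW n K a * epsW n K b = c := by
    have ha := epsW_mul_self (K := K) a
    have hb := epsW_mul_self (K := K) b
    linear_combination (c * epsW n K b * epsW n K b) * ha + c * hb
  have h3 : transvection hab c = w⁻¹ * transvection hab' (c * epsW n K a * epsW n K b) * w := by
    rw [mul_assoc, h1, ← mul_assoc, inv_mul_cancel, one_mul]
    congr 1
    exact h2.symm
  rw [h3]
  exact mul_mem (mul_mem (inv_mem hwH) (h hab' _)) hwH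

theorem tvGood_trans {H : Subgroup (SpecialLinearGroup (Fin (n + 1)) K)} {a b c : Fin (n + 1)}
    (hab : a ≠ b) (hbc : b ≠ c) (h1 : TvGood H a b) (h2 : TvGood H b c) : TvGood H a c := by
  intro hac t
  rw [← mul_one t, ← tv_comm_rel hab hbc hac t 1]
  exact mul_mem (mul_mem (mul_mem (h1 hab _) (h2 hbc _)) (h1 hab _)) (h2 hbc _)

open Fin.NatCast in
theorem natCast_fin_ne_zero {d : ℕ} (h1 : 1 ≤ d) (h2 : d ≤ n) : ((d : ℕ) : Fin (n + 1)) ≠ 0 := by
  intro h
  have := congrArg Fin.val h
  rw [Fin.val_natCast, Nat.mod_eq_of_lt (by omega)] at this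
  simp at this
  omega

open Fin.NatCast in
/-- a subgroup containing the monomial matrix of the long cycle and the first root subgroup is
everything -/
theorem eq_top_of_tvGood (hn : 1 ≤ n) (H : Subgroup (SpecialLinearGroup (Fin (n + 1)) K))
    {w : SpecialLinearGroup (Fin (n + 1)) K} (hw : IsCoxW w) (hwH : w ∈ H)
    (h01 : TvGood H 0 1) : H = ⊤ := by
  -- consecutive pairs
  have hcons : ∀ k : ℕ, TvGood H ((k : ℕ) : Fin (n + 1)) (((k : ℕ) : Fin (n + 1)) + 1) := by
    intro k
    induction k with
    | zero =>
      simpa using h01
    | succ k ih =>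
      have := tvGood_shift hw hwH ih
      rw [Nat.cast_succ]
      exact this
  have hcons' : ∀ a : Fin (n + 1), TvGood H a (a + 1) := by
    intro a
    have := hcons a.val
    rw [Fin.cast_val_eq_self] at this
    exact this
  -- arbitrary distances
  have hdist : ∀ d : ℕ, 1 ≤ d → d ≤ n → ∀ a : Fin (n + 1),
      TvGood H a (a + ((d : ℕ) : Fin (n + 1))) := by
    intro d
    induction d with
    | zero => intro h; omega
    | succ d ih =>
      intro _ hd a
      by_cases hd0 : d = 0
      · subst hd0
        simpa using hcons' a
      · have h1 := ih (by omega) (by omega) a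
        have h2 := hcons' (a + ((d : ℕ) : Fin (n + 1)))
        rw [Nat.cast_succ, ← add_assoc]
        refine tvGood_trans ?_ ?_ h1 h2
        · intro h
          have : ((d : ℕ) : Fin (n + 1)) = 0 := by
            have := h.symm
            rwa [add_eq_left] at this
          exact natCast_fin_ne_zero (by omega) (by omega) this
        · intro h
          have : (1 : Fin (n + 1)) = 0 := by
            have := h.symm
            rwa [add_eq_left] at this
          have h3 := natCast_fin_ne_zero (n := n) (d := 1) le_rfl hn
          rw [Nat.cast_one] at h3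
          exact h3 this
  haveI : Nontrivial (Fin (n + 1)) := Fin.nontrivial_iff_two_le.2 (by omega)
  apply eq_top_of_forall_transvection
  intro i j hij c
  have hd : (j - i).val ≠ 0 := by
    intro h
    have : j - i = 0 := Fin.ext h
    exact hij (sub_eq_zero.1 this).symm
  have := hdist (j - i).val (by omega) (by have := (j - i).2; omega) i
  rw [Fin.cast_val_eq_self, add_sub_cancel] at this
  exact this hij c

end cyclic

end Cfsg.Agent.Helper12
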