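import Mathlib

/-!
# S0420 piece SYLCNT (helper12): in a group of order 7920 with `|N(P_11)| = 55`, a subgroup of even
order containing `N(P_11)` has order 660 or is the whole group.
-/

set_option autoImplicit false
set_option linter.unusedSectionVars false
set_option linter.unusedVariables false

namespace Cfsg.Agent.Helper27.M11U

universe u v

namespace SYLCNT

/-- the arithmetic: `n ∣ 144`, `n ≡ 1 mod 11`, `55 n` even `⟹ n = 12 ∨ n = 144` -/
theorem arith (n : ℕ) (hd : n ∣ 144) (hm : n % 11 = 1) (h2 : 2 ∣ 55 * n) : n = 12 ∨ n = 144 := by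
  have hmem : n ∈ Nat.divisors 144 := Nat.mem_divisors.2 ⟨hd, by norm_num⟩
  simp only [Nat.divisors_ofNat] at hmem
  simp only [Finset.mem_insert, Finset.mem_singleton] at hmem
  omega

end SYLCNT

section Abstract

variable {G : Type u} [Group G] [Fintype G]

/-- PIECE SYLCNT: a subgroup of even order containing `N(P)` has order `660` or is everything. -/
theorem card_of_normalizer_le (hG : Nat.card G = 7920) (P : Sylow 11 G)
    (hP : Nat.card (P : Subgroup G) = 11)
    (hN : Nat.card (Subgroup.normalizer ((P : Subgroup G) : Set G)) = 55)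
    (L : Subgroup G) (hL : Subgroup.normalizer ((P : Subgroup G) : Set G) ≤ L)
    (h2 : 2 ∣ Nat.card L) : Nat.card L = 660 ∨ L = ⊤ := by
  classical
  haveI : Fact (Nat.Prime 11) := ⟨by norm_num⟩
  have hPL : (P : Subgroup G) ≤ L := le_trans Subgroup.le_normalizer hL
  let P' : Sylow 11 L := P.subtype hPL
  have hP' : ((P' : Subgroup L)) = (P : Subgroup G).subgroupOf L := Sylow.coe_subtype P hPL
  -- the normalizer of `P'` in `L`
  have hnorm : Subgroup.normalizer ((P' : Subgroup L) : Set L) =
      (Subgroup.normalizer ((P : Subgroup G) : Set G)).subgroupOf L := by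
    rw [hP']
    exact (Subgroup.subgroupOf_normalizer_eq hPL).symm
  have hcardN : Nat.card (Subgroup.normalizer ((P' : Subgroup L) : Set L)) = 55 := by
    rw [hnorm, ← hN]
    exact Nat.card_congr (Subgroup.subgroupOfEquivOfLe hL).toEquiv
  -- the number of Sylow 11-subgroups of `L`
  set n := Nat.card (Sylow 11 L) with hn
  have hidx : n = (Subgroup.normalizer ((P' : Subgroup L) : Set L)).index :=
    Sylow.card_eq_index_normalizer P'
  have hmul : 55 * n = Nat.card L := by
    rw [hidx, ← hcardN]
    exact Subgroup.card_mul_index _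
  have hmod : n % 11 = 1 := by
    have := card_sylow_modEq_one 11 L
    exact this
  have hLd : Nat.card L ∣ 7920 := by
    rw [← hG]; exact Subgroup.card_subgroup_dvd_card L
  have hnd : n ∣ 144 := by
    rw [← hmul] at hLd
    have : 55 * n ∣ 55 * 144 := by norm_num at hLd ⊢; exact hLd
    exact Nat.dvd_of_mul_dvd_mul_left (by norm_num) this
  have h2' : 2 ∣ 55 * n := by rw [hmul]; exact h2
  rcases SYLCNT.arith n hnd hmod h2' with h | h
  · left
    rw [← hmul, h]
  · right
    apply Subgroup.eq_top_of_card_eq
    rw [← hmul, h, hG]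

end Abstract

end Cfsg.Agent.Helper27.M11U
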