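import Mathlib
import Cfsg.Prelude.Def_Transfer
import Cfsg.Agent.Lib.Helper21.PiSubgroup

/-!
# Nilpotent minimal covers (helper12)

Groups with trivial centre and a minimal cover by nilpotent subgroups: abelian non-normal Sylow
subgroups which are not elementary abelian of order `> p`.
-/

set_option autoImplicit false

namespace Cfsg.Agent.Helper12.NilCover

open Subgroup Pointwise

variable {G : Type*} [Group G]

/-- `p`-part and `p'`-part of an element, both powers of it. -/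
theorem exists_pParts [Finite G] (p : ℕ) [hp : Fact p.Prime] (c : G) :
    ∃ u y : G, u ∈ Subgroup.zpowers c ∧ y ∈ Subgroup.zpowers c ∧ c = u * y ∧
      (∃ k, orderOf u = p ^ k) ∧ ¬ p ∣ orderOf y := by
  have hm : 0 < orderOf c := orderOf_pos c
  obtain ⟨a, m', hm', hmeq⟩ := Nat.exists_eq_pow_mul_and_not_dvd hm.ne' p hp.out.ne_one
  have hcop : Nat.Coprime (p ^ a) m' :=
    ((Nat.Prime.coprime_iff_not_dvd hp.out).2 hm').pow_left a
  obtain ⟨k₁, h11, h12⟩ := Nat.chineseRemainder hcop 1 0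
  obtain ⟨k₂, h21, h22⟩ := Nat.chineseRemainder hcop 0 1
  refine ⟨c ^ k₁, c ^ k₂, ⟨k₁, by simp⟩, ⟨k₂, by simp⟩, ?_, ?_, ?_⟩
  · rw [← pow_add]
    have h1 : k₁ + k₂ ≡ 1 [MOD orderOf c] := by
      rw [hmeq]
      apply (Nat.modEq_and_modEq_iff_modEq_mul hcop).1
      constructor
      · simpa using h11.add h21
      · simpa using h12.add h22
    have := (pow_eq_pow_iff_modEq (x := c) (n := k₁ + k₂) (m := 1)).2 h1
    rw [this, pow_one]
  · have h1 : (c ^ k₁) ^ (p ^ a) = 1 := by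
      rw [← pow_mul]
      apply orderOf_dvd_iff_pow_eq_one.1
      rw [hmeq, mul_comm k₁]
      exact mul_dvd_mul_left _ ((Nat.modEq_zero_iff_dvd).1 h12)
    obtain ⟨k, -, hk⟩ := (Nat.dvd_prime_pow hp.out).1 (orderOf_dvd_of_pow_eq_one h1)
    exact ⟨k, hk⟩
  · have h1 : (c ^ k₂) ^ m' = 1 := by
      rw [← pow_mul]
      apply orderOf_dvd_iff_pow_eq_one.1
      rw [hmeq]
      exact mul_dvd_mul_right ((Nat.modEq_zero_iff_dvd).1 h21) _
    intro hdvd
    exact hm' (hdvd.trans (orderOf_dvd_of_pow_eq_one h1))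

/-- commuting elements of coprime orders are powers of their product -/
theorem mem_zpowers_mul_of_coprime {z y : G} (h : Commute z y)
    (hc : (orderOf z).Coprime (orderOf y)) :
    z ∈ Subgroup.zpowers (z * y) ∧ y ∈ Subgroup.zpowers (z * y) := by
  obtain ⟨k₁, h11, h12⟩ := Nat.chineseRemainder hc 1 0
  obtain ⟨k₂, h21, h22⟩ := Nat.chineseRemainder hc 0 1
  constructor
  · refine ⟨k₁, ?_⟩
    show (z * y) ^ (k₁ : ℤ) = z
    rw [zpow_natCast, h.mul_pow, (pow_eq_pow_iff_modEq (x := z) (n := k₁) (m := 1)).2 h11,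
      (pow_eq_pow_iff_modEq (x := y) (n := k₁) (m := 0)).2 h12, pow_one, pow_zero, mul_one]
  · refine ⟨k₂, ?_⟩
    show (z * y) ^ (k₂ : ℤ) = y
    rw [zpow_natCast, h.mul_pow, (pow_eq_pow_iff_modEq (x := z) (n := k₂) (m := 0)).2 h21,
      (pow_eq_pow_iff_modEq (x := y) (n := k₂) (m := 1)).2 h22, pow_one, pow_zero, one_mul]

/-- a `p`-element normalizing a Sylow `p`-subgroup lies in it -/
theorem mem_sylow_of_mem_normalizer {p : ℕ} [hp : Fact p.Prime] (P : Sylow p G) {u : G}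
    (hu : u ∈ Subgroup.normalizer ((P : Subgroup G) : Set G)) {k : ℕ} (hk : orderOf u = p ^ k) :
    u ∈ (P : Subgroup G) := by
  have hK : IsPGroup p (Subgroup.zpowers u) := by
    apply IsPGroup.of_card (n := k)
    rw [Nat.card_zpowers, hk]
  have hle : Subgroup.zpowers u ≤ Subgroup.normalizer ((P : Subgroup G) : Set G) := by
    rw [Subgroup.zpowers_le]; exact hu
  have h1 := P.isPGroup'.to_sup_of_normal_left' hK hle
  have h2 := P.is_maximal' h1 le_sup_left
  rw [← h2]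
  exact (le_sup_right : Subgroup.zpowers u ≤ _) (Subgroup.mem_zpowers u)

/-- the hypotheses: a minimal cover by nilpotent proper subgroups -/
structure NMC (𝓐 : Finset (Subgroup G)) : Prop where
  proper : ∀ A ∈ 𝓐, A ≠ ⊤
  cover : ∀ g : G, ∃ A ∈ 𝓐, g ∈ A
  min : ∀ 𝓑 : Finset (Subgroup G),
    (∀ A ∈ 𝓑, A ≠ ⊤) ∧ (∀ g : G, ∃ A ∈ 𝓑, g ∈ A) → 𝓐.card ≤ 𝓑.card
  nil : ∀ A ∈ 𝓐, Group.IsNilpotent ↥A

theorem NMC.of_hyp {𝓐 : Finset (Subgroup G)}
    (h𝓐 : ((∀ A ∈ 𝓐, A ≠ ⊤) ∧ (∀ g : G, ∃ A ∈ 𝓐, g ∈ A)) ∧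
      (∀ 𝓑 : Finset (Subgroup G), (∀ A ∈ 𝓑, A ≠ ⊤) ∧ (∀ g : G, ∃ A ∈ 𝓑, g ∈ A) →
        𝓐.card ≤ 𝓑.card) ∧ (∀ A ∈ 𝓐, Group.IsNilpotent ↥A)) : NMC 𝓐 :=
  ⟨h𝓐.1.1, h𝓐.1.2, h𝓐.2.1, h𝓐.2.2⟩

/-- two members of a minimal cover inside a common proper subgroup coincide -/
theorem NMC.eq_of_le {𝓐 : Finset (Subgroup G)} (h : NMC 𝓐) {M : Subgroup G} (hM : M ≠ ⊤)
    {B₁ B₂ : Subgroup G} (h1 : B₁ ∈ 𝓐) (h2 : B₂ ∈ 𝓐) (h1M : B₁ ≤ M) (h2M : B₂ ≤ M) :
    B₁ = B₂ := by
  classical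
  by_contra hne
  have hcov : (∀ A ∈ insert M (𝓐.filter (fun B => ¬ B ≤ M)), A ≠ ⊤) ∧
      (∀ g : G, ∃ A ∈ insert M (𝓐.filter (fun B => ¬ B ≤ M)), g ∈ A) := by
    constructor
    · intro A hA
      rw [Finset.mem_insert] at hA
      rcases hA with rfl | hA
      · exact hM
      · exact h.proper A (Finset.mem_filter.1 hA).1
    · intro g
      obtain ⟨A, hA, hgA⟩ := h.cover g
      by_cases hAM : A ≤ M
      · exact ⟨M, Finset.mem_insert_self _ _, hAM hgA⟩
      · exact ⟨A, Finset.mem_insert_of_mem (Finset.mem_filter.2 ⟨hA, hAM⟩), hgA⟩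
  have hle := h.min _ hcov
  have hsub : 𝓐.filter (fun B => ¬ B ≤ M) ⊆ (𝓐.erase B₁).erase B₂ := by
    intro B hB
    rw [Finset.mem_filter] at hB
    rw [Finset.mem_erase, Finset.mem_erase]
    refine ⟨?_, ?_, hB.1⟩
    · rintro rfl; exact hB.2 h2M
    · rintro rfl; exact hB.2 h1M
  have hc1 : ((𝓐.erase B₁).erase B₂).card = 𝓐.card - 1 - 1 := by
    rw [Finset.card_erase_of_mem, Finset.card_erase_of_mem h1]
    rw [Finset.mem_erase]
    exact ⟨fun h' => hne h'.symm, h2⟩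
  have hc2 : 2 ≤ 𝓐.card := by
    have : ({B₁, B₂} : Finset (Subgroup G)) ⊆ 𝓐 := by
      intro B hB
      rw [Finset.mem_insert, Finset.mem_singleton] at hB
      rcases hB with rfl | rfl
      · exact h1
      · exact h2
    have h3 := Finset.card_le_card this
    rwa [Finset.card_pair hne] at h3
  have hc3 := Finset.card_le_card hsub
  have hc4 := Finset.card_insert_le M (𝓐.filter (fun B => ¬ B ≤ M))
  omega

section sylow

variable [Finite G] {p : ℕ} [hp : Fact p.Prime]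

/-- all Sylow `p`-subgroups are commutative if one is -/
theorem sylow_comm (P : Sylow p G) (hab : IsMulCommutative ↥(P : Subgroup G)) (Q : Sylow p G)
    {u v : G} (hu : u ∈ (Q : Subgroup G)) (hv : v ∈ (Q : Subgroup G)) : u * v = v * u := by
  obtain ⟨g, rfl⟩ := MulAction.exists_smul_eq G P Q
  rw [Sylow.coe_subgroup_smul, Subgroup.mem_pointwise_smul_iff_inv_smul_mem] at hu hv
  rw [← map_inv, MulAut.smul_def, MulAut.conj_apply, inv_inv] at hu hv
  have h1 : (⟨_, hu⟩ : (P : Subgroup G)) * ⟨_, hv⟩ = ⟨_, hv⟩ * ⟨_, hu⟩ :=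
    isMulCommutative_iff.1 hab _ _
  have h2 := congrArg Subtype.val h1
  simp only [Subgroup.coe_mul] at h2
  have h3 : g⁻¹ * (u * v) * g = g⁻¹ * (v * u) * g := by
    calc g⁻¹ * (u * v) * g = (g⁻¹ * u * g) * (g⁻¹ * v * g) := by group
      _ = (g⁻¹ * v * g) * (g⁻¹ * u * g) := h2
      _ = g⁻¹ * (v * u) * g := by group
  exact mul_left_cancel (mul_right_cancel h3)

/-- in a nilpotent subgroup, any two `p`-elements lie in a common Sylow `p`-subgroup of `G` -/
theorem exists_sylow_of_nilpotent {B : Subgroup G} (hB : Group.IsNilpotent ↥B) {u v : G}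
    (hu : u ∈ B) (hv : v ∈ B) {k l : ℕ} (hk : orderOf u = p ^ k) (hl : orderOf v = p ^ l) :
    ∃ Q : Sylow p G, u ∈ (Q : Subgroup G) ∧ v ∈ (Q : Subgroup G) := by
  have hn : ∀ (S : Sylow p B), (S : Subgroup B).Normal :=
    fun S => ((Group.isNilpotent_of_finite_tfae (G := B)).out 0 3 rfl rfl).1 hB p hp S
  obtain ⟨S⟩ : Nonempty (Sylow p B) := inferInstance
  have hS := hn S
  have hmem : ∀ (x : G) (hx : x ∈ B) (j : ℕ), orderOf x = p ^ j →
      (⟨x, hx⟩ : B) ∈ (S : Subgroup B) := by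
    intro x hx j hj
    apply mem_sylow_of_mem_normalizer S (k := j)
    · rw [Subgroup.normalizer_eq_top_iff.2 hS]; exact Subgroup.mem_top _
    · rw [← hj]
      exact (Subgroup.orderOf_mk x hx)
  have hPG : IsPGroup p ((S : Subgroup B).map B.subtype) := S.isPGroup'.map _
  obtain ⟨Q, hQ⟩ := hPG.exists_le_sylow
  exact ⟨Q, hQ ⟨⟨u, hu⟩, hmem u hu k hk, rfl⟩, hQ ⟨⟨v, hv⟩, hmem v hv l hl, rfl⟩⟩

/-- a nilpotent subgroup centralizes each of its `p`-elements when Sylow `p`-subgroups are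
abelian -/
theorem commute_of_nilpotent (P : Sylow p G) (hab : IsMulCommutative ↥(P : Subgroup G))
    {B : Subgroup G} (hB : Group.IsNilpotent ↥B) {v : G} (hv : v ∈ B) {l : ℕ}
    (hl : orderOf v = p ^ l) {b : G} (hb : b ∈ B) : b * v = v * b := by
  obtain ⟨u, y, hu, hy, rfl, ⟨k, hk⟩, hy'⟩ := exists_pParts p b
  have hzp : Subgroup.zpowers (u * y) ≤ B := by rw [Subgroup.zpowers_le]; exact hb
  have huB := hzp hu
  have hyB := hzp hy
  have h1 : u * v = v * u := by
    obtain ⟨Q, hQu, hQv⟩ := exists_sylow_of_nilpotent hB huB hv hk hl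
    exact sylow_comm P hab Q hQu hQv
  have h2 : y * v = v * y := by
    apply Cfsg.Agent.Helper21.commute_of_mem_of_nilpotent hB hyB hv
    rw [hl]
    exact (Nat.Coprime.pow_right l ((Nat.Prime.coprime_iff_not_dvd hp.out).2 hy').symm)
  rw [mul_assoc, h2, ← mul_assoc, h1, mul_assoc]

variable {𝓐 : Finset (Subgroup G)}

/-- a nontrivial `p`-element lies in a unique member -/
theorem NMC.unique_member (h : NMC 𝓐) (hZ : Subgroup.center G = ⊥) (P : Sylow p G)
    (hab : IsMulCommutative ↥(P : Subgroup G)) {v : G} (hv1 : v ≠ 1) {l : ℕ}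
    (hl : orderOf v = p ^ l) {B₁ B₂ : Subgroup G} (h1 : B₁ ∈ 𝓐) (h2 : B₂ ∈ 𝓐) (hv1' : v ∈ B₁)
    (hv2 : v ∈ B₂) : B₁ = B₂ := by
  have hM : Subgroup.centralizer ({v} : Set G) ≠ ⊤ := by
    intro htop
    apply hv1
    have : v ∈ Subgroup.center G := by
      rw [Subgroup.mem_center_iff]
      intro g
      have hg : g ∈ Subgroup.centralizer ({v} : Set G) := by rw [htop]; exact Subgroup.mem_top g
      rw [Subgroup.mem_centralizer_iff] at hg
      exact (hg v rfl).symm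
    rw [hZ, Subgroup.mem_bot] at this
    exact this
  refine h.eq_of_le hM h1 h2 ?_ ?_
  · intro b hb
    rw [Subgroup.mem_centralizer_iff]
    rintro _ rfl
    exact (commute_of_nilpotent P hab (h.nil _ h1) hv1' hl hb).symm
  · intro b hb
    rw [Subgroup.mem_centralizer_iff]
    rintro _ rfl
    exact (commute_of_nilpotent P hab (h.nil _ h2) hv2 hl hb).symm

/-- roots of `v` lie in the member of `v` -/
theorem NMC.mem_of_pow_eq (h : NMC 𝓐) (hZ : Subgroup.center G = ⊥) (P : Sylow p G)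
    (hab : IsMulCommutative ↥(P : Subgroup G)) {v : G} (hv1 : v ≠ 1) {l : ℕ}
    (hl : orderOf v = p ^ l) {A : Subgroup G} (hA : A ∈ 𝓐) (hvA : v ∈ A) {x : G} {j : ℕ}
    (hx : x ^ j = v) : x ∈ A := by
  obtain ⟨B, hB, hxB⟩ := h.cover x
  have : v ∈ B := hx ▸ B.pow_mem hxB j
  rw [h.unique_member hZ P hab hv1 hl hA hB hvA this]
  exact hxB

/-- `p'`-elements commuting with `v` lie in the member of `v` -/
theorem NMC.mem_of_commute (h : NMC 𝓐) (hZ : Subgroup.center G = ⊥) (P : Sylow p G)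
    (hab : IsMulCommutative ↥(P : Subgroup G)) {v : G} (hv1 : v ≠ 1) {l : ℕ}
    (hl : orderOf v = p ^ l) {A : Subgroup G} (hA : A ∈ 𝓐) (hvA : v ∈ A) {y : G}
    (hy : Commute v y) (hy' : ¬ p ∣ orderOf y) : y ∈ A := by
  obtain ⟨B, hB, hxB⟩ := h.cover (v * y)
  have hcop : (orderOf v).Coprime (orderOf y) := by
    rw [hl]
    exact (Nat.Coprime.pow_left l ((Nat.Prime.coprime_iff_not_dvd hp.out).2 hy'))
  obtain ⟨h1, h2⟩ := mem_zpowers_mul_of_coprime hy hcop
  have hzp : Subgroup.zpowers (v * y) ≤ B := by rw [Subgroup.zpowers_le]; exact hxB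
  rw [h.unique_member hZ P hab hv1 hl hA hB hvA (hzp h1)]
  exact hzp h2

end sylow

section main

variable [Finite G] {p : ℕ} [hp : Fact p.Prime] {𝓐 : Finset (Subgroup G)}

theorem exists_orderOf_eq (P : Sylow p G) {x : G} (hx : x ∈ (P : Subgroup G)) :
    ∃ k, orderOf x = p ^ k := by
  obtain ⟨k, hk⟩ := P.isPGroup' ⟨x, hx⟩
  have h1 : x ^ p ^ k = 1 := congrArg Subtype.val hk
  obtain ⟨j, -, hj⟩ := (Nat.dvd_prime_pow hp.out).1 (orderOf_dvd_of_pow_eq_one h1)
  exact ⟨j, hj⟩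

theorem mem_smul_sylow_iff {P : Sylow p G} {g x : G} :
    x ∈ ((g • P : Sylow p G) : Subgroup G) ↔ g⁻¹ * x * g ∈ (P : Subgroup G) := by
  rw [Sylow.coe_subgroup_smul, Subgroup.mem_pointwise_smul_iff_inv_smul_mem, ← map_inv,
    MulAut.smul_def, MulAut.conj_apply, inv_inv]

theorem sylow_eq_of_le_normalizer (P P' : Sylow p G)
    (h : (P' : Subgroup G) ≤ Subgroup.normalizer ((P : Subgroup G) : Set G)) : P' = P := by
  have hle : (P' : Subgroup G) ≤ P := by
    intro x hx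
    obtain ⟨k, hk⟩ := exists_orderOf_eq P' hx
    exact mem_sylow_of_mem_normalizer P (h hx) hk
  exact (Sylow.ext (P'.is_maximal' P.isPGroup' hle)).symm

/-- the Sylow subgroups under consideration -/
structure Good (P : Sylow p G) : Prop where
  ab : IsMulCommutative ↥(P : Subgroup G)
  ne_bot : (P : Subgroup G) ≠ ⊥
  not_el : ¬ (Cfsg.IsElementaryAbelian p (P : Subgroup G) ∧ p < Nat.card ↥(P : Subgroup G))

theorem Good.smul {P : Sylow p G} (hP : Good P) (g : G) : Good (g • P) := by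
  have hcard : Nat.card ↥((g • P : Sylow p G) : Subgroup G) = Nat.card ↥(P : Subgroup G) :=
    (Nat.card_congr (Subgroup.equivSMul (MulAut.conj g) (P : Subgroup G)).toEquiv).symm
  refine ⟨?_, ?_, ?_⟩
  · rw [isMulCommutative_iff]
    rintro ⟨a, ha⟩ ⟨b, hb⟩
    apply Subtype.ext
    exact sylow_comm P hP.ab (g • P) ha hb
  · intro hbot
    apply hP.ne_bot
    rw [← Subgroup.card_eq_one, ← hcard, hbot, Subgroup.card_bot]
  · rintro ⟨⟨-, hel⟩, hlt⟩
    apply hP.not_el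
    refine ⟨⟨hP.ab, fun a ha => ?_⟩, hcard ▸ hlt⟩
    have h1 : g * a * g⁻¹ ∈ ((g • P : Sylow p G) : Subgroup G) := by
      rw [mem_smul_sylow_iff]
      have : g⁻¹ * (g * a * g⁻¹) * g = a := by group
      rw [this]; exact ha
    have h2 := hel _ h1
    rw [conj_pow] at h2
    have h3 : a ^ p = g⁻¹ * (g * a ^ p * g⁻¹) * g := by group
    rw [h3, h2]; group

theorem NMC.sylow_le_member (h : NMC 𝓐) (hZ : Subgroup.center G = ⊥) (P : Sylow p G)
    (hP : Good P) : ∃ A ∈ 𝓐, (P : Subgroup G) ≤ A := by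
  have hab := hP.ab
  have comm : ∀ {x y : G}, x ∈ (P : Subgroup G) → y ∈ (P : Subgroup G) → Commute x y :=
    fun hx hy => sylow_comm P hab P hx hy
  by_cases hel : ∀ a ∈ (P : Subgroup G), a ^ p = 1
  · have hcard : Nat.card ↥(P : Subgroup G) ≤ p :=
      not_lt.1 (fun hlt => hP.not_el ⟨⟨hab, hel⟩, hlt⟩)
    obtain ⟨⟨z, hzP⟩, hz1⟩ := (Subgroup.ne_bot_iff_exists_ne_one).1 hP.ne_bot
    have hz1' : z ≠ 1 := fun h1 => hz1 (Subtype.ext h1)
    obtain ⟨A, hA, hzA⟩ := h.cover z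
    refine ⟨A, hA, ?_⟩
    have hzp : Subgroup.zpowers z ≤ (P : Subgroup G) := by rw [Subgroup.zpowers_le]; exact hzP
    have : Subgroup.zpowers z = (P : Subgroup G) := by
      apply Subgroup.eq_of_le_of_card_ge hzp
      rw [Nat.card_zpowers, orderOf_eq_prime (hel z hzP) hz1']
      exact hcard
    rw [← this, Subgroup.zpowers_le]
    exact hzA
  · push Not at hel
    obtain ⟨a, haP, hap⟩ := hel
    obtain ⟨e, he⟩ := exists_orderOf_eq P haP
    have he2 : 2 ≤ e := by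
      by_contra hlt
      have h1 : e ≤ 1 := by omega
      apply hap
      apply orderOf_dvd_iff_pow_eq_one.1
      rw [he]
      calc p ^ e ∣ p ^ 1 := pow_dvd_pow p h1
        _ = p := pow_one p
    obtain ⟨b, hb⟩ : ∃ b, b = a ^ p ^ (e - 2) := ⟨_, rfl⟩
    have hbP : b ∈ (P : Subgroup G) := hb ▸ Subgroup.pow_mem _ haP _
    obtain ⟨z, hz⟩ : ∃ z, z = b ^ p := ⟨_, rfl⟩
    have hz1 : z ≠ 1 := by
      rw [hz, hb, ← pow_mul, ← pow_succ]
      apply pow_ne_one_of_lt_orderOf (pow_pos hp.out.pos _).ne'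
      rw [he]
      apply Nat.pow_lt_pow_right hp.out.one_lt
      omega
    have hzp : z ^ p = 1 := by
      have h1 : p ^ (e - 2) * (p * p) = p ^ e := by
        rw [← mul_assoc, ← pow_succ, ← pow_succ]
        congr 1
        omega
      rw [hz, hb, ← pow_mul, ← pow_mul, h1, ← he, pow_orderOf_eq_one]
    have hzP : z ∈ (P : Subgroup G) := hz ▸ Subgroup.pow_mem _ hbP _
    obtain ⟨lz, hlz⟩ := exists_orderOf_eq P hzP
    obtain ⟨A, hA, hzA⟩ := h.cover z
    have hbA : b ∈ A := h.mem_of_pow_eq hZ P hab hz1 hlz hA hzA hz.symm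
    have hOmega : ∀ t ∈ (P : Subgroup G), t ^ p = 1 → t ∈ A := by
      intro t ht htp
      have h1 : (b * t) ^ p = z := by
        rw [(comm hbP ht).mul_pow, htp, mul_one, hz]
      have h2 := h.mem_of_pow_eq hZ P hab hz1 hlz hA hzA h1
      exact (A.mul_mem_cancel_left hbA).1 h2
    refine ⟨A, hA, fun x hx => ?_⟩
    by_cases hxp : x ^ p = 1
    · exact hOmega x hx hxp
    · obtain ⟨lw, hlw⟩ := exists_orderOf_eq P (Subgroup.pow_mem _ hx p)
      obtain ⟨A', hA', hwA'⟩ := h.cover (x ^ p)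
      have hxA' : x ∈ A' := h.mem_of_pow_eq hZ P hab hxp hlw hA' hwA' rfl
      have hzA' : z ∈ A' := by
        have h1 : (x * z) ^ p = x ^ p := by
          rw [(comm hx hzP).mul_pow, hzp, mul_one]
        have h2 := h.mem_of_pow_eq hZ P hab hxp hlw hA' hwA' h1
        exact (A'.mul_mem_cancel_left hxA').1 h2
      rw [h.unique_member hZ P hab hz1 hlz hA hA' hzA hzA']
      exact hxA'

theorem NMC.centralizer_eq (h : NMC 𝓐) (hZ : Subgroup.center G = ⊥) (P : Sylow p G)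
    (hP : Good P) {A : Subgroup G} (hA : A ∈ 𝓐) (hPA : (P : Subgroup G) ≤ A) :
    Subgroup.centralizer ((P : Subgroup G) : Set G) = A := by
  have hab := hP.ab
  apply le_antisymm
  · intro c hc
    obtain ⟨u, y, hu, hy, rfl, ⟨k, hk⟩, hy'⟩ := exists_pParts p c
    have hzp : Subgroup.zpowers (u * y) ≤ Subgroup.centralizer ((P : Subgroup G) : Set G) := by
      rw [Subgroup.zpowers_le]; exact hc
    have huC := hzp hu
    have hyC := hzp hy
    have huP : u ∈ (P : Subgroup G) :=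
      mem_sylow_of_mem_normalizer P (Subgroup.centralizer_le_normalizer _ huC) hk
    obtain ⟨⟨z, hzP⟩, hz1⟩ := (Subgroup.ne_bot_iff_exists_ne_one).1 hP.ne_bot
    have hz1' : z ≠ 1 := fun h1 => hz1 (Subtype.ext h1)
    obtain ⟨lz, hlz⟩ := exists_orderOf_eq P hzP
    have hcomm : Commute z y := (Subgroup.mem_centralizer_iff.1 hyC) z hzP
    have hyA : y ∈ A := h.mem_of_commute hZ P hab hz1' hlz hA (hPA hzP) hcomm hy'
    exact A.mul_mem (hPA huP) hyA
  · intro b hb
    rw [Subgroup.mem_centralizer_iff]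
    intro x hx
    obtain ⟨l, hl⟩ := exists_orderOf_eq P hx
    exact (commute_of_nilpotent P hab (h.nil A hA) (hPA hx) hl hb).symm

theorem NMC.exists_member (h : NMC 𝓐) (hZ : Subgroup.center G = ⊥) (P : Sylow p G)
    (hP : Good P) : ∃ A ∈ 𝓐, (P : Subgroup G) ≤ A ∧
      Subgroup.centralizer ((P : Subgroup G) : Set G) = A := by
  obtain ⟨A, hA, hPA⟩ := h.sylow_le_member hZ P hP
  exact ⟨A, hA, hPA, h.centralizer_eq hZ P hP hA hPA⟩

theorem NMC.le_normalizer (h : NMC 𝓐) (hZ : Subgroup.center G = ⊥) (P : Sylow p G)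
    (hP : Good P) {M : Subgroup G} (hM : M ≠ ⊤)
    (hCM : Subgroup.centralizer ((P : Subgroup G) : Set G) ≤ M) :
    M ≤ Subgroup.normalizer ((P : Subgroup G) : Set G) := by
  intro m hm
  apply (Sylow.smul_eq_iff_mem_normalizer (g := m) (P := P)).1
  obtain ⟨A, hA, hPA, hCA⟩ := h.exists_member hZ P hP
  obtain ⟨A', hA', hPA', hCA'⟩ := h.exists_member hZ (m • P) (hP.smul m)
  have hA'M : A' ≤ M := by
    rw [← hCA']
    intro c hc
    have h1 : m⁻¹ * c * m ∈ Subgroup.centralizer ((P : Subgroup G) : Set G) := by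
      rw [Subgroup.mem_centralizer_iff]
      intro x hx
      have hx' : m * x * m⁻¹ ∈ ((m • P : Sylow p G) : Subgroup G) := by
        rw [mem_smul_sylow_iff]
        have : m⁻¹ * (m * x * m⁻¹) * m = x := by group
        rw [this]; exact hx
      have h2 := (Subgroup.mem_centralizer_iff.1 hc) _ hx'
      calc x * (m⁻¹ * c * m) = m⁻¹ * ((m * x * m⁻¹) * c) * m := by group
        _ = m⁻¹ * (c * (m * x * m⁻¹)) * m := by rw [h2]
        _ = (m⁻¹ * c * m) * x := by group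
    have h3 := M.mul_mem (M.mul_mem hm (hCM h1)) (M.inv_mem hm)
    have h4 : m * (m⁻¹ * c * m) * m⁻¹ = c := by group
    rwa [h4] at h3
  have hAM : A ≤ M := hCA ▸ hCM
  have hAA' := h.eq_of_le hM hA hA' hAM hA'M
  apply sylow_eq_of_le_normalizer
  calc ((m • P : Sylow p G) : Subgroup G) ≤ A' := hPA'
    _ = A := hAA'.symm
    _ = Subgroup.centralizer ((P : Subgroup G) : Set G) := hCA.symm
    _ ≤ Subgroup.normalizer ((P : Subgroup G) : Set G) := Subgroup.centralizer_le_normalizer _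

theorem NMC.isCoatom_normalizer (h : NMC 𝓐) (hZ : Subgroup.center G = ⊥) (P : Sylow p G)
    (hP : Good P) (hnn : ¬ (P : Subgroup G).Normal) :
    IsCoatom (Subgroup.normalizer ((P : Subgroup G) : Set G)) := by
  refine ⟨fun htop => hnn (Subgroup.normalizer_eq_top_iff.1 htop), fun M hM => ?_⟩
  by_contra hMtop
  have h1 := h.le_normalizer hZ P hP hMtop
    ((Subgroup.centralizer_le_normalizer _).trans hM.le)
  exact absurd hM (not_lt_of_ge h1)

theorem NMC.not_dvd_card_inf (h : NMC 𝓐) (hZ : Subgroup.center G = ⊥) (P : Sylow p G)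
    (hP : Good P) {g : G} (hg : g ∉ Subgroup.normalizer ((P : Subgroup G) : Set G)) :
    ¬ p ∣ Nat.card ↥(Subgroup.normalizer ((P : Subgroup G) : Set G) ⊓
      (Subgroup.normalizer ((P : Subgroup G) : Set G)).map (MulAut.conj g).toMonoidHom) := by
  intro hdvd
  obtain ⟨⟨u, huN⟩, hu⟩ := exists_prime_orderOf_dvd_card' p hdvd
  have huo : orderOf u = p := by rw [← hu]; exact (Subgroup.orderOf_mk u huN).symm
  obtain ⟨hu1, hu2⟩ := Subgroup.mem_inf.1 huN
  have huP : u ∈ (P : Subgroup G) :=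
    mem_sylow_of_mem_normalizer P hu1 (k := 1) (by rw [huo, pow_one])
  obtain ⟨n, hn, hnu⟩ := Subgroup.mem_map.1 hu2
  have hnu' : g * n * g⁻¹ = u := hnu
  have hno : orderOf n = p := by
    have h1 := MulEquiv.orderOf_eq (MulAut.conj g) n
    rw [MulAut.conj_apply, hnu'] at h1
    rw [← h1, huo]
  have hnP : n ∈ (P : Subgroup G) :=
    mem_sylow_of_mem_normalizer P hn (k := 1) (by rw [hno, pow_one])
  have huP' : u ∈ ((g • P : Sylow p G) : Subgroup G) := by
    rw [mem_smul_sylow_iff, ← hnu']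
    have : g⁻¹ * (g * n * g⁻¹) * g = n := by group
    rw [this]; exact hnP
  obtain ⟨A, hA, hPA, hCA⟩ := h.exists_member hZ P hP
  obtain ⟨A', hA', hPA', hCA'⟩ := h.exists_member hZ (g • P) (hP.smul g)
  have hu1' : u ≠ 1 := by
    intro h1
    rw [h1, orderOf_one] at huo
    exact hp.out.one_lt.ne huo
  have hAA' := h.unique_member hZ P hP.ab hu1' (l := 1) (by rw [huo, pow_one]) hA hA'
    (hPA huP) (hPA' huP')
  apply hg
  apply (Sylow.smul_eq_iff_mem_normalizer (g := g) (P := P)).1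
  apply sylow_eq_of_le_normalizer
  calc ((g • P : Sylow p G) : Subgroup G) ≤ A' := hPA'
    _ = A := hAA'.symm
    _ = Subgroup.centralizer ((P : Subgroup G) : Set G) := hCA.symm
    _ ≤ Subgroup.normalizer ((P : Subgroup G) : Set G) := Subgroup.centralizer_le_normalizer _

end main

end Cfsg.Agent.Helper12.NilCover
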