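import Mathlib
import Cfsg.Agent.Lib.Helper3.SmallOrd
import Cfsg.Agent.Lib.Lead.PermTools
import Cfsg.Agent.Lib.Helper27.SylowSieve

/-!
# No simple group of order 5460: the Sylow part (helper12)

`n_13 = 105`, `n_7 = 260`, `C(P_7) = P_7`, `|N(P_7) : P_7| = 3`, `|N(P_13)| = 52` and
`|C(P_13)| ∈ {13, 26}`.
-/

set_option autoImplicit false
set_option linter.unreachableTactic false
set_option linter.unusedTactic false
open Cfsg

namespace Cfsg.Agent.Helper3.SmallOrd

variable {G : Type*} [Group G] [Finite G] [IsSimpleGroup G]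

namespace O5460

/-- the packaged data of a Sylow subgroup of prime order -/
theorem sylow_data (hG : ∃ x y : G, x * y ≠ y * x) (hG2 : 2 < Nat.card G) {p m : ℕ}
    [Fact p.Prime] (hcard : Nat.card G = p * m) (hm : ¬ p ∣ m) (P : Sylow p G) :
    Nat.card (Sylow p G) ∣ m ∧ Nat.card (Sylow p G) % p = 1 ∧
      2 * Nat.card G ∣ (Nat.card (Sylow p G)).factorial ∧
      Nat.card (P : Subgroup G) = p ∧
      Nat.card (Sylow p G) * Nat.card (Subgroup.normalizer ((P : Subgroup G) : Set G)) =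
        Nat.card G ∧
      (Subgroup.centralizer ((P : Subgroup G) : Set G)).relIndex
        (Subgroup.normalizer ((P : Subgroup G) : Set G)) ∣ p - 1 ∧
      (Subgroup.centralizer ((P : Subgroup G) : Set G)).relIndex
        (Subgroup.normalizer ((P : Subgroup G) : Set G)) ≠ 1 ∧
      Nat.card (Subgroup.centralizer ((P : Subgroup G) : Set G)) *
        (Subgroup.centralizer ((P : Subgroup G) : Set G)).relIndex
          (Subgroup.normalizer ((P : Subgroup G) : Set G)) =
        Nat.card (Subgroup.normalizer ((P : Subgroup G) : Set G)) ∧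
      ∀ q, q.Prime → q ∣ Nat.card (Subgroup.centralizer ((P : Subgroup G) : Set G)) →
        ∃ f, f < Nat.card (Sylow p G) ∧ f % q = Nat.card (Sylow p G) % q ∧ f % p = 1 ∧
          (q = 2 → ((Nat.card (Sylow p G) - f) / 2) % 2 = 0) := by
  have hcard' : Nat.card G = p ^ 1 * m := by rw [pow_one]; exact hcard
  obtain ⟨hd, hmod, hn1, hf, hP⟩ := basic hG (p := p) (a := 1) (m := m) Nat.one_pos hcard' hm
  have hP' : ∀ R : Sylow p G, Nat.card (R : Subgroup G) = p := fun R => by
    have := (hP R).1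
    rwa [pow_one] at this
  have hpd : p ∣ Nat.card G := by rw [hcard]; exact Dvd.intro _ rfl
  refine ⟨hd, hmod, hf, hP' P, (hP P).2,
    Cfsg.Agent.Lead.relIndex_centralizer_normalizer_dvd P (hP' P), ?_,
    Cfsg.Agent.Helper27.Ord.card_centralizer_mul_relIndex (P : Subgroup G), ?_⟩
  · intro h1
    exact Cfsg.Agent.S0073.not_normalizer_le_centralizer hG P hpd (Subgroup.relIndex_eq_one.1 h1)
  · intro q hq hqc
    have : Fact q.Prime := ⟨hq⟩
    exact Cfsg.Agent.Helper27.Sieve.exists_fixed_count hG hG2 hpd P hP' hqc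

/-- if a prime `q` divides `|C(P)|` (`|P| = p`), then `p` divides the order of the normalizer of
some Sylow `q`-subgroup of order `q` -/
theorem dvd_card_normalizer_of_dvd_centralizer {p q : ℕ} [Fact p.Prime] [Fact q.Prime]
    (P : Sylow p G) (hP : Nat.card (P : Subgroup G) = p)
    (hQ : ∀ Q : Sylow q G, Nat.card (Q : Subgroup G) = q)
    (hq : q ∣ Nat.card (Subgroup.centralizer ((P : Subgroup G) : Set G))) :
    ∃ Q : Sylow q G, p ∣ Nat.card (Subgroup.normalizer ((Q : Subgroup G) : Set G)) := by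
  have hqp : q.Prime := Fact.out
  obtain ⟨y, hy⟩ := exists_prime_orderOf_dvd_card'
    (G := Subgroup.centralizer ((P : Subgroup G) : Set G)) q hq
  have hyq : orderOf (y : G) = q := by rw [Subgroup.orderOf_coe]; exact hy
  -- a Sylow `q`-subgroup containing `y`
  have hpg : IsPGroup q (Subgroup.zpowers (y : G)) := by
    apply IsPGroup.of_card (n := 1)
    rw [Nat.card_zpowers, hyq, pow_one]
  obtain ⟨Q, hQle⟩ := hpg.exists_le_sylow
  have hQeq : (Q : Subgroup G) = Subgroup.zpowers (y : G) := by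
    symm
    apply Subgroup.eq_of_le_of_card_ge hQle
    rw [hQ Q, Nat.card_zpowers, hyq]
  refine ⟨Q, ?_⟩
  -- `P` normalizes `Q`
  have hle : (P : Subgroup G) ≤ Subgroup.normalizer ((Q : Subgroup G) : Set G) := by
    intro x hx
    have hcomm : Commute x (y : G) := (Subgroup.mem_centralizer_iff.1 y.2) x hx
    rw [hQeq]
    apply Subgroup.centralizer_le_normalizer
    rw [Subgroup.mem_centralizer_iff]
    intro z hz
    obtain ⟨k, rfl⟩ := Subgroup.mem_zpowers_iff.1 hz
    exact ((hcomm.zpow_right k).eq).symm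
  have := Subgroup.card_dvd_of_le hle
  rwa [hP] at this

/-- a subgroup of prime order lies in its centralizer -/
theorem le_centralizer_of_prime_card {p : ℕ} [Fact p.Prime] (P : Subgroup G)
    (hP : Nat.card P = p) : P ≤ Subgroup.centralizer (P : Set G) := by
  haveI : IsCyclic P := isCyclic_of_prime_card hP
  letI : CommGroup P := IsCyclic.commGroup
  intro x hx
  rw [Subgroup.mem_centralizer_iff]
  intro y hy
  have h := mul_comm (⟨y, hy⟩ : P) ⟨x, hx⟩
  exact congrArg Subtype.val h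

/-- the Sylow data of a simple group of order `5460` -/
theorem syl (h : Nat.card G = 5460) :
    ∃ (P7 : Sylow 7 G) (P13 : Sylow 13 G),
      Nat.card (P7 : Subgroup G) = 7 ∧
      Subgroup.centralizer ((P7 : Subgroup G) : Set G) = (P7 : Subgroup G) ∧
      (Subgroup.centralizer ((P7 : Subgroup G) : Set G)).relIndex
        (Subgroup.normalizer ((P7 : Subgroup G) : Set G)) = 3 ∧
      Nat.card (P13 : Subgroup G) = 13 ∧
      ((Subgroup.centralizer ((P13 : Subgroup G) : Set G) = (P13 : Subgroup G) ∧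
        (Subgroup.centralizer ((P13 : Subgroup G) : Set G)).relIndex
          (Subgroup.normalizer ((P13 : Subgroup G) : Set G)) = 4) ∨
       (Subgroup.centralizer ((P13 : Subgroup G) : Set G)).relIndex
          (Subgroup.normalizer ((P13 : Subgroup G) : Set G)) = 2) := by
  have hG : ∃ x y : G, x * y ≠ y * x :=
    Cfsg.Agent.Lead.nonabelian_of_not_prime (by rw [h]; norm_num)
  have hG2 : 2 < Nat.card G := by rw [h]; norm_num
  haveI : Fact (Nat.Prime 5) := ⟨by norm_num⟩
  haveI : Fact (Nat.Prime 7) := ⟨by norm_num⟩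
  haveI : Fact (Nat.Prime 13) := ⟨by norm_num⟩
  obtain ⟨P7⟩ : Nonempty (Sylow 7 G) := inferInstance
  obtain ⟨P13⟩ : Nonempty (Sylow 13 G) := inferInstance
  -- the prime 13
  obtain ⟨hd13, hm13, hf13, hP13, hN13, hk13, hk13', hck13, hq13⟩ :=
    sylow_data hG hG2 (p := 13) (m := 420) (by rw [h]) (by norm_num) P13
  obtain ⟨n13, hn13⟩ : ∃ n, n = Nat.card (Sylow 13 G) := ⟨_, rfl⟩
  obtain ⟨N13, hN13e⟩ : ∃ n, n = Nat.card (Subgroup.normalizer ((P13 : Subgroup G) : Set G)) :=
    ⟨_, rfl⟩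
  obtain ⟨k13, hk13e⟩ : ∃ n, n = (Subgroup.centralizer ((P13 : Subgroup G) : Set G)).relIndex
      (Subgroup.normalizer ((P13 : Subgroup G) : Set G)) := ⟨_, rfl⟩
  obtain ⟨c13, hc13e⟩ : ∃ n, n = Nat.card (Subgroup.centralizer ((P13 : Subgroup G) : Set G)) :=
    ⟨_, rfl⟩
  rw [← hn13, ← hN13e] at hN13
  rw [← hn13] at hd13 hm13 hf13 hq13
  rw [← hk13e] at hk13 hk13' hck13
  rw [← hN13e, ← hc13e] at hck13
  rw [← hc13e] at hq13
  rw [h] at hN13 hf13
  have hn13c : n13 = 14 ∨ n13 = 105 := by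
    have hmem : n13 ∈ Nat.divisors 420 := Nat.mem_divisors.2 ⟨hd13, by norm_num⟩
    simp only [Nat.divisors_ofNat] at hmem
    simp only [Finset.mem_insert, Finset.mem_singleton] at hmem
    have h1 : n13 ≠ 1 := by
      rintro rfl
      norm_num at hf13
    omega
  have hk13le : k13 ≤ 12 := Nat.le_of_dvd (by norm_num) hk13
  have h13 : n13 = 105 := by
    rcases hn13c with rfl | rfl
    · exfalso
      have hN : N13 = 390 := by omega
      subst hN
      have hcases : (k13 = 2 ∧ c13 = 195) ∨ (k13 = 3 ∧ c13 = 130) ∨ (k13 = 6 ∧ c13 = 65) := by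
        interval_cases k13 <;> omega
      rcases hcases with ⟨-, rfl⟩ | ⟨-, rfl⟩ | ⟨-, rfl⟩
      · obtain ⟨f, hf1, hf2, hf3, -⟩ := hq13 3 (by norm_num) (by norm_num)
        omega
      · obtain ⟨f, hf1, hf2, hf3, -⟩ := hq13 5 (by norm_num) (by norm_num)
        omega
      · obtain ⟨f, hf1, hf2, hf3, -⟩ := hq13 5 (by norm_num) (by norm_num)
        omega
    · rfl
  subst h13
  have hN13v : N13 = 52 := by omega
  subst hN13v
  have hkc13 : (k13 = 4 ∧ c13 = 13) ∨ (k13 = 2 ∧ c13 = 26) := by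
    interval_cases k13 <;> omega
  -- the prime 7
  obtain ⟨hd7, hm7, hf7, hP7, hN7, hk7, hk7', hck7, hq7⟩ :=
    sylow_data hG hG2 (p := 7) (m := 780) (by rw [h]) (by norm_num) P7
  obtain ⟨n7, hn7⟩ : ∃ n, n = Nat.card (Sylow 7 G) := ⟨_, rfl⟩
  obtain ⟨N7, hN7e⟩ : ∃ n, n = Nat.card (Subgroup.normalizer ((P7 : Subgroup G) : Set G)) :=
    ⟨_, rfl⟩
  obtain ⟨k7, hk7e⟩ : ∃ n, n = (Subgroup.centralizer ((P7 : Subgroup G) : Set G)).relIndex
      (Subgroup.normalizer ((P7 : Subgroup G) : Set G)) := ⟨_, rfl⟩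
  obtain ⟨c7, hc7e⟩ : ∃ n, n = Nat.card (Subgroup.centralizer ((P7 : Subgroup G) : Set G)) :=
    ⟨_, rfl⟩
  rw [← hn7, ← hN7e] at hN7
  rw [← hn7] at hd7 hm7 hf7 hq7
  rw [← hk7e] at hk7 hk7' hck7
  rw [← hN7e, ← hc7e] at hck7
  have hq7' := hq7
  rw [← hc7e] at hq7
  rw [h] at hN7 hf7
  have hn7c : n7 = 15 ∨ n7 = 78 ∨ n7 = 260 := by
    have hmem : n7 ∈ Nat.divisors 780 := Nat.mem_divisors.2 ⟨hd7, by norm_num⟩
    simp only [Nat.divisors_ofNat] at hmem
    simp only [Finset.mem_insert, Finset.mem_singleton] at hmem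
    have h1 : n7 ≠ 1 := by
      rintro rfl
      norm_num at hf7
    omega
  have hk7le : k7 ≤ 6 := Nat.le_of_dvd (by norm_num) hk7
  have h7 : n7 = 260 := by
    rcases hn7c with rfl | rfl | rfl
    · exfalso
      have hN : N7 = 364 := by omega
      subst hN
      have hcases : k7 = 2 ∧ c7 = 182 := by
        interval_cases k7 <;> omega
      obtain ⟨-, rfl⟩ := hcases
      obtain ⟨f, hf1, hf2, hf3, -⟩ := hq7 13 (by norm_num) (by norm_num)
      omega
    · exfalso
      have hN : N7 = 70 := by omega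
      subst hN
      have hcases : k7 = 2 ∧ c7 = 35 := by
        interval_cases k7 <;> omega
      obtain ⟨-, rfl⟩ := hcases
      -- an element of order `35`
      have hQ5 : ∀ Q : Sylow 5 G, Nat.card (Q : Subgroup G) = 5 := by
        intro Q
        exact (sylow_data hG hG2 (p := 5) (m := 1092) (by rw [h]) (by norm_num) Q).2.2.2.1
      obtain ⟨Q5, hQ5d⟩ := dvd_card_normalizer_of_dvd_centralizer (p := 7) (q := 5) P7 hP7 hQ5
        (by rw [← hc7e]; norm_num)
      obtain ⟨hd5, hm5, hf5, hP5, hN5, hk5, hk5', hck5, hq5⟩ :=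
        sylow_data hG hG2 (p := 5) (m := 1092) (by rw [h]) (by norm_num) Q5
      obtain ⟨n5, hn5⟩ : ∃ n, n = Nat.card (Sylow 5 G) := ⟨_, rfl⟩
      obtain ⟨N5, hN5e⟩ : ∃ n, n = Nat.card (Subgroup.normalizer ((Q5 : Subgroup G) : Set G)) :=
        ⟨_, rfl⟩
      obtain ⟨k5, hk5e⟩ : ∃ n, n = (Subgroup.centralizer ((Q5 : Subgroup G) : Set G)).relIndex
          (Subgroup.normalizer ((Q5 : Subgroup G) : Set G)) := ⟨_, rfl⟩
      obtain ⟨c5, hc5e⟩ : ∃ n, n = Nat.card (Subgroup.centralizer ((Q5 : Subgroup G) : Set G)) :=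
        ⟨_, rfl⟩
      rw [← hn5, ← hN5e] at hN5
      rw [← hn5] at hd5 hm5 hf5 hq5
      rw [← hk5e] at hk5 hk5' hck5
      rw [← hN5e, ← hc5e] at hck5
      rw [← hc5e] at hq5
      rw [← hN5e] at hQ5d
      rw [h] at hN5 hf5
      have hk5le : k5 ≤ 4 := Nat.le_of_dvd (by norm_num) hk5
      have hn5c : n5 = 26 ∨ n5 = 156 := by
        have hmem : n5 ∈ Nat.divisors 1092 := Nat.mem_divisors.2 ⟨hd5, by norm_num⟩
        simp only [Nat.divisors_ofNat] at hmem
        simp only [Finset.mem_insert, Finset.mem_singleton] at hmem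
        have h1 : n5 ≠ 1 := by
          rintro rfl
          norm_num at hf5
        have h6 : n5 ≠ 6 := by
          rintro rfl
          norm_num at hf5
        obtain ⟨j, hj⟩ := hQ5d
        rcases hmem with rfl | rfl | rfl | rfl | rfl | rfl | rfl | rfl | rfl | rfl | rfl | rfl | rfl | rfl | rfl | rfl | rfl | rfl | rfl | rfl | rfl | rfl | rfl | rfl <;> omega
      rcases hn5c with rfl | rfl
      · have hN : N5 = 210 := by omega
        subst hN
        have hcases : k5 = 2 ∧ c5 = 105 := by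
          interval_cases k5 <;> omega
        obtain ⟨-, rfl⟩ := hcases
        obtain ⟨f, hf1, hf2, hf3, -⟩ := hq5 7 (by norm_num) (by norm_num)
        omega
      · have hN : N5 = 35 := by omega
        subst hN
        interval_cases k5 <;> omega
    · rfl
  subst h7
  have hN7v : N7 = 21 := by omega
  subst hN7v
  have hkc7 : k7 = 3 ∧ c7 = 7 := by
    interval_cases k7 <;> omega
  obtain ⟨hk7v, hc7v⟩ := hkc7
  have hC7 : Subgroup.centralizer ((P7 : Subgroup G) : Set G) = (P7 : Subgroup G) := by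
    symm
    apply Subgroup.eq_of_le_of_card_ge (le_centralizer_of_prime_card (P7 : Subgroup G) hP7)
    rw [← hc7e, hc7v, hP7]
  refine ⟨P7, P13, hP7, hC7, by rw [← hk7e, hk7v], hP13, ?_⟩
  rcases hkc13 with ⟨hk, hc⟩ | ⟨hk, hc⟩
  · left
    refine ⟨?_, by rw [← hk13e, hk]⟩
    symm
    apply Subgroup.eq_of_le_of_card_ge (le_centralizer_of_prime_card (P13 : Subgroup G) hP13)
    rw [← hc13e, hc, hP13]
  · right
    rw [← hk13e, hk]

end O5460

end Cfsg.Agent.Helper3.SmallOrd
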