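import Mathlib
import Cfsg.Agent.S0493

/-!
# Groups of order less than `60` are solvable
-/

set_option autoImplicit false

namespace Cfsg.Agent.Helper12.Small60

universe u

theorem exists_normal_of_not_simple {H : Type u} [Group H] [Nontrivial H]
    (h : ¬ IsSimpleGroup H) : ∃ N : Subgroup H, N.Normal ∧ N ≠ ⊥ ∧ N ≠ ⊤ := by
  by_contra hcon
  push Not at hcon
  apply h
  refine { toNontrivial := inferInstance, eq_bot_or_eq_top_of_normal := ?_ }
  intro N hN
  by_cases hb : N = ⊥
  · exact Or.inl hb
  · exact Or.inr (hcon N hN hb)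

theorem card_lt_of_ne_top {H : Type u} [Group H] [Finite H] (N : Subgroup H) (h : N ≠ ⊤) :
    Nat.card N < Nat.card H := by
  have hle := Subgroup.card_le_card_group N
  have hne : Nat.card N ≠ Nat.card H := fun he => h ((Subgroup.card_eq_iff_eq_top N).mp he)
  omega

theorem card_quot_lt_of_ne_bot {H : Type u} [Group H] [Finite H] (N : Subgroup H) [N.Normal]
    (h : N ≠ ⊥) : Nat.card (H ⧸ N) < Nat.card H := by
  have h1 := Subgroup.card_mul_index N
  have h2 : 1 < Nat.card N := (Subgroup.one_lt_card_iff_ne_bot N).mpr h
  rw [← Subgroup.index_eq_card]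
  have hpos : 0 < N.index := Nat.pos_of_ne_zero (Subgroup.index_ne_zero_of_finite)
  nlinarith

theorem isSolvable_of_normal {H : Type u} [Group H] (N : Subgroup H) [N.Normal]
    (h1 : Group.IsSolvable N) (h2 : Group.IsSolvable (H ⧸ N)) : Group.IsSolvable H :=
  (Group.isSolvable_iff_subgroup_quotient N).mpr ⟨h1, h2⟩

theorem isSolvable_of_card_lt (n : ℕ) : ∀ (H : Type u) [Group H] [Finite H],
    Nat.card H = n → n < 60 → Group.IsSolvable H := by
  induction n using Nat.strong_induction_on with
  | _ n ih =>
  intro H _ _ hn hlt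
  by_cases hsub : Subsingleton H
  · exact inferInstance
  · haveI : Nontrivial H := not_subsingleton_iff_nontrivial.mp hsub
    by_cases hs : IsSimpleGroup H
    · by_cases hc : IsCyclic H
      · exact Group.isSolvable_of_comm (fun a b => (IsCyclic.commGroup (α := H)).mul_comm a b)
      · have := Cfsg.Agent.S0493.result (G := H) hc (by omega)
        omega
    · obtain ⟨N, hN, hb, ht⟩ := exists_normal_of_not_simple hs
      haveI := hN
      have c1 := card_lt_of_ne_top N ht
      have c2 := card_quot_lt_of_ne_bot N hb
      exact isSolvable_of_normal N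
        (ih (Nat.card N) (by omega) N rfl (by omega))
        (ih (Nat.card (H ⧸ N)) (by omega) (H ⧸ N) rfl (by omega))

/-- a nonsolvable group of order `60` is simple. -/
theorem isSimpleGroup_of_card_sixty {H : Type u} [Group H] [Finite H] (h60 : Nat.card H = 60)
    (hns : ¬ Group.IsSolvable H) : IsSimpleGroup H := by
  haveI : Nontrivial H := by
    rw [← Finite.one_lt_card_iff_nontrivial]
    omega
  by_contra hs
  obtain ⟨N, hN, hb, ht⟩ := exists_normal_of_not_simple hs
  haveI := hN
  have c1 := card_lt_of_ne_top N ht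
  have c2 := card_quot_lt_of_ne_bot N hb
  exact hns (isSolvable_of_normal N
    (isSolvable_of_card_lt _ N rfl (by omega))
    (isSolvable_of_card_lt _ (H ⧸ N) rfl (by omega)))

end Cfsg.Agent.Helper12.Small60
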