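import Mathlib
import Cfsg.Agent.Lib.Helper10.TMDefs

/-!
# S2930 piece IMP3MEM: the three-cycles `t_x` and the elements `bb ζ x y w` preserve the relation `Rz ζ`
-/

set_option autoImplicit false

namespace Cfsg.Agent.Helper10.TM

open Equiv Equiv.Perm Cfsg.Agent.Helper11.AutAlt
open scoped Pointwise

variable {n : ℕ}

theorem imp3mem_z3 {ζ : Perm (Fin n)} (hζ : ζ ^ 3 = 1) (x : Fin n) : ζ (ζ (ζ x)) = x := by
  have h := congrArg (fun g : Perm (Fin n) => g x) hζ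
  simpa [pow_succ, Perm.mul_apply] using h

theorem imp3mem_ne2 {ζ : Perm (Fin n)} (hfp : ∀ x, ζ x ≠ x) (x : Fin n) : ζ (ζ x) ≠ ζ x := hfp (ζ x)

theorem imp3mem_ne3 {ζ : Perm (Fin n)} (hζ : ζ ^ 3 = 1) (hfp : ∀ x, ζ x ≠ x) (x : Fin n) :
    ζ (ζ x) ≠ x := by
  intro h
  have h1 := congrArg ζ h
  rw [imp3mem_z3 hζ] at h1
  exact hfp x h1.symm

/-- a permutation commuting with `ζ` preserves `Rz ζ` -/
theorem imp3mem_commute (g ζ : Perm (Fin n)) (h : g * ζ = ζ * g) : g ∈ RStabP (Rz ζ) := by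
  have hc : ∀ v, g (ζ v) = ζ (g v) := fun v => by
    have := congrArg (fun k : Perm (Fin n) => k v) h
    simpa [Perm.mul_apply] using this
  rw [mem_RStabP]
  intro x y
  unfold Rz
  constructor
  · rintro (rfl | rfl | rfl)
    · exact Or.inl rfl
    · exact Or.inr (Or.inl (hc _))
    · exact Or.inr (Or.inr (by rw [hc, hc]))
  · rintro (h1 | h1 | h1)
    · exact Or.inl (g.injective h1)
    · exact Or.inr (Or.inl (g.injective (by rw [h1, hc])))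
    · exact Or.inr (Or.inr (g.injective (by rw [h1, hc, hc])))

/-- the symmetric form of `¬ Rz` -/
theorem imp3mem_not_Rz {ζ : Perm (Fin n)} (hζ : ζ ^ 3 = 1) {x y : Fin n} (h : ¬ Rz ζ x y) :
    y ≠ x ∧ y ≠ ζ x ∧ y ≠ ζ (ζ x) ∧ x ≠ ζ y ∧ x ≠ ζ (ζ y) ∧ ζ y ≠ ζ x ∧ ζ (ζ y) ≠ ζ (ζ x) ∧
      ζ y ≠ ζ (ζ x) ∧ ζ (ζ y) ≠ ζ x := by
  unfold Rz at h
  push Not at h
  obtain ⟨h1, h2, h3⟩ := h
  have h4 : x ≠ ζ y := by
    intro e
    apply h3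
    rw [e, imp3mem_z3 hζ]
  have h5 : x ≠ ζ (ζ y) := by
    intro e
    apply h2
    rw [e, imp3mem_z3 hζ]
  refine ⟨h1, h2, h3, h4, h5, ?_, ?_, ?_, ?_⟩
  · intro e
    exact h1 (ζ.injective e)
  · intro e
    exact h1 (ζ.injective (ζ.injective e))
  · intro e
    exact h2 (ζ.injective e)
  · intro e
    exact h4 (ζ.injective e).symm

theorem imp3mem_c3_disjoint {a b c a' b' c' : Fin n} (hab : a ≠ b) (hbc : b ≠ c) (hab' : a' ≠ b')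
    (hbc' : b' ≠ c') (haa : a ≠ a') (hab1 : a ≠ b') (hac : a ≠ c') (hba : b ≠ a') (hbb : b ≠ b') (hbc1 : b ≠ c')
    (hca : c ≠ a') (hcb : c ≠ b') (hcc : c ≠ c') : (c3 a b c).Disjoint (c3 a' b' c') := by
  unfold c3
  apply Disjoint.mul_left
  · apply Disjoint.mul_right
    · exact disjoint_swap_swap (by simp [hab, haa, hab1, hba, hbb, hab'])
    · exact disjoint_swap_swap (by simp [hab, hab1, hac, hbb, hbc1, hbc'])
  · apply Disjoint.mul_right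
    · exact disjoint_swap_swap (by simp [hbc, hba, hbb, hca, hcb, hab'])
    · exact disjoint_swap_swap (by simp [hbc, hbb, hbc1, hcb, hcc, hbc'])

/-- IMP3MEM -/
theorem tz_mem (ζ : Perm (Fin n)) (hζ : ζ ^ 3 = 1) (hfp : ∀ x, ζ x ≠ x) (x : Fin n) :
    c3 x (ζ x) (ζ (ζ x)) ∈ RStabP (Rz ζ) ⊓ alternatingGroup (Fin n) := by
  have h1 : x ≠ ζ x := (hfp x).symm
  have h2 : x ≠ ζ (ζ x) := (imp3mem_ne3 hζ hfp x).symm
  have h3 : ζ x ≠ ζ (ζ x) := (imp3mem_ne2 hfp x).symm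
  refine ⟨?_, (c3_isThreeCycle h1 h2 h3).mem_alternatingGroup⟩
  apply imp3mem_commute
  have hc : ζ * c3 x (ζ x) (ζ (ζ x)) * ζ⁻¹ = c3 x (ζ x) (ζ (ζ x)) := by
    rw [conj_c3, imp3mem_z3 hζ]
    exact (c3_rot h1 h2 h3).symm
  calc c3 x (ζ x) (ζ (ζ x)) * ζ = (ζ * c3 x (ζ x) (ζ (ζ x)) * ζ⁻¹) * ζ := by rw [hc]
    _ = ζ * c3 x (ζ x) (ζ (ζ x)) := by group

theorem bb_mem (ζ : Perm (Fin n)) (hζ : ζ ^ 3 = 1) (hfp : ∀ x, ζ x ≠ x) (x y w : Fin n)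
    (hxy : ¬ Rz ζ x y) (hxw : ¬ Rz ζ x w) (hyw : ¬ Rz ζ y w) :
    bb ζ x y w ∈ RStabP (Rz ζ) ⊓ alternatingGroup (Fin n) := by
  obtain ⟨a1, a2, a3, a4, a5, a6, a7, a8, a9⟩ := imp3mem_not_Rz hζ hxy
  obtain ⟨b1, b2, b3, b4, b5, b6, b7, b8, b9⟩ := imp3mem_not_Rz hζ hxw
  obtain ⟨c1, c2, c3', c4, c5, c6, c7, c8, c9⟩ := imp3mem_not_Rz hζ hyw
  have t1 : (c3 x y w).IsThreeCycle := c3_isThreeCycle a1.symm b1.symm c1.symm
  have t2 : (c3 (ζ x) (ζ y) (ζ w)).IsThreeCycle := c3_isThreeCycle a6.symm b6.symm c6.symm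
  have t3 : (c3 (ζ (ζ x)) (ζ (ζ y)) (ζ (ζ w))).IsThreeCycle := c3_isThreeCycle a7.symm b7.symm c7.symm
  have d12 : (c3 x y w).Disjoint (c3 (ζ x) (ζ y) (ζ w)) :=
    imp3mem_c3_disjoint a1.symm c1.symm a6.symm c6.symm (hfp x).symm a4 b4 a2 (hfp y).symm c4 b2 c2
      (hfp w).symm
  have d13 : (c3 x y w).Disjoint (c3 (ζ (ζ x)) (ζ (ζ y)) (ζ (ζ w))) :=
    imp3mem_c3_disjoint a1.symm c1.symm a7.symm c7.symm (imp3mem_ne3 hζ hfp x).symm a5 b5 a3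
      (imp3mem_ne3 hζ hfp y).symm c5 b3 c3' (imp3mem_ne3 hζ hfp w).symm
  refine ⟨?_, ?_⟩
  · apply imp3mem_commute
    have hc : ζ * bb ζ x y w * ζ⁻¹ = bb ζ x y w := by
      unfold bb
      have e : ζ * (c3 x y w * c3 (ζ x) (ζ y) (ζ w) * c3 (ζ (ζ x)) (ζ (ζ y)) (ζ (ζ w))) * ζ⁻¹ =
          (ζ * c3 x y w * ζ⁻¹) * (ζ * c3 (ζ x) (ζ y) (ζ w) * ζ⁻¹) *
            (ζ * c3 (ζ (ζ x)) (ζ (ζ y)) (ζ (ζ w)) * ζ⁻¹) := by group
      rw [e, conj_c3, conj_c3, conj_c3, imp3mem_z3 hζ, imp3mem_z3 hζ, imp3mem_z3 hζ]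
      have e13 := d13.commute.eq
      have e12 := d12.commute.eq
      generalize c3 x y w = A at e12 e13 ⊢
      generalize c3 (ζ x) (ζ y) (ζ w) = B at e12 e13 ⊢
      generalize c3 (ζ (ζ x)) (ζ (ζ y)) (ζ (ζ w)) = C at e12 e13 ⊢
      calc B * C * A = B * (C * A) := mul_assoc _ _ _
        _ = B * (A * C) := by rw [e13]
        _ = (B * A) * C := (mul_assoc _ _ _).symm
        _ = A * B * C := by rw [e12]
    calc bb ζ x y w * ζ = (ζ * bb ζ x y w * ζ⁻¹) * ζ := by rw [hc]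
      _ = ζ * bb ζ x y w := by group
  · unfold bb
    exact mul_mem (mul_mem t1.mem_alternatingGroup t2.mem_alternatingGroup) t3.mem_alternatingGroup

theorem bb_apply_self (ζ : Perm (Fin n)) (hζ : ζ ^ 3 = 1) (hfp : ∀ x, ζ x ≠ x) (x y w : Fin n)
    (hxy : ¬ Rz ζ x y) (hxw : ¬ Rz ζ x w) (hyw : ¬ Rz ζ y w) : bb ζ x y w x = y := by
  obtain ⟨a1, a2, a3, a4, a5, a6, a7, a8, a9⟩ := imp3mem_not_Rz hζ hxy
  obtain ⟨b1, b2, b3, b4, b5, b6, b7, b8, b9⟩ := imp3mem_not_Rz hζ hxw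
  have h1 : x ≠ ζ x := (hfp x).symm
  have h2 : x ≠ ζ (ζ x) := (imp3mem_ne3 hζ hfp x).symm
  unfold bb c3
  rw [Perm.mul_apply, Perm.mul_apply, Perm.mul_apply, Perm.mul_apply, Perm.mul_apply,
    swap_apply_of_ne_of_ne a5 b5, swap_apply_of_ne_of_ne h2 a5,
    swap_apply_of_ne_of_ne a4 b4, swap_apply_of_ne_of_ne h1 a4,
    swap_apply_of_ne_of_ne a1.symm b1.symm, swap_apply_left]

theorem bb_apply_of_not (ζ : Perm (Fin n)) (hζ : ζ ^ 3 = 1) (x y w v : Fin n)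
    (hx : ¬ Rz ζ x v) (hy : ¬ Rz ζ y v) (hw : ¬ Rz ζ w v) : bb ζ x y w v = v := by
  unfold Rz at hx hy hw
  push Not at hx hy hw
  obtain ⟨x1, x2, x3⟩ := hx
  obtain ⟨y1, y2, y3⟩ := hy
  obtain ⟨w1, w2, w3⟩ := hw
  unfold bb c3
  rw [Perm.mul_apply, Perm.mul_apply, Perm.mul_apply, Perm.mul_apply, Perm.mul_apply,
    swap_apply_of_ne_of_ne y3 w3, swap_apply_of_ne_of_ne x3 y3,
    swap_apply_of_ne_of_ne y2 w2, swap_apply_of_ne_of_ne x2 y2,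
    swap_apply_of_ne_of_ne y1 w1, swap_apply_of_ne_of_ne x1 y1]

end Cfsg.Agent.Helper10.TM
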