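import Mathlib
import Cfsg.Agent.Lib.Helper10.TMDefs
import Cfsg.Agent.Lib.Helper12.TMIMP3MEM

/-!
# S2930 piece IMP3TRANS: a group containing the `t_x` and the `bb ζ x y w` is transitive
-/

set_option autoImplicit false

namespace Cfsg.Agent.Helper10.TM

open Equiv Equiv.Perm Cfsg.Agent.Helper11.AutAlt
open scoped Pointwise

variable {n : ℕ}

theorem imp3trans_tz_apply (ζ : Perm (Fin n)) (hζ : ζ ^ 3 = 1) (hfp : ∀ x, ζ x ≠ x) (x : Fin n) :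
    c3 x (ζ x) (ζ (ζ x)) x = ζ x := by
  have h1 : x ≠ ζ x := (hfp x).symm
  have h2 : x ≠ ζ (ζ x) := (imp3mem_ne3 hζ hfp x).symm
  unfold c3
  rw [Perm.mul_apply, swap_apply_of_ne_of_ne h1 h2, swap_apply_left]

theorem imp3trans_tz_apply' (ζ : Perm (Fin n)) (hζ : ζ ^ 3 = 1) (hfp : ∀ x, ζ x ≠ x) (x : Fin n) :
    c3 x (ζ x) (ζ (ζ x)) (ζ x) = ζ (ζ x) := by
  have h2 : ζ (ζ x) ≠ x := imp3mem_ne3 hζ hfp x
  have h3 : ζ (ζ x) ≠ ζ x := imp3mem_ne2 hfp x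
  unfold c3
  rw [Perm.mul_apply, swap_apply_left, swap_apply_of_ne_of_ne h2 h3]

/-- IMP3TRANS -/
theorem imp3_trans (ζ : Perm (Fin n)) (hζ : ζ ^ 3 = 1) (hfp : ∀ x, ζ x ≠ x) (hn : 9 ≤ n)
    (K : Subgroup (Perm (Fin n))) (hT : ∀ x, c3 x (ζ x) (ζ (ζ x)) ∈ K)
    (hB : ∀ x y w, ¬ Rz ζ x y → ¬ Rz ζ x w → ¬ Rz ζ y w → bb ζ x y w ∈ K) :
    MulAction.IsPretransitive ↥K (Fin n) := by
  constructor
  intro x y
  by_cases h : Rz ζ x y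
  · rcases h with rfl | rfl | rfl
    · exact ⟨1, one_smul _ _⟩
    · exact ⟨⟨c3 x (ζ x) (ζ (ζ x)), hT x⟩, imp3trans_tz_apply ζ hζ hfp x⟩
    · refine ⟨⟨c3 x (ζ x) (ζ (ζ x)) * c3 x (ζ x) (ζ (ζ x)), mul_mem (hT x) (hT x)⟩, ?_⟩
      show (c3 x (ζ x) (ζ (ζ x)) * c3 x (ζ x) (ζ (ζ x))) x = ζ (ζ x)
      rw [Perm.mul_apply, imp3trans_tz_apply ζ hζ hfp x, imp3trans_tz_apply' ζ hζ hfp x]
  · obtain ⟨w, hw⟩ : ∃ w : Fin n, w ∉ ({x, ζ x, ζ (ζ x), y, ζ y, ζ (ζ y)} : Finset (Fin n)) := by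
      by_contra hcon
      push Not at hcon
      have h1 : ({x, ζ x, ζ (ζ x), y, ζ y, ζ (ζ y)} : Finset (Fin n)) = Finset.univ :=
        Finset.eq_univ_iff_forall.2 hcon
      have h2 := Finset.card_le_six (a := x) (b := ζ x) (c := ζ (ζ x)) (d := y) (e := ζ y) (f := ζ (ζ y))
      rw [h1, Finset.card_univ, Fintype.card_fin] at h2
      omega
    simp only [Finset.mem_insert, Finset.mem_singleton, not_or] at hw
    obtain ⟨w1, w2, w3, w4, w5, w6⟩ := hw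
    have hxw : ¬ Rz ζ x w := by
      unfold Rz
      push Not
      exact ⟨w1, w2, w3⟩
    have hyw : ¬ Rz ζ y w := by
      unfold Rz
      push Not
      exact ⟨w4, w5, w6⟩
    exact ⟨⟨bb ζ x y w, hB x y w h hxw hyw⟩, bb_apply_self ζ hζ hfp x y w h hxw hyw⟩

end Cfsg.Agent.Helper10.TM
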