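import Mathlib
import Cfsg.Prelude.Def_OddOrder
import Cfsg.Prelude.Def_OddOrderLocal
import Cfsg.Agent.S0126
import Cfsg.Agent.Lib.Helper19.PGroupBasic

/-!
# Bender–Glauberman Section 11, part D1   (helper12)

General `p`-group lemmas used for BG Lemma 11.5 (the Sylow `p`-subgroups of an exceptional
maximal subgroup are abelian).
-/

set_option autoImplicit false
set_option linter.unusedSectionVars false

namespace Cfsg.Agent.Helper12.BG11

open Cfsg Subgroup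

/-- **Centralizer of a self-centralizing `E_{p²}` cut by a maximal subgroup.**  `R` a `p`-group,
`p` odd, `E` elementary abelian of order `p ^ 2` containing every element of order `p` of its
centralizer, `T` a normal subgroup of index `p` not containing `E`: then `C_R(E)` is abelian. -/
theorem comm_centralizer_of_index_prime {R : Type*} [Group R] [Finite R] {p : ℕ} [Fact p.Prime]
    (hp : p ≠ 2) (hR : IsPGroup p R) (E : Subgroup R)
    (hEc : ∀ a ∈ E, ∀ b ∈ E, a * b = b * a) (hEcard : Nat.card E = p ^ 2)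
    (hmax : ∀ x ∈ centralizer (E : Set R), x ^ p = 1 → x ∈ E)
    (T : Subgroup R) [T.Normal] (hT : T.index = p) (hET : ¬ E ≤ T) :
    ∀ x ∈ centralizer (E : Set R), ∀ y ∈ centralizer (E : Set R), x * y = y * x := by
  classical
  have hpp : p.Prime := Fact.out
  obtain ⟨e, heE, heT⟩ := SetLike.not_le_iff_exists.mp hET
  have heC : e ∈ centralizer (E : Set R) := by
    rw [mem_centralizer_iff]
    intro a ha
    exact hEc a ha e heE
  obtain ⟨C₁, hC₁⟩ : ∃ C₁ : Subgroup R, C₁ = centralizer (E : Set R) ⊓ T := ⟨_, rfl⟩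
  have hE₁ : Nat.card ↥(E ⊓ T) ≤ p := by
    have hlt : E ⊓ T < E := lt_of_le_of_ne inf_le_left (fun h => hET (h ▸ inf_le_right))
    have h1 := Cfsg.Agent.Helper19.mul_card_le_of_lt hR hlt
    rw [hEcard, sq] at h1
    exact Nat.le_of_mul_le_mul_left h1 hpp.pos
  have hC₁z : ∀ x ∈ C₁, x ^ p = 1 → x ∈ E ⊓ T := by
    intro x hx hxp
    rw [hC₁] at hx
    exact ⟨hmax x hx.1 hxp, hx.2⟩
  have hcyc : IsCyclic C₁ := by
    by_contra hncyc
    obtain ⟨A, -, ⟨-, hAe⟩, hAcard⟩ := Cfsg.Agent.S0126.result hp (hR.to_subgroup C₁) hncyc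
    have hle : A.map C₁.subtype ≤ E ⊓ T := by
      rintro _ ⟨a, ha, rfl⟩
      apply hC₁z _ a.2
      have := congrArg Subtype.val (hAe a ha)
      simpa using this
    have h1 := Subgroup.card_le_of_le hle
    rw [Subgroup.card_map_of_injective (Subgroup.subtype_injective _), hAcard] at h1
    have h2 : p < p ^ 2 := by
      calc p = p ^ 1 := (pow_one p).symm
        _ < p ^ 2 := Nat.pow_lt_pow_right hpp.one_lt (by norm_num)
    omega
  have hq : Nat.card (R ⧸ T) = p := by rw [← Subgroup.index_eq_card]; exact hT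
  have hne : ((e : R) : R ⧸ T) ≠ 1 := fun h => heT ((QuotientGroup.eq_one_iff e).mp h)
  have hdec : ∀ x ∈ centralizer (E : Set R), ∃ k : ℤ, ∃ c ∈ C₁, x = e ^ k * c := by
    intro x hx
    have hmem : ((x : R) : R ⧸ T) ∈ Subgroup.zpowers ((e : R) : R ⧸ T) :=
      mem_zpowers_of_prime_card hq hne
    obtain ⟨k, hk⟩ := Subgroup.mem_zpowers_iff.mp hmem
    have hk' : ((e ^ k : R) : R ⧸ T) = ((x : R) : R ⧸ T) := by
      rw [QuotientGroup.mk_zpow]; exact hk
    have h1 : (e ^ k)⁻¹ * x ∈ T := QuotientGroup.eq.mp hk'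
    refine ⟨k, (e ^ k)⁻¹ * x, ?_, by group⟩
    rw [hC₁]
    exact ⟨Subgroup.mul_mem _ (Subgroup.inv_mem _ (Subgroup.zpow_mem _ heC k)) hx, h1⟩
  have hC₁comm : ∀ c ∈ C₁, ∀ c' ∈ C₁, Commute c c' := by
    intro c hc c' hc'
    letI := IsCyclic.commGroup (α := C₁)
    have := mul_comm (⟨c, hc⟩ : C₁) ⟨c', hc'⟩
    exact congrArg Subtype.val this
  have heC₁ : ∀ c ∈ C₁, Commute e c := by
    intro c hc
    rw [hC₁] at hc
    exact (mem_centralizer_iff.mp hc.1 e heE)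
  intro x hx y hy
  obtain ⟨k, c, hc, rfl⟩ := hdec x hx
  obtain ⟨l, c', hc', rfl⟩ := hdec y hy
  have h1 : Commute (e ^ k) (e ^ l) := (Commute.refl e).zpow_zpow k l
  have h2 : Commute (e ^ k) c' := (heC₁ c' hc').zpow_left k
  have h3 : Commute c (e ^ l) := ((heC₁ c hc).zpow_left l).symm
  have h4 : Commute c c' := hC₁comm c hc c' hc'
  exact ((h1.mul_right h2).mul_left (h3.mul_right h4)).eq

/-- **Centralizers in a central product `S₁ ∘ S₂`**, `S₁` of order `p ^ 3`, `S₂` abelian containing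
the centre of `S₁`: the centralizer of a subgroup `A ≰ S₂` is abelian. -/
theorem comm_centralizer_of_central_product {G : Type*} [Group G] {p : ℕ} [Fact p.Prime]
    (S₁ S₂ A : Subgroup G) (hcomm : ∀ a ∈ S₁, ∀ b ∈ S₂, a * b = b * a)
    (hS₂ : ∀ a ∈ S₂, ∀ b ∈ S₂, a * b = b * a) (hS₁ : Nat.card S₁ = p ^ 3)
    (hZ : S₁ ⊓ centralizer (S₁ : Set G) ≤ S₂)
    (hA : A ≤ S₁ ⊔ S₂) (hAS₂ : ¬ A ≤ S₂) :
    ∀ x ∈ (S₁ ⊔ S₂) ⊓ centralizer (A : Set G), ∀ y ∈ (S₁ ⊔ S₂) ⊓ centralizer (A : Set G),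
      x * y = y * x := by
  classical
  have hpp : p.Prime := Fact.out
  haveI : Finite S₁ := Nat.finite_of_card_ne_zero (by rw [hS₁]; exact pow_ne_zero _ hpp.ne_zero)
  have hnorm : S₁ ≤ normalizer (S₂ : Set G) := by
    intro a ha
    rw [mem_normalizer_iff]
    intro b
    constructor
    · intro hb
      have : a * b * a⁻¹ = b := by rw [hcomm a ha b hb]; group
      rw [this]; exact hb
    · intro hb
      have h1 := hcomm a ha _ hb
      have : b = a * b * a⁻¹ := by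
        have h2 : a * (a * b * a⁻¹) = a * b := by rw [h1]; group
        exact (mul_left_cancel h2).symm
      rw [this]; exact hb
  have hdec : ∀ x ∈ S₁ ⊔ S₂, ∃ a ∈ S₁, ∃ b ∈ S₂, x = a * b := by
    intro x hx
    have h1 : x ∈ ((S₁ ⊔ S₂ : Subgroup G) : Set G) := hx
    rw [Subgroup.coe_mul_of_left_le_normalizer_right S₁ S₂ hnorm] at h1
    obtain ⟨a, ha, b, hb, hab⟩ := Set.mem_mul.mp h1
    exact ⟨a, ha, b, hb, hab.symm⟩
  -- an element of `A` with non-central `S₁`-component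
  obtain ⟨u, huA, huS₂⟩ := SetLike.not_le_iff_exists.mp hAS₂
  obtain ⟨u₁, hu₁, u₂, hu₂, rfl⟩ := hdec u (hA huA)
  have hu₁c : u₁ ∉ centralizer (S₁ : Set G) := by
    intro h
    exact huS₂ (S₂.mul_mem (hZ ⟨hu₁, h⟩) hu₂)
  obtain ⟨C₁, hC₁⟩ : ∃ C₁ : Subgroup G, C₁ = S₁ ⊓ centralizer ({u₁} : Set G) := ⟨_, rfl⟩
  have hC₁S : C₁ ≤ S₁ := hC₁ ▸ inf_le_left
  have hC₁ne : C₁ ≠ S₁ := by
    intro h
    apply hu₁c
    rw [mem_centralizer_iff]
    intro s hs
    have : s ∈ C₁ := h ▸ hs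
    rw [hC₁] at this
    exact ((mem_centralizer_iff.mp this.2) u₁ rfl).symm
  have hC₁comm : ∀ c ∈ C₁, ∀ c' ∈ C₁, c * c' = c' * c := by
    have hdvd : Nat.card C₁ ∣ p ^ 3 := hS₁ ▸ Subgroup.card_dvd_of_le hC₁S
    obtain ⟨k, hk, hkc⟩ := (Nat.dvd_prime_pow hpp).mp hdvd
    have hk3 : k ≠ 3 := by
      intro h
      apply hC₁ne
      haveI : Finite C₁ := Finite.of_injective (Subgroup.inclusion hC₁S)
        (Subgroup.inclusion_injective hC₁S)
      exact Subgroup.eq_of_le_of_card_ge hC₁S (by rw [hkc, h, hS₁])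
    intro c hc c' hc'
    have hcomm' : ∀ a b : C₁, a * b = b * a := by
      have hk2 : k ≤ 2 := by omega
      interval_cases k
      · rw [pow_zero] at hkc
        haveI : Subsingleton C₁ := (Nat.card_eq_one_iff_unique.mp hkc).1
        intro a b
        rw [Subsingleton.elim a b]
      · rw [pow_one] at hkc
        haveI := isCyclic_of_prime_card hkc
        letI := IsCyclic.commGroup (α := C₁)
        exact mul_comm
      · haveI : Finite C₁ := Nat.finite_of_card_ne_zero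
          (by rw [hkc]; exact pow_ne_zero _ hpp.ne_zero)
        exact IsPGroup.commutative_of_card_eq_prime_sq hkc
    exact congrArg Subtype.val (hcomm' ⟨c, hc⟩ ⟨c', hc'⟩)
  -- components of elements of the centralizer lie in `C₁`
  have hkey : ∀ x₁ ∈ S₁, ∀ x₂ ∈ S₂, x₁ * x₂ ∈ centralizer (A : Set G) → x₁ ∈ C₁ := by
    intro x₁ hx₁ x₂ hx₂ hx
    rw [hC₁]
    refine Subgroup.mem_inf.mpr ⟨hx₁, ?_⟩
    rw [mem_centralizer_iff]
    intro w hw
    rw [Set.mem_singleton_iff] at hw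
    rw [hw]
    have h1 : u₁ * u₂ * (x₁ * x₂) = x₁ * x₂ * (u₁ * u₂) := mem_centralizer_iff.mp hx _ huA
    have h2 : u₁ * u₂ * (x₁ * x₂) = u₁ * x₁ * (u₂ * x₂) := by
      rw [mul_assoc, ← mul_assoc u₂, ← hcomm x₁ hx₁ u₂ hu₂]; group
    have h3 : x₁ * x₂ * (u₁ * u₂) = x₁ * u₁ * (u₂ * x₂) := by
      rw [mul_assoc, ← mul_assoc x₂, ← hcomm u₁ hu₁ x₂ hx₂, hS₂ u₂ hu₂ x₂ hx₂]; group
    rw [h2, h3] at h1
    exact mul_right_cancel h1
  intro x hx y hy
  obtain ⟨x₁, hx₁, x₂, hx₂, rfl⟩ := hdec x hx.1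
  obtain ⟨y₁, hy₁, y₂, hy₂, rfl⟩ := hdec y hy.1
  have h1 : Commute x₁ y₁ := hC₁comm x₁ (hkey x₁ hx₁ x₂ hx₂ hx.2) y₁ (hkey y₁ hy₁ y₂ hy₂ hy.2)
  have h2 : Commute x₁ y₂ := hcomm x₁ hx₁ y₂ hy₂
  have h3 : Commute x₂ y₁ := (hcomm y₁ hy₁ x₂ hx₂).symm
  have h4 : Commute x₂ y₂ := hS₂ x₂ hx₂ y₂ hy₂
  exact ((h1.mul_right h2).mul_left (h3.mul_right h4)).eq

end Cfsg.Agent.Helper12.BG11
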