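import Mathlib
import Cfsg.Agent.Lib.Helper12.BG11D1
import Cfsg.Agent.Lib.Helper24.BG101C
import Cfsg.Agent.Lib.Helper25.BG117A

/-!
# Bender–Glauberman Section 11, part D2   (helper12)

A `p`-group `P` with a self-centralizing `A = E_{p²}` that is not central: `A ∩ Z(P) = ⟨z⟩` has
order `p`, and `P` permutes transitively the subgroups of order `p` of `A` other than `⟨z⟩`
(transvections).
-/

set_option autoImplicit false
set_option linter.unusedSectionVars false

namespace Cfsg.Agent.Helper12.BG11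

open Cfsg Subgroup
open Cfsg.Agent.Helper17.BG11 (zpowers_eq_of_card_prime exists_mem_ne_one_of_card_prime)
open Cfsg.Agent.Helper15 (mem_map_conj_iff conj_mem_map_conj card_map_conj)

variable {G : Type*} [Group G] [Finite G] {p : ℕ} [Fact p.Prime]

/-- a nontrivial `p`-subgroup has a central element of order `p` -/
theorem exists_central_of_order (P : Subgroup G) (hP : IsPGroup p P) (hP1 : P ≠ ⊥) :
    ∃ z ∈ P, z ≠ 1 ∧ z ^ p = 1 ∧ z ∈ centralizer (P : Set G) := by
  have hpp : p.Prime := Fact.out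
  haveI : Nontrivial P := (Subgroup.nontrivial_iff_ne_bot P).mpr hP1
  haveI := hP.center_nontrivial
  have hcp : IsPGroup p (center P) := hP.to_subgroup _
  obtain ⟨n, hn⟩ := hcp.exists_card_eq
  have hn0 : n ≠ 0 := by
    intro h
    rw [h, pow_zero] at hn
    have := Finite.one_lt_card (α := center P)
    omega
  have hdvd : p ∣ Nat.card (center P) := by rw [hn]; exact dvd_pow_self p hn0
  obtain ⟨z, hz⟩ := exists_prime_orderOf_dvd_card' p hdvd
  have hz' : orderOf (((z : P) : G)) = p := by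
    rw [Subgroup.orderOf_coe, Subgroup.orderOf_coe, hz]
  refine ⟨((z : P) : G), (z : P).2, ?_, ?_, ?_⟩
  · intro h
    rw [h, orderOf_one] at hz'
    exact hpp.one_lt.ne hz'
  · rw [← hz']; exact pow_orderOf_eq_one _
  · rw [mem_centralizer_iff]
    intro y hy
    have h1 := Subgroup.mem_center_iff.mp z.2 ⟨y, hy⟩
    exact congrArg Subtype.val h1

/-- subgroups strictly between are excluded: `Z ≤ N ≤ A`, `|Z| = p`, `|A| = p²`, `N ≠ A` -/
theorem eq_of_between {Z N A : Subgroup G} (hZN : Z ≤ N) (hNA : N ≤ A) (hZ : Nat.card Z = p)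
    (hA : Nat.card A = p ^ 2) (hne : N ≠ A) : N = Z := by
  have hpp : p.Prime := Fact.out
  have hdvd : Nat.card N ∣ p ^ 2 := hA ▸ card_dvd_of_le hNA
  obtain ⟨k, hk, hkc⟩ := (Nat.dvd_prime_pow hpp).mp hdvd
  have hd1 : p ∣ Nat.card N := hZ ▸ card_dvd_of_le hZN
  have hk0 : k ≠ 0 := by
    intro h
    rw [hkc, h, pow_zero] at hd1
    exact hpp.one_lt.ne' (Nat.dvd_one.mp hd1)
  have hk2 : k ≠ 2 := by
    intro h
    exact hne (eq_of_le_of_card_ge hNA (by rw [hkc, h, hA]))
  have hk1 : k = 1 := by omega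
  rw [hk1, pow_one] at hkc
  exact (eq_of_le_of_card_ge hZN (by rw [hkc, hZ])).symm

/-- **Transvections.**  `P` a `p`-group, `A ≤ P` elementary abelian of order `p ^ 2` containing all
elements of order `p` of `C_P(A)`, `A` not central in `P`.  Then `A ∩ Z(P) = ⟨z⟩` has order `p` and
all subgroups of order `p` of `A` other than `⟨z⟩` are conjugate under `P`. -/
theorem exists_central_transitive (P A : Subgroup G) (hP : IsPGroup p P) (hAP : A ≤ P)
    (hAc : ∀ a ∈ A, ∀ b ∈ A, a * b = b * a) (hAe : ∀ a ∈ A, a ^ p = 1)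
    (hAcard : Nat.card A = p ^ 2)
    (hmax : ∀ x ∈ P, x ∈ centralizer (A : Set G) → x ^ p = 1 → x ∈ A)
    (hnc : ¬ A ≤ centralizer (P : Set G)) :
    ∃ z ∈ A, z ≠ 1 ∧ z ∈ centralizer (P : Set G) ∧
      (∀ w ∈ A, w ∈ centralizer (P : Set G) → w ∈ zpowers z) ∧
      ∀ D D' : Subgroup G, D ≤ A → D' ≤ A → Nat.card D = p → Nat.card D' = p → z ∉ D → z ∉ D' →
        ∃ x ∈ P, D' = D.map (MulAut.conj x).toMonoidHom := by
  have hpp : p.Prime := Fact.out
  have hA1 : A ≠ ⊥ := by
    intro h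
    rw [h, card_bot] at hAcard
    have : 1 < p ^ 2 := Nat.one_lt_pow (by norm_num) hpp.one_lt
    omega
  have hP1 : P ≠ ⊥ := fun h => hA1 (le_bot_iff.mp (h ▸ hAP))
  obtain ⟨z, hzP, hz1, hzp, hzc⟩ := exists_central_of_order P hP hP1
  have hzA : z ∈ A :=
    hmax z hzP (centralizer_le (SetLike.coe_subset_coe.mpr hAP) hzc) hzp
  have hZcard : Nat.card (zpowers z) = p := by
    rw [Nat.card_zpowers, orderOf_eq_prime hzp hz1]
  have hZA : zpowers z ≤ A := zpowers_le.mpr hzA
  have hZc : zpowers z ≤ centralizer (P : Set G) := zpowers_le.mpr hzc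
  -- `A ∩ Z(P) = ⟨z⟩`
  have hW : A ⊓ centralizer (P : Set G) = zpowers z := by
    apply eq_of_between (le_inf hZA hZc) inf_le_left hZcard hAcard
    intro h
    exact hnc (h ▸ inf_le_right)
  -- an element of `N_P(C_P(A)) - C_P(A)`
  obtain ⟨C, hC⟩ : ∃ C : Subgroup G, C = P ⊓ centralizer (A : Set G) := ⟨_, rfl⟩
  have hCP : C ≤ P := hC ▸ inf_le_left
  have hAC : A ≤ C := by
    rw [hC]
    refine le_inf hAP ?_
    intro a ha
    rw [mem_centralizer_iff]
    intro b hb
    exact hAc b hb a ha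
  have hCne : P ≠ C := by
    intro h
    apply hnc
    rw [le_centralizer_iff]
    intro y hy
    have : y ∈ C := h ▸ hy
    rw [hC] at this
    exact this.2
  have hnorm : P ⊓ normalizer (C : Set G) ≠ C := fun h =>
    hCne (Cfsg.Agent.Helper15.eq_of_inf_normalizer_eq hP hCP h)
  have hlt : C < P ⊓ normalizer (C : Set G) :=
    lt_of_le_of_ne (le_inf hCP le_normalizer) (Ne.symm hnorm)
  obtain ⟨x, hxN, hxC⟩ := SetLike.exists_of_lt hlt
  have hxP : x ∈ P := hxN.1
  have hxcent : x ∉ centralizer (A : Set G) := by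
    intro h
    apply hxC
    rw [hC]
    exact ⟨hxP, h⟩
  -- `x` normalizes `A`
  have hxA : ∀ (y : G), y ∈ normalizer (C : Set G) → y ∈ P → ∀ a ∈ A, y * a * y⁻¹ ∈ A := by
    intro y hy hyP a ha
    have h1 : y * a * y⁻¹ ∈ C := (mem_normalizer_iff.mp hy a).mp (hAC ha)
    rw [hC] at h1
    apply hmax _ h1.1 h1.2
    rw [conj_pow, hAe a ha]
    group
  have hxnorm : x ∈ normalizer (A : Set G) := by
    rw [mem_normalizer_iff]
    intro a
    constructor
    · exact hxA x hxN.2 hxP a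
    · intro h
      have h1 := hxA x⁻¹ (Subgroup.inv_mem _ hxN.2) (P.inv_mem hxP) _ h
      have h2 : x⁻¹ * (x * a * x⁻¹) * x⁻¹⁻¹ = a := by group
      rwa [h2] at h1
  -- commutators with `A` lie in `⟨z⟩`
  obtain ⟨N, hN⟩ : ∃ N : Subgroup G, N = P ⊓ normalizer (A : Set G) := ⟨_, rfl⟩
  have hNP : N ≤ P := hN ▸ inf_le_left
  have hAN : A ≤ N := hN ▸ le_inf hAP le_normalizer
  have hxNN : x ∈ N := hN ▸ ⟨hxP, hxnorm⟩
  have hW' : A ⊓ centralizer (N : Set G) = zpowers z := by
    apply eq_of_between (le_inf hZA ?_) inf_le_left hZcard hAcard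
    · intro h
      apply hxcent
      have h1 : A ≤ centralizer (N : Set G) := h ▸ inf_le_right
      exact (le_centralizer_iff.mp h1) hxNN
    · exact hZc.trans (centralizer_le (SetLike.coe_subset_coe.mpr hNP))
  have hcommz : ∀ a ∈ A, x * a * x⁻¹ * a⁻¹ ∈ zpowers z := by
    intro a ha
    haveI hUn : (A.subgroupOf N).Normal :=
      Subgroup.normal_subgroupOf_of_le_normalizer (hN ▸ inf_le_right)
    have hU : Nat.card (A.subgroupOf N) = p ^ 2 := by
      rw [Cfsg.Agent.Helper7.card_subgroupOf_of_le hAN, hAcard]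
    have h1 := Cfsg.Agent.Helper24.BG101.comm_mem_center_of_card_sq (hP.to_le hNP)
      (A.subgroupOf N) hU ⟨a, hAN ha⟩ (mem_subgroupOf.mpr ha) ⟨x, hxNN⟩
    obtain ⟨h2, h3⟩ := Subgroup.mem_inf.mp h1
    rw [← hW']
    refine Subgroup.mem_inf.mpr ⟨?_, ?_⟩
    · have := mem_subgroupOf.mp h2
      simpa using this
    · rw [mem_centralizer_iff]
      intro n hn
      have h4 := Subgroup.mem_center_iff.mp h3 ⟨n, hn⟩
      have h5 := congrArg Subtype.val h4
      simpa using h5
  refine ⟨z, hzA, hz1, hzc, ?_, ?_⟩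
  · intro w hw hwc
    rw [← hW]
    exact ⟨hw, hwc⟩
  intro D D' hDA hD'A hDcard hD'card hzD hzD'
  obtain ⟨d', hd', hd'1⟩ := exists_mem_ne_one_of_card_prime hD'card
  have hD'z : zpowers d' = D' := zpowers_eq_of_card_prime hD'card hd' hd'1
  have hZD : zpowers z ≠ D := fun h => hzD (h ▸ mem_zpowers z)
  have hAZD : A ≤ zpowers z ⊔ D :=
    Cfsg.Agent.Helper25.BG117.le_sup_of_two_points hAcard hZA hDA hZcard hDcard hZD
  have hzcomm : ∀ y ∈ P, z * y = y * z := fun y hy => ((mem_centralizer_iff.mp hzc) y hy).symm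
  have hZnD : zpowers z ≤ normalizer (D : Set G) := by
    refine le_trans ?_ (centralizer_le_normalizer (D : Set G))
    rw [zpowers_le, mem_centralizer_iff]
    intro y hy
    exact (hzcomm y (hAP (hDA hy))).symm
  have h1 : d' ∈ ((zpowers z ⊔ D : Subgroup G) : Set G) := hAZD (hD'A hd')
  rw [Subgroup.coe_mul_of_left_le_normalizer_right (zpowers z) D hZnD] at h1
  obtain ⟨z', hz', d₁, hd₁, hzd⟩ := Set.mem_mul.mp h1
  have hd₁1 : d₁ ≠ 1 := by
    intro h
    rw [h, mul_one] at hzd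
    have h2 : D' ≤ zpowers z := by
      rw [← hD'z, zpowers_le, ← hzd]
      exact hz'
    have h3 : D' = zpowers z := eq_of_le_of_card_ge h2 (by rw [hZcard, hD'card])
    exact hzD' (h3 ▸ mem_zpowers z)
  have hDz : zpowers d₁ = D := zpowers_eq_of_card_prime hDcard hd₁ hd₁1
  obtain ⟨c, hcdef⟩ : ∃ c : G, c = x * d₁ * x⁻¹ * d₁⁻¹ := ⟨_, rfl⟩
  have hcZ : c ∈ zpowers z := hcdef ▸ hcommz d₁ (hDA hd₁)
  have hc1 : c ≠ 1 := by
    intro h
    apply hxcent
    have hxd : x * d₁ = d₁ * x := by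
      have h2 : x * d₁ * x⁻¹ * d₁⁻¹ = 1 := hcdef ▸ h
      have h3 : x * d₁ = (x * d₁ * x⁻¹ * d₁⁻¹) * (d₁ * x) := by group
      rw [h3, h2, one_mul]
    have h4 : A ≤ centralizer ({x} : Set G) := by
      refine hAZD.trans (sup_le ?_ ?_)
      · rw [zpowers_le, mem_centralizer_iff]
        intro y hy
        rw [Set.mem_singleton_iff] at hy
        rw [hy]
        exact (hzcomm x hxP).symm
      · rw [← hDz, zpowers_le, mem_centralizer_iff]
        intro y hy
        rw [Set.mem_singleton_iff] at hy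
        rw [hy]
        exact hxd
    rw [mem_centralizer_iff]
    intro a ha
    have := (mem_centralizer_iff.mp (h4 ha)) x (Set.mem_singleton x)
    exact this.symm
  have hcz : zpowers c = zpowers z := zpowers_eq_of_card_prime hZcard hcZ hc1
  have hz'c : z' ∈ zpowers c := hcz ▸ hz'
  obtain ⟨k, hk⟩ := ((isOfFinOrder_of_finite c).mem_powers_iff_mem_zpowers).mpr hz'c
  have hk : c ^ k = z' := hk
  have hcP : ∀ y ∈ P, c * y = y * c := fun y hy =>
    ((mem_centralizer_iff.mp (hZc hcZ)) y hy).symm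
  have hxd : x * d₁ * x⁻¹ = c * d₁ := by rw [hcdef]; group
  have hclaim : ∀ n : ℕ, x ^ n * d₁ * (x ^ n)⁻¹ = c ^ n * d₁ := by
    intro n
    induction n with
    | zero => simp
    | succ n ih =>
      have e1 : x ^ (n + 1) * d₁ * (x ^ (n + 1))⁻¹ = x * (x ^ n * d₁ * (x ^ n)⁻¹) * x⁻¹ := by
        rw [pow_succ']; group
      rw [e1, ih]
      have e2 : x * (c ^ n * d₁) * x⁻¹ = (x * c ^ n) * x⁻¹ * (x * d₁ * x⁻¹) := by group
      have hcn : c ^ n * x = x * c ^ n := by
        have : Commute c x := hcP x hxP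
        exact (this.pow_left n).eq
      rw [e2, hxd, ← hcn]
      have e3 : c ^ n * x * x⁻¹ * (c * d₁) = c ^ n * c * d₁ := by group
      rw [e3, ← pow_succ]
  refine ⟨x ^ k, P.pow_mem hxP k, ?_⟩
  have hmem : d' ∈ D.map (MulAut.conj (x ^ k)).toMonoidHom := by
    have h2 := conj_mem_map_conj (x ^ k) hd₁
    rwa [hclaim k, hk, hzd] at h2
  have hle : D' ≤ D.map (MulAut.conj (x ^ k)).toMonoidHom := by
    rw [← hD'z, zpowers_le]
    exact hmem
  exact eq_of_le_of_card_ge hle (by rw [card_map_conj, hDcard, hD'card])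

end Cfsg.Agent.Helper12.BG11
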