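import Mathlib
import Cfsg.Agent.Lib.Helper1.Hall
import Cfsg.Agent.Lib.Helper1.HallConj
import Cfsg.Agent.Lib.Helper20.PrimaryParts
import Cfsg.Agent.Lib.Helper21.PiSubgroup

/-!
# Nilpotent Hall subgroups: basic tools (helper12)

Conjugation helpers, a subgroup form of Hall's theorems, and the `p`-part of a nilpotent subgroup.
-/

set_option autoImplicit false

namespace Cfsg.Agent.Helper12.NHF

open Subgroup
open scoped Pointwise

variable {G : Type*} [Group G]

/-! ### conjugation -/

/-- the conjugate subgroup `g T g⁻¹` -/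
def cj (g : G) (T : Subgroup G) : Subgroup G := T.map (MulAut.conj g).toMonoidHom

theorem mem_cj {g : G} {T : Subgroup G} {y : G} : y ∈ cj g T ↔ g⁻¹ * y * g ∈ T := by
  unfold cj
  rw [Subgroup.mem_map_equiv]
  simp [MulAut.conj_symm_apply]

theorem conj_mem_cj {g : G} {T : Subgroup G} {t : G} (ht : t ∈ T) : g * t * g⁻¹ ∈ cj g T := by
  rw [mem_cj]
  have : g⁻¹ * (g * t * g⁻¹) * g = t := by group
  rw [this]; exact ht

theorem card_cj (g : G) (T : Subgroup G) : Nat.card (cj g T) = Nat.card T := by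
  unfold cj
  exact Subgroup.card_map_of_injective (MulAut.conj g).injective

theorem cj_le_iff {g : G} {T K : Subgroup G} : cj g T ≤ K ↔ ∀ t ∈ T, g * t * g⁻¹ ∈ K := by
  constructor
  · intro h t ht
    exact h (conj_mem_cj ht)
  · intro h y hy
    rw [mem_cj] at hy
    have := h _ hy
    have e : g * (g⁻¹ * y * g) * g⁻¹ = y := by group
    rwa [e] at this

theorem normalizer_cj (g : G) (T : Subgroup G) :
    normalizer ((cj g T : Subgroup G) : Set G) = cj g (normalizer (T : Set G)) := by
  unfold cj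
  exact (Subgroup.map_equiv_normalizer_eq T (MulAut.conj g)).symm

theorem orderOf_conj' (g x : G) : orderOf (g * x * g⁻¹) = orderOf x := by
  have := (MulAut.conj g).orderOf_eq x
  simpa using this

/-- in a finite group, an element mapping a subgroup into itself normalizes it -/
theorem mem_normalizer_of_conj_mem [Finite G] {A : Subgroup G} {e : G}
    (h : ∀ a ∈ A, e * a * e⁻¹ ∈ A) : e ∈ normalizer (A : Set G) := by
  have hle : cj e A ≤ A := cj_le_iff.mpr h
  have heq : cj e A = A :=
    Subgroup.eq_of_le_of_card_ge hle (by rw [card_cj])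
  rw [mem_normalizer_iff]
  intro x
  constructor
  · exact h x
  · intro hx
    rw [← heq, mem_cj] at hx
    have e1 : e⁻¹ * (e * x * e⁻¹) * e = x := by group
    rwa [e1] at hx

theorem conj_mem_of_mem_normalizer {A : Subgroup G} {e : G} (he : e ∈ normalizer (A : Set G))
    {a : G} (ha : a ∈ A) : e * a * e⁻¹ ∈ A :=
  (mem_normalizer_iff.mp he a).mp ha

theorem conj_inv_mem_of_mem_normalizer {A : Subgroup G} {e : G} (he : e ∈ normalizer (A : Set G))
    {a : G} (ha : a ∈ A) : e⁻¹ * a * e ∈ A := by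
  have := (mem_normalizer_iff.mp (inv_mem he) a).mp ha
  simpa using this

/-- centralizer membership, elementwise -/
theorem mem_centralizer_iff' {T : Subgroup G} {c : G} :
    c ∈ centralizer (T : Set G) ↔ ∀ t ∈ T, c * t = t * c := by
  rw [Subgroup.mem_centralizer_iff]
  constructor
  · intro h t ht; exact (h t ht).symm
  · intro h t ht; exact (h t ht).symm

/-! ### Hall's theorem inside a solvable subgroup -/

/-- Hall domination in a solvable subgroup `L`: a subgroup `U ≤ L` of order prime to the index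
of the Hall subgroup `A` of `L` is conjugate in `L` into `A`. -/
theorem hall_dominate [Finite G] (L A U : Subgroup G) [hs : Group.IsSolvable L] (hAL : A ≤ L)
    (hUL : U ≤ L) (hA : (Nat.card A).Coprime (A.relIndex L))
    (hU : (Nat.card U).Coprime (A.relIndex L)) :
    ∃ d ∈ L, ∀ u ∈ U, d * u * d⁻¹ ∈ A := by
  have hcA : Nat.card (A.subgroupOf L) = Nat.card A :=
    Nat.card_congr (Subgroup.subgroupOfEquivOfLe hAL).toEquiv
  have hcU : Nat.card (U.subgroupOf L) = Nat.card U :=
    Nat.card_congr (Subgroup.subgroupOfEquivOfLe hUL).toEquiv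
  have hL : Nat.card L = Nat.card A * A.relIndex L := by
    rw [← hcA]
    exact (Subgroup.card_mul_index (A.subgroupOf L)).symm
  obtain ⟨H', hH', hUH'⟩ := Cfsg.Agent.Helper1.hall_contain (G := L) (Nat.card A) (A.relIndex L)
    hL hA (U.subgroupOf L) (by rw [hcU]; exact hU)
  obtain ⟨g, hg⟩ := Cfsg.Agent.Helper1.hall_conj (G := L) (Nat.card A) (A.relIndex L) hL hA H'
    (A.subgroupOf L) hH' hcA
  refine ⟨(g : G), g.2, ?_⟩
  intro u hu
  have h1 : (⟨u, hUL hu⟩ : L) ∈ H' := hUH' (by rw [Subgroup.mem_subgroupOf]; exact hu)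
  have h2 : g * ⟨u, hUL hu⟩ * g⁻¹ ∈ MulAut.conj g • H' := by
    have := Subgroup.smul_mem_pointwise_smul _ (MulAut.conj g) H' h1
    rwa [MulAut.smul_def, MulAut.conj_apply] at this
  rw [hg, Subgroup.mem_subgroupOf] at h2
  simpa using h2

/-! ### the `p`-part of a nilpotent subgroup -/

section pPart

variable [Finite G]

/-- the normal Sylow `p`-subgroup of the nilpotent subgroup `H`, as a subgroup of `G` -/
noncomputable def pPart (H : Subgroup G) (p : ℕ) [Fact p.Prime] : Subgroup G :=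
  ((Classical.arbitrary (Sylow p H) : Sylow p H) : Subgroup H).map H.subtype

theorem mem_pPart_iff {H : Subgroup G} (hHn : Group.IsNilpotent H) {p : ℕ} [Fact p.Prime] {x : G} :
    x ∈ pPart H p ↔ x ∈ H ∧ ∃ k : ℕ, orderOf x = p ^ k := by
  haveI := hHn
  constructor
  · rintro ⟨y, hy, rfl⟩
    refine ⟨y.2, ?_⟩
    obtain ⟨k, hk⟩ := IsPGroup.iff_orderOf.mp (Classical.arbitrary (Sylow p H)).isPGroup' ⟨y, hy⟩
    refine ⟨k, ?_⟩
    rw [Subgroup.orderOf_mk] at hk
    rw [← hk]
    exact Subgroup.orderOf_coe y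
  · rintro ⟨hx, k, hk⟩
    have hy : orderOf (⟨x, hx⟩ : H) = p ^ k := by rw [Subgroup.orderOf_mk]; exact hk
    have hz : IsPGroup p (Subgroup.zpowers (⟨x, hx⟩ : H)) :=
      IsPGroup.of_card (n := k) (by rw [Nat.card_zpowers, hy])
    obtain ⟨Q, hQ⟩ := hz.exists_le_sylow
    obtain ⟨g, hg⟩ := MulAction.exists_smul_eq H (Classical.arbitrary (Sylow p H)) Q
    rw [Sylow.smul_eq_of_normal] at hg
    refine ⟨⟨x, hx⟩, ?_, rfl⟩
    rw [hg]
    exact hQ (Subgroup.mem_zpowers _)

theorem pPart_le {H : Subgroup G} {p : ℕ} [Fact p.Prime] : pPart H p ≤ H := by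
  rintro _ ⟨y, -, rfl⟩
  exact y.2

theorem isPGroup_pPart (H : Subgroup G) (p : ℕ) [Fact p.Prime] : IsPGroup p (pPart H p) := by
  unfold pPart
  exact (Classical.arbitrary (Sylow p H)).isPGroup'.map _

theorem not_dvd_index_pPart {H : Subgroup G} {p : ℕ} [hp : Fact p.Prime]
    (hHall : (Nat.card H).Coprime H.index) (hpH : p ∣ Nat.card H) : ¬ p ∣ (pPart H p).index := by
  unfold pPart
  rw [Subgroup.index_map_subtype]
  intro h
  rcases (Nat.Prime.dvd_mul hp.out).mp h with h1 | h1
  · exact (Classical.arbitrary (Sylow p H)).not_dvd_index h1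
  · exact Nat.Prime.not_coprime_iff_dvd.mpr ⟨p, hp.out, hpH, h1⟩ hHall

/-- conjugation by an element of `H` preserves `pPart` -/
theorem conj_mem_pPart {H : Subgroup G} (hHn : Group.IsNilpotent H) {p : ℕ} [Fact p.Prime]
    {h x : G} (hh : h ∈ H) (hx : x ∈ pPart H p) : h * x * h⁻¹ ∈ pPart H p := by
  rw [mem_pPart_iff hHn] at hx ⊢
  exact ⟨H.mul_mem (H.mul_mem hh hx.1) (H.inv_mem hh), by rw [orderOf_conj']; exact hx.2⟩

/-- a `p`-element and a `p'`-element of a nilpotent subgroup commute -/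
theorem commute_pPart {H : Subgroup G} (hHn : Group.IsNilpotent H) {p : ℕ} [hp : Fact p.Prime]
    {u t : G} (hu : u ∈ pPart H p) (ht : t ∈ H) (hco : (orderOf t).Coprime p) : u * t = t * u := by
  obtain ⟨huH, k, hk⟩ := (mem_pPart_iff hHn).mp hu
  apply Cfsg.Agent.Helper21.commute_of_mem_of_nilpotent hHn huH ht
  rw [hk]
  exact (Nat.Coprime.pow_right k hco).symm

end pPart

end Cfsg.Agent.Helper12.NHF
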