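import Mathlib
import Cfsg.Agent.Lib.Helper12.BG11D2
import Cfsg.Agent.Lib.Helper12.NHFBasic
import Cfsg.Agent.Lib.Helper17.BG11T
import Cfsg.Agent.Lib.Helper23.BG10A
import Cfsg.Agent.Lib.Helper19.BG16C
import Cfsg.Agent.Lib.Helper7.CoprimeGen3
import Cfsg.Agent.S1410

/-!
# Bender–Glauberman Section 11, part D3   (helper12)

BG Lemma 11.5, first half: for an exceptional maximal subgroup `M` (`Exc M p A A0`) and a Sylow
`p`-subgroup `P ≥ A` of `M`, the group `A` is central in `P`.

The argument: with `Q = O_q(M_σ) ≠ 1`, call a point `D` of `A` *singular* if `C_Q(D) ≠ 1`.  For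
`g ∈ N_G(P) - M` the points `D` and `D^{g⁻¹}` are never both singular (helper17's dichotomy).
If `A` is not central, `P` is transitive on the points of `A` other than `Z = A ∩ Z(P)`, `Z` is
`N_G(P)`-invariant hence regular, and coprime generation on `A` and on `A^{g⁻¹}` gives a
contradiction.
-/

set_option autoImplicit false
set_option linter.unusedSectionVars false
set_option linter.style.haveILetI false

namespace Cfsg.Agent.Helper12.BG11

open Cfsg Subgroup
open Cfsg.Agent.Helper17.BG11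
open Cfsg.Agent.Helper15 (mem_map_conj_iff conj_mem_map_conj map_conj_map_conj map_conj_one
  map_conj_inv_map_conj map_conj_map_conj_inv map_conj_mono card_map_conj
  map_conj_eq_of_mem_normalizer map_conj_le_of_mem)

universe u

variable {G : Type u} [Group G] [Finite G]

/-- S1410 in helper17's form -/
theorem h1410 (hG : IsMinSimpleOddOrder G) : H1410 G :=
  fun p _ H hH => Cfsg.Agent.S1410.result hG p H hH

/-- singularity of a point is invariant under the normalizer of `Q` -/
theorem sing_map_conj {Q D : Subgroup G} {x : G} (hx : x ∈ normalizer (Q : Set G))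
    (h : Q ⊓ centralizer (D : Set G) ≠ ⊥) :
    Q ⊓ centralizer ((D.map (MulAut.conj x).toMonoidHom : Subgroup G) : Set G) ≠ ⊥ := by
  obtain ⟨y, hy, hy1⟩ := (Subgroup.bot_or_exists_ne_one _).resolve_left h
  obtain ⟨hyQ, hyC⟩ := Subgroup.mem_inf.mp hy
  intro hbot
  have hmem : x * y * x⁻¹ ∈
      Q ⊓ centralizer ((D.map (MulAut.conj x).toMonoidHom : Subgroup G) : Set G) := by
    refine Subgroup.mem_inf.mpr ⟨(mem_normalizer_iff.mp hx y).mp hyQ, ?_⟩
    rw [mem_centralizer_iff]
    intro d hd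
    have hd' : x⁻¹ * d * x ∈ D := mem_map_conj_iff.mp hd
    have h1 : x⁻¹ * d * x * y = y * (x⁻¹ * d * x) := mem_centralizer_iff.mp hyC _ hd'
    calc d * (x * y * x⁻¹) = x * (x⁻¹ * d * x * y) * x⁻¹ := by group
      _ = x * (y * (x⁻¹ * d * x)) * x⁻¹ := by rw [h1]
      _ = x * y * x⁻¹ * d := by group
  rw [hbot, mem_bot] at hmem
  apply hy1
  calc y = x⁻¹ * (x * y * x⁻¹) * x := by group
    _ = 1 := by rw [hmem]; group

/-- coprime generation: a noncyclic elementary abelian `p`-group of order `p ^ 2` normalizing a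
nontrivial `q`-group `Q` has a point with nontrivial centralizer in `Q` -/
theorem exists_sing_point {p q : ℕ} [Fact p.Prime] [Fact q.Prime] (hqp : q ≠ p)
    {Q B : Subgroup G} (hQ : IsPGroup q Q) (hQ1 : Q ≠ ⊥)
    (hB : IsElementaryAbelian p B) (hBcard : Nat.card B = p ^ 2)
    (hBQ : B ≤ normalizer (Q : Set G)) :
    ∃ D : Subgroup G, D ≤ B ∧ Nat.card D = p ∧ Q ⊓ centralizer (D : Set G) ≠ ⊥ := by
  have hpp : p.Prime := Fact.out
  have hqq : q.Prime := Fact.out
  have hBp : IsPGroup p B := IsPGroup.of_card hBcard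
  have hB1 : B ≠ ⊥ := by
    intro h
    rw [h, card_bot] at hBcard
    have : 1 < p ^ 2 := Nat.one_lt_pow (by norm_num) hpp.one_lt
    omega
  have hX : ¬ p ∣ Nat.card Q := by
    intro hd
    obtain ⟨n, hn⟩ := hQ.exists_card_eq
    rw [hn] at hd
    exact hqp ((Nat.prime_dvd_prime_iff_eq hpp hqq).mp (hpp.dvd_of_dvd_pow hd)).symm
  have h1 := Cfsg.Agent.Helper7.le_hyperGen p B Q hB hX hBQ
  have h2 := Cfsg.Agent.Helper7.hyperGen_le_iSup_relIndex_eq p hBp hB1 Q
  by_contra hcon
  push_neg at hcon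
  apply hQ1
  rw [eq_bot_iff]
  refine (h1.trans h2).trans (iSup_le ?_)
  rintro ⟨D, hDB, hDr⟩
  have hcard : Nat.card D = p := by
    have h3 := Subgroup.relIndex_mul_relIndex (⊥ : Subgroup G) D B bot_le hDB
    rw [Subgroup.relIndex_bot_left, Subgroup.relIndex_bot_left, hDr, hBcard, sq] at h3
    exact Nat.eq_of_mul_eq_mul_right hpp.pos h3
  exact (hcon D hDB hcard).le

section Main

variable {M : Subgroup G} {p : ℕ} [Fact p.Prime] {A A0 : Subgroup G}

/-- the dichotomy for points: `D ≤ A` and `D^{g⁻¹}` are not both singular for `Q` -/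
theorem sing_dichotomy (hG : IsMinSimpleOddOrder G) (hE : Exc M p A A0) {g : G} (hg : g ∉ M)
    (hAg : A ≤ M.map (MulAut.conj g).toMonoidHom) {q : ℕ} [Fact q.Prime] (hq : q ∈ sigma M)
    (Q : Sylow q G) (hQM : (Q : Subgroup G) ≤ M)
    (hAQ : A ≤ normalizer ((Q : Subgroup G) : Set G))
    (hAgQ : A.map (MulAut.conj g⁻¹).toMonoidHom ≤ normalizer ((Q : Subgroup G) : Set G))
    {D : Subgroup G} (hDA : D ≤ A) (hD1 : D ≠ ⊥)
    (h1 : (Q : Subgroup G) ⊓ centralizer (D : Set G) ≠ ⊥)
    (h2 : (Q : Subgroup G) ⊓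
      centralizer ((D.map (MulAut.conj g⁻¹).toMonoidHom : Subgroup G) : Set G) ≠ ⊥) : False := by
  have hcard2 : Nat.card ↥((Q : Subgroup G).map (MulAut.conj g).toMonoidHom) =
      q ^ (Nat.card G).factorization q := by
    rw [card_map_conj, Q.card_eq_multiplicity]
  obtain ⟨Q2, hQ2⟩ : ∃ Q2 : Sylow q G,
      (Q2 : Subgroup G) = (Q : Subgroup G).map (MulAut.conj g).toMonoidHom :=
    ⟨Sylow.ofCard _ hcard2, Sylow.coe_ofCard _ _⟩
  have hQ2M : (Q2 : Subgroup G) ≤ M.map (MulAut.conj g).toMonoidHom := by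
    rw [hQ2]; exact map_conj_mono hQM g
  have hAQ2 : A ≤ normalizer ((Q2 : Subgroup G) : Set G) := by
    rw [hQ2, ← Subgroup.map_equiv_normalizer_eq (Q : Subgroup G) (MulAut.conj g)]
    intro a ha
    rw [mem_map_conj_iff]
    apply hAgQ
    have := conj_mem_map_conj g⁻¹ ha
    simpa using this
  have hH : centralizer (D : Set G) ≠ ⊤ := Cfsg.Agent.Helper23.BG10.centralizer_ne_top' hG hD1
  have hAH : A ≤ centralizer (D : Set G) := by
    intro a ha
    rw [mem_centralizer_iff]
    intro d hd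
    have hAA : A ≤ centralizer (A : Set G) := le_centralizer_iff_isMulCommutative.mpr hE.hA.1
    exact mem_centralizer_iff.mp (hAA ha) d (hDA hd)
  rcases dichotomy hG (h1410 hG) hE hg hq Q Q2 hQM hAQ hQ2M hAQ2 hH hAH with h | h
  · apply h1
    rw [inf_comm]; exact h
  · obtain ⟨y, hy, hy1⟩ := (Subgroup.bot_or_exists_ne_one _).resolve_left h2
    obtain ⟨hyQ, hyC⟩ := Subgroup.mem_inf.mp hy
    have hmem : g * y * g⁻¹ ∈ centralizer (D : Set G) ⊓ (Q2 : Subgroup G) := by
      refine Subgroup.mem_inf.mpr ⟨?_, ?_⟩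
      · rw [mem_centralizer_iff]
        intro d hd
        have hd' : g⁻¹ * d * g ∈ D.map (MulAut.conj g⁻¹).toMonoidHom := by
          have := conj_mem_map_conj g⁻¹ hd
          simpa using this
        have h3 : g⁻¹ * d * g * y = y * (g⁻¹ * d * g) := mem_centralizer_iff.mp hyC _ hd'
        calc d * (g * y * g⁻¹) = g * (g⁻¹ * d * g * y) * g⁻¹ := by group
          _ = g * (y * (g⁻¹ * d * g)) * g⁻¹ := by rw [h3]
          _ = g * y * g⁻¹ * d := by group
      · rw [hQ2]; exact conj_mem_map_conj g hyQ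
    rw [h, mem_bot] at hmem
    apply hy1
    calc y = g⁻¹ * (g * y * g⁻¹) * g := by group
      _ = 1 := by rw [hmem]; group

end Main

end Cfsg.Agent.Helper12.BG11
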