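import Mathlib
import Cfsg.Agent.Lib.Helper12.BG11D3

/-!
# Bender–Glauberman Section 11, part D4   (helper12)

BG Lemma 11.5, first half: `A ≤ Z(P)` for a Sylow `p`-subgroup `P ≥ A` of an exceptional
maximal subgroup `M`.
-/

set_option autoImplicit false
set_option linter.unusedSectionVars false
set_option linter.style.haveILetI false

namespace Cfsg.Agent.Helper12.BG11

open Cfsg Subgroup
open Cfsg.Agent.Helper17.BG11
open Cfsg.Agent.Helper15 (mem_map_conj_iff conj_mem_map_conj map_conj_map_conj map_conj_one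
  map_conj_inv_map_conj map_conj_map_conj_inv map_conj_mono card_map_conj
  map_conj_eq_of_mem_normalizer map_conj_le_of_mem)

universe u

variable {G : Type u} [Group G] [Finite G]

theorem elemAb_map {H : Type*} [Group H] {p : ℕ} (f : G →* H) {A : Subgroup G}
    (hA : IsElementaryAbelian p A) : IsElementaryAbelian p (A.map f) := by
  refine ⟨?_, ?_⟩
  · haveI := hA.1
    exact Subgroup.map_isMulCommutative A f
  · rintro _ ⟨a, ha, rfl⟩
    rw [← map_pow, hA.2 a ha, map_one]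

variable {M : Subgroup G} {p : ℕ} [Fact p.Prime] {A A0 : Subgroup G}

/-- The normal Sylow `q`-subgroup `O_q(M_σ)` of the nilpotent group `M_σ`, for a prime `q`
dividing `|M_σ|`: a Sylow `q`-subgroup of `G`, normal in `M`. -/
theorem exists_normal_sylow_sigmaCore (hG : IsMinSimpleOddOrder G) (hE : Exc M p A A0) :
    ∃ (q : ℕ) (_ : Fact q.Prime) (Q : Sylow q G), q ∈ sigma M ∧ q ≠ p ∧
      (Q : Subgroup G) = Cfsg.Agent.Helper12.NHF.pPart (sigmaCore M) q ∧
      (Q : Subgroup G) ≤ sigmaCore M ∧ (Q : Subgroup G) ≠ ⊥ ∧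
      M ≤ normalizer ((Q : Subgroup G) : Set G) := by
  have h10 := h1410 hG
  obtain ⟨hσ, hσG⟩ := sigmaHall hG hE.hM
  have hKnil := theorem_11_3 hG h10 hE
  have hK1 : sigmaCore M ≠ ⊥ := Cfsg.Agent.Helper19.BG16.sigmaCore_ne_bot hG
    (fun L hL => Cfsg.Agent.S1405.result hG L hL) hE.hM
  have hcardK : Nat.card (sigmaCore M) ≠ 1 := fun h => hK1 (card_eq_one.mp h)
  obtain ⟨q, hqp, hqK⟩ := Nat.exists_prime_and_dvd hcardK
  haveI hqf := Fact.mk hqp
  have hqσ : q ∈ sigma M := prime_mem_sigma_of_dvd_card M le_rfl hqp hqK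
  have hqne : q ≠ p := fun h => hE.hp (h ▸ hqσ)
  obtain ⟨Qs, hQs⟩ := exists_sylow_eq_of_sylow_hall (sigmaCore M) (hσG.2 q hqp hqσ)
    (Classical.arbitrary (Sylow q (sigmaCore M)))
  have hQdef : (Qs : Subgroup G) = Cfsg.Agent.Helper12.NHF.pPart (sigmaCore M) q := hQs
  refine ⟨q, hqf, Qs, hqσ, hqne, hQdef, ?_, ?_, ?_⟩
  · rw [hQdef]; exact Cfsg.Agent.Helper12.NHF.pPart_le
  · exact Qs.ne_bot_of_dvd_card (hqK.trans (card_subgroup_dvd_card _))
  · intro m hm
    apply Cfsg.Agent.Helper12.NHF.mem_normalizer_of_conj_mem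
    intro x hx
    rw [hQdef, Cfsg.Agent.Helper12.NHF.mem_pPart_iff hKnil] at hx ⊢
    refine ⟨(mem_normalizer_iff.mp (le_normalizer_sigmaCore M hm) x).mp hx.1, ?_⟩
    rw [Cfsg.Agent.Helper12.NHF.orderOf_conj']
    exact hx.2

/-- **BG Lemma 11.5, first half**: `A` is central in every Sylow `p`-subgroup of `M`
containing it. -/
theorem le_centralizer_sylow (hG : IsMinSimpleOddOrder G) (hE : Exc M p A A0) (P : Sylow p M)
    (hAP : A ≤ (P : Subgroup M).map M.subtype) :
    A ≤ centralizer ((((P : Subgroup M).map M.subtype : Subgroup G)) : Set G) := by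
  by_contra hnc
  have hpp : p.Prime := Fact.out
  obtain ⟨P', hP'def⟩ : ∃ P' : Subgroup G, P' = (P : Subgroup M).map M.subtype := ⟨_, rfl⟩
  rw [← hP'def] at hAP hnc
  have hP'p : IsPGroup p P' := hP'def ▸ P.isPGroup'.map _
  have hP'M : P' ≤ M := hP'def ▸ map_subtype_le _
  have hAA : A ≤ centralizer (A : Set G) := le_centralizer_iff_isMulCommutative.mpr hE.hA.1
  have hAc : ∀ a ∈ A, ∀ b ∈ A, a * b = b * a :=
    fun a ha b hb => mem_centralizer_iff.mp (hAA hb) a ha
  have hmax : ∀ x ∈ P', x ∈ centralizer (A : Set G) → x ^ p = 1 → x ∈ A :=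
    fun x _ hx hxp => hE.mem_of_cent hG hx hxp
  obtain ⟨z, hzA, hz1, hzc, hzW, htrans⟩ :=
    exists_central_transitive P' A hP'p hAP hAc hE.hA.2 hE.hcard hmax hnc
  have hzp : z ^ p = 1 := hE.hA.2 z hzA
  -- an element of `N_G(P) - M`
  have hnot : ¬ normalizer (P' : Set G) ≤ M := by
    intro h
    exact hE.hp ⟨Fact.out, hE.p_dvd_card, P, hP'def ▸ h⟩
  obtain ⟨g, hgN, hgM⟩ := SetLike.not_le_iff_exists.mp hnot
  have hg'N : g⁻¹ ∈ normalizer (P' : Set G) := inv_mem hgN
  have hAg : A ≤ M.map (MulAut.conj g).toMonoidHom := by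
    have h1 : P' ≤ M.map (MulAut.conj g).toMonoidHom := by
      have := map_conj_mono hP'M g
      rwa [map_conj_eq_of_mem_normalizer hgN] at this
    exact hAP.trans h1
  -- the `q`-group `Q`
  obtain ⟨q, hqf, Qs, hqσ, hqne, -, hQK, hQ1, hMQ⟩ := exists_normal_sylow_sigmaCore hG hE
  haveI := hqf
  have hQM : (Qs : Subgroup G) ≤ M := hQK.trans (sigmaCore_le M)
  have hAQ : A ≤ normalizer ((Qs : Subgroup G) : Set G) := hE.hAM.trans hMQ
  obtain ⟨B, hBdef⟩ : ∃ B : Subgroup G, B = A.map (MulAut.conj g⁻¹).toMonoidHom := ⟨_, rfl⟩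
  have hBP : B ≤ P' := by
    have := map_conj_mono hAP g⁻¹
    rwa [map_conj_eq_of_mem_normalizer hg'N, ← hBdef] at this
  have hBQ : B ≤ normalizer ((Qs : Subgroup G) : Set G) := (hBP.trans hP'M).trans hMQ
  have hAgQ : A.map (MulAut.conj g⁻¹).toMonoidHom ≤ normalizer ((Qs : Subgroup G) : Set G) :=
    hBdef ▸ hBQ
  -- `Z = ⟨z⟩` is invariant under `g⁻¹`
  have hZA : zpowers z ≤ A := zpowers_le.mpr hzA
  have hZcard : Nat.card (zpowers z) = p := by
    rw [Nat.card_zpowers, orderOf_eq_prime hzp hz1]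
  have hZ1 : zpowers z ≠ ⊥ := by
    intro h
    apply hz1
    have : z ∈ (⊥ : Subgroup G) := h ▸ mem_zpowers z
    exact mem_bot.mp this
  have hZg : (zpowers z).map (MulAut.conj g⁻¹).toMonoidHom = zpowers z := by
    have hle : (zpowers z).map (MulAut.conj g⁻¹).toMonoidHom ≤ zpowers z := by
      rw [MonoidHom.map_zpowers, zpowers_le]
      have hval : (MulAut.conj g⁻¹).toMonoidHom z = g⁻¹ * z * g := by
        simp [MulAut.conj_apply]
      rw [hval]
      have hP'mem : g⁻¹ * z * g ∈ P' := by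
        have := (mem_normalizer_iff.mp hg'N z).mp (hAP hzA)
        simpa using this
      have hcen : g⁻¹ * z * g ∈ centralizer (P' : Set G) := by
        rw [mem_centralizer_iff]
        intro y hy
        have hy' : g * y * g⁻¹ ∈ P' := (mem_normalizer_iff.mp hgN y).mp hy
        have h1 : g * y * g⁻¹ * z = z * (g * y * g⁻¹) := mem_centralizer_iff.mp hzc _ hy'
        calc y * (g⁻¹ * z * g) = g⁻¹ * (g * y * g⁻¹ * z) * g := by group
          _ = g⁻¹ * (z * (g * y * g⁻¹)) * g := by rw [h1]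
          _ = g⁻¹ * z * g * y := by group
      have hpow : (g⁻¹ * z * g) ^ p = 1 := by
        have h2 : g⁻¹ * z * g = g⁻¹ * z * g⁻¹⁻¹ := by rw [inv_inv]
        rw [h2, conj_pow, hzp]
        group
      have hmemA : g⁻¹ * z * g ∈ A :=
        hmax _ hP'mem (centralizer_le (SetLike.coe_subset_coe.mpr hAP) hcen) hpow
      exact hzW _ hmemA hcen
    exact eq_of_le_of_card_ge hle (by rw [card_map_conj])
  have hZreg : (Qs : Subgroup G) ⊓ centralizer ((zpowers z : Subgroup G) : Set G) = ⊥ := by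
    by_contra h
    exact sing_dichotomy hG hE hgM hAg hqσ Qs hQM hAQ hAgQ hZA hZ1 h (by rw [hZg]; exact h)
  -- a singular point of `A`
  obtain ⟨D, hDA, hDcard, hDs⟩ := exists_sing_point hqne Qs.isPGroup' hQ1 hE.hA hE.hcard hAQ
  have hzD : z ∉ D := by
    intro h
    have : zpowers z = D := zpowers_eq_of_card_prime hDcard h hz1
    rw [← this] at hDs
    exact hDs hZreg
  -- a singular point of `B = A^{g⁻¹}`
  have hBe : IsElementaryAbelian p B := hBdef ▸ elemAb_map _ hE.hA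
  have hBcard : Nat.card B = p ^ 2 := by rw [hBdef, card_map_conj, hE.hcard]
  obtain ⟨D', hD'B, hD'card, hD's⟩ := exists_sing_point hqne Qs.isPGroup' hQ1 hBe hBcard hBQ
  obtain ⟨D'', hD''def⟩ : ∃ D'' : Subgroup G, D'' = D'.map (MulAut.conj g).toMonoidHom :=
    ⟨_, rfl⟩
  have hD''A : D'' ≤ A := by
    have := map_conj_mono hD'B g
    rwa [hBdef, map_conj_map_conj_inv, ← hD''def] at this
  have hD''card : Nat.card D'' = p := by rw [hD''def, card_map_conj, hD'card]
  have hD''g : D''.map (MulAut.conj g⁻¹).toMonoidHom = D' := by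
    rw [hD''def, map_conj_inv_map_conj]
  have hzD'' : z ∉ D'' := by
    intro h
    have h1 : zpowers z = D'' := zpowers_eq_of_card_prime hD''card h hz1
    have h2 : D' = zpowers z := by rw [← hD''g, ← h1, hZg]
    rw [h2] at hD's
    exact hD's hZreg
  obtain ⟨x, hxP, hxD⟩ := htrans D D'' hDA hD''A hDcard hD''card hzD hzD''
  have hD''s : (Qs : Subgroup G) ⊓ centralizer (D'' : Set G) ≠ ⊥ := by
    rw [hxD]
    exact sing_map_conj (hMQ (hP'M hxP)) hDs
  have hD''1 : D'' ≠ ⊥ := by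
    intro h
    rw [h, card_bot] at hD''card
    exact hpp.one_lt.ne hD''card
  exact sing_dichotomy hG hE hgM hAg hqσ Qs hQM hAQ hAgQ hD''A hD''1 hD''s
    (by rw [hD''g]; exact hD's)

end Cfsg.Agent.Helper12.BG11
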