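import Mathlib
import Cfsg.Agent.Lib.Helper12.BG11D4
import Cfsg.Agent.S1412
import Cfsg.Agent.S1453

/-!
# Bender–Glauberman Section 11, part D5   (helper12)

**BG Lemma 11.5**: the Sylow `p`-subgroups of an exceptional maximal subgroup `M` are abelian.
With `A ≤ Z(P)` (part D4) and a Sylow `p`-subgroup `S ≥ P` of `G` we get `P = C_S(A)`, and
`C_S(A)` is abelian by the structure of `S`: rank at most two (S1412: abelian or
extraspecial-central-cyclic) or narrow of rank at least three (S1453).
-/

set_option autoImplicit false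
set_option linter.unusedSectionVars false
set_option linter.style.haveILetI false

namespace Cfsg.Agent.Helper12.BG11

open Cfsg Subgroup
open Cfsg.Agent.Helper17.BG11
open scoped Pointwise

universe u

variable {G : Type u} [Group G] [Finite G] {M : Subgroup G} {p : ℕ} [Fact p.Prime]
  {A A0 : Subgroup G}

/-- the case of a Sylow `p`-subgroup containing `A` -/
theorem comm_sylow_of_le (hG : IsMinSimpleOddOrder G) (hE : Exc M p A A0) (P : Sylow p M)
    (hAP : A ≤ (P : Subgroup M).map M.subtype) :
    ∀ x ∈ (P : Subgroup M).map M.subtype, ∀ y ∈ (P : Subgroup M).map M.subtype,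
      x * y = y * x := by
  have hpp : p.Prime := Fact.out
  have hp2 : p ≠ 2 := by
    intro h
    have hdvd : p ∣ Nat.card G := hE.p_dvd_card.trans (card_subgroup_dvd_card M)
    rw [h] at hdvd
    exact (Nat.not_even_iff_odd.mpr hG.1) (even_iff_two_dvd.mpr hdvd)
  have hAZ := le_centralizer_sylow hG hE P hAP
  obtain ⟨P', hP'def⟩ : ∃ P' : Subgroup G, P' = (P : Subgroup M).map M.subtype := ⟨_, rfl⟩
  rw [← hP'def] at hAP hAZ ⊢
  have hP'p : IsPGroup p P' := hP'def ▸ P.isPGroup'.map _
  have hP'cent : P' ≤ centralizer (A : Set G) := le_centralizer_iff.mp hAZ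
  obtain ⟨S, hS⟩ := hP'p.exists_le_sylow
  suffices h : ∀ x ∈ (S : Subgroup G) ⊓ centralizer (A : Set G),
      ∀ y ∈ (S : Subgroup G) ⊓ centralizer (A : Set G), x * y = y * x by
    intro x hx y hy
    exact h x ⟨hS hx, hP'cent hx⟩ y ⟨hS hy, hP'cent hy⟩
  have hAS : A ≤ S := hAP.trans hS
  have hAA : A ≤ centralizer (A : Set G) := le_centralizer_iff_isMulCommutative.mpr hE.hA.1
  have hAc : ∀ a ∈ A, ∀ b ∈ A, a * b = b * a :=
    fun a ha b hb => mem_centralizer_iff.mp (hAA hb) a ha
  by_cases hr : PRankLE p 2 (S : Subgroup G)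
  · rcases Cfsg.Agent.S1412.result hG p S hr with hab |
      ⟨S₁, S₂, hsup, hcomm, -, hS₁card, -, hS₂cyc, hcl⟩
    · intro x hx y hy
      have hSS := le_centralizer_iff_isMulCommutative.mpr hab
      exact mem_centralizer_iff.mp (hSS hy.1) x hx.1
    · have hS₂comm : ∀ a ∈ S₂, ∀ b ∈ S₂, a * b = b * a := by
        intro a ha b hb
        letI := IsCyclic.commGroup (α := S₂)
        exact congrArg Subtype.val (mul_comm (⟨a, ha⟩ : S₂) ⟨b, hb⟩)
      have hZ : S₁ ⊓ centralizer (S₁ : Set G) ≤ S₂ := by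
        rw [← hcl, closure_le]
        intro x hx
        exact hx.1
      have hAS₂ : ¬ A ≤ S₂ := by
        intro hle
        have hcycA : IsCyclic A := by
          haveI : IsCyclic (A.subgroupOf S₂) := Subgroup.isCyclic _
          exact (subgroupOfEquivOfLe hle).isCyclic.mp inferInstance
        obtain ⟨g, hg⟩ := hcycA.exists_generator
        have hord : orderOf g = Nat.card A := orderOf_eq_card_of_forall_mem_zpowers hg
        have hgp : g ^ p = 1 := Subtype.ext (by simpa using hE.hA.2 g g.2)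
        have h1 := orderOf_dvd_of_pow_eq_one hgp
        rw [hord, hE.hcard] at h1
        have h2 : p ^ 2 ≤ p := Nat.le_of_dvd hpp.pos h1
        have h3 : p < p ^ 2 := by
          calc p = p ^ 1 := (pow_one p).symm
            _ < p ^ 2 := Nat.pow_lt_pow_right hpp.one_lt (by norm_num)
        omega
      have h := comm_centralizer_of_central_product S₁ S₂ A hcomm hS₂comm hS₁card hZ
        (hsup ▸ hAS) hAS₂
      rw [hsup] at h
      exact h
  · obtain ⟨E, hEdef⟩ : ∃ E : Subgroup (S : Subgroup G), E = A.subgroupOf S := ⟨_, rfl⟩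
    have hEe : IsElementaryAbelian p E := by
      rw [hEdef]
      refine ⟨?_, ?_⟩
      · haveI := hE.hA.1
        infer_instance
      · intro a ha
        exact Subtype.ext (by simpa using hE.hA.2 a (mem_subgroupOf.mp ha))
    have hEcard : Nat.card E = p ^ 2 := by
      rw [hEdef, Cfsg.Agent.Helper7.card_subgroupOf_of_le hAS, hE.hcard]
    have hEmax : ∀ B : Subgroup (S : Subgroup G), IsElementaryAbelian p B → E ≤ B → B = E := by
      intro B hB hEB
      have h1 : IsElementaryAbelian p (B.map (S : Subgroup G).subtype) := elemAb_map _ hB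
      have h2 : A ≤ B.map (S : Subgroup G).subtype := by
        intro a ha
        exact ⟨⟨a, hAS ha⟩, hEB (hEdef ▸ mem_subgroupOf.mpr ha), rfl⟩
      have h3 := hE.max_elem hG _ h1 h2
      rw [hEdef, ← h3]
      exact (comap_map_eq_self_of_injective (subtype_injective _) B).symm
    obtain ⟨T, hET, hTchar, hTidx⟩ : ∃ T : Subgroup (S : Subgroup G),
        ¬ E ≤ T ∧ T.Characteristic ∧ T.index = p := by
      obtain ⟨h1, -, -, h4, h5⟩ :=
        Cfsg.Agent.S1453.result p hp2 S.isPGroup' hr E hEe hEcard hEmax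
      exact ⟨_, h1, h4, h5⟩
    haveI := hTchar
    have hEc : ∀ a ∈ E, ∀ b ∈ E, a * b = b * a := by
      intro a ha b hb
      rw [hEdef, mem_subgroupOf] at ha hb
      exact Subtype.ext (hAc a ha b hb)
    have hmax' : ∀ x ∈ centralizer (E : Set (S : Subgroup G)), x ^ p = 1 → x ∈ E := by
      intro x hx hxp
      rw [hEdef, mem_subgroupOf]
      apply hE.mem_of_cent hG
      · rw [mem_centralizer_iff]
        intro a ha
        have := mem_centralizer_iff.mp hx ⟨a, hAS ha⟩ (hEdef ▸ mem_subgroupOf.mpr ha)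
        exact congrArg Subtype.val this
      · have := congrArg Subtype.val hxp
        simpa using this
    have hcomm := comm_centralizer_of_index_prime hp2 S.isPGroup' E hEc hEcard hmax' T hTidx hET
    have hlift : ∀ x (hx : x ∈ (S : Subgroup G) ⊓ centralizer (A : Set G)),
        (⟨x, hx.1⟩ : (S : Subgroup G)) ∈ centralizer (E : Set (S : Subgroup G)) := by
      intro x hx
      rw [mem_centralizer_iff]
      intro a ha
      have ha' : a ∈ A.subgroupOf S := by rw [← hEdef]; exact ha
      exact Subtype.ext (mem_centralizer_iff.mp hx.2 a (mem_subgroupOf.mp ha'))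
    intro x hx y hy
    exact congrArg Subtype.val (hcomm _ (hlift x hx) _ (hlift y hy))

/-- **BG Lemma 11.5**: every Sylow `p`-subgroup of an exceptional maximal subgroup is abelian. -/
theorem sec11_5 (hG : IsMinSimpleOddOrder G) (hE : Exc M p A A0) (P : Sylow p M) :
    IsMulCommutative (P : Subgroup M) := by
  have hAp : IsPGroup p (A.subgroupOf M) :=
    hE.isPGroup.comap_of_injective M.subtype M.subtype_injective
  obtain ⟨P₀, hP₀⟩ := hAp.exists_le_sylow
  have hAP₀ : A ≤ (P₀ : Subgroup M).map M.subtype :=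
    fun a ha => ⟨⟨a, hE.hAM ha⟩, hP₀ (mem_subgroupOf.mpr ha), rfl⟩
  have h0 := comm_sylow_of_le hG hE P₀ hAP₀
  obtain ⟨m, hm⟩ := MulAction.exists_smul_eq M P₀ P
  have key : ∀ x ∈ (P : Subgroup M), m⁻¹ * x * m ∈ (P₀ : Subgroup M) := by
    intro x hx
    rw [← hm, Sylow.smul_def, Sylow.pointwise_smul_def,
      Subgroup.mem_pointwise_smul_iff_inv_smul_mem] at hx
    simpa [MulAut.smul_def, MulAut.conj_inv_apply] using hx
  rw [← le_centralizer_iff_isMulCommutative]
  intro x hx
  rw [mem_centralizer_iff]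
  intro y hy
  have h1 := h0 _ ⟨_, key y hy, rfl⟩ _ ⟨_, key x hx, rfl⟩
  have h2 : m⁻¹ * y * m * (m⁻¹ * x * m) = m⁻¹ * x * m * (m⁻¹ * y * m) := Subtype.ext h1
  calc y * x = m * (m⁻¹ * y * m * (m⁻¹ * x * m)) * m⁻¹ := by group
    _ = m * (m⁻¹ * x * m * (m⁻¹ * y * m)) * m⁻¹ := by rw [h2]
    _ = x * y := by group

end Cfsg.Agent.Helper12.BG11
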