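import Mathlib
import Cfsg.Agent.Lib.Helper10.EODefs

/-!
# S2264 (helper10 farm-out) PIECE EO-DEG1 (helper12): a monic self-reciprocal polynomial of degree
one is `X - 1` or `X + 1`.
-/

set_option autoImplicit false

open Polynomial Matrix

namespace Cfsg.Agent.Helper10.EO

section poly
variable {F : Type*} [Field F]

/-- PIECE EO-DEG1. -/
theorem self_reciprocal_deg_one (f : F[X]) (hf : f.Monic) (hdeg : f.natDegree = 1)
    (hstar : star f = f) : f = X - 1 ∨ f = X + 1 := by
  have hfX : f = X + C (f.coeff 0) := hf.eq_X_add_C hdeg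
  set c : F := f.coeff 0 with hc
  -- coefficient one of `star f`
  have h1 : (star f).coeff 1 = c⁻¹ * c := by
    unfold star
    rw [coeff_C_mul, coeff_reverse, hdeg]
    have : (revAt 1) 1 = 0 := by decide
    rw [this]
  have h1' : f.coeff 1 = 1 := by
    have := hf.coeff_natDegree
    rwa [hdeg] at this
  have hcc : c⁻¹ * c = 1 := by rw [← h1, hstar, h1']
  have hc0 : c ≠ 0 := by
    intro h
    rw [h] at hcc
    simp at hcc
  -- coefficient zero of `star f`
  have h0 : (star f).coeff 0 = c⁻¹ := by
    unfold star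
    rw [coeff_C_mul, coeff_zero_reverse, hf.leadingCoeff, mul_one]
  have hinv : c⁻¹ = c := by
    rw [← h0, hstar]
  have hsq : c * c = 1 := by
    have := mul_inv_cancel₀ hc0
    rwa [hinv] at this
  rcases mul_self_eq_one_iff.1 hsq with h | h
  · right
    rw [hfX, h, C_1]
  · left
    rw [hfX, h, C_neg, C_1, sub_eq_add_neg]

end poly

end Cfsg.Agent.Helper10.EO
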