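import Mathlib
import Cfsg.Agent.Lib.Helper10.PCDefs

/-!
# S2276 piece GOODEQUIV: transport of `Good` along an equivalence of the underlying sets
-/

set_option autoImplicit false

namespace Cfsg.Agent.Helper10.PC

open Equiv Equiv.Perm

universe u

section general
variable {Ω : Type u} [Fintype Ω] [DecidableEq Ω]

theorem goodequiv_map {Ω' : Type*} (e : Ω ≃ Ω') (u : Perm Ω) (u' : Perm Ω')
    (hu : ∀ x, e (u x) = u' (e x)) : e.permCongrHom u = u' := by
  ext x'
  show e (u (e.symm x')) = u' x'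
  rw [hu, Equiv.apply_symm_apply]

theorem good_of_equiv {Ω' : Type*} [Fintype Ω'] [DecidableEq Ω'] (p : ℕ) (e : Ω ≃ Ω')
    (u w : Perm Ω) (u' w' : Perm Ω') (hu : ∀ x, e (u x) = u' (e x)) (hw : ∀ x, e (w x) = w' (e x))
    (H : Good p u' w') : Good p u w := by
  obtain ⟨g', hg', hP, hS⟩ := H
  set φ : Perm Ω ≃* Perm Ω' := e.permCongrHom with hφ
  have eu : φ u = u' := goodequiv_map e u u' hu
  have ew : φ w = w' := goodequiv_map e w w' hw
  set g : Perm Ω := φ.symm g' with hg
  have eg : φ g = g' := φ.apply_symm_apply g'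
  have ec : φ (g * w * g⁻¹) = g' * w' * g'⁻¹ := by
    rw [map_mul, map_mul, map_inv, eg, ew]
  refine ⟨g, ?_, ?_, ?_⟩
  · have : g = e.symm.permCongr g' := rfl
    rw [this, Equiv.Perm.sign_permCongr, hg']
  · rintro ⟨k, hk⟩
    apply hP
    refine ⟨k, ?_⟩
    have := congrArg φ hk
    rwa [map_pow, map_mul, eu, ec, map_one] at this
  · intro hsol
    apply hS
    have hmap : (Subgroup.closure ({u, g * w * g⁻¹} : Set (Perm Ω))).map φ.toMonoidHom =
        Subgroup.closure ({u', g' * w' * g'⁻¹} : Set (Perm Ω')) := by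
      rw [MonoidHom.map_closure]
      congr 1
      rw [Set.image_pair]
      show ({φ u, φ (g * w * g⁻¹)} : Set (Perm Ω')) = _
      rw [eu, ec]
    rw [← hmap]
    haveI := hsol
    exact solvable_of_surjective
      (f := (φ.toMonoidHom.subgroupMap (Subgroup.closure ({u, g * w * g⁻¹} : Set (Perm Ω)))))
      (MonoidHom.subgroupMap_surjective _ _)

end general

end Cfsg.Agent.Helper10.PC
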