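import Mathlib
import Cfsg.Agent.Lib.Helper10.PCDefs
import Cfsg.Agent.Lib.Helper10.PCBasic
import Cfsg.Agent.Lib.Helper16.PCEXT

/-!
# S2276 piece I1 (core: the statement of `cert_I1` is a hypothesis): `u` a `p`-cycle on `p ≥ 5` points
-/

set_option autoImplicit false

namespace Cfsg.Agent.Helper10.PC

open Equiv Equiv.Perm

/-- three distinct residues -/
theorem i1_tgt_inj (n : ℕ) (hn5 : 5 ≤ n) : Function.Injective (![1, 0, 2] : Fin 3 → ZMod n) := by
  haveI : Fact (1 < n) := ⟨by omega⟩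
  have h02 : (0 : ZMod n) ≠ 2 := by
    intro h
    have h2 : ((2 : ℕ) : ZMod n) = 0 := by exact_mod_cast h.symm
    rw [ZMod.natCast_eq_zero_iff] at h2
    have := Nat.le_of_dvd (by norm_num) h2
    omega
  have h12 : (1 : ZMod n) ≠ 2 := by
    intro h
    have h2 : ((1 : ℕ) : ZMod n) = 0 := by
      have : (2 : ZMod n) = 1 + 1 := by norm_num
      rw [this] at h
      have h3 : (1 : ZMod n) = 0 := by
        have := congrArg (fun x => x - 1) h
        simpa using this.symm
      exact_mod_cast h3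
    rw [ZMod.natCast_eq_zero_iff] at h2
    have := Nat.le_of_dvd (by norm_num) h2
    omega
  have h10 : (1 : ZMod n) ≠ 0 := one_ne_zero
  intro a b hab
  fin_cases a <;> fin_cases b <;> simp_all

theorem i1_core
    (cert_I1 : ∀ (p : ℕ) (hp : p.Prime) (hp5 : 5 ≤ p) [NeZero p] (w' : Perm (ZMod p))
      (hw' : IsPElt p w') (h1 : w' 1 = 0) (h0 : w' 0 = 2),
      ¬ IsPElt p (rot p * w') ∧
        ¬ Group.IsSolvable ↥(Subgroup.closure ({rot p, w'} : Set (Perm (ZMod p)))))
    (p n : ℕ) (hp : p.Prime) (hp5 : 5 ≤ p) (hn : n = p) [NeZero n]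
    (w : Perm (ZMod n)) (hw : IsPElt p w) (hw1 : w ≠ 1) : Good p (rot n) w := by
  subst hn
  obtain ⟨c, hc⟩ : ∃ c, w c ≠ c := by
    by_contra h
    push Not at h
    exact hw1 (Equiv.ext h)
  obtain ⟨j, hj⟩ := minimalPeriod_eq_prime_pow n hp w hw c
  have hL : 5 ≤ Function.minimalPeriod w c := by
    rcases Nat.eq_zero_or_pos j with rfl | hjpos
    · exfalso
      rw [pow_zero] at hj
      apply hc
      have := Function.isPeriodicPt_minimalPeriod w c
      rw [hj] at this
      exact this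
    · rw [hj]
      calc 5 ≤ n := hp5
        _ = n ^ 1 := (pow_one n).symm
        _ ≤ n ^ j := Nat.pow_le_pow_right (by omega) hjpos
  set src : Fin 3 → ZMod n := fun i => (w ^ (i : ℕ)) c with hsrc_def
  have hsrc : Function.Injective src := by
    intro a b hab
    have h := (pow_apply_eq_iff w c a b).1 hab
    have ha := a.2
    have hb := b.2
    have := Nat.ModEq.eq_of_lt_of_lt h (by omega) (by omega)
    exact Fin.ext this
  have hfree : Fintype.card (Fin 3) + 2 ≤ Fintype.card (ZMod n) := by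
    rw [ZMod.card, Fintype.card_fin]
    omega
  obtain ⟨g, hg, hgs⟩ := exists_even_extend src (![1, 0, 2] : Fin 3 → ZMod n) hsrc (i1_tgt_inj n hp5) hfree
  have e0 : g c = 1 := by
    have := hgs 0
    simpa [hsrc_def] using this
  have e1 : g (w c) = 0 := by
    have := hgs 1
    simpa [hsrc_def] using this
  have e2 : g (w (w c)) = 2 := by
    have := hgs 2
    simpa [hsrc_def, pow_two] using this
  have h1 : (g * w * g⁻¹) 1 = 0 := by
    rw [← e0]
    simp [Perm.mul_apply, e1]
  have h0 : (g * w * g⁻¹) 0 = 2 := by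
    rw [← e1]
    simp [Perm.mul_apply, e2]
  obtain ⟨hP, hS⟩ := cert_I1 n hp hp5 (g * w * g⁻¹) (isPElt_conj n g w hw) h1 h0
  exact ⟨g, hg, hP, hS⟩

end Cfsg.Agent.Helper10.PC
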