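import Mathlib
import Cfsg.Agent.Lib.Helper12.PCI1Core
import Cfsg.Agent.Lib.Helper22.PCCERTI1

/-!
# S2276 piece I1: `u` a `p`-cycle on `p ≥ 5` points
-/

set_option autoImplicit false

namespace Cfsg.Agent.Helper10.PC

open Equiv Equiv.Perm

theorem good_I1 (p n : ℕ) (hp : p.Prime) (hp5 : 5 ≤ p) (hn : n = p) [NeZero n]
    (w : Perm (ZMod n)) (hw : IsPElt p w) (hw1 : w ≠ 1) : Good p (rot n) w :=
  i1_core (fun p hp hp5 _ w' hw' h1 h0 => cert_I1 p hp hp5 w' hw' h1 h0) p n hp hp5 hn w hw hw1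

end Cfsg.Agent.Helper10.PC
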