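import Mathlib
import Cfsg.Agent.Lib.Helper10.PCDefs
import Cfsg.Agent.Lib.Helper10.PCBasic
import Cfsg.Agent.Lib.Helper16.PCEXT
import Cfsg.Agent.Lib.Helper19.PCCERTP

/-!
# S2276 piece I2A (core: the statements of `not_solvable_of_rot`, `rot12_not_mem` are hypotheses): `u` an `n`-cycle, `n = p q`, `p ≥ 5`, and `w` has a cycle of length divisible by `p²`
-/

set_option autoImplicit false

namespace Cfsg.Agent.Helper10.PC

open Equiv Equiv.Perm

/-- casts of naturals below `n` are distinct -/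
theorem i2a_cast_inj (n : ℕ) [NeZero n] (a b : ℕ) (ha : a < n) (hb : b < n)
    (h : ((a : ℕ) : ZMod n) = ((b : ℕ) : ZMod n)) : a = b := by
  have := (ZMod.natCast_eq_natCast_iff' a b n).1 h
  rwa [Nat.mod_eq_of_lt ha, Nat.mod_eq_of_lt hb] at this

/-- conjugation moves the action -/
theorem i2a_conj_apply {Ω : Type*} (g w : Perm Ω) (x : Ω) : (g * w * g⁻¹) (g x) = g (w x) := by
  simp [Perm.mul_apply]

theorem i2a_core
    (not_solvable_of_rot : ∀ (p q n : ℕ) (hp : p.Prime) (hn : n = p * q) [NeZero n]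
      (w' : Perm (ZMod n)) (m : ℕ) (s : Perm (ZMod p))
      (hm : ∀ k : ZMod p, (w' ^ m) (dmap p q n (s k)) = dmap p q n (s (k + 1)))
      (hs : s * rot p * s⁻¹ ∉ Subgroup.zpowers (rot p)),
      ¬ Group.IsSolvable ↥(Subgroup.closure ({rot n, w'} : Set (Perm (ZMod n)))))
    (rot12_not_mem : ∀ (p : ℕ) (hp : p.Prime) (hp5 : 5 ≤ p),
      (Equiv.swap (1 : ZMod p) 2) * rot p * (Equiv.swap (1 : ZMod p) 2)⁻¹ ∉
        Subgroup.zpowers (rot p))
    (p q n : ℕ) (hp : p.Prime) (hp5 : 5 ≤ p) (hq : 5 ≤ q) (hn : n = p * q) [NeZero n]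
    (w : Perm (ZMod n)) (hw : IsPElt p w) (c : ZMod n)
    (hc : p ^ 2 ∣ Function.minimalPeriod w c) : Good p (rot n) w := by
  haveI : Fact p.Prime := ⟨hp⟩
  have hp0 : 0 < p := hp.pos
  obtain ⟨j, hj⟩ := minimalPeriod_eq_prime_pow p hp w hw c
  set L := Function.minimalPeriod w c with hLdef
  -- `L = p * M`, `M ≥ 5`
  have hj2 : 2 ≤ j := by
    rw [hj] at hc
    exact (Nat.pow_dvd_pow_iff_le_right hp.one_lt).1 hc
  obtain ⟨i, rfl⟩ : ∃ i, j = i + 1 := ⟨j - 1, by omega⟩
  set M := p ^ i with hM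
  have hLM : L = p * M := by rw [hj, pow_succ, mul_comm]
  have hM5 : 5 ≤ M := by
    calc 5 ≤ p := hp5
      _ = p ^ 1 := (pow_one p).symm
      _ ≤ p ^ i := Nat.pow_le_pow_right hp0 (by omega)
  have hM0 : 0 < M := by omega
  have hn25 : 25 ≤ n := by rw [hn]; nlinarith
  -- the exponents of the sources and the targets, as natural numbers
  set esrc : ZMod p ⊕ Fin 4 → ℕ := Sum.elim (fun k => k.val * M) (fun i => i.val + 1) with hesrc
  set etgt : ZMod p ⊕ Fin 4 → ℕ :=
    Sum.elim (fun k => (Equiv.swap (1 : ZMod p) 2 k).val * q) (fun i => (![2, 3, 4, 1] : Fin 4 → ℕ) i) with hetgt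
  have hesrc_lt : ∀ x, esrc x < L := by
    rintro (k | i)
    · show k.val * M < L
      rw [hLM]
      exact Nat.mul_lt_mul_of_pos_right (ZMod.val_lt k) hM0
    · show i.val + 1 < L
      rw [hLM]
      have := i.2
      nlinarith
  have hesrc_inj : Function.Injective esrc := by
    rintro (k | i) (k' | i') h
    · have h' : k.val * M = k'.val * M := h
      have := Nat.eq_of_mul_eq_mul_right hM0 h'
      rw [ZMod.val_injective p this]
    · exfalso
      have h' : k.val * M = i'.val + 1 := h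
      have := i'.2
      rcases Nat.eq_zero_or_pos k.val with h0 | h0
      · rw [h0] at h'; omega
      · nlinarith
    · exfalso
      have h' : i.val + 1 = k'.val * M := h
      have := i.2
      rcases Nat.eq_zero_or_pos k'.val with h0 | h0
      · rw [h0] at h'; omega
      · nlinarith
    · have h' : i.val + 1 = i'.val + 1 := h
      have : i = i' := Fin.ext (by omega)
      rw [this]
  have h4lt : ∀ i : Fin 4, (![2, 3, 4, 1] : Fin 4 → ℕ) i < 5 ∧ 0 < (![2, 3, 4, 1] : Fin 4 → ℕ) i := by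
    intro i; fin_cases i <;> simp
  have h4inj : Function.Injective (![2, 3, 4, 1] : Fin 4 → ℕ) := by
    intro a b hab
    fin_cases a <;> fin_cases b <;> simp_all
  have hetgt_lt : ∀ x, etgt x < n := by
    rintro (k | i)
    · show (Equiv.swap (1 : ZMod p) 2 k).val * q < n
      rw [hn]
      exact Nat.mul_lt_mul_of_pos_right (ZMod.val_lt _) (by omega)
    · show (![2, 3, 4, 1] : Fin 4 → ℕ) i < n
      have := (h4lt i).1
      omega
  have hetgt_inj : Function.Injective etgt := by
    rintro (k | i) (k' | i') h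
    · have h' : (Equiv.swap (1 : ZMod p) 2 k).val * q = (Equiv.swap (1 : ZMod p) 2 k').val * q := h
      have := Nat.eq_of_mul_eq_mul_right (by omega : 0 < q) h'
      have := (Equiv.swap (1 : ZMod p) 2).injective (ZMod.val_injective p this)
      rw [this]
    · exfalso
      have h' : (Equiv.swap (1 : ZMod p) 2 k).val * q = (![2, 3, 4, 1] : Fin 4 → ℕ) i' := h
      have := h4lt i'
      rcases Nat.eq_zero_or_pos (Equiv.swap (1 : ZMod p) 2 k).val with h0 | h0
      · rw [h0] at h'; omega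
      · nlinarith
    · exfalso
      have h' : (![2, 3, 4, 1] : Fin 4 → ℕ) i = (Equiv.swap (1 : ZMod p) 2 k').val * q := h
      have := h4lt i
      rcases Nat.eq_zero_or_pos (Equiv.swap (1 : ZMod p) 2 k').val with h0 | h0
      · rw [h0] at h'; omega
      · nlinarith
    · have h' : (![2, 3, 4, 1] : Fin 4 → ℕ) i = (![2, 3, 4, 1] : Fin 4 → ℕ) i' := h
      rw [h4inj h']
  set src : ZMod p ⊕ Fin 4 → ZMod n := fun x => (w ^ esrc x) c with hsrc_def
  set tgt : ZMod p ⊕ Fin 4 → ZMod n := fun x => ((etgt x : ℕ) : ZMod n) with htgt_def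
  have hsrc : Function.Injective src := by
    intro a b hab
    have h := (pow_apply_eq_iff w c (esrc a) (esrc b)).1 hab
    exact hesrc_inj (Nat.ModEq.eq_of_lt_of_lt h (hesrc_lt a) (hesrc_lt b))
  have htgt : Function.Injective tgt := by
    intro a b hab
    exact hetgt_inj (i2a_cast_inj n _ _ (hetgt_lt a) (hetgt_lt b) hab)
  have hfree : Fintype.card (ZMod p ⊕ Fin 4) + 2 ≤ Fintype.card (ZMod n) := by
    rw [Fintype.card_sum, ZMod.card, ZMod.card, Fintype.card_fin, hn]
    nlinarith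
  obtain ⟨g, hg, hgs⟩ := exists_even_extend src tgt hsrc htgt hfree
  -- the values of `g`
  have gk : ∀ k : ZMod p, g ((w ^ (k.val * M)) c) = dmap p q n (Equiv.swap (1 : ZMod p) 2 k) := fun k => hgs (Sum.inl k)
  have e1 : g (w c) = 2 := by
    have := hgs (Sum.inr 0)
    simpa [hsrc_def, htgt_def, hesrc, hetgt] using this
  have e2 : g (w (w c)) = 3 := by
    have := hgs (Sum.inr 1)
    simpa [hsrc_def, htgt_def, hesrc, hetgt, pow_succ] using this
  have e3 : g (w (w (w c))) = 4 := by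
    have := hgs (Sum.inr 2)
    simpa [hsrc_def, htgt_def, hesrc, hetgt, pow_succ] using this
  have e4 : g (w (w (w (w c)))) = 1 := by
    have := hgs (Sum.inr 3)
    simpa [hsrc_def, htgt_def, hesrc, hetgt, pow_succ] using this
  set w' := g * w * g⁻¹ with hw'
  have w2 : w' 2 = 3 := by rw [← e1, hw', i2a_conj_apply, e2]
  have w4 : w' 4 = 1 := by rw [← e3, hw', i2a_conj_apply, e4]
  have h24 : (2 : ZMod n) ≠ 4 := by
    intro h
    have h' : ((2 : ℕ) : ZMod n) = ((4 : ℕ) : ZMod n) := by exact_mod_cast h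
    have := i2a_cast_inj n 2 4 (by omega) (by omega) h'
    omega
  refine ⟨g, hg, ?_, ?_⟩
  · -- `rot n * w'` swaps `2` and `4`
    apply not_isPElt_of_two_cycle p (hp.odd_of_ne_two (by omega)) (rot n * w') 2 4 h24
    · rw [Perm.mul_apply, w2, rot_apply]; norm_num
    · rw [Perm.mul_apply, w4, rot_apply]; norm_num
  · apply not_solvable_of_rot p q n hp hn w' M (Equiv.swap (1 : ZMod p) 2) ?_ (rot12_not_mem p hp hp5)
    intro k
    rw [← gk k, ← gk (k + 1), hw', conj_pow_apply]
    congr 1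
    rw [← Perm.mul_apply, ← pow_add]
    apply (pow_apply_eq_iff w c _ _).2
    show M + k.val * M ≡ (k + 1).val * M [MOD L]
    rw [hLM]
    have h1 : (k + 1).val = (k.val + 1) % p := by
      rw [ZMod.val_add, ZMod.val_one]
    have h2 : (k.val + 1) % p ≡ k.val + 1 [MOD p] := Nat.mod_modEq _ _
    have h3 := Nat.ModEq.mul_right' M h2
    rw [h1]
    have h4 : M + k.val * M = (k.val + 1) * M := by ring
    rw [h4]
    exact h3.symm

end Cfsg.Agent.Helper10.PC
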