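import Mathlib
import Cfsg.Agent.Lib.Helper12.PCI2ACore
import Cfsg.Agent.Lib.Helper19.PCNSROT

/-!
# S2276 piece I2A: `u` an `n`-cycle, `n = p q`, `p ≥ 5`, and `w` has a cycle of length divisible by `p²`
-/

set_option autoImplicit false

namespace Cfsg.Agent.Helper10.PC

open Equiv Equiv.Perm

theorem good_I2A (p q n : ℕ) (hp : p.Prime) (hp5 : 5 ≤ p) (hq : 5 ≤ q) (hn : n = p * q) [NeZero n]
    (w : Perm (ZMod n)) (hw : IsPElt p w) (c : ZMod n)
    (hc : p ^ 2 ∣ Function.minimalPeriod w c) : Good p (rot n) w :=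
  i2a_core (fun p q n hp hn _ w' m s hm hs => not_solvable_of_rot p q n hp hn w' m s hm hs)
    (fun p hp hp5 => rot12_not_mem p hp hp5) p q n hp hp5 hq hn w hw c hc

end Cfsg.Agent.Helper10.PC
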