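import Mathlib
import Cfsg.Agent.Lib.Helper10.PUDefs

/-!
# S2263 (helper10 farm-out) PIECE PU-PRODDVD (helper12): a product of monic irreducible divisors of
`X^L - c` with multiplicities at most `p^t` divides `X^(L p^t) - c^(p^t)`.
-/

set_option autoImplicit false

namespace Cfsg.Agent.Helper10.PU

open Polynomial Matrix

section poly
variable {F : Type*} [Field F]

/-- PIECE PU-PRODDVD. -/
theorem prod_dvd_of_forall_dvd_C [DecidableEq F[X]] (p : ℕ) [Fact p.Prime] [CharP F p]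
    (s : Multiset F[X]) (hs : ∀ f ∈ s, f.Monic ∧ Irreducible f) (L t : ℕ) (c : F)
    (hL : ∀ f ∈ s, f ∣ X ^ L - C c) (hc : ∀ f, s.count f ≤ p ^ t) :
    s.prod ∣ X ^ (L * p ^ t) - C (c ^ p ^ t) := by
  have hpow : ((X : F[X]) ^ L - C c) ^ (p ^ t) = X ^ (L * p ^ t) - C (c ^ p ^ t) := by
    rw [sub_pow_char_pow, ← pow_mul, C_pow]
  rw [Finset.prod_multiset_count]
  apply Finset.prod_dvd_of_coprime
  · intro f hf g hg hfg
    have hf' := hs f (Multiset.mem_toFinset.mp hf)
    have hg' := hs g (Multiset.mem_toFinset.mp hg)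
    apply IsCoprime.pow
    rw [hf'.2.coprime_iff_not_dvd]
    intro hdvd
    exact hfg (eq_of_monic_of_associated hf'.1 hg'.1 (hf'.2.associated_of_dvd hg'.2 hdvd))
  · intro f hf
    have hf' := Multiset.mem_toFinset.mp hf
    calc f ^ s.count f ∣ f ^ (p ^ t) := pow_dvd_pow _ (hc f)
      _ ∣ ((X : F[X]) ^ L - C c) ^ (p ^ t) := pow_dvd_pow_of_dvd (hL f hf') _
      _ = X ^ (L * p ^ t) - C (c ^ p ^ t) := hpow

end poly

end Cfsg.Agent.Helper10.PU
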