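import Mathlib
import Cfsg.Agent.Lib.Helper10.EODefs
import Cfsg.Agent.Lib.Helper20.EOMINPOLY
import Cfsg.Agent.Lib.Helper21.EOSTAR1

/-!
# S2262 (helper17 farm-out) PIECE AO-MINT (helper12): the minimal polynomial of a matrix `A` with
`(A^σ)ᵀ J A = J` has nonzero constant term and its monic reciprocal is its `σ`-twist.
-/

set_option autoImplicit false

namespace Cfsg.Agent.Helper17.AO

open Polynomial Matrix
open Cfsg.Agent.Helper10.EO (star)

section mat
variable {F : Type*} [Field F] {n : ℕ}

theorem ao_mint_pow_rel (A B J : Matrix (Fin n) (Fin n) F) (hA : B * J * A = J) (j : ℕ) :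
    B ^ j * J * A ^ j = J := by
  induction j with
  | zero => simp
  | succ j ih =>
    calc B ^ (j + 1) * J * A ^ (j + 1)
        = B ^ j * (B * J * A) * A ^ j := by
          rw [pow_succ, pow_succ']
          simp only [Matrix.mul_assoc]
      _ = J := by rw [hA, ih]

/-- if `p(B) = 0` and `B J A = J` with `J` invertible then the reverse of `p` kills `A` -/
theorem ao_mint_aeval_reverse (A B J : Matrix (Fin n) (Fin n) F) (hJ : IsUnit J.det)
    (hA : B * J * A = J) (p : F[X]) (hp : aeval B p = 0) : aeval A p.reverse = 0 := by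
  have key : J * aeval A p.reverse = (aeval B p) * J * A ^ p.natDegree := by
    rw [Cfsg.Agent.Helper10.EO.eo_minpoly_reflect_sum, Finset.mul_sum, aeval_eq_sum_range,
      Finset.sum_mul, Finset.sum_mul]
    refine Finset.sum_congr rfl fun j hj => ?_
    have hj' : j ≤ p.natDegree := Nat.lt_succ_iff.1 (Finset.mem_range.1 hj)
    rw [Matrix.mul_smul, Matrix.smul_mul, Matrix.smul_mul]
    congr 1
    have h2 : A ^ p.natDegree = A ^ j * A ^ (p.natDegree - j) := by
      rw [← pow_add]; congr 1; omega
    rw [h2, ← Matrix.mul_assoc, ao_mint_pow_rel A B J hA j]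
  rw [hp, Matrix.zero_mul, Matrix.zero_mul] at key
  have hJ' : IsUnit J := (Matrix.isUnit_iff_isUnit_det J).2 hJ
  exact (hJ'.mul_right_eq_zero).1 key

/-- the `σ`-twist of a polynomial killing `A` kills `(A^σ)ᵀ` -/
theorem ao_mint_aeval_twist (σ : RingAut F) (A : Matrix (Fin n) (Fin n) F) (p : F[X])
    (hp : aeval A p = 0) : aeval (A.map σ)ᵀ (p.map (σ : F →+* F)) = 0 := by
  rw [Cfsg.Agent.Helper10.EO.eo_minpoly_aeval_transpose]
  have h : (algebraMap F (Matrix (Fin n) (Fin n) F)).comp (σ : F →+* F) =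
      ((σ : F →+* F).mapMatrix).comp (algebraMap F (Matrix (Fin n) (Fin n) F)) := by
    ext c i j
    simp only [RingHom.comp_apply, Matrix.algebraMap_matrix_apply, RingHom.mapMatrix_apply,
      Matrix.map_apply]
    by_cases hij : i = j
    · simp [hij]
    · simp [hij]
  have h1 := Polynomial.map_aeval_eq_aeval_map h p A
  rw [hp, map_zero] at h1
  have h2 : (σ : F →+* F).mapMatrix A = A.map σ := rfl
  rw [h2] at h1
  rw [← h1, Matrix.transpose_zero]

/-- AO-MINT -/
theorem minpoly_twisted (σ : RingAut F) (hn : 1 ≤ n) (A J : Matrix (Fin n) (Fin n) F)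
    (hJ : IsUnit J.det) (hA : (A.map σ)ᵀ * J * A = J) :
    (minpoly F A).coeff 0 ≠ 0 ∧ star (minpoly F A) = (minpoly F A).map (σ : F →+* F) := by
  have hint : IsIntegral F A := Matrix.isIntegral A
  have hmonic : (minpoly F A).Monic := minpoly.monic hint
  have hne : minpoly F A ≠ 0 := hmonic.ne_zero
  -- `A` is invertible
  have hdetA : IsUnit A.det := by
    have h := congrArg Matrix.det hA
    rw [Matrix.det_mul, Matrix.det_mul, Matrix.det_transpose] at h
    have hJ0 : J.det ≠ 0 := hJ.ne_zero
    have h1 : (A.map σ).det * A.det = 1 := by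
      have h2 : ((A.map σ).det * A.det) * J.det = 1 * J.det :=
        calc ((A.map σ).det * A.det) * J.det = (A.map σ).det * J.det * A.det := by ring
          _ = J.det := h
          _ = 1 * J.det := (one_mul _).symm
      exact mul_right_cancel₀ hJ0 h2
    exact IsUnit.of_mul_eq_one _ (by rw [mul_comm]; exact h1)
  have hAu : IsUnit A := (Matrix.isUnit_iff_isUnit_det A).2 hdetA
  -- constant coefficient
  have hc0 : (minpoly F A).coeff 0 ≠ 0 := by
    intro h0
    have hX : (X : F[X]) ∣ minpoly F A := X_dvd_iff.2 h0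
    obtain ⟨g, hg⟩ := hX
    have hg0 : g ≠ 0 := by
      rintro rfl
      rw [mul_zero] at hg
      exact hne hg
    have h1 : aeval A (minpoly F A) = 0 := minpoly.aeval F A
    rw [hg, map_mul, aeval_X] at h1
    have h2 : aeval A g = 0 := (hAu.mul_right_eq_zero).1 h1
    have h3 : minpoly F A ∣ g := minpoly.dvd F A h2
    have h4 : (minpoly F A).natDegree ≤ g.natDegree := natDegree_le_of_dvd h3 hg0
    have h5 : (minpoly F A).natDegree = g.natDegree + 1 := by
      rw [hg, natDegree_mul X_ne_zero hg0, natDegree_X, add_comm]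
    omega
  refine ⟨hc0, ?_⟩
  -- the twist `ν` of the minimal polynomial
  set ν : F[X] := (minpoly F A).map (σ : F →+* F) with hν
  have hinj : Function.Injective (σ : F →+* F) := (σ : F →+* F).injective
  have hνmonic : ν.Monic := hmonic.map _
  have hνdeg : ν.natDegree = (minpoly F A).natDegree := natDegree_map_eq_of_injective hinj _
  have hνc0 : ν.coeff 0 ≠ 0 := by
    rw [hν, coeff_map]
    intro h
    exact hc0 (hinj (by rw [h, map_zero]))
  have hνne : ν ≠ 0 := hνmonic.ne_zero
  -- the reverse of `ν` kills `A`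
  have hrev : aeval A ν.reverse = 0 :=
    ao_mint_aeval_reverse A (A.map σ)ᵀ J hJ hA ν (ao_mint_aeval_twist σ A _ (minpoly.aeval F A))
  have hdvd : minpoly F A ∣ ν.reverse := minpoly.dvd F A hrev
  have htr : ν.natTrailingDegree = 0 := natTrailingDegree_eq_zero.2 (Or.inr hνc0)
  have hdeg : ν.reverse.natDegree = ν.natDegree := by
    rw [reverse_natDegree, htr, Nat.sub_zero]
  have hlead : ν.reverse.leadingCoeff = ν.coeff 0 := by
    rw [reverse_leadingCoeff, trailingCoeff, htr]
  have hrne : ν.reverse ≠ 0 := fun h => hνne (reverse_eq_zero.1 h)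
  obtain ⟨g, hg⟩ := hdvd
  have hg0 : g ≠ 0 := by
    rintro rfl
    rw [mul_zero] at hg
    exact hrne hg
  have hgdeg : g.natDegree = 0 := by
    have h1 : ν.reverse.natDegree = (minpoly F A).natDegree + g.natDegree := by
      rw [hg, natDegree_mul hne hg0]
    omega
  obtain ⟨c, hc⟩ : ∃ c, g = C c := ⟨g.coeff 0, eq_C_of_natDegree_eq_zero hgdeg⟩
  have hcval : c = ν.coeff 0 := by
    have h1 : ν.reverse.leadingCoeff = c := by
      rw [hg, hc, leadingCoeff_mul, hmonic.leadingCoeff, one_mul, leadingCoeff_C]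
    rw [← h1, hlead]
  -- `minpoly = star ν`
  have hstar : star ν = minpoly F A := by
    unfold Cfsg.Agent.Helper10.EO.star
    rw [hg, hc, hcval, mul_comm (minpoly F A) _, ← mul_assoc, ← C_mul, inv_mul_cancel₀ hνc0, C_1,
      one_mul]
  have hss := (Cfsg.Agent.Helper10.EO.star_facts ν hνc0).2.2.2 hνmonic
  rw [hstar] at hss
  exact hss

end mat

end Cfsg.Agent.Helper17.AO
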