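import Mathlib
import Cfsg.Agent.Lib.Helper2.SympGen

set_option autoImplicit false

/-!
# Siegel elements of the symplectic group

`Tm a b` (for orthogonal `a`, `b`) is the isometry `x ↦ x + B(x,b) a + B(x,a) b`, written as a
product of three transvections.  Basic algebra of these elements and of transvections, in the
vector-action language of `Cfsg.Agent.Helper2.Symp`.
-/

namespace Cfsg.Agent.Helper12.SpGen

open Matrix
open Cfsg.Agent.Helper2.Symp
open scoped Cfsg.Agent.Helper2.Symp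

variable {m : ℕ} {F : Type*} [Field F]

theorem Bf_symm_zero {a b : Fin m ⊕ Fin m → F} (h : Bf a b = 0) : Bf b a = 0 := by
  rw [Bf_skew, h, neg_zero]

/-- the Siegel element attached to two orthogonal vectors -/
def Tm (a b : Fin m ⊕ Fin m → F) : Matrix.symplecticGroup (Fin m) F :=
  tv (a + b) 1 * tv a (-1) * tv b (-1)

theorem Tm_smul {a b : Fin m ⊕ Fin m → F} (h : Bf a b = 0) (x : Fin m ⊕ Fin m → F) :
    Tm a b • x = x + Bf x b • a + Bf x a • b := by
  have h' : Bf b a = 0 := Bf_symm_zero h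
  unfold Tm
  rw [mul_smul, mul_smul, tv_smul, tv_smul, tv_smul]
  simp only [Bf_add_left, Bf_add_right, Bf_smul_left, Bf_self, h, h', mul_zero, add_zero,
    one_mul, neg_mul]
  module

theorem conj_Tm (g : Matrix.symplecticGroup (Fin m) F) (a b : Fin m ⊕ Fin m → F) :
    g * Tm a b * g⁻¹ = Tm (g • a) (g • b) := by
  unfold Tm
  rw [← smul_add, ← conj_tv, ← conj_tv, ← conj_tv]
  group

theorem Tm_zero_left (b : Fin m ⊕ Fin m → F) : Tm (0 : Fin m ⊕ Fin m → F) b = 1 := by
  unfold Tm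
  rw [zero_add, tv_zero_left, mul_one, tv_mul_tv, add_neg_cancel, tv_zero_right]

theorem Tm_comm {a b : Fin m ⊕ Fin m → F} (h : Bf a b = 0) : Tm a b = Tm b a := by
  apply ext_smul
  intro x
  rw [Tm_smul h, Tm_smul (Bf_symm_zero h)]
  abel

theorem Tm_zero_right (a : Fin m ⊕ Fin m → F) : Tm a (0 : Fin m ⊕ Fin m → F) = 1 := by
  rw [Tm_comm (Bf_zero_right a), Tm_zero_left]

theorem Tm_add_left {a a' b : Fin m ⊕ Fin m → F} (h : Bf a b = 0) (h' : Bf a' b = 0) :
    Tm a b * Tm a' b = Tm (a + a') b * tv b (Bf a' a) := by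
  have h2 : Bf (a + a') b = 0 := by rw [Bf_add_left, h, h', add_zero]
  have hb : Bf b a = 0 := Bf_symm_zero h
  have hb' : Bf b a' = 0 := Bf_symm_zero h'
  apply ext_smul
  intro x
  rw [mul_smul, mul_smul, Tm_smul h', Tm_smul h, tv_smul, Tm_smul h2]
  simp only [Bf_add_left, Bf_add_right, Bf_smul_left, Bf_self, h', hb, hb', mul_zero, add_zero]
  module

theorem Tm_add_right {a b b' : Fin m ⊕ Fin m → F} (h : Bf a b = 0) (h' : Bf a b' = 0) :
    Tm a b * Tm a b' = Tm a (b + b') * tv a (Bf b' b) := by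
  have e1 : Bf b a = 0 := Bf_symm_zero h
  have e2 : Bf b' a = 0 := Bf_symm_zero h'
  have e3 : Bf a (b + b') = 0 := by rw [Bf_add_right, h, h', add_zero]
  rw [Tm_comm h, Tm_comm h', Tm_comm e3, Tm_add_left e1 e2]

theorem Tm_smul_left {a b : Fin m ⊕ Fin m → F} (h : Bf a b = 0) (c : F) :
    Tm (c • a) b = Tm a (c • b) := by
  have h1 : Bf (c • a) b = 0 := by rw [Bf_smul_left, h, mul_zero]
  have h2 : Bf a (c • b) = 0 := by rw [Bf_smul_right, h, mul_zero]
  apply ext_smul
  intro x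
  rw [Tm_smul h1, Tm_smul h2]
  simp only [Bf_smul_right]
  module

theorem Tm_neg_left {a b : Fin m ⊕ Fin m → F} (h : Bf a b = 0) : Tm (-a) b = (Tm a b)⁻¹ := by
  have h1 : Bf (-a) b = 0 := by rw [Bf_neg_left, h, neg_zero]
  symm
  rw [inv_eq_iff_mul_eq_one, Tm_add_left h h1, add_neg_cancel, Tm_zero_left, one_mul,
    Bf_neg_left, Bf_self, neg_zero, tv_zero_right]

theorem Tm_neg_right {a b : Fin m ⊕ Fin m → F} (h : Bf a b = 0) : Tm a (-b) = (Tm a b)⁻¹ := by
  have h1 : Bf b a = 0 := Bf_symm_zero h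
  have h2 : Bf a (-b) = 0 := by rw [Bf_neg_right, h, neg_zero]
  rw [Tm_comm h2, Tm_neg_left h1, Tm_comm h]

theorem Tm_pow {a b : Fin m ⊕ Fin m → F} (h : Bf a b = 0) (k : ℕ) :
    (Tm a b) ^ k = Tm ((k : F) • a) b := by
  induction k with
  | zero => rw [pow_zero, Nat.cast_zero, zero_smul, Tm_zero_left]
  | succ k ih =>
    have h1 : Bf ((k : F) • a) b = 0 := by rw [Bf_smul_left, h, mul_zero]
    rw [pow_succ, ih, Tm_add_left h1 h, Bf_smul_right, Bf_self, mul_zero, tv_zero_right, mul_one,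
      Nat.cast_succ, add_smul, one_smul]

/-- a transvection along a sum of two orthogonal vectors -/
theorem tv_add_orth {a b : Fin m ⊕ Fin m → F} (h : Bf a b = 0) (c : F) :
    tv (a + b) c = tv a c * tv b c * Tm a (c • b) := by
  have h1 : Bf a (c • b) = 0 := by rw [Bf_smul_right, h, mul_zero]
  have hb : Bf b a = 0 := Bf_symm_zero h
  apply ext_smul
  intro x
  rw [mul_smul, mul_smul, Tm_smul h1, tv_smul, tv_smul, tv_smul]
  simp only [Bf_add_left, Bf_add_right, Bf_smul_left, Bf_smul_right, Bf_self, h, hb, mul_zero,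
    add_zero]
  module

theorem tv_commute_Tm_right {a b : Fin m ⊕ Fin m → F} (h : Bf a b = 0) (c : F) :
    tv b c * Tm a b = Tm a b * tv b c := by
  have hb : Bf b a = 0 := Bf_symm_zero h
  apply ext_smul
  intro x
  rw [mul_smul, mul_smul, Tm_smul h, tv_smul, tv_smul, Tm_smul h]
  simp only [Bf_add_left, Bf_smul_left, Bf_self, hb, h, mul_zero, add_zero]
  module

theorem tv_commute_Tm_left {a b : Fin m ⊕ Fin m → F} (h : Bf a b = 0) (c : F) :
    tv a c * Tm a b = Tm a b * tv a c := by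
  rw [Tm_comm h, tv_commute_Tm_right (Bf_symm_zero h)]

/-- an element fixing `v` commutes with the transvections along `v` -/
theorem commute_tv_of_smul_eq {g : Matrix.symplecticGroup (Fin m) F} {v : Fin m ⊕ Fin m → F}
    (h : g • v = v) (c : F) : g * tv v c = tv v c * g := by
  have := conj_tv g v c
  rw [h] at this
  calc g * tv v c = (g * tv v c * g⁻¹) * g := by group
    _ = tv v c * g := by rw [this]

theorem commute_Tm_of_smul_eq {g : Matrix.symplecticGroup (Fin m) F} {a b : Fin m ⊕ Fin m → F}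
    (ha : g • a = a) (hb : g • b = b) : g * Tm a b = Tm a b * g := by
  have := conj_Tm g a b
  rw [ha, hb] at this
  calc g * Tm a b = (g * Tm a b * g⁻¹) * g := by group
    _ = Tm a b * g := by rw [this]

section subgroup

variable (H : Subgroup (Matrix.symplecticGroup (Fin m) F))

theorem conj_mem {g x : Matrix.symplecticGroup (Fin m) F} (hg : g ∈ H) (hx : x ∈ H) :
    g * x * g⁻¹ ∈ H := H.mul_mem (H.mul_mem hg hx) (H.inv_mem hg)

theorem tv_smul_mem {g : Matrix.symplecticGroup (Fin m) F} (hg : g ∈ H)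
    {v : Fin m ⊕ Fin m → F} {c : F} (hv : tv v c ∈ H) : tv (g • v) c ∈ H := by
  rw [← conj_tv]
  exact conj_mem H hg hv

theorem Tm_smul_mem {g : Matrix.symplecticGroup (Fin m) F} (hg : g ∈ H)
    {a b : Fin m ⊕ Fin m → F} (hv : Tm a b ∈ H) : Tm (g • a) (g • b) ∈ H := by
  rw [← conj_Tm]
  exact conj_mem H hg hv

/-- the vectors all of whose transvections lie in `H` -/
def Xset : Set (Fin m ⊕ Fin m → F) := {v | ∀ c : F, tv v c ∈ H}

variable {H}

theorem Xset_zero : (0 : Fin m ⊕ Fin m → F) ∈ Xset H := by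
  intro c
  rw [tv_zero_left]
  exact H.one_mem

theorem Xset_smul_mem {g : Matrix.symplecticGroup (Fin m) F} (hg : g ∈ H)
    {v : Fin m ⊕ Fin m → F} (hv : v ∈ Xset H) : g • v ∈ Xset H :=
  fun c => tv_smul_mem H hg (hv c)

theorem Xset_smul {v : Fin m ⊕ Fin m → F} (hv : v ∈ Xset H) (a : F) : a • v ∈ Xset H := by
  intro c
  rw [tv_smul_vec]
  exact hv _

theorem Xset_add_smul {x y : Fin m ⊕ Fin m → F} (hx : x ∈ Xset H) (hy : y ∈ Xset H)
    (h : Bf x y ≠ 0) (t : F) : x + t • y ∈ Xset H := by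
  have h1 := Xset_smul_mem (hy (t / Bf x y)) hx
  rw [tv_smul, div_mul_cancel₀ _ h] at h1
  exact h1

theorem Xset_span {x y : Fin m ⊕ Fin m → F} (hx : x ∈ Xset H) (hy : y ∈ Xset H)
    (h : Bf x y ≠ 0) (α β : F) : α • x + β • y ∈ Xset H := by
  by_cases hα : α = 0
  · rw [hα, zero_smul, zero_add]
    exact Xset_smul hy β
  · have h1 := Xset_smul (Xset_add_smul hx hy h (β / α)) α
    rw [smul_add, smul_smul, mul_div_cancel₀ _ hα] at h1
    exact h1

theorem Tm_mem_of_Xset {a b : Fin m ⊕ Fin m → F} (ha : a ∈ Xset H) (hb : b ∈ Xset H)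
    (hab : a + b ∈ Xset H) : Tm a b ∈ H :=
  H.mul_mem (H.mul_mem (hab 1) (ha (-1))) (hb (-1))

end subgroup

end Cfsg.Agent.Helper12.SpGen
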