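import Mathlib
import Cfsg.Agent.Lib.Helper12.SpGenA

set_option autoImplicit false

/-!
# The standard regular unipotent element of `Sp_{2n}`, `n = N + 2`

Basis vectors indexed by natural numbers, the root elements `x_{e_i - e_{i+1}}(1)`, the partial
products `Zp d` (so that `Zp (N+1)` is the regular unipotent `u`), and their action on the basis.
-/

namespace Cfsg.Agent.Helper12.SpGen

open Matrix
open Cfsg.Agent.Helper2.Symp
open scoped Cfsg.Agent.Helper2.Symp

variable {N : ℕ} {F : Type*} [Field F]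

/-- the index `k` (taken modulo `N + 2`) -/
def ix (N k : ℕ) : Fin (N + 2) := ⟨k % (N + 2), Nat.mod_lt _ (by omega)⟩

theorem ix_val {k : ℕ} (h : k < N + 2) : (ix N k).val = k := Nat.mod_eq_of_lt h

theorem ix_ne {i j : ℕ} (hi : i < N + 2) (hj : j < N + 2) (h : i ≠ j) : ix N i ≠ ix N j := by
  intro e
  have := congrArg Fin.val e
  rw [ix_val hi, ix_val hj] at this
  exact h this

theorem ix_surj (a : Fin (N + 2)) : ∃ k, k < N + 2 ∧ ix N k = a :=
  ⟨a.val, a.isLt, Fin.ext (ix_val a.isLt)⟩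

/-- the basis vector `e_k` -/
def ev (N : ℕ) (F : Type*) [Field F] (k : ℕ) : Fin (N + 2) ⊕ Fin (N + 2) → F := eV (ix N k)

/-- the basis vector `f_k` -/
def fv (N : ℕ) (F : Type*) [Field F] (k : ℕ) : Fin (N + 2) ⊕ Fin (N + 2) → F := fV (ix N k)

@[simp] theorem Bf_ev_ev (i j : ℕ) : Bf (ev N F i) (ev N F j) = 0 := by
  unfold ev
  rw [Bf_eV_left]
  simp [eV]

@[simp] theorem Bf_fv_fv (i j : ℕ) : Bf (fv N F i) (fv N F j) = 0 := by
  unfold fv
  rw [Bf_fV_left]
  simp [fV]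

@[simp] theorem Bf_fv_ev_self (i : ℕ) : Bf (fv N F i) (ev N F i) = 1 := Bf_fV_eV _

@[simp] theorem Bf_ev_fv_self (i : ℕ) : Bf (ev N F i) (fv N F i) = -1 := by
  rw [Bf_skew, Bf_fv_ev_self]

theorem Bf_fv_ev_of_ne {i j : ℕ} (h : ix N i ≠ ix N j) : Bf (fv N F i) (ev N F j) = 0 := by
  unfold fv ev
  rw [Bf_fV_left]
  simp [eV, h.symm]

theorem Bf_ev_fv_of_ne {i j : ℕ} (h : ix N i ≠ ix N j) : Bf (ev N F i) (fv N F j) = 0 := by
  rw [Bf_skew, Bf_fv_ev_of_ne h.symm, neg_zero]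

theorem ev_ne_zero (i : ℕ) : ev N F i ≠ 0 := eV_ne_zero _

theorem fv_ne_zero (i : ℕ) : fv N F i ≠ 0 := fV_ne_zero _

/-- coordinates of a vector -/
theorem Bf_ev_right' (x : Fin (N + 2) ⊕ Fin (N + 2) → F) (i : ℕ) :
    Bf x (ev N F i) = x (Sum.inr (ix N i)) := Bf_eV_right x _

theorem Bf_fv_right' (x : Fin (N + 2) ⊕ Fin (N + 2) → F) (i : ℕ) :
    Bf x (fv N F i) = - x (Sum.inl (ix N i)) := Bf_fV_right x _

/-- a vector orthogonal to all basis vectors is zero -/
theorem eq_zero_of_Bf_basis {x : Fin (N + 2) ⊕ Fin (N + 2) → F}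
    (he : ∀ k, k < N + 2 → Bf x (ev N F k) = 0) (hf : ∀ k, k < N + 2 → Bf x (fv N F k) = 0) :
    x = 0 := by
  funext a
  rcases a with a | a
  · obtain ⟨k, hk, rfl⟩ := ix_surj a
    have := hf k hk
    rw [Bf_fv_right', neg_eq_zero] at this
    exact this
  · obtain ⟨k, hk, rfl⟩ := ix_surj a
    have := he k hk
    rw [Bf_ev_right'] at this
    exact this

/-- the root element `x_{e_i - e_{i+1}}(1)` -/
def rootA (N : ℕ) (F : Type*) [Field F] (i : ℕ) : Matrix.symplecticGroup (Fin (N + 2)) F :=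
  Tm (ev N F i) (-fv N F (i + 1))

theorem rootA_orth {i : ℕ} (hi : i + 1 < N + 2) : Bf (ev N F i) (-fv N F (i + 1)) = 0 := by
  rw [Bf_neg_right, Bf_ev_fv_of_ne (ix_ne (by omega) hi (by omega)), neg_zero]

theorem rootA_smul {i : ℕ} (hi : i + 1 < N + 2) (x : Fin (N + 2) ⊕ Fin (N + 2) → F) :
    rootA N F i • x = x - Bf x (fv N F (i + 1)) • ev N F i - Bf x (ev N F i) • fv N F (i + 1) := by
  unfold rootA
  rw [Tm_smul (rootA_orth hi), Bf_neg_right]
  module

theorem rootA_inv_smul {i : ℕ} (hi : i + 1 < N + 2) (x : Fin (N + 2) ⊕ Fin (N + 2) → F) :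
    (rootA N F i)⁻¹ • x
      = x + Bf x (fv N F (i + 1)) • ev N F i + Bf x (ev N F i) • fv N F (i + 1) := by
  unfold rootA
  have h0 := rootA_orth (F := F) hi
  rw [← Tm_neg_right h0, neg_neg]
  have h1 : Bf (ev N F i) (fv N F (i + 1)) = 0 := Bf_ev_fv_of_ne (ix_ne (by omega) hi (by omega))
  rw [Tm_smul h1]

theorem rootA_smul_ev {i k : ℕ} (hi : i + 1 < N + 2) (hk : k < N + 2) (h : k ≠ i + 1) :
    rootA N F i • ev N F k = ev N F k := by
  rw [rootA_smul hi, Bf_ev_ev, Bf_ev_fv_of_ne (ix_ne hk hi h)]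
  simp

theorem rootA_smul_ev_succ {i : ℕ} (hi : i + 1 < N + 2) :
    rootA N F i • ev N F (i + 1) = ev N F (i + 1) + ev N F i := by
  rw [rootA_smul hi, Bf_ev_ev, Bf_ev_fv_self]
  module

theorem rootA_smul_fv {i k : ℕ} (hi : i + 1 < N + 2) (hk : k < N + 2) (h : k ≠ i) :
    rootA N F i • fv N F k = fv N F k := by
  rw [rootA_smul hi, Bf_fv_fv, Bf_fv_ev_of_ne (ix_ne hk (by omega) h)]
  simp

theorem rootA_inv_smul_fv {i k : ℕ} (hi : i + 1 < N + 2) (hk : k < N + 2) (h : k ≠ i) :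
    (rootA N F i)⁻¹ • fv N F k = fv N F k := by
  rw [rootA_inv_smul hi, Bf_fv_fv, Bf_fv_ev_of_ne (ix_ne hk (by omega) h)]
  simp

theorem rootA_inv_smul_fv_self {i : ℕ} (hi : i + 1 < N + 2) :
    (rootA N F i)⁻¹ • fv N F i = fv N F i + fv N F (i + 1) := by
  rw [rootA_inv_smul hi, Bf_fv_fv, Bf_fv_ev_self]
  module

/-- the partial products `x_{2 e_n}(1) x_{α_{n-1}}(1) ⋯ x_{α_j}(1)`, `j = N + 1 - d` -/
def Zp (N : ℕ) (F : Type*) [Field F] : ℕ → Matrix.symplecticGroup (Fin (N + 2)) F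
  | 0 => tv (ev N F (N + 1)) 1
  | (d + 1) => Zp N F d * rootA N F (N - d)

theorem Zp_succ (d : ℕ) : Zp N F (d + 1) = Zp N F d * rootA N F (N - d) := rfl

/-- the regular unipotent element -/
def uReg (N : ℕ) (F : Type*) [Field F] : Matrix.symplecticGroup (Fin (N + 2)) F := Zp N F (N + 1)

theorem Zp_smul_ev_low : ∀ d : ℕ, d ≤ N + 1 → ∀ k : ℕ, k + d ≤ N + 1 →
    Zp N F d • ev N F k = ev N F k := by
  intro d
  induction d with
  | zero =>
    intro _ k _
    unfold Zp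
    rw [tv_smul, Bf_ev_ev, mul_zero, zero_smul, add_zero]
  | succ d ih =>
    intro hd k hk
    rw [Zp_succ, mul_smul, rootA_smul_ev (by omega) (by omega) (by omega)]
    exact ih (by omega) k (by omega)

theorem Zp_smul_ev_high : ∀ d : ℕ, d ≤ N + 1 → ∀ k : ℕ, N + 1 < k + d → k ≤ N + 1 →
    Zp N F d • ev N F k = ev N F k + ev N F (k - 1) := by
  intro d
  induction d with
  | zero => intro _ k hk hk'; omega
  | succ d ih =>
    intro hd k hk hk'
    rw [Zp_succ, mul_smul]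
    by_cases h : k = N - d + 1
    · subst h
      rw [rootA_smul_ev_succ (by omega), smul_add, Zp_smul_ev_low d (by omega) _ (by omega),
        Zp_smul_ev_low d (by omega) _ (by omega)]
      simp
    · rw [rootA_smul_ev (by omega) (by omega) h]
      exact ih (by omega) k (by omega) hk'

theorem Zp_smul_fv_top : ∀ d : ℕ, d ≤ N + 1 →
    Zp N F d • fv N F (N + 1) = fv N F (N + 1) + ev N F (N + 1) := by
  intro d
  induction d with
  | zero =>
    intro _
    unfold Zp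
    rw [tv_smul, Bf_fv_ev_self, mul_one, one_smul]
  | succ d ih =>
    intro hd
    rw [Zp_succ, mul_smul, rootA_smul_fv (by omega) (by omega) (by omega)]
    exact ih (by omega)

theorem Zp_smul_fv_low : ∀ d : ℕ, d ≤ N + 1 → ∀ k : ℕ, k + d < N + 1 →
    Zp N F d • fv N F k = fv N F k := by
  intro d
  induction d with
  | zero =>
    intro _ k hk
    unfold Zp
    rw [tv_smul, Bf_fv_ev_of_ne (ix_ne (by omega) (by omega) (by omega)), mul_zero, zero_smul,
      add_zero]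
  | succ d ih =>
    intro hd k hk
    rw [Zp_succ, mul_smul, rootA_smul_fv (by omega) (by omega) (by omega)]
    exact ih (by omega) k (by omega)

theorem Zp_inv_smul_fv_low (d : ℕ) (hd : d ≤ N + 1) (k : ℕ) (hk : k + d < N + 1) :
    (Zp N F d)⁻¹ • fv N F k = fv N F k := by
  rw [inv_smul_eq_iff, Zp_smul_fv_low d hd k hk]

theorem Zp_inv_smul_fv_high : ∀ d : ℕ, d ≤ N + 1 → ∀ k : ℕ, N + 1 ≤ k + d → k ≤ N →
    (Zp N F d)⁻¹ • fv N F k = fv N F k + fv N F (k + 1) := by
  intro d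
  induction d with
  | zero => intro _ k hk hk'; omega
  | succ d ih =>
    intro hd k hk hk'
    rw [Zp_succ, _root_.mul_inv_rev, mul_smul]
    by_cases h : k = N - d
    · subst h
      rw [Zp_inv_smul_fv_low d (by omega) _ (by omega), rootA_inv_smul_fv_self (by omega)]
    · rw [ih (by omega) k (by omega) hk', smul_add,
        rootA_inv_smul_fv (by omega) (by omega) h,
        rootA_inv_smul_fv (by omega) (by omega) (by omega)]

end Cfsg.Agent.Helper12.SpGen
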