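import Mathlib
import Cfsg.Agent.Lib.Helper12.SpGenB

set_option autoImplicit false

/-!
# The element `uReg` is a regular unipotent element
-/

namespace Cfsg.Agent.Helper12.SpGen

open Matrix
open Cfsg.Agent.Helper2.Symp
open scoped Cfsg.Agent.Helper2.Symp

variable {N : ℕ} {F : Type*} [Field F]

/-- a matrix killing all basis vectors is zero -/
theorem matrix_eq_zero_of_basis
    (P : Matrix (Fin (N + 2) ⊕ Fin (N + 2)) (Fin (N + 2) ⊕ Fin (N + 2)) F)
    (he : ∀ k, k < N + 2 → P *ᵥ ev N F k = 0) (hf : ∀ k, k < N + 2 → P *ᵥ fv N F k = 0) :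
    P = 0 := by
  ext r c
  rcases c with a | a
  · obtain ⟨k, hk, rfl⟩ := ix_surj a
    have := congrFun (he k hk) r
    unfold ev eV at this
    rw [Matrix.mulVec_single_one] at this
    exact this
  · obtain ⟨k, hk, rfl⟩ := ix_surj a
    have := congrFun (hf k hk) r
    unfold fv fV at this
    rw [Matrix.mulVec_single_one] at this
    exact this

section reg

variable (N F)

/-- the matrix of `uReg` -/
def Umat : Matrix (Fin (N + 2) ⊕ Fin (N + 2)) (Fin (N + 2) ⊕ Fin (N + 2)) F :=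
  (uReg N F : Matrix (Fin (N + 2) ⊕ Fin (N + 2)) (Fin (N + 2) ⊕ Fin (N + 2)) F)

/-- the matrix of the inverse of `uReg` -/
def Amat : Matrix (Fin (N + 2) ⊕ Fin (N + 2)) (Fin (N + 2) ⊕ Fin (N + 2)) F :=
  ((uReg N F)⁻¹ : Matrix.symplecticGroup (Fin (N + 2)) F)

/-- the nilpotent matrix `u⁻¹ - 1` -/
def Mmat : Matrix (Fin (N + 2) ⊕ Fin (N + 2)) (Fin (N + 2) ⊕ Fin (N + 2)) F := Amat N F - 1

variable {N F}

theorem Umat_mul_Amat : Umat N F * Amat N F = 1 := by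
  have := congrArg Subtype.val (mul_inv_cancel (uReg N F))
  exact this

theorem Amat_mul_Umat : Amat N F * Umat N F = 1 := by
  have := congrArg Subtype.val (inv_mul_cancel (uReg N F))
  exact this

theorem Umat_mulVec (x : Fin (N + 2) ⊕ Fin (N + 2) → F) : Umat N F *ᵥ x = uReg N F • x := rfl

theorem Amat_mulVec (x : Fin (N + 2) ⊕ Fin (N + 2) → F) :
    Amat N F *ᵥ x = (uReg N F)⁻¹ • x := rfl

theorem Mmat_mulVec (x : Fin (N + 2) ⊕ Fin (N + 2) → F) :
    Mmat N F *ᵥ x = Amat N F *ᵥ x - x := by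
  unfold Mmat
  rw [Matrix.sub_mulVec, Matrix.one_mulVec]

theorem commute_Mmat_Amat : Commute (Mmat N F) (Amat N F) := by
  unfold Mmat
  exact (Commute.refl _).sub_left (Commute.one_left _)

theorem Amat_ev0 : Amat N F *ᵥ ev N F 0 = ev N F 0 := by
  rw [Amat_mulVec, inv_smul_eq_iff]
  unfold uReg
  rw [Zp_smul_ev_low (N + 1) le_rfl 0 (by omega)]

theorem Amat_pow_ev0 (i : ℕ) : (Amat N F) ^ i *ᵥ ev N F 0 = ev N F 0 := by
  induction i with
  | zero => rw [pow_zero, Matrix.one_mulVec]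
  | succ i ih => rw [pow_succ, ← Matrix.mulVec_mulVec, Amat_ev0, ih]

theorem Mmat_ev0 : Mmat N F *ᵥ ev N F 0 = 0 := by
  rw [Mmat_mulVec, Amat_ev0, sub_self]

theorem Mmat_fv {k : ℕ} (hk : k ≤ N) : Mmat N F *ᵥ fv N F k = fv N F (k + 1) := by
  rw [Mmat_mulVec, Amat_mulVec]
  unfold uReg
  rw [Zp_inv_smul_fv_high (N + 1) le_rfl k (by omega) hk, add_sub_cancel_left]

theorem Mmat_ev {k : ℕ} (hk1 : 1 ≤ k) (hk : k ≤ N + 1) :
    Mmat N F *ᵥ ev N F k = -(Amat N F *ᵥ ev N F (k - 1)) := by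
  rw [Mmat_mulVec]
  have h1 : uReg N F • ev N F k = ev N F k + ev N F (k - 1) := by
    unfold uReg
    exact Zp_smul_ev_high (N + 1) le_rfl k (by omega) hk
  have h2 : (uReg N F)⁻¹ • (uReg N F • ev N F k) = ev N F k := inv_smul_smul _ _
  rw [h1, smul_add] at h2
  rw [Amat_mulVec, Amat_mulVec]
  rw [eq_neg_iff_add_eq_zero, sub_add_eq_add_sub, h2, sub_self]

theorem Mmat_fv_top : Mmat N F *ᵥ fv N F (N + 1) = -(Amat N F *ᵥ ev N F (N + 1)) := by
  rw [Mmat_mulVec]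
  have h1 : uReg N F • fv N F (N + 1) = fv N F (N + 1) + ev N F (N + 1) :=
    Zp_smul_fv_top (N + 1) le_rfl
  have h2 : (uReg N F)⁻¹ • (uReg N F • fv N F (N + 1)) = fv N F (N + 1) := inv_smul_smul _ _
  rw [h1, smul_add] at h2
  rw [Amat_mulVec, Amat_mulVec]
  rw [eq_neg_iff_add_eq_zero, sub_add_eq_add_sub, h2, sub_self]

theorem Mmat_pow_fv : ∀ j k : ℕ, k + j ≤ N + 1 →
    (Mmat N F) ^ j *ᵥ fv N F k = fv N F (k + j) := by
  intro j
  induction j with
  | zero => intro k _; rw [pow_zero, Matrix.one_mulVec, add_zero]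
  | succ j ih =>
    intro k hk
    rw [pow_succ', ← Matrix.mulVec_mulVec, ih k (by omega), Mmat_fv (by omega), add_assoc]

theorem Mmat_pow_ev : ∀ i k : ℕ, i ≤ k → k ≤ N + 1 →
    (Mmat N F) ^ i *ᵥ ev N F k = (-1 : F) ^ i • ((Amat N F) ^ i *ᵥ ev N F (k - i)) := by
  intro i
  induction i with
  | zero =>
    intro k _ _
    rw [Nat.sub_zero, pow_zero, pow_zero, pow_zero, Matrix.one_mulVec, one_smul]
  | succ i ih =>
    intro k hik hk
    rw [pow_succ', ← Matrix.mulVec_mulVec, ih k (by omega) hk, Matrix.mulVec_smul,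
      Matrix.mulVec_mulVec, (commute_Mmat_Amat.pow_right i).eq, ← Matrix.mulVec_mulVec,
      Mmat_ev (by omega) (by omega), Matrix.mulVec_neg, Matrix.mulVec_mulVec, ← pow_succ,
      smul_neg, ← neg_smul]
    have e1 : k - i - 1 = k - (i + 1) := by omega
    have e2 : -((-1 : F) ^ i) = (-1) ^ (i + 1) := by rw [pow_succ]; ring
    rw [e1, e2]

theorem Mmat_kill_ev {k : ℕ} (hk : k ≤ N + 1) : (Mmat N F) ^ (k + 1) *ᵥ ev N F k = 0 := by
  rw [pow_succ', ← Matrix.mulVec_mulVec, Mmat_pow_ev k k le_rfl hk, Nat.sub_self, Amat_pow_ev0,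
    Matrix.mulVec_smul, Mmat_ev0, smul_zero]

theorem Mmat_pow_kill_ev {k n : ℕ} (hk : k ≤ N + 1) (hn : k + 1 ≤ n) :
    (Mmat N F) ^ n *ᵥ ev N F k = 0 := by
  obtain ⟨r, rfl⟩ := Nat.exists_eq_add_of_le hn
  have e : k + 1 + r = r + (k + 1) := by omega
  rw [e, pow_add, ← Matrix.mulVec_mulVec, Mmat_kill_ev hk, Matrix.mulVec_zero]

/-- the top power on `f_0` -/
theorem Mmat_top : (Mmat N F) ^ (2 * N + 3) *ᵥ fv N F 0 = -((-1 : F) ^ (N + 1) • ev N F 0) := by
  have e : 2 * N + 3 = (N + 1) + (1 + (N + 1)) := by omega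
  rw [e, pow_add _ (N + 1) (1 + (N + 1)), pow_add _ 1 (N + 1), pow_one, ← Matrix.mulVec_mulVec,
    ← Matrix.mulVec_mulVec,
    Mmat_pow_fv (N + 1) 0 (by omega), zero_add, Mmat_fv_top, Matrix.mulVec_neg,
    Matrix.mulVec_mulVec, (commute_Mmat_Amat.pow_left (N + 1)).eq, ← Matrix.mulVec_mulVec,
    Mmat_pow_ev (N + 1) (N + 1) le_rfl le_rfl, Nat.sub_self, Amat_pow_ev0, Matrix.mulVec_smul,
    Amat_ev0]

theorem Mmat_pow_kill_fv {k : ℕ} (hk : k ≤ N + 1) :
    (Mmat N F) ^ (2 * N + 4) *ᵥ fv N F k = 0 := by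
  have e : 2 * N + 4 = (k + (N + 2)) + (1 + (N + 1 - k)) := by omega
  rw [e, pow_add _ (k + (N + 2)) (1 + (N + 1 - k)), pow_add (Mmat N F) 1 (N + 1 - k), pow_one,
    ← Matrix.mulVec_mulVec, ← Matrix.mulVec_mulVec, Mmat_pow_fv (N + 1 - k) k (by omega)]
  have e2 : k + (N + 1 - k) = N + 1 := by omega
  rw [e2, Mmat_fv_top, Matrix.mulVec_neg, Matrix.mulVec_mulVec,
    (commute_Mmat_Amat.pow_left _).eq, ← Matrix.mulVec_mulVec,
    Mmat_pow_kill_ev le_rfl (by omega), Matrix.mulVec_zero, neg_zero]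

theorem Mmat_pow_eq_zero : (Mmat N F) ^ (2 * N + 4) = 0 := by
  apply matrix_eq_zero_of_basis
  · intro k hk
    exact Mmat_pow_kill_ev (by omega) (by omega)
  · intro k hk
    exact Mmat_pow_kill_fv (by omega)

theorem Mmat_pow_ne_zero : (Mmat N F) ^ (2 * N + 3) ≠ 0 := by
  intro h
  have h1 := Mmat_top (N := N) (F := F)
  rw [h, Matrix.zero_mulVec] at h1
  have h2 : (-1 : F) ^ (N + 1) • ev N F 0 = 0 := by
    rw [← neg_eq_zero]; exact h1.symm
  rcases smul_eq_zero.1 h2 with h3 | h3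
  · exact (pow_ne_zero _ (neg_ne_zero.2 one_ne_zero)) h3
  · exact ev_ne_zero 0 h3

theorem Umat_sub_one : Umat N F - 1 = (-Umat N F) * Mmat N F := by
  unfold Mmat
  rw [mul_sub, mul_one, neg_mul, Umat_mul_Amat]
  abel

theorem commute_Umat_Mmat : Commute (-Umat N F) (Mmat N F) := by
  unfold Mmat
  apply Commute.neg_left
  apply Commute.sub_right _ (Commute.one_right _)
  show Umat N F * Amat N F = Amat N F * Umat N F
  rw [Umat_mul_Amat, Amat_mul_Umat]

/-- **`uReg` is a regular unipotent element.** -/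
theorem uReg_regular :
    IsNilpotent ((uReg N F : Matrix (Fin (N + 2) ⊕ Fin (N + 2)) (Fin (N + 2) ⊕ Fin (N + 2)) F) - 1)
    ∧ ((uReg N F : Matrix (Fin (N + 2) ⊕ Fin (N + 2)) (Fin (N + 2) ⊕ Fin (N + 2)) F) - 1)
        ^ (2 * (N + 2) - 1) ≠ 0 := by
  have hU : (uReg N F : Matrix (Fin (N + 2) ⊕ Fin (N + 2)) (Fin (N + 2) ⊕ Fin (N + 2)) F)
      = Umat N F := rfl
  rw [hU, Umat_sub_one]
  constructor
  · refine ⟨2 * N + 4, ?_⟩
    rw [commute_Umat_Mmat.mul_pow, Mmat_pow_eq_zero, mul_zero]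
  · have e : 2 * (N + 2) - 1 = 2 * N + 3 := by omega
    rw [e, commute_Umat_Mmat.mul_pow]
    intro h
    apply Mmat_pow_ne_zero (N := N) (F := F)
    have hc : Commute (-Amat N F) (-Umat N F) := by
      apply Commute.neg_left
      apply Commute.neg_right
      show Amat N F * Umat N F = Umat N F * Amat N F
      rw [Umat_mul_Amat, Amat_mul_Umat]
    have h1 : (-Amat N F) ^ (2 * N + 3) * (-Umat N F) ^ (2 * N + 3) = 1 := by
      rw [← hc.mul_pow, neg_mul_neg, Amat_mul_Umat, one_pow]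
    calc (Mmat N F) ^ (2 * N + 3)
        = ((-Amat N F) ^ (2 * N + 3) * (-Umat N F) ^ (2 * N + 3)) * (Mmat N F) ^ (2 * N + 3) := by
          rw [h1, one_mul]
      _ = (-Amat N F) ^ (2 * N + 3) * ((-Umat N F) ^ (2 * N + 3) * (Mmat N F) ^ (2 * N + 3)) := by
          rw [mul_assoc]
      _ = 0 := by rw [h, mul_zero]

end reg

end Cfsg.Agent.Helper12.SpGen
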