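import Mathlib
import Cfsg.Agent.Lib.Helper12.SLGen

set_option autoImplicit false

namespace Cfsg.Agent.Helper12

open Matrix Matrix.SpecialLinearGroup

section field

variable {K : Type*} [Field K] [Fintype K]

/-- the multipliers of an additive subgroup of a finite field form a subfield -/
def multiplierSubfield (A : AddSubgroup K) : Subfield K where
  carrier := {r | ∀ a ∈ A, r * a ∈ A}
  mul_mem' := by
    intro r s hr hs a ha
    rw [mul_assoc]
    exact hr _ (hs a ha)
  one_mem' := by
    intro a ha
    rw [one_mul]
    exact ha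
  add_mem' := by
    intro r s hr hs a ha
    rw [add_mul]
    exact A.add_mem (hr a ha) (hs a ha)
  zero_mem' := by
    intro a _
    rw [zero_mul]
    exact A.zero_mem
  neg_mem' := by
    intro r hr a ha
    rw [neg_mul]
    exact A.neg_mem (hr a ha)
  inv_mem' := by
    intro r hr
    by_cases h0 : r = 0
    · subst h0
      rw [_root_.inv_zero]
      exact hr
    · have hpow : ∀ m : ℕ, ∀ a ∈ A, r ^ m * a ∈ A := by
        intro m
        induction m with
        | zero => intro a ha; rw [pow_zero, one_mul]; exact ha
        | succ m ih =>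
          intro a ha
          rw [pow_succ, mul_assoc]
          exact ih _ (hr a ha)
      have h1 : r ^ (Fintype.card K - 1) = 1 := FiniteField.pow_card_sub_one_eq_one r h0
      have h2 : r⁻¹ = r ^ (Fintype.card K - 2) := by
        have hq : 2 ≤ Fintype.card K := Fintype.one_lt_card
        have e : Fintype.card K - 1 = (Fintype.card K - 2) + 1 := by omega
        rw [e, pow_succ] at h1
        exact inv_eq_of_mul_eq_one_left h1
      rw [h2]
      exact hpow _

theorem mem_multiplierSubfield (A : AddSubgroup K) (r : K) :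
    r ∈ multiplierSubfield A ↔ ∀ a ∈ A, r * a ∈ A := Iff.rfl

/-- an additive subgroup of a finite field with more than three elements which is stable under
multiplication by the square of a generator of the multiplicative group and which is not zero
is everything -/
theorem addSubgroup_eq_top_of_sq_closed (hK : 3 < Fintype.card K) (k : Kˣ)
    (hk : ∀ u : Kˣ, u ∈ Subgroup.zpowers k) (A : AddSubgroup K)
    (hA : ∀ c ∈ A, (k : K) * (k : K) * c ∈ A) (c₀ : K) (hc₀ : c₀ ∈ A) (hne : c₀ ≠ 0) : A = ⊤ := by
  classical
  set R := multiplierSubfield A with hR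
  have hkR : (k : K) * (k : K) ∈ R := hA
  suffices hRtop : R = ⊤ by
    rw [eq_top_iff]
    intro c _
    have h1 : c / c₀ ∈ R := by rw [hRtop]; exact Subfield.mem_top _
    have h2 := h1 c₀ hc₀
    rwa [div_mul_cancel₀ _ hne] at h2
  -- cardinalities
  haveI : Fintype R := Fintype.ofFinite R
  have hcard : Fintype.card K = Fintype.card R ^ Module.finrank R K := Module.card_eq_pow_finrank
  have hr2 : 2 ≤ Fintype.card R := Fintype.one_lt_card
  have hd1 : 1 ≤ Module.finrank R K := Module.finrank_pos
  -- the powers of `k ^ 2` lie in `R`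
  have hord : orderOf k = Fintype.card K - 1 := by
    have h1 : Subgroup.zpowers k = ⊤ := by
      rw [eq_top_iff]
      intro u _
      exact hk u
    rw [← Nat.card_zpowers, h1, Subgroup.card_top, Nat.card_eq_fintype_card, Fintype.card_units]
  have hord2 : Fintype.card K - 1 ≤ 2 * orderOf (k ^ 2) := by
    rw [orderOf_pow', hord]
    · have hgen : ∀ N : ℕ, N ≤ 2 * (N / Nat.gcd N 2) := by
        intro N
        have hg : Nat.gcd N 2 ∣ 2 := Nat.gcd_dvd_right _ _
        have hg' : Nat.gcd N 2 ≤ 2 := Nat.le_of_dvd (by norm_num) hg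
        have h1 : Nat.gcd N 2 * (N / Nat.gcd N 2) = N := Nat.mul_div_cancel' (Nat.gcd_dvd_left _ _)
        calc N = Nat.gcd N 2 * (N / Nat.gcd N 2) := h1.symm
          _ ≤ 2 * (N / Nat.gcd N 2) := Nat.mul_le_mul_right _ hg'
      exact hgen _
    · norm_num
  -- an injection of the powers of `k ^ 2` into the non-zero elements of `R`
  have hinj : orderOf (k ^ 2) ≤ Fintype.card R - 1 := by
    have hmem : ∀ u ∈ Subgroup.zpowers (k ^ 2), ((u : Kˣ) : K) ∈ R := by
      intro u hu
      obtain ⟨m, rfl⟩ := mem_powers_iff_mem_zpowers.2 hu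
      rw [Units.val_pow_eq_pow_val, Units.val_pow_eq_pow_val]
      apply pow_mem
      rw [pow_two]
      exact hkR
    let f : Subgroup.zpowers (k ^ 2) → {r : R // r ≠ 0} := fun u =>
      ⟨⟨((u : Kˣ) : K), hmem u.1 u.2⟩, by
        intro h
        have := congrArg Subtype.val h
        exact (u : Kˣ).ne_zero this⟩
    have hf : Function.Injective f := by
      intro u v huv
      have h1 := congrArg (fun t : {r : R // r ≠ 0} => ((t : R) : K)) huv
      exact Subtype.ext (Units.ext h1)
    have h3 := Nat.card_le_card_of_injective f hf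
    rw [Nat.card_zpowers] at h3
    have h4 : Nat.card {r : R // r ≠ 0} = Fintype.card R - 1 := by
      rw [Nat.card_eq_fintype_card, Fintype.card_subtype_compl, Fintype.card_subtype_eq]
    rw [h4] at h3
    exact h3
  -- the degree is one
  have hdeg : Module.finrank R K = 1 := by
    by_contra hne1
    have hd2 : 2 ≤ Module.finrank R K := by omega
    have h5 : Fintype.card R ^ 2 ≤ Fintype.card K := by
      rw [hcard]
      exact Nat.pow_le_pow_right (by omega) hd2
    have h6 : Fintype.card R ^ 2 - 1 ≤ 2 * (Fintype.card R - 1) := by omega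
    have h7 : (Fintype.card R - 1) * (Fintype.card R - 1) ≤ 0 := by
      obtain ⟨s, hs⟩ : ∃ s, Fintype.card R = s + 2 := ⟨Fintype.card R - 2, by omega⟩
      rw [hs] at h6 ⊢
      have : (s + 2) ^ 2 - 1 = s * s + 4 * s + 3 := by
        have : (s + 2) ^ 2 = s * s + 4 * s + 4 := by ring
        omega
      rw [this] at h6
      have e : s + 2 - 1 = s + 1 := by omega
      rw [e] at h6 ⊢
      nlinarith
    have h8 : Fintype.card R - 1 = 0 := by
      rcases Nat.eq_zero_or_pos (Fintype.card R - 1) with h | h
      · exact h
      · have := Nat.mul_pos h h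
        omega
    omega
  rw [hdeg, pow_one] at hcard
  -- equal cardinalities
  rw [eq_top_iff]
  intro c _
  have hsurj : Function.Surjective (Subtype.val : R → K) := by
    have hinj' : Function.Injective (Subtype.val : R → K) := Subtype.val_injective
    exact ((Fintype.bijective_iff_injective_and_card _).2 ⟨hinj', hcard.symm⟩).2
  obtain ⟨r, hr⟩ := hsurj c
  rw [← hr]
  exact r.2

end field

section diag

variable {n : ℕ} {K : Type*} [Field K]

/-- conjugation of an elementary transvection by a diagonal element -/
theorem diag_mul_transvection (D : SpecialLinearGroup (Fin (n + 1)) K) (d : Fin (n + 1) → K)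
    (hD : (D : Matrix (Fin (n + 1)) (Fin (n + 1)) K) = diagonal d) {a b : Fin (n + 1)}
    (hab : a ≠ b) (hdb : d b ≠ 0) (c : K) :
    D * transvection hab c = transvection hab (d a * c / d b) * D := by
  apply Subtype.ext
  rw [coe_mul, coe_mul, hD]
  change diagonal d * Matrix.transvection a b c =
    Matrix.transvection a b (d a * c / d b) * diagonal d
  ext k l
  rw [diagonal_mul, mul_diagonal]
  unfold Matrix.transvection
  simp only [Matrix.add_apply, one_apply, single_apply]
  by_cases hkl : k = l
  · subst hkl
    have : ¬ (a = k ∧ b = k) := fun h => hab (h.1.trans h.2.symm)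
    simp [this]
  · by_cases h : a = k ∧ b = l
    · obtain ⟨rfl, rfl⟩ := h
      simp [hkl]
      field_simp
    · simp [hkl, h]

/-- conjugation of a diagonal element by the monomial matrix of the long cycle -/
theorem coxW_mul_diag {w : SpecialLinearGroup (Fin (n + 1)) K} (hw : IsCoxW w)
    (D : SpecialLinearGroup (Fin (n + 1)) K) (d : Fin (n + 1) → K)
    (hD : (D : Matrix (Fin (n + 1)) (Fin (n + 1)) K) = diagonal d) :
    ((w * D * w⁻¹ : SpecialLinearGroup (Fin (n + 1)) K) : Matrix (Fin (n + 1)) (Fin (n + 1)) K) =
      diagonal (fun a => d (a + 1)) := by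
  have h1 : (w : Matrix (Fin (n + 1)) (Fin (n + 1)) K) * diagonal d =
      diagonal (fun a => d (a + 1)) * (w : Matrix (Fin (n + 1)) (Fin (n + 1)) K) := by
    ext k l
    rw [diagonal_mul, mul_diagonal, hw k l]
    by_cases hl : l = k + 1
    · rw [if_pos hl, hl, mul_comm]
    · rw [if_neg hl, zero_mul, mul_zero]
  have h2 : (w : Matrix (Fin (n + 1)) (Fin (n + 1)) K) *
      ((w⁻¹ : SpecialLinearGroup (Fin (n + 1)) K) : Matrix (Fin (n + 1)) (Fin (n + 1)) K) = 1 := by
    rw [← coe_mul, mul_inv_cancel, coe_one]
  rw [coe_mul, coe_mul, hD, h1, Matrix.mul_assoc, h2, Matrix.mul_one]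

end diag

end Cfsg.Agent.Helper12
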