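import Mathlib
import Cfsg.Agent.Lib.Helper12.SpGenB

set_option autoImplicit false

/-!
# The endgame

A subgroup of `Sp_{2n}` containing the long root `SL_2` of the plane `<e_0, f_0>`, the regular
unipotent element and the root element `x_{e_0 - e_1}(1)` is the whole group.
-/

namespace Cfsg.Agent.Helper12.SpGen

open Matrix
open Cfsg.Agent.Helper2.Symp
open scoped Cfsg.Agent.Helper2.Symp

variable {N : ℕ} {F : Type*} [Field F]

/-- the hyperbolic plane `<e_0, f_0>` -/
def W1 (N : ℕ) (F : Type*) [Field F] : Submodule F (Fin (N + 2) ⊕ Fin (N + 2) → F) :=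
  Submodule.span F {ev N F 0, fv N F 0}

theorem mem_W1 {x : Fin (N + 2) ⊕ Fin (N + 2) → F} :
    x ∈ W1 N F ↔ ∃ α β : F, α • ev N F 0 + β • fv N F 0 = x := by
  unfold W1
  exact Submodule.mem_span_pair

theorem ev0_mem_W1 : ev N F 0 ∈ W1 N F := Submodule.subset_span (by simp)

theorem fv0_mem_W1 : fv N F 0 ∈ W1 N F := Submodule.subset_span (by simp)

theorem isND_W1 : IsND (W1 N F) := by
  intro x hx hx0
  obtain ⟨α, β, rfl⟩ := mem_W1.1 hx
  by_cases hα : α = 0
  · have hβ : β ≠ 0 := by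
      rintro rfl
      apply hx0
      rw [hα, zero_smul, zero_smul, add_zero]
    refine ⟨ev N F 0, ev0_mem_W1, ?_⟩
    rw [Bf_add_left, Bf_smul_left, Bf_smul_left, Bf_ev_ev, Bf_fv_ev_self, mul_zero, zero_add,
      mul_one]
    exact hβ
  · refine ⟨fv N F 0, fv0_mem_W1, ?_⟩
    rw [Bf_add_left, Bf_smul_left, Bf_smul_left, Bf_fv_fv, Bf_ev_fv_self, mul_zero, add_zero,
      mul_neg, mul_one]
    exact neg_ne_zero.2 hα

/-- orthogonality to the plane -/
theorem Bf_W1_eq_zero {b : Fin (N + 2) ⊕ Fin (N + 2) → F} (he : Bf b (ev N F 0) = 0)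
    (hf : Bf b (fv N F 0) = 0) {d : Fin (N + 2) ⊕ Fin (N + 2) → F} (hd : d ∈ W1 N F) :
    Bf b d = 0 := by
  obtain ⟨α, β, rfl⟩ := mem_W1.1 hd
  rw [Bf_add_right, Bf_smul_right, Bf_smul_right, he, hf, mul_zero, mul_zero, add_zero]

section endgame

variable {H : Subgroup (Matrix.symplecticGroup (Fin (N + 2)) F)}

theorem W1_le_Xset (hE : ev N F 0 ∈ Xset H) (hF : fv N F 0 ∈ Xset H) :
    ∀ d ∈ W1 N F, d ∈ Xset H := by
  intro d hd
  obtain ⟨α, β, rfl⟩ := mem_W1.1 hd
  apply Xset_span hE hF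
  rw [Bf_ev_fv_self]
  exact neg_ne_zero.2 one_ne_zero

theorem tvGroup_W1_le (hE : ev N F 0 ∈ Xset H) (hF : fv N F 0 ∈ Xset H) :
    tvGroup (W1 N F) ≤ H := by
  unfold tvGroup
  rw [Subgroup.closure_le]
  rintro g ⟨x, hx, c, rfl⟩
  exact W1_le_Xset hE hF x hx c

/-- the set of vectors `b` orthogonal to the plane with all `Tm d b`, `d` in the plane, in `H` -/
def Bsub (H : Subgroup (Matrix.symplecticGroup (Fin (N + 2)) F))
    (hE : ev N F 0 ∈ Xset H) (hF : fv N F 0 ∈ Xset H) :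
    Submodule F (Fin (N + 2) ⊕ Fin (N + 2) → F) where
  carrier := {b | (Bf b (ev N F 0) = 0 ∧ Bf b (fv N F 0) = 0) ∧ ∀ d ∈ W1 N F, Tm d b ∈ H}
  zero_mem' := by
    refine ⟨⟨Bf_zero_left _, Bf_zero_left _⟩, ?_⟩
    intro d _
    rw [Tm_zero_right]
    exact H.one_mem
  add_mem' := by
    rintro b b' ⟨⟨h1, h2⟩, h3⟩ ⟨⟨h1', h2'⟩, h3'⟩
    refine ⟨⟨by rw [Bf_add_left, h1, h1', add_zero], by rw [Bf_add_left, h2, h2', add_zero]⟩, ?_⟩
    intro d hd
    have e1 : Bf d b = 0 := Bf_symm_zero (Bf_W1_eq_zero h1 h2 hd)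
    have e2 : Bf d b' = 0 := Bf_symm_zero (Bf_W1_eq_zero h1' h2' hd)
    have key := Tm_add_right e1 e2
    have : Tm d (b + b') = Tm d b * Tm d b' * (tv d (Bf b' b))⁻¹ := by
      rw [key]; group
    rw [this]
    exact H.mul_mem (H.mul_mem (h3 d hd) (h3' d hd)) (H.inv_mem (W1_le_Xset hE hF d hd _))
  smul_mem' := by
    rintro c b ⟨⟨h1, h2⟩, h3⟩
    refine ⟨⟨by rw [Bf_smul_left, h1, mul_zero], by rw [Bf_smul_left, h2, mul_zero]⟩, ?_⟩
    intro d hd
    have e1 : Bf d b = 0 := Bf_symm_zero (Bf_W1_eq_zero h1 h2 hd)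
    rw [← Tm_smul_left e1]
    exact h3 _ ((W1 N F).smul_mem c hd)

theorem mem_Bsub {hE : ev N F 0 ∈ Xset H} {hF : fv N F 0 ∈ Xset H}
    {b : Fin (N + 2) ⊕ Fin (N + 2) → F} :
    b ∈ Bsub H hE hF ↔
      (Bf b (ev N F 0) = 0 ∧ Bf b (fv N F 0) = 0) ∧ ∀ d ∈ W1 N F, Tm d b ∈ H := Iff.rfl

/-- invariance of `Bsub` under elements of `H` fixing the plane pointwise -/
theorem Bsub_smul_mem {hE : ev N F 0 ∈ Xset H} {hF : fv N F 0 ∈ Xset H}
    {y : Matrix.symplecticGroup (Fin (N + 2)) F} (hy : y ∈ H)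
    (hye : y • ev N F 0 = ev N F 0) (hyf : y • fv N F 0 = fv N F 0)
    {b : Fin (N + 2) ⊕ Fin (N + 2) → F} (hb : b ∈ Bsub H hE hF) : y • b ∈ Bsub H hE hF := by
  obtain ⟨⟨h1, h2⟩, h3⟩ := hb
  have hyd : ∀ d ∈ W1 N F, y • d = d := by
    intro d hd
    obtain ⟨α, β, rfl⟩ := mem_W1.1 hd
    rw [smul_add, smul_comm y α, smul_comm y β, hye, hyf]
  refine ⟨⟨?_, ?_⟩, ?_⟩
  · rw [← hye, Bf_smul_smul, h1]
  · rw [← hyf, Bf_smul_smul, h2]
  · intro d hd
    have := Tm_smul_mem H hy (h3 d hd)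
    rw [hyd d hd] at this
    exact this

theorem Bsub_inv_smul_mem {hE : ev N F 0 ∈ Xset H} {hF : fv N F 0 ∈ Xset H}
    {y : Matrix.symplecticGroup (Fin (N + 2)) F} (hy : y ∈ H)
    (hye : y • ev N F 0 = ev N F 0) (hyf : y • fv N F 0 = fv N F 0)
    {b : Fin (N + 2) ⊕ Fin (N + 2) → F} (hb : b ∈ Bsub H hE hF) : y⁻¹ • b ∈ Bsub H hE hF :=
  Bsub_smul_mem (H.inv_mem hy) (by rw [inv_smul_eq_iff, hye]) (by rw [inv_smul_eq_iff, hyf]) hb

/-- elements of `Bsub` have all their transvections in `H` -/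
theorem Bsub_le_Xset {hE : ev N F 0 ∈ Xset H} {hF : fv N F 0 ∈ Xset H}
    {b : Fin (N + 2) ⊕ Fin (N + 2) → F} (hb : b ∈ Bsub H hE hF) : b ∈ Xset H := by
  obtain ⟨⟨h1, h2⟩, h3⟩ := hb
  intro c
  have e1 : Bf (ev N F 0) b = 0 := Bf_symm_zero h1
  have e2 : Bf (c • fv N F 0) b = 0 := by rw [Bf_smul_left, Bf_symm_zero h2, mul_zero]
  have key := Tm_add_left e1 e2
  rw [Bf_smul_left, Bf_fv_ev_self, mul_one] at key
  have : tv b c = (Tm (ev N F 0 + c • fv N F 0) b)⁻¹ * (Tm (ev N F 0) b * Tm (c • fv N F 0) b) := by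
    rw [key]; group
  rw [this]
  refine H.mul_mem (H.inv_mem (h3 _ ?_)) (H.mul_mem (h3 _ ev0_mem_W1) (h3 _ ?_))
  · exact (W1 N F).add_mem ev0_mem_W1 ((W1 N F).smul_mem c fv0_mem_W1)
  · exact (W1 N F).smul_mem c fv0_mem_W1

/-- **The endgame.** -/
theorem eq_top_of_W1 (hE : ev N F 0 ∈ Xset H) (hF : fv N F 0 ∈ Xset H) (hu : uReg N F ∈ H)
    (hT : rootA N F 0 ∈ H) : H = ⊤ := by
  have hG := tvGroup_W1_le hE hF
  -- the element `y₂`
  have hy2 : Zp N F N ∈ H := by
    have : Zp N F N = uReg N F * (rootA N F 0)⁻¹ := by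
      unfold uReg
      rw [Zp_succ, Nat.sub_self]; group
    rw [this]
    exact H.mul_mem hu (H.inv_mem hT)
  have hy2e : Zp N F N • ev N F 0 = ev N F 0 := Zp_smul_ev_low N (by omega) 0 (by omega)
  have hy2f : Zp N F N • fv N F 0 = fv N F 0 := Zp_smul_fv_low N (by omega) 0 (by omega)
  -- `-f₁` lies in `Bsub`
  have h01 : ix N 0 ≠ ix N 1 := ix_ne (by omega) (by omega) (by omega)
  have hb1 : fv N F 1 ∈ Bsub H hE hF := by
    have hneg : -fv N F 1 ∈ Bsub H hE hF := by
      have o1 : Bf (-fv N F 1) (ev N F 0) = 0 := by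
        rw [Bf_neg_left, Bf_fv_ev_of_ne h01.symm, neg_zero]
      have o2 : Bf (-fv N F 1) (fv N F 0) = 0 := by rw [Bf_neg_left, Bf_fv_fv, neg_zero]
      refine ⟨⟨o1, o2⟩, ?_⟩
      intro d hd
      by_cases hd0 : d = 0
      · rw [hd0, Tm_zero_left]; exact H.one_mem
      · obtain ⟨g, hg, hge⟩ := trans_vec isND_W1 ev0_mem_W1 hd (ev_ne_zero 0) hd0
        have hgb : g • (-fv N F 1) = -fv N F 1 :=
          smul_eq_of_mem_tvGroup hg _ (fun x hx => Bf_W1_eq_zero o1 o2 hx)
        have := Tm_smul_mem H (hG hg) hT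
        unfold rootA at this
        rw [zero_add, hge, hgb] at this
        exact this
    have := (Bsub H hE hF).neg_mem hneg
    rwa [neg_neg] at this
  -- the chain
  have hfk : ∀ k : ℕ, 1 ≤ k → k ≤ N + 1 → fv N F k ∈ Bsub H hE hF := by
    intro k hk1
    induction k, hk1 using Nat.le_induction with
    | base => intro _; exact hb1
    | succ k hk ih =>
      intro hk2
      have h1 := ih (by omega)
      have h2 := Bsub_inv_smul_mem hy2 hy2e hy2f h1
      rw [Zp_inv_smul_fv_high N (by omega) k (by omega) (by omega)] at h2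
      have := (Bsub H hE hF).sub_mem h2 h1
      rwa [add_sub_cancel_left] at this
  have hetop : ev N F (N + 1) ∈ Bsub H hE hF := by
    have h1 := hfk (N + 1) (by omega) le_rfl
    have h2 := Bsub_smul_mem hy2 hy2e hy2f h1
    rw [Zp_smul_fv_top N (by omega)] at h2
    have := (Bsub H hE hF).sub_mem h2 h1
    rwa [add_sub_cancel_left] at this
  have hek : ∀ j : ℕ, j ≤ N → ev N F (N + 1 - j) ∈ Bsub H hE hF := by
    intro j
    induction j with
    | zero => intro _; exact hetop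
    | succ j ih =>
      intro hj
      have h1 := ih (by omega)
      have h2 := Bsub_smul_mem hy2 hy2e hy2f h1
      rw [Zp_smul_ev_high N (by omega) _ (by omega) (by omega)] at h2
      have := (Bsub H hE hF).sub_mem h2 h1
      rw [add_sub_cancel_left] at this
      have e : N + 1 - j - 1 = N + 1 - (j + 1) := by omega
      rwa [e] at this
  have hek' : ∀ k : ℕ, 1 ≤ k → k ≤ N + 1 → ev N F k ∈ Bsub H hE hF := by
    intro k hk1 hk2
    have := hek (N + 1 - k) (by omega)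
    have e : N + 1 - (N + 1 - k) = k := by omega
    rwa [e] at this
  -- everything orthogonal to the plane lies in `Bsub`
  have hall : ∀ b : Fin (N + 2) ⊕ Fin (N + 2) → F, Bf b (ev N F 0) = 0 → Bf b (fv N F 0) = 0 →
      b ∈ Bsub H hE hF := by
    intro b h1 h2
    rw [pi_eq_sum_univ' b]
    apply Submodule.sum_mem
    intro i _
    rcases i with a | a
    · obtain ⟨k, hk, rfl⟩ := ix_surj a
      by_cases hk0 : k = 0
      · subst hk0
        have : b (Sum.inl (ix N 0)) = 0 := by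
          have := h2
          rw [Bf_fv_right', neg_eq_zero] at this
          exact this
        rw [this, zero_smul]
        exact (Bsub H hE hF).zero_mem
      · exact (Bsub H hE hF).smul_mem _ (hek' k (by omega) (by omega))
    · obtain ⟨k, hk, rfl⟩ := ix_surj a
      by_cases hk0 : k = 0
      · subst hk0
        have : b (Sum.inr (ix N 0)) = 0 := by
          have := h1
          rw [Bf_ev_right'] at this
          exact this
        rw [this, zero_smul]
        exact (Bsub H hE hF).zero_mem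
      · exact (Bsub H hE hF).smul_mem _ (hfk k (by omega) (by omega))
  -- all transvections lie in `H`
  have hX : ∀ v : Fin (N + 2) ⊕ Fin (N + 2) → F, v ∈ Xset H := by
    intro v
    set d : Fin (N + 2) ⊕ Fin (N + 2) → F :=
      (-Bf v (fv N F 0)) • ev N F 0 + (Bf v (ev N F 0)) • fv N F 0 with hd
    have hdW : d ∈ W1 N F := mem_W1.2 ⟨_, _, rfl⟩
    set b : Fin (N + 2) ⊕ Fin (N + 2) → F := v - d with hb
    have o1 : Bf b (ev N F 0) = 0 := by
      rw [hb, hd, Bf_sub_left, Bf_add_left, Bf_smul_left, Bf_smul_left, Bf_ev_ev, Bf_fv_ev_self]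
      ring
    have o2 : Bf b (fv N F 0) = 0 := by
      rw [hb, hd, Bf_sub_left, Bf_add_left, Bf_smul_left, Bf_smul_left, Bf_fv_fv, Bf_ev_fv_self]
      ring
    have hbB := hall b o1 o2
    have hv : v = b + d := by rw [hb]; abel
    by_cases hb0 : b = 0
    · rw [hv, hb0, zero_add]
      exact W1_le_Xset hE hF d hdW
    · -- a partner of `b`
      have hex : ∃ b'' ∈ Bsub H hE hF, Bf b b'' = 1 := by
        by_contra hcon
        apply hb0
        apply eq_zero_of_Bf_basis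
        · intro k hk
          by_cases hk0 : k = 0
          · subst hk0; exact o1
          · by_contra hne
            apply hcon
            refine ⟨(Bf b (ev N F k))⁻¹ • ev N F k,
              (Bsub H hE hF).smul_mem _ (hek' k (by omega) (by omega)), ?_⟩
            rw [Bf_smul_right, inv_mul_cancel₀ hne]
        · intro k hk
          by_cases hk0 : k = 0
          · subst hk0; exact o2
          · by_contra hne
            apply hcon
            refine ⟨(Bf b (fv N F k))⁻¹ • fv N F k,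
              (Bsub H hE hF).smul_mem _ (hfk k (by omega) (by omega)), ?_⟩
            rw [Bf_smul_right, inv_mul_cancel₀ hne]
      obtain ⟨b'', hb'', hbb⟩ := hex
      have hT' : Tm d b'' ∈ H := hb''.2 d hdW
      have hdb'' : Bf d b'' = 0 := Bf_symm_zero (Bf_W1_eq_zero hb''.1.1 hb''.1.2 hdW)
      have hbd : Bf b d = 0 := Bf_W1_eq_zero o1 o2 hdW
      have hact : Tm d b'' • b = v := by
        rw [Tm_smul hdb'', hbb, hbd, one_smul, zero_smul, add_zero, hv]
      rw [← hact]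
      exact Xset_smul_mem hT' (Bsub_le_Xset hbB)
  -- conclusion
  rw [eq_top_iff, ← tvGroup_top_eq_top]
  unfold tvGroup
  rw [Subgroup.closure_le]
  rintro g ⟨x, _, c, rfl⟩
  exact hX x c

end endgame

end Cfsg.Agent.Helper12.SpGen
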