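import Mathlib
import Cfsg.Agent.Lib.Helper12.SpGenB

set_option autoImplicit false

/-!
# The weighted Coxeter-type element `h` and the third generator `h u h⁻¹`
-/

namespace Cfsg.Agent.Helper12.SpGen

open Matrix
open Cfsg.Agent.Helper2.Symp
open scoped Cfsg.Agent.Helper2.Symp

section cols

variable {m : ℕ} {F : Type*} [Field F]

theorem Bf_mulVec_eq (A : Matrix (Fin m ⊕ Fin m) (Fin m ⊕ Fin m) F)
    (x y : Fin m ⊕ Fin m → F) :
    Bf (A *ᵥ x) (A *ᵥ y) = x ⬝ᵥ ((Aᵀ * Matrix.J (Fin m) F * A) *ᵥ y) := by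
  rw [Bf_def, ← Matrix.vecMul_transpose A x, ← Matrix.dotProduct_mulVec, Matrix.mulVec_mulVec,
    Matrix.mulVec_mulVec]

theorem single_dot_mulVec_single' (M : Matrix (Fin m ⊕ Fin m) (Fin m ⊕ Fin m) F)
    (i j : Fin m ⊕ Fin m) :
    (Pi.single i (1 : F) : Fin m ⊕ Fin m → F) ⬝ᵥ (M *ᵥ Pi.single j 1) = M i j := by
  rw [single_dotProduct, one_mul, mulVec_single_one]
  rfl

/-- the matrix with prescribed columns -/
def ofCols (c : Fin m ⊕ Fin m → (Fin m ⊕ Fin m → F)) :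
    Matrix (Fin m ⊕ Fin m) (Fin m ⊕ Fin m) F := Matrix.of fun r p => c p r

theorem ofCols_mulVec_single (c : Fin m ⊕ Fin m → (Fin m ⊕ Fin m → F)) (p : Fin m ⊕ Fin m) :
    ofCols c *ᵥ Pi.single p 1 = c p := by
  rw [mulVec_single_one]
  rfl

theorem ofCols_mem {c : Fin m ⊕ Fin m → (Fin m ⊕ Fin m → F)}
    (h : ∀ p q, Bf (c p) (c q) = Matrix.J (Fin m) F p q) :
    ofCols c ∈ Matrix.symplecticGroup (Fin m) F := by
  rw [SymplecticGroup.mem_iff']
  ext p q
  have := Bf_mulVec_eq (ofCols c) (Pi.single p 1) (Pi.single q 1)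
  rw [single_dot_mulVec_single', ofCols_mulVec_single, ofCols_mulVec_single] at this
  rw [← this]
  exact h p q

/-- the symplectic element with prescribed images of the standard basis -/
def spOfCols (c : Fin m ⊕ Fin m → (Fin m ⊕ Fin m → F))
    (h : ∀ p q, Bf (c p) (c q) = Matrix.J (Fin m) F p q) : Matrix.symplecticGroup (Fin m) F :=
  ⟨ofCols c, ofCols_mem h⟩

theorem spOfCols_smul_eV (c : Fin m ⊕ Fin m → (Fin m ⊕ Fin m → F))
    (h : ∀ p q, Bf (c p) (c q) = Matrix.J (Fin m) F p q) (a : Fin m) :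
    spOfCols c h • (eV a : Fin m ⊕ Fin m → F) = c (Sum.inl a) := by
  rw [smul_def]
  exact ofCols_mulVec_single c _

theorem spOfCols_smul_fV (c : Fin m ⊕ Fin m → (Fin m ⊕ Fin m → F))
    (h : ∀ p q, Bf (c p) (c q) = Matrix.J (Fin m) F p q) (a : Fin m) :
    spOfCols c h • (fV a : Fin m ⊕ Fin m → F) = c (Sum.inr a) := by
  rw [smul_def]
  exact ofCols_mulVec_single c _

end cols

variable {N : ℕ} {F : Type*} [Field F]

/-- columns of the Levi reversal element -/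
def levCol (N : ℕ) (s : ℕ → F) :
    Fin (N + 2) ⊕ Fin (N + 2) → (Fin (N + 2) ⊕ Fin (N + 2) → F)
  | Sum.inl a => s a.val • ev N F (N + 1 - a.val)
  | Sum.inr a => (s a.val)⁻¹ • fv N F (N + 1 - a.val)

theorem levCol_cond (s : ℕ → F) (hs : ∀ k, k < N + 2 → s k ≠ 0) :
    ∀ p q, Bf (levCol N s p) (levCol N s q) = Matrix.J (Fin (N + 2)) F p q := by
  have hrev : ∀ a b : Fin (N + 2), a ≠ b → ix N (N + 1 - a.val) ≠ ix N (N + 1 - b.val) := by
    intro a b hab
    apply ix_ne (by omega) (by omega)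
    intro e
    apply hab
    apply Fin.ext
    have := a.isLt
    have := b.isLt
    omega
  intro p q
  rcases p with a | a <;> rcases q with b | b
  · simp [levCol, Matrix.J, Bf_smul_left, Bf_smul_right]
  · by_cases hab : a = b
    · subst hab
      simp [levCol, Matrix.J, Bf_smul_left, Bf_smul_right, hs a.val a.isLt]
    · simp [levCol, Matrix.J, Bf_smul_left, Bf_smul_right, Bf_ev_fv_of_ne (hrev a b hab), hab]
  · by_cases hab : a = b
    · subst hab
      simp [levCol, Matrix.J, Bf_smul_left, Bf_smul_right, hs a.val a.isLt]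
    · simp [levCol, Matrix.J, Bf_smul_left, Bf_smul_right, Bf_fv_ev_of_ne (hrev a b hab), hab]
  · simp [levCol, Matrix.J, Bf_smul_left, Bf_smul_right]

/-- the Levi reversal element `e_k ↦ s_k e_{N+1-k}`, `f_k ↦ s_k⁻¹ f_{N+1-k}` -/
def levS (N : ℕ) (s : ℕ → F) (hs : ∀ k, k < N + 2 → s k ≠ 0) :
    Matrix.symplecticGroup (Fin (N + 2)) F := spOfCols (levCol N s) (levCol_cond s hs)

theorem levS_smul_ev (s : ℕ → F) (hs : ∀ k, k < N + 2 → s k ≠ 0) {k : ℕ} (hk : k < N + 2) :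
    levS N s hs • ev N F k = s k • ev N F (N + 1 - k) := by
  unfold levS ev
  rw [spOfCols_smul_eV]
  simp only [levCol, ix_val hk]
  rfl

theorem levS_smul_fv (s : ℕ → F) (hs : ∀ k, k < N + 2 → s k ≠ 0) {k : ℕ} (hk : k < N + 2) :
    levS N s hs • fv N F k = (s k)⁻¹ • fv N F (N + 1 - k) := by
  unfold levS fv
  rw [spOfCols_smul_fV]
  simp only [levCol, ix_val hk]
  rfl

/-- the Weyl element of the plane `<e_0, f_0>` -/
def wEl (N : ℕ) (F : Type*) [Field F] : Matrix.symplecticGroup (Fin (N + 2)) F :=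
  tv (ev N F 0) 1 * tv (fv N F 0) 1 * tv (ev N F 0) 1

theorem wEl_smul (x : Fin (N + 2) ⊕ Fin (N + 2) → F) :
    wEl N F • x = x + (Bf x (ev N F 0) + Bf x (fv N F 0)) • ev N F 0
      + (Bf x (fv N F 0) - Bf x (ev N F 0)) • fv N F 0 := by
  unfold wEl
  simp only [mul_smul, tv_smul, Bf_add_left, Bf_smul_left, Bf_self, Bf_fv_ev_self, Bf_ev_fv_self]
  module

theorem wEl_smul_ev0 : wEl N F • ev N F 0 = -fv N F 0 := by
  rw [wEl_smul, Bf_self, Bf_ev_fv_self]
  module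

theorem wEl_smul_fv0 : wEl N F • fv N F 0 = ev N F 0 := by
  rw [wEl_smul, Bf_self, Bf_fv_ev_self]
  module

theorem wEl_smul_of_orth {x : Fin (N + 2) ⊕ Fin (N + 2) → F} (h1 : Bf x (ev N F 0) = 0)
    (h2 : Bf x (fv N F 0) = 0) : wEl N F • x = x := by
  rw [wEl_smul, h1, h2]
  module

theorem wEl_smul_ev {k : ℕ} (hk : k < N + 2) (hk0 : k ≠ 0) : wEl N F • ev N F k = ev N F k :=
  wEl_smul_of_orth (Bf_ev_ev _ _) (Bf_ev_fv_of_ne (ix_ne hk (by omega) hk0))

theorem wEl_smul_fv {k : ℕ} (hk : k < N + 2) (hk0 : k ≠ 0) : wEl N F • fv N F k = fv N F k :=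
  wEl_smul_of_orth (Bf_fv_ev_of_ne (ix_ne hk (by omega) hk0)) (Bf_fv_fv _ _)

/-- the weighted Coxeter-type element -/
def hEl (N : ℕ) (s : ℕ → F) (hs : ∀ k, k < N + 2 → s k ≠ 0) :
    Matrix.symplecticGroup (Fin (N + 2)) F := wEl N F * levS N s hs

theorem hEl_smul_ev (s : ℕ → F) (hs : ∀ k, k < N + 2 → s k ≠ 0) {k : ℕ} (hk : k ≤ N) :
    hEl N s hs • ev N F k = s k • ev N F (N + 1 - k) := by
  unfold hEl
  rw [mul_smul, levS_smul_ev s hs (by omega), smul_comm, wEl_smul_ev (by omega) (by omega)]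

theorem hEl_smul_fv (s : ℕ → F) (hs : ∀ k, k < N + 2 → s k ≠ 0) {k : ℕ} (hk : k ≤ N) :
    hEl N s hs • fv N F k = (s k)⁻¹ • fv N F (N + 1 - k) := by
  unfold hEl
  rw [mul_smul, levS_smul_fv s hs (by omega), smul_comm, wEl_smul_fv (by omega) (by omega)]

theorem hEl_smul_ev_top (s : ℕ → F) (hs : ∀ k, k < N + 2 → s k ≠ 0) :
    hEl N s hs • ev N F (N + 1) = (-s (N + 1)) • fv N F 0 := by
  unfold hEl
  rw [mul_smul, levS_smul_ev s hs (by omega), smul_comm, Nat.sub_self, wEl_smul_ev0]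
  module

theorem hEl_smul_fv_top (s : ℕ → F) (hs : ∀ k, k < N + 2 → s k ≠ 0) :
    hEl N s hs • fv N F (N + 1) = (s (N + 1))⁻¹ • ev N F 0 := by
  unfold hEl
  rw [mul_smul, levS_smul_fv s hs (by omega), smul_comm, Nat.sub_self, wEl_smul_fv0]

end Cfsg.Agent.Helper12.SpGen
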