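import Mathlib
import Cfsg.Agent.Lib.Helper12.SpGenE

set_option autoImplicit false

/-!
# Structure of the third generator `h u h⁻¹` and commutation with tails
-/

namespace Cfsg.Agent.Helper12.SpGen

open Matrix
open Cfsg.Agent.Helper2.Symp
open scoped Cfsg.Agent.Helper2.Symp

variable {N : ℕ} {F : Type*} [Field F]

/-! ### orthogonality of distinct basis vectors, in a form suited to `simp (disch := omega)` -/

theorem Bf_fv_ev_lt {i j : ℕ} (hi : i < N + 2) (hj : j < N + 2) (h : i ≠ j) :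
    Bf (fv N F i) (ev N F j) = 0 := Bf_fv_ev_of_ne (ix_ne hi hj h)

theorem Bf_ev_fv_lt {i j : ℕ} (hi : i < N + 2) (hj : j < N + 2) (h : i ≠ j) :
    Bf (ev N F i) (fv N F j) = 0 := Bf_ev_fv_of_ne (ix_ne hi hj h)

/-! ### commutation with partial products -/

theorem commute_rootA {g : Matrix.symplecticGroup (Fin (N + 2)) F} {i : ℕ}
    (he : g • ev N F i = ev N F i) (hf : g • fv N F (i + 1) = fv N F (i + 1)) :
    g * rootA N F i = rootA N F i * g := by
  unfold rootA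
  apply commute_Tm_of_smul_eq he
  rw [smul_neg, hf]

theorem Zp_commute (g : Matrix.symplecticGroup (Fin (N + 2)) F) :
    ∀ d : ℕ, d ≤ N + 1 → g • ev N F (N + 1) = ev N F (N + 1) →
      (∀ k, N + 1 ≤ k + d → k ≤ N → g • ev N F k = ev N F k ∧ g • fv N F (k + 1) = fv N F (k + 1)) →
      g * Zp N F d = Zp N F d * g := by
  intro d
  induction d with
  | zero =>
    intro _ h1 _
    unfold Zp
    exact commute_tv_of_smul_eq h1 1
  | succ d ih =>
    intro hd h1 h2
    have e1 := ih (by omega) h1 (fun k hk hk' => h2 k (by omega) hk')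
    have e2 := h2 (N - d) (by omega) (by omega)
    have e3 := commute_rootA e2.1 e2.2
    rw [Zp_succ, ← mul_assoc, e1, mul_assoc, e3, mul_assoc]

/-- commutation with the tail `(Zp j)⁻¹ Zp d` -/
theorem Zp_tail_commute (g : Matrix.symplecticGroup (Fin (N + 2)) F) (j : ℕ) :
    ∀ d : ℕ, j ≤ d → d ≤ N + 1 →
      (∀ k, j ≤ k → k < d → g * rootA N F (N - k) = rootA N F (N - k) * g) →
      g * ((Zp N F j)⁻¹ * Zp N F d) = ((Zp N F j)⁻¹ * Zp N F d) * g := by
  intro d hjd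
  induction d, hjd using Nat.le_induction with
  | base =>
    intro _ _
    rw [inv_mul_cancel, mul_one, one_mul]
  | succ d hd ih =>
    intro hd1 h
    have e1 := ih (by omega) (fun k hk hk' => h k hk (by omega))
    have e2 := h d hd (by omega)
    calc g * ((Zp N F j)⁻¹ * Zp N F (d + 1))
        = (g * ((Zp N F j)⁻¹ * Zp N F d)) * rootA N F (N - d) := by rw [Zp_succ]; group
      _ = ((Zp N F j)⁻¹ * Zp N F d) * (g * rootA N F (N - d)) := by rw [e1]; group
      _ = (Zp N F j)⁻¹ * Zp N F (d + 1) * g := by rw [e2, Zp_succ]; group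

/-! ### the conjugated partial products -/

section third

variable (s : ℕ → F) (hs : ∀ k, k < N + 2 → s k ≠ 0)

/-- conjugates of the partial products -/
def Z3 (N : ℕ) (s : ℕ → F) (hs : ∀ k, k < N + 2 → s k ≠ 0) (d : ℕ) :
    Matrix.symplecticGroup (Fin (N + 2)) F :=
  hEl N s hs * Zp N F d * (hEl N s hs)⁻¹

/-- the third generator -/
def u3El (N : ℕ) (s : ℕ → F) (hs : ∀ k, k < N + 2 → s k ≠ 0) :
    Matrix.symplecticGroup (Fin (N + 2)) F := Z3 N s hs (N + 1)

theorem u3El_eq : u3El N s hs = hEl N s hs * uReg N F * (hEl N s hs)⁻¹ := rfl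

theorem Z3_zero : Z3 N s hs 0 = tv (fv N F 0) (s (N + 1) * s (N + 1)) := by
  unfold Z3 Zp
  rw [conj_tv, hEl_smul_ev_top, tv_smul_vec]
  congr 1
  ring

theorem Z3_succ (d : ℕ) :
    Z3 N s hs (d + 1) = Z3 N s hs d *
      Tm (hEl N s hs • ev N F (N - d)) (-(hEl N s hs • fv N F (N - d + 1))) := by
  unfold Z3
  rw [Zp_succ]
  unfold rootA
  rw [← smul_neg, ← conj_Tm]
  group

theorem Z3_one : Z3 N s hs 1 = tv (fv N F 0) (s (N + 1) * s (N + 1)) *
    Tm (s N • ev N F 1) (-((s (N + 1))⁻¹ • ev N F 0)) := by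
  rw [Z3_succ, Z3_zero, Nat.sub_zero, hEl_smul_ev s hs le_rfl, hEl_smul_fv_top]
  have : N + 1 - N = 1 := by omega
  rw [this]

theorem Z3_succ' {d : ℕ} (hd1 : 1 ≤ d) (hd : d ≤ N) :
    Z3 N s hs (d + 1) = Z3 N s hs d *
      Tm (s (N - d) • ev N F (d + 1)) (-((s (N - d + 1))⁻¹ • fv N F d)) := by
  rw [Z3_succ, hEl_smul_ev s hs (by omega), hEl_smul_fv s hs (by omega)]
  have e1 : N + 1 - (N - d) = d + 1 := by omega
  have e2 : N + 1 - (N - d + 1) = d := by omega
  rw [e1, e2]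

/-- commutation with the tail of the third generator -/
theorem Z3_tail_commute (g : Matrix.symplecticGroup (Fin (N + 2)) F) (j : ℕ) (hj : 1 ≤ j)
    (hj' : j ≤ N + 1)
    (hg : ∀ k, j ≤ k → k ≤ N → g • ev N F (k + 1) = ev N F (k + 1) ∧ g • fv N F k = fv N F k) :
    g * ((Z3 N s hs j)⁻¹ * u3El N s hs) = ((Z3 N s hs j)⁻¹ * u3El N s hs) * g := by
  set h := hEl N s hs with hh
  have key : (h⁻¹ * g * h) * ((Zp N F j)⁻¹ * Zp N F (N + 1))
      = ((Zp N F j)⁻¹ * Zp N F (N + 1)) * (h⁻¹ * g * h) := by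
    apply Zp_tail_commute _ j (N + 1) hj' le_rfl
    intro k hk hk'
    obtain ⟨e1, e2⟩ := hg k hk (by omega)
    have e3 : g * (h * rootA N F (N - k) * h⁻¹) = (h * rootA N F (N - k) * h⁻¹) * g := by
      unfold rootA
      rw [conj_Tm, hh, hEl_smul_ev s hs (by omega), smul_neg, hEl_smul_fv s hs (by omega)]
      have a1 : N + 1 - (N - k) = k + 1 := by omega
      have a2 : N + 1 - (N - k + 1) = k := by omega
      rw [a1, a2]
      apply commute_Tm_of_smul_eq
      · rw [smul_comm, e1]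
      · rw [smul_neg, smul_comm, e2]
    calc h⁻¹ * g * h * rootA N F (N - k)
        = h⁻¹ * (g * (h * rootA N F (N - k) * h⁻¹)) * h := by group
      _ = h⁻¹ * ((h * rootA N F (N - k) * h⁻¹) * g) * h := by rw [e3]
      _ = rootA N F (N - k) * (h⁻¹ * g * h) := by group
  unfold u3El Z3
  rw [← hh]
  calc g * ((h * Zp N F j * h⁻¹)⁻¹ * (h * Zp N F (N + 1) * h⁻¹))
      = h * ((h⁻¹ * g * h) * ((Zp N F j)⁻¹ * Zp N F (N + 1))) * h⁻¹ := by group
    _ = h * (((Zp N F j)⁻¹ * Zp N F (N + 1)) * (h⁻¹ * g * h)) * h⁻¹ := by rw [key]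
    _ = (h * Zp N F j * h⁻¹)⁻¹ * (h * Zp N F (N + 1) * h⁻¹) * g := by group

/-! ### the action of the third generator on the plane `<e_0, f_0>` -/

theorem hEl_inv_smul_ev0 : (hEl N s hs)⁻¹ • ev N F 0 = s (N + 1) • fv N F (N + 1) := by
  rw [inv_smul_eq_iff, smul_comm, hEl_smul_fv_top, smul_smul, mul_inv_cancel₀ (hs _ (by omega)),
    one_smul]

theorem hEl_inv_smul_fv0 : (hEl N s hs)⁻¹ • fv N F 0 = (-(s (N + 1))⁻¹) • ev N F (N + 1) := by
  rw [inv_smul_eq_iff, smul_comm, hEl_smul_ev_top, smul_smul, neg_mul_neg,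
    inv_mul_cancel₀ (hs _ (by omega)), one_smul]

theorem uReg_smul_ev_top : uReg N F • ev N F (N + 1) = ev N F (N + 1) + ev N F N := by
  unfold uReg
  rw [Zp_smul_ev_high (N + 1) le_rfl (N + 1) (by omega) le_rfl]
  rfl

theorem uReg_smul_fv_top : uReg N F • fv N F (N + 1) = fv N F (N + 1) + ev N F (N + 1) :=
  Zp_smul_fv_top (N + 1) le_rfl

theorem u3El_smul_ev0 :
    u3El N s hs • ev N F 0 = ev N F 0 - (s (N + 1) * s (N + 1)) • fv N F 0 := by
  rw [u3El_eq, mul_smul, mul_smul, hEl_inv_smul_ev0, smul_comm (uReg N F), uReg_smul_fv_top,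
    smul_comm (hEl N s hs), smul_add, hEl_smul_fv_top, hEl_smul_ev_top, smul_add, smul_smul,
    smul_smul, mul_inv_cancel₀ (hs _ (by omega))]
  module

theorem u3El_smul_fv0 :
    u3El N s hs • fv N F 0 = fv N F 0 - (s N * (s (N + 1))⁻¹) • ev N F 1 := by
  rw [u3El_eq, mul_smul, mul_smul, hEl_inv_smul_fv0, smul_comm (uReg N F), uReg_smul_ev_top,
    smul_comm (hEl N s hs), smul_add, hEl_smul_ev_top, hEl_smul_ev s hs le_rfl, smul_add,
    smul_smul, smul_smul, neg_mul_neg, inv_mul_cancel₀ (hs _ (by omega))]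
  have : N + 1 - N = 1 := by omega
  rw [this]
  module

end third

end Cfsg.Agent.Helper12.SpGen
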