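import Mathlib
import Cfsg.Agent.Lib.Helper12.SpGenF

set_option autoImplicit false

/-!
# Further generic lemmas: negation, odd order, the central involution of the plane
-/

namespace Cfsg.Agent.Helper12.SpGen

open Matrix
open Cfsg.Agent.Helper2.Symp
open scoped Cfsg.Agent.Helper2.Symp

section generic

variable {m : ℕ} {F : Type*} [Field F]

theorem tv_neg_vec (v : Fin m ⊕ Fin m → F) (c : F) : tv (-v) c = tv v c := by
  have := tv_smul_vec (-1 : F) v c
  rw [neg_one_smul] at this
  rw [this]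
  congr 1
  ring

/-- `Tm a (λ a)` is a transvection -/
theorem Tm_self_smul (a : Fin m ⊕ Fin m → F) (l : F) : Tm a (l • a) = tv a (2 * l) := by
  have h : Bf a (l • a) = 0 := by rw [Bf_smul_right, Bf_self, mul_zero]
  apply ext_smul
  intro x
  rw [Tm_smul h, tv_smul, Bf_smul_right]
  module

theorem Tm_add_self_right {a b : Fin m ⊕ Fin m → F} (h : Bf a b = 0) (l : F) :
    Tm a (b + l • a) = Tm a b * tv a (2 * l) := by
  have h1 : Bf a (l • a) = 0 := by rw [Bf_smul_right, Bf_self, mul_zero]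
  have := Tm_add_right h h1
  rw [Bf_smul_left, h, mul_zero, tv_zero_right, mul_one, Tm_self_smul] at this
  exact this.symm

theorem mem_of_mul_self_mem {G : Type*} [Group G] (H : Subgroup G) {g : G} {p : ℕ} (hp : Odd p)
    (hg : g ^ p = 1) (h : g * g ∈ H) : g ∈ H := by
  obtain ⟨k, hk⟩ := hp
  have e : g = (g * g) ^ (k + 1) := by
    rw [← pow_two, ← pow_mul]
    have : 2 * (k + 1) = p + 1 := by omega
    rw [this, pow_succ, hg, one_mul]
  rw [e]
  exact H.pow_mem h _

theorem odd_ringChar [Fintype F] (h2 : (2 : F) ≠ 0) : Odd (ringChar F) := by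
  haveI := ringChar.charP F
  have hp : (ringChar F).Prime := CharP.char_is_prime F (ringChar F)
  apply hp.odd_of_ne_two
  intro e
  apply h2
  have := CharP.cast_eq_zero F (ringChar F)
  rw [e] at this
  exact_mod_cast this

theorem Tm_pow_ringChar {a b : Fin m ⊕ Fin m → F} (h : Bf a b = 0) :
    (Tm a b) ^ (ringChar F) = 1 := by
  haveI := ringChar.charP F
  rw [Tm_pow h, CharP.cast_eq_zero, zero_smul, Tm_zero_left]

theorem Tm_mem_of_sq_mem [Fintype F] (h2 : (2 : F) ≠ 0)
    (H : Subgroup (Matrix.symplecticGroup (Fin m) F)) {a b : Fin m ⊕ Fin m → F} (h : Bf a b = 0)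
    (hsq : Tm a b * Tm a b ∈ H) : Tm a b ∈ H :=
  mem_of_mul_self_mem H (odd_ringChar h2) (Tm_pow_ringChar h) hsq

end generic

variable {N : ℕ} {F : Type*} [Field F]

/-- the central involution of `Sp(<e_0, f_0>)` -/
def iotaEl (N : ℕ) (F : Type*) [Field F] : Matrix.symplecticGroup (Fin (N + 2)) F :=
  wEl N F * wEl N F

theorem iotaEl_smul_ev0 : iotaEl N F • ev N F 0 = -ev N F 0 := by
  unfold iotaEl
  rw [mul_smul, wEl_smul_ev0, smul_neg, wEl_smul_fv0]

theorem iotaEl_smul_fv0 : iotaEl N F • fv N F 0 = -fv N F 0 := by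
  unfold iotaEl
  rw [mul_smul, wEl_smul_fv0, wEl_smul_ev0]

theorem iotaEl_smul_of_orth {x : Fin (N + 2) ⊕ Fin (N + 2) → F} (h1 : Bf x (ev N F 0) = 0)
    (h2 : Bf x (fv N F 0) = 0) : iotaEl N F • x = x := by
  unfold iotaEl
  rw [mul_smul, wEl_smul_of_orth h1 h2, wEl_smul_of_orth h1 h2]

theorem iotaEl_smul_ev {k : ℕ} (hk : k < N + 2) (hk0 : k ≠ 0) :
    iotaEl N F • ev N F k = ev N F k :=
  iotaEl_smul_of_orth (Bf_ev_ev _ _) (Bf_ev_fv_lt hk (by omega) hk0)

theorem iotaEl_smul_fv {k : ℕ} (hk : k < N + 2) (hk0 : k ≠ 0) :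
    iotaEl N F • fv N F k = fv N F k :=
  iotaEl_smul_of_orth (Bf_fv_ev_lt hk (by omega) hk0) (Bf_fv_fv _ _)

/-- the Weyl element as a product of long root elements -/
theorem wEl_eq_prod :
    wEl N F = tv (ev N F 0) 1 * tv (ev N F 0) 1 * tv (ev N F 0 - fv N F 0) 1 := by
  apply ext_smul
  intro x
  rw [wEl_smul]
  simp only [mul_smul, tv_smul, Bf_add_left, Bf_sub_right, Bf_smul_left, Bf_sub_left, Bf_self,
    Bf_fv_ev_self, Bf_ev_fv_self]
  module

/-- three-element fields -/
theorem eq_of_card_three [Fintype F] [DecidableEq F] (h2 : (2 : F) ≠ 0)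
    (h3 : Fintype.card F = 3) (x : F) : x = 0 ∨ x = 1 ∨ x = -1 := by
  have h01 : (0 : F) ≠ 1 := zero_ne_one
  have h0m : (0 : F) ≠ -1 := by
    intro e
    have : (1 : F) = 0 := by linear_combination e
    exact one_ne_zero this
  have h1m : (1 : F) ≠ -1 := by
    intro e
    apply h2
    linear_combination e
  have hc : ({0, 1, -1} : Finset F).card = 3 := by
    rw [Finset.card_insert_of_notMem, Finset.card_insert_of_notMem, Finset.card_singleton]
    · simpa using h1m
    · simp [h01, h0m]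
  have hu : ({0, 1, -1} : Finset F) = Finset.univ := by
    apply Finset.eq_univ_of_card
    rw [hc, h3]
  have := Finset.mem_univ x
  rw [← hu] at this
  simpa using this

end Cfsg.Agent.Helper12.SpGen
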