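import Mathlib
import Cfsg.Agent.Lib.Helper12.SpGenG
import Cfsg.Agent.Lib.Helper12.SpGenD
import Cfsg.Agent.Lib.Helper12.SLGen2

set_option autoImplicit false

/-!
# Odd characteristic: the three conjugates generate
-/

namespace Cfsg.Agent.Helper12.SpGen

open Matrix
open Cfsg.Agent.Helper2.Symp
open scoped Cfsg.Agent.Helper2.Symp

section lam

variable {F : Type*} [Field F] {V : Type*} [AddCommGroup V] [Module F V]

/-- the scalars `l` with `l • v` in a given additive subgroup -/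
def LamOf (B : AddSubgroup V) (v : V) : AddSubgroup F where
  carrier := {l | l • v ∈ B}
  zero_mem' := by
    show (0 : F) • v ∈ B
    rw [zero_smul]
    exact B.zero_mem
  add_mem' := by
    intro a b ha hb
    show (a + b) • v ∈ B
    rw [add_smul]
    exact B.add_mem ha hb
  neg_mem' := by
    intro a ha
    show (-a) • v ∈ B
    rw [neg_smul]
    exact B.neg_mem ha

theorem mem_LamOf {B : AddSubgroup V} {v : V} {l : F} : l ∈ LamOf B v ↔ l • v ∈ B := Iff.rfl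

end lam

variable {N : ℕ} {F : Type*} [Field F] [Fintype F]
variable {H : Subgroup (Matrix.symplecticGroup (Fin (N + 2)) F)}

theorem B0_add_aux (h2 : (2 : F) ≠ 0) (hι : iotaEl N F ∈ H)
    {b₁ b₂ : Fin (N + 2) ⊕ Fin (N + 2) → F}
    (h1e : Bf b₁ (ev N F 0) = 0) (h1f : Bf b₁ (fv N F 0) = 0) (h1 : Tm (ev N F 0) b₁ ∈ H)
    (h2e : Bf b₂ (ev N F 0) = 0) (h2f : Bf b₂ (fv N F 0) = 0) (h2' : Tm (ev N F 0) b₂ ∈ H) :
    Tm (ev N F 0) (b₁ + b₂) ∈ H ∧ tv (ev N F 0) (Bf b₂ b₁) ∈ H := by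
  have ha1 : Bf (ev N F 0) b₁ = 0 := Bf_symm_zero h1e
  have ha2 : Bf (ev N F 0) b₂ = 0 := Bf_symm_zero h2e
  have h12 : Bf (ev N F 0) (b₁ + b₂) = 0 := by rw [Bf_add_right, ha1, ha2, add_zero]
  have key := Tm_add_right ha1 ha2
  set T := Tm (ev N F 0) (b₁ + b₂) with hT
  set Z := tv (ev N F 0) (Bf b₂ b₁) with hZ
  have hP : T * Z ∈ H := by
    rw [← key]
    exact H.mul_mem h1 h2'
  have hb : iotaEl N F • (b₁ + b₂) = b₁ + b₂ :=
    iotaEl_smul_of_orth (by rw [Bf_add_left, h1e, h2e, add_zero])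
      (by rw [Bf_add_left, h1f, h2f, add_zero])
  have hPc : T⁻¹ * Z ∈ H := by
    have h3 := conj_mem H hι hP
    have e : iotaEl N F * (T * Z) * (iotaEl N F)⁻¹
        = (iotaEl N F * T * (iotaEl N F)⁻¹) * (iotaEl N F * Z * (iotaEl N F)⁻¹) := by group
    rw [e, hT, hZ, conj_Tm, conj_tv, iotaEl_smul_ev0, hb, Tm_neg_left h12, tv_neg_vec] at h3
    exact h3
  have hTT : T * T ∈ H := by
    have : T * T = (T * Z) * (T⁻¹ * Z)⁻¹ := by group
    rw [this]
    exact H.mul_mem hP (H.inv_mem hPc)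
  have hTm : T ∈ H := Tm_mem_of_sq_mem h2 H h12 hTT
  refine ⟨hTm, ?_⟩
  have : Z = T⁻¹ * (T * Z) := by group
  rw [this]
  exact H.mul_mem (H.inv_mem hTm) hP

/-- the vectors `b` orthogonal to the plane with `Tm e_0 b` in `H` -/
def B0 (H : Subgroup (Matrix.symplecticGroup (Fin (N + 2)) F)) (h2 : (2 : F) ≠ 0)
    (hι : iotaEl N F ∈ H) : AddSubgroup (Fin (N + 2) ⊕ Fin (N + 2) → F) where
  carrier := {b | Bf b (ev N F 0) = 0 ∧ Bf b (fv N F 0) = 0 ∧ Tm (ev N F 0) b ∈ H}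
  zero_mem' := by
    refine ⟨Bf_zero_left _, Bf_zero_left _, ?_⟩
    rw [Tm_zero_right]
    exact H.one_mem
  add_mem' := by
    rintro b₁ b₂ ⟨h1e, h1f, h1⟩ ⟨h2e, h2f, h2'⟩
    refine ⟨by rw [Bf_add_left, h1e, h2e, add_zero], by rw [Bf_add_left, h1f, h2f, add_zero], ?_⟩
    exact (B0_add_aux h2 hι h1e h1f h1 h2e h2f h2').1
  neg_mem' := by
    rintro b ⟨h1e, h1f, h1⟩
    refine ⟨by rw [Bf_neg_left, h1e, neg_zero], by rw [Bf_neg_left, h1f, neg_zero], ?_⟩
    rw [Tm_neg_right (Bf_symm_zero h1e)]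
    exact H.inv_mem h1

theorem mem_B0 {h2 : (2 : F) ≠ 0} {hι : iotaEl N F ∈ H} {b : Fin (N + 2) ⊕ Fin (N + 2) → F} :
    b ∈ B0 H h2 hι ↔
      Bf b (ev N F 0) = 0 ∧ Bf b (fv N F 0) = 0 ∧ Tm (ev N F 0) b ∈ H := Iff.rfl

theorem B0_smul_mem {h2 : (2 : F) ≠ 0} {hι : iotaEl N F ∈ H}
    {y : Matrix.symplecticGroup (Fin (N + 2)) F} (hy : y ∈ H)
    (hye : y • ev N F 0 = ev N F 0) (hyf : y • fv N F 0 = fv N F 0)
    {b : Fin (N + 2) ⊕ Fin (N + 2) → F} (hb : b ∈ B0 H h2 hι) : y • b ∈ B0 H h2 hι := by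
  obtain ⟨h1, h2', h3⟩ := hb
  refine ⟨?_, ?_, ?_⟩
  · rw [← hye, Bf_smul_smul, h1]
  · rw [← hyf, Bf_smul_smul, h2']
  · have := Tm_smul_mem H hy h3
    rwa [hye] at this

/-- the transvection along a vector of `B0` -/
theorem tv_mem_of_Tm_mem (hw : wEl N F ∈ H) (hy : tv (fv N F 0) 1 ∈ H)
    {b : Fin (N + 2) ⊕ Fin (N + 2) → F} (he : Bf b (ev N F 0) = 0) (hf : Bf b (fv N F 0) = 0)
    (hT : Tm (ev N F 0) b ∈ H) : tv b 1 ∈ H := by
  have h1 : Tm (-fv N F 0) b ∈ H := by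
    have := Tm_smul_mem H hw hT
    rwa [wEl_smul_ev0, wEl_smul_of_orth he hf] at this
  have h2 : Tm (ev N F 0 + -fv N F 0) b ∈ H := by
    have := Tm_smul_mem H hy hT
    rw [tv_smul, tv_smul, hf, Bf_ev_fv_self] at this
    have e1 : ev N F 0 + ((1 : F) * -1) • fv N F 0 = ev N F 0 + -fv N F 0 := by module
    have e2 : b + ((1 : F) * 0) • fv N F 0 = b := by module
    rwa [e1, e2] at this
  have o1 : Bf (ev N F 0) b = 0 := Bf_symm_zero he
  have o2 : Bf (-fv N F 0) b = 0 := by rw [Bf_neg_left, Bf_symm_zero hf, neg_zero]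
  have key := Tm_add_left o1 o2
  rw [Bf_neg_left, Bf_fv_ev_self] at key
  have e : tv b 1 = ((Tm (ev N F 0 + -fv N F 0) b)⁻¹ * (Tm (ev N F 0) b * Tm (-fv N F 0) b))⁻¹ := by
    rw [key, ← tv_inv b 1]
    group
  rw [e]
  exact H.inv_mem (H.mul_mem (H.inv_mem h2) (H.mul_mem hT h1))

section split

variable {G : Type*} [Group G] (K : Subgroup G)

theorem iota_split_right {T R i : G} (hT : i * T * i⁻¹ = T⁻¹) (hR : i * R = R * i) (hi : i ∈ K)
    (hP : T * R ∈ K) : T * T ∈ K := by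
  have h1 : i * (T * R) * i⁻¹ = T⁻¹ * R := by
    calc i * (T * R) * i⁻¹ = (i * T * i⁻¹) * (i * R) * i⁻¹ := by group
      _ = T⁻¹ * (R * i) * i⁻¹ := by rw [hT, hR]
      _ = T⁻¹ * R := by group
  have h2 : T⁻¹ * R ∈ K := by
    rw [← h1]
    exact K.mul_mem (K.mul_mem hi hP) (K.inv_mem hi)
  have : T * T = (T * R) * (T⁻¹ * R)⁻¹ := by group
  rw [this]
  exact K.mul_mem hP (K.inv_mem h2)

theorem iota_split_left {L T i : G} (hT : i * T * i⁻¹ = T⁻¹) (hL : i * L = L * i) (hi : i ∈ K)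
    (hP : L * T ∈ K) : T * T ∈ K := by
  have h1 : i * (L * T) * i⁻¹ = L * T⁻¹ := by
    calc i * (L * T) * i⁻¹ = (i * L) * i⁻¹ * (i * T * i⁻¹) := by group
      _ = (L * i) * i⁻¹ * T⁻¹ := by rw [hT, hL]
      _ = L * T⁻¹ := by group
  have h2 : L * T⁻¹ ∈ K := by
    rw [← h1]
    exact K.mul_mem (K.mul_mem hi hP) (K.inv_mem hi)
  have : T * T = (L * T⁻¹)⁻¹ * (L * T) := by group
  rw [this]
  exact K.mul_mem (K.inv_mem h2) hP

end split

variable {N : ℕ} {F : Type*} [Field F] [Fintype F]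
variable {H : Subgroup (Matrix.symplecticGroup (Fin (N + 2)) F)}

theorem card_eq_three_of_not_lt (h2 : (2 : F) ≠ 0) (h3 : ¬ 3 < Fintype.card F) :
    Fintype.card F = 3 := by
  have h1 : 1 < Fintype.card F := Fintype.one_lt_card
  have h4 : Fintype.card F ≠ 2 := by
    intro e
    apply h2
    have := Nat.cast_card_eq_zero F
    rw [e] at this
    exact_mod_cast this
  omega

/-- **Odd characteristic.** -/
theorem caseI_top (h2 : (2 : F) ≠ 0) (μ : Fˣ) (hμ : ∀ x : Fˣ, x ∈ Subgroup.zpowers μ)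
    (s : ℕ → F) (hs : ∀ k, k < N + 2 → s k ≠ 0) (hs1 : s (N + 1) = 1) (hsN : s N = (μ : F))
    (hu : uReg N F ∈ H) (hz : tv (ev N F 0) 1 ∈ H) (hu3 : u3El N s hs ∈ H) : H = ⊤ := by
  classical
  have hμ0 : (μ : F) ≠ 0 := μ.ne_zero
  -- the long root element `z'`
  have hz' : tv (ev N F 0 - fv N F 0) 1 ∈ H := by
    have := tv_smul_mem H hu3 hz
    rw [u3El_smul_ev0, hs1, one_mul, one_smul] at this
    exact this
  -- the Weyl element
  have hw : wEl N F ∈ H := by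
    rw [wEl_eq_prod]
    exact H.mul_mem (H.mul_mem hz hz) hz'
  have hy : tv (fv N F 0) 1 ∈ H := by
    have := tv_smul_mem H hw hz
    rwa [wEl_smul_ev0, tv_neg_vec] at this
  have hι : iotaEl N F ∈ H := H.mul_mem hw hw
  -- the root element `x_{e_0 - e_1}(1)`
  have hcomm : iotaEl N F * Zp N F N = Zp N F N * iotaEl N F := by
    apply Zp_commute _ N (by omega) (iotaEl_smul_ev (by omega) (by omega))
    intro k hk hk'
    exact ⟨iotaEl_smul_ev (by omega) (by omega), iotaEl_smul_fv (by omega) (by omega)⟩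
  have hu_eq : uReg N F = Zp N F N * rootA N F 0 := by
    unfold uReg
    rw [Zp_succ, Nat.sub_self]
  have hr0 : Bf (ev N F 0) (-fv N F 1) = 0 := rootA_orth (by omega)
  have hT : rootA N F 0 ∈ H := by
    have hconj : iotaEl N F * rootA N F 0 * (iotaEl N F)⁻¹ = (rootA N F 0)⁻¹ := by
      unfold rootA
      rw [conj_Tm, iotaEl_smul_ev0, smul_neg, iotaEl_smul_fv (by omega) (by omega),
        Tm_neg_left hr0]
    have := iota_split_left H hconj hcomm hι (by rw [← hu_eq]; exact hu)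
    exact Tm_mem_of_sq_mem h2 H hr0 this
  -- the second factor of the third generator
  have hT2 : Tm (ev N F 0) ((-(μ : F)) • ev N F 1) ∈ H := by
    have hR := Z3_tail_commute s hs (iotaEl N F) 1 le_rfl (by omega)
      (fun k hk hk' => ⟨iotaEl_smul_ev (by omega) (by omega), iotaEl_smul_fv (by omega) (by omega)⟩)
    have hu3_eq : u3El N s hs = Z3 N s hs 1 * ((Z3 N s hs 1)⁻¹ * u3El N s hs) := by group
    generalize (Z3 N s hs 1)⁻¹ * u3El N s hs = R at hR hu3_eq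
    rw [Z3_one, hs1, hsN, one_mul, inv_one, one_smul] at hu3_eq
    have o : Bf ((μ : F) • ev N F 1) (-ev N F 0) = 0 := by
      rw [Bf_neg_right, Bf_smul_left, Bf_ev_ev, mul_zero, neg_zero]
    have hP : Tm ((μ : F) • ev N F 1) (-ev N F 0) * R ∈ H := by
      have : Tm ((μ : F) • ev N F 1) (-ev N F 0) * R = (tv (fv N F 0) 1)⁻¹ * u3El N s hs := by
        rw [hu3_eq]; group
      rw [this]
      exact H.mul_mem (H.inv_mem hy) hu3
    have hconj : iotaEl N F * Tm ((μ : F) • ev N F 1) (-ev N F 0) * (iotaEl N F)⁻¹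
        = (Tm ((μ : F) • ev N F 1) (-ev N F 0))⁻¹ := by
      rw [conj_Tm, smul_comm, iotaEl_smul_ev (by omega) (by omega), smul_neg, iotaEl_smul_ev0,
        Tm_neg_right o]
    have h4 := Tm_mem_of_sq_mem h2 H o (iota_split_right H hconj hR hι hP)
    have e : Tm ((μ : F) • ev N F 1) (-ev N F 0) = Tm (ev N F 0) ((-(μ : F)) • ev N F 1) := by
      have o' : Bf (ev N F 0) ((-(μ : F)) • ev N F 1) = 0 := by
        rw [Bf_smul_right, Bf_ev_ev, mul_zero]
      apply ext_smul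
      intro x
      rw [Tm_smul o, Tm_smul o']
      simp only [Bf_neg_right, Bf_smul_right]
      module
    rwa [e] at h4
  -- the additive group `B0`
  have h01e : Bf (fv N F 1) (ev N F 0) = 0 := Bf_fv_ev_lt (by omega) (by omega) (by omega)
  have h10e : Bf (fv N F 0) (ev N F 1) = 0 := Bf_fv_ev_lt (by omega) (by omega) (by omega)
  have hb1 : -fv N F 1 ∈ B0 H h2 hι := by
    refine ⟨by rw [Bf_neg_left, h01e, neg_zero], by rw [Bf_neg_left, Bf_fv_fv, neg_zero], ?_⟩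
    exact hT
  have hb2 : (-(μ : F)) • ev N F 1 ∈ B0 H h2 hι := by
    refine ⟨by rw [Bf_smul_left, Bf_ev_ev, mul_zero], ?_, hT2⟩
    rw [Bf_smul_left, Bf_skew, h10e, neg_zero, mul_zero]
  have hY : tv (fv N F 1) 1 ∈ H := by
    have := tv_mem_of_Tm_mem hw hy hb1.1 hb1.2.1 hb1.2.2
    rwa [tv_neg_vec] at this
  have hX : tv (ev N F 1) ((μ : F) * (μ : F)) ∈ H := by
    have := tv_mem_of_Tm_mem hw hy hb2.1 hb2.2.1 hb2.2.2
    rw [tv_smul_vec] at this
    have e : -(μ : F) * -(μ : F) * 1 = (μ : F) * (μ : F) := by ring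
    rwa [e] at this
  have hXe : tv (ev N F 1) ((μ : F) * (μ : F)) • ev N F 0 = ev N F 0 := by
    rw [tv_smul, Bf_ev_ev, mul_zero, zero_smul, add_zero]
  have hXf : tv (ev N F 1) ((μ : F) * (μ : F)) • fv N F 0 = fv N F 0 := by
    rw [tv_smul, h10e, mul_zero, zero_smul, add_zero]
  have hYe : tv (fv N F 1) (1 : F) • ev N F 0 = ev N F 0 := by
    rw [tv_smul, Bf_ev_fv_lt (by omega) (by omega) (by omega), mul_zero, zero_smul, add_zero]
  have hYf : tv (fv N F 1) (1 : F) • fv N F 0 = fv N F 0 := by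
    rw [tv_smul, Bf_fv_fv, mul_zero, zero_smul, add_zero]
  have h1f : (1 : F) ∈ LamOf (B0 H h2 hι) (fv N F 1) := by
    rw [mem_LamOf, one_smul]
    have := (B0 H h2 hι).neg_mem hb1
    rwa [neg_neg] at this
  have hfe : ∀ l ∈ LamOf (B0 H h2 hι) (fv N F 1),
      (μ : F) * (μ : F) * l ∈ LamOf (B0 H h2 hι) (ev N F 1) := by
    intro l hl
    rw [mem_LamOf] at hl ⊢
    have h3 := B0_smul_mem hX hXe hXf hl
    rw [tv_smul, Bf_smul_left, Bf_fv_ev_self, mul_one] at h3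
    have := (B0 H h2 hι).sub_mem h3 hl
    rwa [add_sub_cancel_left] at this
  have hef : ∀ l : F, l ∈ LamOf (B0 H h2 hι) (ev N F 1) → l ∈ LamOf (B0 H h2 hι) (fv N F 1) := by
    intro l hl
    rw [mem_LamOf] at hl ⊢
    have h3 := B0_smul_mem hY hYe hYf hl
    rw [tv_smul, Bf_smul_left, Bf_ev_fv_self] at h3
    have h4 := (B0 H h2 hι).sub_mem h3 hl
    rw [add_sub_cancel_left] at h4
    have h5 := (B0 H h2 hι).neg_mem h4
    have e : -(((1 : F) * (l * -1)) • fv N F 1) = l • fv N F 1 := by module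
    rwa [e] at h5
  have hΛ : (LamOf (B0 H h2 hι) (fv N F 1) : AddSubgroup F) = ⊤ := by
    by_cases h3 : 3 < Fintype.card F
    · exact Cfsg.Agent.Helper12.addSubgroup_eq_top_of_sq_closed h3 μ hμ _
        (fun c hc => hef _ (hfe c hc)) 1 h1f one_ne_zero
    · have hc3 := card_eq_three_of_not_lt h2 h3
      rw [eq_top_iff]
      intro x _
      rcases eq_of_card_three h2 hc3 x with rfl | rfl | rfl
      · exact AddSubgroup.zero_mem _
      · exact h1f
      · exact AddSubgroup.neg_mem _ h1f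
  -- the long root groups
  have hE : ev N F 0 ∈ Xset H := by
    intro c
    have hl : (-c / ((μ : F) * (μ : F))) ∈ LamOf (B0 H h2 hι) (fv N F 1) := by
      rw [hΛ]; exact AddSubgroup.mem_top _
    have hm := hfe 1 h1f
    rw [mem_LamOf] at hl hm
    have := (B0_add_aux h2 hι hl.1 hl.2.1 hl.2.2 hm.1 hm.2.1 hm.2.2).2
    rw [Bf_smul_left, Bf_smul_right, Bf_ev_fv_self] at this
    have e : (μ : F) * (μ : F) * 1 * (-c / ((μ : F) * (μ : F)) * -1) = c := by
      field_simp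
    rwa [e] at this
  have hF : fv N F 0 ∈ Xset H := by
    have h3 := Xset_smul (Xset_smul_mem hw hE) (-1)
    rw [wEl_smul_ev0] at h3
    have e : (-1 : F) • -fv N F 0 = fv N F 0 := by module
    rwa [e] at h3
  exact eq_top_of_W1 hE hF hu hT

end Cfsg.Agent.Helper12.SpGen
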