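import Mathlib
import Cfsg.Agent.Lib.Helper12.SpGenG

set_option autoImplicit false

/-!
# The second generator `g u g⁻¹ = u z`
-/

namespace Cfsg.Agent.Helper12.SpGen

open Matrix
open Cfsg.Agent.Helper2.Symp
open scoped Cfsg.Agent.Helper2.Symp

variable {N : ℕ} {F : Type*} [Field F]

/-- `mul_smul` for the group action only (safe in `simp` sets) -/
theorem sp_mul_smul {m : ℕ} (g h : Matrix.symplecticGroup (Fin m) F) (x : Fin m ⊕ Fin m → F) :
    (g * h) • x = g • h • x := mul_smul g h x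

theorem conj_eq_of_commute {G : Type*} [Group G] {g u L A z : G} (hu : u = L * A)
    (hL : g * L = L * g) (hA : g * A = A * z * g) : g * u * g⁻¹ = u * z := by
  rw [hu]
  calc g * (L * A) * g⁻¹ = (g * L) * A * g⁻¹ := by group
    _ = L * (g * A) * g⁻¹ := by rw [hL]; group
    _ = L * A * z := by rw [hA]; group

theorem uReg_eq_mul : uReg N F = Zp N F N * rootA N F 0 := by
  unfold uReg
  rw [Zp_succ, Nat.sub_self]

theorem uReg_eq_mul_mul : uReg (N + 1) F = Zp (N + 1) F N * (rootA (N + 1) F 1 * rootA (N + 1) F 0) := by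
  rw [uReg_eq_mul, Zp_succ, Nat.add_sub_cancel_left, mul_assoc]

/-! ### odd characteristic -/

/-- the conjugating element in odd characteristic -/
def gI (N : ℕ) (F : Type*) [Field F] : Matrix.symplecticGroup (Fin (N + 2)) F :=
  Tm (ev N F 0) ((-(1 / 2 : F)) • ev N F 1)

theorem gI_orth : Bf (ev N F 0) ((-(1 / 2 : F)) • ev N F 1) = 0 := by
  rw [Bf_smul_right, Bf_ev_ev, mul_zero]

theorem gI_smul_of_orth {x : Fin (N + 2) ⊕ Fin (N + 2) → F} (h0 : Bf x (ev N F 0) = 0)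
    (h1 : Bf x (ev N F 1) = 0) : gI N F • x = x := by
  unfold gI
  rw [Tm_smul gI_orth, Bf_smul_right, h0, h1]
  module

theorem gI_conj (h2 : (2 : F) ≠ 0) :
    gI N F * uReg N F * (gI N F)⁻¹ = uReg N F * tv (ev N F 0) 1 := by
  apply conj_eq_of_commute uReg_eq_mul
  · apply Zp_commute _ N (by omega) (gI_smul_of_orth (Bf_ev_ev _ _) (Bf_ev_ev _ _))
    intro k hk hk'
    refine ⟨gI_smul_of_orth (Bf_ev_ev _ _) (Bf_ev_ev _ _), gI_smul_of_orth ?_ ?_⟩
    · exact Bf_fv_ev_lt (by omega) (by omega) (by omega)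
    · exact Bf_fv_ev_lt (by omega) (by omega) (by omega)
  · have hr0 : Bf (ev N F 0) (-fv N F 1) = 0 := rootA_orth (by omega)
    have e : gI N F * rootA N F 0 * (gI N F)⁻¹ = rootA N F 0 * tv (ev N F 0) 1 := by
      unfold rootA
      rw [conj_Tm, gI_smul_of_orth (Bf_ev_ev _ _) (Bf_ev_ev _ _)]
      have e1 : gI N F • (-fv N F 1) = -fv N F 1 + (1 / 2 : F) • ev N F 0 := by
        unfold gI
        rw [Tm_smul gI_orth]
        simp (disch := omega) only [Bf_neg_left, Bf_smul_right, Bf_fv_ev_self, Bf_fv_ev_lt]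
        module
      rw [e1, Tm_add_self_right hr0]
      congr 2
      field_simp
    calc gI N F * rootA N F 0 = (gI N F * rootA N F 0 * (gI N F)⁻¹) * gI N F := by group
      _ = rootA N F 0 * tv (ev N F 0) 1 * gI N F := by rw [e]

/-! ### characteristic two, rank at least three -/

/-- the conjugating element in characteristic two, rank at least three -/
def gA (N : ℕ) (F : Type*) [Field F] : Matrix.symplecticGroup (Fin (N + 1 + 2)) F :=
  tv (ev (N + 1) F 1) 1 * Tm (ev (N + 1) F 0) (ev (N + 1) F 2)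

theorem gA_smul_of_orth {x : Fin (N + 1 + 2) ⊕ Fin (N + 1 + 2) → F}
    (h0 : Bf x (ev (N + 1) F 0) = 0) (h1 : Bf x (ev (N + 1) F 1) = 0)
    (h2 : Bf x (ev (N + 1) F 2) = 0) : gA N F • x = x := by
  unfold gA
  rw [mul_smul, Tm_smul (Bf_ev_ev _ _), h0, h2, tv_smul]
  simp only [Bf_add_left, Bf_smul_left, h1, Bf_ev_ev]
  module

theorem gA_local :
    gA N F * (rootA (N + 1) F 1 * rootA (N + 1) F 0)
      = (rootA (N + 1) F 1 * rootA (N + 1) F 0) *
        (tv (ev (N + 1) F 0) 3 * Tm (ev (N + 1) F 0) ((-2 : F) • ev (N + 1) F 1)) * gA N F := by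
  have o1 : Bf (ev (N + 1) F 0) ((-2 : F) • ev (N + 1) F 1) = 0 := by
    rw [Bf_smul_right, Bf_ev_ev, mul_zero]
  have o2 : Bf (ev (N + 1) F 0) (ev (N + 1) F 2) = 0 := Bf_ev_ev _ _
  apply ext_smul
  intro x
  unfold gA
  simp only [sp_mul_smul, rootA_smul (show 0 + 1 < N + 1 + 2 by omega),
    rootA_smul (show 1 + 1 < N + 1 + 2 by omega), Tm_smul o1, Tm_smul o2, tv_smul]
  simp (disch := omega) only [Bf_add_left, Bf_sub_left, Bf_smul_left, Bf_smul_right, Bf_self,
    Bf_ev_ev, Bf_fv_fv, Bf_fv_ev_self, Bf_ev_fv_self, Bf_fv_ev_lt, Bf_ev_fv_lt]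
  module

theorem gA_conj (h2 : (2 : F) = 0) :
    gA N F * uReg (N + 1) F * (gA N F)⁻¹ = uReg (N + 1) F * tv (ev (N + 1) F 0) 1 := by
  have key := conj_eq_of_commute (g := gA N F) (uReg_eq_mul_mul (N := N) (F := F)) ?_ gA_local
  · rw [key]
    have e3 : (3 : F) = 1 := by linear_combination h2
    have e2 : (-2 : F) = 0 := by linear_combination -h2
    rw [e3, e2, zero_smul, Tm_zero_right, mul_one]
  · apply Zp_commute _ N (by omega)
      (gA_smul_of_orth (Bf_ev_ev _ _) (Bf_ev_ev _ _) (Bf_ev_ev _ _))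
    intro k hk hk'
    refine ⟨gA_smul_of_orth (Bf_ev_ev _ _) (Bf_ev_ev _ _) (Bf_ev_ev _ _),
      gA_smul_of_orth ?_ ?_ ?_⟩
    · exact Bf_fv_ev_lt (by omega) (by omega) (by omega)
    · exact Bf_fv_ev_lt (by omega) (by omega) (by omega)
    · exact Bf_fv_ev_lt (by omega) (by omega) (by omega)

/-! ### characteristic two, rank two -/

/-- the conjugating element in characteristic two, rank two -/
def gB (F : Type*) [Field F] (a : F) : Matrix.symplecticGroup (Fin (0 + 2)) F :=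
  Tm (a • ev 0 F 0) (fv 0 F 1) * tv (ev 0 F 1) a

theorem uReg_zero_eq : uReg 0 F = tv (ev 0 F 1) 1 * rootA 0 F 0 := by
  rw [uReg_eq_mul]
  rfl

theorem gB_local (a : F) :
    gB F a * (tv (ev 0 F 1) 1 * rootA 0 F 0)
      = (tv (ev 0 F 1) 1 * rootA 0 F 0) *
        (Tm (ev 0 F 0) ((-2 * a) • ev 0 F 1) * tv (ev 0 F 0) (3 * (a * a + a))) * gB F a := by
  have o1 : Bf (ev 0 F 0) ((-2 * a) • ev 0 F 1) = 0 := by
    rw [Bf_smul_right, Bf_ev_ev, mul_zero]
  have o2 : Bf (a • ev 0 F 0) (fv 0 F 1) = 0 := by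
    rw [Bf_smul_left, Bf_ev_fv_lt (by omega) (by omega) (by omega), mul_zero]
  apply ext_smul
  intro x
  unfold gB
  simp only [sp_mul_smul, rootA_smul (show 0 + 1 < 0 + 2 by omega), Tm_smul o1, Tm_smul o2,
    tv_smul]
  simp (disch := omega) only [Bf_add_left, Bf_sub_left, Bf_smul_left, Bf_smul_right, Bf_self,
    Bf_ev_ev, Bf_fv_fv, Bf_fv_ev_self, Bf_ev_fv_self, Bf_fv_ev_lt, Bf_ev_fv_lt]
  module

theorem gB_conj (h2 : (2 : F) = 0) (a : F) :
    gB F a * uReg 0 F * (gB F a)⁻¹ = uReg 0 F * tv (ev 0 F 0) (a * a + a) := by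
  have key : gB F a * uReg 0 F * (gB F a)⁻¹ = uReg 0 F *
      (Tm (ev 0 F 0) ((-2 * a) • ev 0 F 1) * tv (ev 0 F 0) (3 * (a * a + a))) := by
    rw [uReg_zero_eq]
    calc gB F a * (tv (ev 0 F 1) 1 * rootA 0 F 0) * (gB F a)⁻¹
        = (tv (ev 0 F 1) 1 * rootA 0 F 0) *
          (Tm (ev 0 F 0) ((-2 * a) • ev 0 F 1) * tv (ev 0 F 0) (3 * (a * a + a))) * gB F a
            * (gB F a)⁻¹ := by rw [gB_local]
      _ = _ := by group
  rw [key]
  have e3 : (3 : F) = 1 := by linear_combination h2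
  have e2 : (-2 : F) = 0 := by linear_combination -h2
  rw [e3, e2, zero_mul, zero_smul, Tm_zero_right, one_mul, one_mul]

end Cfsg.Agent.Helper12.SpGen
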