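import Mathlib
import Cfsg.Agent.Lib.Helper12.SpGenI
import Cfsg.Agent.Lib.Helper12.SpGenS

set_option autoImplicit false

/-!
# Characteristic two, rank at least three: the three conjugates generate
-/

namespace Cfsg.Agent.Helper12.SpGen

open Matrix
open Cfsg.Agent.Helper2.Symp
open scoped Cfsg.Agent.Helper2.Symp

section char2

variable {V : Type*} {F : Type*} [Field F] [AddCommGroup V] [Module F V]

theorem neg_eq_of_two (h2 : (2 : F) = 0) (v : V) : -v = v := by
  have : (2 : F) • v = 0 := by rw [h2, zero_smul]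
  rw [two_smul] at this
  exact neg_eq_of_add_eq_zero_left this

theorem neg_eq_of_two' (h2 : (2 : F) = 0) (c : F) : -c = c := by
  linear_combination (-c) * h2

end char2

variable {N : ℕ} {F : Type*} [Field F]
variable {H : Subgroup (Matrix.symplecticGroup (Fin (N + 2)) F)}

/-! ### closure properties of the set of vectors whose unit transvection lies in `H` -/

theorem X1_neg {v : Fin (N + 2) ⊕ Fin (N + 2) → F} (hv : tv v 1 ∈ H) : tv (-v) 1 ∈ H := by
  rwa [tv_neg_vec]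

theorem X1_tv {x y v : Fin (N + 2) ⊕ Fin (N + 2) → F} (hy : tv y 1 ∈ H) (hx : tv x 1 ∈ H) (c : F)
    (hc : Bf x y = c) (hv : x + c • y = v) : tv v 1 ∈ H := by
  have := tv_smul_mem H hy hx
  rw [tv_smul, hc, one_mul, hv] at this
  exact this

theorem X1_tv' {x y v : Fin (N + 2) ⊕ Fin (N + 2) → F} (hy : tv y 1 ∈ H) (hx : tv x 1 ∈ H) (c : F)
    (hc : Bf x y = c) (hv : x - c • y = v) : tv v 1 ∈ H := by
  have := tv_smul_mem H (H.inv_mem hy) hx
  rw [tv_inv, tv_smul, hc] at this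
  have e : x + (-1 * c) • y = v := by rw [← hv]; module
  rwa [e] at this

theorem X1_smul {g : Matrix.symplecticGroup (Fin (N + 2)) F} (hg : g ∈ H)
    {x v : Fin (N + 2) ⊕ Fin (N + 2) → F} (hx : tv x 1 ∈ H) (hv : g • x = v) : tv v 1 ∈ H := by
  rw [← hv]
  exact tv_smul_mem H hg hx

theorem Tm_mem_of_X1 {a b : Fin (N + 2) ⊕ Fin (N + 2) → F} (ha : tv a 1 ∈ H) (hb : tv b 1 ∈ H)
    (hab : tv (a + b) 1 ∈ H) : Tm a b ∈ H := by
  unfold Tm
  refine H.mul_mem (H.mul_mem hab ?_) ?_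
  · rw [← tv_inv]; exact H.inv_mem ha
  · rw [← tv_inv]; exact H.inv_mem hb

theorem Tm_conj_mem_eq {g : Matrix.symplecticGroup (Fin (N + 2)) F} (hg : g ∈ H)
    {a b a' b' : Fin (N + 2) ⊕ Fin (N + 2) → F} (hT : Tm a b ∈ H) (ha : g • a = a')
    (hb : g • b = b') : Tm a' b' ∈ H := by
  rw [← ha, ← hb]
  exact Tm_smul_mem H hg hT

theorem Tm_split_left {a a' b : Fin (N + 2) ⊕ Fin (N + 2) → F} (h : Bf a b = 0)
    (h' : Bf a' b = 0) (haa : Bf a' a = 0) (h1 : Tm (a + a') b ∈ H) (h2 : Tm a b ∈ H) :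
    Tm a' b ∈ H := by
  have key := Tm_add_left h h'
  rw [haa, tv_zero_right, mul_one] at key
  have : Tm a' b = (Tm a b)⁻¹ * Tm (a + a') b := by rw [← key]; group
  rw [this]
  exact H.mul_mem (H.inv_mem h2) h1

theorem Tm_split_right {a b b' : Fin (N + 2) ⊕ Fin (N + 2) → F} (h : Bf a b = 0)
    (h' : Bf a b' = 0) (hbb : Bf b' b = 0) (h1 : Tm a (b + b') ∈ H) (h2 : Tm a b ∈ H) :
    Tm a b' ∈ H := by
  have key := Tm_add_right h h'
  rw [hbb, tv_zero_right, mul_one] at key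
  have : Tm a b' = (Tm a b)⁻¹ * Tm a (b + b') := by rw [← key]; group
  rw [this]
  exact H.mul_mem (H.inv_mem h2) h1

/-! ### Step A: the rank two subsystem subgroup over the prime field -/

/-- the conclusions of the first step -/
structure StepA (H : Subgroup (Matrix.symplecticGroup (Fin (N + 2)) F)) : Prop where
  e0 : tv (ev N F 0) 1 ∈ H
  f0 : tv (fv N F 0) 1 ∈ H
  e1 : tv (ev N F 1) 1 ∈ H
  f1 : tv (fv N F 1) 1 ∈ H
  e1e0 : tv (ev N F 1 - ev N F 0) 1 ∈ H
  f0e1 : tv (fv N F 0 - ev N F 1) 1 ∈ H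
  e0f1 : tv (ev N F 0 + fv N F 1) 1 ∈ H

theorem stepA (s : ℕ → F) (hs : ∀ k, k < N + 2 → s k ≠ 0)
    (hs1 : s (N + 1) = 1) (hsN : s N = 1) (hu : uReg N F ∈ H) (hz : tv (ev N F 0) 1 ∈ H)
    (hu3 : u3El N s hs ∈ H) : StepA H := by
  -- `e_0 - f_0`
  have a1 : tv (ev N F 0 - fv N F 0) 1 ∈ H := by
    apply X1_smul hu3 hz
    rw [u3El_smul_ev0, hs1, one_mul, one_smul]
  -- `f_0`
  have a2 : tv (fv N F 0) 1 ∈ H := by
    have : tv (-fv N F 0) 1 ∈ H := by
      apply X1_tv hz a1 (-1)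
      · simp only [Bf_sub_left, Bf_self, Bf_fv_ev_self]; ring
      · module
    rwa [tv_neg_vec] at this
  -- `f_0 - e_1`
  have a3 : tv (fv N F 0 - ev N F 1) 1 ∈ H := by
    apply X1_smul hu3 a2
    rw [u3El_smul_fv0, hs1, hsN, inv_one, one_mul, one_smul]
  -- `e_0 - e_1`
  have a4 : tv (fv N F 0 - ev N F 1 + ev N F 0) 1 ∈ H := by
    apply X1_tv hz a3 1
    · simp (disch := omega) only [Bf_sub_left, Bf_ev_ev, Bf_fv_ev_self]; ring
    · module
  have a5 : tv (ev N F 0 - ev N F 1) 1 ∈ H := by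
    apply X1_tv a2 a4 (-1)
    · simp (disch := omega) only [Bf_sub_left, Bf_add_left, Bf_fv_fv, Bf_ev_fv_self, Bf_ev_fv_lt]
      ring
    · module
  have a6 : tv (ev N F 1 - ev N F 0) 1 ∈ H := by
    have := X1_neg a5
    rwa [neg_sub] at this
  -- `e_1`
  have hu1 : uReg N F • ev N F 1 = ev N F 1 + ev N F 0 := by
    unfold uReg
    rw [Zp_smul_ev_high (N + 1) le_rfl 1 (by omega) (by omega)]
  have hu0 : uReg N F • ev N F 0 = ev N F 0 := by
    unfold uReg
    rw [Zp_smul_ev_low (N + 1) le_rfl 0 (by omega)]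
  have a7 : tv (ev N F 1) 1 ∈ H := by
    apply X1_smul hu a6
    rw [smul_sub, hu1, hu0]
    module
  -- `e_0 + f_1`
  have huf : (uReg N F)⁻¹ • fv N F 0 = fv N F 0 + fv N F 1 := by
    unfold uReg
    rw [Zp_inv_smul_fv_high (N + 1) le_rfl 0 (by omega) (by omega)]
  have a8 : tv (fv N F 0 + fv N F 1) 1 ∈ H := X1_smul (H.inv_mem hu) a2 huf
  have a9 : tv (fv N F 0 + fv N F 1 + ev N F 0) 1 ∈ H := by
    apply X1_tv hz a8 1
    · simp (disch := omega) only [Bf_add_left, Bf_fv_ev_self, Bf_fv_ev_lt]; ring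
    · module
  have a10 : tv (ev N F 0 + fv N F 1) 1 ∈ H := by
    apply X1_tv a2 a9 (-1)
    · simp (disch := omega) only [Bf_add_left, Bf_fv_fv, Bf_ev_fv_self]; ring
    · module
  -- `f_1`
  have a11 : tv (fv N F 1 + ev N F 1) 1 ∈ H := by
    apply X1_tv a6 a10 1
    · simp (disch := omega) only [Bf_add_left, Bf_sub_right, Bf_ev_ev, Bf_fv_ev_self,
        Bf_fv_ev_lt]
      ring
    · module
  have a12 : tv (fv N F 1) 1 ∈ H := by
    apply X1_tv' a7 a11 1
    · simp (disch := omega) only [Bf_add_left, Bf_ev_ev, Bf_fv_ev_self]; ring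
    · module
  exact ⟨hz, a2, a7, a12, a6, a3, a10⟩

/-- multiples of a generator -/
theorem forall_mem_of_gen [Fintype F] (μ : Fˣ) (hμ : ∀ x : Fˣ, x ∈ Subgroup.zpowers μ)
    (A : AddSubgroup F) (h1 : (1 : F) ∈ A) (hm : ∀ l ∈ A, (μ : F) * l ∈ A) (c : F) : c ∈ A := by
  by_cases hc : c = 0
  · rw [hc]; exact A.zero_mem
  · have h3 := hμ (Units.mk0 c hc)
    rw [← mem_powers_iff_mem_zpowers] at h3
    obtain ⟨n, hn⟩ := h3
    have hn' : μ ^ n = Units.mk0 c hc := hn
    have h4 : ∀ n : ℕ, ((μ ^ n : Fˣ) : F) ∈ A := by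
      intro n
      induction n with
      | zero => rw [pow_zero, Units.val_one]; exact h1
      | succ n ih =>
        rw [pow_succ', Units.val_mul]
        exact hm _ ih
    have h5 := h4 n
    rw [hn', Units.val_mk0] at h5
    exact h5

section rank3

variable {M : ℕ} {F : Type*} [Field F] [Fintype F]
variable {H : Subgroup (Matrix.symplecticGroup (Fin (M + 1 + 2)) F)}

/-- the scalars `l` with `Tm (l e_0) (-f_2)` in `H` -/
def LamA (H : Subgroup (Matrix.symplecticGroup (Fin (M + 1 + 2)) F)) : AddSubgroup F where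
  carrier := {l | Tm (l • ev (M + 1) F 0) (-fv (M + 1) F 2) ∈ H}
  zero_mem' := by
    show Tm ((0 : F) • ev (M + 1) F 0) (-fv (M + 1) F 2) ∈ H
    rw [zero_smul, Tm_zero_left]
    exact H.one_mem
  add_mem' := by
    intro a b ha hb
    show Tm ((a + b) • ev (M + 1) F 0) (-fv (M + 1) F 2) ∈ H
    have o : ∀ c : F, Bf (c • ev (M + 1) F 0) (-fv (M + 1) F 2) = 0 := by
      intro c
      rw [Bf_smul_left, Bf_neg_right, Bf_ev_fv_lt (by omega) (by omega) (by omega), neg_zero,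
        mul_zero]
    have key := Tm_add_left (o a) (o b)
    rw [Bf_smul_left, Bf_smul_right, Bf_ev_ev, mul_zero, mul_zero, tv_zero_right, mul_one,
      ← add_smul] at key
    rw [← key]
    exact H.mul_mem ha hb
  neg_mem' := by
    intro a ha
    show Tm ((-a) • ev (M + 1) F 0) (-fv (M + 1) F 2) ∈ H
    have o : Bf (a • ev (M + 1) F 0) (-fv (M + 1) F 2) = 0 := by
      rw [Bf_smul_left, Bf_neg_right, Bf_ev_fv_lt (by omega) (by omega) (by omega), neg_zero,
        mul_zero]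
    rw [neg_smul, Tm_neg_left o]
    exact H.inv_mem ha

theorem mem_LamA {l : F} :
    l ∈ LamA H ↔ Tm (l • ev (M + 1) F 0) (-fv (M + 1) F 2) ∈ H := Iff.rfl

local notation "e0" => ev (M + 1) F 0
local notation "e1" => ev (M + 1) F 1
local notation "e2" => ev (M + 1) F 2
local notation "f0" => fv (M + 1) F 0
local notation "f1" => fv (M + 1) F 1
local notation "f2" => fv (M + 1) F 2

/-- **Characteristic two, rank at least three.** -/
theorem caseA_top (h2 : (2 : F) = 0) (μ : Fˣ) (hμ : ∀ x : Fˣ, x ∈ Subgroup.zpowers μ)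
    (s : ℕ → F) (hs : ∀ k, k < M + 1 + 2 → s k ≠ 0) (hs1 : s (M + 1 + 1) = 1)
    (hsN : s (M + 1) = 1) (hsM : s M = (μ : F))
    (hu : uReg (M + 1) F ∈ H) (hz : tv (ev (M + 1) F 0) 1 ∈ H) (hu3 : u3El (M + 1) s hs ∈ H) :
    H = ⊤ := by
  classical
  have hμ0 : (μ : F) ≠ 0 := μ.ne_zero
  have hA := stepA s hs hs1 hsN hu hz hu3
  have hw : wEl (M + 1) F ∈ H := by
    unfold wEl
    exact H.mul_mem (H.mul_mem hA.e0 hA.f0) hA.e0
  -- elements of the prime field subsystem subgroup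
  have hT0 : rootA (M + 1) F 0 ∈ H := by
    unfold rootA
    rw [neg_eq_of_two h2 (fv (M + 1) F (0 + 1))]
    exact Tm_mem_of_X1 hA.e0 hA.f1 hA.e0f1
  have hT' : Tm e1 (-f0) ∈ H := by
    apply Tm_mem_of_X1 hA.e1 (X1_neg hA.f0)
    have := X1_neg hA.f0e1
    rwa [neg_sub, sub_eq_add_neg] at this
  have hS : Tm e1 (-e0) ∈ H := by
    apply Tm_mem_of_X1 hA.e1 (X1_neg hA.e0)
    have := hA.e1e0
    rwa [sub_eq_add_neg] at this
  have hT'' : Tm f0 (-e1) ∈ H := by
    apply Tm_mem_of_X1 hA.f0 (X1_neg hA.e1)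
    have := hA.f0e1
    rwa [sub_eq_add_neg] at this
  -- orthogonality facts
  have o_e0f1 : Bf e0 f1 = 0 := Bf_ev_fv_lt (by omega) (by omega) (by omega)
  have o_e0f2 : Bf e0 f2 = 0 := Bf_ev_fv_lt (by omega) (by omega) (by omega)
  have o_e1f2 : Bf e1 f2 = 0 := Bf_ev_fv_lt (by omega) (by omega) (by omega)
  have o_e1f0 : Bf e1 f0 = 0 := Bf_ev_fv_lt (by omega) (by omega) (by omega)
  have o_e2f0 : Bf e2 f0 = 0 := Bf_ev_fv_lt (by omega) (by omega) (by omega)
  have o_e2f1 : Bf e2 f1 = 0 := Bf_ev_fv_lt (by omega) (by omega) (by omega)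
  have o_f1e0 : Bf f1 e0 = 0 := Bf_fv_ev_lt (by omega) (by omega) (by omega)
  have o_f2e0 : Bf f2 e0 = 0 := Bf_fv_ev_lt (by omega) (by omega) (by omega)
  have o_f2e1 : Bf f2 e1 = 0 := Bf_fv_ev_lt (by omega) (by omega) (by omega)
  have o_f0e1 : Bf f0 e1 = 0 := Bf_fv_ev_lt (by omega) (by omega) (by omega)
  have o_f0e2 : Bf f0 e2 = 0 := Bf_fv_ev_lt (by omega) (by omega) (by omega)
  have o_f1e2 : Bf f1 e2 = 0 := Bf_fv_ev_lt (by omega) (by omega) (by omega)
  -- Step B
  have hy2 : Zp (M + 1) F (M + 1) ∈ H := by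
    have : Zp (M + 1) F (M + 1) = uReg (M + 1) F * (rootA (M + 1) F 0)⁻¹ := by
      rw [uReg_eq_mul]; group
    rw [this]
    exact H.mul_mem hu (H.inv_mem hT0)
  have hy2_eq : Zp (M + 1) F (M + 1) = Zp (M + 1) F M * rootA (M + 1) F 1 := by
    rw [Zp_succ, Nat.add_sub_cancel_left]
  have hcommT0 : rootA (M + 1) F 0 * Zp (M + 1) F M = Zp (M + 1) F M * rootA (M + 1) F 0 := by
    apply Zp_commute _ M (by omega) (rootA_smul_ev (by omega) (by omega) (by omega))
    intro k hk hk'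
    exact ⟨rootA_smul_ev (by omega) (by omega) (by omega),
      rootA_smul_fv (by omega) (by omega) (by omega)⟩
  have hA02 : Tm e0 (-f2) ∈ H := by
    have h3 := conj_mem H hT0 hy2
    have e : rootA (M + 1) F 0 * Zp (M + 1) F (M + 1) * (rootA (M + 1) F 0)⁻¹
        = Zp (M + 1) F M * (rootA (M + 1) F 0 * rootA (M + 1) F 1 * (rootA (M + 1) F 0)⁻¹) := by
      rw [hy2_eq]
      calc _ = (rootA (M + 1) F 0 * Zp (M + 1) F M) * rootA (M + 1) F 1
            * (rootA (M + 1) F 0)⁻¹ := by group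
        _ = _ := by rw [hcommT0]; group
    have e' : rootA (M + 1) F 0 * rootA (M + 1) F 1 * (rootA (M + 1) F 0)⁻¹
        = rootA (M + 1) F 1 * Tm e0 (-f2) := by
      conv_lhs => rw [show rootA (M + 1) F 1 = Tm e1 (-f2) from rfl]
      rw [conj_Tm, smul_neg, rootA_smul_fv (by omega) (by omega) (by omega),
        rootA_smul_ev_succ (by omega)]
      have o1 : Bf e1 (-f2) = 0 := by rw [Bf_neg_right, o_e1f2, neg_zero]
      have o2 : Bf e0 (-f2) = 0 := by rw [Bf_neg_right, o_e0f2, neg_zero]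
      have key := Tm_add_left o1 o2
      rw [Bf_ev_ev, tv_zero_right, mul_one] at key
      rw [← key]
      rfl
    rw [e, e', ← mul_assoc, ← hy2_eq] at h3
    have : Tm e0 (-f2) = (Zp (M + 1) F (M + 1))⁻¹ * (Zp (M + 1) F (M + 1) * Tm e0 (-f2)) := by
      group
    rw [this]
    exact H.mul_mem (H.inv_mem hy2) h3
  have hR1 : Tm e1 (-f2) ∈ H := by
    have h3 : Tm (e0 + e1) (-f2) ∈ H := by
      apply Tm_conj_mem_eq hT' hA02
      · rw [Tm_smul (by rw [Bf_neg_right, o_e1f0, neg_zero])]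
        simp only [Bf_neg_right, Bf_ev_fv_self, Bf_ev_ev]
        module
      · rw [Tm_smul (by rw [Bf_neg_right, o_e1f0, neg_zero])]
        simp only [Bf_neg_left, Bf_neg_right, Bf_fv_fv, o_f2e1]
        module
    exact Tm_split_left (by rw [Bf_neg_right, o_e0f2, neg_zero])
      (by rw [Bf_neg_right, o_e1f2, neg_zero]) (Bf_ev_ev _ _) h3 hA02
  -- Step C: the third generator
  have hQ : Tm ((μ : F) • e2) f0 ∈ H := by
    have hR := Z3_tail_commute s hs (Tm f0 (-e1)) 2 (by omega) (by omega) (by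
      intro k hk hk'
      have o : Bf f0 (-e1) = 0 := by rw [Bf_neg_right, o_f0e1, neg_zero]
      constructor
      · rw [Tm_smul o]
        simp (disch := omega) only [Bf_neg_right, Bf_ev_ev, Bf_ev_fv_lt]
        module
      · rw [Tm_smul o]
        simp (disch := omega) only [Bf_neg_right, Bf_fv_fv, Bf_fv_ev_lt]
        module)
    have hu3_eq : u3El (M + 1) s hs
        = Z3 (M + 1) s hs 2 * ((Z3 (M + 1) s hs 2)⁻¹ * u3El (M + 1) s hs) := by group
    generalize (Z3 (M + 1) s hs 2)⁻¹ * u3El (M + 1) s hs = R at hR hu3_eq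
    have hZ2 : Z3 (M + 1) s hs 2 = Z3 (M + 1) s hs 1 *
        Tm (s (M + 1 - 1) • e2) (-((s (M + 1 - 1 + 1))⁻¹ • f1)) :=
      Z3_succ' s hs le_rfl (by omega)
    rw [hZ2, Z3_one, Nat.add_sub_cancel, hs1, hsN, hsM, one_mul, inv_one, one_smul, one_smul,
      one_smul] at hu3_eq
    set P := Tm ((μ : F) • e2) (-f1) with hPdef
    have oP : Bf ((μ : F) • e2) (-f1) = 0 := by
      rw [Bf_smul_left, Bf_neg_right, o_e2f1, neg_zero, mul_zero]
    have hPR : P * R ∈ H := by
      have : P * R = (Tm e1 (-e0))⁻¹ * ((tv f0 1)⁻¹ * u3El (M + 1) s hs) := by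
        rw [hu3_eq]; group
      rw [this]
      exact H.mul_mem (H.inv_mem hS) (H.mul_mem (H.inv_mem hA.f0) hu3)
    have h3 := conj_mem H hT'' hPR
    have oQ : Bf ((μ : F) • e2) f0 = 0 := by rw [Bf_smul_left, o_e2f0, mul_zero]
    have e : Tm f0 (-e1) * (P * R) * (Tm f0 (-e1))⁻¹ = P * Tm ((μ : F) • e2) f0 * R := by
      have e1' : Tm f0 (-e1) * P * (Tm f0 (-e1))⁻¹ = P * Tm ((μ : F) • e2) f0 := by
        have o : Bf f0 (-e1) = 0 := by rw [Bf_neg_right, o_f0e1, neg_zero]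
        rw [hPdef, conj_Tm]
        have a1 : Tm f0 (-e1) • ((μ : F) • e2) = (μ : F) • e2 := by
          rw [Tm_smul o]
          simp only [Bf_neg_right, Bf_smul_left, Bf_ev_ev, o_e2f0]
          module
        have a2 : Tm f0 (-e1) • (-f1) = -f1 + f0 := by
          rw [Tm_smul o]
          simp only [Bf_neg_right, Bf_neg_left, Bf_fv_ev_self, Bf_fv_fv]
          module
        rw [a1, a2]
        have key := Tm_add_right oP oQ
        rw [Bf_neg_right, Bf_fv_fv, neg_zero, tv_zero_right, mul_one] at key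
        exact key.symm
      calc Tm f0 (-e1) * (P * R) * (Tm f0 (-e1))⁻¹
          = (Tm f0 (-e1) * P * (Tm f0 (-e1))⁻¹) * (Tm f0 (-e1) * R) * (Tm f0 (-e1))⁻¹ := by
            group
        _ = P * Tm ((μ : F) • e2) f0 * R := by rw [e1', hR]; group
    rw [e] at h3
    have hcomm : P * Tm ((μ : F) • e2) f0 = Tm ((μ : F) • e2) f0 * P := by
      apply commute_Tm_of_smul_eq
      · rw [hPdef, Tm_smul oP]
        simp only [Bf_neg_right, Bf_smul_left, Bf_smul_right, Bf_ev_ev, o_e2f1]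
        module
      · rw [hPdef, Tm_smul oP]
        simp only [Bf_neg_right, Bf_smul_right, Bf_fv_fv, o_f0e2]
        module
    have : Tm ((μ : F) • e2) f0 = (P * Tm ((μ : F) • e2) f0 * R) * (P * R)⁻¹ := by
      rw [hcomm]; group
    rw [this]
    exact H.mul_mem h3 (H.inv_mem hPR)
  have oQ : Bf ((μ : F) • e2) f0 = 0 := by rw [Bf_smul_left, o_e2f0, mul_zero]
  have oQ' : Bf ((μ : F) • e2) e0 = 0 := by rw [Bf_smul_left, Bf_ev_ev, mul_zero]
  have hQ' : Tm ((μ : F) • e2) e0 ∈ H := by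
    apply Tm_conj_mem_eq hw hQ
    · exact wEl_smul_of_orth oQ' oQ
    · exact wEl_smul_fv0
  have hX : tv e2 ((μ : F) * (μ : F)) ∈ H := by
    have h3 : Tm e0 ((μ : F) • e2) ∈ H := by
      rw [Tm_comm (Bf_symm_zero oQ')]
      exact hQ'
    have := tv_mem_of_Tm_mem hw hA.f0 oQ' oQ h3
    rwa [tv_smul_vec, mul_one] at this
  have oP : Bf ((μ : F) • e2) (-f1) = 0 := by
    rw [Bf_smul_left, Bf_neg_right, o_e2f1, neg_zero, mul_zero]
  have hP : Tm ((μ : F) • e2) (-f1) ∈ H := by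
    have h3 : Tm ((μ : F) • e2) (f0 + -f1) ∈ H := by
      apply Tm_conj_mem_eq hT0 hQ
      · rw [rootA_smul (by omega)]
        simp only [Bf_smul_left, Bf_ev_ev, o_e2f1, zero_add]
        module
      · rw [rootA_smul (by omega)]
        simp only [Bf_fv_fv, Bf_fv_ev_self, zero_add]
        module
    exact Tm_split_right oQ oP (by rw [Bf_neg_left, Bf_fv_fv, neg_zero]) h3 hQ
  have oC1 : Bf ((μ : F) • e2) e1 = 0 := by rw [Bf_smul_left, Bf_ev_ev, mul_zero]
  have hC1 : Tm ((μ : F) • e2) e1 ∈ H := by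
    have o : Bf e1 (-f0) = 0 := by rw [Bf_neg_right, o_e1f0, neg_zero]
    have h3 : Tm ((μ : F) • e2) (e0 + e1) ∈ H := by
      apply Tm_conj_mem_eq hT' hQ'
      · rw [Tm_smul o]
        simp only [Bf_neg_right, Bf_smul_left, Bf_ev_ev, o_e2f0]
        module
      · rw [Tm_smul o]
        simp only [Bf_neg_right, Bf_ev_ev, Bf_ev_fv_self]
        module
    exact Tm_split_right oQ' oC1 (Bf_ev_ev _ _) h3 hQ'
  -- Step D
  have oA : ∀ l : F, Bf (l • e0) (-f2) = 0 := by
    intro l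
    rw [Bf_smul_left, Bf_neg_right, o_e0f2, neg_zero, mul_zero]
  have oB : ∀ l : F, Bf (l • e0) (-f1) = 0 := by
    intro l
    rw [Bf_smul_left, Bf_neg_right, o_e0f1, neg_zero, mul_zero]
  have hstep : ∀ l ∈ LamA H, Tm (((μ : F) * l) • e0) (-f1) ∈ H ∧ (μ : F) * l ∈ LamA H := by
    intro l hl
    rw [mem_LamA] at hl
    have hB : Tm (((μ : F) * l) • e0) (-f1) ∈ H := by
      have h3 : Tm ((μ : F) • e2 + ((μ : F) * l) • e0) (-f1) ∈ H := by
        apply Tm_conj_mem_eq hl hP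
        · rw [Tm_smul (oA l)]
          simp only [Bf_neg_right, Bf_smul_left, Bf_smul_right, Bf_ev_ev, Bf_ev_fv_self]
          module
        · rw [Tm_smul (oA l)]
          simp only [Bf_neg_right, Bf_neg_left, Bf_smul_right, Bf_fv_fv, o_f1e0]
          module
      exact Tm_split_left oP (oB _)
        (by rw [Bf_smul_left, Bf_smul_right, Bf_ev_ev, mul_zero, mul_zero]) h3 hP
    refine ⟨hB, ?_⟩
    rw [mem_LamA]
    have h4 : Tm (e1 + ((μ : F) * l) • e0) (-f2) ∈ H := by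
      apply Tm_conj_mem_eq hB hR1
      · rw [Tm_smul (oB _)]
        simp only [Bf_neg_right, Bf_smul_right, Bf_ev_ev, Bf_ev_fv_self]
        module
      · rw [Tm_smul (oB _)]
        simp only [Bf_neg_right, Bf_neg_left, Bf_smul_right, Bf_fv_fv, o_f2e0]
        module
    exact Tm_split_left (by rw [Bf_neg_right, o_e1f2, neg_zero]) (oA _)
      (by rw [Bf_smul_left, Bf_ev_ev, mul_zero]) h4 hR1
  have h1Λ : (1 : F) ∈ LamA H := by
    rw [mem_LamA, one_smul]
    exact hA02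
  have hΛ : ∀ c : F, c ∈ LamA H :=
    forall_mem_of_gen μ hμ (LamA H) h1Λ (fun l hl => (hstep l hl).2)
  have hB : ∀ c : F, Tm (c • e0) (-f1) ∈ H := by
    intro c
    have := (hstep (c / (μ : F)) (hΛ _)).1
    rwa [mul_div_cancel₀ _ hμ0] at this
  -- Step E
  have hC : ∀ c : F, Tm ((μ : F) • e2) (c • e0) ∈ H := by
    intro c
    have h3 : Tm ((μ : F) • e2) (e1 + c • e0) ∈ H := by
      apply Tm_conj_mem_eq (hB c) hC1
      · rw [Tm_smul (oB _)]
        simp only [Bf_neg_right, Bf_smul_left, Bf_smul_right, Bf_ev_ev, o_e2f1]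
        module
      · rw [Tm_smul (oB _)]
        simp only [Bf_neg_right, Bf_smul_right, Bf_ev_ev, Bf_ev_fv_self]
        module
    exact Tm_split_right oC1 (by rw [Bf_smul_left, Bf_smul_right, Bf_ev_ev, mul_zero, mul_zero])
      (by rw [Bf_smul_left, Bf_ev_ev, mul_zero]) h3 hC1
  have hlong : ∀ l : F, tv e0 (l * l * -((μ : F) * (μ : F))) ∈ H := by
    intro l
    have hAl := hΛ l
    rw [mem_LamA] at hAl
    have h3 : Tm (l • e0) (-f2 + (-((μ : F) * (μ : F))) • e2) ∈ H := by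
      apply Tm_conj_mem_eq hX hAl
      · rw [tv_smul]
        simp only [Bf_smul_left, Bf_ev_ev]
        module
      · rw [tv_smul]
        simp only [Bf_neg_left, Bf_fv_ev_self]
        module
    have ob' : Bf (l • e0) ((-((μ : F) * (μ : F))) • e2) = 0 := by
      rw [Bf_smul_left, Bf_smul_right, Bf_ev_ev, mul_zero, mul_zero]
    have key := Tm_add_right (oA l) ob'
    rw [Bf_smul_left, Bf_neg_right, Bf_ev_fv_self, neg_neg, mul_one, tv_smul_vec] at key
    have h4 : Tm (l • e0) ((-((μ : F) * (μ : F))) • e2) ∈ H := by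
      have e : Tm (l • e0) ((-((μ : F) * (μ : F))) • e2)
          = Tm ((μ : F) • e2) ((-(μ : F) * l) • e0) := by
        have o' : Bf ((μ : F) • e2) ((-(μ : F) * l) • e0) = 0 := by
          rw [Bf_smul_left, Bf_smul_right, Bf_ev_ev, mul_zero, mul_zero]
        apply ext_smul
        intro x
        rw [Tm_smul ob', Tm_smul o']
        simp only [Bf_smul_right]
        module
      rw [e]
      exact hC _
    have : tv e0 (l * l * -((μ : F) * (μ : F)))
        = (Tm (l • e0) (-f2 + (-((μ : F) * (μ : F))) • e2))⁻¹ *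
          (Tm (l • e0) (-f2) * Tm (l • e0) ((-((μ : F) * (μ : F))) • e2)) := by
      rw [key]; group
    rw [this]
    exact H.mul_mem (H.inv_mem h3) (H.mul_mem hAl h4)
  have hE : e0 ∈ Xset H := by
    intro c
    haveI : CharP F 2 := CharTwo.of_one_ne_zero_of_two_eq_zero one_ne_zero h2
    obtain ⟨r, hr⟩ := isSquare_of_charTwo' (c / -((μ : F) * (μ : F)))
    have := hlong r
    rw [← hr, div_mul_cancel₀] at this
    · exact this
    · exact neg_ne_zero.2 (mul_ne_zero hμ0 hμ0)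
  have hF : f0 ∈ Xset H := by
    have h3 := Xset_smul (Xset_smul_mem hw hE) (-1)
    rw [wEl_smul_ev0] at h3
    have e : (-1 : F) • -f0 = f0 := by module
    rwa [e] at h3
  exact eq_top_of_W1 hE hF hu hT0

end rank3

end Cfsg.Agent.Helper12.SpGen
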