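import Mathlib
import Cfsg.Agent.Lib.Helper12.SpGenJ

set_option autoImplicit false

/-!
# Characteristic two, rank two: the three conjugates generate
-/

namespace Cfsg.Agent.Helper12.SpGen

open Matrix
open Cfsg.Agent.Helper2.Symp
open scoped Cfsg.Agent.Helper2.Symp

/-- multiples of a generator, second form -/
theorem forall_mem_of_gen' {F : Type*} [Field F] [Fintype F] (μ : Fˣ)
    (hμ : ∀ x : Fˣ, x ∈ Subgroup.zpowers μ)
    (S : Set F) (h0 : (0 : F) ∈ S) (c₀ : F) (hc₀ : c₀ ∈ S) (hne : c₀ ≠ 0)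
    (hm : ∀ l ∈ S, (μ : F) * l ∈ S) (c : F) : c ∈ S := by
  by_cases hc : c = 0
  · rw [hc]; exact h0
  · have hq : c / c₀ ≠ 0 := div_ne_zero hc hne
    have h3 := hμ (Units.mk0 (c / c₀) hq)
    rw [← mem_powers_iff_mem_zpowers] at h3
    obtain ⟨n, hn⟩ := h3
    have hn' : μ ^ n = Units.mk0 (c / c₀) hq := hn
    have h4 : ∀ n : ℕ, ((μ ^ n : Fˣ) : F) * c₀ ∈ S := by
      intro n
      induction n with
      | zero => rw [pow_zero, Units.val_one, one_mul]; exact hc₀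
      | succ n ih =>
        rw [pow_succ', Units.val_mul, mul_assoc]
        exact hm _ ih
    have h5 := h4 n
    rw [hn', Units.val_mk0, div_mul_cancel₀ _ hne] at h5
    exact h5

section hs

variable {N : ℕ} {F : Type*} [Field F]
variable {H : Subgroup (Matrix.symplecticGroup (Fin (N + 2)) F)}

/-- from the long root `SL_2` and the regular unipotent element to the root element
`x_{e_0 - e_1}(1)`, over fields with more than two elements -/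
theorem rootA0_mem_of_W1 (hE : ev N F 0 ∈ Xset H) (hF : fv N F 0 ∈ Xset H)
    (hu : uReg N F ∈ H) (a : F) (ha0 : a ≠ 0) (ha1 : a ≠ 1) : rootA N F 0 ∈ H := by
  have hG := tvGroup_W1_le hE hF
  have hfix : ∀ g ∈ tvGroup (W1 N F), ∀ x : Fin (N + 2) ⊕ Fin (N + 2) → F,
      Bf x (ev N F 0) = 0 → Bf x (fv N F 0) = 0 → g • x = x := by
    intro g hg x h1 h2
    exact smul_eq_of_mem_tvGroup hg x (fun y hy => Bf_W1_eq_zero h1 h2 hy)
  have hfe : ∀ g ∈ tvGroup (W1 N F), ∀ k, 1 ≤ k → k < N + 2 → g • ev N F k = ev N F k := by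
    intro g hg k hk hk'
    exact hfix g hg _ (Bf_ev_ev _ _) (Bf_ev_fv_lt hk' (by omega) (by omega))
  have hff : ∀ g ∈ tvGroup (W1 N F), ∀ k, 1 ≤ k → k < N + 2 → g • fv N F k = fv N F k := by
    intro g hg k hk hk'
    exact hfix g hg _ (Bf_fv_ev_lt hk' (by omega) (by omega)) (Bf_fv_fv _ _)
  have ha10 : a - 1 ≠ 0 := sub_ne_zero.2 ha1
  obtain ⟨g, hg, hge⟩ := trans_vec isND_W1 ev0_mem_W1 ((W1 N F).smul_mem a ev0_mem_W1)
    (ev_ne_zero 0) (smul_ne_zero ha0 (ev_ne_zero 0))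
  obtain ⟨g', hg', hge'⟩ := trans_vec isND_W1 ((W1 N F).smul_mem (a - 1) ev0_mem_W1)
    (ev0_mem_W1 (N := N) (F := F)) (smul_ne_zero ha10 (ev_ne_zero 0)) (ev_ne_zero 0)
  have hcomm : g * Zp N F N = Zp N F N * g := by
    apply Zp_commute _ N (by omega) (hfe g hg _ (by omega) (by omega))
    intro k hk hk'
    exact ⟨hfe g hg _ (by omega) (by omega), hff g hg _ (by omega) (by omega)⟩
  have o : ∀ c : F, Bf (c • ev N F 0) (-fv N F 1) = 0 := by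
    intro c
    rw [Bf_smul_left, Bf_neg_right, Bf_ev_fv_lt (by omega) (by omega) (by omega), neg_zero,
      mul_zero]
  have hr0 : Bf (ev N F 0) (-fv N F 1) = 0 := rootA_orth (by omega)
  have h1 : Tm ((a - 1) • ev N F 0) (-fv N F 1) ∈ H := by
    have h3 := conj_mem H (hG hg) hu
    have e : g * uReg N F * g⁻¹ = Zp N F N * Tm (a • ev N F 0) (-fv N F 1) := by
      rw [uReg_eq_mul]
      calc g * (Zp N F N * rootA N F 0) * g⁻¹
          = (g * Zp N F N) * rootA N F 0 * g⁻¹ := by group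
        _ = Zp N F N * (g * rootA N F 0 * g⁻¹) := by rw [hcomm]; group
        _ = _ := by
          unfold rootA
          rw [conj_Tm, hge, smul_neg, hff g hg _ (by omega) (by omega)]
    rw [e] at h3
    have h4 := H.mul_mem (H.inv_mem hu) h3
    have e2 : (uReg N F)⁻¹ * (Zp N F N * Tm (a • ev N F 0) (-fv N F 1))
        = Tm ((a - 1) • ev N F 0) (-fv N F 1) := by
      rw [uReg_eq_mul]
      unfold rootA
      have hneg : Bf (-ev N F 0) (-fv N F 1) = 0 := by rw [Bf_neg_left, hr0, neg_zero]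
      have key := Tm_add_left hneg (o a)
      rw [Bf_smul_left, Bf_neg_right, Bf_self, neg_zero, mul_zero, tv_zero_right, mul_one,
        Tm_neg_left hr0] at key
      have e3 : -ev N F 0 + a • ev N F 0 = (a - 1) • ev N F 0 := by module
      rw [e3] at key
      rw [← key]
      group
    rw [e2] at h4
    exact h4
  have h5 := Tm_smul_mem H (hG hg') h1
  rw [hge', smul_neg, hff g' hg' _ (by omega) (by omega)] at h5
  exact h5

end hs

section rank2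

variable {F : Type*} [Field F] [Fintype F]
variable {H : Subgroup (Matrix.symplecticGroup (Fin (0 + 2)) F)}

local notation "e0" => ev 0 F 0
local notation "e1" => ev 0 F 1
local notation "f0" => fv 0 F 0
local notation "f1" => fv 0 F 1

/-- vectors `b` orthogonal to `e_0` with `Tm e_0 b` in `H` up to a long root element -/
def Bt (H : Subgroup (Matrix.symplecticGroup (Fin (0 + 2)) F)) :
    AddSubgroup (Fin (0 + 2) ⊕ Fin (0 + 2) → F) where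
  carrier := {b | Bf b e0 = 0 ∧ ∃ κ : F, Tm e0 b * tv e0 κ ∈ H}
  zero_mem' := by
    refine ⟨Bf_zero_left _, 0, ?_⟩
    rw [Tm_zero_right, tv_zero_right, mul_one]
    exact H.one_mem
  add_mem' := by
    rintro b b' ⟨h1, κ, hκ⟩ ⟨h1', κ', hκ'⟩
    refine ⟨by rw [Bf_add_left, h1, h1', add_zero], Bf b' b + κ + κ', ?_⟩
    have o : Bf e0 b = 0 := Bf_symm_zero h1
    have o' : Bf e0 b' = 0 := Bf_symm_zero h1'
    have key := Tm_add_right o o'
    have hc := tv_commute_Tm_left o' κ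
    have : Tm e0 (b + b') * tv e0 (Bf b' b + κ + κ')
        = (Tm e0 b * tv e0 κ) * (Tm e0 b' * tv e0 κ') := by
      symm
      calc (Tm e0 b * tv e0 κ) * (Tm e0 b' * tv e0 κ')
          = Tm e0 b * (tv e0 κ * Tm e0 b') * tv e0 κ' := by group
        _ = Tm e0 b * (Tm e0 b' * tv e0 κ) * tv e0 κ' := by rw [hc]
        _ = (Tm e0 b * Tm e0 b') * tv e0 κ * tv e0 κ' := by group
        _ = Tm e0 (b + b') * tv e0 (Bf b' b) * tv e0 κ * tv e0 κ' := by rw [key]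
        _ = Tm e0 (b + b') * tv e0 (Bf b' b + κ + κ') := by
          rw [mul_assoc (Tm _ _), tv_mul_tv, mul_assoc, tv_mul_tv]
    rw [this]
    exact H.mul_mem hκ hκ'
  neg_mem' := by
    rintro b ⟨h1, κ, hκ⟩
    refine ⟨by rw [Bf_neg_left, h1, neg_zero], -κ, ?_⟩
    have o : Bf e0 b = 0 := Bf_symm_zero h1
    have o' : Bf e0 (-b) = 0 := by rw [Bf_neg_right, o, neg_zero]
    have : Tm e0 (-b) * tv e0 (-κ) = (Tm e0 b * tv e0 κ)⁻¹ := by
      rw [_root_.mul_inv_rev, tv_inv, ← Tm_neg_right o, tv_commute_Tm_left o']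
    rw [this]
    exact H.inv_mem hκ

theorem mem_Bt {b : Fin (0 + 2) ⊕ Fin (0 + 2) → F} :
    b ∈ Bt H ↔ Bf b e0 = 0 ∧ ∃ κ : F, Tm e0 b * tv e0 κ ∈ H := Iff.rfl

theorem Bt_smul_mem {g : Matrix.symplecticGroup (Fin (0 + 2)) F} (hg : g ∈ H)
    (hge : g • e0 = e0) {b : Fin (0 + 2) ⊕ Fin (0 + 2) → F} (hb : b ∈ Bt H) : g • b ∈ Bt H := by
  obtain ⟨h1, κ, hκ⟩ := hb
  refine ⟨?_, κ, ?_⟩
  · rw [← hge, Bf_smul_smul, h1]
  · have h3 := conj_mem H hg hκ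
    have e : g * (Tm e0 b * tv e0 κ) * g⁻¹ = (g * Tm e0 b * g⁻¹) * (g * tv e0 κ * g⁻¹) := by
      group
    rw [e, conj_Tm, conj_tv, hge] at h3
    exact h3

theorem Bt_e0 (l : F) : l • e0 ∈ Bt H := by
  refine ⟨by rw [Bf_smul_left, Bf_self, mul_zero], -(2 * l), ?_⟩
  rw [Tm_self_smul, tv_mul_tv, add_neg_cancel, tv_zero_right]
  exact H.one_mem

/-- quotient of two elements of the unipotent radical with the same central part -/
theorem E_quot {b b' : Fin (0 + 2) ⊕ Fin (0 + 2) → F} (o : Bf e0 b = 0) (o' : Bf e0 b' = 0)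
    (κ κ' : F) :
    (Tm e0 b * tv e0 κ)⁻¹ * (Tm e0 b' * tv e0 κ')
      = Tm e0 (-b + b') * tv e0 (Bf b' (-b) + (κ' - κ)) := by
  have on : Bf e0 (-b) = 0 := by rw [Bf_neg_right, o, neg_zero]
  have key := Tm_add_right on o'
  have o'' : Bf e0 (-b + b') = 0 := by rw [Bf_add_right, on, o', add_zero]
  have hc := tv_commute_Tm_left o'' (-κ)
  have e : Bf b' (-b) + (κ' - κ) = -κ + Bf b' (-b) + κ' := by ring
  rw [e]
  calc (Tm e0 b * tv e0 κ)⁻¹ * (Tm e0 b' * tv e0 κ')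
      = (tv e0 κ)⁻¹ * ((Tm e0 b)⁻¹ * Tm e0 b') * tv e0 κ' := by group
    _ = tv e0 (-κ) * (Tm e0 (-b) * Tm e0 b') * tv e0 κ' := by rw [tv_inv, ← Tm_neg_right o]
    _ = tv e0 (-κ) * (Tm e0 (-b + b') * tv e0 (Bf b' (-b))) * tv e0 κ' := by rw [key]
    _ = (tv e0 (-κ) * Tm e0 (-b + b')) * tv e0 (Bf b' (-b)) * tv e0 κ' := by group
    _ = Tm e0 (-b + b') * tv e0 (-κ) * tv e0 (Bf b' (-b)) * tv e0 κ' := by rw [hc]
    _ = Tm e0 (-b + b') * tv e0 (-κ + Bf b' (-b) + κ') := by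
      rw [mul_assoc (Tm _ _), tv_mul_tv, mul_assoc, tv_mul_tv]

theorem conj_E {g : Matrix.symplecticGroup (Fin (0 + 2)) F} (hge : g • e0 = e0)
    (b : Fin (0 + 2) ⊕ Fin (0 + 2) → F) (κ : F) :
    g * (Tm e0 b * tv e0 κ) * g⁻¹ = Tm e0 (g • b) * tv e0 κ := by
  have e : g * (Tm e0 b * tv e0 κ) * g⁻¹ = (g * Tm e0 b * g⁻¹) * (g * tv e0 κ * g⁻¹) := by
    group
  rw [e, conj_Tm, conj_tv, hge]

/-- commutator of an element of the unipotent radical with an element fixing `e_0` -/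
theorem E_comm_mem {g : Matrix.symplecticGroup (Fin (0 + 2)) F} (hg : g ∈ H) (hge : g • e0 = e0)
    {b : Fin (0 + 2) ⊕ Fin (0 + 2) → F} (hb : Bf b e0 = 0) {κ : F}
    (hκ : Tm e0 b * tv e0 κ ∈ H) : Tm e0 (-b + g • b) * tv e0 (Bf (g • b) (-b)) ∈ H := by
  have h3 := conj_mem H hg hκ
  rw [conj_E hge] at h3
  have h4 := H.mul_mem (H.inv_mem hκ) h3
  have o : Bf e0 b = 0 := Bf_symm_zero hb
  have o' : Bf e0 (g • b) = 0 := by rw [← hge, Bf_smul_smul, o]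
  rw [E_quot o o', sub_self, add_zero] at h4
  exact h4

/-- transvections along vectors of the orthogonal complement of the plane -/
theorem tv_mem_of_Tm_mem_zeta {ζ : F} {w' : Matrix.symplecticGroup (Fin (0 + 2)) F}
    (hw' : w' ∈ H) (hw'e : w' • e0 = ζ⁻¹ • f0) (hy : tv f0 ζ⁻¹ ∈ H)
    {b : Fin (0 + 2) ⊕ Fin (0 + 2) → F} (he : Bf b e0 = 0) (hf : Bf b f0 = 0)
    (hw'b : w' • b = b) (hT : Tm e0 b ∈ H) : tv b ζ⁻¹ ∈ H := by
  have h1 : Tm (ζ⁻¹ • f0) b ∈ H := by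
    have := Tm_smul_mem H hw' hT
    rwa [hw'e, hw'b] at this
  have h2 : Tm (e0 + -(ζ⁻¹ • f0)) b ∈ H := by
    have := Tm_smul_mem H hy hT
    rw [tv_smul, tv_smul, hf, Bf_ev_fv_self] at this
    have e1' : e0 + (ζ⁻¹ * -1) • f0 = e0 + -(ζ⁻¹ • f0) := by module
    have e2' : b + (ζ⁻¹ * 0) • f0 = b := by module
    rwa [e1', e2'] at this
  have o1 : Bf e0 b = 0 := Bf_symm_zero he
  have o3 : Bf (ζ⁻¹ • f0) b = 0 := by rw [Bf_smul_left, Bf_symm_zero hf, mul_zero]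
  have o2 : Bf (-(ζ⁻¹ • f0)) b = 0 := by rw [Bf_neg_left, o3, neg_zero]
  have key := Tm_add_left o1 o2
  rw [Bf_neg_left, Bf_smul_left, Bf_fv_ev_self, mul_one, Tm_neg_left o3] at key
  have e : tv b ζ⁻¹ = ((Tm (e0 + -(ζ⁻¹ • f0)) b)⁻¹ * (Tm e0 b * (Tm (ζ⁻¹ • f0) b)⁻¹))⁻¹ := by
    rw [key, ← neg_neg ζ⁻¹, ← tv_inv b (-ζ⁻¹), neg_neg]
    group
  rw [e]
  exact H.inv_mem (H.mul_mem (H.inv_mem h2) (H.mul_mem hT (H.inv_mem h1)))

/-- **Characteristic two, rank two.** -/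
theorem caseB_top (h2 : (2 : F) = 0) (ζ ε : F) (hζ : ζ ≠ 0) (hε : ε * ε = ζ) (μ : F) (ρ : Fˣ)
    (hρ : ∀ x : Fˣ, x ∈ Subgroup.zpowers ρ) (hμρ : μ * μ = (ρ : F)) (hζρ : ζ * (ρ : F) ≠ 1)
    (a : F) (ha0 : a ≠ 0) (ha1 : a ≠ 1)
    (s : ℕ → F) (hs : ∀ k, k < 0 + 2 → s k ≠ 0) (hs1 : s (0 + 1) = ε⁻¹) (hs0 : s 0 = ε * μ)
    (hu : uReg 0 F ∈ H) (hz : tv e0 ζ ∈ H) (hu3 : u3El 0 s hs ∈ H) : H = ⊤ := by
  classical
  have hε0 : ε ≠ 0 := by
    rintro rfl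
    apply hζ
    rw [← hε, mul_zero]
  have hρ0 : (ρ : F) ≠ 0 := ρ.ne_zero
  have hμ0 : μ ≠ 0 := by
    rintro rfl
    apply hρ0
    rw [← hμρ, mul_zero]
  have hεi : ε⁻¹ * ε⁻¹ = ζ⁻¹ := by rw [← mul_inv, hε]
  have o_e0f1 : Bf e0 f1 = 0 := Bf_ev_fv_lt (by omega) (by omega) (by omega)
  have o_e1f0 : Bf e1 f0 = 0 := Bf_ev_fv_lt (by omega) (by omega) (by omega)
  have o_f1e0 : Bf f1 e0 = 0 := Bf_fv_ev_lt (by omega) (by omega) (by omega)
  have o_f0e1 : Bf f0 e1 = 0 := Bf_fv_ev_lt (by omega) (by omega) (by omega)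
  -- Step 1: the Weyl element
  have hw : tv (e0 - ζ⁻¹ • f0) ζ ∈ H := by
    have := tv_smul_mem H hu3 hz
    rwa [u3El_smul_ev0, hs1, hεi] at this
  have hw' : tv (e0 - ζ⁻¹ • f0) (-ζ) ∈ H := by
    rw [← tv_inv]; exact H.inv_mem hw
  have hw'e : tv (e0 - ζ⁻¹ • f0) (-ζ) • e0 = ζ⁻¹ • f0 := by
    rw [tv_smul]
    simp only [Bf_sub_right, Bf_smul_right, Bf_self, Bf_ev_fv_self]
    match_scalars <;> field_simp <;> ring
  have hw'fix : ∀ x : Fin (0 + 2) ⊕ Fin (0 + 2) → F, Bf x e0 = 0 → Bf x f0 = 0 →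
      tv (e0 - ζ⁻¹ • f0) (-ζ) • x = x := by
    intro x h1 h2'
    rw [tv_smul, Bf_sub_right, Bf_smul_right, h1, h2']
    module
  -- Step 2
  have hy : tv f0 ζ⁻¹ ∈ H := by
    have := tv_smul_mem H hw' hz
    rw [hw'e, tv_smul_vec] at this
    have e : ζ⁻¹ * ζ⁻¹ * ζ = ζ⁻¹ := by field_simp
    rwa [e] at this
  -- Step 3: the second factor of the third generator
  have om : Bf e0 ((-(ζ * μ)) • e1) = 0 := by rw [Bf_smul_right, Bf_ev_ev, mul_zero]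
  have hA : Tm e0 ((-(ζ * μ)) • e1) ∈ H := by
    have hu3_eq : u3El 0 s hs = Z3 0 s hs 1 := rfl
    rw [Z3_one, hs1, hs0, hεi, inv_inv] at hu3_eq
    have h3 : Tm ((ε * μ) • e1) (-(ε • e0)) ∈ H := by
      have : Tm ((ε * μ) • e1) (-(ε • e0)) = (tv f0 ζ⁻¹)⁻¹ * u3El 0 s hs := by
        rw [hu3_eq]; group
      rw [this]
      exact H.mul_mem (H.inv_mem hy) hu3
    have e : Tm ((ε * μ) • e1) (-(ε • e0)) = Tm e0 ((-(ζ * μ)) • e1) := by
      have o : Bf ((ε * μ) • e1) (-(ε • e0)) = 0 := by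
        rw [Bf_neg_right, Bf_smul_left, Bf_smul_right, Bf_ev_ev, mul_zero, mul_zero, neg_zero]
      apply ext_smul
      intro x
      rw [Tm_smul o, Tm_smul om, ← hε]
      simp only [Bf_neg_right, Bf_smul_right]
      module
    rwa [e] at h3
  -- Step 4
  have hme : Bf ((-(ζ * μ)) • e1) e0 = 0 := by rw [Bf_smul_left, Bf_ev_ev, mul_zero]
  have hmf : Bf ((-(ζ * μ)) • e1) f0 = 0 := by rw [Bf_smul_left, o_e1f0, mul_zero]
  have hX2 : tv e1 (ζ * (ρ : F)) ∈ H := by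
    have := tv_mem_of_Tm_mem_zeta hw' hw'e hy hme hmf (hw'fix _ hme hmf) hA
    rw [tv_smul_vec] at this
    have e : -(ζ * μ) * -(ζ * μ) * ζ⁻¹ = ζ * (ρ : F) := by
      rw [← hμρ]; field_simp
    rwa [e] at this
  -- Step 5
  have hTe0 : Bf e0 (-f1) = 0 := rootA_orth (by omega)
  have huw : tv e1 1 * Tm (ζ⁻¹ • f0) (-f1) ∈ H := by
    have h3 := conj_mem H hw' hu
    rw [uReg_zero_eq] at h3
    have e : tv (e0 - ζ⁻¹ • f0) (-ζ) * (tv e1 1 * rootA 0 F 0) * (tv (e0 - ζ⁻¹ • f0) (-ζ))⁻¹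
        = (tv (e0 - ζ⁻¹ • f0) (-ζ) * tv e1 1 * (tv (e0 - ζ⁻¹ • f0) (-ζ))⁻¹) *
          (tv (e0 - ζ⁻¹ • f0) (-ζ) * rootA 0 F 0 * (tv (e0 - ζ⁻¹ • f0) (-ζ))⁻¹) := by group
    rw [e, conj_tv] at h3
    unfold rootA at h3
    rw [conj_Tm, hw'e, smul_neg, hw'fix _ (Bf_ev_ev _ _) o_e1f0, hw'fix _ o_f1e0 (Bf_fv_fv _ _)]
      at h3
    exact h3
  have huy : tv e1 1 * Tm (e0 + -(ζ⁻¹ • f0)) (-f1) ∈ H := by
    have h3 := conj_mem H hy hu
    rw [uReg_zero_eq] at h3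
    have e : tv f0 ζ⁻¹ * (tv e1 1 * rootA 0 F 0) * (tv f0 ζ⁻¹)⁻¹
        = (tv f0 ζ⁻¹ * tv e1 1 * (tv f0 ζ⁻¹)⁻¹) * (tv f0 ζ⁻¹ * rootA 0 F 0 * (tv f0 ζ⁻¹)⁻¹) := by
      group
    rw [e, conj_tv] at h3
    unfold rootA at h3
    rw [conj_Tm] at h3
    have a1 : tv f0 ζ⁻¹ • e1 = e1 := by
      rw [tv_smul, o_e1f0]; module
    have a2 : tv f0 ζ⁻¹ • e0 = e0 + -(ζ⁻¹ • f0) := by
      rw [tv_smul, Bf_ev_fv_self]; module
    have a3 : tv f0 ζ⁻¹ • (-fv 0 F (0 + 1)) = -f1 := by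
      rw [tv_smul, Bf_neg_left, Bf_fv_fv]; module
    rw [a1, a2, a3] at h3
    exact h3
  have hτ : (rootA 0 F 0)⁻¹ * tv f1 ζ⁻¹ ∈ H := by
    have o3 : Bf (ζ⁻¹ • f0) (-f1) = 0 := by
      rw [Bf_smul_left, Bf_neg_right, Bf_fv_fv, neg_zero, mul_zero]
    have o2 : Bf (-(ζ⁻¹ • f0)) (-f1) = 0 := by rw [Bf_neg_left, o3, neg_zero]
    have key := Tm_add_left hTe0 o2
    rw [Bf_neg_left, Bf_smul_left, Bf_fv_ev_self, mul_one, Tm_neg_left o3] at key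
    have hTef : Tm (e0 + -(ζ⁻¹ • f0)) (-f1)
        = Tm e0 (-f1) * (Tm (ζ⁻¹ • f0) (-f1))⁻¹ * (tv (-f1) (-ζ⁻¹))⁻¹ := by
      rw [key]; group
    have e : (rootA 0 F 0)⁻¹ * tv f1 ζ⁻¹
        = ((uReg 0 F)⁻¹ * (tv e1 1 * Tm (ζ⁻¹ • f0) (-f1))) *
          ((uReg 0 F)⁻¹ * (tv e1 1 * Tm (e0 + -(ζ⁻¹ • f0)) (-f1))) := by
      rw [hTef, uReg_zero_eq, tv_inv, neg_neg, tv_neg_vec]
      unfold rootA
      group
    rw [e]
    exact H.mul_mem (H.mul_mem (H.inv_mem hu) huw) (H.mul_mem (H.inv_mem hu) huy)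
  -- Step 6: the additive groups
  have hmΛ : (-(ζ * μ)) ∈ LamOf (Bt H) e1 := by
    rw [mem_LamOf]
    refine ⟨hme, 0, ?_⟩
    rw [tv_zero_right, mul_one]
    exact hA
  have hτe : ((rootA 0 F 0)⁻¹ * tv f1 ζ⁻¹) • e0 = e0 := by
    rw [mul_smul, tv_smul, o_e0f1, mul_zero, zero_smul, add_zero, rootA_inv_smul (by omega)]
    have a1 : Bf e0 (fv 0 F (0 + 1)) = 0 := o_e0f1
    rw [a1, Bf_self]
    module
  have hef : ∀ l : F, l ∈ LamOf (Bt H) e1 → ζ⁻¹ * l ∈ LamOf (Bt H) f1 := by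
    intro l hl
    rw [mem_LamOf] at hl ⊢
    have h3 := Bt_smul_mem hτ hτe hl
    have e : ((rootA 0 F 0)⁻¹ * tv f1 ζ⁻¹) • (l • e1)
        = l • e1 + (-(ζ⁻¹ * l)) • f1 + (-l) • e0 := by
      rw [mul_smul, tv_smul, rootA_inv_smul (by omega)]
      have a1 : fv 0 F (0 + 1) = f1 := rfl
      rw [a1]
      simp only [Bf_add_left, Bf_smul_left, Bf_ev_fv_self, Bf_fv_fv, Bf_ev_ev, o_f1e0]
      module
    rw [e] at h3
    have h4 := (Bt H).neg_mem ((Bt H).sub_mem ((Bt H).sub_mem h3 hl) (Bt_e0 (-l)))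
    have e' : -(l • e1 + (-(ζ⁻¹ * l)) • f1 + (-l) • e0 - l • e1 - (-l) • e0)
        = (ζ⁻¹ * l) • f1 := by module
    rwa [e'] at h4
  have hX2e : tv e1 (ζ * (ρ : F)) • e0 = e0 := by
    rw [tv_smul, Bf_ev_ev, mul_zero, zero_smul, add_zero]
  have hX2f : ∀ l : F, tv e1 (ζ * (ρ : F)) • (l • f1) = l • f1 + (ζ * (ρ : F) * l) • e1 := by
    intro l
    rw [tv_smul, Bf_smul_left, Bf_fv_ev_self, mul_one]
  have hfe : ∀ l : F, l ∈ LamOf (Bt H) f1 → ζ * (ρ : F) * l ∈ LamOf (Bt H) e1 := by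
    intro l hl
    rw [mem_LamOf] at hl ⊢
    have h3 := Bt_smul_mem hX2 hX2e hl
    rw [hX2f] at h3
    have h4 := (Bt H).sub_mem h3 hl
    rwa [add_sub_cancel_left] at h4
  have hΛe : ∀ c : F, c ∈ LamOf (Bt H) e1 := by
    apply forall_mem_of_gen' ρ hρ _ (AddSubgroup.zero_mem _) _ hmΛ
      (neg_ne_zero.2 (mul_ne_zero hζ hμ0))
    intro l hl
    have := hfe _ (hef l hl)
    have e : ζ * (ρ : F) * (ζ⁻¹ * l) = (ρ : F) * l := by field_simp
    rwa [e] at this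
  have hΛf : ∀ c : F, c ∈ LamOf (Bt H) f1 := by
    intro c
    have := hef _ (hΛe (ζ * c))
    have e : ζ⁻¹ * (ζ * c) = c := by field_simp
    rwa [e] at this
  -- Step 6': separating the centre
  have hE1 : ∀ l : F, Tm e0 ((ζ * (ρ : F) * l) • e1) * tv e0 (ζ * (ρ : F) * l * l) ∈ H := by
    intro l
    obtain ⟨hb, κ, hκ⟩ := hΛf l
    have h3 := E_comm_mem hX2 hX2e hb hκ
    rw [hX2f] at h3
    have a1 : -(l • f1) + (l • f1 + (ζ * (ρ : F) * l) • e1) = (ζ * (ρ : F) * l) • e1 := by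
      module
    have a2 : Bf (l • f1 + (ζ * (ρ : F) * l) • e1) (-(l • f1)) = ζ * (ρ : F) * l * l := by
      simp only [Bf_add_left, Bf_neg_right, Bf_smul_left, Bf_smul_right, Bf_fv_fv,
        Bf_ev_fv_self]
      ring
    rwa [a1, a2] at h3
  have hue : uReg 0 F • e0 = e0 := by
    unfold uReg
    rw [Zp_smul_ev_low (0 + 1) le_rfl 0 (by omega)]
  have huf : ∀ l : F, uReg 0 F • (l • f1) = l • f1 + l • e1 := by
    intro l
    rw [uReg_zero_eq, mul_smul, smul_comm (rootA 0 F 0),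
      rootA_smul_fv (by omega) (by omega) (by omega), tv_smul, Bf_smul_left, Bf_fv_ev_self,
      one_mul, mul_one]
  have hE2 : ∀ l : F, Tm e0 (l • e1) * tv e0 (l * l) ∈ H := by
    intro l
    obtain ⟨hb, κ, hκ⟩ := hΛf l
    have h3 := E_comm_mem hu hue hb hκ
    rw [huf] at h3
    have a1 : -(l • f1) + (l • f1 + l • e1) = l • e1 := by module
    have a2 : Bf (l • f1 + l • e1) (-(l • f1)) = l * l := by
      simp only [Bf_add_left, Bf_neg_right, Bf_smul_left, Bf_smul_right, Bf_fv_fv,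
        Bf_ev_fv_self]
      ring
    rwa [a1, a2] at h3
  have hlong : ∀ l : F,
      tv e0 (ζ * (ρ : F) * l * (ζ * (ρ : F) * l) - ζ * (ρ : F) * l * l) ∈ H := by
    intro l
    have h3 := H.mul_mem (H.inv_mem (hE1 l)) (hE2 (ζ * (ρ : F) * l))
    have o : Bf e0 ((ζ * (ρ : F) * l) • e1) = 0 := by rw [Bf_smul_right, Bf_ev_ev, mul_zero]
    rw [E_quot o o, neg_add_cancel, Tm_zero_right, one_mul, Bf_neg_right, Bf_self, neg_zero,
      zero_add (ζ * (ρ : F) * l * (ζ * (ρ : F) * l) - ζ * (ρ : F) * l * l)] at h3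
    exact h3
  have hE : e0 ∈ Xset H := by
    intro c
    haveI : CharP F 2 := CharTwo.of_one_ne_zero_of_two_eq_zero one_ne_zero h2
    have hd : ζ * (ρ : F) * (ζ * (ρ : F) - 1) ≠ 0 :=
      mul_ne_zero (mul_ne_zero hζ hρ0) (sub_ne_zero.2 hζρ)
    obtain ⟨r, hr⟩ := isSquare_of_charTwo' (c / (ζ * (ρ : F) * (ζ * (ρ : F) - 1)))
    have := hlong r
    have e : ζ * (ρ : F) * r * (ζ * (ρ : F) * r) - ζ * (ρ : F) * r * r = c := by
      have : ζ * (ρ : F) * r * (ζ * (ρ : F) * r) - ζ * (ρ : F) * r * r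
          = (r * r) * (ζ * (ρ : F) * (ζ * (ρ : F) - 1)) := by ring
      rw [this, ← hr, div_mul_cancel₀ _ hd]
    rwa [e] at this
  have hF : f0 ∈ Xset H := by
    have h3 := Xset_smul (Xset_smul_mem hw' hE) ζ
    rw [hw'e, smul_smul, mul_inv_cancel₀ hζ, one_smul] at h3
    exact h3
  exact eq_top_of_W1 hE hF hu (rootA0_mem_of_W1 hE hF hu a ha0 ha1)

end rank2

end Cfsg.Agent.Helper12.SpGen
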