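import Mathlib
import Cfsg.Agent.Lib.Helper12.SpGenK
import Cfsg.Agent.Lib.Helper12.SpGenC

set_option autoImplicit false

/-!
# Assembly: three conjugates of the regular unipotent element generate `Sp_{2n}(F)`
-/

namespace Cfsg.Agent.Helper12.SpGen

open Matrix
open Cfsg.Agent.Helper2.Symp
open scoped Cfsg.Agent.Helper2.Symp

variable {F : Type*} [Field F] [Fintype F]

theorem exists_ne_zero_ne_one (h : Fintype.card F ≠ 2) : ∃ a : F, a ≠ 0 ∧ a ≠ 1 := by
  classical
  have h1 : 1 < Fintype.card F := Fintype.one_lt_card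
  have h2 : ({0, 1} : Finset F).card < (Finset.univ : Finset F).card := by
    rw [Finset.card_univ]
    have : ({0, 1} : Finset F).card ≤ 2 := Finset.card_le_two
    omega
  obtain ⟨a, _, ha⟩ := Finset.exists_mem_notMem_of_card_lt_card h2
  refine ⟨a, ?_, ?_⟩
  · rintro rfl; exact ha (by simp)
  · rintro rfl; exact ha (by simp)

/-- odd characteristic -/
theorem three_gens_odd (N : ℕ) (h2 : (2 : F) ≠ 0) :
    ∃ g h : Matrix.symplecticGroup (Fin (N + 2)) F,
      Subgroup.closure ({uReg N F, g * uReg N F * g⁻¹, h * uReg N F * h⁻¹} :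
        Set (Matrix.symplecticGroup (Fin (N + 2)) F)) = ⊤ := by
  classical
  obtain ⟨μ, hμ⟩ := IsCyclic.exists_generator (α := Fˣ)
  set s : ℕ → F := fun k => if k = N + 1 then 1 else (μ : F) with hsdef
  have hs : ∀ k, k < N + 2 → s k ≠ 0 := by
    intro k _
    rw [hsdef]
    dsimp only
    split_ifs
    · exact one_ne_zero
    · exact μ.ne_zero
  refine ⟨gI N F, hEl N s hs, ?_⟩
  set H := Subgroup.closure ({uReg N F, gI N F * uReg N F * (gI N F)⁻¹,
    hEl N s hs * uReg N F * (hEl N s hs)⁻¹} : Set (Matrix.symplecticGroup (Fin (N + 2)) F)) with hH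
  have hu : uReg N F ∈ H := Subgroup.subset_closure (by simp)
  have hu2 : gI N F * uReg N F * (gI N F)⁻¹ ∈ H := Subgroup.subset_closure (by simp)
  have hu3 : u3El N s hs ∈ H := by
    rw [u3El_eq]
    exact Subgroup.subset_closure (by simp)
  have hz : tv (ev N F 0) 1 ∈ H := by
    rw [gI_conj h2] at hu2
    have : tv (ev N F 0) 1 = (uReg N F)⁻¹ * (uReg N F * tv (ev N F 0) 1) := by group
    rw [this]
    exact H.mul_mem (H.inv_mem hu) hu2
  have hs1 : s (N + 1) = 1 := by rw [hsdef]; simp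
  have hsN : s N = (μ : F) := by rw [hsdef]; simp
  exact caseI_top h2 μ hμ s hs hs1 hsN hu hz hu3

/-- characteristic two, rank at least three -/
theorem three_gens_even_big (M : ℕ) (h2 : (2 : F) = 0) :
    ∃ g h : Matrix.symplecticGroup (Fin (M + 1 + 2)) F,
      Subgroup.closure ({uReg (M + 1) F, g * uReg (M + 1) F * g⁻¹, h * uReg (M + 1) F * h⁻¹} :
        Set (Matrix.symplecticGroup (Fin (M + 1 + 2)) F)) = ⊤ := by
  classical
  obtain ⟨μ, hμ⟩ := IsCyclic.exists_generator (α := Fˣ)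
  set s : ℕ → F := fun k => if k = M then (μ : F) else 1 with hsdef
  have hs : ∀ k, k < M + 1 + 2 → s k ≠ 0 := by
    intro k _
    rw [hsdef]
    dsimp only
    split_ifs
    · exact μ.ne_zero
    · exact one_ne_zero
  refine ⟨gA M F, hEl (M + 1) s hs, ?_⟩
  set H := Subgroup.closure ({uReg (M + 1) F, gA M F * uReg (M + 1) F * (gA M F)⁻¹,
    hEl (M + 1) s hs * uReg (M + 1) F * (hEl (M + 1) s hs)⁻¹} :
      Set (Matrix.symplecticGroup (Fin (M + 1 + 2)) F)) with hH
  have hu : uReg (M + 1) F ∈ H := Subgroup.subset_closure (by simp)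
  have hu2 : gA M F * uReg (M + 1) F * (gA M F)⁻¹ ∈ H := Subgroup.subset_closure (by simp)
  have hu3 : u3El (M + 1) s hs ∈ H := by
    rw [u3El_eq]
    exact Subgroup.subset_closure (by simp)
  have hz : tv (ev (M + 1) F 0) 1 ∈ H := by
    rw [gA_conj h2] at hu2
    have : tv (ev (M + 1) F 0) 1
        = (uReg (M + 1) F)⁻¹ * (uReg (M + 1) F * tv (ev (M + 1) F 0) 1) := by group
    rw [this]
    exact H.mul_mem (H.inv_mem hu) hu2
  have hs1 : s (M + 1 + 1) = 1 := by
    rw [hsdef]
    dsimp only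
    rw [if_neg (by omega)]
  have hsN : s (M + 1) = 1 := by
    rw [hsdef]
    dsimp only
    rw [if_neg (by omega)]
  have hsM : s M = (μ : F) := by rw [hsdef]; simp
  exact caseA_top h2 μ hμ s hs hs1 hsN hsM hu hz hu3

/-- characteristic two, rank two -/
theorem three_gens_even_small (h2 : (2 : F) = 0) (hc : Fintype.card F ≠ 2) :
    ∃ g h : Matrix.symplecticGroup (Fin (0 + 2)) F,
      Subgroup.closure ({uReg 0 F, g * uReg 0 F * g⁻¹, h * uReg 0 F * h⁻¹} :
        Set (Matrix.symplecticGroup (Fin (0 + 2)) F)) = ⊤ := by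
  classical
  haveI : CharP F 2 := CharTwo.of_one_ne_zero_of_two_eq_zero one_ne_zero h2
  obtain ⟨a, ha0, ha1⟩ := exists_ne_zero_ne_one hc
  have hζ : a * a + a ≠ 0 := by
    have : a * a + a = a * (a + 1) := by ring
    rw [this]
    apply mul_ne_zero ha0
    intro h
    apply ha1
    have : a = -1 := by linear_combination h
    rw [this, neg_eq_of_two' h2]
  obtain ⟨ε, hε⟩ := isSquare_of_charTwo' (a * a + a)
  obtain ⟨ν, hν⟩ := IsCyclic.exists_generator (α := Fˣ)
  -- a generator `ρ` with `ζ ρ ≠ 1`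
  have hex : ∃ ρ : Fˣ, (∀ x : Fˣ, x ∈ Subgroup.zpowers ρ) ∧ (a * a + a) * (ρ : F) ≠ 1 := by
    by_cases h1 : (a * a + a) * (ν : F) = 1
    · refine ⟨ν⁻¹, fun x => by rw [Subgroup.zpowers_inv]; exact hν x, ?_⟩
      intro h3
      -- then `ν = ν⁻¹`, so every unit squares to one
      have hνν : (ν : F) = ((ν⁻¹ : Fˣ) : F) := by
        have e1 : (a * a + a) = ((ν⁻¹ : Fˣ) : F) := by
          rw [Units.val_inv_eq_inv_val]
          exact eq_inv_of_mul_eq_one_left h1
        have e2 : (a * a + a) = (ν : F) := by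
          rw [Units.val_inv_eq_inv_val] at h3
          have := eq_inv_of_mul_eq_one_left h3
          rwa [inv_inv] at this
        rw [← e1, ← e2]
      have hsq : ν * ν = 1 := by
        apply Units.ext
        rw [Units.val_mul, Units.val_one]
        nth_rewrite 2 [hνν]
        rw [← Units.val_mul, mul_inv_cancel, Units.val_one]
      have hall : ∀ x : Fˣ, x * x = 1 := by
        intro x
        obtain ⟨k, rfl⟩ := Subgroup.mem_zpowers_iff.1 (hν x)
        rw [← mul_zpow, hsq, _root_.one_zpow]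
      have ha2 := congrArg Units.val (hall (Units.mk0 a ha0))
      rw [Units.val_mul, Units.val_mk0, Units.val_one] at ha2
      apply ha1
      have h4 : (a + 1) * (a + 1) = 0 := by linear_combination ha2 + (a + 1) * h2
      have h5 : a + 1 = 0 := by
        rcases mul_eq_zero.1 h4 with h | h <;> exact h
      have : a = -1 := by linear_combination h5
      rw [this, neg_eq_of_two' h2]
    · exact ⟨ν, hν, h1⟩
  obtain ⟨ρ, hρ, hζρ⟩ := hex
  obtain ⟨μ, hμρ⟩ := isSquare_of_charTwo' (ρ : F)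
  set s : ℕ → F := fun k => if k = 0 then ε * μ else ε⁻¹ with hsdef
  have hε0 : ε ≠ 0 := by
    rintro rfl
    apply hζ
    rw [hε, mul_zero]
  have hμ0 : μ ≠ 0 := by
    rintro rfl
    apply ρ.ne_zero
    rw [hμρ, mul_zero]
  have hs : ∀ k, k < 0 + 2 → s k ≠ 0 := by
    intro k _
    rw [hsdef]
    dsimp only
    split_ifs
    · exact mul_ne_zero hε0 hμ0
    · exact inv_ne_zero hε0
  refine ⟨gB F a, hEl 0 s hs, ?_⟩
  set H := Subgroup.closure ({uReg 0 F, gB F a * uReg 0 F * (gB F a)⁻¹,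
    hEl 0 s hs * uReg 0 F * (hEl 0 s hs)⁻¹} :
      Set (Matrix.symplecticGroup (Fin (0 + 2)) F)) with hH
  have hu : uReg 0 F ∈ H := Subgroup.subset_closure (by simp)
  have hu2 : gB F a * uReg 0 F * (gB F a)⁻¹ ∈ H := Subgroup.subset_closure (by simp)
  have hu3 : u3El 0 s hs ∈ H := by
    rw [u3El_eq]
    exact Subgroup.subset_closure (by simp)
  have hz : tv (ev 0 F 0) (a * a + a) ∈ H := by
    rw [gB_conj h2] at hu2
    have : tv (ev 0 F 0) (a * a + a)
        = (uReg 0 F)⁻¹ * (uReg 0 F * tv (ev 0 F 0) (a * a + a)) := by group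
    rw [this]
    exact H.mul_mem (H.inv_mem hu) hu2
  have hs1 : s (0 + 1) = ε⁻¹ := by rw [hsdef]; simp
  have hs0 : s 0 = ε * μ := by rw [hsdef]; simp
  exact caseB_top h2 (a * a + a) ε hζ hε.symm μ ρ hρ hμρ.symm hζρ a ha0 ha1 s hs hs1 hs0 hu hz hu3

/-- **Three conjugates of the regular unipotent element generate.** -/
theorem three_gens (N : ℕ) (h22 : ¬ (N = 0 ∧ Fintype.card F = 2)) :
    ∃ g h : Matrix.symplecticGroup (Fin (N + 2)) F,
      Subgroup.closure ({uReg N F, g * uReg N F * g⁻¹, h * uReg N F * h⁻¹} :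
        Set (Matrix.symplecticGroup (Fin (N + 2)) F)) = ⊤ := by
  by_cases h2 : (2 : F) = 0
  · rcases Nat.eq_zero_or_pos N with rfl | hN
    · apply three_gens_even_small h2
      intro hc
      exact h22 ⟨rfl, hc⟩
    · obtain ⟨M, rfl⟩ : ∃ M, N = M + 1 := ⟨N - 1, by omega⟩
      exact three_gens_even_big M h2
  · exact three_gens_odd N h2

end Cfsg.Agent.Helper12.SpGen
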