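import Mathlib
import Cfsg.Agent.Lib.Helper11.D4IMem
import Cfsg.Agent.Lib.Helper6.SylowConj
import Cfsg.Agent.Lib.Lead.TwAutBN

/-!
# `³D₄(q)`, `q` even: the central involution `x_{3a+2b}(1)` is not conjugate to `x_a(1)`

Piece NCONJ of S2183.  Bruhat decomposition of the conjugating element, the orbit of the highest root under the twisted
Weyl group, and invariance of the first coordinate of the twisted normal form under conjugation by `U¹`.
-/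

set_option autoImplicit false
set_option linter.unusedSectionVars false
set_option linter.unusedSimpArgs false
set_option linter.unusedVariables false

namespace Cfsg.Agent.Helper11.D4I

open Cfsg Cfsg.Lie Cfsg.Agent.Lead.Chev Cfsg.Agent.Lead.Tw

namespace NCJ

theorem pos_list : ∀ r < 24, chevD4.IsPosRoot r → r ∈ [12, 13, 14, 15, 16, 17, 18, 19, 20, 21, 22, 23] := by
  decide +kernel

theorem neg_list : ∀ r ∈ [0, 1, 9], chevD4.IsNegRoot r := by decide +kernel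

theorem orb_step : ∀ r ∈ [0, 1, 9, 14, 22, 23], ∀ v ∈ D4.S, reflWord chevD4 v r ∈ [0, 1, 9, 14, 22, 23] := by
  decide +kernel

theorem orb (l : List (List ℕ)) (hl : ∀ v ∈ l, v ∈ D4.S) :
    ∀ r ∈ [0, 1, 9, 14, 22, 23], reflWord chevD4 (wordOf l) r ∈ [0, 1, 9, 14, 22, 23] := by
  induction l with
  | nil => intro r hr; simpa [wordOf, reflWord] using hr
  | cons v l ih =>
    intro r hr
    simp only [wordOf]
    rw [reflWord_append]
    exact ih (fun x hx => hl x (List.mem_cons_of_mem _ hx)) _ (orb_step r hr v (hl v List.mem_cons_self))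

variable {K : Type*} [Field K]

/-- a generator of `U` -/
theorem gen_cases (g : GL chevD4.Idx K)
    (hg : ∃ (r : ℕ) (t : K), chevD4.IsPosRoot r ∧ (g : Matrix chevD4.Idx chevD4.Idx K) = chevD4.x K r t) :
    ∃ r ∈ [12, 13, 14, 15, 16, 17, 18, 19, 20, 21, 22, 23], ∃ t : K, g = X r t := by
  obtain ⟨r, t, hr, e⟩ := hg
  exact ⟨r, pos_list r hr.1 hr, t, Units.ext e⟩

variable [CharP K 2]

/-- `x_{3a+2b}(t)` is central in `U` -/
theorem x23_central (t : K) (u : GL chevD4.Idx K) (hu : u ∈ chevD4.posUnipotent K) :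
    u * X 23 t = X 23 t * u := by
  unfold ChevalleyDatum.posUnipotent at hu
  induction hu using Subgroup.closure_induction with
  | mem x hx =>
    obtain ⟨r, hr, c, rfl⟩ := gen_cases x hx
    simp only [List.mem_cons, List.mem_nil_iff, or_false] at hr
    rcases hr with rfl | rfl | rfl | rfl | rfl | rfl | rfl | rfl | rfl | rfl | rfl | rfl
    · exact sw_12_23 t c
    · exact sw_13_23 t c
    · exact sw_14_23 t c
    · exact sw_15_23 t c
    · exact sw_16_23 t c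
    · exact sw_17_23 t c
    · exact sw_18_23 t c
    · exact sw_19_23 t c
    · exact sw_20_23 t c
    · exact sw_21_23 t c
    · exact sw_22_23 t c
    · rw [X_mul, X_mul, add_comm]
  | one => rw [one_mul, mul_one]
  | mul x y _ _ hx hy => rw [mul_assoc, hy, ← mul_assoc, hx, mul_assoc]
  | inv x _ hx =>
    have : x⁻¹ * X 23 t = x⁻¹ * (X 23 t * x) * x⁻¹ := by group
    rw [this, ← hx]
    group

theorem cast_sign (w : List ℕ) (hw : ∀ i ∈ w, i < chevD4.rank) (s : ℕ) :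
    ((signWord chevD4 (etaOf chevD4) w s : ℤ) : K) = 1 := by
  rcases signWord_sq chevD4 (etaOf chevD4) w
    (fun i hi s => ((D4.hF (K := K)).nsimple i (hw i hi)).sign s) s with h | h
  · rw [h]; simp
  · rw [h]; push_cast; exact CharTwo.neg_eq 1

/-- the first coordinate of the twisted normal form of `y` is `t1` -/
def T1 (q : ℕ) (f : K ≃+* K) (t1 : K) (y : GL chevD4.Idx K) : Prop :=
  y ∈ chevD4.posUnipotent K ⊓ twistedD4 K q ∧ ∃ u2 t3 t4 u5 u6 : K, y = NFtw f t1 u2 t3 t4 u5 u6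

end NCJ

variable {K : Type*} [Field K] [Fintype K] [CharP K 2] {q : ℕ} (hK : Fintype.card K = q ^ 3)
  (f : K ≃+* K) (hf : ∀ t, f t = t ^ q)
include hK hf

namespace NCJ

/-- the parameters of a twisted normal form lying in `³D₄(q)` are fixed -/
theorem fixed_of_mem (hsurj : ∀ u ∈ chevD4.posUnipotent K ⊓ twistedD4 K q,
      ∃ t1 u2 t3 t4 u5 u6 : K, f u2 = u2 ∧ f u5 = u5 ∧ f u6 = u6 ∧ u = NFtw f t1 u2 t3 t4 u5 u6)
    (t1 u2 t3 t4 u5 u6 : K) (h : NFtw f t1 u2 t3 t4 u5 u6 ∈ chevD4.posUnipotent K ⊓ twistedD4 K q) :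
    f u2 = u2 ∧ f u5 = u5 ∧ f u6 = u6 := by
  obtain ⟨s1, v2, s3, s4, v5, v6, h2, h5, h6, e⟩ := hsurj _ h
  obtain ⟨-, e2, -, -, e5, e6⟩ := NFtw_inj f (hf3 hK f hf) e
  rw [e2, e5, e6]
  exact ⟨h2, h5, h6⟩

/-- conjugation by a twisted root element preserves the first coordinate -/
theorem T1_step (hsurj : ∀ u ∈ chevD4.posUnipotent K ⊓ twistedD4 K q,
      ∃ t1 u2 t3 t4 u5 u6 : K, f u2 = u2 ∧ f u5 = u5 ∧ f u6 = u6 ∧ u = NFtw f t1 u2 t3 t4 u5 u6)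
    (t1 : K) (x y : GL chevD4.Idx K) (hx : x ∈ chevD4.posUnipotent K ⊓ twistedD4 K q)
    (hconj : ∀ t1 u2 t3 t4 u5 u6 : K, f u2 = u2 → f u5 = u5 → f u6 = u6 →
      ∃ t3' t4' u5' u6' : K, x * NFtw f t1 u2 t3 t4 u5 u6 * x = NFtw f t1 u2 t3' t4' u5' u6')
    (hy : T1 q f t1 y) : T1 q f t1 (x * y * x) := by
  obtain ⟨hy1, u2, t3, t4, u5, u6, rfl⟩ := hy
  obtain ⟨h2, h5, h6⟩ := fixed_of_mem hK f hf hsurj _ _ _ _ _ _ hy1
  refine ⟨mul_mem (mul_mem hx hy1) hx, ?_⟩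
  obtain ⟨t3', t4', u5', u6', e⟩ := hconj t1 u2 t3 t4 u5 u6 h2 h5 h6
  exact ⟨u2, t3', t4', u5', u6', e⟩

/-- conjugation by an element of `U¹` preserves the first coordinate -/
theorem T1_conj (hsurj : ∀ u ∈ chevD4.posUnipotent K ⊓ twistedD4 K q,
      ∃ t1 u2 t3 t4 u5 u6 : K, f u2 = u2 ∧ f u5 = u5 ∧ f u6 = u6 ∧ u = NFtw f t1 u2 t3 t4 u5 u6)
    (t1 : K) (v y : GL chevD4.Idx K) (hv : v ∈ chevD4.posUnipotent K ⊓ twistedD4 K q)
    (hy : T1 q f t1 y) : T1 q f t1 (v * y * v⁻¹) := by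
  obtain ⟨a1, a2, a3, a4, a5, a6, h2, h5, h6, rfl⟩ := hsurj v hv
  have h3 := hf3 hK f hf
  have s6 : T1 q f t1 (x3a2b a6 * y * x3a2b a6) :=
    T1_step hK f hf hsurj t1 _ y ⟨x3a2b_posU a6, x3a2b_mem hK f hf a6 h6⟩
      (fun t1 u2 t3 t4 u5 u6 k2 k5 k6 => ⟨_, _, _, _, conj_3a2b f h3 a6 t1 u2 t3 t4 u5 u6 h6 k2 k5 k6⟩) hy
  have s5 := T1_step hK f hf hsurj t1 (x3ab a5) _ ⟨x3ab_posU a5, x3ab_mem hK f hf a5 h5⟩
      (fun t1 u2 t3 t4 u5 u6 k2 k5 k6 => ⟨_, _, _, _, conj_3ab f h3 a5 t1 u2 t3 t4 u5 u6 h5 k2 k5 k6⟩) s6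
  have s4 := T1_step hK f hf hsurj t1 (x2ab f a4) _ ⟨x2ab_posU f a4, x2ab_mem hK f hf a4⟩
      (fun t1 u2 t3 t4 u5 u6 k2 k5 k6 => ⟨_, _, _, _, conj_2ab f h3 a4 t1 u2 t3 t4 u5 u6 trivial k2 k5 k6⟩) s5
  have s3 := T1_step hK f hf hsurj t1 (xab f a3) _ ⟨xab_posU f a3, xab_mem hK f hf a3⟩
      (fun t1 u2 t3 t4 u5 u6 k2 k5 k6 => ⟨_, _, _, _, conj_ab f h3 a3 t1 u2 t3 t4 u5 u6 trivial k2 k5 k6⟩) s4
  have s2 := T1_step hK f hf hsurj t1 (xb a2) _ ⟨xb_posU a2, xb_mem hK f hf a2 h2⟩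
      (fun t1 u2 t3 t4 u5 u6 k2 k5 k6 => ⟨_, _, _, _, conj_b f h3 a2 t1 u2 t3 t4 u5 u6 h2 k2 k5 k6⟩) s3
  have s1 := T1_step hK f hf hsurj t1 (xa f a1) _ ⟨xa_posU f a1, xa_mem hK f hf a1⟩
      (fun t1 u2 t3 t4 u5 u6 k2 k5 k6 => ⟨_, _, _, _, conj_a f h3 a1 t1 u2 t3 t4 u5 u6 trivial k2 k5 k6⟩) s2
  have e : NFtw f a1 a2 a3 a4 a5 a6 * y * (NFtw f a1 a2 a3 a4 a5 a6)⁻¹ =
      xa f a1 * (xb a2 * (xab f a3 * (x2ab f a4 * (x3ab a5 * (x3a2b a6 * y * x3a2b a6) * x3ab a5) * x2ab f a4) *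
        xab f a3) * xb a2) * xa f a1 := by
    have i1 : (NFtw f a1 a2 a3 a4 a5 a6)⁻¹ =
        x3a2b a6 * (x3ab a5 * (x2ab f a4 * (xab f a3 * (xb a2 * xa f a1)))) := by
      unfold NFtw
      simp only [mul_inv_rev, xa_inv, xab_inv, x2ab_inv, mul_assoc]
      unfold xb x3ab x3a2b
      simp only [X_inv]
    rw [i1]
    unfold NFtw
    simp only [mul_assoc]
  rw [e]
  exact s1

end NCJ

/-- PIECE NCONJ -/
theorem not_conj (hsurj : ∀ u ∈ chevD4.posUnipotent K ⊓ twistedD4 K q,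
      ∃ t1 u2 t3 t4 u5 u6 : K, f u2 = u2 ∧ f u5 = u5 ∧ f u6 = u6 ∧ u = NFtw f t1 u2 t3 t4 u5 u6) :
    ¬ CJ q (x3a2b (1 : K)) (xa f 1) := by
  rintro ⟨g, hg, e⟩
  have htw := D4.twisted_eq hK f hf
  rw [htw] at hg
  have hS := corSize_of_mem chevD4 D4.hmem
  have hC := corComb_of_mem chevD4 D4.hmem
  obtain ⟨l, hl, hred, b, hb, u, hu, hfix, rfl⟩ := (D4.orthData f).exists_bruhat hS hC g hg
  obtain ⟨hbB, hbG⟩ := Subgroup.mem_inf.1 hb
  set w := wordOf l with hwdef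
  have hw : ∀ i ∈ w, i < chevD4.rank := wordOf_valid D4.S l (D4.orthData f).gen.valid hl
  have hu' : u ∈ chevD4.posUnipotent K := (D4.hF (K := K)).negPart_le_posUnipotent w hu
  have h3 := hf3 hK f hf
  have hxa1 : xa f (1 : K) = NFtw f 1 0 0 0 0 0 := by
    simp only [NFtw, xa, xb, xab, x2ab, x3ab, x3a2b, map_zero, X_zero, mul_one]
  have hxa_ne : xa f (1 : K) ≠ 1 := by
    intro h1
    rw [hxa1, ← NFtw_zero f] at h1
    exact one_ne_zero (NFtw_inj f h3 h1).1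
  -- reduce to `b * x_{r'}(1) * b⁻¹ = x_a(1)`
  have e1 : b * X (reflWord chevD4 w 23) (1 : K) * b⁻¹ = xa f 1 := by
    rw [← e]
    have h1 : u * X 23 (1 : K) * u⁻¹ = X 23 1 := by
      rw [NCJ.x23_central 1 u hu']; group
    have h2 := nWordGL_conj chevD4 (D4.hF (K := K)).xadd (etaOf chevD4) (D4.hF (K := K)).nsimple w hw 23
      (by decide) (1 : K)
    rw [NCJ.cast_sign w hw, one_mul] at h2
    show b * xGL chevD4 (D4.hF (K := K)).xadd (reflWord chevD4 w 23) (1 : K) * b⁻¹ = _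
    rw [← h2]
    unfold x3a2b
    calc b * (nWordGL chevD4 (D4.hF (K := K)).xadd w * X 23 1 * (nWordGL chevD4 (D4.hF (K := K)).xadd w)⁻¹) * b⁻¹
        = b * (nWordGL chevD4 (D4.hF (K := K)).xadd w * (u * X 23 1 * u⁻¹) *
            (nWordGL chevD4 (D4.hF (K := K)).xadd w)⁻¹) * b⁻¹ := by rw [h1]
      _ = b * nWordGL chevD4 (D4.hF (K := K)).xadd w * u * X 23 1 *
            (b * nWordGL chevD4 (D4.hF (K := K)).xadd w * u)⁻¹ := by group
  have e2 : X (reflWord chevD4 w 23) (1 : K) = b⁻¹ * xa f 1 * b := by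
    rw [← e1]; group
  have hor := NCJ.orb l hl 23 (by simp)
  rw [← hwdef] at hor
  simp only [List.mem_cons, List.mem_nil_iff, or_false] at hor
  have hneg : ∀ r ∈ [0, 1, 9], reflWord chevD4 w 23 = r → False := by
    intro r hr hrr
    have hV : X r (1 : K) ∈ chevD4.negUnipotent K :=
      Subgroup.subset_closure ⟨r, 1, NCJ.neg_list r hr, by rw [xGL_val]⟩
    have hB : X r (1 : K) ∈ chevD4.borelSubgroup K := by
      rw [← hrr, e2]
      exact mul_mem (mul_mem (inv_mem hbB) (posUnipotent_le_borel chevD4 (xa_posU f 1))) hbB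
    have h1 : X r (1 : K) ∈ chevD4.borelSubgroup K ⊓ chevD4.negUnipotent K := ⟨hB, hV⟩
    rw [(D4.hF (K := K)).borel_inf_negUnipotent, Subgroup.mem_bot] at h1
    rw [hrr, h1] at e1
    apply hxa_ne
    rw [← e1]; group
  have hpos : ∀ k ∈ [14, 22, 23], reflWord chevD4 w 23 = k →
      (∀ c : K, ∃ u2 t3 t4 u5 u6 : K, X k c = NFtw f 0 u2 t3 t4 u5 u6) → False := by
    intro k hk hkk hNF
    have hkpos : chevD4.IsPosRoot k := pos_all k (by
      simp only [List.mem_cons, List.mem_nil_iff, or_false] at hk ⊢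
      rcases hk with rfl | rfl | rfl <;> simp)
    obtain ⟨u₁, hu₁, d, hd, hu₁G, hdG, hbe⟩ := (D4.orthData f).borel_decomp hS hC b hbB hbG
    obtain ⟨c, hc, hconj⟩ := (D4.hF (K := K)).diagonal_conj_xGL d hd k hkpos.1
    have e3 : u₁ * X k (c * 1) * u₁⁻¹ = xa f 1 := by
      rw [← e1, hkk, hbe]
      show u₁ * xGL chevD4 (D4.hF (K := K)).xadd k (c * 1) * u₁⁻¹ = _
      rw [← hconj 1]
      group
    rw [mul_one] at e3
    have hu₁m : u₁ ∈ chevD4.posUnipotent K ⊓ twistedD4 K q := by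
      rw [htw]; exact ⟨hu₁, hu₁G⟩
    have hXm : X k c ∈ chevD4.posUnipotent K ⊓ twistedD4 K q := by
      have : X k c = u₁⁻¹ * xa f 1 * u₁ := by rw [← e3]; group
      rw [this]
      exact mul_mem (mul_mem (inv_mem hu₁m) ⟨xa_posU f 1, xa_mem hK f hf 1⟩) hu₁m
    have hT : NCJ.T1 q f 0 (X k c) := ⟨hXm, hNF c⟩
    obtain ⟨-, u2, t3, t4, u5, u6, e4⟩ := NCJ.T1_conj hK f hf hsurj 0 u₁ _ hu₁m hT
    rw [e3, hxa1] at e4
    exact one_ne_zero (NFtw_inj f h3 e4).1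
  rcases hor with h0 | h0 | h0 | h0 | h0 | h0
  · exact hneg 0 (by simp) h0
  · exact hneg 1 (by simp) h0
  · exact hneg 9 (by simp) h0
  · refine hpos 14 (by simp) h0 (fun c => ⟨c, 0, 0, 0, 0, ?_⟩)
    simp only [NFtw, xa, xb, xab, x2ab, x3ab, x3a2b, map_zero, X_zero, mul_one, one_mul]
  · refine hpos 22 (by simp) h0 (fun c => ⟨0, 0, 0, c, 0, ?_⟩)
    simp only [NFtw, xa, xb, xab, x2ab, x3ab, x3a2b, map_zero, X_zero, mul_one, one_mul]
  · refine hpos 23 (by simp) h0 (fun c => ⟨0, 0, 0, 0, c, ?_⟩)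
    simp only [NFtw, xa, xb, xab, x2ab, x3ab, x3a2b, map_zero, X_zero, mul_one, one_mul]

end Cfsg.Agent.Helper11.D4I
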