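import Mathlib
import Cfsg.Agent.Lib.Helper11.D4IMem
import Cfsg.Agent.Lib.Lead.TwTorus
import Cfsg.Agent.Lib.Lead.TwD4AutB

/-!
# S2183 piece TORA (helper12): `x_a(t)` is conjugate to `x_a(1)` in `³D₄(q)`, `q` even
-/

set_option autoImplicit false
set_option linter.unusedSectionVars false
set_option linter.unusedSimpArgs false
set_option linter.unusedVariables false

namespace Cfsg.Agent.Helper11.D4I

open Cfsg Cfsg.Lie Cfsg.Agent.Lead.Chev Cfsg.Agent.Lead.Tw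

namespace TOR

variable {K : Type*} [Field K]

/-- conjugation of a root element by `h_{simple i}(c)` -/
theorem hconj_X (i : ℕ) (hi : i < chevD4.rank) (s : ℕ) (hs : s < chevD4.nroots) (c : K) (hc : c ≠ 0)
    (v : K) :
    hGLt chevD4 (D4.hF (K := K)).xadd (chevD4.simple i) c * X s v *
      (hGLt chevD4 (D4.hF (K := K)).xadd (chevD4.simple i) c)⁻¹ = X s (c ^ (chevD4.cartan i s) * v) := by
  rw [mul_inv_eq_iff_eq_mul]
  apply Units.ext
  rw [Units.val_mul, Units.val_mul, hGLt_val, (D4.hF (K := K)).hsimple i hi c hc, xGL_val, xGL_val]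
  exact (D4.hF (K := K)).hconj i hi s hs c hc v

theorem conj_mul3 (g a b c : GL chevD4.Idx K) :
    g * (a * (b * c)) * g⁻¹ = (g * a * g⁻¹) * ((g * b * g⁻¹) * (g * c * g⁻¹)) := by group

theorem conj_mul (g k a : GL chevD4.Idx K) : (g * k) * a * (g * k)⁻¹ = g * (k * a * k⁻¹) * g⁻¹ := by
  group

end TOR

variable {K : Type*} [Field K] [Fintype K] [CharP K 2] {q : ℕ} (hK : Fintype.card K = q ^ 3)
  (f : K ≃+* K) (hf : ∀ t, f t = t ^ q)
include hK hf

/-- PIECE TORA: conjugate by `h_{18}(l) h_{13}(f l) h_{12}(f (f l))`, `l * l = t⁻¹` -/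
theorem torus_a (t : K) (ht : t ≠ 0) : CJ q (xa f t) (xa f 1) := by
  obtain ⟨l, hl⟩ : ∃ l : K, l * l = t⁻¹ := by
    have := FiniteField.isSquare_of_char_two (F := K) (CharP.ringChar_of_prime_eq_zero Nat.prime_two
      (CharP.cast_eq_zero K 2)) t⁻¹
    obtain ⟨l, hl⟩ := this
    exact ⟨l, hl.symm⟩
  have hl0 : l ≠ 0 := by
    rintro rfl
    rw [mul_zero] at hl
    exact inv_ne_zero ht hl.symm
  have hfl0 : f l ≠ 0 := fun h => hl0 ((map_eq_zero f).1 h)
  have hffl0 : f (f l) ≠ 0 := fun h => hfl0 ((map_eq_zero f).1 h)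
  have hfff := hf3 hK f hf
  set h : GL chevD4.Idx K :=
    ([0, 2, 3].map fun i => hGLt chevD4 (D4.hF (K := K)).xadd (chevD4.simple i) (D4.trf f l i)).prod with hh
  have hmem : h ∈ twistedD4 K q := by
    rw [D4.twisted_eq hK f hf]
    apply (D4.orthData f).prod_hGLt_mem
      (fun i hi => by rw [D4.c_simple f i hi, map_neg, map_one])
      (fun i hi => by rw [D4.c_neg_simple f i hi, map_one]) [0, 2, 3] D4.hS3 (D4.trf f l)
      (D4.fixPos_B f hfff l)
    intro i hi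
    simp only [List.mem_cons, List.not_mem_nil, or_false] at hi
    rcases hi with rfl | rfl | rfl
    · simpa [D4.trf] using hl0
    · simpa [D4.trf] using hfl0
    · simpa [D4.trf] using hffl0
  refine ⟨h, hmem, ?_⟩
  have e0 : D4.trf f l 0 = l := by simp [D4.trf]
  have e2 : D4.trf f l 2 = f l := by simp [D4.trf]
  have e3 : D4.trf f l 3 = f (f l) := by simp [D4.trf]
  have hh' : h = hGLt chevD4 (D4.hF (K := K)).xadd (chevD4.simple 0) l *
      (hGLt chevD4 (D4.hF (K := K)).xadd (chevD4.simple 2) (f l) *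
        hGLt chevD4 (D4.hF (K := K)).xadd (chevD4.simple 3) (f (f l))) := by
    rw [hh]
    simp only [List.map_cons, List.map_nil, List.prod_cons, List.prod_nil, mul_one, e0, e2, e3]
  have c0_18 : chevD4.cartan 0 18 = 2 := by decide +kernel
  have c0_13 : chevD4.cartan 0 13 = 0 := by decide +kernel
  have c0_12 : chevD4.cartan 0 12 = 0 := by decide +kernel
  have c2_18 : chevD4.cartan 2 18 = 0 := by decide +kernel
  have c2_13 : chevD4.cartan 2 13 = 2 := by decide +kernel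
  have c2_12 : chevD4.cartan 2 12 = 0 := by decide +kernel
  have c3_18 : chevD4.cartan 3 18 = 0 := by decide +kernel
  have c3_13 : chevD4.cartan 3 13 = 0 := by decide +kernel
  have c3_12 : chevD4.cartan 3 12 = 2 := by decide +kernel
  have r4 : (0 : ℕ) < chevD4.rank ∧ 2 < chevD4.rank ∧ 3 < chevD4.rank := by decide
  have n24 : 18 < chevD4.nroots ∧ 13 < chevD4.nroots ∧ 12 < chevD4.nroots := by decide
  have hlt : l * l * t = 1 := by rw [hl, inv_mul_cancel₀ ht]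
  rw [hh', TOR.conj_mul, TOR.conj_mul]
  unfold xa
  rw [TOR.conj_mul3 (hGLt chevD4 (D4.hF (K := K)).xadd (chevD4.simple 3) (f (f l))),
    TOR.hconj_X 3 r4.2.2 18 n24.1 _ hffl0, TOR.hconj_X 3 r4.2.2 13 n24.2.1 _ hffl0,
    TOR.hconj_X 3 r4.2.2 12 n24.2.2 _ hffl0, c3_18, c3_13, c3_12,
    TOR.conj_mul3 (hGLt chevD4 (D4.hF (K := K)).xadd (chevD4.simple 2) (f l)),
    TOR.hconj_X 2 r4.2.1 18 n24.1 _ hfl0, TOR.hconj_X 2 r4.2.1 13 n24.2.1 _ hfl0,
    TOR.hconj_X 2 r4.2.1 12 n24.2.2 _ hfl0, c2_18, c2_13, c2_12,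
    TOR.conj_mul3 (hGLt chevD4 (D4.hF (K := K)).xadd (chevD4.simple 0) l),
    TOR.hconj_X 0 r4.1 18 n24.1 _ hl0, TOR.hconj_X 0 r4.1 13 n24.2.1 _ hl0,
    TOR.hconj_X 0 r4.1 12 n24.2.2 _ hl0, c0_18, c0_13, c0_12]
  have k1 : l ^ (2 : ℤ) * ((f l) ^ (0 : ℤ) * ((f (f l)) ^ (0 : ℤ) * t)) = 1 := by
    rw [zpow_zero, zpow_zero, one_mul, one_mul, zpow_two]; exact hlt
  have k2 : l ^ (0 : ℤ) * ((f l) ^ (2 : ℤ) * ((f (f l)) ^ (0 : ℤ) * f t)) = f 1 := by
    rw [zpow_zero, zpow_zero, one_mul, one_mul, zpow_two, ← map_mul, ← map_mul, hlt]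
  have k3 : l ^ (0 : ℤ) * ((f l) ^ (0 : ℤ) * ((f (f l)) ^ (2 : ℤ) * f (f t))) = f (f 1) := by
    rw [zpow_zero, zpow_zero, one_mul, one_mul, zpow_two, ← map_mul, ← map_mul, ← map_mul, ← map_mul, hlt]
  rw [k1, k2, k3]
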