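import Mathlib
import Cfsg.Agent.Lib.Helper12.D4ITORA

/-!
# S2183 piece TORB (helper12): `x_b(u)` is conjugate to `x_b(1)` in `³D₄(q)`, `q` even
-/

set_option autoImplicit false
set_option linter.unusedSectionVars false
set_option linter.unusedSimpArgs false
set_option linter.unusedVariables false

namespace Cfsg.Agent.Helper11.D4I

open Cfsg Cfsg.Lie Cfsg.Agent.Lead.Chev Cfsg.Agent.Lead.Tw

variable {K : Type*} [Field K] [Fintype K] [CharP K 2] {q : ℕ} (hK : Fintype.card K = q ^ 3)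
  (f : K ≃+* K) (hf : ∀ t, f t = t ^ q)
include hK hf

/-- PIECE TORB: conjugate by `h_{14}(l)`, `f l = l`, `l * l = u⁻¹` -/
theorem torus_b (hFF : FieldFacts f) (u : K) (hu : f u = u) (hu0 : u ≠ 0) : CJ q (xb u) (xb 1) := by
  have hui : f u⁻¹ = u⁻¹ := by rw [map_inv₀, hu]
  obtain ⟨l, hfl, hl⟩ := hFF.sqrt_fix u⁻¹ hui
  have hl0 : l ≠ 0 := by
    rintro rfl
    rw [mul_zero] at hl
    exact inv_ne_zero hu0 hl.symm
  set h : GL chevD4.Idx K :=
    ([1].map fun i => hGLt chevD4 (D4.hF (K := K)).xadd (chevD4.simple i) ((fun _ => l) i)).prod with hh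
  have hmem : h ∈ twistedD4 K q := by
    rw [D4.twisted_eq hK f hf]
    apply (D4.orthData f).prod_hGLt_mem
      (fun i hi => by rw [D4.c_simple f i hi, map_neg, map_one])
      (fun i hi => by rw [D4.c_neg_simple f i hi, map_one]) [1] D4.hS1 (fun _ => l)
      (D4.fixPos_A f l hfl)
    intro i hi
    exact hl0
  refine ⟨h, hmem, ?_⟩
  have hh' : h = hGLt chevD4 (D4.hF (K := K)).xadd (chevD4.simple 1) l := by
    rw [hh]
    simp only [List.map_cons, List.map_nil, List.prod_cons, List.prod_nil, mul_one]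
  have c1_14 : chevD4.cartan 1 14 = 2 := by decide +kernel
  have r4 : (1 : ℕ) < chevD4.rank := by decide
  have n24 : 14 < chevD4.nroots := by decide
  rw [hh']
  unfold xb
  rw [TOR.hconj_X 1 r4 14 n24 _ hl0, c1_14, zpow_two, hl, inv_mul_cancel₀ hu0]
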