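import Mathlib
import Cfsg.Agent.Lib.Helper12.SL2Pow
import Cfsg.Agent.Lib.Helper12.SL2Borel

set_option autoImplicit false

namespace Cfsg.Agent.Helper12

variable {F : Type*} [Field F]

/-- `ḡ^k = 1` in `PSL₂` iff `g^k` is a scalar matrix `r • 1` with `r² = 1` -/
theorem psl_pow_eq_one_iff (g : Matrix.SpecialLinearGroup (Fin 2) F) (k : ℕ) :
    ((g : Matrix.ProjectiveSpecialLinearGroup (Fin 2) F)) ^ k = 1 ↔
      ∃ r : F, r ^ 2 = 1 ∧
        (g : Matrix (Fin 2) (Fin 2) F) ^ k = r • (1 : Matrix (Fin 2) (Fin 2) F) := by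
  rw [← QuotientGroup.mk_pow, QuotientGroup.eq_one_iff, Matrix.SpecialLinearGroup.mem_center_iff]
  simp only [Fintype.card_fin, Matrix.SpecialLinearGroup.coe_pow]
  constructor
  · rintro ⟨r, hr, h⟩
    refine ⟨r, hr, ?_⟩
    rw [← h]
    ext i j
    simp [Matrix.scalar, Matrix.diagonal_apply, Matrix.one_apply]
  · rintro ⟨r, hr, h⟩
    refine ⟨r, hr, ?_⟩
    rw [h]
    ext i j
    simp [Matrix.scalar, Matrix.diagonal_apply, Matrix.one_apply]

theorem dvd_div_gcd_of_dvd_two_mul (n k : ℕ) (h : n ∣ 2 * k) : n / Nat.gcd 2 n ∣ k := by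
  rcases Nat.even_or_odd n with he | ho
  · obtain ⟨m, hm⟩ := he
    have hn : n = 2 * m := by omega
    have hg : Nat.gcd 2 n = 2 := Nat.gcd_eq_left ⟨m, hn⟩
    rw [hg, hn, Nat.mul_div_cancel_left _ (by norm_num)]
    rw [hn] at h
    exact Nat.dvd_of_mul_dvd_mul_left (by norm_num) h
  · have hg : Nat.gcd 2 n = 1 := Nat.coprime_two_left.2 ho
    rw [hg, Nat.div_one]
    exact (Nat.Coprime.dvd_of_dvd_mul_left (Nat.coprime_two_right.2 ho)) h

theorem dvd_two_mul_div_gcd (n : ℕ) : n ∣ 2 * (n / Nat.gcd 2 n) := by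
  rcases Nat.even_or_odd n with he | ho
  · obtain ⟨m, hm⟩ := he
    have hn : n = 2 * m := by omega
    have hg : Nat.gcd 2 n = 2 := Nat.gcd_eq_left ⟨m, hn⟩
    rw [hg, hn, Nat.mul_div_cancel_left _ (by norm_num)]
  · have hg : Nat.gcd 2 n = 1 := Nat.coprime_two_left.2 ho
    rw [hg, Nat.div_one]
    exact Dvd.intro_left 2 rfl

theorem gcd_two_add_one_eq (q : ℕ) (hq : 1 ≤ q) : Nat.gcd 2 (q + 1) = Nat.gcd 2 (q - 1) := by
  rcases Nat.even_or_odd q with he | ho
  · have h1 : Odd (q + 1) := he.add_one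
    have h2 : Odd (q - 1) := by
      rw [Nat.odd_iff]
      rw [Nat.even_iff] at he
      omega
    rw [Nat.coprime_two_left.2 h1, Nat.coprime_two_left.2 h2]
  · have h1 : 2 ∣ q + 1 := by
      rw [Nat.odd_iff] at ho; omega
    have h2 : 2 ∣ q - 1 := by
      rw [Nat.odd_iff] at ho; omega
    rw [Nat.gcd_eq_left h1, Nat.gcd_eq_left h2]

theorem exists_orderOf_eq_of_dvd {G : Type*} [Group G] [Finite G] (g : G) (m : ℕ)
    (hm : m ∣ orderOf g) : ∃ h : G, orderOf h = m := by
  obtain ⟨c, hc⟩ := hm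
  have hpos : 0 < orderOf g := orderOf_pos g
  have hc0 : c ≠ 0 := by
    rintro rfl
    rw [mul_zero] at hc
    omega
  refine ⟨g ^ c, ?_⟩
  rw [orderOf_pow_of_dvd hc0 ⟨m, by rw [hc, mul_comm]⟩, hc, Nat.mul_div_cancel _ (Nat.pos_of_ne_zero hc0)]

section finite

variable [Fintype F]

/-- every element of `PSL₂(q)` has order dividing `p`, `(q-1)/d` or `(q+1)/d` -/
theorem psl_orderOf_dvd (p : ℕ) [Fact p.Prime] [CharP F p]
    (x : Matrix.ProjectiveSpecialLinearGroup (Fin 2) F) :
    orderOf x ∣ p ∨ orderOf x ∣ (Fintype.card F - 1) / Nat.gcd 2 (Fintype.card F - 1) ∨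
      orderOf x ∣ (Fintype.card F + 1) / Nat.gcd 2 (Fintype.card F - 1) := by
  obtain ⟨g, rfl⟩ := QuotientGroup.mk_surjective x
  set M := (g : Matrix (Fin 2) (Fin 2) F) with hM
  have hdet : M.det = 1 := g.2
  by_cases hroot : ∃ l : F, l ^ 2 - M.trace * l + 1 = 0
  · obtain ⟨l, hl⟩ := hroot
    have hl0 : l ≠ 0 := by
      rintro rfl
      simp at hl
    by_cases hl1 : l ^ 2 = 1
    · left
      apply orderOf_dvd_of_pow_eq_one
      rw [psl_pow_eq_one_iff]
      exact ⟨l ^ p, by rw [← pow_mul, mul_comm, pow_mul, hl1, one_pow],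
        pow_char_eq_smul_of_root M hdet l hl hl1 p⟩
    · right; left
      apply orderOf_dvd_of_pow_eq_one
      rw [psl_pow_eq_one_iff]
      set k := (Fintype.card F - 1) / Nat.gcd 2 (Fintype.card F - 1) with hk
      have hk2 : l ^ (2 * k) = 1 := by
        obtain ⟨c, hc⟩ := dvd_two_mul_div_gcd (Fintype.card F - 1)
        rw [hk, hc, pow_mul, FiniteField.pow_card_sub_one_eq_one l hl0, one_pow]
      exact ⟨l ^ k, by rw [← pow_mul, mul_comm, hk2], pow_eq_smul_of_root M hdet l hl hl1 k hk2⟩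
  · right; right
    push Not at hroot
    apply orderOf_dvd_of_pow_eq_one
    rw [psl_pow_eq_one_iff]
    exact pow_eq_smul_of_no_root M hdet hroot

/-- an element of order `p` in `PSL₂` -/
theorem psl_exists_orderOf_char (p : ℕ) [Fact p.Prime] [CharP F p] :
    ∃ x : Matrix.ProjectiveSpecialLinearGroup (Fin 2) F, orderOf x = p := by
  refine ⟨((upperSL (1 : F) 1 (one_mul 1) : Matrix.SpecialLinearGroup (Fin 2) F) :
    Matrix.ProjectiveSpecialLinearGroup (Fin 2) F), ?_⟩
  apply orderOf_eq_prime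
  · rw [← QuotientGroup.mk_pow, upperSL_one_pow, CharP.cast_eq_zero, zero_mul, upperSL_one_zero]
    rfl
  · intro h
    have h1 := (psl_pow_eq_one_iff (upperSL (1 : F) 1 (one_mul 1)) 1).1 (by rw [pow_one]; exact h)
    obtain ⟨r, -, hr⟩ := h1
    rw [pow_one] at hr
    apply upperSL_not_scalar (1 : F) 1 (one_mul 1) one_ne_zero
    rw [hr]
    exact isScalar2_smul_one r

/-- an element of order `(q-1)/d` in `PSL₂` -/
theorem psl_exists_orderOf_split :
    ∃ x : Matrix.ProjectiveSpecialLinearGroup (Fin 2) F,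
      orderOf x = (Fintype.card F - 1) / Nat.gcd 2 (Fintype.card F - 1) := by
  classical
  obtain ⟨y, hy⟩ := IsCyclic.exists_generator (α := Fˣ)
  have hyo : orderOf y = Fintype.card F - 1 := by
    rw [orderOf_eq_card_of_forall_mem_zpowers hy, Nat.card_eq_fintype_card, Fintype.card_units]
  set a : F := (y : F) with ha
  have ha0 : a ≠ 0 := y.ne_zero
  have hao : orderOf a = Fintype.card F - 1 := by rw [ha, orderOf_units, hyo]
  set g := borelMat a 0 ha0 with hg
  have hpow : ∀ k : ℕ, (g : Matrix (Fin 2) (Fin 2) F) ^ k = Matrix.diagonal ![a ^ k, (a⁻¹) ^ k] := by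
    intro k
    have : (g : Matrix (Fin 2) (Fin 2) F) = Matrix.diagonal ![a, a⁻¹] := by
      rw [hg, borelMat_coe]
      ext i j
      fin_cases i <;> fin_cases j <;> simp
    rw [this, Matrix.diagonal_pow]
    congr 1
    ext i
    fin_cases i <;> simp
  have hscal : ∀ (k : ℕ) (r : F), (g : Matrix (Fin 2) (Fin 2) F) ^ k =
      r • (1 : Matrix (Fin 2) (Fin 2) F) ↔ a ^ k = r ∧ (a⁻¹) ^ k = r := by
    intro k r
    rw [hpow]
    constructor
    · intro h
      have e0 := congrFun (congrFun h 0) 0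
      have e1 := congrFun (congrFun h 1) 1
      simp at e0 e1
      exact ⟨e0, by rw [inv_pow]; exact e1⟩
    · rintro ⟨h1, h2⟩
      ext i j
      fin_cases i <;> fin_cases j <;> simp [h1, h2]
  refine ⟨(g : Matrix.ProjectiveSpecialLinearGroup (Fin 2) F), ?_⟩
  apply Nat.dvd_antisymm
  · apply orderOf_dvd_of_pow_eq_one
    rw [psl_pow_eq_one_iff]
    set k := (Fintype.card F - 1) / Nat.gcd 2 (Fintype.card F - 1) with hk
    have hk2 : a ^ (2 * k) = 1 := by
      obtain ⟨c, hc⟩ := dvd_two_mul_div_gcd (Fintype.card F - 1)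
      rw [hk, hc, pow_mul, FiniteField.pow_card_sub_one_eq_one a ha0, one_pow]
    have hsq : a ^ k * a ^ k = 1 := by rw [← pow_add, ← two_mul]; exact hk2
    refine ⟨a ^ k, by rw [pow_two]; exact hsq, ?_⟩
    rw [hscal]
    refine ⟨rfl, ?_⟩
    rw [inv_pow]
    exact inv_eq_of_mul_eq_one_left hsq
  · set o := orderOf (g : Matrix.ProjectiveSpecialLinearGroup (Fin 2) F) with ho
    have h1 := (psl_pow_eq_one_iff g o).1 (pow_orderOf_eq_one _)
    obtain ⟨r, hr, hgr⟩ := h1
    rw [hscal] at hgr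
    have h2 : a ^ (2 * o) = 1 := by
      rw [mul_comm, pow_mul, hgr.1, hr]
    have h3 : Fintype.card F - 1 ∣ 2 * o := by
      rw [← hao]; exact orderOf_dvd_of_pow_eq_one h2
    exact dvd_div_gcd_of_dvd_two_mul _ _ h3

/-- an element of order `(q+1)/d` in `PSL₂` -/
theorem psl_exists_orderOf_nonsplit (p : ℕ) [Fact p.Prime] [CharP F p] :
    ∃ x : Matrix.ProjectiveSpecialLinearGroup (Fin 2) F,
      orderOf x = (Fintype.card F + 1) / Nat.gcd 2 (Fintype.card F - 1) := by
  classical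
  have hq1 : 1 < Fintype.card F := Fintype.one_lt_card
  -- the quadratic extension
  let K := FiniteField.Extension F p 2
  have hfr : Module.finrank F K = 2 := FiniteField.finrank_extension F p 2
  have hcK : Nat.card K = Fintype.card F ^ 2 := by
    rw [FiniteField.natCard_extension, Nat.card_eq_fintype_card]
  obtain ⟨y, hy⟩ := IsCyclic.exists_generator (α := Kˣ)
  have hfact : Fintype.card F ^ 2 - 1 = (Fintype.card F + 1) * (Fintype.card F - 1) := by
    obtain ⟨m, hm⟩ := Nat.exists_eq_add_of_le hq1.le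
    rw [hm]
    simp only [Nat.add_sub_cancel_left]
    have : (1 + m) ^ 2 = (1 + m + 1) * m + 1 := by ring
    rw [this, Nat.add_sub_cancel]
  have hyo : orderOf y = (Fintype.card F + 1) * (Fintype.card F - 1) := by
    rw [orderOf_eq_card_of_forall_mem_zpowers hy, Nat.card_units, hcK, hfact]
  set x : Kˣ := y ^ (Fintype.card F - 1) with hx
  have hxo : orderOf x = Fintype.card F + 1 := by
    rw [hx, orderOf_pow, hyo, Nat.gcd_eq_right (Dvd.intro_left _ rfl),
      Nat.mul_div_cancel _ (by omega)]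
  have hnorm : Algebra.norm F (x : K) = 1 := by
    rw [hx, Units.val_pow_eq_pow_val, map_pow]
    apply FiniteField.pow_card_sub_one_eq_one
    rw [Algebra.norm_ne_zero_iff]
    exact y.ne_zero
  let b : Module.Basis (Fin 2) F K := Module.finBasisOfFinrankEq F K hfr
  let φ := Algebra.leftMulMatrix b
  have hφinj : Function.Injective φ := Algebra.leftMulMatrix_injective b
  have hdet : (φ (x : K)).det = 1 := by
    rw [← Algebra.norm_eq_matrix_det b, hnorm]
  let g : Matrix.SpecialLinearGroup (Fin 2) F := ⟨φ (x : K), hdet⟩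
  have hgc : (g : Matrix (Fin 2) (Fin 2) F) = φ (x : K) := rfl
  have hscal : ∀ (k : ℕ) (r : F), (g : Matrix (Fin 2) (Fin 2) F) ^ k =
      r • (1 : Matrix (Fin 2) (Fin 2) F) ↔ (x : K) ^ k = algebraMap F K r := by
    intro k r
    rw [hgc, ← map_pow, ← Algebra.algebraMap_eq_smul_one, ← AlgHom.commutes φ r]
    exact hφinj.eq_iff
  have hdd : Nat.gcd 2 (Fintype.card F - 1) = Nat.gcd 2 (Fintype.card F + 1) :=
    (gcd_two_add_one_eq _ hq1.le).symm
  refine ⟨(g : Matrix.ProjectiveSpecialLinearGroup (Fin 2) F), ?_⟩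
  rw [hdd]
  apply Nat.dvd_antisymm
  · apply orderOf_dvd_of_pow_eq_one
    rw [psl_pow_eq_one_iff]
    set k := (Fintype.card F + 1) / Nat.gcd 2 (Fintype.card F + 1) with hk
    have hk2 : (x : K) ^ (2 * k) = 1 := by
      obtain ⟨c, hc⟩ := dvd_two_mul_div_gcd (Fintype.card F + 1)
      rw [hk, hc, pow_mul, ← Units.val_pow_eq_pow_val, ← hxo, pow_orderOf_eq_one, Units.val_one,
        one_pow]
    have hsq : ((x : K) ^ k - 1) * ((x : K) ^ k + 1) = 0 := by
      have : ((x : K) ^ k) ^ 2 = 1 := by rw [← pow_mul, mul_comm, hk2]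
      linear_combination this
    rcases mul_eq_zero.1 hsq with h | h
    · refine ⟨1, one_pow 2, ?_⟩
      rw [hscal, map_one]
      exact sub_eq_zero.1 h
    · refine ⟨-1, by ring, ?_⟩
      rw [hscal, map_neg, map_one]
      exact eq_neg_of_add_eq_zero_left h
  · set o := orderOf (g : Matrix.ProjectiveSpecialLinearGroup (Fin 2) F) with ho
    have h1 := (psl_pow_eq_one_iff g o).1 (pow_orderOf_eq_one _)
    obtain ⟨r, hr, hgr⟩ := h1
    rw [hscal] at hgr
    have h2 : x ^ (2 * o) = 1 := by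
      apply Units.ext
      rw [Units.val_pow_eq_pow_val, mul_comm, pow_mul, hgr, ← map_pow, hr, map_one, Units.val_one]
    have h3 : Fintype.card F + 1 ∣ 2 * o := by
      rw [← hxo]; exact orderOf_dvd_of_pow_eq_one h2
    exact dvd_div_gcd_of_dvd_two_mul _ _ h3

end finite

end Cfsg.Agent.Helper12
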