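import Mathlib

set_option autoImplicit false
set_option linter.unusedVariables false
set_option linter.unusedSectionVars false
set_option linter.style.haveILetI false

/-! Abstract lemmas on maximal subgroups of finite simple groups. -/

namespace Cfsg.Agent.Helper12.MaxSub

variable {G : Type*} [Group G]

/-- Burnside: in a simple group, a nontrivial Sylow subgroup central in its normalizer is
everything. -/
theorem sylow_eq_top_of_normalizer_le_centralizer [Finite G] [IsSimpleGroup G] {p : ℕ}
    [Fact p.Prime] (P : Sylow p G)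
    (hP : Subgroup.normalizer ((P : Subgroup G) : Set G) ≤ Subgroup.centralizer (P : Set G))
    (hne : (P : Subgroup G) ≠ ⊥) : (P : Subgroup G) = ⊤ := by
  have hc := MonoidHom.ker_transferSylow_isComplement' P hP
  rcases (MonoidHom.transferSylow P hP).normal_ker.eq_bot_or_eq_top with h | h
  · rw [h] at hc
    exact Subgroup.isComplement'_bot_left.1 hc
  · rw [h] at hc
    exact absurd (Subgroup.isComplement'_top_left.1 hc) hne

/-- a finite simple `p`-group is commutative -/
theorem comm_of_simple_pGroup [Finite G] [IsSimpleGroup G] {p : ℕ} [Fact p.Prime]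
    (h : IsPGroup p G) (a b : G) : a * b = b * a := by
  haveI : Nontrivial (Subgroup.center G) := h.center_nontrivial
  rcases (inferInstance : (Subgroup.center G).Normal).eq_bot_or_eq_top with h1 | h1
  · exfalso
    have : Subsingleton (Subgroup.center G) := by
      rw [h1]; infer_instance
    exact not_subsingleton _ this
  · have hb : b ∈ Subgroup.center G := by rw [h1]; trivial
    exact (Subgroup.mem_center_iff.1 hb a)

/-- the normalizer of a nontrivial subgroup normalized by a coatom of a simple group -/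
theorem normalizer_eq_of_coatom [IsSimpleGroup G] {M R : Subgroup G} (hM : IsCoatom M)
    (hRM : R ≤ M) (hR : R ≠ ⊥) (hn : M ≤ Subgroup.normalizer (R : Set G)) :
    Subgroup.normalizer (R : Set G) = M := by
  rcases eq_or_ne (Subgroup.normalizer (R : Set G)) ⊤ with h | h
  · exfalso
    have hnorm : R.Normal := Subgroup.normalizer_eq_top_iff.1 h
    rcases hnorm.eq_bot_or_eq_top with h1 | h1
    · exact hR h1
    · apply hM.1
      rw [eq_top_iff, ← h1]
      exact hRM
  · by_contra hne
    exact h (hM.2 _ (lt_of_le_of_ne hn (Ne.symm hne)))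

theorem centralizer_le_of_coatom [IsSimpleGroup G] {M R : Subgroup G} (hM : IsCoatom M)
    (hRM : R ≤ M) (hR : R ≠ ⊥) (hn : M ≤ Subgroup.normalizer (R : Set G)) :
    Subgroup.centralizer (R : Set G) ≤ M := by
  rw [← normalizer_eq_of_coatom hM hRM hR hn]
  exact Subgroup.centralizer_le_normalizer _

/-- the `r`-elements of a subgroup with commuting elements -/
def rPart (M : Subgroup G) (hcomm : ∀ a ∈ M, ∀ b ∈ M, a * b = b * a) (r : ℕ) : Subgroup G where
  carrier := {x | x ∈ M ∧ ∃ k : ℕ, x ^ (r ^ k) = 1}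
  one_mem' := ⟨M.one_mem, 0, by simp⟩
  mul_mem' := by
    rintro x y ⟨hx, k, hk⟩ ⟨hy, l, hl⟩
    refine ⟨M.mul_mem hx hy, k + l, ?_⟩
    have hc : Commute x y := hcomm x hx y hy
    rw [hc.mul_pow, pow_add, pow_mul, hk, one_pow, one_mul, mul_comm (r ^ k), pow_mul, hl, one_pow]
  inv_mem' := by
    rintro x ⟨hx, k, hk⟩
    exact ⟨M.inv_mem hx, k, by rw [inv_pow, hk, inv_one]⟩

theorem mem_rPart {M : Subgroup G} {hcomm : ∀ a ∈ M, ∀ b ∈ M, a * b = b * a} {r : ℕ} {x : G} :
    x ∈ rPart M hcomm r ↔ x ∈ M ∧ ∃ k : ℕ, x ^ (r ^ k) = 1 := Iff.rfl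

/-- a nonabelian finite simple group has no commutative maximal subgroup -/
theorem no_comm_coatom [Finite G] [IsSimpleGroup G] (hnc : ∃ a b : G, a * b ≠ b * a)
    {M : Subgroup G} (hM : IsCoatom M) (hcomm : ∀ a ∈ M, ∀ b ∈ M, a * b = b * a) : False := by
  obtain ⟨a, b, hab⟩ := hnc
  have hMbot : M ≠ ⊥ := by
    rintro rfl
    have ha : a ≠ 1 := by rintro rfl; simp at hab
    have h1 : (⊥ : Subgroup G) < Subgroup.zpowers a := by
      rw [bot_lt_iff_ne_bot]; intro h; exact ha (Subgroup.zpowers_eq_bot.1 h)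
    have h2 := hM.2 _ h1
    have hb : b ∈ Subgroup.zpowers a := by rw [h2]; trivial
    obtain ⟨k, rfl⟩ := Subgroup.mem_zpowers_iff.1 hb
    exact hab (Commute.self_zpow a k).eq
  have hcard : Nat.card M ≠ 1 := fun h => hMbot (Subgroup.card_eq_one.1 h)
  obtain ⟨r, hr, hrd⟩ := Nat.exists_prime_and_dvd hcard
  haveI : Fact r.Prime := ⟨hr⟩
  obtain ⟨x0, hx0⟩ := exists_prime_orderOf_dvd_card' r hrd
  set R := rPart M hcomm r with hRdef
  have hRM : R ≤ M := fun x hx => hx.1
  have hRne : R ≠ ⊥ := by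
    intro h
    have hx : (x0 : G) ∈ R := by
      refine ⟨x0.2, 1, ?_⟩
      rw [pow_one]
      have h1 : x0 ^ r = 1 := by rw [← hx0]; exact pow_orderOf_eq_one _
      simpa using congrArg Subtype.val h1
    rw [h, Subgroup.mem_bot] at hx
    have : x0 = 1 := Subtype.ext hx
    rw [this, orderOf_one] at hx0
    exact hr.one_lt.ne hx0
  have hRp : IsPGroup r R := by
    rintro ⟨x, hx⟩
    obtain ⟨k, hk⟩ := hx.2
    exact ⟨k, Subtype.ext hk⟩
  have hn : M ≤ Subgroup.normalizer (R : Set G) := by
    intro m hm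
    rw [Subgroup.mem_normalizer_iff]
    intro h
    constructor
    · intro hh
      have : m * h * m⁻¹ = h := by
        rw [hcomm m hm h hh.1, mul_assoc, mul_inv_cancel, mul_one]
      rw [this]; exact hh
    · intro hh
      have hhM : h ∈ M := by
        have : h = m⁻¹ * (m * h * m⁻¹) * m := by group
        rw [this]
        exact M.mul_mem (M.mul_mem (M.inv_mem hm) hh.1) hm
      have : m * h * m⁻¹ = h := by
        rw [hcomm m hm h hhM, mul_assoc, mul_inv_cancel, mul_one]
      rw [this] at hh; exact hh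
  have hN := normalizer_eq_of_coatom hM hRM hRne hn
  obtain ⟨P, hP⟩ := hRp.exists_le_sylow
  have hEq : R = (P : Subgroup G) := by
    by_contra hne
    have hlt : R < (P : Subgroup G) := lt_of_le_of_ne hP hne
    haveI : Group.IsNilpotent (P : Subgroup G) := P.2.isNilpotent
    have hncond := Group.normalizerCondition_of_isNilpotent (G := (P : Subgroup G))
    have h3 : R.subgroupOf P < ⊤ := by
      rw [lt_top_iff_ne_top]
      intro h
      rw [Subgroup.subgroupOf_eq_top] at h
      exact hne (le_antisymm hP h)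
    have h4 := hncond _ h3
    obtain ⟨x, hx1, hx2⟩ := SetLike.exists_of_lt h4
    rw [← Subgroup.subgroupOf_normalizer_eq hP, Subgroup.mem_subgroupOf] at hx1
    have hxM : (x : G) ∈ M := hN ▸ hx1
    apply hx2
    rw [Subgroup.mem_subgroupOf]
    refine ⟨hxM, ?_⟩
    obtain ⟨k, hk⟩ := P.2 x
    exact ⟨k, by simpa using congrArg Subtype.val hk⟩
  have hPM : (P : Subgroup G) ≤ M := hEq ▸ hRM
  have hPne : (P : Subgroup G) ≠ ⊥ := hEq ▸ hRne
  have hNP : Subgroup.normalizer ((P : Subgroup G) : Set G) = M := by rw [← hEq]; exact hN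
  have hcen : Subgroup.normalizer ((P : Subgroup G) : Set G) ≤
      Subgroup.centralizer ((P : Subgroup G) : Set G) := by
    rw [hNP]
    intro m hm
    rw [Subgroup.mem_centralizer_iff]
    intro y hy
    exact hcomm y (hPM hy) m hm
  have htop := sylow_eq_top_of_normalizer_le_centralizer P hcen hPne
  apply hM.1
  rw [eq_top_iff, ← htop]
  exact hPM

/-- a subgroup whose order is divisible by the order of a Sylow subgroup has a conjugate
containing it -/
theorem exists_conj_ge_sylow [Finite G] {r : ℕ} [Fact r.Prime] (R : Sylow r G) (S : Subgroup G)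
    (hS : Nat.card (R : Subgroup G) ∣ Nat.card S) :
    ∃ g : G, (R : Subgroup G) ≤ S.map (MulAut.conj g).toMonoidHom := by
  obtain ⟨Q⟩ : Nonempty (Sylow r S) := inferInstance
  have hQp : IsPGroup r ((Q : Subgroup S).map S.subtype) := Q.2.map _
  obtain ⟨P, hP⟩ := hQp.exists_le_sylow
  have hcardQ : Nat.card ((Q : Subgroup S).map S.subtype) = Nat.card (Q : Subgroup S) :=
    Nat.card_congr ((Q : Subgroup S).equivMapOfInjective S.subtype S.subtype_injective).symm.toEquiv
  have hle : Nat.card (R : Subgroup G) ∣ Nat.card (Q : Subgroup S) := by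
    rw [Sylow.card_eq_multiplicity, Sylow.card_eq_multiplicity]
    apply pow_dvd_pow
    have h1 : (Nat.card (R : Subgroup G)).factorization r ≤ (Nat.card S).factorization r := by
      have hS0 : Nat.card S ≠ 0 := Nat.card_pos.ne'
      exact (Nat.factorization_le_iff_dvd Nat.card_pos.ne' hS0).2 hS r
    rw [Sylow.card_eq_multiplicity, Nat.factorization_pow] at h1
    simpa [Nat.Prime.factorization_self (Fact.out : r.Prime)] using h1
  have hPR : Nat.card (P : Subgroup G) = Nat.card (R : Subgroup G) := by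
    rw [Sylow.card_eq_multiplicity, Sylow.card_eq_multiplicity]
  have hEq : (Q : Subgroup S).map S.subtype = (P : Subgroup G) := by
    apply Subgroup.eq_of_le_of_card_ge hP
    rw [hcardQ, hPR]
    exact Nat.le_of_dvd Nat.card_pos hle
  obtain ⟨g, hg⟩ := MulAction.exists_smul_eq G P R
  refine ⟨g, ?_⟩
  rw [← hg, Sylow.coe_subgroup_smul, ← hEq]
  intro x hx
  rw [Subgroup.mem_pointwise_smul_iff_inv_smul_mem] at hx
  obtain ⟨y, hy, hyx⟩ := hx
  refine ⟨(y : G), y.2, ?_⟩
  change g * (y : G) * g⁻¹ = x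
  have : (y : G) = g⁻¹ * x * g := by
    rw [show (S.subtype y) = (y : G) from rfl] at hyx
    rw [hyx]; simp [MulAut.smul_def, MulAut.conj_apply]
  rw [this]; group

theorem normalizer_subtype_eq [Finite G] [IsSimpleGroup G] {M : Subgroup G} (hM : IsCoatom M)
    {r : ℕ} [Fact r.Prime] (R : Sylow r G) (hRM : (R : Subgroup G) ≤ M)
    (hRne : (R : Subgroup G) ≠ ⊥)
    (hn : M ≤ Subgroup.normalizer ((R : Subgroup G) : Set G))
    (S : Subgroup G) (hRS : (R : Subgroup G) ≤ S) :
    Subgroup.normalizer (((R.subtype hRS : Sylow r S) : Subgroup S) : Set S) =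
      M.subgroupOf S := by
  rw [Sylow.coe_subtype, ← Subgroup.subgroupOf_normalizer_eq hRS,
    normalizer_eq_of_coatom hM hRM hRne hn]

/-- counting the Sylow subgroups of an overgroup of a Sylow subgroup normal in a coatom -/
theorem card_eq_mul_inter [Finite G] [IsSimpleGroup G] {M : Subgroup G} (hM : IsCoatom M)
    {r : ℕ} [Fact r.Prime] (R : Sylow r G) (hRM : (R : Subgroup G) ≤ M)
    (hRne : (R : Subgroup G) ≠ ⊥)
    (hn : M ≤ Subgroup.normalizer ((R : Subgroup G) : Set G))
    (S : Subgroup G) (hRS : (R : Subgroup G) ≤ S) :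
    ∃ n : ℕ, n ≡ 1 [MOD r] ∧ Nat.card S = n * Nat.card (S ⊓ M : Subgroup G) := by
  refine ⟨Nat.card (Sylow r S), card_sylow_modEq_one r S, ?_⟩
  rw [Sylow.card_eq_index_normalizer (R.subtype hRS)]
  change Nat.card S = (Subgroup.normalizer (((R.subtype hRS : Sylow r S) : Subgroup S) :
    Set S)).index * _
  rw [normalizer_subtype_eq hM R hRM hRne hn S hRS]
  have h1 : Nat.card (M.subgroupOf S) = Nat.card (S ⊓ M : Subgroup G) := by
    rw [inf_comm, ← Subgroup.inf_subgroupOf_right M S]
    exact Nat.card_congr (Subgroup.subgroupOfEquivOfLe inf_le_right).toEquiv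
  rw [← h1]
  exact (Subgroup.index_mul_card _).symm

theorem inter_ne_of_simple [Finite G] [IsSimpleGroup G] {M : Subgroup G} (hM : IsCoatom M)
    {r : ℕ} [Fact r.Prime] (R : Sylow r G) (hRM : (R : Subgroup G) ≤ M)
    (hRne : (R : Subgroup G) ≠ ⊥)
    (hn : M ≤ Subgroup.normalizer ((R : Subgroup G) : Set G))
    (S : Subgroup G) (hRS : (R : Subgroup G) ≤ S) [IsSimpleGroup S]
    (hncS : ∃ a b : S, a * b ≠ b * a)
    (hRc : ∀ a ∈ (R : Subgroup G), ∀ b ∈ (R : Subgroup G), a * b = b * a) :
    (S ⊓ M : Subgroup G) ≠ (R : Subgroup G) := by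
  intro hEq
  have hN := normalizer_subtype_eq hM R hRM hRne hn S hRS
  have h2 : M.subgroupOf S = ((R.subtype hRS : Sylow r S) : Subgroup S) := by
    rw [Sylow.coe_subtype, ← Subgroup.inf_subgroupOf_right M S, inf_comm, hEq]
  have hcen : Subgroup.normalizer (((R.subtype hRS : Sylow r S) : Subgroup S) : Set S) ≤
      Subgroup.centralizer (((R.subtype hRS : Sylow r S) : Subgroup S) : Set S) := by
    rw [hN, h2]
    intro m hm
    rw [Subgroup.mem_centralizer_iff]
    intro y hy
    rw [SetLike.mem_coe, Sylow.coe_subtype, Subgroup.mem_subgroupOf] at hy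
    rw [Sylow.coe_subtype, Subgroup.mem_subgroupOf] at hm
    apply Subtype.ext
    simpa using hRc _ hy _ hm
  have hne' : ((R.subtype hRS : Sylow r S) : Subgroup S) ≠ ⊥ := by
    intro h
    apply hRne
    rw [Sylow.coe_subtype, Subgroup.subgroupOf_eq_bot] at h
    rw [eq_bot_iff]
    intro x hx
    have : x ∈ (R : Subgroup G) ⊓ S := ⟨hx, hRS hx⟩
    rw [disjoint_iff.1 h] at this
    exact this
  have htop := sylow_eq_top_of_normalizer_le_centralizer (R.subtype hRS) hcen hne'
  have hp : IsPGroup r S := by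
    have := (R.subtype hRS).2
    rw [htop] at this
    exact IsPGroup.of_equiv this Subgroup.topEquiv
  obtain ⟨a, b, hab⟩ := hncS
  exact hab (comm_of_simple_pGroup hp a b)

/-- the combined statement: a subgroup `S` of order divisible by that of a Sylow subgroup `R`
normal in a coatom `M` has a conjugate `S'` containing `R` with `|S| = n |S' ∩ M|`,
`n ≡ 1 mod r` -/
theorem coatom_sylow_overgroup [Finite G] [IsSimpleGroup G] {M : Subgroup G} (hM : IsCoatom M)
    {r : ℕ} [Fact r.Prime] (R : Sylow r G) (hRM : (R : Subgroup G) ≤ M)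
    (hRne : (R : Subgroup G) ≠ ⊥)
    (hn : M ≤ Subgroup.normalizer ((R : Subgroup G) : Set G))
    (S : Subgroup G) (hS : Nat.card (R : Subgroup G) ∣ Nat.card S) :
    ∃ S' : Subgroup G, Nonempty (S ≃* S') ∧ (R : Subgroup G) ≤ S' ∧
      ∃ n : ℕ, n ≡ 1 [MOD r] ∧ Nat.card S = n * Nat.card (S' ⊓ M : Subgroup G) ∧
        Nat.card (R : Subgroup G) ∣ Nat.card (S' ⊓ M : Subgroup G) ∧
        Nat.card (S' ⊓ M : Subgroup G) ∣ Nat.card M ∧
        (Nat.card (S' ⊓ M : Subgroup G) = Nat.card M →
          Nat.card S = Nat.card M ∨ Nat.card S = Nat.card G) := by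
  obtain ⟨g, hg⟩ := exists_conj_ge_sylow R S hS
  set S' := S.map (MulAut.conj g).toMonoidHom with hS'
  have e : S ≃* S' := S.equivMapOfInjective _ (MulAut.conj g).injective
  have hcard : Nat.card S' = Nat.card S := (Nat.card_congr e.toEquiv).symm
  obtain ⟨n, hn1, hn2⟩ := card_eq_mul_inter hM R hRM hRne hn S' hg
  refine ⟨S', ⟨e⟩, hg, n, hn1, hcard ▸ hn2, ?_, ?_, ?_⟩
  · exact Subgroup.card_dvd_of_le (le_inf hg hRM)
  · exact Subgroup.card_dvd_of_le inf_le_right
  · intro h
    have h1 : (S' ⊓ M : Subgroup G) = M :=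
      Subgroup.eq_of_le_of_card_ge inf_le_right h.ge
    have h2 : M ≤ S' := h1 ▸ inf_le_left
    rcases eq_or_lt_of_le h2 with h3 | h3
    · left; rw [← hcard, ← h3]
    · right
      rw [← hcard, hM.2 _ h3, Subgroup.card_top]

end Cfsg.Agent.Helper12.MaxSub
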