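import Mathlib
import Cfsg.Agent.Lib.Helper12.TwoByTwo

set_option autoImplicit false
set_option linter.unusedVariables false
set_option linter.unusedSectionVars false
set_option linter.style.haveILetI false

/-! The quaternion frame in `SL₂(F)` and trace coordinates. -/

namespace Cfsg.Agent.Helper12.MaxSub

open Matrix
open scoped MatrixGroups

variable {F : Type*} [Field F]

/-- the matrix `J` -/
def matJ : Matrix (Fin 2) (Fin 2) F := !![0, -1; 1, 0]

/-- the matrix `T(a, b)` -/
def matT (a b : F) : Matrix (Fin 2) (Fin 2) F := !![a, b; b, -a]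

theorem matJ_eq_companion : (matJ : Matrix (Fin 2) (Fin 2) F) = Cfsg.Agent.Helper12.companion2 0 1 := by
  ext i j
  fin_cases i <;> fin_cases j <;> simp [matJ, Cfsg.Agent.Helper12.companion2]

theorem det_matJ : (matJ : Matrix (Fin 2) (Fin 2) F).det = 1 := by
  simp [matJ, Matrix.det_fin_two]

theorem det_matT (a b : F) (h : a ^ 2 + b ^ 2 = -1) : (matT a b).det = 1 := by
  simp only [matT, Matrix.det_fin_two_of]
  linear_combination -h

/-- `J` in `SL₂` -/
def slJ : SL(2, F) := ⟨matJ, det_matJ⟩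

/-- `T(a, b)` in `SL₂` -/
def slT (a b : F) (h : a ^ 2 + b ^ 2 = -1) : SL(2, F) := ⟨matT a b, det_matT a b h⟩

theorem matJ_mul_matJ : (matJ : Matrix (Fin 2) (Fin 2) F) * matJ = -1 := by
  ext i j
  fin_cases i <;> fin_cases j <;> simp [matJ, Matrix.mul_apply, Fin.sum_univ_two]

theorem matT_mul_matT (a b : F) (h : a ^ 2 + b ^ 2 = -1) : matT a b * matT a b = -1 := by
  ext i j
  fin_cases i <;> fin_cases j <;> simp [matT, Matrix.mul_apply, Fin.sum_univ_two]
  · linear_combination h
  · ring
  · ring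
  · linear_combination h

theorem matJ_mul_matT (a b : F) : matJ * matT a b = -(matT a b * matJ) := by
  ext i j
  fin_cases i <;> fin_cases j <;> simp [matJ, matT, Matrix.mul_apply, Fin.sum_univ_two]

/-- entries from the four traces -/
theorem entries_of_traces {K : Type*} [Field K] (ι : K →+* F) (h2 : (2 : F) ≠ 0) (a0 b0 : K)
    (hab : a0 ^ 2 + b0 ^ 2 = -1) (c : F) (X : Matrix (Fin 2) (Fin 2) F) (y0 y1 y2 y3 : K)
    (h0 : X.trace = c * ι y0) (h1 : (X * matJ).trace = c * ι y1)
    (h2' : (X * matT (ι a0) (ι b0)).trace = c * ι y2)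
    (h3 : (X * (matJ * matT (ι a0) (ι b0))).trace = c * ι y3) :
    ∀ i j, ∃ y : K, X i j = c * ι y := by
  have habF : ι a0 ^ 2 + ι b0 ^ 2 = -1 := by
    rw [← map_pow, ← map_pow, ← map_add, hab, map_neg, map_one]
  simp only [Matrix.trace_fin_two, Matrix.mul_apply, Fin.sum_univ_two, matJ, matT,
    Matrix.of_apply, Matrix.cons_val', Matrix.cons_val_zero, Matrix.cons_val_one,
    Matrix.cons_val_fin_one] at h0 h1 h2' h3
  have hι2 : ι 2 = 2 := map_ofNat ι 2
  have hK2 : (2 : K) ≠ 0 := by
    intro h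
    apply h2
    rw [← hι2, h, map_zero]
  have key : ∀ (x : F) (y : K), 2 * x = c * ι y → ∃ y' : K, x = c * ι y' := by
    intro x y hxy
    refine ⟨y / 2, ?_⟩
    rw [map_div₀, hι2]
    field_simp
    linear_combination hxy
  intro i j
  fin_cases i <;> fin_cases j
  · apply key _ (y0 + (b0 * y3 - a0 * y2))
    simp only [map_add, map_sub, map_mul]
    show 2 * X 0 0 = _
    linear_combination h0 + (ι b0) * h3 - (ι a0) * h2' + (X 0 0 - X 1 1) * habF
  · apply key _ (y1 - (b0 * y2 + a0 * y3))
    simp only [map_add, map_sub, map_mul]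
    show 2 * X 0 1 = _
    linear_combination h1 - (ι b0) * h2' - (ι a0) * h3 + (X 0 1 + X 1 0) * habF
  · apply key _ (-(b0 * y2 + a0 * y3) - y1)
    simp only [map_add, map_sub, map_mul, map_neg]
    show 2 * X 1 0 = _
    linear_combination -h1 - (ι b0) * h2' - (ι a0) * h3 + (X 0 1 + X 1 0) * habF
  · apply key _ (y0 - (b0 * y3 - a0 * y2))
    simp only [map_add, map_sub, map_mul]
    show 2 * X 1 1 = _
    linear_combination h0 - (ι b0) * h3 + (ι a0) * h2' - (X 0 0 - X 1 1) * habF

/-- the matrix `x + y J` -/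
def matH (x y : F) : Matrix (Fin 2) (Fin 2) F := !![x, -y; y, x]

theorem det_matH (x y : F) : (matH x y).det = x ^ 2 + y ^ 2 := by
  simp only [matH, Matrix.det_fin_two_of]; ring

theorem matH_mul_matJ (x y : F) : matH x y * matJ = matJ * matH x y := by
  ext i j
  fin_cases i <;> fin_cases j <;> simp [matJ, matH, Matrix.mul_apply, Fin.sum_univ_two]

theorem matH_mul_matT_one (a b α β : F) (hab : a ^ 2 + b ^ 2 = -1) (hαβ : α ^ 2 + β ^ 2 = -1) :
    matH (α + a) (β - b) * matT a b = matT α β * matH (α + a) (β - b) := by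
  ext i j
  fin_cases i <;> fin_cases j <;> simp [matT, matH, Matrix.mul_apply, Fin.sum_univ_two]
  · linear_combination hab - hαβ
  · ring
  · ring
  · linear_combination -hab + hαβ

theorem matH_mul_matT_two (a b α β : F) (hab : a ^ 2 + b ^ 2 = -1) (hαβ : α ^ 2 + β ^ 2 = -1) :
    matH (-(β + b)) (α - a) * matT a b = matT α β * matH (-(β + b)) (α - a) := by
  ext i j
  fin_cases i <;> fin_cases j <;> simp [matT, matH, Matrix.mul_apply, Fin.sum_univ_two]
  · ring
  · linear_combination -hab + hαβ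
  · linear_combination -hab + hαβ
  · ring

/-- a quaternion pair can be moved to the standard frame -/
theorem exists_conj_frame (h2 : (2 : F) ≠ 0) (S T : Matrix (Fin 2) (Fin 2) F)
    (hSdet : S.det = 1) (hS : S * S = -1) (hT : T * T = -1) (hST : S * T = -(T * S))
    (α β : F) (hαβ : α ^ 2 + β ^ 2 = -1) :
    ∃ g : GL (Fin 2) F, (g : Matrix (Fin 2) (Fin 2) F) * S = matJ * (g : Matrix (Fin 2) (Fin 2) F) ∧
      (g : Matrix (Fin 2) (Fin 2) F) * T = matT α β * (g : Matrix (Fin 2) (Fin 2) F) := by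
  -- the trace of `S` vanishes
  have hS0 : S ≠ 0 := by
    rintro rfl
    have := congrFun (congrFun hS 0) 0
    simp at this
  have htr : S.trace = 0 := by
    have h1 := Cfsg.Agent.Helper12.sq_eq2 S
    rw [hS, hSdet, one_smul] at h1
    have h3 : S.trace • S = 0 := by
      have : S.trace • S = (S.trace • S - 1) + 1 := by abel
      rw [this, ← h1]; simp
    rcases smul_eq_zero.1 h3 with h | h
    · exact h
    · exact absurd h hS0
  have hns : ¬ Cfsg.Agent.Helper12.IsScalar2 S := by
    rintro ⟨h01, h10, h00⟩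
    rw [Matrix.trace_fin_two, ← h00] at htr
    have h000 : S 0 0 = 0 := by
      have : 2 * S 0 0 = 0 := by linear_combination htr
      rcases mul_eq_zero.1 this with h | h
      · exact absurd h h2
      · exact h
    apply hS0
    ext i j
    fin_cases i <;> fin_cases j
    · simpa using h000
    · simpa using h01
    · simpa using h10
    · simpa using h00 ▸ h000
  set gS : GL (Fin 2) F := Matrix.GeneralLinearGroup.mkOfDetNeZero S (by rw [hSdet]; exact one_ne_zero)
    with hgS
  have hgSc : (gS : Matrix (Fin 2) (Fin 2) F) = S := rfl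
  obtain ⟨P, hP⟩ := Cfsg.Agent.Helper12.GL2_conj_companion gS (by rw [hgSc]; exact hns)
  rw [hgSc, htr, hSdet, ← matJ_eq_companion, Units.val_mul, Units.val_mul, hgSc] at hP
  have hPP : (P : Matrix (Fin 2) (Fin 2) F) * ((P⁻¹ : GL (Fin 2) F) : Matrix (Fin 2) (Fin 2) F) = 1 := by
    rw [← Units.val_mul, mul_inv_cancel, Units.val_one]
  have hPP' : ((P⁻¹ : GL (Fin 2) F) : Matrix (Fin 2) (Fin 2) F) * (P : Matrix (Fin 2) (Fin 2) F) = 1 := by
    rw [← Units.val_mul, inv_mul_cancel, Units.val_one]
  set Pi : Matrix (Fin 2) (Fin 2) F := ((P⁻¹ : GL (Fin 2) F) : Matrix (Fin 2) (Fin 2) F) with hPi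
  set Pm : Matrix (Fin 2) (Fin 2) F := (P : Matrix (Fin 2) (Fin 2) F) with hPm
  -- `Pi * S = J * Pi`
  have h1 : Pi * S = matJ * Pi := by
    calc Pi * S = Pi * S * (Pm * Pi) := by rw [hPP, mul_one]
      _ = (Pi * S * Pm) * Pi := by simp only [mul_assoc]
      _ = matJ * Pi := by rw [hP]
  set T1 : Matrix (Fin 2) (Fin 2) F := Pi * T * Pm with hT1
  have hT1sq : T1 * T1 = -1 := by
    calc T1 * T1 = Pi * T * (Pm * Pi) * T * Pm := by simp only [hT1, mul_assoc]
      _ = Pi * (T * T) * Pm := by rw [hPP, mul_one]; simp only [mul_assoc]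
      _ = -1 := by rw [hT, mul_neg, mul_one, neg_mul, hPP']
  have hT1g : T1 * Pi = Pi * T := by
    rw [hT1, mul_assoc, hPP, mul_one]
  have hJT1 : matJ * T1 = -(T1 * matJ) := by
    have e1 : matJ * T1 = Pi * (S * T) * Pm := by
      calc matJ * T1 = (matJ * Pi) * T * Pm := by simp only [hT1, mul_assoc]
        _ = Pi * (S * T) * Pm := by rw [← h1]; simp only [mul_assoc]
    have e2 : T1 * matJ = Pi * (T * S) * Pm := by
      have : matJ = Pi * S * Pm := hP.symm
      calc T1 * matJ = Pi * T * (Pm * Pi) * S * Pm := by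
            rw [this]; simp only [hT1, mul_assoc]
        _ = Pi * (T * S) * Pm := by rw [hPP, mul_one]; simp only [mul_assoc]
    rw [e1, e2, hST, mul_neg, neg_mul]
  -- the shape of `T1`
  have e00 := congrFun (congrFun hJT1 0) 0
  have e01 := congrFun (congrFun hJT1 0) 1
  simp only [matJ, Matrix.mul_apply, Fin.sum_univ_two, Matrix.of_apply, Matrix.cons_val',
    Matrix.cons_val_zero, Matrix.cons_val_one, Matrix.cons_val_fin_one, Matrix.neg_apply] at e00 e01
  have h10 : T1 1 0 = T1 0 1 := by linear_combination -e00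
  have h11 : T1 1 1 = -T1 0 0 := by linear_combination -e01
  set a := T1 0 0 with ha
  set b := T1 0 1 with hb
  have hT1eq : T1 = matT a b := by
    ext i j
    fin_cases i <;> fin_cases j
    · simp [matT, ha]
    · simp [matT, hb]
    · simpa [matT] using h10
    · simpa [matT] using h11
  have hab : a ^ 2 + b ^ 2 = -1 := by
    have := congrFun (congrFun hT1sq 0) 0
    simp only [Matrix.mul_apply, Fin.sum_univ_two, Matrix.neg_apply, Matrix.one_apply_eq] at this
    rw [h10] at this
    linear_combination this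
  -- the element of the centralizer of `J`
  have hdets : (matH (α + a) (β - b)).det + (matH (-(β + b)) (α - a)).det = -4 := by
    rw [det_matH, det_matH]
    linear_combination 2 * hab + 2 * hαβ
  have h4 : (-4 : F) ≠ 0 := by
    have : (-4 : F) = -(2 * 2) := by norm_num
    rw [this]
    exact neg_ne_zero.2 (mul_ne_zero h2 h2)
  obtain ⟨x, y, hdet, hHT⟩ : ∃ x y : F, (matH x y).det ≠ 0 ∧
      matH x y * matT a b = matT α β * matH x y := by
    by_cases hd : (matH (α + a) (β - b)).det = 0
    · refine ⟨-(β + b), α - a, ?_, matH_mul_matT_two a b α β hab hαβ⟩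
      intro h
      rw [hd, h, add_zero] at hdets
      exact h4 hdets.symm
    · exact ⟨α + a, β - b, hd, matH_mul_matT_one a b α β hab hαβ⟩
  set gH : GL (Fin 2) F := Matrix.GeneralLinearGroup.mkOfDetNeZero (matH x y) hdet with hgH
  have hgHc : (gH : Matrix (Fin 2) (Fin 2) F) = matH x y := rfl
  refine ⟨gH * P⁻¹, ?_, ?_⟩
  · rw [Units.val_mul, hgHc, ← hPi, mul_assoc, h1, ← mul_assoc, matH_mul_matJ, mul_assoc]
  · rw [Units.val_mul, hgHc, ← hPi, mul_assoc, ← hT1g, ← mul_assoc, hT1eq, hHT, mul_assoc]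

end Cfsg.Agent.Helper12.MaxSub
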