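import Mathlib
import Cfsg.Agent.Lib.Helper12.MaxSubB
import Cfsg.Agent.Lib.Helper12.SL2Torus
import Cfsg.Agent.Lib.Helper2.PslAut1

set_option autoImplicit false
set_option linter.unusedVariables false
set_option linter.unusedSectionVars false
set_option linter.style.haveILetI false

/-! Subgroups of `SL₂(F)` containing a quaternion frame: coordinates from traces. -/

namespace Cfsg.Agent.Helper12.MaxSub

open Matrix
open scoped MatrixGroups

local notation "cj" => Cfsg.Agent.Helper2.PA.conjSL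

variable {F : Type*} [Field F]

theorem trace_conjSL (g : GL (Fin 2) F) (x : SL(2, F)) :
    (cj g x).1.trace = x.1.trace := by
  rw [Cfsg.Agent.Helper2.PA.conjSL_coe]
  exact Matrix.trace_units_conj g x.1

theorem trace_conj_SL (x y : SL(2, F)) : (x * y * x⁻¹).1.trace = y.1.trace := by
  rw [Matrix.SpecialLinearGroup.coe_mul, Matrix.SpecialLinearGroup.coe_mul, Matrix.trace_mul_cycle,
    ← Matrix.SpecialLinearGroup.coe_mul, inv_mul_cancel, Matrix.SpecialLinearGroup.coe_one, one_mul]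

/-- the product formula for traces in `SL₂` -/
theorem trace_mul_trace (A B : SL(2, F)) :
    A.1.trace * B.1.trace = (A * B).1.trace + (A * B⁻¹).1.trace := by
  rw [Matrix.SpecialLinearGroup.coe_mul, Matrix.SpecialLinearGroup.coe_mul,
    Cfsg.Agent.Helper12.coe_inv_SL2, mul_sub, Matrix.trace_sub, Matrix.mul_smul, Matrix.trace_smul,
    mul_one, smul_eq_mul]
  ring

theorem conjSL_mul_coe (g : GL (Fin 2) F) (x y : SL(2, F)) :
    (cj g (x * y)).1 = (cj g x).1 * (cj g y).1 := by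
  have h : cj g (x * y) = cj g x * cj g y :=
    map_mul (cj g : SL(2, F) ≃* SL(2, F)) x y
  rw [h]
  rfl

theorem conjSL_eq_of_mul_eq (g : GL (Fin 2) F) (x : SL(2, F)) (Y : Matrix (Fin 2) (Fin 2) F)
    (h : (g : Matrix (Fin 2) (Fin 2) F) * x.1 = Y * (g : Matrix (Fin 2) (Fin 2) F)) :
    (cj g x).1 = Y := by
  rw [Cfsg.Agent.Helper2.PA.conjSL_coe, h, mul_assoc, ← Units.val_mul, mul_inv_cancel, Units.val_one, mul_one]

/-- **coordinates from traces** -/
theorem exists_conj_entries (h2 : (2 : F) ≠ 0) {K : Type*} [Field K] (ι : K →+* F) (a0 b0 : K)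
    (hab : a0 ^ 2 + b0 ^ 2 = -1) (Hs H1 : Subgroup SL(2, F)) (hH1 : H1 ≤ Hs)
    (hidx : ∀ x ∈ Hs, ∀ y ∈ Hs, x ∉ H1 → y ∉ H1 → x * y ∈ H1)
    (S T : SL(2, F)) (hSm : S ∈ H1) (hTm : T ∈ H1) (hS : S.1 * S.1 = -1) (hT : T.1 * T.1 = -1)
    (hST : S.1 * T.1 = -(T.1 * S.1))
    (htr : ∀ x ∈ H1, ∃ y : K, x.1.trace = ι y) :
    ∃ g : GL (Fin 2) F, (∀ x ∈ H1, ∀ i j, ∃ y : K, (cj g x).1 i j = ι y) ∧
      (∀ x ∈ Hs, ∃ c : F, c ≠ 0 ∧ ∀ i j, ∃ y : K, (cj g x).1 i j = c * ι y) := by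
  have habF : ι a0 ^ 2 + ι b0 ^ 2 = -1 := by
    rw [← map_pow, ← map_pow, ← map_add, hab, map_neg, map_one]
  obtain ⟨g, hgS, hgT⟩ := exists_conj_frame h2 S.1 T.1 S.2 hS hT hST (ι a0) (ι b0) habF
  have hcS : (cj g S).1 = matJ := conjSL_eq_of_mul_eq g S _ hgS
  have hcT : (cj g T).1 = matT (ι a0) (ι b0) := conjSL_eq_of_mul_eq g T _ hgT
  -- the four traces
  have t1 : ∀ x : SL(2, F), ((cj g x).1 * matJ).trace = (x * S).1.trace := by
    intro x
    have e : (cj g (x * S)).1 = (cj g x).1 * matJ := by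
      rw [conjSL_mul_coe, hcS]
    rw [← e, trace_conjSL]
  have t2 : ∀ x : SL(2, F), ((cj g x).1 * matT (ι a0) (ι b0)).trace = (x * T).1.trace := by
    intro x
    have e : (cj g (x * T)).1 = (cj g x).1 * matT (ι a0) (ι b0) := by
      rw [conjSL_mul_coe, hcT]
    rw [← e, trace_conjSL]
  have t3 : ∀ x : SL(2, F), ((cj g x).1 * (matJ * matT (ι a0) (ι b0))).trace =
      (x * (S * T)).1.trace := by
    intro x
    have e : (cj g (x * (S * T))).1 = (cj g x).1 * (matJ * matT (ι a0) (ι b0)) := by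
      rw [conjSL_mul_coe, conjSL_mul_coe, hcS, hcT]
    rw [← e, trace_conjSL]
  have hfirst : ∀ x ∈ H1, ∀ i j, ∃ y : K, (cj g x).1 i j = ι y := by
    intro x hx
    obtain ⟨y0, hy0⟩ := htr x hx
    obtain ⟨y1, hy1⟩ := htr (x * S) (H1.mul_mem hx hSm)
    obtain ⟨y2, hy2⟩ := htr (x * T) (H1.mul_mem hx hTm)
    obtain ⟨y3, hy3⟩ := htr (x * (S * T)) (H1.mul_mem hx (H1.mul_mem hSm hTm))
    have := entries_of_traces ι h2 a0 b0 hab 1 (cj g x).1 y0 y1 y2 y3
      (by rw [trace_conjSL, hy0, one_mul]) (by rw [t1, hy1, one_mul]) (by rw [t2, hy2, one_mul])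
      (by rw [t3, hy3, one_mul])
    simpa using this
  refine ⟨g, hfirst, ?_⟩
  intro x hx
  by_cases hx1 : x ∈ H1
  · refine ⟨1, one_ne_zero, ?_⟩
    simpa using hfirst x hx1
  -- the four elements of the frame
  set hh : Fin 4 → SL(2, F) := ![1, S, T, S * T] with hhdef
  have hhm : ∀ i, hh i ∈ H1 := by
    intro i
    fin_cases i
    · exact H1.one_mem
    · exact hSm
    · exact hTm
    · exact H1.mul_mem hSm hTm
  set tau : Fin 4 → F := fun i => (x * hh i).1.trace with htau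
  have hnot : ∀ i, x * hh i ∉ H1 := by
    intro i h
    apply hx1
    have : x = (x * hh i) * (hh i)⁻¹ := by group
    rw [this]
    exact H1.mul_mem h (H1.inv_mem (hhm i))
  have hprod : ∀ i j, ∃ y : K, tau i * tau j = ι y := by
    intro i j
    rw [htau]
    simp only
    rw [trace_mul_trace]
    obtain ⟨y1, hy1⟩ := htr _ (hidx _ (Hs.mul_mem hx (hH1 (hhm i))) _
      (Hs.mul_mem hx (hH1 (hhm j))) (hnot i) (hnot j))
    have e : x * hh i * (x * hh j)⁻¹ = x * (hh i * (hh j)⁻¹) * x⁻¹ := by group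
    obtain ⟨y2, hy2⟩ := htr _ (H1.mul_mem (hhm i) (H1.inv_mem (hhm j)))
    refine ⟨y1 + y2, ?_⟩
    rw [hy1, e, trace_conj_SL, hy2, map_add]
  -- the traces of the conjugate
  have hT0 : (cj g x).1.trace = tau 0 := by
    rw [trace_conjSL, htau]; simp [hhdef]
  have hT1 : ((cj g x).1 * matJ).trace = tau 1 := by
    rw [t1, htau]; simp [hhdef]
  have hT2 : ((cj g x).1 * matT (ι a0) (ι b0)).trace = tau 2 := by
    rw [t2, htau]; simp [hhdef]
  have hT3 : ((cj g x).1 * (matJ * matT (ι a0) (ι b0))).trace = tau 3 := by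
    rw [t3, htau]; simp [hhdef]
  -- some trace is nonzero
  obtain ⟨i0, hi0⟩ : ∃ i0, tau i0 ≠ 0 := by
    by_contra hall
    push Not at hall
    have := entries_of_traces ι h2 a0 b0 hab 0 (cj g x).1 0 0 0 0
      (by rw [hT0, hall 0, zero_mul]) (by rw [hT1, hall 1, zero_mul])
      (by rw [hT2, hall 2, zero_mul]) (by rw [hT3, hall 3, zero_mul])
    have hzero : (cj g x).1 = 0 := by
      ext i j
      obtain ⟨y, hy⟩ := this i j
      rw [hy, zero_mul]; rfl
    have hdet := (cj g x).2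
    rw [hzero, Matrix.det_zero] at hdet
    exact zero_ne_one hdet
  obtain ⟨y00, hy00⟩ := hprod i0 i0
  have hy00ne : y00 ≠ 0 := by
    rintro rfl
    rw [map_zero] at hy00
    exact hi0 (mul_self_eq_zero.1 hy00)
  have hcoef : ∀ j, ∃ y : K, tau j = tau i0 * ι y := by
    intro j
    obtain ⟨y, hy⟩ := hprod i0 j
    refine ⟨y / y00, ?_⟩
    rw [map_div₀, ← hy, ← hy00]
    field_simp
  obtain ⟨y0, hy0⟩ := hcoef 0
  obtain ⟨y1, hy1⟩ := hcoef 1
  obtain ⟨y2, hy2⟩ := hcoef 2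
  obtain ⟨y3, hy3⟩ := hcoef 3
  exact ⟨tau i0, hi0, entries_of_traces ι h2 a0 b0 hab (tau i0) (cj g x).1 y0 y1 y2 y3
    (hT0.trans hy0) (hT1.trans hy1) (hT2.trans hy2) (hT3.trans hy3)⟩

end Cfsg.Agent.Helper12.MaxSub
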