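import Mathlib
import Cfsg.Agent.Lib.Helper12.MaxSubC
import Cfsg.Agent.Lib.Helper12.SL2Norm
import Cfsg.Agent.Lib.Helper28.SubfieldPSL2

set_option autoImplicit false
set_option linter.unusedVariables false
set_option linter.unusedSectionVars false
set_option linter.style.haveILetI false

/-! Subgroups of `PSL₂(F)` containing a four-group: conjugation into subfield subgroups. -/

namespace Cfsg.Agent.Helper12.MaxSub

open Matrix
open scoped MatrixGroups
open Cfsg.Agent.Helper12 (negOneSL negOneSL_coe SL2_sq_eq_one)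

variable {F : Type*} [Field F]

local notation "cj" => Cfsg.Agent.Helper2.PA.conjSL

/-- the quotient map -/
noncomputable abbrev mkP : SL(2, F) →* Matrix.ProjectiveSpecialLinearGroup (Fin 2) F :=
  QuotientGroup.mk' (Subgroup.center SL(2, F))

theorem mkP_surjective : Function.Surjective (mkP (F := F)) := QuotientGroup.mk_surjective

theorem sq_eq_one_iff_of_sq_eq_one_aux {r : F} (hr : r ^ 2 = 1) : r = 1 ∨ r = -1 := by
  have : (r - 1) * (r + 1) = 0 := by linear_combination hr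
  rcases mul_eq_zero.1 this with h | h
  · left; exact sub_eq_zero.1 h
  · right; exact eq_neg_of_add_eq_zero_left h

theorem diag_neg_one : (Matrix.diagonal fun _ : Fin 2 => (-1 : F)) = -1 := by
  ext i j
  fin_cases i <;> fin_cases j <;> simp

theorem mkP_eq_one_iff (X : SL(2, F)) : mkP X = 1 ↔ X = 1 ∨ X = negOneSL := by
  rw [show mkP X = (X : SL(2, F) ⧸ Subgroup.center SL(2, F)) from rfl, QuotientGroup.eq_one_iff,
    Matrix.SpecialLinearGroup.mem_center_iff]
  constructor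
  · rintro ⟨r, hr, hrX⟩
    rw [Fintype.card_fin] at hr
    have : r = 1 ∨ r = -1 := sq_eq_one_iff_of_sq_eq_one_aux hr
    rcases this with h | h
    · left
      apply Subtype.ext
      rw [← hrX, h]; simp
    · right
      apply Subtype.ext
      rw [← hrX, h, negOneSL_coe]; simp [diag_neg_one]
  · rintro (h | h)
    · exact ⟨1, one_pow _, by rw [h]; simp⟩
    · refine ⟨-1, by rw [Fintype.card_fin]; ring, ?_⟩
      rw [h, negOneSL_coe]; simp [diag_neg_one]

theorem negOneSL_mem_ker : mkP (negOneSL : SL(2, F)) = 1 := (mkP_eq_one_iff _).2 (Or.inr rfl)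

/-- lifts of a four-group form a quaternion pair -/
theorem quat_of_klein (h2 : (2 : F) ≠ 0) (S T : SL(2, F)) (hs1 : mkP S ≠ 1) (ht1 : mkP T ≠ 1)
    (hst : mkP S ≠ mkP T) (hs2 : mkP S * mkP S = 1) (ht2 : mkP T * mkP T = 1)
    (hc : mkP S * mkP T = mkP T * mkP S) :
    S.1 * S.1 = -1 ∧ T.1 * T.1 = -1 ∧ S.1 * T.1 = -(T.1 * S.1) := by
  have key : ∀ X : SL(2, F), mkP X ≠ 1 → mkP X * mkP X = 1 → X.1 * X.1 = -1 := by
    intro X hX1 hX2
    rw [← map_mul, mkP_eq_one_iff] at hX2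
    rcases hX2 with h | h
    · exfalso
      apply hX1
      rw [mkP_eq_one_iff]
      exact SL2_sq_eq_one h2 X h
    · have := congrArg Subtype.val h
      rw [negOneSL_coe] at this
      exact this
  have hS := key S hs1 hs2
  have hT := key T ht1 ht2
  have hST1 : mkP (S * T) ≠ 1 := by
    rw [map_mul]
    intro h
    apply hst
    have : mkP S = (mkP T)⁻¹ := eq_inv_of_mul_eq_one_left h
    rw [this]
    exact inv_eq_of_mul_eq_one_left ht2
  have hST2 : mkP (S * T) * mkP (S * T) = 1 := by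
    rw [map_mul]
    calc mkP S * mkP T * (mkP S * mkP T) = mkP S * (mkP T * mkP S) * mkP T := by group
      _ = mkP S * (mkP S * mkP T) * mkP T := by rw [hc]
      _ = (mkP S * mkP S) * (mkP T * mkP T) := by group
      _ = 1 := by rw [hs2, ht2, one_mul]
  have hST := key (S * T) hST1 hST2
  refine ⟨hS, hT, ?_⟩
  have hSTc : (S * T).1 = S.1 * T.1 := rfl
  rw [hSTc] at hST
  -- `T S = S (S T S T) T = - S T`
  have e1 : S.1 * (S.1 * T.1 * (S.1 * T.1)) * T.1 = T.1 * S.1 := by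
    calc S.1 * (S.1 * T.1 * (S.1 * T.1)) * T.1 = (S.1 * S.1) * T.1 * S.1 * (T.1 * T.1) := by
          simp only [mul_assoc]
      _ = T.1 * S.1 := by rw [hS, hT]; simp
  rw [hST] at e1
  rw [← e1]
  simp

/-- the automorphism of `PSL₂` induced by an invertible matrix -/
noncomputable def autP (g : GL (Fin 2) F) : MulAut (Matrix.ProjectiveSpecialLinearGroup (Fin 2) F) :=
  Cfsg.Agent.Helper2.PA.desc SL(2, F) (cj g)

theorem autP_mkP (g : GL (Fin 2) F) (X : SL(2, F)) : autP g (mkP X) = mkP (cj g X) := rfl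

/-- **conjugation into a subfield**, the general statement -/
theorem exists_aut_entries (h2 : (2 : F) ≠ 0) {K : Type*} [Field K] (ι : K →+* F) (a0 b0 : K)
    (hab : a0 ^ 2 + b0 ^ 2 = -1)
    (M M1 : Subgroup (Matrix.ProjectiveSpecialLinearGroup (Fin 2) F)) (hM1 : M1 ≤ M)
    (hidx : ∀ x ∈ M, ∀ y ∈ M, x ∉ M1 → y ∉ M1 → x * y ∈ M1)
    (s t : Matrix.ProjectiveSpecialLinearGroup (Fin 2) F) (hs : s ∈ M1) (ht : t ∈ M1)
    (hs1 : s ≠ 1) (ht1 : t ≠ 1) (hst : s ≠ t) (hs2 : s * s = 1) (ht2 : t * t = 1)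
    (hc : s * t = t * s)
    (htr : ∀ X : SL(2, F), mkP X ∈ M1 → ∃ y : K, X.1.trace = ι y) :
    ∃ g : GL (Fin 2) F,
      (∀ X : SL(2, F), mkP X ∈ M1 → ∀ i j, ∃ y : K, (cj g X).1 i j = ι y) ∧
      (∀ X : SL(2, F), mkP X ∈ M → ∃ c : F, c ≠ 0 ∧ ∀ i j, ∃ y : K, (cj g X).1 i j = c * ι y) := by
  obtain ⟨S, rfl⟩ := mkP_surjective s
  obtain ⟨T, rfl⟩ := mkP_surjective t
  obtain ⟨hS, hT, hST⟩ := quat_of_klein h2 S T hs1 ht1 hst hs2 ht2 hc
  obtain ⟨g, hg1, hg2⟩ := exists_conj_entries h2 ι a0 b0 hab (M.comap mkP) (M1.comap mkP)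
    (Subgroup.comap_mono hM1)
    (by
      intro x hx y hy hx1 hy1
      rw [Subgroup.mem_comap, map_mul]
      exact hidx _ hx _ hy hx1 hy1)
    S T hs ht hS hT hST (fun x hx => htr x hx)
  exact ⟨g, fun X hX => hg1 X hX, fun X hX => hg2 X hX⟩

end Cfsg.Agent.Helper12.MaxSub
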