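import Mathlib
import Cfsg.Agent.Lib.Helper16.DihedralSub
import Cfsg.Agent.Lib.Lead.DihedralRecog
import Cfsg.Agent.Lib.Helper13.A4Recog
import Cfsg.Agent.S0228

/-!
# Two-by-cyclic subgroups (helper12)
-/

set_option autoImplicit false

namespace Cfsg.Agent.Helper12.TBC

open Cfsg.Agent.Helper16 Cfsg.Agent.Helper13.KleinCount Cfsg.Agent.Helper13.A4Recog

/-- Abstract form: a finite group with a normal Sylow `2`-subgroup and cyclic quotient is
generated by the Sylow subgroup and an element of odd order. -/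
theorem exists_odd_gen {X : Type*} [Group X] [Finite X] (S : Sylow 2 X)
    (hn : (S : Subgroup X).Normal) (hc : IsCyclic (X ⧸ (S : Subgroup X))) :
    ∃ y : X, Odd (orderOf y) ∧ (S : Subgroup X) ⊔ Subgroup.zpowers y = ⊤ := by
  have hF : Fact (Nat.Prime 2) := ⟨Nat.prime_two⟩
  obtain ⟨Q, hQ⟩ := Subgroup.exists_left_complement'_of_coprime (N := (S : Subgroup X))
    S.card_coprime_index
  have e : X ⧸ (S : Subgroup X) ≃* Q := hQ.QuotientMulEquiv
  have hQc : IsCyclic Q := isCyclic_of_surjective e e.surjective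
  obtain ⟨q, hq⟩ := hQc.exists_generator
  refine ⟨(q : X), ?_, ?_⟩
  · rw [Subgroup.orderOf_coe, orderOf_eq_card_of_forall_mem_zpowers hq, ← hQ.index_eq_card]
    exact Nat.not_even_iff_odd.1 (fun h => S.not_dvd_index (even_iff_two_dvd.1 h))
  · have h1 : Subgroup.zpowers (q : X) = Q := by
      apply le_antisymm
      · rw [Subgroup.zpowers_le]; exact q.2
      · intro x hx
        obtain ⟨k, hk⟩ := Subgroup.mem_zpowers_iff.1 (hq ⟨x, hx⟩)
        rw [Subgroup.mem_zpowers_iff]
        refine ⟨k, ?_⟩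
        have := congrArg (fun v : Q => (v : X)) hk
        simpa using this
    rw [h1, sup_comm]
    exact hQ.sup_eq_top

variable {G : Type*} [Group G]

/-- The ambient data attached to a `2`-by-cyclic subgroup. -/
theorem exists_data [Finite G] (H : Subgroup G)
    (hS : ∀ S : Sylow 2 ↥H, (S : Subgroup ↥H).Normal)
    (hc : ∀ (S : Sylow 2 ↥H) [(S : Subgroup ↥H).Normal], IsCyclic (↥H ⧸ (S : Subgroup ↥H))) :
    ∃ (S₀ : Subgroup G) (y : G), IsPGroup 2 S₀ ∧ Odd (orderOf y) ∧
      y ∈ Subgroup.normalizer (S₀ : Set G) ∧ S₀ ⊔ Subgroup.zpowers y = H := by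
  have hF : Fact (Nat.Prime 2) := ⟨Nat.prime_two⟩
  obtain ⟨S⟩ : Nonempty (Sylow 2 ↥H) := inferInstance
  haveI := hS S
  obtain ⟨y, hy, hsup⟩ := exists_odd_gen S (hS S) (hc S)
  refine ⟨(S : Subgroup ↥H).map H.subtype, (y : G), ?_, ?_, ?_, ?_⟩
  · exact S.2.map H.subtype
  · rw [Subgroup.orderOf_coe]; exact hy
  · rw [Subgroup.mem_normalizer_iff]
    intro g
    constructor
    · rintro ⟨s, hs, rfl⟩
      exact ⟨y * s * y⁻¹, (hS S).conj_mem s hs y, by simp⟩
    · rintro ⟨s, hs, hs'⟩
      have hgH : g ∈ H := by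
        have h1 : (y : G)⁻¹ * ((y : G) * g * (y : G)⁻¹) * (y : G) = g := by group
        rw [← h1, ← hs']
        exact H.mul_mem (H.mul_mem (H.inv_mem y.2) s.2) y.2
      refine ⟨⟨g, hgH⟩, ?_, rfl⟩
      have h2 : (⟨g, hgH⟩ : H) = y⁻¹ * s * y⁻¹⁻¹ := by
        apply Subtype.ext
        simp only [Subgroup.coe_mul, Subgroup.coe_inv, inv_inv]
        rw [show ((s : H) : G) = (y : G) * g * (y : G)⁻¹ from hs']
        group
      rw [h2]
      exact (hS S).conj_mem s hs y⁻¹
  · have h1 := congrArg (Subgroup.map H.subtype) hsup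
    rw [Subgroup.map_sup, MonoidHom.map_zpowers, ← MonoidHom.range_eq_map,
      Subgroup.range_subtype] at h1
    exact h1

/-- Product of a cyclic `2`-group and a centralizing element of odd order. -/
theorem isCyclic_of_centralizes [Finite G] (H S₀ : Subgroup G) (y : G) (h2 : IsPGroup 2 S₀)
    (hodd : Odd (orderOf y)) (hcyc : IsCyclic S₀)
    (hyc : y ∈ Subgroup.centralizer (S₀ : Set G)) (hsup : S₀ ⊔ Subgroup.zpowers y = H) :
    IsCyclic H := by
  have hF : Fact (Nat.Prime 2) := ⟨Nat.prime_two⟩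
  obtain ⟨s, hs⟩ := hcyc.exists_generator
  obtain ⟨k, hk⟩ := IsPGroup.iff_card.1 h2
  have hso : orderOf (s : G) = 2 ^ k := by
    rw [Subgroup.orderOf_coe, orderOf_eq_card_of_forall_mem_zpowers hs, hk]
  have hcomm : Commute (s : G) y := by
    have := hyc (s : G) s.2
    exact this
  have hcop : (orderOf (s : G)).Coprime (orderOf y) := by
    rw [hso]
    exact Nat.Coprime.pow_left k (Nat.coprime_two_left.2 hodd)
  have hord := hcomm.orderOf_mul_eq_mul_orderOf_of_coprime hcop
  have hyn : Subgroup.zpowers y ≤ Subgroup.normalizer (S₀ : Set G) := by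
    rw [Subgroup.zpowers_le]
    exact Subgroup.centralizer_le_normalizer _ hyc
  have hcard : Nat.card H = orderOf y * 2 ^ k := by
    rw [← hsup, sup_comm, card_sup_of_le_normalizer _ _ hyn, Nat.card_zpowers, hk]
    rw [Nat.card_zpowers, hk]
    exact (Nat.Coprime.pow_left k (Nat.coprime_two_left.2 hodd)).symm
  have hmem : (s : G) * y ∈ H := by
    rw [← hsup]
    exact Subgroup.mul_mem _ (Subgroup.mem_sup_left s.2)
      (Subgroup.mem_sup_right (Subgroup.mem_zpowers y))
  apply isCyclic_of_orderOf_eq_card (⟨(s : G) * y, hmem⟩ : H)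
  rw [← Subgroup.orderOf_coe]
  show orderOf ((s : G) * y) = _
  rw [hord, hso, hcard, mul_comm]

end Cfsg.Agent.Helper12.TBC
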