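import Mathlib
import Cfsg.Agent.Lib.Helper12.TwoByCyclic

/-!
# Two-by-cyclic subgroups, part 2 (helper12): the `A₄` case and subgroups of dihedral groups
-/

set_option autoImplicit false

namespace Cfsg.Agent.Helper12.TBC

open Cfsg.Agent.Helper16 Cfsg.Agent.Helper13.KleinCount Cfsg.Agent.Helper13.A4Recog

variable {G : Type*} [Group G]

theorem odd_orderOf_pow {y : G} (hodd : Odd (orderOf y)) (k : ℕ) : Odd (orderOf (y ^ k)) :=
  Odd.of_dvd_nat hodd (orderOf_pow_dvd k)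

theorem eq_one_of_sq_of_odd {x : G} (hx : x ^ 2 = 1) (hodd : Odd (orderOf x)) : x = 1 := by
  have h1 : orderOf x ∣ 2 := orderOf_dvd_of_pow_eq_one hx
  rcases (Nat.dvd_prime Nat.prime_two).1 h1 with h | h
  · exact orderOf_eq_one_iff.1 h
  · rw [h] at hodd
    exact absurd hodd (by decide)

theorem pow_normalizer {S₀ : Subgroup G} {y : G} (hy : y ∈ Subgroup.normalizer (S₀ : Set G))
    (k : ℕ) : y ^ k ∈ Subgroup.normalizer (S₀ : Set G) :=
  Subgroup.pow_mem _ hy k

theorem conj_mem_of_normalizer {S₀ : Subgroup G} {y : G}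
    (hy : y ∈ Subgroup.normalizer (S₀ : Set G)) {u : G} (hu : u ∈ S₀) : y * u * y⁻¹ ∈ S₀ :=
  (Subgroup.mem_normalizer_iff.1 hy u).1 hu

/-- The `A₄` case. -/
theorem alt_four_of_four [Finite G] (H S₀ : Subgroup G) (y : G)
    (hcard : Nat.card S₀ = 4) (hsq : ∀ q ∈ S₀, q ^ 2 = 1)
    (hcent : Subgroup.centralizer (S₀ : Set G) = S₀)
    (hodd : Odd (orderOf y)) (hyn : y ∈ Subgroup.normalizer (S₀ : Set G))
    (hyc : y ∉ Subgroup.centralizer (S₀ : Set G)) (hsup : S₀ ⊔ Subgroup.zpowers y = H) :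
    Nonempty (H ≃* alternatingGroup (Fin 4)) := by
  -- the basic fixing principle
  have key : ∀ g : G, g ∈ Subgroup.normalizer (S₀ : Set G) → Odd (orderOf g) →
      ∀ t ∈ S₀, t ≠ 1 → g * t * g⁻¹ = t → g ∈ Subgroup.centralizer (S₀ : Set G) :=
    fun g hg hgo t ht ht1 hgt => mem_centralizer_four_of_fix S₀ hcard hsq hg hgo ht ht1 hgt
  have hy_fix : ∀ t ∈ S₀, t ≠ 1 → y * t * y⁻¹ ≠ t := fun t ht ht1 h =>
    hyc (key y hyn hodd t ht ht1 h)
  -- `y ^ 2` does not centralize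
  have hy2c : y ^ 2 ∉ Subgroup.centralizer (S₀ : Set G) := by
    intro h
    apply hyc
    obtain ⟨m, hm⟩ := hodd
    have h1 : y = (y ^ 2) ^ (m + 1) := by
      rw [← pow_mul]
      have : 2 * (m + 1) = orderOf y + 1 := by omega
      rw [this, pow_succ, pow_orderOf_eq_one, one_mul]
    rw [h1]
    exact Subgroup.pow_mem _ h _
  have hy2_fix : ∀ t ∈ S₀, t ≠ 1 → y ^ 2 * t * (y ^ 2)⁻¹ ≠ t := fun t ht ht1 h =>
    hy2c (key _ (pow_normalizer hyn 2) (odd_orderOf_pow hodd 2) t ht ht1 h)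
  -- a nontrivial element
  have hfinS : Finite S₀ := Nat.finite_of_card_ne_zero (by rw [hcard]; norm_num)
  obtain ⟨u, huS, hu1⟩ : ∃ u ∈ S₀, u ≠ 1 := by
    by_contra hcon
    push Not at hcon
    have : S₀ = ⊥ := by
      rw [eq_bot_iff]
      intro x hx
      rw [Subgroup.mem_bot]
      exact hcon x hx
    rw [this, Subgroup.card_bot] at hcard
    omega
  obtain ⟨u', hu'⟩ : ∃ u', u' = y * u * y⁻¹ := ⟨_, rfl⟩
  obtain ⟨u'', hu''⟩ : ∃ u'', u'' = y * u' * y⁻¹ := ⟨_, rfl⟩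
  have hu'S : u' ∈ S₀ := by rw [hu']; exact conj_mem_of_normalizer hyn huS
  have hu''S : u'' ∈ S₀ := by rw [hu'']; exact conj_mem_of_normalizer hyn hu'S
  have hu'1 : u' ≠ 1 := by
    intro h
    apply hu1
    rw [hu'] at h
    have : u = y⁻¹ * (y * u * y⁻¹) * y := by group
    rw [this, h]; group
  have hu'u : u' ≠ u := by rw [hu']; exact hy_fix u huS hu1
  have hu''u' : u'' ≠ u' := by rw [hu'']; exact hy_fix u' hu'S hu'1
  have hu''u : u'' ≠ u := by
    intro h
    apply hy2_fix u huS hu1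
    have h1 : y ^ 2 * u * (y ^ 2)⁻¹ = u'' := by
      rw [hu'', hu', pow_two]; group
    rw [h1]; exact h
  have hu''1 : u'' ≠ 1 := by
    intro h
    apply hu'1
    rw [hu''] at h
    have : u' = y⁻¹ * (y * u' * y⁻¹) * y := by group
    rw [this, h]; group
  -- the four-group structure
  have huu : u * u = 1 := by rw [← pow_two]; exact hsq u huS
  have hu'u'' : u' * u' = 1 := by rw [← pow_two]; exact hsq u' hu'S
  have hcomm : u * u' = u' * u := by
    have h1 : (u * u') * (u * u') = 1 := by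
      rw [← pow_two]; exact hsq _ (S₀.mul_mem huS hu'S)
    have h2 : (u * u')⁻¹ = u * u' := inv_eq_of_mul_eq_one_right h1
    have h3 : u⁻¹ = u := inv_eq_of_mul_eq_one_right huu
    have h4 : u'⁻¹ = u' := inv_eq_of_mul_eq_one_right hu'u''
    rw [← h2, mul_inv_rev, h3, h4]
  have hS : S₀ = kleinOf u u' huu hu'u'' hcomm := by
    symm
    apply Subgroup.eq_of_le_of_card_ge
    · intro x hx
      rw [mem_kleinOf] at hx
      rcases hx with rfl | rfl | rfl | rfl
      · exact S₀.one_mem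
      · exact huS
      · exact hu'S
      · exact S₀.mul_mem huS hu'S
    · rw [card_kleinOf huu hu'u'' hcomm hu1 hu'1 (Ne.symm hu'u), hcard]
  have hu''eq : u'' = u * u' := by
    have h1 := hu''S
    rw [hS, mem_kleinOf] at h1
    rcases h1 with h | h | h | h
    · exact absurd h hu''1
    · exact absurd h hu''u
    · exact absurd h hu''u'
    · exact h
  -- `y ^ 3` fixes `u`
  have h3fix : y ^ 3 * u * (y ^ 3)⁻¹ = u := by
    have h1 : y ^ 3 * u * (y ^ 3)⁻¹ = y * u'' * y⁻¹ := by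
      have h0 : y ^ 3 = y * y * y := by rw [pow_succ, pow_two]
      rw [hu'', hu', h0]; group
    have h2 : y * u'' * y⁻¹ = (y * u * y⁻¹) * (y * u' * y⁻¹) := by rw [hu''eq]; group
    rw [h1, h2, ← hu', ← hu'', hu''eq, ← mul_assoc, ← hcomm, mul_assoc, hu'u'', mul_one]
  have h3c : y ^ 3 ∈ Subgroup.centralizer (S₀ : Set G) :=
    key _ (pow_normalizer hyn 3) (odd_orderOf_pow hodd 3) u huS hu1 h3fix
  have hy3 : y ^ 3 = 1 := by
    rw [hcent] at h3c
    exact eq_one_of_sq_of_odd (hsq _ h3c) (odd_orderOf_pow hodd 3)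
  have hy1 : y ≠ 1 := by
    rintro rfl
    exact hyc (Subgroup.one_mem _)
  have hyo : orderOf y = 3 := orderOf_eq_prime hy3 hy1
  -- the order of `H`
  have hTn : Subgroup.zpowers y ≤ Subgroup.normalizer (S₀ : Set G) := by
    rw [Subgroup.zpowers_le]; exact hyn
  have hcop : (Nat.card (Subgroup.zpowers y)).Coprime (Nat.card S₀) := by
    rw [Nat.card_zpowers, hyo, hcard]; decide
  have hHcard : Nat.card H = 12 := by
    rw [← hsup, sup_comm, card_sup_of_le_normalizer _ _ hTn hcop, Nat.card_zpowers, hyo, hcard]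
  have hyH : y ∈ H := by
    rw [← hsup]; exact Subgroup.mem_sup_right (Subgroup.mem_zpowers y)
  apply Cfsg.Agent.S0228.result hHcard
  intro z hz hzc
  have hz2 : (z : G) ^ 2 = 1 := by
    have : z ^ 2 = 1 := by rw [← hz]; exact pow_orderOf_eq_one z
    have := congrArg (fun v : H => (v : G)) this
    simpa using this
  have hz1 : (z : G) ≠ 1 := by
    intro h
    have : z = 1 := Subtype.ext h
    rw [this, orderOf_one] at hz
    omega
  have hzH : (z : G) ∈ Subgroup.zpowers y ⊔ S₀ := by rw [sup_comm, hsup]; exact z.2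
  obtain ⟨t, ht, v, hv, hzeq⟩ := exists_mul_of_mem_sup _ _ hTn hzH
  have htn : t⁻¹ ∈ Subgroup.normalizer (S₀ : Set G) := Subgroup.inv_mem _ (hTn ht)
  have ht2 : t ^ 2 ∈ S₀ := by
    have h1 : t ^ 2 = ((t⁻¹ * v * t⁻¹⁻¹) * v)⁻¹ := by
      have h2 : (t * v) ^ 2 = 1 := by rw [← hzeq]; exact hz2
      have h3 : t ^ 2 * ((t⁻¹ * v * t⁻¹⁻¹) * v) = (t * v) ^ 2 := by
        rw [pow_two, pow_two]; group
      rw [h2] at h3
      exact eq_inv_of_mul_eq_one_left h3
    rw [h1]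
    exact S₀.inv_mem (S₀.mul_mem (conj_mem_of_normalizer htn hv) hv)
  have hbot : Subgroup.zpowers y ⊓ S₀ = ⊥ := (Subgroup.disjoint_of_coprime_natCard hcop).eq_bot
  have ht2' : t ^ 2 = 1 := by
    have : t ^ 2 ∈ Subgroup.zpowers y ⊓ S₀ := ⟨Subgroup.pow_mem _ ht 2, ht2⟩
    rw [hbot, Subgroup.mem_bot] at this
    exact this
  have ht3 : t ^ 3 = 1 := by
    obtain ⟨i, rfl⟩ := Subgroup.mem_zpowers_iff.1 ht
    rw [← zpow_natCast, ← zpow_mul, mul_comm, zpow_mul, zpow_natCast, hy3, one_zpow]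
  have ht1 : t = 1 := by
    have : t = t ^ 3 * (t ^ 2)⁻¹ := by group
    rw [this, ht3, ht2']; group
  have hzv : (z : G) = v := by rw [hzeq, ht1, one_mul]
  have hzS : (z : G) ∈ S₀ := by rw [hzv]; exact hv
  have hyz : y * (z : G) * y⁻¹ = z := by
    have h1 := Subgroup.mem_center_iff.1 hzc ⟨y, hyH⟩
    have h2 := congrArg (fun v : H => (v : G)) h1
    simp only [Subgroup.coe_mul] at h2
    rw [mul_inv_eq_iff_eq_mul]
    exact h2
  exact hyc (key y hyn hodd _ hzS hz1 hyz)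

end Cfsg.Agent.Helper12.TBC
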