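import Mathlib
import Cfsg.Agent.Lib.Helper12.TwoByCyclic2

/-!
# Two-by-cyclic subgroups, part 3 (helper12): subgroups of dihedral `2`-groups
-/

set_option autoImplicit false

namespace Cfsg.Agent.Helper12.TBC

open Cfsg.Agent.Helper16 Cfsg.Agent.Helper13.KleinCount Cfsg.Agent.Helper13.A4Recog

variable {G : Type*} [Group G]

theorem conj_zpow_inv {t a : G} (h : t * a * t⁻¹ = a⁻¹) (m : ℤ) :
    t * a ^ m * t⁻¹ = (a ^ m)⁻¹ := by
  have h1 : t * a ^ m * t⁻¹ = (t * a * t⁻¹) ^ m := by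
    have := (MulAut.conj t).toMonoidHom.map_zpow a m
    simpa [MulAut.conj_apply] using this
  rw [h1, h, inv_zpow]

/-- A noncyclic subgroup of a dihedral `2`-group contains a four-group and is dihedral. -/
theorem dihedral_sub [Finite G] {Q : Subgroup G} {a : G} {j : ℕ} (hD : IsDihedralSub Q a j)
    (hj : 1 ≤ j) (S₀ : Subgroup G) (hSQ : S₀ ≤ Q) (hnc : ¬ IsCyclic S₀) :
    (∃ K : Subgroup G, K ≤ S₀ ∧ Nat.card K = 4 ∧ ∀ k ∈ K, k ^ 2 = 1) ∧
    ∃ n : ℕ, Nonempty (S₀ ≃* DihedralGroup (2 ^ n)) := by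
  have hnle : ¬ S₀ ≤ Subgroup.zpowers a := fun h => hnc (isCyclic_of_le' h inferInstance)
  obtain ⟨t, htS, hta⟩ := SetLike.not_le_iff_exists.1 hnle
  have htQ : t ∈ Q := hSQ htS
  have ht2 : t ^ 2 = 1 := hD.out_sq t htQ hta
  have htt : t * t = 1 := by rw [← pow_two]; exact ht2
  have htinv : t⁻¹ = t := inv_eq_of_mul_eq_one_right htt
  have hta' : t * a * t⁻¹ = a⁻¹ := hD.out_inv t htQ hta
  have ht1 : t ≠ 1 := by
    rintro rfl
    exact hta (Subgroup.one_mem _)
  -- the rotation part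
  have hBc : IsCyclic ↥(S₀ ⊓ Subgroup.zpowers a) :=
    isCyclic_of_le' (inf_le_right : S₀ ⊓ Subgroup.zpowers a ≤ Subgroup.zpowers a) inferInstance
  obtain ⟨b', hb'⟩ := hBc.exists_generator
  obtain ⟨b, hb⟩ : ∃ b : G, b = (b' : G) := ⟨_, rfl⟩
  have hbS : b ∈ S₀ := by rw [hb]; exact b'.2.1
  have hba : b ∈ Subgroup.zpowers a := by rw [hb]; exact b'.2.2
  have hzb : ∀ x : G, x ∈ S₀ → x ∈ Subgroup.zpowers a → x ∈ Subgroup.zpowers b := by
    intro x hx1 hx2
    obtain ⟨k, hk⟩ := Subgroup.mem_zpowers_iff.1 (hb' ⟨x, ⟨hx1, hx2⟩⟩)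
    rw [Subgroup.mem_zpowers_iff]
    refine ⟨k, ?_⟩
    have := congrArg (fun v : ↥(S₀ ⊓ Subgroup.zpowers a) => (v : G)) hk
    rw [hb]
    simpa using this
  have hzb' : Subgroup.zpowers b ≤ Subgroup.zpowers a := by
    rw [Subgroup.zpowers_le]; exact hba
  have hzbS : Subgroup.zpowers b ≤ S₀ := by
    rw [Subgroup.zpowers_le]; exact hbS
  -- conjugation by `t` inverts the rotations
  have htinvert : ∀ x ∈ Subgroup.zpowers a, t * x * t⁻¹ = x⁻¹ := by
    intro x hx
    obtain ⟨m, rfl⟩ := Subgroup.mem_zpowers_iff.1 hx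
    exact conj_zpow_inv hta' m
  -- elements outside
  have hout : ∀ s ∈ S₀, s ∉ Subgroup.zpowers a → s * t ∈ Subgroup.zpowers b := by
    intro s hs hsa
    exact hzb _ (S₀.mul_mem hs htS) (hD.out_mul s (hSQ hs) t htQ hsa hta)
  have hb1 : b ≠ 1 := by
    intro hb1
    apply hnc
    have hle : S₀ ≤ Subgroup.zpowers t := by
      intro s hs
      by_cases hsa : s ∈ Subgroup.zpowers a
      · have := hzb s hs hsa
        rw [hb1, Subgroup.zpowers_one_eq_bot, Subgroup.mem_bot] at this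
        rw [this]; exact Subgroup.one_mem _
      · have := hout s hs hsa
        rw [hb1, Subgroup.zpowers_one_eq_bot, Subgroup.mem_bot] at this
        have h2 : s = t⁻¹ := eq_inv_of_mul_eq_one_left this
        rw [h2]
        exact Subgroup.inv_mem _ (Subgroup.mem_zpowers t)
    exact isCyclic_of_le' hle inferInstance
  -- order of `b`
  have hbo : ∃ i, 1 ≤ i ∧ orderOf b = 2 ^ i := by
    have h1 : orderOf b ∣ 2 ^ j := by
      rw [← hD.hao]
      obtain ⟨m, rfl⟩ := Subgroup.mem_zpowers_iff.1 hba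
      apply orderOf_dvd_of_pow_eq_one
      rw [← zpow_natCast, ← zpow_mul, mul_comm, zpow_mul, zpow_natCast, pow_orderOf_eq_one,
        one_zpow]
    obtain ⟨i, -, hi⟩ := (Nat.dvd_prime_pow Nat.prime_two).1 h1
    refine ⟨i, ?_, hi⟩
    rcases Nat.eq_zero_or_pos i with h0 | h0
    · rw [h0, pow_zero, orderOf_eq_one_iff] at hi
      exact absurd hi hb1
    · exact h0
  obtain ⟨i, hi1, hbo⟩ := hbo
  -- the central involution
  obtain ⟨z, hz⟩ : ∃ z, z = a ^ 2 ^ (j - 1) := ⟨_, rfl⟩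
  have hzmem : z ∈ Subgroup.zpowers b := by
    have h1 : (b ^ 2 ^ (i - 1)) ^ 2 = 1 := pow_half_sq hi1 hbo
    have h2 : b ^ 2 ^ (i - 1) ≠ 1 := pow_half_ne_one hi1 hbo
    have h3 : b ^ 2 ^ (i - 1) ∈ Subgroup.zpowers a := Subgroup.pow_mem _ hba _
    rcases hD.eq_one_or_of_sq hj h3 h1 with h4 | h4
    · exact absurd h4 h2
    · rw [hz, ← h4]
      exact Subgroup.pow_mem _ (Subgroup.mem_zpowers b) _
  have hzS : z ∈ S₀ := hzbS hzmem
  have hza : z ∈ Subgroup.zpowers a := hzb' hzmem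
  have hz2 : z ^ 2 = 1 := by rw [hz]; exact pow_half_sq hj hD.hao
  have hzz : z * z = 1 := by rw [← pow_two]; exact hz2
  have hz1 : z ≠ 1 := by rw [hz]; exact pow_half_ne_one hj hD.hao
  have hzinv : z⁻¹ = z := inv_eq_of_mul_eq_one_right hzz
  have hzt : z * t = t * z := by
    have h1 := htinvert z hza
    rw [hzinv, mul_inv_eq_iff_eq_mul] at h1
    exact h1.symm
  have hzt' : z ≠ t := fun h => hta (h ▸ hza)
  refine ⟨⟨kleinOf z t hzz htt hzt, ?_, card_kleinOf hzz htt hzt hz1 ht1 hzt', ?_⟩, ?_⟩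
  · intro x hx
    rw [mem_kleinOf] at hx
    rcases hx with rfl | rfl | rfl | rfl
    · exact S₀.one_mem
    · exact hzS
    · exact htS
    · exact S₀.mul_mem hzS htS
  · intro x hx
    rw [mem_kleinOf] at hx
    rcases hx with rfl | rfl | rfl | rfl
    · exact one_pow 2
    · exact hz2
    · exact ht2
    · rw [pow_two, mul_assoc, ← mul_assoc t, ← hzt, mul_assoc, htt, mul_one, hzz]
  · -- the dihedral structure
    refine ⟨i, ?_⟩
    have : NeZero (2 ^ i) := ⟨by positivity⟩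
    have hbo' : orderOf (⟨b, hbS⟩ : S₀) = 2 ^ i := by
      rw [← hbo, ← Subgroup.orderOf_coe]
    have hmemiff : ∀ s : S₀, s ∈ Subgroup.zpowers (⟨b, hbS⟩ : S₀) ↔
        (s : G) ∈ Subgroup.zpowers a := by
      intro s
      rw [← coe_mem_zpowers_iff]
      constructor
      · intro h; exact hzb' h
      · intro h; exact hzb _ s.2 h
    have hidx : (Subgroup.zpowers (⟨b, hbS⟩ : S₀)).index = 2 := by
      rw [Subgroup.index_eq_two_iff]
      refine ⟨⟨t, htS⟩, fun s => ?_⟩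
      rw [hmemiff, hmemiff]
      by_cases hsa : (s : G) ∈ Subgroup.zpowers a
      · refine Or.inr ⟨hsa, ?_⟩
        intro h
        apply hta
        have h1 : t = (s : G)⁻¹ * ((s : G) * t) := by group
        rw [h1]
        exact Subgroup.mul_mem _ (Subgroup.inv_mem _ hsa) h
      · refine Or.inl ⟨?_, hsa⟩
        exact hzb' (hout _ s.2 hsa)
    apply Cfsg.Agent.Lead.nonempty_mulEquiv_dihedral (2 ^ i) (⟨b, hbS⟩ : S₀) (⟨t, htS⟩ : S₀) hbo'
    · exact Subtype.ext htt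
    · apply Subtype.ext
      have h1 := htinvert b hba
      rw [htinv] at h1
      simpa using h1
    · rw [hmemiff]; exact hta
    · have h1 := Subgroup.card_mul_index (Subgroup.zpowers (⟨b, hbS⟩ : S₀))
      rw [hidx, Nat.card_zpowers, hbo'] at h1
      rw [← h1, mul_comm]

end Cfsg.Agent.Helper12.TBC
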