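import Mathlib
import Cfsg.Agent.Lib.Helper12.TwoByCyclic3

/-!
# Two-by-cyclic subgroups, part 4 (helper12): assembling
-/

set_option autoImplicit false

namespace Cfsg.Agent.Helper12.TBC

open Cfsg.Agent.Helper16 Cfsg.Agent.Helper13.KleinCount Cfsg.Agent.Helper13.A4Recog
open scoped Pointwise

variable {G : Type*} [Group G]

/-- The hypothesis on a Sylow `2`-subgroup. -/
def Hyp (P : Subgroup G) : Prop :=
  IsCyclic P ∨
    ((∃ n : ℕ, 1 ≤ n ∧ Nonempty (P ≃* DihedralGroup (2 ^ n))) ∧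
      ∀ K : Subgroup G, K ≤ P → Nat.card K = 4 → (∀ k ∈ K, k ^ 2 = 1) →
        Subgroup.centralizer (K : Set G) = K)

/-- conjugation as an isomorphism between a subgroup and its conjugate -/
noncomputable def conjEquiv (P Q : Subgroup G) (g : G) (hQ : ∀ x, x ∈ Q ↔ g⁻¹ * x * g ∈ P) :
    Q ≃* P where
  toFun x := ⟨g⁻¹ * x * g, (hQ x).1 x.2⟩
  invFun p := ⟨g * p * g⁻¹, (hQ _).2 (by
    have : g⁻¹ * (g * (p : G) * g⁻¹) * g = p := by group
    rw [this]; exact p.2)⟩
  left_inv x := by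
    apply Subtype.ext
    show g * (g⁻¹ * (x : G) * g) * g⁻¹ = x
    group
  right_inv p := by
    apply Subtype.ext
    show g⁻¹ * (g * (p : G) * g⁻¹) * g = p
    group
  map_mul' x y := by
    apply Subtype.ext
    show g⁻¹ * ((x : G) * (y : G)) * g = (g⁻¹ * (x : G) * g) * (g⁻¹ * (y : G) * g)
    group

theorem Hyp.transport {P Q : Subgroup G} (h : Hyp P) (g : G)
    (hQ : ∀ x, x ∈ Q ↔ g⁻¹ * x * g ∈ P) : Hyp Q := by
  have e := conjEquiv P Q g hQ
  rcases h with h | ⟨⟨n, hn, ⟨e0⟩⟩, hK⟩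
  · left
    exact isCyclic_of_surjective e.symm e.symm.surjective
  · right
    refine ⟨⟨n, hn, ⟨e.trans e0⟩⟩, ?_⟩
    intro K hKQ hcard hsq
    have hinj : Function.Injective (MulAut.conj g⁻¹).toMonoidHom := (MulAut.conj g⁻¹).injective
    have hmem : ∀ x : G, x ∈ K.map (MulAut.conj g⁻¹).toMonoidHom ↔ g * x * g⁻¹ ∈ K := by
      intro x
      rw [Subgroup.mem_map]
      constructor
      · rintro ⟨k, hk, rfl⟩
        have : g * ((MulAut.conj g⁻¹).toMonoidHom k) * g⁻¹ = k := by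
          simp only [MulEquiv.toMonoidHom_eq_coe, MonoidHom.coe_coe, MulAut.conj_apply, inv_inv]
          group
        rw [this]; exact hk
      · intro hx
        refine ⟨g * x * g⁻¹, hx, ?_⟩
        simp only [MulEquiv.toMonoidHom_eq_coe, MonoidHom.coe_coe, MulAut.conj_apply, inv_inv]
        group
    have h1 := hK (K.map (MulAut.conj g⁻¹).toMonoidHom) ?_ ?_ ?_
    · ext x
      have h2 : x ∈ K ↔ g⁻¹ * x * g ∈ K.map (MulAut.conj g⁻¹).toMonoidHom := by
        rw [hmem]
        have : g * (g⁻¹ * x * g) * g⁻¹ = x := by group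
        rw [this]
      rw [h2, ← h1, Subgroup.mem_centralizer_iff, Subgroup.mem_centralizer_iff]
      constructor
      · intro hx k hk
        have hk' : g * k * g⁻¹ ∈ K := (hmem k).1 hk
        have := hx _ hk'
        calc k * (g⁻¹ * x * g) = g⁻¹ * ((g * k * g⁻¹) * x) * g := by group
          _ = g⁻¹ * (x * (g * k * g⁻¹)) * g := by rw [this]
          _ = g⁻¹ * x * g * k := by group
      · intro hx k hk
        have hk' : g⁻¹ * k * g ∈ K.map (MulAut.conj g⁻¹).toMonoidHom := by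
          rw [hmem]
          have : g * (g⁻¹ * k * g) * g⁻¹ = k := by group
          rw [this]; exact hk
        have := hx _ hk'
        calc k * x = g * ((g⁻¹ * k * g) * (g⁻¹ * x * g)) * g⁻¹ := by group
          _ = g * ((g⁻¹ * x * g) * (g⁻¹ * k * g)) * g⁻¹ := by rw [this]
          _ = x * k := by group
    · intro x hx
      have h2 := (hQ _).1 (hKQ ((hmem x).1 hx))
      have : g⁻¹ * (g * x * g⁻¹) * g = x := by group
      rw [this] at h2
      exact h2
    · rw [Subgroup.card_map_of_injective hinj, hcard]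
    · intro x hx
      have h2 := hsq _ ((hmem x).1 hx)
      have h3 : (g * x * g⁻¹) ^ 2 = g * x ^ 2 * g⁻¹ := by rw [pow_two, pow_two]; group
      rw [h3] at h2
      have : x ^ 2 = g⁻¹ * (g * x ^ 2 * g⁻¹) * g := by group
      rw [this, h2]; group

theorem Hyp.smul {P : Sylow 2 G} (h : Hyp (P : Subgroup G)) (g : G) :
    Hyp ((g • P : Sylow 2 G) : Subgroup G) := by
  apply h.transport g
  intro x
  rw [Sylow.coe_subgroup_smul, Subgroup.mem_pointwise_smul_iff_inv_smul_mem, MulAut.smul_def,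
    ← map_inv, MulAut.conj_apply, inv_inv]

/-- The backward direction. -/
theorem backward [Finite G] (P : Sylow 2 G) (hP : Hyp (P : Subgroup G)) (H : Subgroup G)
    (hS : ∀ S : Sylow 2 ↥H, (S : Subgroup ↥H).Normal)
    (hc : ∀ (S : Sylow 2 ↥H) [(S : Subgroup ↥H).Normal], IsCyclic (↥H ⧸ (S : Subgroup ↥H))) :
    IsCyclic H ∨ (∃ n : ℕ, Nonempty (H ≃* DihedralGroup (2 ^ n))) ∨
      Nonempty (H ≃* alternatingGroup (Fin 4)) := by
  have hF : Fact (Nat.Prime 2) := ⟨Nat.prime_two⟩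
  obtain ⟨S₀, y, h2, hodd, hyn, hsup⟩ := exists_data H hS hc
  obtain ⟨Q, hSQ⟩ := h2.exists_le_sylow
  obtain ⟨g, hg⟩ := MulAction.exists_smul_eq G P Q
  have hQ : Hyp (Q : Subgroup G) := by rw [← hg]; exact hP.smul g
  -- the case where `y` centralizes and `S₀` is cyclic
  have hcase : IsCyclic S₀ → IsCyclic H := by
    intro hcyc
    have hno : NoOddAut S₀ := NoOddAut.of_isPGroup (mulAut_isPGroup_of_isCyclic' h2 hcyc)
    exact isCyclic_of_centralizes H S₀ y h2 hodd hcyc (mem_centralizer_of_noOddAut S₀ hno hyn hodd)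
      hsup
  rcases hQ with hQ | ⟨⟨n, hn, ⟨e0⟩⟩, hK⟩
  · left
    exact hcase (isCyclic_of_le' hSQ hQ)
  · by_cases hcyc : IsCyclic S₀
    · left; exact hcase hcyc
    right
    obtain ⟨a, j, hD, hnj⟩ := exists_isDihedralSub (Q : Subgroup G) Q.2 (2 ^ n) e0
    have hj : 1 ≤ j := by
      have : n = j := Nat.pow_right_injective (le_refl 2) hnj
      omega
    obtain ⟨⟨K, hKS, hKcard, hKsq⟩, ⟨m, hm⟩⟩ := dihedral_sub hD hj S₀ hSQ hcyc
    have hKcent := hK K (hKS.trans hSQ) hKcard hKsq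
    by_cases hyc : y ∈ Subgroup.centralizer (S₀ : Set G)
    · left
      have hyK : y ∈ K := by
        rw [← hKcent]
        exact Subgroup.centralizer_le hKS hyc
      have hy1 : y = 1 := eq_one_of_sq_of_odd (hKsq y hyK) hodd
      have hHS : H = S₀ := by
        rw [← hsup, hy1, Subgroup.zpowers_one_eq_bot, sup_bot_eq]
      rw [hHS]
      exact ⟨m, hm⟩
    · right
      obtain ⟨hc4, hsq4⟩ := four_of_odd_normalizer_dihedral (Q : Subgroup G) hD.mem hD.hao hD.card
        hD.out_sq S₀ hSQ hyn hodd hyc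
      exact alt_four_of_four H S₀ y hc4 hsq4 (hK S₀ hSQ hc4 hsq4) hodd hyn hyc hsup

end Cfsg.Agent.Helper12.TBC
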