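import Mathlib
import Cfsg.Agent.Lib.Helper12.TwoByCyclic4

/-!
# Two-by-cyclic subgroups, part 5 (helper12): the forward direction
-/

set_option autoImplicit false

namespace Cfsg.Agent.Helper12.TBC

open Cfsg.Agent.Helper16 Cfsg.Agent.Helper13.KleinCount Cfsg.Agent.Helper13.A4Recog
open scoped Pointwise

variable {G : Type*} [Group G]

theorem alt_four_not_comm : ¬ ∀ a b : alternatingGroup (Fin 4), a * b = b * a := by decide

theorem dihedral_comm_le {m : ℕ} (h : ∀ a b : DihedralGroup m, a * b = b * a) : m ∣ 2 := by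
  have h1 := h (DihedralGroup.r 1) (DihedralGroup.sr 0)
  rw [DihedralGroup.r_mul_sr, DihedralGroup.sr_mul_r] at h1
  have h2 : (0 : ZMod m) - 1 = 0 + 1 := by
    injection h1
  have h3 : ((2 : ℕ) : ZMod m) = 0 := by
    have : (2 : ZMod m) = (0 + 1) - (0 - 1) := by ring
    rw [Nat.cast_ofNat, this, h2]; ring
  exact (ZMod.natCast_eq_zero_iff 2 m).1 h3

/-- The conclusion type. -/
def Concl (H : Subgroup G) : Prop :=
  IsCyclic H ∨ (∃ n : ℕ, Nonempty (H ≃* DihedralGroup (2 ^ n))) ∨
    Nonempty (H ≃* alternatingGroup (Fin 4))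

/-- The hypothesis on subgroups. -/
def AllTBC (G : Type*) [Group G] : Prop :=
  ∀ H : Subgroup G, (∀ S : Sylow 2 ↥H, (S : Subgroup ↥H).Normal) →
    (∀ (S : Sylow 2 ↥H) [(S : Subgroup ↥H).Normal], IsCyclic (↥H ⧸ (S : Subgroup ↥H))) → Concl H

/-- A four-group is self-centralizing under the hypothesis. -/
theorem centralizer_four [Finite G] (hyp : AllTBC G) (K : Subgroup G) (hcard : Nat.card K = 4)
    (hsq : ∀ k ∈ K, k ^ 2 = 1) : Subgroup.centralizer (K : Set G) = K := by
  have hF : Fact (Nat.Prime 2) := ⟨Nat.prime_two⟩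
  -- `K` is abelian
  have hKcomm : ∀ a ∈ K, ∀ b ∈ K, a * b = b * a := by
    intro a ha b hb
    have h1 : (a * b) * (a * b) = 1 := by rw [← pow_two]; exact hsq _ (K.mul_mem ha hb)
    have h2 : (a * b)⁻¹ = a * b := inv_eq_of_mul_eq_one_right h1
    have h3 : a⁻¹ = a := inv_eq_of_mul_eq_one_right (by rw [← pow_two]; exact hsq a ha)
    have h4 : b⁻¹ = b := inv_eq_of_mul_eq_one_right (by rw [← pow_two]; exact hsq b hb)
    rw [← h2, mul_inv_rev, h3, h4]
  apply le_antisymm
  swap
  · intro a ha
    rw [Subgroup.mem_centralizer_iff]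
    intro b hb
    exact hKcomm b hb a ha
  intro x hx
  obtain ⟨H, hH⟩ : ∃ H : Subgroup G, H = K ⊔ Subgroup.zpowers x := ⟨_, rfl⟩
  have hKH : K ≤ H := by rw [hH]; exact le_sup_left
  have hxH : x ∈ H := by rw [hH]; exact Subgroup.mem_sup_right (Subgroup.mem_zpowers x)
  have hxK : ∀ k ∈ K, k * x = x * k := fun k hk => (Subgroup.mem_centralizer_iff.1 hx k hk)
  -- `H` is abelian
  have hHcomm : ∀ a ∈ H, ∀ b ∈ H, a * b = b * a := by
    have hstep : ∀ a : G, (∀ k ∈ K, k * a = a * k) → x * a = a * x →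
        ∀ b ∈ H, a * b = b * a := by
      intro a hak hax b hb
      have hle : H ≤ Subgroup.centralizer ({a} : Set G) := by
        rw [hH, sup_le_iff, Subgroup.zpowers_le]
        constructor
        · intro k hk
          rw [Subgroup.mem_centralizer_singleton_iff]
          exact hak k hk
        · rw [Subgroup.mem_centralizer_singleton_iff]
          exact hax
      have := hle hb
      rw [Subgroup.mem_centralizer_singleton_iff] at this
      exact this.symm
    intro a ha b hb
    apply hstep a ?_ ?_ b hb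
    · intro k hk
      exact hstep k (fun k' hk' => hKcomm k' hk' k hk) (hxK k hk).symm a ha
    · exact hstep x (fun k hk => hxK k hk) rfl a ha
  have hHcomm' : ∀ a b : H, a * b = b * a := fun a b =>
    Subtype.ext (hHcomm a a.2 b b.2)
  -- normality
  have hnorm : ∀ S : Sylow 2 ↥H, (S : Subgroup ↥H).Normal := by
    intro S
    refine ⟨fun n hn g => ?_⟩
    have : g * n * g⁻¹ = n := by rw [hHcomm' g n, mul_inv_cancel_right]
    rw [this]; exact hn
  -- the quotient is cyclic
  have hquot : ∀ (S : Sylow 2 ↥H) [(S : Subgroup ↥H).Normal],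
      IsCyclic (↥H ⧸ (S : Subgroup ↥H)) := by
    intro S hSn
    have hKS : K.subgroupOf H ≤ (S : Subgroup ↥H) := by
      have h2 : IsPGroup 2 (K.subgroupOf H) := by
        apply IsPGroup.of_card (n := 2)
        rw [Nat.card_congr (Subgroup.subgroupOfEquivOfLe hKH).toEquiv, hcard]; norm_num
      obtain ⟨S', hS'⟩ := h2.exists_le_sylow
      have := Sylow.unique_of_normal S hSn
      rw [Subsingleton.elim S S']
      exact hS'
    refine ⟨⟨QuotientGroup.mk (⟨x, hxH⟩ : H), fun q => ?_⟩⟩
    induction q using QuotientGroup.induction_on with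
    | H h =>
      have hTn : Subgroup.zpowers x ≤ Subgroup.normalizer (K : Set G) := by
        rw [Subgroup.zpowers_le]
        exact Subgroup.centralizer_le_normalizer _ hx
      have hh : (h : G) ∈ Subgroup.zpowers x ⊔ K := by rw [sup_comm, ← hH]; exact h.2
      obtain ⟨t, ht, v, hv, hzeq⟩ := exists_mul_of_mem_sup _ _ hTn hh
      obtain ⟨i, rfl⟩ := Subgroup.mem_zpowers_iff.1 ht
      refine ⟨i, ?_⟩
      show (QuotientGroup.mk (⟨x, hxH⟩ : H) : ↥H ⧸ (S : Subgroup ↥H)) ^ i = QuotientGroup.mk h
      rw [← QuotientGroup.mk_zpow]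
      apply QuotientGroup.eq.2
      have hvH : v ∈ H := hKH hv
      have : ((⟨x, hxH⟩ : H) ^ i)⁻¹ * h = ⟨v, hvH⟩ := by
        apply Subtype.ext
        simp only [Subgroup.coe_mul, Subgroup.coe_inv, Subgroup.coe_zpow]
        rw [hzeq]; group
      rw [this]
      apply hKS
      rw [Subgroup.mem_subgroupOf]
      exact hv
  rcases hyp H hnorm hquot with h | ⟨n, ⟨e⟩⟩ | ⟨⟨e⟩⟩
  · exfalso
    have hKc : IsCyclic K := isCyclic_of_le' hKH h
    obtain ⟨k, hk⟩ := hKc.exists_generator
    have h1 : orderOf k = 4 := by rw [orderOf_eq_card_of_forall_mem_zpowers hk, hcard]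
    have h2 : k ^ 2 = 1 := Subtype.ext (by simpa using hsq k k.2)
    have h3 := orderOf_dvd_of_pow_eq_one h2
    rw [h1] at h3
    omega
  · have hD : ∀ a b : DihedralGroup (2 ^ n), a * b = b * a := by
      intro a b
      have := hHcomm' (e.symm a) (e.symm b)
      rw [← map_mul, ← map_mul] at this
      exact e.symm.injective this
    have h1 : 2 ^ n ≤ 2 := Nat.le_of_dvd two_pos (dihedral_comm_le hD)
    have hpos : 0 < 2 ^ n := by positivity
    have : NeZero (2 ^ n) := ⟨hpos.ne'⟩
    have h2 : Nat.card H ≤ Nat.card K := by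
      rw [Nat.card_congr e.toEquiv, DihedralGroup.nat_card, hcard]; omega
    have h3 : K = H := Subgroup.eq_of_le_of_card_ge hKH h2
    rw [h3]; exact hxH
  · exfalso
    apply alt_four_not_comm
    intro a b
    have := hHcomm' (e.symm a) (e.symm b)
    rw [← map_mul, ← map_mul] at this
    exact e.symm.injective this

/-- The forward direction. -/
theorem forward [Finite G] (P : Sylow 2 G) (hyp : AllTBC G) : Hyp (P : Subgroup G) := by
  have hF : Fact (Nat.Prime 2) := ⟨Nat.prime_two⟩
  have htop : ∀ S : Sylow 2 ↥(P : Subgroup G), (S : Subgroup ↥(P : Subgroup G)) = ⊤ := by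
    intro S
    have h1 : IsPGroup 2 (⊤ : Subgroup ↥(P : Subgroup G)) := P.2.to_subgroup _
    exact (S.is_maximal' h1 le_top).symm
  have hnorm : ∀ S : Sylow 2 ↥(P : Subgroup G), (S : Subgroup ↥(P : Subgroup G)).Normal := by
    intro S
    rw [htop S]
    infer_instance
  have hquot : ∀ (S : Sylow 2 ↥(P : Subgroup G)) [(S : Subgroup ↥(P : Subgroup G)).Normal],
      IsCyclic (↥(P : Subgroup G) ⧸ (S : Subgroup ↥(P : Subgroup G))) := by
    intro S hSn
    have : Subsingleton (↥(P : Subgroup G) ⧸ (S : Subgroup ↥(P : Subgroup G))) := by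
      refine ⟨fun a b => ?_⟩
      induction a using QuotientGroup.induction_on with
      | H a =>
        induction b using QuotientGroup.induction_on with
        | H b =>
          apply QuotientGroup.eq.2
          rw [htop S]
          exact Subgroup.mem_top _
    exact isCyclic_of_subsingleton
  obtain ⟨k, hk⟩ := IsPGroup.iff_card.1 P.2
  rcases hyp (P : Subgroup G) hnorm hquot with h | ⟨n, ⟨e⟩⟩ | ⟨⟨e⟩⟩
  · left; exact h
  · have hpos : 0 < 2 ^ n := by positivity
    have : NeZero (2 ^ n) := ⟨hpos.ne'⟩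
    rcases Nat.eq_zero_or_pos n with h0 | h0
    · left
      apply isCyclic_of_prime_card (p := 2)
      rw [Nat.card_congr e.toEquiv, DihedralGroup.nat_card, h0, pow_zero, mul_one]
    · right
      exact ⟨⟨n, h0, ⟨e⟩⟩, fun K _ hcard hsq => centralizer_four hyp K hcard hsq⟩
  · exfalso
    have h1 : Nat.card (P : Subgroup G) = 12 := by
      rw [Nat.card_congr e.toEquiv, Nat.card_eq_fintype_card]
      decide
    rw [hk] at h1
    have hk4 : k < 4 := by
      by_contra hcon
      have : 2 ^ 4 ≤ 2 ^ k := Nat.pow_le_pow_right two_pos (by omega)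
      omega
    interval_cases k <;> omega

end Cfsg.Agent.Helper12.TBC
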