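import Mathlib
import Cfsg.Agent.Lib.Helper12.TwoByCyclic5

/-!
# `p`-by-cyclic subgroups for odd `p` (helper12), part 1
-/

set_option autoImplicit false

namespace Cfsg.Agent.Helper12.PBC

open Cfsg.Agent.Helper16 Cfsg.Agent.Helper13.A4Recog

/-- Abstract form: a finite group with a normal Sylow `p`-subgroup and cyclic quotient is
generated by the Sylow subgroup and an element of order prime to `p`. -/
theorem exists_gen {X : Type*} [Group X] [Finite X] {p : ℕ} [hF : Fact p.Prime] (S : Sylow p X)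
    (hn : (S : Subgroup X).Normal) (hc : IsCyclic (X ⧸ (S : Subgroup X))) :
    ∃ y : X, (orderOf y).Coprime p ∧ (S : Subgroup X) ⊔ Subgroup.zpowers y = ⊤ := by
  obtain ⟨Q, hQ⟩ := Subgroup.exists_left_complement'_of_coprime (N := (S : Subgroup X))
    S.card_coprime_index
  have e : X ⧸ (S : Subgroup X) ≃* Q := hQ.QuotientMulEquiv
  have hQc : IsCyclic Q := isCyclic_of_surjective e e.surjective
  obtain ⟨q, hq⟩ := hQc.exists_generator
  refine ⟨(q : X), ?_, ?_⟩
  · rw [Subgroup.orderOf_coe, orderOf_eq_card_of_forall_mem_zpowers hq, ← hQ.index_eq_card]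
    exact ((Nat.Prime.coprime_iff_not_dvd hF.out).2 S.not_dvd_index).symm
  · have h1 : Subgroup.zpowers (q : X) = Q := by
      apply le_antisymm
      · rw [Subgroup.zpowers_le]; exact q.2
      · intro x hx
        obtain ⟨k, hk⟩ := Subgroup.mem_zpowers_iff.1 (hq ⟨x, hx⟩)
        rw [Subgroup.mem_zpowers_iff]
        refine ⟨k, ?_⟩
        have := congrArg (fun v : Q => (v : X)) hk
        simpa using this
    rw [h1, sup_comm]
    exact hQ.sup_eq_top

variable {G : Type*} [Group G]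

/-- The ambient data attached to a `p`-by-cyclic subgroup. -/
theorem exists_data [Finite G] {p : ℕ} [hF : Fact p.Prime] (H : Subgroup G)
    (hS : ∀ S : Sylow p ↥H, (S : Subgroup ↥H).Normal)
    (hc : ∀ (S : Sylow p ↥H) [(S : Subgroup ↥H).Normal], IsCyclic (↥H ⧸ (S : Subgroup ↥H))) :
    ∃ (S₀ : Subgroup G) (y : G), IsPGroup p S₀ ∧ (orderOf y).Coprime p ∧
      y ∈ Subgroup.normalizer (S₀ : Set G) ∧ S₀ ⊔ Subgroup.zpowers y = H := by
  obtain ⟨S⟩ : Nonempty (Sylow p ↥H) := inferInstance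
  haveI := hS S
  obtain ⟨y, hy, hsup⟩ := exists_gen S (hS S) (hc S)
  refine ⟨(S : Subgroup ↥H).map H.subtype, (y : G), ?_, ?_, ?_, ?_⟩
  · exact S.2.map H.subtype
  · rw [Subgroup.orderOf_coe]; exact hy
  · rw [Subgroup.mem_normalizer_iff]
    intro g
    constructor
    · rintro ⟨s, hs, rfl⟩
      exact ⟨y * s * y⁻¹, (hS S).conj_mem s hs y, by simp⟩
    · rintro ⟨s, hs, hs'⟩
      have hgH : g ∈ H := by
        have h1 : (y : G)⁻¹ * ((y : G) * g * (y : G)⁻¹) * (y : G) = g := by group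
        rw [← h1, ← hs']
        exact H.mul_mem (H.mul_mem (H.inv_mem y.2) s.2) y.2
      refine ⟨⟨g, hgH⟩, ?_, rfl⟩
      have h2 : (⟨g, hgH⟩ : H) = y⁻¹ * s * y⁻¹⁻¹ := by
        apply Subtype.ext
        simp only [Subgroup.coe_mul, Subgroup.coe_inv, inv_inv]
        rw [show ((s : H) : G) = (y : G) * g * (y : G)⁻¹ from hs']
        group
      rw [h2]
      exact (hS S).conj_mem s hs y⁻¹
  · have h1 := congrArg (Subgroup.map H.subtype) hsup
    rw [Subgroup.map_sup, MonoidHom.map_zpowers, ← MonoidHom.range_eq_map,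
      Subgroup.range_subtype] at h1
    exact h1

/-- Product of a cyclic `p`-group and a centralizing element of order prime to `p`. -/
theorem isCyclic_of_centralizes [Finite G] {p : ℕ} [hF : Fact p.Prime] (H S₀ : Subgroup G) (y : G)
    (h2 : IsPGroup p S₀) (hodd : (orderOf y).Coprime p) (hcyc : IsCyclic S₀)
    (hyc : y ∈ Subgroup.centralizer (S₀ : Set G)) (hsup : S₀ ⊔ Subgroup.zpowers y = H) :
    IsCyclic H := by
  obtain ⟨s, hs⟩ := hcyc.exists_generator
  obtain ⟨k, hk⟩ := IsPGroup.iff_card.1 h2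
  have hso : orderOf (s : G) = p ^ k := by
    rw [Subgroup.orderOf_coe, orderOf_eq_card_of_forall_mem_zpowers hs, hk]
  have hcomm : Commute (s : G) y := hyc (s : G) s.2
  have hcop : (orderOf (s : G)).Coprime (orderOf y) := by
    rw [hso]
    exact Nat.Coprime.pow_left k hodd.symm
  have hord := hcomm.orderOf_mul_eq_mul_orderOf_of_coprime hcop
  have hyn : Subgroup.zpowers y ≤ Subgroup.normalizer (S₀ : Set G) := by
    rw [Subgroup.zpowers_le]
    exact Subgroup.centralizer_le_normalizer _ hyc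
  have hcard : Nat.card H = orderOf y * p ^ k := by
    rw [← hsup, sup_comm, card_sup_of_le_normalizer _ _ hyn, Nat.card_zpowers, hk]
    rw [Nat.card_zpowers, hk]
    exact Nat.Coprime.pow_right k hodd
  have hmem : (s : G) * y ∈ H := by
    rw [← hsup]
    exact Subgroup.mul_mem _ (Subgroup.mem_sup_left s.2)
      (Subgroup.mem_sup_right (Subgroup.mem_zpowers y))
  apply isCyclic_of_orderOf_eq_card (⟨(s : G) * y, hmem⟩ : H)
  rw [← Subgroup.orderOf_coe]
  show orderOf ((s : G) * y) = _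
  rw [hord, hso, hcard, mul_comm]

/-- Elements of `R ⊔ ⟨x⟩` when `x` normalizes `R`. -/
theorem exists_zpow_mul {R : Subgroup G} {x : G} (hx : x ∈ Subgroup.normalizer (R : Set G))
    {h : G} (hh : h ∈ R ⊔ Subgroup.zpowers x) : ∃ i : ℤ, ∃ v ∈ R, h = x ^ i * v := by
  have hTn : Subgroup.zpowers x ≤ Subgroup.normalizer (R : Set G) := by
    rw [Subgroup.zpowers_le]; exact hx
  rw [sup_comm] at hh
  obtain ⟨t, ht, v, hv, hzeq⟩ := exists_mul_of_mem_sup _ _ hTn hh
  obtain ⟨i, rfl⟩ := Subgroup.mem_zpowers_iff.1 ht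
  exact ⟨i, v, hv, hzeq⟩

/-- **Lemma L**: `R ⊔ ⟨x⟩` with `R` a `p`-group normalized by `x` has a normal Sylow `p`-subgroup
with cyclic quotient. -/
theorem pbc_of_normalizes [Finite G] {p : ℕ} [hF : Fact p.Prime] (R : Subgroup G)
    (hR : IsPGroup p R) (x : G) (hx : x ∈ Subgroup.normalizer (R : Set G)) :
    (∀ S : Sylow p ↥(R ⊔ Subgroup.zpowers x), (S : Subgroup ↥(R ⊔ Subgroup.zpowers x)).Normal) ∧
    (∀ (S : Sylow p ↥(R ⊔ Subgroup.zpowers x)) [(S : Subgroup ↥(R ⊔ Subgroup.zpowers x)).Normal],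
      IsCyclic (↥(R ⊔ Subgroup.zpowers x) ⧸ (S : Subgroup ↥(R ⊔ Subgroup.zpowers x)))) := by
  obtain ⟨H, hH⟩ : ∃ H : Subgroup G, H = R ⊔ Subgroup.zpowers x := ⟨_, rfl⟩
  rw [← hH]
  have hRH : R ≤ H := by rw [hH]; exact le_sup_left
  have hxH : x ∈ H := by rw [hH]; exact Subgroup.mem_sup_right (Subgroup.mem_zpowers x)
  have hRn : (R.subgroupOf H).Normal := by
    refine ⟨fun n hn g => ?_⟩
    rw [Subgroup.mem_subgroupOf] at hn ⊢
    have hg : (g : G) ∈ Subgroup.normalizer (R : Set G) := by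
      have : H ≤ Subgroup.normalizer (R : Set G) := by
        rw [hH, sup_le_iff, Subgroup.zpowers_le]
        exact ⟨Subgroup.le_normalizer, hx⟩
      exact this g.2
    have := (Subgroup.mem_normalizer_iff.1 hg (n : G)).1 hn
    simpa using this
  have hRp : IsPGroup p (R.subgroupOf H) :=
    hR.of_equiv (Subgroup.subgroupOfEquivOfLe hRH).symm
  -- decomposition
  have hdec : ∀ h : H, ∃ i : ℤ, ∃ v : H, v ∈ R.subgroupOf H ∧ h = (⟨x, hxH⟩ : H) ^ i * v := by
    intro h
    have hh : (h : G) ∈ R ⊔ Subgroup.zpowers x := by rw [← hH]; exact h.2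
    obtain ⟨i, v, hv, hzeq⟩ := exists_zpow_mul hx hh
    refine ⟨i, ⟨v, hRH hv⟩, ?_, ?_⟩
    · rw [Subgroup.mem_subgroupOf]; exact hv
    · apply Subtype.ext
      simp only [Subgroup.coe_mul, Subgroup.coe_zpow]
      exact hzeq
  -- every Sylow contains `R`
  have hle : ∀ S : Sylow p ↥H, R.subgroupOf H ≤ (S : Subgroup ↥H) := fun S =>
    IsPGroup.le_sylow_of_normal hRp S
  -- cyclic quotients
  have hcycq : ∀ (N : Subgroup ↥H) [N.Normal], R.subgroupOf H ≤ N →
      ∀ q : ↥H ⧸ N, q ∈ Subgroup.zpowers (QuotientGroup.mk (⟨x, hxH⟩ : H) : ↥H ⧸ N) := by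
    intro N hN hRN q
    induction q using QuotientGroup.induction_on with
    | H h =>
      obtain ⟨i, v, hv, hzeq⟩ := hdec h
      refine ⟨i, ?_⟩
      show (QuotientGroup.mk (⟨x, hxH⟩ : H) : ↥H ⧸ N) ^ i = QuotientGroup.mk h
      rw [← QuotientGroup.mk_zpow]
      apply QuotientGroup.eq.2
      have : ((⟨x, hxH⟩ : H) ^ i)⁻¹ * h = v := by rw [hzeq]; group
      rw [this]
      exact hRN hv
  constructor
  · intro S
    refine ⟨fun s hs h => ?_⟩
    -- the quotient by `R` is abelian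
    have h1 : (QuotientGroup.mk (h * s * h⁻¹ * s⁻¹) : ↥H ⧸ R.subgroupOf H) = 1 := by
      obtain ⟨i, hi⟩ := hcycq (R.subgroupOf H) le_rfl (QuotientGroup.mk h)
      obtain ⟨j, hj⟩ := hcycq (R.subgroupOf H) le_rfl (QuotientGroup.mk s)
      simp only at hi hj
      rw [QuotientGroup.mk_mul, QuotientGroup.mk_mul, QuotientGroup.mk_mul, QuotientGroup.mk_inv,
        QuotientGroup.mk_inv, ← hi, ← hj]
      have : Commute ((QuotientGroup.mk (⟨x, hxH⟩ : H) : ↥H ⧸ R.subgroupOf H) ^ i)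
          ((QuotientGroup.mk (⟨x, hxH⟩ : H) : ↥H ⧸ R.subgroupOf H) ^ j) :=
        (Commute.refl _).zpow_zpow i j
      rw [this.eq, mul_inv_cancel_right, mul_inv_cancel]
    rw [QuotientGroup.eq_one_iff] at h1
    have h2 : h * s * h⁻¹ = (h * s * h⁻¹ * s⁻¹) * s := by group
    rw [h2]
    exact Subgroup.mul_mem _ (hle S h1) hs
  · intro S hSn
    exact ⟨⟨_, hcycq (S : Subgroup ↥H) (hle S)⟩⟩

end Cfsg.Agent.Helper12.PBC
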