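import Mathlib
import Cfsg.Agent.Lib.Helper12.PByCyclic1

/-!
# `p`-by-cyclic subgroups for odd `p` (helper12), part 2: the forward direction
-/

set_option autoImplicit false

namespace Cfsg.Agent.Helper12.PBC

open Cfsg.Agent.Helper16 Cfsg.Agent.Helper13.A4Recog

variable {G : Type*} [Group G]

/-- The hypothesis on subgroups. -/
def AllPBC (p : ℕ) (G : Type*) [Group G] : Prop :=
  ∀ H : Subgroup G, (∀ S : Sylow p ↥H, (S : Subgroup ↥H).Normal) →
    (∀ (S : Sylow p ↥H) [(S : Subgroup ↥H).Normal], IsCyclic (↥H ⧸ (S : Subgroup ↥H))) →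
    IsCyclic H ∨ (∃ n : ℕ, Nonempty (H ≃* DihedralGroup (p ^ n)))

/-- An element of a `p`-group (`p` odd) of square one is trivial. -/
theorem eq_one_of_sq_of_pgroup {p : ℕ} [hF : Fact p.Prime] (hp : p ≠ 2) {R : Subgroup G}
    (hR : IsPGroup p R) {r : G} (hr : r ∈ R) (h2 : r ^ 2 = 1) : r = 1 := by
  obtain ⟨k, hk⟩ := hR ⟨r, hr⟩
  have hk' : r ^ p ^ k = 1 := by
    have := congrArg (fun v : R => (v : G)) hk
    simpa using this
  have h1 : orderOf r ∣ 2 := orderOf_dvd_of_pow_eq_one h2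
  have h3 : orderOf r ∣ p ^ k := orderOf_dvd_of_pow_eq_one hk'
  have hcop : Nat.Coprime 2 (p ^ k) := by
    apply Nat.Coprime.pow_right
    rw [Nat.coprime_primes Nat.prime_two hF.out]
    exact fun h => hp h.symm
  have h4 : orderOf r ∣ 1 := by
    have := Nat.dvd_gcd h1 h3
    rwa [hcop] at this
  exact orderOf_eq_one_iff.1 (Nat.dvd_one.1 h4)

/-- **Lemma D**: under the hypothesis, an element normalizing a `p`-subgroup centralizes or
inverts it. -/
theorem cent_or_inv [Finite G] {p : ℕ} [hF : Fact p.Prime] (hp : p ≠ 2) (hyp : AllPBC p G)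
    (R : Subgroup G) (hR : IsPGroup p R) (x : G) (hx : x ∈ Subgroup.normalizer (R : Set G)) :
    x ∈ Subgroup.centralizer (R : Set G) ∨ (x ^ 2 = 1 ∧ ∀ r ∈ R, x * r * x⁻¹ = r⁻¹) := by
  obtain ⟨h1, h2⟩ := pbc_of_normalizes R hR x hx
  have hRH : R ≤ R ⊔ Subgroup.zpowers x := le_sup_left
  have hxH : x ∈ R ⊔ Subgroup.zpowers x := Subgroup.mem_sup_right (Subgroup.mem_zpowers x)
  rcases hyp _ h1 h2 with hc | ⟨n, ⟨e⟩⟩
  · left
    rw [Subgroup.mem_centralizer_iff]
    intro r hr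
    obtain ⟨g, hg⟩ := hc.exists_generator
    obtain ⟨i, hi⟩ := Subgroup.mem_zpowers_iff.1 (hg ⟨x, hxH⟩)
    obtain ⟨j, hj⟩ := Subgroup.mem_zpowers_iff.1 (hg ⟨r, hRH hr⟩)
    have h3 : (⟨r, hRH hr⟩ : ↥(R ⊔ Subgroup.zpowers x)) * ⟨x, hxH⟩ = ⟨x, hxH⟩ * ⟨r, hRH hr⟩ := by
      rw [← hi, ← hj]
      exact ((Commute.refl g).zpow_zpow j i).eq
    exact congrArg Subtype.val h3
  · -- the dihedral case
    have hRr : ∀ r (hr : r ∈ R), ∃ j, e ⟨r, hRH hr⟩ = DihedralGroup.r j := by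
      intro r hr
      rcases h : e ⟨r, hRH hr⟩ with j | j
      · exact ⟨j, rfl⟩
      · exfalso
        have h3 : e (⟨r, hRH hr⟩ * ⟨r, hRH hr⟩) = 1 := by
          rw [map_mul, h, DihedralGroup.sr_mul_self]
        have h4 : (⟨r, hRH hr⟩ * ⟨r, hRH hr⟩ : ↥(R ⊔ Subgroup.zpowers x)) = 1 :=
          e.injective (by rw [h3, map_one])
        have h5 : r ^ 2 = 1 := by
          rw [pow_two]
          exact congrArg Subtype.val h4
        have h6 := eq_one_of_sq_of_pgroup hp hR hr h5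
        have h7 : (⟨r, hRH hr⟩ : ↥(R ⊔ Subgroup.zpowers x)) = 1 := Subtype.ext h6
        rw [h7, map_one, DihedralGroup.one_def] at h
        cases h
    rcases hx' : e ⟨x, hxH⟩ with i | i
    · left
      rw [Subgroup.mem_centralizer_iff]
      intro r hr
      obtain ⟨j, hj⟩ := hRr r hr
      have h3 : (⟨r, hRH hr⟩ : ↥(R ⊔ Subgroup.zpowers x)) * ⟨x, hxH⟩ = ⟨x, hxH⟩ * ⟨r, hRH hr⟩ := by
        apply e.injective
        rw [map_mul, map_mul, hj, hx', DihedralGroup.r_mul_r, DihedralGroup.r_mul_r, add_comm]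
      exact congrArg Subtype.val h3
    · right
      constructor
      · have h3 : (⟨x, hxH⟩ * ⟨x, hxH⟩ : ↥(R ⊔ Subgroup.zpowers x)) = 1 := by
          apply e.injective
          rw [map_mul, hx', DihedralGroup.sr_mul_self, map_one]
        rw [pow_two]
        exact congrArg Subtype.val h3
      · intro r hr
        obtain ⟨j, hj⟩ := hRr r hr
        have h3 : (⟨x, hxH⟩ * ⟨r, hRH hr⟩ * ⟨x, hxH⟩⁻¹ : ↥(R ⊔ Subgroup.zpowers x)) =
            ⟨r, hRH hr⟩⁻¹ := by
          apply e.injective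
          rw [map_mul, map_mul, map_inv, map_inv, hj, hx', DihedralGroup.inv_sr,
            DihedralGroup.sr_mul_r, DihedralGroup.sr_mul_sr, DihedralGroup.inv_r]
          congr 1
          ring
        exact congrArg Subtype.val h3

end Cfsg.Agent.Helper12.PBC
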