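import Mathlib
import Cfsg.Agent.Lib.Helper12.PByCyclic2

/-!
# `p`-by-cyclic subgroups for odd `p` (helper12), part 3: the forward direction
-/

set_option autoImplicit false

namespace Cfsg.Agent.Helper12.PBC

open Cfsg.Agent.Helper16 Cfsg.Agent.Helper13.A4Recog

variable {G : Type*} [Group G]

/-- The second alternative. -/
def Cond2 (p : ℕ) (P : Subgroup G) : Prop :=
  ∀ Q : Subgroup G, Q ≤ P → Nat.card Q = p →
    IsMulCommutative ↥(Subgroup.centralizer (Q : Set G)) ∧
    ∀ x : G, x ∈ Subgroup.normalizer (Q : Set G) → x ∉ Subgroup.centralizer (Q : Set G) →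
      orderOf x = 2 ∧ ∀ c : G, c ∈ Subgroup.centralizer (Q : Set G) → x * c * x⁻¹ = c⁻¹

theorem isCyclic_sylow [Finite G] {p : ℕ} [hF : Fact p.Prime] (hp : p ≠ 2) (P : Sylow p G)
    (hyp : AllPBC p G) : IsCyclic (P : Subgroup G) := by
  have htop : ∀ S : Sylow p ↥(P : Subgroup G), (S : Subgroup ↥(P : Subgroup G)) = ⊤ := by
    intro S
    have h1 : IsPGroup p (⊤ : Subgroup ↥(P : Subgroup G)) := P.2.to_subgroup _
    exact (S.is_maximal' h1 le_top).symm
  have hnorm : ∀ S : Sylow p ↥(P : Subgroup G), (S : Subgroup ↥(P : Subgroup G)).Normal := by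
    intro S
    rw [htop S]
    infer_instance
  have hquot : ∀ (S : Sylow p ↥(P : Subgroup G)) [(S : Subgroup ↥(P : Subgroup G)).Normal],
      IsCyclic (↥(P : Subgroup G) ⧸ (S : Subgroup ↥(P : Subgroup G))) := by
    intro S hSn
    have : Subsingleton (↥(P : Subgroup G) ⧸ (S : Subgroup ↥(P : Subgroup G))) := by
      refine ⟨fun a b => ?_⟩
      induction a using QuotientGroup.induction_on with
      | H a =>
        induction b using QuotientGroup.induction_on with
        | H b =>
          apply QuotientGroup.eq.2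
          rw [htop S]
          exact Subgroup.mem_top _
    exact isCyclic_of_subsingleton
  obtain ⟨k, hk⟩ := IsPGroup.iff_card.1 P.2
  rcases hyp (P : Subgroup G) hnorm hquot with h | ⟨n, ⟨e⟩⟩
  · exact h
  · exfalso
    have hpos : 0 < p ^ n := pow_pos hF.out.pos n
    have : NeZero (p ^ n) := ⟨hpos.ne'⟩
    have h1 : p ^ k = 2 * p ^ n := by
      rw [← hk, Nat.card_congr e.toEquiv, DihedralGroup.nat_card]
    have h2 : 2 ∣ p ^ k := ⟨_, h1⟩
    have h3 : 2 ∣ p := Nat.Prime.dvd_of_dvd_pow Nat.prime_two h2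
    exact hp ((Nat.prime_dvd_prime_iff_eq Nat.prime_two hF.out).1 h3).symm

/-- The forward direction. -/
theorem forward [Finite G] {p : ℕ} [hF : Fact p.Prime] (hp : p ≠ 2) (P : Sylow p G)
    (hyp : AllPBC p G) :
    IsCyclic (P : Subgroup G) ∧
      (Subgroup.normalizer ((P : Subgroup G) : Set G) =
          Subgroup.centralizer ((P : Subgroup G) : Set G) ∨
        ((Subgroup.centralizer ((P : Subgroup G) : Set G)).relIndex
            (Subgroup.normalizer ((P : Subgroup G) : Set G)) = 2 ∧ Cond2 p (P : Subgroup G))) := by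
  refine ⟨isCyclic_sylow hp P hyp, ?_⟩
  by_cases hNC : Subgroup.normalizer ((P : Subgroup G) : Set G) ≤
      Subgroup.centralizer ((P : Subgroup G) : Set G)
  · left
    exact le_antisymm hNC (Subgroup.centralizer_le_normalizer _)
  right
  obtain ⟨t, htN, htC⟩ := SetLike.not_le_iff_exists.1 hNC
  have key : ∀ x ∈ Subgroup.normalizer ((P : Subgroup G) : Set G),
      x ∉ Subgroup.centralizer ((P : Subgroup G) : Set G) →
      (x ^ 2 = 1 ∧ ∀ r ∈ (P : Subgroup G), x * r * x⁻¹ = r⁻¹) := by
    intro x hx hxc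
    rcases cent_or_inv hp hyp (P : Subgroup G) P.2 x hx with h | h
    · exact absurd h hxc
    · exact h
  obtain ⟨ht2, htinv⟩ := key t htN htC
  have httinv : t⁻¹ = t := inv_eq_of_mul_eq_one_right (by rw [← pow_two]; exact ht2)
  constructor
  · rw [Subgroup.relIndex, Subgroup.index_eq_two_iff]
    refine ⟨⟨t, htN⟩, fun b => ?_⟩
    rw [Subgroup.mem_subgroupOf, Subgroup.mem_subgroupOf]
    by_cases hb : (b : G) ∈ Subgroup.centralizer ((P : Subgroup G) : Set G)
    · refine Or.inr ⟨hb, ?_⟩
      intro h
      apply htC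
      have h1 : t = (b : G)⁻¹ * ((b : G) * t) := by group
      rw [h1]
      exact Subgroup.mul_mem _ (Subgroup.inv_mem _ hb) h
    · refine Or.inl ⟨?_, hb⟩
      obtain ⟨-, hbinv⟩ := key b b.2 hb
      show (b : G) * t ∈ _
      rw [Subgroup.mem_centralizer_iff]
      intro r hr
      have h1 := htinv r hr
      have h2 := hbinv r⁻¹ (Subgroup.inv_mem _ hr)
      rw [inv_inv] at h2
      have h3 : ((b : G) * t) * r * ((b : G) * t)⁻¹ = r := by
        calc ((b : G) * t) * r * ((b : G) * t)⁻¹ = (b : G) * (t * r * t⁻¹) * (b : G)⁻¹ := by group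
          _ = r := by rw [h1, h2]
      rw [mul_inv_eq_iff_eq_mul] at h3
      exact h3.symm
  · intro Q hQP hQcard
    have hQp : IsPGroup p Q := P.2.to_le hQP
    have htQinv : ∀ q ∈ Q, t * q * t⁻¹ = q⁻¹ := fun q hq => htinv q (hQP hq)
    have htNQ : t ∈ Subgroup.normalizer (Q : Set G) := by
      rw [Subgroup.mem_normalizer_iff]
      intro h
      constructor
      · intro hh
        rw [htQinv h hh]; exact Q.inv_mem hh
      · intro hh
        have h1 := htQinv _ hh
        have h2 : t * (t * h * t⁻¹) * t⁻¹ = h := by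
          rw [httinv]
          have : t * t = 1 := by rw [← pow_two]; exact ht2
          calc t * (t * h * t) * t = (t * t) * h * (t * t) := by group
            _ = h := by rw [this, one_mul, mul_one]
        rw [h2] at h1
        rw [h1]; exact Q.inv_mem hh
    have htCQ : t ∉ Subgroup.centralizer (Q : Set G) := by
      intro h
      have hfinQ : Finite Q := Nat.finite_of_card_ne_zero (by rw [hQcard]; exact hF.out.ne_zero)
      obtain ⟨q, hq, hq1⟩ : ∃ q ∈ Q, q ≠ 1 := by
        by_contra hcon
        push Not at hcon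
        have : Q = ⊥ := by
          rw [eq_bot_iff]
          intro x hx
          rw [Subgroup.mem_bot]
          exact hcon x hx
        rw [this, Subgroup.card_bot] at hQcard
        exact hF.out.one_lt.ne hQcard
      have h1 := htQinv q hq
      have h2 := Subgroup.mem_centralizer_iff.1 h q hq
      have h3 : t * q * t⁻¹ = q := by rw [mul_inv_eq_iff_eq_mul]; exact h2.symm
      rw [h3] at h1
      apply hq1
      apply eq_one_of_sq_of_pgroup hp hQp hq
      rw [pow_two]
      nth_rewrite 1 [h1]
      exact inv_mul_cancel q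
    have keyQ : ∀ x ∈ Subgroup.normalizer (Q : Set G),
        x ∉ Subgroup.centralizer (Q : Set G) → x ^ 2 = 1 := by
      intro x hx hxc
      rcases cent_or_inv hp hyp Q hQp x hx with h | h
      · exact absurd h hxc
      · exact h.1
    have hinvC : ∀ x ∈ Subgroup.normalizer (Q : Set G),
        x ∉ Subgroup.centralizer (Q : Set G) →
        ∀ c ∈ Subgroup.centralizer (Q : Set G), x * c * x⁻¹ = c⁻¹ := by
      intro x hx hxc c hc
      have hx2 := keyQ x hx hxc
      have hxinv : x⁻¹ = x := inv_eq_of_mul_eq_one_right (by rw [← pow_two]; exact hx2)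
      have h1 : x * c ∈ Subgroup.normalizer (Q : Set G) :=
        Subgroup.mul_mem _ hx (Subgroup.centralizer_le_normalizer _ hc)
      have h2 : x * c ∉ Subgroup.centralizer (Q : Set G) := by
        intro h
        apply hxc
        have : x = (x * c) * c⁻¹ := by group
        rw [this]
        exact Subgroup.mul_mem _ h (Subgroup.inv_mem _ hc)
      have h3 := keyQ _ h1 h2
      rw [pow_two] at h3
      rw [hxinv]
      have h4 : (x * c * x) * c = 1 := by rw [← h3]; group
      exact eq_inv_of_mul_eq_one_left h4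
    refine ⟨⟨⟨fun a b => ?_⟩⟩, fun x hx hxc => ⟨?_, hinvC x hx hxc⟩⟩
    · apply Subtype.ext
      show (a : G) * (b : G) = (b : G) * (a : G)
      have h1 := hinvC t htNQ htCQ _ (Subgroup.mul_mem _ a.2 b.2)
      have h2 := hinvC t htNQ htCQ _ a.2
      have h3 := hinvC t htNQ htCQ _ b.2
      have h4 : t * ((a : G) * (b : G)) * t⁻¹ = (t * (a : G) * t⁻¹) * (t * (b : G) * t⁻¹) := by
        group
      rw [h4, h2, h3, mul_inv_rev] at h1
      have h5 := congrArg (fun v => v⁻¹) h1
      simp only [mul_inv_rev, inv_inv] at h5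
      exact h5.symm
    · have hx2 := keyQ x hx hxc
      have hx1 : x ≠ 1 := by
        rintro rfl
        exact hxc (Subgroup.one_mem _)
      exact orderOf_eq_prime hx2 hx1

end Cfsg.Agent.Helper12.PBC
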