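import Mathlib
import Cfsg.Agent.Lib.Helper12.PByCyclic3

/-!
# `p`-by-cyclic subgroups for odd `p` (helper12), part 4: the backward direction
-/

set_option autoImplicit false

namespace Cfsg.Agent.Helper12.PBC

open Cfsg.Agent.Helper16 Cfsg.Agent.Helper13.A4Recog

variable {G : Type*} [Group G]

theorem mem_normalizer_of_conj_mem (K : Subgroup G) [Finite K] {g : G}
    (h : ∀ x ∈ K, g * x * g⁻¹ ∈ K) : g ∈ Subgroup.normalizer (K : Set G) := by
  rw [Subgroup.mem_normalizer_iff]
  intro x
  refine ⟨h x, fun hx => ?_⟩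
  let f : K → K := fun k => ⟨g * k * g⁻¹, h k k.2⟩
  have hinj : Function.Injective f := by
    intro a b hab
    have := congrArg Subtype.val hab
    simp only [f] at this
    apply Subtype.ext
    have h2 : (a : G) = g⁻¹ * (g * a * g⁻¹) * g := by group
    rw [h2, this]; group
  obtain ⟨k, hk⟩ := (Finite.injective_iff_surjective.1 hinj) ⟨_, hx⟩
  have := congrArg Subtype.val hk
  simp only [f] at this
  have h2 : x = g⁻¹ * (g * x * g⁻¹) * g := by group
  rw [h2, ← this]
  have h3 : g⁻¹ * (g * (k : G) * g⁻¹) * g = k := by group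
  rw [h3]; exact k.2

/-- elements of a cyclic subgroup commute -/
theorem comm_of_isCyclic {K : Subgroup G} (hK : IsCyclic K) {a b : G} (ha : a ∈ K) (hb : b ∈ K) :
    a * b = b * a := by
  obtain ⟨g, hg⟩ := hK.exists_generator
  obtain ⟨i, hi⟩ := Subgroup.mem_zpowers_iff.1 (hg ⟨a, ha⟩)
  obtain ⟨j, hj⟩ := Subgroup.mem_zpowers_iff.1 (hg ⟨b, hb⟩)
  have h3 : (⟨a, ha⟩ : K) * ⟨b, hb⟩ = ⟨b, hb⟩ * ⟨a, ha⟩ := by
    rw [← hi, ← hj]
    exact ((Commute.refl g).zpow_zpow i j).eq
  exact congrArg Subtype.val h3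

/-- In a cyclic group, the elements of order dividing `p` lie in any subgroup of order `p`. -/
theorem mem_of_pow_eq_one {p : ℕ} [hF : Fact p.Prime] {P Q : Subgroup G} [Finite P]
    (hP : IsCyclic P) (hQP : Q ≤ P) (hQ : Nat.card Q = p) {a : G} (ha : a ∈ P)
    (hap : a ^ p = 1) : a ∈ Q := by
  classical
  have : Fintype P := Fintype.ofFinite P
  have hle := IsCyclic.card_pow_eq_one_le (α := P) hF.out.pos
  have hfinQ : Finite Q := Nat.finite_of_card_ne_zero (by rw [hQ]; exact hF.out.ne_zero)
  have : Fintype (Q.subgroupOf P) := Fintype.ofFinite _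
  have hsub : (Finset.univ.filter (fun x : P => x ∈ Q.subgroupOf P)) ⊆
      Finset.univ.filter (fun x : P => x ^ p = 1) := by
    intro x hx
    rw [Finset.mem_filter] at hx ⊢
    refine ⟨Finset.mem_univ _, ?_⟩
    have h1 : (⟨(x : G), Subgroup.mem_subgroupOf.1 hx.2⟩ : Q) ^ p = 1 := by
      rw [← hQ]; exact pow_card_eq_one'
    have h2 := congrArg Subtype.val h1
    apply Subtype.ext
    simpa using h2
  have hcard : (Finset.univ.filter (fun x : P => x ∈ Q.subgroupOf P)).card = p := by
    rw [← hQ, ← Nat.card_congr (Subgroup.subgroupOfEquivOfLe hQP).toEquiv,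
      Nat.card_eq_fintype_card, Fintype.card_subtype]
  have heq := Finset.eq_of_subset_of_card_le hsub (by rw [hcard]; exact hle)
  have hmem : (⟨a, ha⟩ : P) ∈ Finset.univ.filter (fun x : P => x ^ p = 1) := by
    rw [Finset.mem_filter]
    exact ⟨Finset.mem_univ _, Subtype.ext (by simpa using hap)⟩
  rw [← heq, Finset.mem_filter] at hmem
  exact Subgroup.mem_subgroupOf.1 hmem.2

/-- **Lemma A**: the hypotheses on `P` give the centralize-or-invert property for subgroups of
`P`. -/
theorem lemmaA [Finite G] {p : ℕ} [hF : Fact p.Prime] (P : Sylow p G)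
    (hcyc : IsCyclic (P : Subgroup G))
    (h : Subgroup.normalizer ((P : Subgroup G) : Set G) =
          Subgroup.centralizer ((P : Subgroup G) : Set G) ∨ Cond2 p (P : Subgroup G))
    (R : Subgroup G) (hRP : R ≤ P) (y : G) (hy : y ∈ Subgroup.normalizer (R : Set G)) :
    y ∈ Subgroup.centralizer (R : Set G) ∨ (y ^ 2 = 1 ∧ ∀ r ∈ R, y * r * y⁻¹ = r⁻¹) := by
  have hPcomm : ∀ a ∈ (P : Subgroup G), ∀ b ∈ (P : Subgroup G), a * b = b * a :=
    fun a ha b hb => comm_of_isCyclic hcyc ha hb
  rcases h with h | h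
  · -- Frattini argument
    left
    have hPC : (P : Subgroup G) ≤ Subgroup.centralizer (R : Set G) := by
      intro a ha
      rw [Subgroup.mem_centralizer_iff]
      intro r hr
      exact hPcomm r (hRP hr) a ha
    have hP2C : ((y • P : Sylow p G) : Subgroup G) ≤ Subgroup.centralizer (R : Set G) := by
      intro a ha
      rw [Sylow.coe_subgroup_smul, Subgroup.mem_pointwise_smul_iff_inv_smul_mem, MulAut.smul_def,
        ← map_inv, MulAut.conj_apply, inv_inv] at ha
      rw [Subgroup.mem_centralizer_iff]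
      intro r hr
      have hr' : y⁻¹ * r * y ∈ R := by
        have := (Subgroup.mem_normalizer_iff.1 (Subgroup.inv_mem _ hy) r).1 hr
        simpa using this
      have h1 := hPcomm _ (hRP hr') _ ha
      calc r * a = y * ((y⁻¹ * r * y) * (y⁻¹ * a * y)) * y⁻¹ := by group
        _ = y * ((y⁻¹ * a * y) * (y⁻¹ * r * y)) * y⁻¹ := by rw [h1]
        _ = a * r := by group
    obtain ⟨c, hc⟩ := MulAction.exists_smul_eq (Subgroup.centralizer (R : Set G))
      ((y • P : Sylow p G).subtype hP2C) (P.subtype hPC)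
    have hcy : (c : G) * y ∈ Subgroup.normalizer ((P : Subgroup G) : Set G) := by
      apply mem_normalizer_of_conj_mem
      intro x hx
      have h1 : y * x * y⁻¹ ∈ ((y • P : Sylow p G) : Subgroup G) := by
        rw [Sylow.coe_subgroup_smul, Subgroup.mem_pointwise_smul_iff_inv_smul_mem,
          MulAut.smul_def, ← map_inv, MulAut.conj_apply, inv_inv]
        have : y⁻¹ * (y * x * y⁻¹) * y = x := by group
        rw [this]; exact hx
      have h2 : (⟨y * x * y⁻¹, hP2C h1⟩ : Subgroup.centralizer (R : Set G)) ∈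
          (((y • P : Sylow p G).subtype hP2C : Sylow p (Subgroup.centralizer (R : Set G))) :
            Subgroup (Subgroup.centralizer (R : Set G))) := by
        rw [Sylow.coe_subtype, Subgroup.mem_subgroupOf]
        exact h1
      have h3 : c * (⟨y * x * y⁻¹, hP2C h1⟩ : Subgroup.centralizer (R : Set G)) * c⁻¹ ∈
          ((c • ((y • P : Sylow p G).subtype hP2C) : Sylow p (Subgroup.centralizer (R : Set G))) :
            Subgroup (Subgroup.centralizer (R : Set G))) := by
        rw [Sylow.coe_subgroup_smul, Subgroup.mem_pointwise_smul_iff_inv_smul_mem,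
          MulAut.smul_def, ← map_inv, MulAut.conj_apply, inv_inv]
        have : c⁻¹ * (c * (⟨y * x * y⁻¹, hP2C h1⟩ : Subgroup.centralizer (R : Set G)) * c⁻¹) * c =
            ⟨y * x * y⁻¹, hP2C h1⟩ := by group
        rw [this]; exact h2
      rw [hc, Sylow.coe_subtype, Subgroup.mem_subgroupOf] at h3
      have h4 : ((c : G) * y) * x * ((c : G) * y)⁻¹ = (c : G) * (y * x * y⁻¹) * (c : G)⁻¹ := by
        group
      rw [h4]
      simpa using h3
    rw [h] at hcy
    have h5 : (c : G) * y ∈ Subgroup.centralizer (R : Set G) := Subgroup.centralizer_le hRP hcy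
    have h6 : y = (c : G)⁻¹ * ((c : G) * y) := by group
    rw [h6]
    exact Subgroup.mul_mem _ (Subgroup.inv_mem _ c.2) h5
  · by_cases hR1 : R = ⊥
    · left
      rw [hR1, Subgroup.mem_centralizer_iff]
      intro r hr
      rw [SetLike.mem_coe, Subgroup.mem_bot] at hr
      rw [hr, one_mul, mul_one]
    have hRp : IsPGroup p R := P.2.to_le hRP
    obtain ⟨k, hk⟩ := IsPGroup.iff_card.1 hRp
    have hk1 : k ≠ 0 := by
      rintro rfl
      rw [pow_zero] at hk
      exact hR1 (Subgroup.card_eq_one.1 hk)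
    have hdvd : p ∣ Nat.card R := by rw [hk]; exact dvd_pow_self p hk1
    obtain ⟨r0, hr0⟩ := exists_prime_orderOf_dvd_card' p hdvd
    obtain ⟨Q, hQdef⟩ : ∃ Q : Subgroup G, Q = Subgroup.zpowers (r0 : G) := ⟨_, rfl⟩
    have hQR : Q ≤ R := by rw [hQdef, Subgroup.zpowers_le]; exact r0.2
    have hQcard : Nat.card Q = p := by rw [hQdef, Nat.card_zpowers, Subgroup.orderOf_coe, hr0]
    have hfinQ : Finite Q := Nat.finite_of_card_ne_zero (by rw [hQcard]; exact hF.out.ne_zero)
    have hyQ : y ∈ Subgroup.normalizer (Q : Set G) := by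
      apply mem_normalizer_of_conj_mem
      intro x hx
      apply mem_of_pow_eq_one hcyc (hQR.trans hRP) hQcard
      · exact hRP ((Subgroup.mem_normalizer_iff.1 hy x).1 (hQR hx))
      · have h1 : (⟨x, hx⟩ : Q) ^ p = 1 := by rw [← hQcard]; exact pow_card_eq_one'
        have h2 : x ^ p = 1 := by
          have := congrArg Subtype.val h1
          simpa using this
        rw [conj_pow, h2]; group
    obtain ⟨hcomm, hinv⟩ := h Q (hQR.trans hRP) hQcard
    have hPCQ : (P : Subgroup G) ≤ Subgroup.centralizer (Q : Set G) := by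
      intro a ha
      rw [Subgroup.mem_centralizer_iff]
      intro r hr
      exact hPcomm r (hRP (hQR hr)) a ha
    by_cases hyc : y ∈ Subgroup.centralizer (Q : Set G)
    · left
      rw [Subgroup.mem_centralizer_iff]
      intro r hr
      have h1 := hcomm.is_comm.comm (⟨r, hPCQ (hRP hr)⟩ : Subgroup.centralizer (Q : Set G))
        ⟨y, hyc⟩
      exact congrArg Subtype.val h1
    · right
      obtain ⟨ho, hi⟩ := hinv y hyQ hyc
      refine ⟨?_, fun r hr => hi r (hPCQ (hRP hr))⟩
      rw [← ho]; exact pow_orderOf_eq_one y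

end Cfsg.Agent.Helper12.PBC
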