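import Mathlib
import Cfsg.Agent.Lib.Helper12.MaxSubA
import Cfsg.Agent.Lib.Helper12.MaxSubD
import Cfsg.Agent.Lib.Helper12.PByCyclic4
import Cfsg.Agent.Lib.Helper11.KleinPSL2
import Cfsg.Agent.Lib.Helper12.PSL2Max3

set_option autoImplicit false
set_option linter.unusedVariables false
set_option linter.unusedSectionVars false
set_option linter.style.haveILetI false

/-! Dihedral maximal subgroups of `PSL₂(F)`, `F` of odd order. -/

namespace Cfsg.Agent.Helper12.MaxSub

open Matrix
open scoped MatrixGroups
open Cfsg.Agent.Helper12 (negOneSL negOneSL_coe SL2_sq_eq_one coe_inv_SL2 torus mem_torus_iff)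

variable {F : Type*} [Field F] [Fintype F]

/-- the order of the centralizer of a regular semisimple element of `SL₂(q)` -/
theorem card_torus_cases (hF : ringChar F ≠ 2) (X : SL(2, F)) (ht : X.1.trace ^ 2 ≠ 4) :
    Nat.card (torus X) = Fintype.card F - 1 ∨ Nat.card (torus X) = Fintype.card F + 1 := by
  classical
  by_cases hroot : ∃ l : F, l ^ 2 - X.1.trace * l + 1 = 0
  · obtain ⟨l, hl⟩ := hroot
    have hl1 : l ^ 2 ≠ 1 := by
      intro h1
      apply ht
      have h2 : X.1.trace * l = 2 := by linear_combination -hl + h1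
      have : X.1.trace ^ 2 * l ^ 2 = 4 := by
        rw [← mul_pow, h2]; norm_num
      rw [h1, mul_one] at this
      exact this
    obtain ⟨s, d, hd, rfl⟩ := Cfsg.Agent.Helper11.Klein.exists_conj_split X l hl hl1
    left
    rw [Cfsg.Agent.Helper12.card_torus_conj, hd.card_torus]
  · push Not at hroot
    right
    exact Cfsg.Agent.Helper12.card_centralizer_elliptic hF X
      (Cfsg.Agent.Helper12.isElliptic_of_charpoly X hroot)

theorem dihedral_conj (k : ℕ) (g : DihedralGroup k) :
    g * DihedralGroup.r 1 * g⁻¹ = DihedralGroup.r 1 ∨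
      g * DihedralGroup.r 1 * g⁻¹ = (DihedralGroup.r 1)⁻¹ := by
  cases g with
  | r i =>
    left
    rw [DihedralGroup.inv_r, DihedralGroup.r_mul_r, DihedralGroup.r_mul_r]
    congr 1; ring
  | sr i =>
    right
    rw [DihedralGroup.inv_sr, DihedralGroup.sr_mul_r, DihedralGroup.sr_mul_sr, DihedralGroup.inv_r]
    congr 1; ring

theorem dihedral_commute (k : ℕ) (hk3 : 3 ≤ k) (g : DihedralGroup k)
    (h : g * DihedralGroup.r 1 = DihedralGroup.r 1 * g) : ∃ n : ℕ, g = DihedralGroup.r 1 ^ n := by
  haveI : NeZero k := ⟨by omega⟩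
  cases g with
  | r i =>
    refine ⟨i.val, ?_⟩
    rw [DihedralGroup.r_one_pow, ZMod.natCast_zmod_val]
  | sr i =>
    exfalso
    rw [DihedralGroup.sr_mul_r, DihedralGroup.r_mul_sr] at h
    have h1 : i + 1 = i - 1 := by
      injection h
    have h2 : ((2 : ℕ) : ZMod k) = 0 := by
      push_cast
      linear_combination h1
    rw [ZMod.natCast_eq_zero_iff] at h2
    have := Nat.le_of_dvd (by norm_num) h2
    omega

/-- **a dihedral maximal subgroup of `PSL₂(q)`, `q` odd, has order `q - 1` or `q + 1`** -/
theorem dihedral_coatom (p : ℕ) [Fact p.Prime] [CharP F p] (hodd : Odd (Fintype.card F))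
    (h5 : 5 ≤ Fintype.card F)
    (M : Subgroup (Matrix.ProjectiveSpecialLinearGroup (Fin 2) F)) (hM : IsCoatom M) (k : ℕ)
    (hk3 : 3 ≤ k)
    (hk : k ∣ (Fintype.card F + 1) / 2 ∨ k ∣ (Fintype.card F - 1) / 2)
    (e : M ≃* DihedralGroup k) :
    2 * k = Fintype.card F - 1 ∨ 2 * k = Fintype.card F + 1 := by
  haveI : IsSimpleGroup (Matrix.ProjectiveSpecialLinearGroup (Fin 2) F) :=
    Matrix.ProjectiveSpecialLinearGroup.rank_two_simple
      (by rw [Nat.card_eq_fintype_card]; omega)
  have h2 : (2 : F) ≠ 0 := by
    intro h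
    have hchar : ringChar F = 2 := by
      have : ((2 : ℕ) : F) = 0 := by exact_mod_cast h
      have hdvd := (ringChar.spec F 2).1 this
      rcases (Nat.dvd_prime Nat.prime_two).1 hdvd with h1 | h1
      · exact absurd h1 CharP.ringChar_ne_one
      · exact h1
    have := FiniteField.even_card_iff_char_two.1 hchar
    rw [Nat.odd_iff] at hodd
    omega
  have hF : ringChar F ≠ 2 := by
    intro h
    have := FiniteField.even_card_iff_char_two.1 h
    rw [Nat.odd_iff] at hodd
    omega
  set c : M := e.symm (DihedralGroup.r 1) with hc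
  set x : Matrix.ProjectiveSpecialLinearGroup (Fin 2) F := c.1 with hx
  have hec : e c = DihedralGroup.r 1 := e.apply_symm_apply _
  have hord : orderOf x = k := by
    rw [hx, Subgroup.orderOf_coe, ← MulEquiv.orderOf_eq e, hec, DihedralGroup.orderOf_r_one]
  set C := Subgroup.zpowers x with hC
  have hCcard : Nat.card C = k := by rw [Nat.card_zpowers, hord]
  have hCM : C ≤ M := by
    rw [hC, Subgroup.zpowers_le]; exact c.2
  have hx1 : x ≠ 1 := by
    intro h
    rw [h, orderOf_one] at hord
    omega
  have hCne : C ≠ ⊥ := by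
    intro h
    exact hx1 (Subgroup.zpowers_eq_bot.1 h)
  have hconj : ∀ m ∈ M, m * x * m⁻¹ = x ∨ m * x * m⁻¹ = x⁻¹ := by
    intro m hm
    have h1 := dihedral_conj k (e ⟨m, hm⟩)
    rw [← hec, ← map_inv, ← map_mul, ← map_mul, ← map_inv] at h1
    rcases h1 with h1 | h1
    · left
      have := congrArg Subtype.val (e.injective h1)
      simpa using this
    · right
      have := congrArg Subtype.val (e.injective h1)
      simpa using this
  haveI : Finite C := inferInstance
  have hn : M ≤ Subgroup.normalizer (C : Set _) := by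
    intro m hm
    apply Cfsg.Agent.Helper12.PBC.mem_normalizer_of_conj_mem
    intro y hy
    obtain ⟨n, rfl⟩ := Subgroup.mem_zpowers_iff.1 hy
    rw [← conj_zpow]
    rcases hconj m hm with h | h
    · rw [h]; exact Subgroup.zpow_mem _ (Subgroup.mem_zpowers x) n
    · rw [h]
      exact Subgroup.zpow_mem _ (Subgroup.inv_mem _ (Subgroup.mem_zpowers x)) n
  have hcent := centralizer_le_of_coatom hM hCM hCne hn
  have key : ∀ g : Matrix.ProjectiveSpecialLinearGroup (Fin 2) F, g * x = x * g → g ∈ C := by
    intro g hg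
    have hgM : g ∈ M := by
      apply hcent
      rw [Subgroup.mem_centralizer_iff]
      intro y hy
      obtain ⟨n, rfl⟩ := Subgroup.mem_zpowers_iff.1 hy
      exact ((Commute.zpow_right (show Commute g x from hg) n).eq).symm
    have h1 : e ⟨g, hgM⟩ * DihedralGroup.r 1 = DihedralGroup.r 1 * e ⟨g, hgM⟩ := by
      rw [← hec, ← map_mul, ← map_mul]
      congr 1
      apply Subtype.ext
      exact hg
    obtain ⟨n, hn⟩ := dihedral_commute k hk3 _ h1
    rw [← hec, ← map_pow] at hn
    have := congrArg Subtype.val (e.injective hn)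
    simp only [Subgroup.coe_pow] at this
    rw [this]
    exact Subgroup.pow_mem _ (Subgroup.mem_zpowers x) n
  obtain ⟨X, hX⟩ := mkP_surjective x
  have hle : torus X ≤ C.comap mkP := by
    intro Y hY
    rw [Subgroup.mem_comap]
    apply key
    rw [← hX, ← map_mul, ← map_mul, (mem_torus_iff X Y).1 hY]
  have hcard : Nat.card (torus X) ≤ 2 * k := by
    have h1 := Subgroup.card_le_of_le hle
    have h3 := Cfsg.Agent.Helper11.Klein.card_preim C
    rw [Cfsg.Agent.Helper12.PSL2Max.gcd_two_odd hodd, hCcard] at h3
    have h4 : Nat.card (C.comap mkP) = k * 2 := h3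
    omega
  by_cases ht : X.1.trace ^ 2 = 4
  · exfalso
    have hl : (X.1.trace / 2) ^ 2 - X.1.trace * (X.1.trace / 2) + 1 = 0 := by
      field_simp
      linear_combination -ht
    have hl1 : (X.1.trace / 2) ^ 2 = 1 := by
      field_simp
      linear_combination ht
    have hpow := Cfsg.Agent.Helper12.SL2_pow_two_char_eq_one p X _ hl hl1
    have hxp : x ^ (2 * p) = 1 := by rw [← hX, ← map_pow, hpow, map_one]
    have hdvd : k ∣ 2 * p := hord ▸ orderOf_dvd_of_pow_eq_one hxp
    obtain ⟨n, -, hn⟩ := FiniteField.card F p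
    have hpq : p ∣ Fintype.card F := by rw [hn]; exact dvd_pow_self p n.ne_zero
    have hpk : ¬ p ∣ k := by
      intro hpk
      obtain ⟨a, ha⟩ := hodd
      have hp1 := (Fact.out : p.Prime).one_lt
      rcases hk with hk | hk
      · have h1 : p ∣ Fintype.card F + 1 := by
          have : (Fintype.card F + 1) / 2 ∣ Fintype.card F + 1 := Nat.div_dvd_of_dvd (by omega)
          exact (hpk.trans hk).trans this
        have := (Nat.dvd_add_right hpq).1 h1
        have := Nat.le_of_dvd (by norm_num) this
        omega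
      · have h1 : p ∣ Fintype.card F - 1 := by
          have : (Fintype.card F - 1) / 2 ∣ Fintype.card F - 1 := Nat.div_dvd_of_dvd (by omega)
          exact (hpk.trans hk).trans this
        have h3 : p ∣ 1 := by
          have h4 : Fintype.card F = (Fintype.card F - 1) + 1 := by omega
          rw [h4] at hpq
          exact (Nat.dvd_add_right h1).1 hpq
        have := Nat.le_of_dvd (by norm_num) h3
        omega
    have hcop : Nat.Coprime k p :=
      ((Nat.Prime.coprime_iff_not_dvd (Fact.out : p.Prime)).2 hpk).symm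
    have hk2 : k ∣ 2 := hcop.dvd_of_dvd_mul_right hdvd
    have := Nat.le_of_dvd (by norm_num) hk2
    omega
  · have hq : Fintype.card F - 1 ≤ 2 * k := by
      rcases card_torus_cases hF X ht with h | h <;> omega
    obtain ⟨a, ha⟩ := hodd
    have ha2 : 2 ≤ a := by omega
    have e1 : (Fintype.card F + 1) / 2 = a + 1 := by omega
    have e2 : (Fintype.card F - 1) / 2 = a := by omega
    rw [e1, e2] at hk
    rcases hk with ⟨c', hc'⟩ | hk
    · rcases Nat.lt_or_ge c' 2 with h | h
      · interval_cases c'
        · omega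
        · right; omega
      · exfalso
        have : 2 * k ≤ k * c' := by
          rw [mul_comm]; exact Nat.mul_le_mul_left k h
        omega
    · have := Nat.le_of_dvd (by omega) hk
      left; omega

end Cfsg.Agent.Helper12.MaxSub
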