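import Mathlib
import Cfsg.Agent.Lib.Helper12.MaxSubD

set_option autoImplicit false
set_option linter.unusedVariables false
set_option linter.unusedSectionVars false
set_option linter.style.haveILetI false

/-! Images under automorphisms, subfield subgroups of `PSL₂(F)`. -/

namespace Cfsg.Agent.Helper12.MaxSub

open Matrix
open scoped MatrixGroups
open Cfsg.Agent.Helper12 (negOneSL negOneSL_coe SL2_sq_eq_one)
open Cfsg.Agent.Helper28.SubfieldPSL2

variable {F : Type*} [Field F]

local notation "cj" => Cfsg.Agent.Helper2.PA.conjSL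

section abstract

variable {G : Type*} [Group G]

theorem isCoatom_map_aut (τ : MulAut G) {M : Subgroup G} (hM : IsCoatom M) :
    IsCoatom (M.map (τ : G ≃* G).toMonoidHom) :=
  ((MulEquiv.mapSubgroup (τ : G ≃* G)).isCoatom_iff M).2 hM

/-- a coatom whose image under an automorphism lies in a proper subgroup is isomorphic to it -/
theorem equiv_of_map_le (τ : MulAut G) {M L : Subgroup G} (hM : IsCoatom M)
    (hle : M.map (τ : G ≃* G).toMonoidHom ≤ L) (hL : L ≠ ⊤) : Nonempty (M ≃* L) := by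
  have hco := isCoatom_map_aut τ hM
  have heq : M.map (τ : G ≃* G).toMonoidHom = L := by
    by_contra hne
    exact hL (hco.2 _ (lt_of_le_of_ne hle hne))
  exact ⟨(M.equivMapOfInjective _ (τ : G ≃* G).injective).trans (MulEquiv.subgroupCongr heq)⟩

end abstract

/-- a matrix of `SL₂(F)` with entries in the image of `ι` comes from `SL₂(K)` -/
theorem exists_map_eq' {K : Type*} [Field K] (ι : K →+* F) (h : SL(2, F))
    (hh : ∀ i j, ∃ y : K, h.1 i j = ι y) :
    ∃ g : SL(2, K), Matrix.SpecialLinearGroup.map ι g = h := by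
  choose y hy using hh
  have hdet : h.1 0 0 * h.1 1 1 - h.1 0 1 * h.1 1 0 = 1 := by
    have := h.2
    rw [Matrix.det_fin_two] at this
    exact this
  refine ⟨⟨!![y 0 0, y 0 1; y 1 0, y 1 1], ?_⟩, ?_⟩
  · rw [Matrix.det_fin_two_of]
    apply ι.injective
    rw [map_sub, map_mul, map_mul, ← hy, ← hy, ← hy, ← hy, map_one]
    exact hdet
  · apply Subtype.ext
    ext i j
    change ι ((!![y 0 0, y 0 1; y 1 0, y 1 1] : Matrix (Fin 2) (Fin 2) K) i j) = h.1 i j
    fin_cases i <;> fin_cases j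
    · exact (hy 0 0).symm
    · exact (hy 0 1).symm
    · exact (hy 1 0).symm
    · exact (hy 1 1).symm

/-- the image lies in the subfield subgroup of `PSL₂` type -/
theorem map_aut_le_range_sl {K : Type*} [Field K] (ι : K →+* F) (g : GL (Fin 2) F)
    (M : Subgroup (Matrix.ProjectiveSpecialLinearGroup (Fin 2) F))
    (h : ∀ X : SL(2, F), mkP X ∈ M → ∀ i j, ∃ y : K, (cj g X).1 i j = ι y) :
    M.map ((autP g : MulAut _) : _ ≃* _).toMonoidHom ≤ (slToPSL ι).range := by
  rintro _ ⟨x, hx, rfl⟩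
  obtain ⟨X, rfl⟩ := mkP_surjective x
  obtain ⟨Y, hY⟩ := exists_map_eq' ι (cj g X) (h X hx)
  refine ⟨Y, ?_⟩
  change mkP (Matrix.SpecialLinearGroup.map ι Y) = mkP (cj g X)
  rw [hY]

/-- the image lies in the subfield subgroup of `PGL₂` type -/
theorem map_aut_le_range_gl {K : Type*} [Field K] (ι : K →+* F)
    (hsq : ∀ x : K, x ≠ 0 → IsSquare (ι x)) (g : GL (Fin 2) F)
    (M : Subgroup (Matrix.ProjectiveSpecialLinearGroup (Fin 2) F))
    (h : ∀ X : SL(2, F), mkP X ∈ M → ∃ c : F, c ≠ 0 ∧ ∀ i j, ∃ y : K, (cj g X).1 i j = c * ι y) :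
    M.map ((autP g : MulAut _) : _ ≃* _).toMonoidHom ≤ (glToPSL ι hsq).range := by
  rintro _ ⟨x, hx, rfl⟩
  obtain ⟨X, rfl⟩ := mkP_surjective x
  obtain ⟨c, hc, hent⟩ := h X hx
  choose y hy using hent
  set Y : Matrix (Fin 2) (Fin 2) K := !![y 0 0, y 0 1; y 1 0, y 1 1] with hYdef
  have hcoe : (cj g X).1 = c • ι.mapMatrix Y := by
    ext i j
    rw [Matrix.smul_apply, smul_eq_mul, RingHom.mapMatrix_apply, Matrix.map_apply]
    fin_cases i <;> fin_cases j
    · exact hy 0 0
    · exact hy 0 1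
    · exact hy 1 0
    · exact hy 1 1
  have hdet : c ^ 2 * ι Y.det = 1 := by
    have := (cj g X).2
    rw [hcoe, Matrix.det_smul, Fintype.card_fin, ← RingHom.map_det] at this
    exact this
  have hY0 : Y.det ≠ 0 := by
    intro h0
    rw [h0, map_zero, mul_zero] at hdet
    exact zero_ne_one hdet
  set Yg : GL (Fin 2) K := Matrix.GeneralLinearGroup.mkOfDetNeZero Y hY0 with hYg
  have hYgc : (Yg : Matrix (Fin 2) (Fin 2) K) = Y := rfl
  refine ⟨Yg, ?_⟩
  rw [glToPSL_apply]
  -- the two square roots differ by a sign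
  have hs := sroot_mul_self ι hsq Yg
  rw [hYgc] at hs
  have hιd : ι Y.det ≠ 0 := fun h0 => hY0 (ι.injective (by rw [h0, map_zero]))
  have hsc : sroot ι hsq Yg * sroot ι hsq Yg = c * c := by
    rw [hs, map_inv₀]
    field_simp
    linear_combination -hdet
  rcases mul_self_eq_mul_self_iff.1 hsc with h1 | h1
  · change mkP (lift ι hsq Yg) = mkP (cj g X)
    congr 1
    apply Subtype.ext
    rw [lift_coe, h1, hYgc, hcoe]
  · change (QuotientGroup.mk (lift ι hsq Yg) : Matrix.ProjectiveSpecialLinearGroup (Fin 2) F)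
      = QuotientGroup.mk (cj g X)
    apply mk_eq_of_neg
    rw [lift_coe, h1, hYgc]
    change _ = -(cj g X).1
    rw [hcoe, neg_smul]

section card

variable {K : Type*} [Field K] (ι : K →+* F)

/-- the subfield subgroup of `PSL₂` type is `PSL₂(K)` -/
noncomputable def rangeSlEquiv :
    (slToPSL (F := F) ι).range ≃* Matrix.ProjectiveSpecialLinearGroup (Fin 2) K :=
  ((QuotientGroup.quotientMulEquivOfEq (ker_slToPSL ι)).symm.trans
    (QuotientGroup.quotientKerEquivRange (slToPSL ι))).symm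

/-- the subfield subgroup of `PGL₂` type is `PGL₂(K)` -/
noncomputable def rangeGlEquiv (hsq : ∀ x : K, x ≠ 0 → IsSquare (ι x)) :
    (glToPSL (F := F) ι hsq).range ≃* Matrix.ProjGenLinGroup (Fin 2) K :=
  ((QuotientGroup.quotientMulEquivOfEq (ker_glToPSL ι hsq)).symm.trans
    (QuotientGroup.quotientKerEquivRange (glToPSL ι hsq))).symm

end card

end Cfsg.Agent.Helper12.MaxSub
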