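import Mathlib
import Cfsg.Agent.Lib.Helper12.MaxSubD

set_option autoImplicit false
set_option linter.unusedVariables false
set_option linter.unusedSectionVars false
set_option linter.style.haveILetI false

/-! Traces of elements of `SL₂(F)` of given orders lie in subfields. -/

namespace Cfsg.Agent.Helper12.MaxSub

open Matrix
open scoped MatrixGroups
open Cfsg.Agent.Helper12 (negOneSL negOneSL_coe SL2_sq_eq_one coe_inv_SL2)

variable {F : Type*} [Field F]

theorem coe_pow_SL (X : SL(2, F)) (n : ℕ) : (X ^ n).1 = X.1 ^ n :=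
  Matrix.SpecialLinearGroup.coe_pow X n

/-- Frobenius and traces -/
theorem trace_smul_one_pow (p : ℕ) [Fact p.Prime] [CharP F p] (a : ℕ) (X : SL(2, F)) :
    (X.1.trace ^ (p ^ a)) • (1 : Matrix (Fin 2) (Fin 2) F) =
      (X ^ (p ^ a)).1 + ((X ^ (p ^ a))⁻¹).1 := by
  have h1 : X.1 + (X⁻¹).1 = X.1.trace • (1 : Matrix (Fin 2) (Fin 2) F) := by
    rw [coe_inv_SL2]; abel
  have hc : Commute X.1 (X⁻¹).1 := by
    have h : X * X⁻¹ = X⁻¹ * X := by group
    exact congrArg Subtype.val h
  have h2 := add_pow_char_pow_of_commute p a hc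
  rw [h1, smul_pow, one_pow] at h2
  rw [h2, coe_pow_SL, ← inv_pow, coe_pow_SL]

theorem trace_pow_eq_of_pow_eq_self (p : ℕ) [Fact p.Prime] [CharP F p] (a : ℕ) (X : SL(2, F))
    (hX : X ^ (p ^ a) = X ∨ X ^ (p ^ a) = X⁻¹) : X.1.trace ^ (p ^ a) = X.1.trace := by
  have h := trace_smul_one_pow p a X
  have h1 : X.1 + (X⁻¹).1 = X.1.trace • (1 : Matrix (Fin 2) (Fin 2) F) := by
    rw [coe_inv_SL2]; abel
  have h3 : (X.1.trace ^ (p ^ a)) • (1 : Matrix (Fin 2) (Fin 2) F) =
      X.1.trace • (1 : Matrix (Fin 2) (Fin 2) F) := by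
    rcases hX with hX | hX
    · rw [h, hX, h1]
    · rw [h, hX, inv_inv, add_comm, h1]
  have := congrFun (congrFun h3 0) 0
  simpa using this

/-- an element whose order divides `Q - 1` or `Q + 1` has trace in the field of order `Q` -/
theorem trace_pow_eq_of_pow_eq_one (p : ℕ) [Fact p.Prime] [CharP F p] (a : ℕ) (X : SL(2, F))
    (N : ℕ) (hX : X ^ N = 1) (hN : N ∣ p ^ a - 1 ∨ N ∣ p ^ a + 1) :
    X.1.trace ^ (p ^ a) = X.1.trace := by
  apply trace_pow_eq_of_pow_eq_self
  have hpos : 1 ≤ p ^ a := Nat.one_le_pow _ _ (Fact.out : p.Prime).pos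
  rcases hN with ⟨c, hc⟩ | ⟨c, hc⟩
  · left
    have : X ^ (p ^ a - 1) = 1 := by rw [hc, pow_mul, hX, one_pow]
    calc X ^ (p ^ a) = X ^ (p ^ a - 1 + 1) := by rw [Nat.sub_add_cancel hpos]
      _ = X := by rw [pow_succ, this, one_mul]
  · right
    have : X ^ (p ^ a + 1) = 1 := by rw [hc, pow_mul, hX, one_pow]
    rw [pow_succ] at this
    exact eq_inv_of_mul_eq_one_left this

/-- elements of order dividing `2 p` have trace in the prime field -/
theorem trace_pow_eq_of_unip (h2 : (2 : F) ≠ 0) (p : ℕ) [Fact p.Prime] [CharP F p] (X : SL(2, F))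
    (hX : X ^ (2 * p) = 1) : X.1.trace ^ p = X.1.trace := by
  have hsq : X ^ p * X ^ p = 1 := by rw [← pow_add, ← two_mul]; exact hX
  have h := trace_smul_one_pow p 1 X
  rw [pow_one] at h
  have h3 : (X.1.trace ^ p) ^ p = X.1.trace ^ p := by
    rcases SL2_sq_eq_one h2 _ hsq with h1 | h1
    · rw [h1, inv_one] at h
      have h00 := congrFun (congrFun h 0) 0
      have e : X.1.trace ^ p = 2 := by
        simp at h00
        rw [h00]; norm_num
      rw [e]
      have := map_ofNat (frobenius F p) 2
      rw [frobenius_def] at this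
      exact this
    · have hn : (negOneSL : SL(2, F))⁻¹ = negOneSL := by
        apply inv_eq_of_mul_eq_one_left
        exact Cfsg.Agent.Helper12.negOneSL_mul_self
      rw [h1, hn, negOneSL_coe] at h
      have h00 := congrFun (congrFun h 0) 0
      have e : X.1.trace ^ p = -2 := by
        simp at h00
        rw [h00]; norm_num
      rw [e]
      have := map_ofNat (frobenius F p) 2
      rw [frobenius_def] at this
      rw [neg_pow, this]
      rcases (Fact.out : p.Prime).eq_two_or_odd' with hp2 | hodd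
      · exfalso
        apply h2
        have := CharP.cast_eq_zero F p
        rw [hp2] at this
        exact_mod_cast this
      · rw [hodd.neg_one_pow]; ring
  exact frobenius_inj F p h3

theorem pow_pow_eq_of_pow_eq {t : F} {p : ℕ} (h : t ^ p = t) (a : ℕ) : t ^ (p ^ a) = t := by
  induction a with
  | zero => simp
  | succ k ih => rw [pow_succ, pow_mul, ih, h]

/-- **traces from orders in `PSL₂`**: `2 n` divides `Q - 1` or `Q + 1` -/
theorem trace_of_order (p : ℕ) [Fact p.Prime] [CharP F p] (a : ℕ) (X : SL(2, F)) (n : ℕ)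
    (hX : mkP X ^ n = 1) (hn : 2 * n ∣ p ^ a - 1 ∨ 2 * n ∣ p ^ a + 1) :
    X.1.trace ^ (p ^ a) = X.1.trace := by
  have h1 : X ^ (2 * n) = 1 := by
    rw [← map_pow, mkP_eq_one_iff] at hX
    rw [mul_comm, pow_mul]
    rcases hX with h | h
    · rw [h, one_pow]
    · rw [h, pow_two]; exact Cfsg.Agent.Helper12.negOneSL_mul_self
  exact trace_pow_eq_of_pow_eq_one p a X (2 * n) h1 hn

/-- **traces from orders in `PSL₂`**: order `p` -/
theorem trace_of_order_char (h2 : (2 : F) ≠ 0) (p : ℕ) [Fact p.Prime] [CharP F p] (a : ℕ)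
    (X : SL(2, F)) (hX : mkP X ^ p = 1) : X.1.trace ^ (p ^ a) = X.1.trace := by
  have h1 : X ^ (2 * p) = 1 := by
    rw [← map_pow, mkP_eq_one_iff] at hX
    rw [mul_comm, pow_mul]
    rcases hX with h | h
    · rw [h, one_pow]
    · rw [h, pow_two]; exact Cfsg.Agent.Helper12.negOneSL_mul_self
  exact pow_pow_eq_of_pow_eq (trace_pow_eq_of_unip h2 p X h1) a

/-- an element fixed by the `Q`-th power map lies in the image of the field with `Q` elements -/
theorem mem_range_of_pow_card_eq {K : Type*} [Field K] [Fintype K] (ι : K →+* F) (t : F)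
    (ht : t ^ Fintype.card K = t) : ∃ y : K, t = ι y := by
  classical
  by_contra hcon
  push Not at hcon
  set Q := Fintype.card K with hQ
  have hQ1 : 1 < Q := Fintype.one_lt_card
  set P : Polynomial F := Polynomial.X ^ Q - Polynomial.X with hP
  have hP0 : P ≠ 0 := FiniteField.X_pow_card_sub_X_ne_zero F hQ1
  have hdeg : P.natDegree = Q := FiniteField.X_pow_card_sub_X_natDegree_eq F hQ1
  have hroot : ∀ y : K, ι y ∈ P.roots := by
    intro y
    rw [Polynomial.mem_roots hP0, Polynomial.IsRoot.def, hP, Polynomial.eval_sub,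
      Polynomial.eval_pow, Polynomial.eval_X, ← map_pow, FiniteField.pow_card, sub_self]
  have hroot' : t ∈ P.roots := by
    rw [Polynomial.mem_roots hP0, Polynomial.IsRoot.def, hP, Polynomial.eval_sub,
      Polynomial.eval_pow, Polynomial.eval_X, ht, sub_self]
  have hsub : insert t (Finset.univ.image ι) ⊆ P.roots.toFinset := by
    intro x hx
    rw [Multiset.mem_toFinset]
    rcases Finset.mem_insert.1 hx with rfl | hx
    · exact hroot'
    · obtain ⟨y, -, rfl⟩ := Finset.mem_image.1 hx
      exact hroot y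
  have hcard : (insert t (Finset.univ.image ι)).card = Q + 1 := by
    rw [Finset.card_insert_of_notMem, Finset.card_image_of_injective _ ι.injective,
      Finset.card_univ]
    intro h
    obtain ⟨y, -, hy⟩ := Finset.mem_image.1 h
    exact hcon y hy.symm
  have h1 := Finset.card_le_card hsub
  have h2 : P.roots.toFinset.card ≤ Multiset.card P.roots := Multiset.toFinset_card_le _
  have h3 := Polynomial.card_roots' P
  omega

end Cfsg.Agent.Helper12.MaxSub
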