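import Mathlib
import Cfsg.Agent.Lib.Helper12.PSL2Max3
import Cfsg.Agent.Lib.Helper28.SubfieldPSL2

/-!
# Maximal subgroups of `PSL₂(q)` via Dickson's theorem (helper12), part 4:
arithmetic and subfield subgroups
-/

set_option autoImplicit false

namespace Cfsg.Agent.Helper12.PSL2Max

open Matrix Matrix.SpecialLinearGroup
open scoped MatrixGroups

/-- `x^(2e) - 1 ∣ 2 (x^(2a) - 1)` forces `e ∣ a` -/
theorem dvd_of_pow_sub_one_dvd {x e a : ℕ} (hx : 2 ≤ x) (he : 1 ≤ e)
    (h : x ^ (2 * e) - 1 ∣ 2 * (x ^ (2 * a) - 1)) : e ∣ a := by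
  by_contra hcon
  obtain ⟨g, hg⟩ : ∃ g, g = Nat.gcd e a := ⟨_, rfl⟩
  have hge : g ∣ e := by rw [hg]; exact Nat.gcd_dvd_left e a
  have hga : g ∣ a := by rw [hg]; exact Nat.gcd_dvd_right e a
  have hgne : g ≠ e := by
    intro h1
    apply hcon
    rw [← h1]; exact hga
  have hgpos : 0 < g := Nat.pos_of_dvd_of_pos hge he
  have h2g : 2 * g ≤ e := by
    obtain ⟨c, hc⟩ := hge
    have hc1 : c ≠ 1 := by
      rintro rfl
      rw [mul_one] at hc
      exact hgne hc.symm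
    have hc0 : c ≠ 0 := by
      rintro rfl
      omega
    have hc2 : 2 ≤ c := by omega
    calc 2 * g = g * 2 := by ring
      _ ≤ g * c := Nat.mul_le_mul_left g hc2
      _ = e := hc.symm
  have hgcd : Nat.gcd (x ^ (2 * e) - 1) (x ^ (2 * a) - 1) = x ^ (2 * g) - 1 := by
    rw [Nat.pow_sub_one_gcd_pow_sub_one, Nat.gcd_mul_left, hg]
  have hD : x ^ (2 * e) - 1 ∣ 2 * (x ^ (2 * g) - 1) := by
    rw [← hgcd, ← Nat.gcd_mul_left]
    exact Nat.dvd_gcd (Dvd.intro_left 2 rfl) h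
  have hxe : 2 ≤ x ^ e := by
    calc 2 ≤ x := hx
      _ = x ^ 1 := (pow_one x).symm
      _ ≤ x ^ e := Nat.pow_le_pow_right (by omega) he
  have hx2g : x ^ (2 * g) ≤ x ^ e := Nat.pow_le_pow_right (by omega) h2g
  have hx2g1 : 2 ≤ x ^ (2 * g) := by
    calc 2 ≤ x := hx
      _ = x ^ 1 := (pow_one x).symm
      _ ≤ x ^ (2 * g) := Nat.pow_le_pow_right (by omega) (by omega)
  have hpos : 0 < 2 * (x ^ (2 * g) - 1) := by omega
  have hle := Nat.le_of_dvd hpos hD
  have hsq : x ^ (2 * e) = x ^ e * x ^ e := by rw [← pow_add]; congr 1; ring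
  have hbig : 2 * x ^ e ≤ x ^ e * x ^ e := Nat.mul_le_mul_right _ hxe
  omega

/-- the order of a finite field of characteristic `p` -/
theorem exists_card_eq_pow (K : Type*) [Field K] [Fintype K] (p : ℕ) [CharP K p] :
    ∃ e : ℕ, 1 ≤ e ∧ Fintype.card K = p ^ e := by
  obtain ⟨n, -, hn⟩ := FiniteField.card K p
  exact ⟨n, n.pos, hn⟩

section simple

variable (K : Type*) [Field K] [Fintype K]

theorem PSL2_noncomm (h4 : 4 ≤ Fintype.card K) :
    ¬ ∀ a b : Matrix.ProjectiveSpecialLinearGroup (Fin 2) K, a * b = b * a := by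
  intro hcomm
  haveI : IsSimpleGroup (Matrix.ProjectiveSpecialLinearGroup (Fin 2) K) :=
    Matrix.ProjectiveSpecialLinearGroup.rank_two_simple (by rw [Nat.card_eq_fintype_card]; exact h4)
  letI : CommGroup (Matrix.ProjectiveSpecialLinearGroup (Fin 2) K) :=
    { (inferInstance : Group (Matrix.ProjectiveSpecialLinearGroup (Fin 2) K)) with
      mul_comm := hcomm }
  have hprime : (Nat.card (Matrix.ProjectiveSpecialLinearGroup (Fin 2) K)).Prime :=
    IsSimpleGroup.prime_card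
  have h1 := card_PSL2_mul' K rfl
  obtain ⟨q, hq⟩ : ∃ q, q = Fintype.card K := ⟨_, rfl⟩
  rw [← hq] at h1 h4
  obtain ⟨N, hN⟩ : ∃ N, N = Nat.card (Matrix.ProjectiveSpecialLinearGroup (Fin 2) K) := ⟨_, rfl⟩
  rw [← hN] at h1 hprime
  -- q ∣ gcd * N, with gcd ≤ 2 < q ...
  have hg : Nat.gcd 2 (q - 1) = 1 ∨ Nat.gcd 2 (q - 1) = 2 :=
    Cfsg.Agent.Helper11.Dickson.gcd_two_cases _
  -- N = q (q-1)(q+1) / gcd is composite
  have hq1 : (q - 1) * (q + 1) ∣ Nat.gcd 2 (q - 1) * N := ⟨q, by rw [h1]; ring⟩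
  rcases hg with hg | hg
  · rw [hg, one_mul] at h1 hq1
    rcases (Nat.dvd_prime hprime).1 hq1 with h2 | h2
    · have : 3 * 5 ≤ (q - 1) * (q + 1) := Nat.mul_le_mul (by omega) (by omega)
      omega
    · have h3 : N * 1 = N * q := by
        rw [mul_one]
        calc N = q * (q - 1) * (q + 1) := h1
          _ = q * ((q - 1) * (q + 1)) := by ring
          _ = q * N := by rw [h2]
          _ = N * q := by ring
      have := Nat.eq_of_mul_eq_mul_left hprime.pos h3
      omega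
  · rw [hg] at h1 hq1
    -- q odd here
    have hqodd : ¬ 2 ∣ q := by
      intro h2
      have h3 : 2 ∣ q - 1 := by rw [← hg]; exact Nat.gcd_dvd_right _ _
      omega
    have hcop : Nat.Coprime q 2 := by
      rw [Nat.coprime_two_right]
      rw [Nat.odd_iff]; omega
    have hqN : q ∣ N := by
      have : q ∣ 2 * N := ⟨(q - 1) * (q + 1), by rw [h1]; ring⟩
      exact hcop.dvd_of_dvd_mul_left this
    rcases (Nat.dvd_prime hprime).1 hqN with h2 | h2
    · omega
    · rw [← h2] at h1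
      have h3 : q * 2 = q * ((q - 1) * (q + 1)) := by rw [mul_comm q 2, h1]; ring
      have := Nat.eq_of_mul_eq_mul_left (by omega : 0 < q) h3
      have : 3 * 5 ≤ (q - 1) * (q + 1) := Nat.mul_le_mul (by omega) (by omega)
      omega

theorem not_isCyclic_commutator_PSL2 (h4 : 4 ≤ Fintype.card K) :
    ¬ IsCyclic (commutator (Matrix.ProjectiveSpecialLinearGroup (Fin 2) K)) := by
  haveI : IsSimpleGroup (Matrix.ProjectiveSpecialLinearGroup (Fin 2) K) :=
    Matrix.ProjectiveSpecialLinearGroup.rank_two_simple (by rw [Nat.card_eq_fintype_card]; exact h4)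
  exact not_isCyclic_commutator_of_simple (PSL2_noncomm K h4)

theorem not_isPGroup_commutator_PSL2 (h4 : 4 ≤ Fintype.card K) (p : ℕ) [Fact p.Prime] :
    ¬ IsPGroup p (commutator (Matrix.ProjectiveSpecialLinearGroup (Fin 2) K)) := by
  haveI : IsSimpleGroup (Matrix.ProjectiveSpecialLinearGroup (Fin 2) K) :=
    Matrix.ProjectiveSpecialLinearGroup.rank_two_simple (by rw [Nat.card_eq_fintype_card]; exact h4)
  exact not_isPGroup_commutator_of_simple (PSL2_noncomm K h4) p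

end simple

/-- the order function `k (k-1) (k+1)` is monotone -/
theorem ord_mono {a b : ℕ} (h : a ≤ b) : a * (a - 1) * (a + 1) ≤ b * (b - 1) * (b + 1) :=
  Nat.mul_le_mul (Nat.mul_le_mul h (by omega)) (by omega)


/-- no intermediate exponent -/
theorem exponent_cases {x e a m r : ℕ} (hx : 2 ≤ x) (he : 1 ≤ e) (hr : r.Prime)
    (ham : a * m = e * r) (hdvd : x ^ (2 * e) - 1 ∣ 2 * (x ^ (2 * a) - 1)) :
    a = e ∨ a = e * r := by
  obtain ⟨c, hc⟩ := dvd_of_pow_sub_one_dvd hx he hdvd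
  rw [hc, mul_assoc] at ham
  have h1 : c * m = r := Nat.eq_of_mul_eq_mul_left (by omega) ham
  have h2 : c ∣ r := ⟨m, h1.symm⟩
  rcases (Nat.dvd_prime hr).1 h2 with h3 | h3
  · left; rw [hc, h3, mul_one]
  · right; rw [hc, h3]

theorem pred_mul_succ (n : ℕ) (hn : 1 ≤ n) : (n - 1) * (n + 1) = n ^ 2 - 1 := by
  obtain ⟨t, rfl⟩ : ∃ t, n = t + 1 := ⟨n - 1, by omega⟩
  rw [Nat.add_sub_cancel]
  symm
  apply Nat.sub_eq_of_eq_add
  ring

theorem ord_lt_imp {a b : ℕ} (h : a * (a - 1) * (a + 1) < b * (b - 1) * (b + 1)) : a < b := by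
  by_contra hcon
  have := ord_mono (Nat.le_of_not_lt hcon)
  omega

theorem ord_strict {a b : ℕ} (ha : 2 ≤ a) (h : a < b) :
    a * (a - 1) * (a + 1) < b * (b - 1) * (b + 1) := by
  have h1 : a * (a - 1) * (a + 1) < a * (a - 1) * (b + 1) :=
    Nat.mul_lt_mul_of_pos_left (by omega) (Nat.mul_pos (by omega) (by omega))
  have h2 : a * (a - 1) * (b + 1) ≤ b * (b - 1) * (b + 1) :=
    Nat.mul_le_mul_right _ (Nat.mul_le_mul h.le (by omega))
  omega

end Cfsg.Agent.Helper12.PSL2Max
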