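import Mathlib
import Cfsg.Agent.Lib.Helper12.MaxSubE
import Cfsg.Agent.Lib.Helper12.MaxSubF
import Cfsg.Agent.Lib.Helper12.PSL2Max4

set_option autoImplicit false
set_option linter.unusedVariables false
set_option linter.unusedSectionVars false
set_option linter.style.haveILetI false

/-! Maximal subgroups of `PSL₂(F)` whose traces lie in a proper subfield. -/

namespace Cfsg.Agent.Helper12.MaxSub

open Matrix
open scoped MatrixGroups
open Cfsg.Agent.Helper12 (negOneSL negOneSL_coe SL2_sq_eq_one coe_inv_SL2)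
open Cfsg.Agent.Helper28.SubfieldPSL2

variable {F : Type*} [Field F]

local notation "cj" => Cfsg.Agent.Helper2.PA.conjSL

/-- `-1` is a sum of two squares in a finite field of odd order -/
theorem exists_sq_add_sq {K : Type*} [Field K] [Fintype K] (hK : Fintype.card K % 2 = 1) :
    ∃ a b : K, a ^ 2 + b ^ 2 = -1 := by
  have hf : Polynomial.degree (Polynomial.X ^ 2 : Polynomial K) = 2 := Polynomial.degree_X_pow 2
  have hg : Polynomial.degree (Polynomial.X ^ 2 + Polynomial.C 1 : Polynomial K) = 2 := by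
    rw [Polynomial.degree_add_eq_left_of_degree_lt, Polynomial.degree_X_pow]
    · rfl
    · rw [Polynomial.degree_X_pow]
      exact lt_of_le_of_lt Polynomial.degree_C_le (by norm_num)
  obtain ⟨a, b, h⟩ := FiniteField.exists_root_sum_quadratic hf hg hK
  refine ⟨a, b, ?_⟩
  simp only [Polynomial.eval_pow, Polynomial.eval_X, Polynomial.eval_add, Polynomial.eval_C] at h
  linear_combination h

theorem two_ne_zero_of_odd_card [Fintype F] (hodd : Odd (Fintype.card F)) : (2 : F) ≠ 0 := by
  intro h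
  have hchar : ringChar F = 2 := by
    have : ((2 : ℕ) : F) = 0 := by exact_mod_cast h
    have hdvd := (ringChar.spec F 2).1 this
    rcases (Nat.dvd_prime Nat.prime_two).1 hdvd with h1 | h1
    · exfalso
      haveI := ringChar.charP F
      rw [h1] at this
      exact CharP.ringChar_ne_one h1
    · exact h1
  have := FiniteField.even_card_iff_char_two.1 hchar
  rw [Nat.odd_iff] at hodd
  omega

section main

variable [Fintype F] {K : Type*} [Field K] [Fintype K]

theorem odd_card_of_ringHom (ι : K →+* F) (hodd : Odd (Fintype.card F)) : Fintype.card K % 2 = 1 := by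
  have h2 := two_ne_zero_of_odd_card hodd
  by_contra h
  have heven : Fintype.card K % 2 = 0 := by omega
  have hchar := FiniteField.even_card_iff_char_two.2 heven
  haveI : CharP K 2 := ringChar.of_eq hchar
  apply h2
  have h3 : (2 : K) = 0 := CharTwo.two_eq_zero
  have h4 : ι 2 = 2 := map_ofNat ι 2
  rw [← h4, h3, map_zero]

theorem card_range_sl (ι : K →+* F) : Nat.card (slToPSL (F := F) ι).range =
    Nat.card (Matrix.ProjectiveSpecialLinearGroup (Fin 2) K) :=
  Nat.card_congr (rangeSlEquiv ι).toEquiv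

theorem two_mul_card_PSL2 (hodd : Odd (Fintype.card F)) :
    2 * Nat.card (Matrix.ProjectiveSpecialLinearGroup (Fin 2) F) =
      Fintype.card F * (Fintype.card F - 1) * (Fintype.card F + 1) := by
  have := Cfsg.Agent.Helper12.PSL2Max.card_PSL2_mul' F rfl
  rwa [Cfsg.Agent.Helper12.PSL2Max.gcd_two_odd hodd] at this

theorem range_sl_ne_top (ι : K →+* F) (hodd : Odd (Fintype.card F)) (hlt : Fintype.card K < Fintype.card F) :
    (slToPSL (F := F) ι).range ≠ ⊤ := by
  intro h
  have h1 := card_range_sl (F := F) ι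
  rw [h, Subgroup.card_top] at h1
  have h2 := two_mul_card_PSL2 hodd
  have hKodd : Odd (Fintype.card K) := Nat.odd_iff.2 (odd_card_of_ringHom ι hodd)
  have h3 := two_mul_card_PSL2 hKodd
  have h4 := Cfsg.Agent.Helper12.PSL2Max.ord_strict (Fintype.one_lt_card (α := K)) hlt
  omega

/-- **a maximal subgroup with a four-group and traces in a proper subfield** -/
theorem equiv_PSL2_of_traces (ι : K →+* F) (hodd : Odd (Fintype.card F)) (hlt : Fintype.card K < Fintype.card F)
    (M : Subgroup (Matrix.ProjectiveSpecialLinearGroup (Fin 2) F)) (hM : IsCoatom M)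
    (s t : Matrix.ProjectiveSpecialLinearGroup (Fin 2) F) (hs : s ∈ M) (ht : t ∈ M)
    (hs1 : s ≠ 1) (ht1 : t ≠ 1) (hst : s ≠ t) (hs2 : s * s = 1) (ht2 : t * t = 1)
    (hc : s * t = t * s)
    (htr : ∀ X : SL(2, F), mkP X ∈ M → X.1.trace ^ Fintype.card K = X.1.trace) :
    Nonempty (M ≃* Matrix.ProjectiveSpecialLinearGroup (Fin 2) K) := by
  have h2 := two_ne_zero_of_odd_card hodd
  obtain ⟨a0, b0, hab⟩ := exists_sq_add_sq (odd_card_of_ringHom ι hodd)
  obtain ⟨g, hg1, -⟩ := exists_aut_entries h2 ι a0 b0 hab M M le_rfl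
    (fun x hx y hy hx1 _ => absurd hx hx1) s t hs ht hs1 ht1 hst hs2 ht2 hc
    (fun X hX => mem_range_of_pow_card_eq ι _ (htr X hX))
  have hle := map_aut_le_range_sl ι g M hg1
  obtain ⟨e⟩ := equiv_of_map_le (autP g) hM hle (range_sl_ne_top ι hodd hlt)
  exact ⟨e.trans (rangeSlEquiv ι)⟩

theorem card_range_gl (ι : K →+* F) (hsq : ∀ x : K, x ≠ 0 → IsSquare (ι x)) :
    Nat.card (glToPSL (F := F) ι hsq).range = Nat.card (Matrix.ProjGenLinGroup (Fin 2) K) :=
  Nat.card_congr (rangeGlEquiv ι hsq).toEquiv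

/-- **a maximal subgroup with a four-group in a subgroup of index two with traces in a subfield
of squares** -/
theorem equiv_PGL2_of_traces (ι : K →+* F) (hodd : Odd (Fintype.card F))
    (hsq : ∀ x : K, x ≠ 0 → IsSquare (ι x))
    (hlt : 2 * (Fintype.card K * (Fintype.card K - 1) * (Fintype.card K + 1)) <
      Fintype.card F * (Fintype.card F - 1) * (Fintype.card F + 1))
    (M M1 : Subgroup (Matrix.ProjectiveSpecialLinearGroup (Fin 2) F)) (hM : IsCoatom M)
    (hM1 : M1 ≤ M) (hidx : ∀ x ∈ M, ∀ y ∈ M, x ∉ M1 → y ∉ M1 → x * y ∈ M1)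
    (s t : Matrix.ProjectiveSpecialLinearGroup (Fin 2) F) (hs : s ∈ M1) (ht : t ∈ M1)
    (hs1 : s ≠ 1) (ht1 : t ≠ 1) (hst : s ≠ t) (hs2 : s * s = 1) (ht2 : t * t = 1)
    (hc : s * t = t * s)
    (htr : ∀ X : SL(2, F), mkP X ∈ M1 → X.1.trace ^ Fintype.card K = X.1.trace) :
    Nonempty (M ≃* Matrix.ProjGenLinGroup (Fin 2) K) := by
  have h2 := two_ne_zero_of_odd_card hodd
  obtain ⟨a0, b0, hab⟩ := exists_sq_add_sq (odd_card_of_ringHom ι hodd)
  obtain ⟨g, -, hg2⟩ := exists_aut_entries h2 ι a0 b0 hab M M1 hM1 hidx s t hs ht hs1 ht1 hst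
    hs2 ht2 hc (fun X hX => mem_range_of_pow_card_eq ι _ (htr X hX))
  have hle := map_aut_le_range_gl ι hsq g M hg2
  have hne : (glToPSL (F := F) ι hsq).range ≠ ⊤ := by
    intro h
    have h1 := card_range_gl (F := F) ι hsq
    rw [h, Subgroup.card_top, Cfsg.Agent.Helper12.PSL2Max.card_PGL2' K rfl] at h1
    have h3 := two_mul_card_PSL2 hodd
    omega
  obtain ⟨e⟩ := equiv_of_map_le (autP g) hM hle hne
  exact ⟨e.trans (rangeGlEquiv ι hsq)⟩

end main

end Cfsg.Agent.Helper12.MaxSub
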