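import Mathlib
import Cfsg.Agent.Lib.Helper12.MaxSubG
import Cfsg.Agent.Lib.Helper11.DicksonRef

set_option autoImplicit false
set_option linter.unusedVariables false
set_option linter.unusedSectionVars false
set_option linter.style.haveILetI false

/-! Maximal subgroups of `PSL₂(F)` of Borel type, `F` of odd order. -/

namespace Cfsg.Agent.Helper12.MaxSub

open Matrix
open scoped MatrixGroups
open Cfsg.Agent.Helper12 (negOneSL negOneSL_coe borelSL2 mem_borelSL2_iff)

variable {F : Type*} [Field F] [Fintype F]

/-- **a maximal subgroup of `PSL₂(q)`, `q` odd, which is triangular in a frame has order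
`q (q - 1) / 2`** -/
theorem borel_coatom (hodd : Odd (Fintype.card F))
    (M : Subgroup (Matrix.ProjectiveSpecialLinearGroup (Fin 2) F)) (hM : IsCoatom M)
    (s : SL(2, F)) (hs : ∀ h ∈ M.comap mkP, (s * h * s⁻¹).1 1 0 = 0) :
    2 * Nat.card M = Fintype.card F * (Fintype.card F - 1) := by
  set B' : Subgroup SL(2, F) := (borelSL2 F).map (MulAut.conj s⁻¹).toMonoidHom with hB'
  have hmemB' : ∀ h : SL(2, F), h ∈ B' ↔ (s * h * s⁻¹).1 1 0 = 0 := by
    intro h
    rw [hB', Subgroup.mem_map]
    constructor
    · rintro ⟨b, hb, rfl⟩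
      have : s * ((MulAut.conj s⁻¹).toMonoidHom b) * s⁻¹ = b := by
        simp [MulAut.conj_apply]
        group
      rw [this]
      exact (mem_borelSL2_iff b).1 hb
    · intro hh
      refine ⟨s * h * s⁻¹, (mem_borelSL2_iff _).2 hh, ?_⟩
      simp [MulAut.conj_apply]
      group
  have hcardB' : Nat.card B' = Fintype.card F * (Fintype.card F - 1) := by
    rw [hB', Subgroup.card_map_of_injective (MulAut.conj s⁻¹).injective]
    exact Cfsg.Agent.Helper11.Dickson.card_borelSL2
  have hcen : (mkP (F := F)).ker ≤ B' := by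
    intro x hx
    rw [MonoidHom.mem_ker, mkP_eq_one_iff] at hx
    rw [hmemB']
    rcases hx with rfl | rfl
    · simp
    · have : s * negOneSL * s⁻¹ = negOneSL := by
        have hc := Cfsg.Agent.Helper12.negOneSL_comm s
        rw [← hc, mul_assoc, mul_inv_cancel, mul_one]
      rw [this, negOneSL_coe]
      simp
  set L := B'.map mkP with hL
  have hML : M ≤ L := by
    intro x hx
    obtain ⟨X, rfl⟩ := mkP_surjective x
    exact ⟨X, (hmemB' X).2 (hs X hx), rfl⟩
  have hLcomap : L.comap mkP = B' := by
    rw [hL, Subgroup.comap_map_eq, sup_eq_left]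
    exact hcen
  have hLcard : Nat.card L * 2 = Fintype.card F * (Fintype.card F - 1) := by
    have h3 := Cfsg.Agent.Helper11.Klein.card_preim L
    rw [Cfsg.Agent.Helper12.PSL2Max.gcd_two_odd hodd] at h3
    have h4 : Nat.card (L.comap mkP) = Nat.card L * 2 := h3
    rw [← h4, hLcomap, hcardB']
  have hLtop : L ≠ ⊤ := by
    intro h
    rw [h, Subgroup.card_top] at hLcard
    have h2 := two_mul_card_PSL2 hodd
    have hq : 2 ≤ Fintype.card F := Fintype.one_lt_card
    have : Fintype.card F * (Fintype.card F - 1) * (Fintype.card F + 1) =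
        Fintype.card F * (Fintype.card F - 1) * 1 := by
      rw [mul_one]; omega
    have h5 := Nat.eq_of_mul_eq_mul_left (Nat.mul_pos (by omega) (by omega)) this
    omega
  have hEq : M = L := by
    by_contra hne
    exact hLtop (hM.2 _ (lt_of_le_of_ne hML hne))
  rw [hEq, mul_comm]
  exact hLcard

end Cfsg.Agent.Helper12.MaxSub
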