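import Mathlib
import Cfsg.Agent.Lib.Helper12.MaxSubG
import Cfsg.Agent.Lib.Helper12.SL2Sylow
import Cfsg.Agent.Lib.Helper12.SL2Nonsplit

set_option autoImplicit false
set_option linter.unusedVariables false
set_option linter.unusedSectionVars false
set_option linter.style.haveILetI false

/-! Element orders and four-groups in `PSL₂(K)` and `PGL₂(K)`. -/

namespace Cfsg.Agent.Helper12.MaxSub

open Matrix
open scoped MatrixGroups
open Cfsg.Agent.Helper12 (negOneSL negOneSL_coe SL2_sq_eq_one coe_inv_SL2)

/-- the condition on the order of an element -/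
def OrdCond {G : Type*} [Group G] (q p : ℕ) (x : G) : Prop :=
  x ^ ((q - 1) / 2) = 1 ∨ x ^ ((q + 1) / 2) = 1 ∨ x ^ p = 1

theorem OrdCond.map {G H : Type*} [Group G] [Group H] (f : G →* H) {q p : ℕ} {x : G}
    (h : OrdCond q p x) : OrdCond q p (f x) := by
  rcases h with h | h | h
  · left; rw [← map_pow, h, map_one]
  · right; left; rw [← map_pow, h, map_one]
  · right; right; rw [← map_pow, h, map_one]

theorem OrdCond.of_map {G H : Type*} [Group G] [Group H] (f : G →* H) (hf : Function.Injective f)
    {q p : ℕ} {x : G} (h : OrdCond q p (f x)) : OrdCond q p x := by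
  rcases h with h | h | h
  · left; apply hf; rw [map_pow, h, map_one]
  · right; left; apply hf; rw [map_pow, h, map_one]
  · right; right; apply hf; rw [map_pow, h, map_one]

section psl

variable {K : Type*} [Field K] [Fintype K]

theorem mkP_pow_half (h2 : (2 : K) ≠ 0) (Y : SL(2, K)) (n : ℕ) (hn : Y ^ (2 * n) = 1) :
    mkP Y ^ n = 1 := by
  rw [← map_pow, mkP_eq_one_iff]
  apply SL2_sq_eq_one h2
  rw [← pow_add, ← two_mul]
  exact hn

/-- the orders of the elements of `PSL₂(K)` -/
theorem ordCond_PSL2 (p : ℕ) [Fact p.Prime] [CharP K p] (hodd : Odd (Fintype.card K))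
    (y : Matrix.ProjectiveSpecialLinearGroup (Fin 2) K) : OrdCond (Fintype.card K) p y := by
  classical
  have h2 := two_ne_zero_of_odd_card hodd
  have hF : ringChar K ≠ 2 := by
    intro h
    have := FiniteField.even_card_iff_char_two.1 h
    rw [Nat.odd_iff] at hodd
    omega
  obtain ⟨Y, rfl⟩ := mkP_surjective y
  obtain ⟨a, ha⟩ := hodd
  by_cases hroot : ∃ l : K, l ^ 2 - Y.1.trace * l + 1 = 0
  · obtain ⟨l, hl⟩ := hroot
    by_cases hl1 : l ^ 2 = 1
    · right; right
      exact mkP_pow_half h2 Y p (Cfsg.Agent.Helper12.SL2_pow_two_char_eq_one p Y l hl hl1)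
    · left
      apply mkP_pow_half h2 Y
      have := Cfsg.Agent.Helper12.SL2_pow_card_sub_one_eq_one Y l hl hl1
      have e : 2 * ((Fintype.card K - 1) / 2) = Fintype.card K - 1 := by omega
      rw [e]; exact this
  · push Not at hroot
    right; left
    apply mkP_pow_half h2 Y
    have := (Cfsg.Agent.Helper12.isElliptic_of_charpoly Y hroot).pow_card_add_one hF
    have e : 2 * ((Fintype.card K + 1) / 2) = Fintype.card K + 1 := by omega
    rw [e]; exact this

/-- the standard four-group of `PSL₂(K)` -/
theorem exists_klein_PSL2 (hodd : Odd (Fintype.card K)) :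
    ∃ s t : Matrix.ProjectiveSpecialLinearGroup (Fin 2) K, s ≠ 1 ∧ t ≠ 1 ∧ s ≠ t ∧ s * s = 1 ∧
      t * t = 1 ∧ s * t = t * s := by
  have h2 := two_ne_zero_of_odd_card hodd
  obtain ⟨a0, b0, hab⟩ := exists_sq_add_sq (K := K) (Nat.odd_iff.1 hodd)
  have hJ1 : (slJ : SL(2, K)) ≠ 1 := by
    intro h
    have := congrArg (fun A : SL(2, K) => A.1 0 0) h
    simp [slJ, matJ] at this
  have hJ2 : (slJ : SL(2, K)) ≠ negOneSL := by
    intro h
    have := congrArg (fun A : SL(2, K) => A.1 0 0) h
    simp [slJ, matJ, negOneSL_coe] at this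
  have hT1 : slT a0 b0 hab ≠ 1 := by
    intro h
    have h00 := congrArg (fun A : SL(2, K) => A.1 0 0) h
    have h11 := congrArg (fun A : SL(2, K) => A.1 1 1) h
    simp [slT, matT] at h00 h11
    apply h2
    linear_combination -h00 - h11
  have hT2 : slT a0 b0 hab ≠ negOneSL := by
    intro h
    have h00 := congrArg (fun A : SL(2, K) => A.1 0 0) h
    have h11 := congrArg (fun A : SL(2, K) => A.1 1 1) h
    simp [slT, matT, negOneSL_coe] at h00 h11
    apply h2
    linear_combination h00 - h11
  have hsq : ∀ A : SL(2, K), A.1 * A.1 = -1 → mkP A * mkP A = 1 := by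
    intro A hA
    rw [← map_mul, mkP_eq_one_iff]
    right
    apply Subtype.ext
    rw [negOneSL_coe]
    exact hA
  refine ⟨mkP slJ, mkP (slT a0 b0 hab), ?_, ?_, ?_, ?_, ?_, ?_⟩
  · intro h
    rcases (mkP_eq_one_iff _).1 h with h | h
    · exact hJ1 h
    · exact hJ2 h
  · intro h
    rcases (mkP_eq_one_iff _).1 h with h | h
    · exact hT1 h
    · exact hT2 h
  · intro h
    have h1 : mkP ((slJ : SL(2, K))⁻¹ * slT a0 b0 hab) = 1 := by
      rw [map_mul, map_inv, h, inv_mul_cancel]
    rcases (mkP_eq_one_iff _).1 h1 with h3 | h3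
    · have h4 : slT a0 b0 hab = slJ := by
        have := congrArg (fun A => (slJ : SL(2, K)) * A) h3
        simpa using this
      have h01 := congrArg (fun A : SL(2, K) => A.1 0 1) h4
      have h10 := congrArg (fun A : SL(2, K) => A.1 1 0) h4
      simp [slT, matT, slJ, matJ] at h01 h10
      apply h2
      linear_combination h01 - h10
    · have h4 : slT a0 b0 hab = slJ * negOneSL := by
        have := congrArg (fun A => (slJ : SL(2, K)) * A) h3
        simpa using this
      have hcoe : ((slJ : SL(2, K)) * negOneSL).1 = -matJ := by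
        change matJ * (negOneSL : SL(2, K)).1 = -matJ
        rw [negOneSL_coe]; simp
      have h5 : matT a0 b0 = -matJ := by
        rw [← hcoe, ← h4]; rfl
      have h01 := congrFun (congrFun h5 0) 1
      have h10 := congrFun (congrFun h5 1) 0
      simp [matT, matJ] at h01 h10
      apply h2
      linear_combination h10 - h01
  · exact hsq _ matJ_mul_matJ
  · exact hsq _ (matT_mul_matT a0 b0 hab)
  · rw [← map_mul, ← map_mul]
    have h1 : (slJ : SL(2, K)) * slT a0 b0 hab = negOneSL * (slT a0 b0 hab * slJ) := by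
      apply Subtype.ext
      change matJ * matT a0 b0 = (negOneSL : SL(2, K)).1 * (matT a0 b0 * matJ)
      rw [negOneSL_coe, matJ_mul_matT]
      simp
    rw [h1, map_mul, negOneSL_mem_ker, one_mul]

end psl

end Cfsg.Agent.Helper12.MaxSub
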