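import Mathlib
import Cfsg.Agent.Lib.Helper12.MaxSubJ

set_option autoImplicit false
set_option linter.unusedVariables false
set_option linter.unusedSectionVars false
set_option linter.style.haveILetI false

/-! Traces from order conditions; `PGL₂(K)`; the groups `A₄`, `S₄`, `A₅`. -/

namespace Cfsg.Agent.Helper12.MaxSub

open Matrix
open scoped MatrixGroups
open Cfsg.Agent.Helper12 (negOneSL negOneSL_coe SL2_sq_eq_one coe_inv_SL2)

section traces

variable {F : Type*} [Field F]

/-- the trace of an element whose image satisfies the order condition for `Q = p ^ b` -/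
theorem trace_of_ordCond (h2 : (2 : F) ≠ 0) (p : ℕ) [Fact p.Prime] [CharP F p] (b : ℕ)
    (hQ : Odd (p ^ b)) (X : SL(2, F)) (h : OrdCond (p ^ b) p (mkP X)) :
    X.1.trace ^ (p ^ b) = X.1.trace := by
  obtain ⟨a, ha⟩ := hQ
  rcases h with h | h | h
  · apply trace_of_order p b X _ h
    left
    have : 2 * ((p ^ b - 1) / 2) = p ^ b - 1 := by omega
    rw [this]
  · apply trace_of_order p b X _ h
    right
    have : 2 * ((p ^ b + 1) / 2) = p ^ b + 1 := by omega
    rw [this]
  · exact trace_of_order_char h2 p b X h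

/-- square roots of elements of the field of order `Q` lie in the field of order `Q²` -/
theorem pow_sq_card_of_sq {Q : ℕ} (hQ : Odd Q) (t : F) (h : (t ^ 2) ^ Q = t ^ 2) :
    t ^ (Q ^ 2) = t := by
  obtain ⟨a, ha⟩ := hQ
  by_cases ht : t = 0
  · rw [ht, zero_pow]
    exact pow_ne_zero _ (by omega)
  have hu : t ^ 2 ≠ 0 := pow_ne_zero _ ht
  have h1 : (t ^ 2) ^ (Q - 1) = 1 := by
    have h3 : (t ^ 2) ^ (Q - 1) * t ^ 2 = 1 * t ^ 2 := by
      rw [← pow_succ, one_mul]
      have : Q - 1 + 1 = Q := by omega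
      rw [this]; exact h
    exact mul_right_cancel₀ hu h3
  have h4 : Q ^ 2 = 2 * ((Q - 1) * (a + 1)) + 1 := by
    have : Q - 1 = 2 * a := by omega
    rw [this, ha]; ring
  rw [h4, pow_succ, pow_mul, pow_mul, h1, one_pow, one_mul]

theorem trace_sq_SL (X : SL(2, F)) : (X * X).1.trace = X.1.trace ^ 2 - 2 := by
  have h := trace_mul_trace X X
  rw [mul_inv_cancel, Matrix.SpecialLinearGroup.coe_one, Matrix.trace_one, Fintype.card_fin] at h
  rw [sq]
  have : ((2 : ℕ) : F) = 2 := by norm_num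
  rw [this] at h
  linear_combination -h

/-- traces of elements whose squares have traces in the field of order `Q` -/
theorem trace_pow_sq_card (h2 : (2 : F) ≠ 0) (p : ℕ) [Fact p.Prime] [CharP F p] (b : ℕ)
    (hQ : Odd (p ^ b)) (X : SL(2, F)) (h : (X * X).1.trace ^ (p ^ b) = (X * X).1.trace) :
    X.1.trace ^ ((p ^ b) ^ 2) = X.1.trace := by
  apply pow_sq_card_of_sq hQ
  rw [trace_sq_SL] at h
  have h3 : (X.1.trace ^ 2 - 2) ^ (p ^ b) = (X.1.trace ^ 2) ^ (p ^ b) - 2 ^ (p ^ b) :=
    sub_pow_char_pow _ _ _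
  have h4 : (2 : F) ^ (p ^ b) = 2 := by
    have h5 : (2 : F) ^ p = 2 := by
      have := map_ofNat (frobenius F p) 2
      rwa [frobenius_def] at this
    exact pow_pow_eq_of_pow_eq h5 b
  rw [h3, h4] at h
  linear_combination h

end traces

section pgl

variable {K : Type*} [Field K]

/-- squares in `PGL₂(K)` lie in the image of `PSL₂(K)` -/
theorem sq_mem_range_toPGL (g : Matrix.ProjGenLinGroup (Fin 2) K) :
    g * g ∈ (Matrix.ProjectiveSpecialLinearGroup.toPGL (n := Fin 2) (R := K)).range := by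
  induction g using Matrix.ProjGenLinGroup.induction_on with
  | mk g0 =>
    have hd : (g0 : Matrix (Fin 2) (Fin 2) K).det ≠ 0 := Matrix.GeneralLinearGroup.det_ne_zero g0
    set d := (g0 : Matrix (Fin 2) (Fin 2) K).det with hddef
    have hdet : (d⁻¹ • ((g0 : Matrix (Fin 2) (Fin 2) K) * (g0 : Matrix (Fin 2) (Fin 2) K))).det
        = 1 := by
      rw [Matrix.det_smul, Matrix.det_mul, Fintype.card_fin, ← hddef]
      field_simp
    set Y : SL(2, K) := ⟨_, hdet⟩ with hY
    refine ⟨mkP Y, ?_⟩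
    change Matrix.ProjGenLinGroup.mk (Matrix.SpecialLinearGroup.toGL Y) = _
    rw [← map_mul, Matrix.ProjGenLinGroup.mk_eq_mk_iff]
    refine ⟨Units.mk0 d hd, ?_⟩
    apply Units.ext
    rw [Units.val_mul, Units.val_mul]
    change (d⁻¹ • ((g0 : Matrix (Fin 2) (Fin 2) K) * (g0 : Matrix (Fin 2) (Fin 2) K))) *
      (Matrix.GeneralLinearGroup.scalar (Fin 2) (Units.mk0 d hd) : Matrix (Fin 2) (Fin 2) K) = _
    rw [Matrix.GeneralLinearGroup.coe_scalar]
    ext i j
    simp only [Units.val_mk0]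
    rw [Matrix.mul_apply]
    simp only [Matrix.smul_apply, Matrix.scalar_apply, Matrix.diagonal_apply, smul_eq_mul]
    rw [Finset.sum_eq_single j]
    · simp only [if_true]
      field_simp
    · intro b _ hb
      simp [hb]
    · intro h
      exact absurd (Finset.mem_univ j) h

end pgl

section small

theorem ordCond_A4 (y : alternatingGroup (Fin 4)) : y ^ 2 = 1 ∨ y ^ 3 = 1 := by
  revert y; decide

set_option maxRecDepth 100000 in
theorem ordCond_S4 (y : Equiv.Perm (Fin 4)) :
    (y ∈ alternatingGroup (Fin 4) → y ^ 2 = 1 ∨ y ^ 3 = 1) ∧ (y ^ 2 = 1 ∨ y ^ 3 = 1 ∨ y ^ 4 = 1) := by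
  rw [Equiv.Perm.mem_alternatingGroup]
  revert y; decide

theorem sq_mem_A4 (x y : Equiv.Perm (Fin 4)) (hx : x ∉ alternatingGroup (Fin 4))
    (hy : y ∉ alternatingGroup (Fin 4)) : x * y ∈ alternatingGroup (Fin 4) := by
  rw [Equiv.Perm.mem_alternatingGroup] at hx hy ⊢
  rw [Equiv.Perm.sign_mul]
  rcases Int.units_eq_one_or (Equiv.Perm.sign x) with h | h
  · exact absurd h hx
  rcases Int.units_eq_one_or (Equiv.Perm.sign y) with h' | h'
  · exact absurd h' hy
  rw [h, h']; rfl

end small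

end Cfsg.Agent.Helper12.MaxSub
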