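import Mathlib
import Cfsg.Agent.Lib.Helper12.MaxSubK

set_option autoImplicit false
set_option linter.unusedVariables false
set_option linter.unusedSectionVars false
set_option linter.style.haveILetI false

/-! Subfields of finite fields, and the general reduction for maximal subgroups of `PSL₂(F)`
with traces in a subfield. -/

namespace Cfsg.Agent.Helper12.MaxSub

open Matrix
open scoped MatrixGroups
open Cfsg.Agent.Helper28.SubfieldPSL2

variable {F : Type*} [Field F] [Fintype F]

/-- a subfield of each admissible order -/
theorem exists_subfield_of_dvd (p : ℕ) [Fact p.Prime] [CharP F p] {f a : ℕ}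
    (hf : Fintype.card F = p ^ f) (ha : a ≠ 0) (hdvd : a ∣ f) :
    ∃ (K : Type) (_ : Field K) (_ : Fintype K) (_ : K →+* F), Fintype.card K = p ^ a := by
  haveI : Finite (GaloisField p a) := Nat.finite_of_card_ne_zero (by
    rw [GaloisField.card p a ha]
    exact pow_ne_zero _ (Fact.out : p.Prime).ne_zero)
  letI : Fintype (GaloisField p a) := Fintype.ofFinite _
  have hcard : Fintype.card (GaloisField p a) = p ^ a := by
    rw [← Nat.card_eq_fintype_card]
    exact GaloisField.card p a ha
  obtain ⟨c, hc⟩ := hdvd
  obtain ⟨ι⟩ := exists_ringHom (K := GaloisField p a) (F := F) (m := c) (by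
    rw [hcard, hf, hc, pow_mul])
  exact ⟨GaloisField p a, inferInstance, inferInstance, ι, hcard⟩

/-- the prime field as a subfield -/
theorem exists_prime_subfield (p : ℕ) [Fact p.Prime] [CharP F p] :
    Nonempty (ZMod p →+* F) := ⟨ZMod.castHom (dvd_refl p) F⟩

/-- an element of a finite field of odd degree fixed by the square of Frobenius is fixed by
Frobenius -/
theorem pow_eq_of_pow_sq_eq (p : ℕ) {f : ℕ} (hf : Fintype.card F = p ^ f) (hodd : Odd f) (t : F)
    (h : t ^ (p ^ 2) = t) : t ^ p = t := by
  obtain ⟨j, rfl⟩ := hodd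
  have h1 : ∀ i : ℕ, t ^ (p ^ (2 * i)) = t := by
    intro i
    induction i with
    | zero => simp
    | succ k ih =>
      have : p ^ (2 * (k + 1)) = p ^ (2 * k) * p ^ 2 := by rw [← pow_add]; ring_nf
      rw [this, pow_mul, ih, h]
  have h2 : t ^ Fintype.card F = t := FiniteField.pow_card t
  rw [hf, pow_succ, pow_mul, h1] at h2
  exact h2

end Cfsg.Agent.Helper12.MaxSub
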