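import Mathlib
import Cfsg.Agent.Lib.Helper12.MaxSubL

set_option autoImplicit false
set_option linter.unusedVariables false
set_option linter.unusedSectionVars false
set_option linter.style.haveILetI false

/-! The reductions for maximal subgroups of `PSL₂(F)` with traces in a subfield; facts on
`A₄`, `S₄`, `A₅`. -/

namespace Cfsg.Agent.Helper12.MaxSub

open Matrix
open scoped MatrixGroups
open Cfsg.Agent.Helper28.SubfieldPSL2

section small

theorem mem_alt4 (σ : Equiv.Perm (Fin 4)) (h : Equiv.Perm.sign σ = 1) :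
    σ ∈ alternatingGroup (Fin 4) := Equiv.Perm.mem_alternatingGroup.2 h

theorem mem_alt5 (σ : Equiv.Perm (Fin 5)) (h : Equiv.Perm.sign σ = 1) :
    σ ∈ alternatingGroup (Fin 5) := Equiv.Perm.mem_alternatingGroup.2 h

set_option maxRecDepth 100000 in
theorem klein_A4 : ∃ s t : alternatingGroup (Fin 4), s ≠ 1 ∧ t ≠ 1 ∧ s ≠ t ∧ s * s = 1 ∧
    t * t = 1 ∧ s * t = t * s :=
  ⟨⟨Equiv.swap 0 1 * Equiv.swap 2 3, mem_alt4 _ (by decide)⟩,
    ⟨Equiv.swap 0 2 * Equiv.swap 1 3, mem_alt4 _ (by decide)⟩, by decide⟩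

set_option maxRecDepth 100000 in
theorem klein_A5 : ∃ s t : alternatingGroup (Fin 5), s ≠ 1 ∧ t ≠ 1 ∧ s ≠ t ∧ s * s = 1 ∧
    t * t = 1 ∧ s * t = t * s :=
  ⟨⟨Equiv.swap 0 1 * Equiv.swap 2 3, mem_alt5 _ (by decide)⟩,
    ⟨Equiv.swap 0 2 * Equiv.swap 1 3, mem_alt5 _ (by decide)⟩, by decide⟩

set_option maxRecDepth 100000 in
theorem klein_S4 : ∃ s t : Equiv.Perm (Fin 4), s ∈ alternatingGroup (Fin 4) ∧
    t ∈ alternatingGroup (Fin 4) ∧ s ≠ 1 ∧ t ≠ 1 ∧ s ≠ t ∧ s * s = 1 ∧ t * t = 1 ∧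
    s * t = t * s :=
  ⟨Equiv.swap 0 1 * Equiv.swap 2 3, Equiv.swap 0 2 * Equiv.swap 1 3,
    mem_alt4 _ (by decide), mem_alt4 _ (by decide), by decide⟩

set_option maxRecDepth 1000000 in
theorem ordCond_A5 (y : alternatingGroup (Fin 5)) : y ^ 2 = 1 ∨ y ^ 3 = 1 ∨ y ^ 5 = 1 := by
  revert y; decide

set_option maxRecDepth 100000 in
theorem inv_mul_A4 : ∀ a b : alternatingGroup (Fin 4), a * a = 1 → b * b = 1 →
    (a * b) * (a * b) = 1 := by decide

set_option maxRecDepth 100000 in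
theorem card_inv_A4 : Fintype.card {y : alternatingGroup (Fin 4) // y * y = 1} = 4 := by decide

end small

section transport

variable {G H : Type*} [Group G] [Group H]

/-- transport of a four-group along an isomorphism from a subgroup -/
theorem klein_of_equiv (M : Subgroup G) (e : M ≃* H)
    (h : ∃ s t : H, s ≠ 1 ∧ t ≠ 1 ∧ s ≠ t ∧ s * s = 1 ∧ t * t = 1 ∧ s * t = t * s) :
    ∃ s t : G, s ∈ M ∧ t ∈ M ∧ s ≠ 1 ∧ t ≠ 1 ∧ s ≠ t ∧ s * s = 1 ∧ t * t = 1 ∧ s * t = t * s := by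
  obtain ⟨s, t, hs1, ht1, hst, hs2, ht2, hc⟩ := h
  refine ⟨(e.symm s : M), (e.symm t : M), (e.symm s).2, (e.symm t).2, ?_, ?_, ?_, ?_, ?_, ?_⟩
  · intro h0
    apply hs1
    have : e.symm s = 1 := Subtype.ext h0
    rw [← e.apply_symm_apply s, this, map_one]
  · intro h0
    apply ht1
    have : e.symm t = 1 := Subtype.ext h0
    rw [← e.apply_symm_apply t, this, map_one]
  · intro h0
    apply hst
    have : e.symm s = e.symm t := Subtype.ext h0
    exact e.symm.injective this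
  · have : e.symm s * e.symm s = 1 := by rw [← map_mul, hs2, map_one]
    exact congrArg Subtype.val this
  · have : e.symm t * e.symm t = 1 := by rw [← map_mul, ht2, map_one]
    exact congrArg Subtype.val this
  · have : e.symm s * e.symm t = e.symm t * e.symm s := by rw [← map_mul, ← map_mul, hc]
    exact congrArg Subtype.val this

/-- the subgroup of `M` corresponding to a subgroup of the target of an isomorphism -/
def pullSub (M : Subgroup G) (e : M ≃* H) (A : Subgroup H) : Subgroup G :=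
  (A.comap (e : M →* H)).map M.subtype

theorem mem_pullSub {M : Subgroup G} {e : M ≃* H} {A : Subgroup H} {x : G} :
    x ∈ pullSub M e A ↔ ∃ hx : x ∈ M, e ⟨x, hx⟩ ∈ A := by
  constructor
  · rintro ⟨y, hy, rfl⟩
    exact ⟨y.2, hy⟩
  · rintro ⟨hx, h⟩
    exact ⟨⟨x, hx⟩, h, rfl⟩

theorem pullSub_le (M : Subgroup G) (e : M ≃* H) (A : Subgroup H) : pullSub M e A ≤ M := by
  intro x hx
  exact (mem_pullSub.1 hx).1

end transport

section reductions

variable {F : Type*} [Field F] [Fintype F]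

/-- **reduction to a subfield, `PSL₂` type** -/
theorem reduce_PSL2 (p : ℕ) [Fact p.Prime] [CharP F p] (hodd : Odd (Fintype.card F)) {f c : ℕ}
    (hf : Fintype.card F = p ^ f) (hc0 : c ≠ 0) (hcf : c ∣ f) (hlt : c < f)
    (M : Subgroup (Matrix.ProjectiveSpecialLinearGroup (Fin 2) F)) (hM : IsCoatom M)
    (hkl : ∃ s t : Matrix.ProjectiveSpecialLinearGroup (Fin 2) F, s ∈ M ∧ t ∈ M ∧ s ≠ 1 ∧ t ≠ 1 ∧
      s ≠ t ∧ s * s = 1 ∧ t * t = 1 ∧ s * t = t * s)
    (htr : ∀ X : SL(2, F), mkP X ∈ M → X.1.trace ^ (p ^ c) = X.1.trace) :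
    ∃ (K : Type) (_ : Field K) (_ : Fintype K), Fintype.card K = p ^ c ∧
      Nonempty (M ≃* Matrix.ProjectiveSpecialLinearGroup (Fin 2) K) ∧
      2 * Nat.card M = p ^ c * (p ^ c - 1) * (p ^ c + 1) := by
  obtain ⟨K, iK, iF, ι, hK⟩ := exists_subfield_of_dvd p hf hc0 hcf
  obtain ⟨s, t, hs, ht, hs1, ht1, hst, hs2, ht2, hcomm⟩ := hkl
  have hp1 := (Fact.out : p.Prime).one_lt
  have hlt' : Fintype.card K < Fintype.card F := by
    rw [hK, hf]
    exact Nat.pow_lt_pow_right hp1 hlt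
  obtain ⟨e⟩ := equiv_PSL2_of_traces ι hodd hlt' M hM s t hs ht hs1 ht1 hst hs2 ht2 hcomm
    (by rw [hK]; exact htr)
  refine ⟨K, iK, iF, hK, ⟨e⟩, ?_⟩
  rw [Nat.card_congr e.toEquiv, ← hK]
  exact two_mul_card_PSL2 (Nat.odd_iff.2 (odd_card_of_ringHom ι hodd))

/-- **reduction to a subfield of index two, `PGL₂` type** -/
theorem reduce_PGL2 (p : ℕ) [Fact p.Prime] [CharP F p] (hodd : Odd (Fintype.card F)) {c : ℕ}
    (hf : Fintype.card F = p ^ (2 * c)) (hc0 : c ≠ 0)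
    (M M1 : Subgroup (Matrix.ProjectiveSpecialLinearGroup (Fin 2) F)) (hM : IsCoatom M)
    (hM1 : M1 ≤ M) (hidx : ∀ x ∈ M, ∀ y ∈ M, x ∉ M1 → y ∉ M1 → x * y ∈ M1)
    (hkl : ∃ s t : Matrix.ProjectiveSpecialLinearGroup (Fin 2) F, s ∈ M1 ∧ t ∈ M1 ∧ s ≠ 1 ∧
      t ≠ 1 ∧ s ≠ t ∧ s * s = 1 ∧ t * t = 1 ∧ s * t = t * s)
    (htr : ∀ X : SL(2, F), mkP X ∈ M1 → X.1.trace ^ (p ^ c) = X.1.trace) :
    ∃ (K : Type) (_ : Field K) (_ : Fintype K), Fintype.card K = p ^ c ∧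
      Nonempty (M ≃* Matrix.ProjGenLinGroup (Fin 2) K) ∧
      Nat.card M = p ^ c * (p ^ c - 1) * (p ^ c + 1) := by
  obtain ⟨K, iK, iF, ι, hK⟩ := exists_subfield_of_dvd p hf hc0 (Dvd.intro_left 2 rfl)
  obtain ⟨s, t, hs, ht, hs1, ht1, hst, hs2, ht2, hcomm⟩ := hkl
  have hp1 := (Fact.out : p.Prime).one_lt
  have hK2 : Fintype.card K ^ 2 = Fintype.card F := by
    rw [hK, hf, ← pow_mul, mul_comm]
  have hsq := isSquare_of_even ι hodd (m := 2) (by decide) hK2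
  have hk3 : 3 ≤ Fintype.card K := by
    have h1 : Fintype.card K % 2 = 1 := odd_card_of_ringHom ι hodd
    have h2 : 1 < Fintype.card K := Fintype.one_lt_card
    omega
  have hlt' : 2 * (Fintype.card K * (Fintype.card K - 1) * (Fintype.card K + 1)) <
      Fintype.card F * (Fintype.card F - 1) * (Fintype.card F + 1) := by
    rw [← hK2]
    obtain ⟨k, hk⟩ : ∃ k, k = Fintype.card K := ⟨_, rfl⟩
    rw [← hk] at hk3 ⊢
    obtain ⟨j, rfl⟩ : ∃ j, k = j + 3 := ⟨k - 3, by omega⟩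
    have e1 : (j + 3) ^ 2 - 1 = (j + 2) * (j + 4) := by
      have : (j + 3) ^ 2 = (j + 2) * (j + 4) + 1 := by ring
      omega
    have e2 : j + 3 - 1 = j + 2 := by omega
    have e3 : j + 3 + 1 = j + 4 := by omega
    rw [e1, e2, e3]
    have h9 : 9 ≤ (j + 3) ^ 2 := by nlinarith [Nat.zero_le j]
    calc 2 * ((j + 3) * (j + 2) * (j + 4)) = (2 * (j + 3)) * ((j + 2) * (j + 4)) * 1 := by ring
      _ < (j + 3) ^ 2 * ((j + 2) * (j + 4)) * ((j + 3) ^ 2 + 1) := by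
        apply Nat.mul_lt_mul_of_le_of_lt
        · apply Nat.mul_le_mul_right
          nlinarith [Nat.zero_le j]
        · omega
        · positivity
  obtain ⟨e⟩ := equiv_PGL2_of_traces ι hodd hsq hlt' M M1 hM hM1 hidx s t hs ht hs1 ht1 hst hs2
    ht2 hcomm (by rw [hK]; exact htr)
  refine ⟨K, iK, iF, hK, ⟨e⟩, ?_⟩
  rw [Nat.card_congr e.toEquiv, Cfsg.Agent.Helper12.PSL2Max.card_PGL2' K rfl, hK]

end reductions

end Cfsg.Agent.Helper12.MaxSub
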