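import Mathlib
import Cfsg.Agent.Lib.Helper12.MaxSubM

set_option autoImplicit false
set_option linter.unusedVariables false
set_option linter.unusedSectionVars false
set_option linter.style.haveILetI false

/-! The conclusion of the classification of maximal subgroups of `PSL₂(q)`, `q` odd, and traces
of elements of small order. -/

namespace Cfsg.Agent.Helper12.MaxSub

open Matrix
open scoped MatrixGroups

/-- the list of maximal subgroups of `PSL₂(q)`, `q` odd -/
def Concl (F : Type*) [Field F] [Fintype F] (p : ℕ)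
    (M : Subgroup (Matrix.ProjectiveSpecialLinearGroup (Fin 2) F)) : Prop :=
    2 * Nat.card M = Fintype.card F * (Fintype.card F - 1) ∨
    (13 ≤ Fintype.card F ∧ (∃ k : ℕ, 2 * k = Fintype.card F - 1 ∧ Nonempty (M ≃* DihedralGroup k))) ∨
    (Fintype.card F ≠ 7 ∧ Fintype.card F ≠ 9 ∧ (∃ k : ℕ, 2 * k = Fintype.card F + 1 ∧ Nonempty (M ≃* DihedralGroup k))) ∨
    (∃ (F₀ : Type) (_ : Field F₀) (_ : Fintype F₀), Fintype.card F = Fintype.card F₀ ^ 2 ∧
        Nonempty (M ≃* Matrix.ProjGenLinGroup (Fin 2) F₀)) ∨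
    (∃ (F₀ : Type) (_ : Field F₀) (_ : Fintype F₀) (r : ℕ), r.Prime ∧ Odd r ∧ Fintype.card F = Fintype.card F₀ ^ r ∧
        Nonempty (M ≃* Matrix.ProjectiveSpecialLinearGroup (Fin 2) F₀)) ∨
    ((Fintype.card F % 10 = 1 ∨ Fintype.card F % 10 = 9) ∧
        (Fintype.card F = p ∨ (Fintype.card F = p ^ 2 ∧ (p % 10 = 3 ∨ p % 10 = 7))) ∧
        Nonempty (M ≃* alternatingGroup (Fin 5))) ∨
    (Fintype.card F = p ∧ (p % 8 = 3 ∨ p % 8 = 5) ∧ ¬ (p % 10 = 1 ∨ p % 10 = 9) ∧
        Nonempty (M ≃* alternatingGroup (Fin 4))) ∨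
    (Fintype.card F = p ∧ (p % 8 = 1 ∨ p % 8 = 7) ∧ Nonempty (M ≃* Equiv.Perm (Fin 4)))

section arith

theorem sq_mod_eight {p : ℕ} (hp : p % 2 = 1) : p ^ 2 % 8 = 1 := by
  rw [Nat.pow_mod]
  have h : p % 8 < 8 := Nat.mod_lt _ (by norm_num)
  have h2 : p % 8 % 2 = 1 := by omega
  interval_cases (p % 8) <;> simp_all

theorem sq_mod_three {p : ℕ} (hp : p % 3 ≠ 0) : p ^ 2 % 3 = 1 := by
  rw [Nat.pow_mod]
  have h : p % 3 < 3 := Nat.mod_lt _ (by norm_num)
  interval_cases (p % 3) <;> simp_all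

theorem sq_mod_five {p : ℕ} (hp : p % 5 ≠ 0) : p ^ 2 % 5 = 1 ∨ p ^ 2 % 5 = 4 := by
  rw [Nat.pow_mod]
  have h : p % 5 < 5 := Nat.mod_lt _ (by norm_num)
  interval_cases (p % 5) <;> simp_all

theorem prime_mod_three {p : ℕ} (hp : p.Prime) (h3 : p ≠ 3) : p % 3 ≠ 0 := by
  intro h
  have : 3 ∣ p := Nat.dvd_of_mod_eq_zero h
  exact h3 ((Nat.prime_dvd_prime_iff_eq Nat.prime_three hp).1 this).symm

theorem prime_mod_five {p : ℕ} (hp : p.Prime) (h5 : p ≠ 5) : p % 5 ≠ 0 := by
  intro h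
  have : 5 ∣ p := Nat.dvd_of_mod_eq_zero h
  exact h5 ((Nat.prime_dvd_prime_iff_eq Nat.prime_five hp).1 this).symm

end arith

section traces

variable {F : Type*} [Field F]

/-- traces of elements of order at most five lie in the field of order `p²` -/
theorem trace_small_sq (h2 : (2 : F) ≠ 0) (p : ℕ) [hp : Fact p.Prime] [CharP F p] (hp2 : p % 2 = 1)
    (X : SL(2, F))
    (h : mkP X ^ 2 = 1 ∨ mkP X ^ 3 = 1 ∨ mkP X ^ 4 = 1 ∨ mkP X ^ 5 = 1) :
    X.1.trace ^ (p ^ 2) = X.1.trace := by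
  have h8 := sq_mod_eight hp2
  have hpos : 1 ≤ p ^ 2 := Nat.one_le_pow _ _ hp.out.pos
  rcases h with h | h | h | h
  · exact trace_of_order p 2 X 2 h (Or.inl (by omega))
  · by_cases h3 : p = 3
    · subst h3
      exact trace_of_order_char h2 3 2 X h
    · have := sq_mod_three (prime_mod_three hp.out h3)
      exact trace_of_order p 2 X 3 h (Or.inl (by omega))
  · exact trace_of_order p 2 X 4 h (Or.inl (by omega))
  · by_cases h5 : p = 5
    · subst h5
      exact trace_of_order_char h2 5 2 X h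
    · rcases sq_mod_five (prime_mod_five hp.out h5) with h' | h'
      · exact trace_of_order p 2 X 5 h (Or.inl (by omega))
      · exact trace_of_order p 2 X 5 h (Or.inr (by omega))

/-- traces of elements of order two or three lie in the prime field -/
theorem trace_small_prime (h2 : (2 : F) ≠ 0) (p : ℕ) [hp : Fact p.Prime] [CharP F p]
    (hp2 : p % 2 = 1) (X : SL(2, F))
    (h : mkP X ^ 2 = 1 ∨ mkP X ^ 3 = 1 ∨ (mkP X ^ 4 = 1 ∧ (p % 8 = 1 ∨ p % 8 = 7)) ∨
      (mkP X ^ 5 = 1 ∧ (p = 5 ∨ p % 10 = 1 ∨ p % 10 = 9))) :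
    X.1.trace ^ p = X.1.trace := by
  have hpos : 1 ≤ p := hp.out.pos
  have key : ∀ n : ℕ, mkP X ^ n = 1 → (2 * n ∣ p - 1 ∨ 2 * n ∣ p + 1) →
      X.1.trace ^ p = X.1.trace := by
    intro n hn hd
    have := trace_of_order p 1 X n hn (by rwa [pow_one])
    rwa [pow_one] at this
  have keyc : mkP X ^ p = 1 → X.1.trace ^ p = X.1.trace := by
    intro hn
    have := trace_of_order_char h2 p 1 X hn
    rwa [pow_one] at this
  rcases h with h | h | ⟨h, h8⟩ | ⟨h, h10⟩
  · apply key 2 h; omega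
  · by_cases h3 : p = 3
    · subst h3; exact keyc h
    · have := prime_mod_three hp.out h3
      have h6 : p % 6 = 1 ∨ p % 6 = 5 := by omega
      apply key 3 h
      rcases h6 with h6 | h6
      · left; omega
      · right; omega
  · apply key 4 h
    rcases h8 with h8 | h8
    · left; omega
    · right; omega
  · rcases h10 with h5 | h10
    · subst h5; exact keyc h
    · apply key 5 h
      rcases h10 with h10 | h10
      · left; omega
      · right; omega

end traces

end Cfsg.Agent.Helper12.MaxSub
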