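import Mathlib
import Cfsg.Agent.Lib.Helper12.MaxSubN
import Cfsg.Agent.Lib.Helper12.MaxSubH
import Cfsg.Agent.Lib.Helper12.MaxSubI

set_option autoImplicit false
set_option linter.unusedVariables false
set_option linter.unusedSectionVars false
set_option linter.style.haveILetI false

/-! General support for the case analysis of maximal subgroups of `PSL₂(q)`. -/

namespace Cfsg.Agent.Helper12.MaxSub

section transport

variable {G H : Type*} [Group G] [Group H]

theorem pow_eq_one_of_equiv (M : Subgroup G) (e : M ≃* H) (x : G) (hx : x ∈ M) (n : ℕ)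
    (h : e ⟨x, hx⟩ ^ n = 1) : x ^ n = 1 := by
  have h1 : e (⟨x, hx⟩ ^ n) = e 1 := by rw [map_pow, h, map_one]
  have h2 := e.injective h1
  have := congrArg Subtype.val h2
  simpa using this

theorem card_pullSub (M : Subgroup G) (e : M ≃* H) (A : Subgroup H) :
    Nat.card (pullSub M e A) = Nat.card A := by
  unfold pullSub
  rw [Subgroup.card_map_of_injective M.subtype_injective]
  have : A.comap (e : M →* H) = A.map (e.symm : H →* M) := by
    ext x
    rw [Subgroup.mem_comap, Subgroup.mem_map]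
    constructor
    · intro hx
      exact ⟨e x, hx, by simp⟩
    · rintro ⟨y, hy, rfl⟩
      simpa using hy
  rw [this, Subgroup.card_map_of_injective (by exact e.symm.injective)]

theorem pullSub_normal (M : Subgroup G) (e : M ≃* H) (A : Subgroup H) [hA : A.Normal] :
    M ≤ Subgroup.normalizer ((pullSub M e A : Subgroup G) : Set G) := by
  intro g hg
  rw [Subgroup.mem_normalizer_iff]
  intro x
  have key : ∀ g ∈ M, ∀ x, x ∈ pullSub M e A → g * x * g⁻¹ ∈ pullSub M e A := by
    intro g hg x hx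
    obtain ⟨hxM, hxA⟩ := mem_pullSub.1 hx
    refine mem_pullSub.2 ⟨M.mul_mem (M.mul_mem hg hxM) (M.inv_mem hg), ?_⟩
    have : (⟨g * x * g⁻¹, M.mul_mem (M.mul_mem hg hxM) (M.inv_mem hg)⟩ : M) =
        ⟨g, hg⟩ * ⟨x, hxM⟩ * ⟨g, hg⟩⁻¹ := rfl
    rw [this, map_mul, map_mul, map_inv]
    exact hA.conj_mem _ hxA _
  constructor
  · exact key g hg x
  · intro h
    have := key g⁻¹ (M.inv_mem hg) _ h
    simpa [mul_assoc] using this

theorem pullSub_top (M : Subgroup G) (e : M ≃* H) : pullSub M e ⊤ = M := by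
  ext x
  rw [mem_pullSub]
  constructor
  · rintro ⟨hx, -⟩; exact hx
  · intro hx; exact ⟨hx, Subgroup.mem_top _⟩

end transport

section sylow

variable {G : Type*} [Group G] [Finite G]

/-- a subgroup of prime power order `r ^ a` with `r ^ (a + 1)` not dividing `|G|` is a Sylow
subgroup -/
theorem exists_sylow_eq {r : ℕ} [hr : Fact r.Prime] (C : Subgroup G) {a : ℕ}
    (hC : Nat.card C = r ^ a) (hG : ¬ r ^ (a + 1) ∣ Nat.card G) :
    ∃ P : Sylow r G, (P : Subgroup G) = C := by
  have hCp : IsPGroup r C := IsPGroup.of_card hC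
  obtain ⟨P, hP⟩ := hCp.exists_le_sylow
  refine ⟨P, ?_⟩
  obtain ⟨b, hb⟩ := IsPGroup.iff_card.1 P.2
  have hdvd : Nat.card (P : Subgroup G) ∣ Nat.card G := Subgroup.card_subgroup_dvd_card _
  have hba : b ≤ a := by
    by_contra hlt
    push Not at hlt
    apply hG
    calc r ^ (a + 1) ∣ r ^ b := pow_dvd_pow _ hlt
      _ ∣ Nat.card G := by rw [← hb]; exact hdvd
  have hle : Nat.card (P : Subgroup G) ≤ Nat.card C := by
    rw [hb, hC]
    exact Nat.pow_le_pow_right hr.out.pos hba
  exact (Subgroup.eq_of_le_of_card_ge hP hle).symm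

/-- a subgroup of order `2 ^ n` is normalised by a subgroup of order `2 ^ (n + 1)` containing
it, if the latter order divides `|G|` -/
theorem exists_normalizing_two {n : ℕ} (V : Subgroup G) (hV : Nat.card V = 2 ^ n)
    (hdvd : 2 ^ (n + 1) ∣ Nat.card G) :
    ∃ W : Subgroup G, Nat.card W = 2 ^ (n + 1) ∧ V ≤ W ∧
      W ≤ Subgroup.normalizer (V : Set G) := by
  haveI : Fact (Nat.Prime 2) := ⟨Nat.prime_two⟩
  obtain ⟨W, hW, hVW⟩ := Sylow.exists_subgroup_card_pow_succ hdvd hV
  refine ⟨W, hW, hVW, ?_⟩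
  have hidx : (V.subgroupOf W).index = 2 := by
    have h1 := Subgroup.card_mul_index (V.subgroupOf W)
    rw [Nat.card_congr (Subgroup.subgroupOfEquivOfLe hVW).toEquiv, hV, hW, pow_succ] at h1
    have hpos : 0 < 2 ^ n := by positivity
    exact Nat.eq_of_mul_eq_mul_left hpos h1
  haveI : (V.subgroupOf W).Normal := Subgroup.normal_of_index_eq_two hidx
  intro g hg
  rw [Subgroup.mem_normalizer_iff]
  have key : ∀ g ∈ W, ∀ x, x ∈ V → g * x * g⁻¹ ∈ V := by
    intro g hg x hx
    have h1 : (⟨x, hVW hx⟩ : W) ∈ V.subgroupOf W := Subgroup.mem_subgroupOf.2 hx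
    have h2 := (inferInstance : (V.subgroupOf W).Normal).conj_mem _ h1 ⟨g, hg⟩
    exact Subgroup.mem_subgroupOf.1 h2
  intro x
  constructor
  · exact key g hg x
  · intro h
    have := key g⁻¹ (W.inv_mem hg) _ h
    simpa [mul_assoc] using this

end sylow

section dihedral

theorem dihedral_comm_small : ∀ k : ℕ, k = 1 ∨ k = 2 →
    ∀ a b : DihedralGroup k, a * b = b * a := by
  intro k hk
  rcases hk with rfl | rfl
  · decide
  · decide

theorem card_zpowers_r (k : ℕ) :
    Nat.card (Subgroup.zpowers (DihedralGroup.r (1 : ZMod k))) = k := by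
  rw [Nat.card_zpowers, DihedralGroup.orderOf_r_one]

theorem zpowers_r_normal (k : ℕ) :
    (Subgroup.zpowers (DihedralGroup.r (1 : ZMod k))).Normal := by
  constructor
  intro x hx g
  obtain ⟨n, rfl⟩ := Subgroup.mem_zpowers_iff.1 hx
  rcases dihedral_conj k g with h | h
  · have : g * DihedralGroup.r 1 ^ n * g⁻¹ = (g * DihedralGroup.r 1 * g⁻¹) ^ n := by
      rw [conj_zpow]
    rw [this, h]
    exact Subgroup.zpow_mem_zpowers _ _
  · have : g * DihedralGroup.r 1 ^ n * g⁻¹ = (g * DihedralGroup.r 1 * g⁻¹) ^ n := by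
      rw [conj_zpow]
    rw [this, h]
    exact Subgroup.zpow_mem _ (Subgroup.inv_mem _ (Subgroup.mem_zpowers _)) _

end dihedral

end Cfsg.Agent.Helper12.MaxSub
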