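import Mathlib
import Cfsg.Agent.Lib.Helper12.TwoByTwo

set_option autoImplicit false

namespace Cfsg.Agent.Helper12

open Matrix

variable {F : Type*} [Field F]

/-- An element of `SL₂` with a vector `v` such that `det [v | g v] = 1` is conjugate in `SL₂`
to the companion matrix of trace `tr g` and determinant 1. -/
theorem SL2_conj_companion_of_vec (g : SpecialLinearGroup (Fin 2) F) (v : Fin 2 → F)
    (hv : (colMat2 v ((g : Matrix (Fin 2) (Fin 2) F) *ᵥ v)).det = 1) :
    ∃ P : SpecialLinearGroup (Fin 2) F,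
      ((P⁻¹ * g * P : SpecialLinearGroup (Fin 2) F) : Matrix (Fin 2) (Fin 2) F) =
        companion2 (g : Matrix (Fin 2) (Fin 2) F).trace 1 := by
  refine ⟨⟨_, hv⟩, ?_⟩
  set P : SpecialLinearGroup (Fin 2) F := ⟨_, hv⟩ with hP
  have hPc : (P : Matrix (Fin 2) (Fin 2) F) = colMat2 v ((g : Matrix (Fin 2) (Fin 2) F) *ᵥ v) := rfl
  have h1 := mul_colMat2 (g : Matrix (Fin 2) (Fin 2) F) v
  rw [← hPc, Matrix.SpecialLinearGroup.det_coe] at h1
  have h2 : ((P⁻¹ : SpecialLinearGroup (Fin 2) F) : Matrix (Fin 2) (Fin 2) F) *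
      (P : Matrix (Fin 2) (Fin 2) F) = 1 := by
    rw [← Matrix.SpecialLinearGroup.coe_mul, inv_mul_cancel, Matrix.SpecialLinearGroup.coe_one]
  rw [Matrix.SpecialLinearGroup.coe_mul, Matrix.SpecialLinearGroup.coe_mul, mul_assoc, h1, ← mul_assoc, h2,
    one_mul]

/-- Two elements of `SL₂` that are conjugate in `SL₂` to the same companion matrix are conjugate. -/
theorem SL2_isConj_of_companion (g h : SpecialLinearGroup (Fin 2) F) (t : F)
    (hg : ∃ P : SpecialLinearGroup (Fin 2) F,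
      ((P⁻¹ * g * P : SpecialLinearGroup (Fin 2) F) : Matrix (Fin 2) (Fin 2) F) = companion2 t 1)
    (hh : ∃ P : SpecialLinearGroup (Fin 2) F,
      ((P⁻¹ * h * P : SpecialLinearGroup (Fin 2) F) : Matrix (Fin 2) (Fin 2) F) = companion2 t 1) :
    IsConj g h := by
  obtain ⟨P, hP⟩ := hg
  obtain ⟨Q, hQ⟩ := hh
  have hPQ : P⁻¹ * g * P = Q⁻¹ * h * Q := Subtype.ext (hP.trans hQ.symm)
  rw [isConj_iff]
  refine ⟨Q * P⁻¹, ?_⟩
  have : h = Q * (Q⁻¹ * h * Q) * Q⁻¹ := by group
  rw [this, ← hPQ]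
  group

/-- In a finite field of characteristic 2 the form `v ↦ det [v | M v]` of a non-scalar matrix
represents 1. -/
theorem exists_vec_det_one_char_two [Finite F] [CharP F 2] (M : Matrix (Fin 2) (Fin 2) F)
    (hM : ¬ IsScalar2 M) : ∃ v : Fin 2 → F, (colMat2 v (M *ᵥ v)).det = 1 := by
  have hsq : ∀ a : F, IsSquare a := fun a => FiniteField.isSquare_of_char_two (ringChar.eq F 2) a
  by_cases h10 : M 1 0 = 0
  · by_cases h01 : M 0 1 = 0
    · have hne : M 1 1 - M 0 0 ≠ 0 := fun h => hM ⟨h01, h10, (sub_eq_zero.mp h).symm⟩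
      refine ⟨![1, (M 1 1 - M 0 0)⁻¹], ?_⟩
      rw [det_colMat2]
      simp [h10, h01, hne]
    · obtain ⟨s, hs⟩ := hsq (-(M 0 1)⁻¹)
      refine ⟨![0, s], ?_⟩
      rw [det_colMat2]
      simp only [Matrix.cons_val_zero, Matrix.cons_val_one, Matrix.cons_val_fin_one]
      have : s ^ 2 = -(M 0 1)⁻¹ := by rw [pow_two, ← hs]
      rw [this]
      field_simp
      ring
  · obtain ⟨s, hs⟩ := hsq ((M 1 0)⁻¹)
    refine ⟨![s, 0], ?_⟩
    rw [det_colMat2]
    simp only [Matrix.cons_val_zero, Matrix.cons_val_one, Matrix.cons_val_fin_one]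
    have : s ^ 2 = (M 1 0)⁻¹ := by rw [pow_two, ← hs]
    rw [this]
    field_simp
    ring

/-- In characteristic 2 the only scalar matrix of determinant 1 is the identity. -/
theorem scalar_SL2_char_two [CharP F 2] (g : SpecialLinearGroup (Fin 2) F)
    (hs : IsScalar2 (g : Matrix (Fin 2) (Fin 2) F)) : g = 1 := by
  have hdet := g.det_coe
  rw [Matrix.det_fin_two, hs.1, hs.2.1, ← hs.2.2, mul_zero, sub_zero] at hdet
  have h2 : (2 : F) = 0 := CharP.ofNat_eq_zero F 2
  have h1 : ((g : Matrix (Fin 2) (Fin 2) F) 0 0 - 1) ^ 2 = 0 := by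
    have : ((g : Matrix (Fin 2) (Fin 2) F) 0 0 - 1) ^ 2 =
        (g : Matrix (Fin 2) (Fin 2) F) 0 0 * (g : Matrix (Fin 2) (Fin 2) F) 0 0 - 1
          - 2 * ((g : Matrix (Fin 2) (Fin 2) F) 0 0 - 1) := by ring
    rw [this, hdet, h2]; ring
  have h00 : (g : Matrix (Fin 2) (Fin 2) F) 0 0 = 1 := sub_eq_zero.mp (eq_zero_of_pow_eq_zero h1)
  apply Subtype.ext
  rw [(isScalar2_iff _).mp hs, h00, one_smul]
  rfl

/-- In a finite field of characteristic 2, every non-identity element of `SL₂` is conjugate in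
`SL₂` to the companion matrix of its trace. -/
theorem SL2_char_two_conj_companion [Finite F] [CharP F 2] (g : SpecialLinearGroup (Fin 2) F)
    (hg : g ≠ 1) : ∃ P : SpecialLinearGroup (Fin 2) F,
      ((P⁻¹ * g * P : SpecialLinearGroup (Fin 2) F) : Matrix (Fin 2) (Fin 2) F) =
        companion2 (g : Matrix (Fin 2) (Fin 2) F).trace 1 := by
  have hns : ¬ IsScalar2 (g : Matrix (Fin 2) (Fin 2) F) := fun h => hg (scalar_SL2_char_two g h)
  obtain ⟨v, hv⟩ := exists_vec_det_one_char_two _ hns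
  exact SL2_conj_companion_of_vec g v hv

end Cfsg.Agent.Helper12
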