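import Mathlib
import Cfsg.Agent.Lib.Helper12.MaxSubO
import Cfsg.Agent.S0803
import Cfsg.Agent.S0804

set_option autoImplicit false
set_option linter.unusedVariables false
set_option linter.unusedSectionVars false
set_option linter.style.haveILetI false

/-! Maximal subgroups of `PSL₂(q)`, `q` odd: the cyclic, dihedral and Borel cases. -/

namespace Cfsg.Agent.Helper12.MaxSub

open Matrix
open scoped MatrixGroups

variable {F : Type*} [Field F] [Fintype F]

local notation "GG" => Matrix.ProjectiveSpecialLinearGroup (Fin 2) F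

theorem simple_PSL2 (h5 : 5 ≤ Fintype.card F) :
    IsSimpleGroup (Matrix.ProjectiveSpecialLinearGroup (Fin 2) F) :=
  Matrix.ProjectiveSpecialLinearGroup.rank_two_simple (by rw [Nat.card_eq_fintype_card]; omega)

theorem noncomm_PSL2 (h5 : 5 ≤ Fintype.card F) :
    ∃ a b : Matrix.ProjectiveSpecialLinearGroup (Fin 2) F, a * b ≠ b * a := by
  have := Cfsg.Agent.Helper12.PSL2Max.PSL2_noncomm (K := F) (by omega)
  push Not at this
  exact this

theorem cyclic_case (h5 : 5 ≤ Fintype.card F)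
    (M : Subgroup (Matrix.ProjectiveSpecialLinearGroup (Fin 2) F)) (hM : IsCoatom M)
    (hc : IsCyclic M) : False := by
  haveI := simple_PSL2 h5
  refine no_comm_coatom (noncomm_PSL2 h5) hM ?_
  intro a ha b hb
  letI : CommGroup M := IsCyclic.commGroup
  have := mul_comm (⟨a, ha⟩ : M) ⟨b, hb⟩
  exact congrArg Subtype.val this

theorem comm_case (h5 : 5 ≤ Fintype.card F)
    (M : Subgroup (Matrix.ProjectiveSpecialLinearGroup (Fin 2) F)) (hM : IsCoatom M)
    {H : Type*} [Group H] (e : M ≃* H) (hH : ∀ a b : H, a * b = b * a) : False := by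
  haveI := simple_PSL2 h5
  refine no_comm_coatom (noncomm_PSL2 h5) hM ?_
  intro a ha b hb
  have h1 : e (⟨a, ha⟩ * ⟨b, hb⟩) = e (⟨b, hb⟩ * ⟨a, ha⟩) := by
    rw [map_mul, map_mul, hH]
  exact congrArg Subtype.val (e.injective h1)

/-- the rotation subgroup of a maximal dihedral subgroup of order `2r`, `r` prime with
`r² ∤ |G|`, against a subgroup `S` of order divisible by `r` -/
theorem dihedral_rot_overgroup (h5 : 5 ≤ Fintype.card F)
    (M : Subgroup (Matrix.ProjectiveSpecialLinearGroup (Fin 2) F)) (hM : IsCoatom M)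
    (r : ℕ) [hr : Fact r.Prime] (e : M ≃* DihedralGroup r)
    (hr2 : ¬ r ^ 2 ∣ Nat.card (Matrix.ProjectiveSpecialLinearGroup (Fin 2) F))
    (S : Subgroup (Matrix.ProjectiveSpecialLinearGroup (Fin 2) F)) (hS : r ∣ Nat.card S) :
    ∃ n m : ℕ, n % r = 1 ∧ Nat.card S = n * m ∧ r ∣ m ∧ m ∣ 2 * r ∧
      (m = 2 * r → Nat.card S = 2 * r ∨
        Nat.card S = Nat.card (Matrix.ProjectiveSpecialLinearGroup (Fin 2) F)) := by
  haveI := simple_PSL2 h5
  have hMc : Nat.card M = 2 * r := by
    rw [Nat.card_congr e.toEquiv, DihedralGroup.nat_card]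
  set R0 := pullSub M e (Subgroup.zpowers (DihedralGroup.r (1 : ZMod r))) with hR0
  have hR0c : Nat.card R0 = r ^ 1 := by
    rw [hR0, card_pullSub, card_zpowers_r, pow_one]
  obtain ⟨P, hP⟩ := exists_sylow_eq R0 hR0c hr2
  have hPM : (P : Subgroup GG) ≤ M := by rw [hP]; exact pullSub_le _ _ _
  have hPc : Nat.card (P : Subgroup GG) = r := by rw [hP, hR0c, pow_one]
  have hPne : (P : Subgroup GG) ≠ ⊥ := by
    intro h
    rw [h, Subgroup.card_bot] at hPc
    exact hr.out.one_lt.ne hPc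
  have hn : M ≤ Subgroup.normalizer ((P : Subgroup GG) : Set GG) := by
    rw [hP]
    haveI := zpowers_r_normal r
    exact pullSub_normal M e _
  obtain ⟨S', -, -, n, hn1, hSc, hd1, hd2, himp⟩ :=
    coatom_sylow_overgroup hM P hPM hPne hn S (by rw [hPc]; exact hS)
  refine ⟨n, Nat.card (S' ⊓ M : Subgroup GG), ?_, hSc, ?_, ?_, ?_⟩
  · have := hn1
    unfold Nat.ModEq at this
    rw [this, Nat.mod_eq_of_lt hr.out.one_lt]
  · rwa [hPc] at hd1
  · rwa [hMc] at hd2
  · intro hm
    rw [hMc] at himp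
    exact himp hm

/-- a maximal subgroup which is a Sylow subgroup, against a subgroup `S` of order divisible by
its order -/
theorem sylow_self_overgroup (h5 : 5 ≤ Fintype.card F)
    (M : Subgroup (Matrix.ProjectiveSpecialLinearGroup (Fin 2) F)) (hM : IsCoatom M)
    (r : ℕ) [hr : Fact r.Prime] (a : ℕ) (ha : a ≠ 0) (hMc : Nat.card M = r ^ a)
    (hr2 : ¬ r ^ (a + 1) ∣ Nat.card (Matrix.ProjectiveSpecialLinearGroup (Fin 2) F))
    (S : Subgroup (Matrix.ProjectiveSpecialLinearGroup (Fin 2) F)) (hS : r ^ a ∣ Nat.card S) :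
    Nat.card S = r ^ a ∨
      Nat.card S = Nat.card (Matrix.ProjectiveSpecialLinearGroup (Fin 2) F) := by
  haveI := simple_PSL2 h5
  obtain ⟨P, hP⟩ := exists_sylow_eq M hMc hr2
  have hPM : (P : Subgroup GG) ≤ M := by rw [hP]
  have hPc : Nat.card (P : Subgroup GG) = r ^ a := by rw [hP, hMc]
  have hPne : (P : Subgroup GG) ≠ ⊥ := by
    intro h
    rw [h, Subgroup.card_bot] at hPc
    have : 1 < r ^ a := Nat.one_lt_pow ha hr.out.one_lt
    omega
  have hn : M ≤ Subgroup.normalizer ((P : Subgroup GG) : Set GG) := by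
    rw [hP]
    exact Subgroup.le_normalizer
  obtain ⟨S', -, -, n, hn1, hSc, hd1, hd2, himp⟩ :=
    coatom_sylow_overgroup hM P hPM hPne hn S (by rw [hPc]; exact hS)
  rw [hPc, ← hMc] at hd1
  have := himp (Nat.dvd_antisymm hd2 hd1)
  rwa [hMc] at this

theorem card_PSL2_of_card (hodd : Odd (Fintype.card F)) {q : ℕ} (hq : Fintype.card F = q) :
    2 * Nat.card (Matrix.ProjectiveSpecialLinearGroup (Fin 2) F) = q * (q - 1) * (q + 1) := by
  rw [two_mul_card_PSL2 hodd, hq]

theorem exists_S4 {q : ℕ} (hq : Fintype.card F = q) (h : q ^ 2 % 16 = 1) :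
    ∃ S : Subgroup (Matrix.ProjectiveSpecialLinearGroup (Fin 2) F), Nat.card S = 24 ∧
      Nonempty (S ≃* Equiv.Perm (Fin 4)) := by
  obtain ⟨S, ⟨e⟩⟩ := (Cfsg.Agent.S0803.result hq).2 h
  exact ⟨S, by rw [Nat.card_congr e.toEquiv, Cfsg.Agent.Helper12.PSL2Max.card_S4], ⟨e⟩⟩

theorem exists_A5 {q : ℕ} (hq : Fintype.card F = q) (h : 5 ∣ q * (q ^ 2 - 1)) :
    ∃ S : Subgroup (Matrix.ProjectiveSpecialLinearGroup (Fin 2) F), Nat.card S = 60 ∧
      Nonempty (S ≃* alternatingGroup (Fin 5)) := by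
  obtain ⟨S, ⟨e⟩⟩ := (Cfsg.Agent.S0804.result hq).2 h
  exact ⟨S, by rw [Nat.card_congr e.toEquiv, Cfsg.Agent.Helper12.PSL2Max.card_A5], ⟨e⟩⟩

/-- the dihedral case -/
theorem dihedral_case (p : ℕ) [Fact p.Prime] [CharP F p] (hodd : Odd (Fintype.card F))
    (h5 : 5 ≤ Fintype.card F)
    (M : Subgroup (Matrix.ProjectiveSpecialLinearGroup (Fin 2) F)) (hM : IsCoatom M) (k : ℕ)
    (hk : k ∣ (Fintype.card F + 1) / 2 ∨ k ∣ (Fintype.card F - 1) / 2)
    (e : M ≃* DihedralGroup k) : Concl F p M := by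
  have hq2 : Fintype.card F % 2 = 1 := Nat.odd_iff.1 hodd
  have hk0 : k ≠ 0 := by
    rintro rfl
    rcases hk with h | h
    · rw [zero_dvd_iff] at h; omega
    · rw [zero_dvd_iff] at h; omega
  by_cases hk3 : 3 ≤ k
  swap
  · exfalso
    exact comm_case h5 M hM e (dihedral_comm_small k (by omega))
  have hMc : Nat.card M = 2 * k := by
    rw [Nat.card_congr e.toEquiv, DihedralGroup.nat_card]
  have hG := two_mul_card_PSL2 (F := F) hodd
  rcases dihedral_coatom p hodd h5 M hM k hk3 hk e with h | h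
  · by_cases h13 : 13 ≤ Fintype.card F
    · right; left
      exact ⟨h13, k, h, ⟨e⟩⟩
    · exfalso
      have hcases : (Fintype.card F = 7 ∧ k = 3) ∨ (Fintype.card F = 9 ∧ k = 4) ∨
          (Fintype.card F = 11 ∧ k = 5) := by omega
      rcases hcases with ⟨hq, rfl⟩ | ⟨hq, rfl⟩ | ⟨hq, rfl⟩
      · -- `D₃` in `PSL₂(7)`
        rw [hq] at hG
        have hGc : Nat.card (Matrix.ProjectiveSpecialLinearGroup (Fin 2) F) = 168 := by omega
        obtain ⟨S, hSc, -⟩ := exists_S4 hq (by norm_num)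
        haveI : Fact (Nat.Prime 3) := ⟨Nat.prime_three⟩
        obtain ⟨n, m, hn, hnm, hd1, hd2, himp⟩ :=
          dihedral_rot_overgroup h5 M hM 3 e (by rw [hGc]; norm_num) S (by rw [hSc]; norm_num)
        rw [hSc, hGc] at himp
        rw [hSc] at hnm
        have hm6 : m ≤ 6 := Nat.le_of_dvd (by norm_num) hd2
        have hm0 : 0 < m := Nat.pos_of_dvd_of_pos hd2 (by norm_num)
        interval_cases m <;> omega
      · -- `D₄` in `PSL₂(9)`
        rw [hq] at hG
        have hGc : Nat.card (Matrix.ProjectiveSpecialLinearGroup (Fin 2) F) = 360 := by omega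
        obtain ⟨S, hSc, -⟩ := exists_S4 hq (by norm_num)
        haveI : Fact (Nat.Prime 2) := ⟨Nat.prime_two⟩
        have := sylow_self_overgroup h5 M hM 2 3 (by norm_num) (by rw [hMc]; norm_num)
          (by rw [hGc]; norm_num) S (by rw [hSc]; norm_num)
        rw [hSc, hGc] at this
        omega
      · -- `D₅` in `PSL₂(11)`
        rw [hq] at hG
        have hGc : Nat.card (Matrix.ProjectiveSpecialLinearGroup (Fin 2) F) = 660 := by omega
        obtain ⟨S, hSc, -⟩ := exists_A5 hq (by norm_num)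
        haveI : Fact (Nat.Prime 5) := ⟨Nat.prime_five⟩
        obtain ⟨n, m, hn, hnm, hd1, hd2, himp⟩ :=
          dihedral_rot_overgroup h5 M hM 5 e (by rw [hGc]; norm_num) S (by rw [hSc]; norm_num)
        rw [hSc, hGc] at himp
        rw [hSc] at hnm
        have hm6 : m ≤ 10 := Nat.le_of_dvd (by norm_num) hd2
        have hm0 : 0 < m := Nat.pos_of_dvd_of_pos hd2 (by norm_num)
        interval_cases m <;> omega
  · by_cases h79 : Fintype.card F ≠ 7 ∧ Fintype.card F ≠ 9
    · right; right; left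
      exact ⟨h79.1, h79.2, k, h, ⟨e⟩⟩
    · exfalso
      have hcases : (Fintype.card F = 7 ∧ k = 4) ∨ (Fintype.card F = 9 ∧ k = 5) := by omega
      rcases hcases with ⟨hq, rfl⟩ | ⟨hq, rfl⟩
      · -- `D₄` in `PSL₂(7)`
        rw [hq] at hG
        have hGc : Nat.card (Matrix.ProjectiveSpecialLinearGroup (Fin 2) F) = 168 := by omega
        obtain ⟨S, hSc, -⟩ := exists_S4 hq (by norm_num)
        haveI : Fact (Nat.Prime 2) := ⟨Nat.prime_two⟩
        have := sylow_self_overgroup h5 M hM 2 3 (by norm_num) (by rw [hMc]; norm_num)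
          (by rw [hGc]; norm_num) S (by rw [hSc]; norm_num)
        rw [hSc, hGc] at this
        omega
      · -- `D₅` in `PSL₂(9)`
        rw [hq] at hG
        have hGc : Nat.card (Matrix.ProjectiveSpecialLinearGroup (Fin 2) F) = 360 := by omega
        obtain ⟨S, hSc, -⟩ := exists_A5 hq (by norm_num)
        haveI : Fact (Nat.Prime 5) := ⟨Nat.prime_five⟩
        obtain ⟨n, m, hn, hnm, hd1, hd2, himp⟩ :=
          dihedral_rot_overgroup h5 M hM 5 e (by rw [hGc]; norm_num) S (by rw [hSc]; norm_num)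
        rw [hSc, hGc] at himp
        rw [hSc] at hnm
        have hm6 : m ≤ 10 := Nat.le_of_dvd (by norm_num) hd2
        have hm0 : 0 < m := Nat.pos_of_dvd_of_pos hd2 (by norm_num)
        interval_cases m <;> omega

/-- the Borel case -/
theorem borel_case (p : ℕ) (hodd : Odd (Fintype.card F))
    (M : Subgroup (Matrix.ProjectiveSpecialLinearGroup (Fin 2) F)) (hM : IsCoatom M)
    (s : SL(2, F)) (hs : ∀ h ∈ Cfsg.Agent.Helper11.Klein.preim M, (s * h * s⁻¹).1 1 0 = 0) :
    Concl F p M := by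
  left
  exact borel_coatom hodd M hM s hs

end Cfsg.Agent.Helper12.MaxSub
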