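import Mathlib
import Cfsg.Agent.Lib.Helper12.MaxSubP

set_option autoImplicit false
set_option linter.unusedVariables false
set_option linter.unusedSectionVars false
set_option linter.style.haveILetI false

/-! Maximal subgroups of `PSL₂(q)`, `q` odd: arithmetic and the `A₄` case. -/

namespace Cfsg.Agent.Helper12.MaxSub

open Matrix
open scoped MatrixGroups

section arith2

theorem card_dvd_eight {p N : ℕ} (hN : 2 * N = p * (p - 1) * (p + 1))
    (hp : p % 8 = 1 ∨ p % 8 = 7) : 8 ∣ N := by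
  obtain ⟨j, hj⟩ : ∃ j, p = 8 * j + 1 ∨ p = 8 * j + 7 := ⟨p / 8, by omega⟩
  rcases hj with rfl | rfl
  · have h1 : 8 * j + 1 - 1 = 8 * j := by omega
    rw [h1] at hN
    have : N = 8 * ((8 * j + 1) * j * (4 * j + 1)) := by
      apply Nat.eq_of_mul_eq_mul_left (by norm_num : 0 < 2)
      rw [hN]; ring
    exact ⟨_, this⟩
  · have h1 : 8 * j + 7 - 1 = 8 * j + 6 := by omega
    rw [h1] at hN
    have : N = 8 * ((8 * j + 7) * (4 * j + 3) * (j + 1)) := by
      apply Nat.eq_of_mul_eq_mul_left (by norm_num : 0 < 2)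
      rw [hN]; ring
    exact ⟨_, this⟩

theorem card_mod_eight {p N : ℕ} (hN : 2 * N = p * (p - 1) * (p + 1))
    (hp : p % 8 = 3 ∨ p % 8 = 5) : N % 8 = 4 := by
  obtain ⟨j, hj⟩ : ∃ j, p = 8 * j + 3 ∨ p = 8 * j + 5 := ⟨p / 8, by omega⟩
  rcases hj with rfl | rfl
  · have h1 : 8 * j + 3 - 1 = 8 * j + 2 := by omega
    rw [h1] at hN
    have : N = 8 * (32 * j ^ 3 + 36 * j ^ 2 + 13 * j + 1) + 4 := by
      apply Nat.eq_of_mul_eq_mul_left (by norm_num : 0 < 2)
      rw [hN]; ring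
    omega
  · have h1 : 8 * j + 5 - 1 = 8 * j + 4 := by omega
    rw [h1] at hN
    have : N = 8 * (32 * j ^ 3 + 60 * j ^ 2 + 37 * j + 7) + 4 := by
      apply Nat.eq_of_mul_eq_mul_left (by norm_num : 0 < 2)
      rw [hN]; ring
    omega

theorem ord_le_five {x N : ℕ} (h : x * (x - 1) * (x + 1) = N) (hN : N < 210) : x ≤ 5 := by
  by_contra hx
  push Not at hx
  have := Cfsg.Agent.Helper12.PSL2Max.ord_mono (a := 6) (b := x) (by omega)
  norm_num at this
  omega

theorem pow_mod_eight_odd {p f : ℕ} (hp : p % 2 = 1) (hf : Odd f) : p ^ f % 8 = p % 8 := by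
  obtain ⟨k, rfl⟩ := hf
  rw [pow_succ, pow_mul, Nat.mul_mod, Nat.pow_mod, sq_mod_eight hp]
  simp

theorem pow_pow_eq_self {R : Type*} [Monoid R] {t : R} {Q : ℕ} (h : t ^ Q = t) (a : ℕ) :
    t ^ (Q ^ a) = t := by
  induction a with
  | zero => simp
  | succ a ih => rw [pow_succ, pow_mul, ih, h]

end arith2

section V4

/-- the Klein four subgroup of `A₄` -/
def V4 : Subgroup (alternatingGroup (Fin 4)) where
  carrier := {y | y * y = 1}
  mul_mem' := by
    intro a b ha hb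
    exact inv_mul_A4 a b ha hb
  one_mem' := by
    change (1 : alternatingGroup (Fin 4)) * 1 = 1
    rw [mul_one]
  inv_mem' := by
    intro a ha
    change a⁻¹ * a⁻¹ = 1
    rw [← _root_.mul_inv_rev, ha, inv_one]

theorem mem_V4 {y : alternatingGroup (Fin 4)} : y ∈ V4 ↔ y * y = 1 := Iff.rfl

instance V4_normal : V4.Normal := by
  constructor
  intro y hy g
  rw [mem_V4] at hy ⊢
  calc g * y * g⁻¹ * (g * y * g⁻¹) = g * (y * y) * g⁻¹ := by group
    _ = 1 := by rw [hy, mul_one, mul_inv_cancel]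

theorem card_V4 : Nat.card V4 = 4 := by
  change Nat.card {y : alternatingGroup (Fin 4) // y * y = 1} = 4
  rw [Nat.card_eq_fintype_card]
  convert card_inv_A4

theorem V4_comm (a b : alternatingGroup (Fin 4)) (ha : a ∈ V4) (hb : b ∈ V4) :
    a * b = b * a := by
  have hab := inv_mul_A4 a b ha hb
  rw [mem_V4] at ha hb
  have h1 : a * b = (a * b)⁻¹ := eq_inv_of_mul_eq_one_left hab
  have h2 : a⁻¹ = a := (eq_inv_of_mul_eq_one_left ha).symm
  have h3 : b⁻¹ = b := (eq_inv_of_mul_eq_one_left hb).symm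
  rw [h1, _root_.mul_inv_rev, h2, h3]

end V4

end Cfsg.Agent.Helper12.MaxSub
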