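import Mathlib
import Cfsg.Agent.Lib.Helper12.MaxSubQ

set_option autoImplicit false
set_option linter.unusedVariables false
set_option linter.unusedSectionVars false
set_option linter.style.haveILetI false

/-! Maximal subgroups of `PSL₂(q)`, `q` odd: the `A₄` case. -/

namespace Cfsg.Agent.Helper12.MaxSub

open Matrix
open scoped MatrixGroups

variable {F : Type*} [Field F] [Fintype F]

local notation "GG" => Matrix.ProjectiveSpecialLinearGroup (Fin 2) F

/-- basic facts on the prime -/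
theorem prime_facts (p : ℕ) [hp : Fact p.Prime] (hodd : Odd (Fintype.card F))
    (h5 : 5 ≤ Fintype.card F) {f : ℕ} (hf : Fintype.card F = p ^ f) :
    f ≠ 0 ∧ p % 2 = 1 := by
  have hf0 : f ≠ 0 := by
    rintro rfl
    rw [pow_zero] at hf
    omega
  refine ⟨hf0, ?_⟩
  rw [hf, Nat.odd_pow_iff hf0] at hodd
  exact Nat.odd_iff.1 hodd

/-- the normal four-group of a maximal `A₄` -/
theorem exists_four_A4 (h5 : 5 ≤ Fintype.card F)
    (M : Subgroup GG) (hM : IsCoatom M) (e : M ≃* alternatingGroup (Fin 4)) :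
    ∃ V : Subgroup GG, V ≤ M ∧ Nat.card V = 4 ∧ V ≠ ⊥ ∧
      Subgroup.normalizer (V : Set GG) = M ∧ ∀ a ∈ V, ∀ b ∈ V, a * b = b * a := by
  haveI := simple_PSL2 h5
  have hc : Nat.card (pullSub M e V4) = 4 := by rw [card_pullSub, card_V4]
  have hne : pullSub M e V4 ≠ ⊥ := by
    intro h
    rw [h, Subgroup.card_bot] at hc
    omega
  refine ⟨pullSub M e V4, pullSub_le _ _ _, hc, hne, ?_, ?_⟩
  · exact normalizer_eq_of_coatom hM (pullSub_le _ _ _) hne (pullSub_normal M e V4)
  · intro a ha b hb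
    obtain ⟨haM, ha4⟩ := mem_pullSub.1 ha
    obtain ⟨hbM, hb4⟩ := mem_pullSub.1 hb
    have h1 : e (⟨a, haM⟩ * ⟨b, hbM⟩) = e (⟨b, hbM⟩ * ⟨a, haM⟩) := by
      rw [map_mul, map_mul, V4_comm _ _ ha4 hb4]
    exact congrArg Subtype.val (e.injective h1)

/-- a maximal `A₄` in `PSL₂(p)` forces `p ≡ ±3 (mod 8)` -/
theorem A4_mod_eight (hodd : Odd (Fintype.card F)) (h5 : 5 ≤ Fintype.card F)
    (M : Subgroup GG) (hM : IsCoatom M) (e : M ≃* alternatingGroup (Fin 4))
    (h8 : Fintype.card F % 8 = 1 ∨ Fintype.card F % 8 = 7) : False := by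
  haveI := simple_PSL2 h5
  obtain ⟨V, hVM, hVc, hVne, hVn, -⟩ := exists_four_A4 h5 M hM e
  have hG := two_mul_card_PSL2 (F := F) hodd
  have h8G : 2 ^ (2 + 1) ∣ Nat.card GG := card_dvd_eight hG h8
  obtain ⟨W, hWc, -, hWn⟩ := exists_normalizing_two V (by rw [hVc]; norm_num) h8G
  rw [hVn] at hWn
  have hMc : Nat.card M = 12 := by
    rw [Nat.card_congr e.toEquiv, Cfsg.Agent.Helper12.PSL2Max.card_A4]
  have := Subgroup.card_dvd_of_le hWn
  rw [hWc, hMc] at this
  norm_num at this

/-- a maximal `A₄` in `PSL₂(p)`, `p ≡ ±3 (mod 8)`, forces `p ≢ ±1 (mod 10)` -/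
theorem A4_mod_ten (hodd : Odd (Fintype.card F)) (h5 : 5 ≤ Fintype.card F)
    (M : Subgroup GG) (hM : IsCoatom M) (e : M ≃* alternatingGroup (Fin 4))
    (h8 : Fintype.card F % 8 = 3 ∨ Fintype.card F % 8 = 5)
    (h10 : Fintype.card F % 10 = 1 ∨ Fintype.card F % 10 = 9) : False := by
  haveI := simple_PSL2 h5
  obtain ⟨V, hVM, hVc, hVne, hVn, hVcomm⟩ := exists_four_A4 h5 M hM e
  have hG := two_mul_card_PSL2 (F := F) hodd
  have h8G : Nat.card GG % 8 = 4 := card_mod_eight hG h8
  haveI : Fact (Nat.Prime 2) := ⟨Nat.prime_two⟩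
  obtain ⟨P, hP⟩ := exists_sylow_eq (r := 2) V (a := 2) (by rw [hVc]; norm_num)
    (by norm_num; omega)
  have hMc : Nat.card M = 12 := by
    rw [Nat.card_congr e.toEquiv, Cfsg.Agent.Helper12.PSL2Max.card_A4]
  have h5dvd : 5 ∣ Fintype.card F * (Fintype.card F ^ 2 - 1) := by
    have hq1 : 1 ≤ Fintype.card F := by omega
    have : Fintype.card F ^ 2 - 1 = (Fintype.card F - 1) * (Fintype.card F + 1) :=
      (Cfsg.Agent.Helper12.PSL2Max.pred_mul_succ _ hq1).symm
    rw [this]
    rcases h10 with h | h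
    · have : 5 ∣ Fintype.card F - 1 := by omega
      exact Dvd.dvd.mul_left (Dvd.dvd.mul_right this _) _
    · have : 5 ∣ Fintype.card F + 1 := by omega
      exact Dvd.dvd.mul_left (Dvd.dvd.mul_left this _) _
  obtain ⟨S, hSc, ⟨eS⟩⟩ := exists_A5 (F := F) rfl h5dvd
  have hPM : (P : Subgroup GG) ≤ M := by rw [hP]; exact hVM
  have hPne : (P : Subgroup GG) ≠ ⊥ := by rw [hP]; exact hVne
  have hPn : M ≤ Subgroup.normalizer ((P : Subgroup GG) : Set GG) := by rw [hP, hVn]
  have hPc : Nat.card (P : Subgroup GG) = 4 := by rw [hP, hVc]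
  obtain ⟨S', ⟨e'⟩, hPS', n, hn1, hnm, hd1, hd2, himp⟩ :=
    coatom_sylow_overgroup hM P hPM hPne hPn S (by rw [hPc, hSc]; norm_num)
  rw [hPc] at hd1
  rw [hMc] at hd2 himp
  rw [hSc] at hnm himp
  have hm12 : Nat.card (S' ⊓ M : Subgroup GG) ≤ 12 := Nat.le_of_dvd (by norm_num) hd2
  have hm0 : 0 < Nat.card (S' ⊓ M : Subgroup GG) := Nat.pos_of_dvd_of_pos hd2 (by norm_num)
  have hcases : Nat.card (S' ⊓ M : Subgroup GG) = 4 ∨ Nat.card (S' ⊓ M : Subgroup GG) = 12 := by
    obtain ⟨a, ha⟩ := hd1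
    obtain ⟨b, hb⟩ := hd2
    rw [ha] at hb hm12 ⊢
    have : a ≤ 3 := by omega
    interval_cases a <;> omega
  rcases hcases with h4 | h12
  · -- the intersection is the four-group
    have heq : (S' ⊓ M : Subgroup GG) = (P : Subgroup GG) := by
      symm
      apply Subgroup.eq_of_le_of_card_ge (le_inf hPS' hPM)
      rw [h4, hPc]
    haveI : IsSimpleGroup (alternatingGroup (Fin 5)) := alternatingGroup.isSimpleGroup_five
    haveI : IsSimpleGroup S' := (e'.symm.trans eS).isSimpleGroup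
    have hncS' : ∃ a b : S', a * b ≠ b * a := by
      by_contra hcon
      push Not at hcon
      apply Cfsg.Agent.Helper12.PSL2Max.A5_noncomm
      intro a b
      have := hcon (e' (eS.symm a)) (e' (eS.symm b))
      rw [← map_mul, ← map_mul, ← map_mul, ← map_mul] at this
      exact eS.symm.injective (e'.injective this)
    refine inter_ne_of_simple hM P hPM hPne hPn S' hPS' hncS' ?_ heq
    intro a ha b hb
    rw [hP] at ha hb
    exact hVcomm a ha b hb
  · have := himp h12
    rcases this with h | h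
    · omega
    · rw [← h] at hG
      have hx := ord_le_five hG.symm (by norm_num)
      have hq : Fintype.card F = 5 := by
        have h5' := h5
        interval_cases (Fintype.card F) <;> omega
      omega

section numeric

theorem ord_eq_24 {x : ℕ} (h : x * (x - 1) * (x + 1) = 24) : x = 3 := by
  have := ord_le_five h (by norm_num)
  interval_cases x <;> omega

theorem ord_eq_120 {x : ℕ} (h : x * (x - 1) * (x + 1) = 120) : x = 5 := by
  have := ord_le_five h (by norm_num)
  interval_cases x <;> omega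

theorem ord_ne_48 {x : ℕ} (h : x * (x - 1) * (x + 1) = 48) : False := by
  have := ord_le_five h (by norm_num)
  interval_cases x <;> omega

theorem ord_ne_12 {x : ℕ} (h : x * (x - 1) * (x + 1) = 12) : False := by
  have := ord_le_five h (by norm_num)
  interval_cases x <;> omega

theorem ord_lt_nine {x N : ℕ} (h : x * (x - 1) * (x + 1) = N) (hN : N < 210) (hx : 9 ≤ x) :
    False := by
  have := ord_le_five h hN
  omega

end numeric

/-- the `A₄` case -/
theorem A4_case (p : ℕ) [hp : Fact p.Prime] [CharP F p] (hodd : Odd (Fintype.card F))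
    (h5 : 5 ≤ Fintype.card F) {f : ℕ} (hf : Fintype.card F = p ^ f)
    (M : Subgroup GG) (hM : IsCoatom M) (e : M ≃* alternatingGroup (Fin 4)) : Concl F p M := by
  obtain ⟨hf0, hp2⟩ := prime_facts p hodd h5 hf
  have h2 := two_ne_zero_of_odd_card hodd
  have hMc : Nat.card M = 12 := by
    rw [Nat.card_congr e.toEquiv, Cfsg.Agent.Helper12.PSL2Max.card_A4]
  have hkl := klein_of_equiv M e klein_A4
  have htr : ∀ X : SL(2, F), mkP X ∈ M → X.1.trace ^ p = X.1.trace := by
    intro X hX
    apply trace_small_prime h2 p hp2 X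
    rcases ordCond_A4 (e ⟨mkP X, hX⟩) with h | h
    · left; exact pow_eq_one_of_equiv M e _ hX 2 h
    · right; left; exact pow_eq_one_of_equiv M e _ hX 3 h
  by_cases hf1 : f = 1
  · subst hf1
    rw [pow_one] at hf
    right; right; right; right; right; right; left
    have h8 : p % 8 = 3 ∨ p % 8 = 5 := by
      by_contra hcon
      apply A4_mod_eight hodd h5 M hM e
      rw [hf]; omega
    refine ⟨hf, h8, ?_, ⟨e⟩⟩
    intro h10
    exact A4_mod_ten hodd h5 M hM e (by rw [hf]; exact h8) (by rw [hf]; exact h10)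
  · have hf2 : 2 ≤ f := by omega
    obtain ⟨K, _, _, hKc, ⟨eK⟩, hcard⟩ := reduce_PSL2 p hodd hf one_ne_zero (one_dvd f)
      (by omega) M hM hkl (by simpa using htr)
    rw [hMc, pow_one] at hcard
    have hp3 : p = 3 := ord_eq_24 hcard.symm
    have hfprime : f.Prime := by
      by_contra hnp
      obtain ⟨m, hmf, hm2, hmlt⟩ := Nat.exists_dvd_of_not_prime2 hf2 hnp
      obtain ⟨K', _, _, hK'c, -, hcard'⟩ := reduce_PSL2 p hodd hf (c := m) (by omega) hmf hmlt
        M hM hkl (fun X hX => pow_pow_eq_self (htr X hX) m)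
      rw [hMc] at hcard'
      have h9 : 9 ≤ p ^ m := by
        rw [hp3]
        calc 9 = 3 ^ 2 := by norm_num
          _ ≤ 3 ^ m := Nat.pow_le_pow_right (by norm_num) hm2
      exact ord_lt_nine hcard'.symm (by norm_num) h9
    have hfne2 : f ≠ 2 := by
      rintro rfl
      obtain ⟨K', _, _, hK'c, -, hcard'⟩ := reduce_PGL2 p hodd (c := 1) (by simpa using hf)
        one_ne_zero M M hM le_rfl (fun x hx y hy hx' _ => absurd hx hx') hkl
        (by simpa using htr)
      rw [hMc, pow_one] at hcard'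
      exact ord_ne_12 hcard'.symm
    right; right; right; right; left
    exact ⟨K, _, _, f, hfprime, hfprime.odd_of_ne_two hfne2, by rw [hf, hKc, pow_one], ⟨eK⟩⟩

end Cfsg.Agent.Helper12.MaxSub
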