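import Mathlib
import Cfsg.Agent.Lib.Helper12.MaxSubR

set_option autoImplicit false
set_option linter.unusedVariables false
set_option linter.unusedSectionVars false
set_option linter.style.haveILetI false

/-! Maximal subgroups of `PSL₂(q)`, `q` odd: the `S₄` and `A₅` cases. -/

namespace Cfsg.Agent.Helper12.MaxSub

open Matrix
open scoped MatrixGroups

variable {F : Type*} [Field F] [Fintype F]

local notation "GG" => Matrix.ProjectiveSpecialLinearGroup (Fin 2) F

/-- the `S₄` case -/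
theorem S4_case (p : ℕ) [hp : Fact p.Prime] [CharP F p] (hodd : Odd (Fintype.card F))
    (h5 : 5 ≤ Fintype.card F) {f : ℕ} (hf : Fintype.card F = p ^ f)
    (M : Subgroup GG) (hM : IsCoatom M) (e : M ≃* Equiv.Perm (Fin 4)) : Concl F p M := by
  obtain ⟨hf0, hp2⟩ := prime_facts p hodd h5 hf
  have h2 := two_ne_zero_of_odd_card hodd
  have hMc : Nat.card M = 24 := by
    rw [Nat.card_congr e.toEquiv, Cfsg.Agent.Helper12.PSL2Max.card_S4]
  have hG := two_mul_card_PSL2 (F := F) hodd
  have hq2 : Fintype.card F % 2 = 1 := Nat.odd_iff.1 hodd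
  -- `q ≡ ±1 (mod 8)`
  have hq8 : Fintype.card F % 8 = 1 ∨ Fintype.card F % 8 = 7 := by
    by_contra hcon
    have h8 : Fintype.card F % 8 = 3 ∨ Fintype.card F % 8 = 5 := by omega
    have h4 := card_mod_eight hG h8
    have hdvd : 24 ∣ Nat.card GG := by
      rw [← hMc]; exact Subgroup.card_subgroup_dvd_card M
    omega
  set M1 := pullSub M e (alternatingGroup (Fin 4)) with hM1def
  have hM1 : M1 ≤ M := pullSub_le _ _ _
  have hidx : ∀ x ∈ M, ∀ y ∈ M, x ∉ M1 → y ∉ M1 → x * y ∈ M1 := by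
    intro x hx y hy hx1 hy1
    have hx' : e ⟨x, hx⟩ ∉ alternatingGroup (Fin 4) := fun h => hx1 (mem_pullSub.2 ⟨hx, h⟩)
    have hy' : e ⟨y, hy⟩ ∉ alternatingGroup (Fin 4) := fun h => hy1 (mem_pullSub.2 ⟨hy, h⟩)
    refine mem_pullSub.2 ⟨M.mul_mem hx hy, ?_⟩
    have : (⟨x * y, M.mul_mem hx hy⟩ : M) = ⟨x, hx⟩ * ⟨y, hy⟩ := rfl
    rw [this, map_mul]
    exact sq_mem_A4 _ _ hx' hy'
  -- the four-group inside `M1`
  have hkl1 : ∃ s t : GG, s ∈ M1 ∧ t ∈ M1 ∧ s ≠ 1 ∧ t ≠ 1 ∧ s ≠ t ∧ s * s = 1 ∧ t * t = 1 ∧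
      s * t = t * s := by
    obtain ⟨s, t, hsA, htA, hs1, ht1, hst, hs2, ht2, hc⟩ := klein_S4
    refine ⟨(e.symm s : GG), (e.symm t : GG), ?_, ?_, ?_, ?_, ?_, ?_, ?_, ?_⟩
    · exact mem_pullSub.2 ⟨(e.symm s).2, by simpa using hsA⟩
    · exact mem_pullSub.2 ⟨(e.symm t).2, by simpa using htA⟩
    · intro h
      have : e.symm s = 1 := Subtype.ext h
      exact hs1 (by simpa using this)
    · intro h
      have : e.symm t = 1 := Subtype.ext h
      exact ht1 (by simpa using this)
    · intro h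
      have : e.symm s = e.symm t := Subtype.ext h
      exact hst (e.symm.injective this)
    · have : e.symm s * e.symm s = 1 := by rw [← map_mul, hs2, map_one]
      exact congrArg Subtype.val this
    · have : e.symm t * e.symm t = 1 := by rw [← map_mul, ht2, map_one]
      exact congrArg Subtype.val this
    · have : e.symm s * e.symm t = e.symm t * e.symm s := by rw [← map_mul, hc, map_mul]
      exact congrArg Subtype.val this
  have hkl : ∃ s t : GG, s ∈ M ∧ t ∈ M ∧ s ≠ 1 ∧ t ≠ 1 ∧ s ≠ t ∧ s * s = 1 ∧ t * t = 1 ∧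
      s * t = t * s := by
    obtain ⟨s, t, hs, ht, h⟩ := hkl1
    exact ⟨s, t, hM1 hs, hM1 ht, h⟩
  by_cases hf1 : f = 1
  · subst hf1
    rw [pow_one] at hf
    right; right; right; right; right; right; right
    refine ⟨hf, ?_, ⟨e⟩⟩
    rw [← hf]; exact hq8
  have hf2 : 2 ≤ f := by omega
  by_cases hp8 : p % 8 = 1 ∨ p % 8 = 7
  · exfalso
    have htr : ∀ X : SL(2, F), mkP X ∈ M → X.1.trace ^ p = X.1.trace := by
      intro X hX
      apply trace_small_prime h2 p hp2 X
      rcases (ordCond_S4 (e ⟨mkP X, hX⟩)).2 with h | h | h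
      · left; exact pow_eq_one_of_equiv M e _ hX 2 h
      · right; left; exact pow_eq_one_of_equiv M e _ hX 3 h
      · right; right; left; exact ⟨pow_eq_one_of_equiv M e _ hX 4 h, hp8⟩
    obtain ⟨K, _, _, hKc, -, hcard⟩ := reduce_PSL2 p hodd hf one_ne_zero (one_dvd f)
      (by omega) M hM hkl (by simpa using htr)
    rw [hMc, pow_one] at hcard
    exact ord_ne_48 hcard.symm
  · have hfe : Even f := by
      by_contra hfo
      rw [Nat.not_even_iff_odd] at hfo
      have := pow_mod_eight_odd hp2 hfo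
      rw [← hf] at this
      omega
    by_cases hf2' : f = 2
    · subst hf2'
      have htr1 : ∀ X : SL(2, F), mkP X ∈ M1 → X.1.trace ^ p = X.1.trace := by
        intro X hX
        obtain ⟨hXM, hXA⟩ := mem_pullSub.1 hX
        apply trace_small_prime h2 p hp2 X
        rcases (ordCond_S4 (e ⟨mkP X, hXM⟩)).1 hXA with h | h
        · left; exact pow_eq_one_of_equiv M e _ hXM 2 h
        · right; left; exact pow_eq_one_of_equiv M e _ hXM 3 h
      obtain ⟨K, _, _, hKc, ⟨eK⟩, -⟩ := reduce_PGL2 p hodd (c := 1) (by simpa using hf)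
        one_ne_zero M M1 hM hM1 hidx hkl1 (by simpa using htr1)
      right; right; right; left
      exact ⟨K, _, _, by rw [hf, hKc, pow_one], ⟨eK⟩⟩
    · exfalso
      obtain ⟨j, hj⟩ := hfe
      have htr : ∀ X : SL(2, F), mkP X ∈ M → X.1.trace ^ (p ^ 2) = X.1.trace := by
        intro X hX
        apply trace_small_sq h2 p hp2 X
        rcases (ordCond_S4 (e ⟨mkP X, hX⟩)).2 with h | h | h
        · left; exact pow_eq_one_of_equiv M e _ hX 2 h
        · right; left; exact pow_eq_one_of_equiv M e _ hX 3 h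
        · right; right; left; exact pow_eq_one_of_equiv M e _ hX 4 h
      obtain ⟨K, _, _, hKc, -, hcard⟩ := reduce_PSL2 p hodd hf (c := 2) (by norm_num)
        ⟨j, by omega⟩ (by omega) M hM hkl htr
      rw [hMc] at hcard
      have h9 : 9 ≤ p ^ 2 := by
        have := hp.out.two_le
        have h3 : 3 ≤ p := by omega
        calc 9 = 3 ^ 2 := by norm_num
          _ ≤ p ^ 2 := Nat.pow_le_pow_left h3 2
      exact ord_lt_nine hcard.symm (by norm_num) h9

/-- the `A₅` case -/
theorem A5_case (p : ℕ) [hp : Fact p.Prime] [CharP F p] (hodd : Odd (Fintype.card F))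
    (h5 : 5 ≤ Fintype.card F) {f : ℕ} (hf : Fintype.card F = p ^ f)
    (M : Subgroup GG) (hM : IsCoatom M) (e : M ≃* alternatingGroup (Fin 5)) : Concl F p M := by
  obtain ⟨hf0, hp2⟩ := prime_facts p hodd h5 hf
  have h2 := two_ne_zero_of_odd_card hodd
  have hMc : Nat.card M = 60 := by
    rw [Nat.card_congr e.toEquiv, Cfsg.Agent.Helper12.PSL2Max.card_A5]
  have hG := two_mul_card_PSL2 (F := F) hodd
  have hkl := klein_of_equiv M e klein_A5
  have hord : ∀ X : SL(2, F), ∀ hX : mkP X ∈ M,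
      mkP X ^ 2 = 1 ∨ mkP X ^ 3 = 1 ∨ mkP X ^ 5 = 1 := by
    intro X hX
    rcases ordCond_A5 (e ⟨mkP X, hX⟩) with h | h | h
    · left; exact pow_eq_one_of_equiv M e _ hX 2 h
    · right; left; exact pow_eq_one_of_equiv M e _ hX 3 h
    · right; right; exact pow_eq_one_of_equiv M e _ hX 5 h
  have htr2 : ∀ X : SL(2, F), mkP X ∈ M → X.1.trace ^ (p ^ 2) = X.1.trace := by
    intro X hX
    apply trace_small_sq h2 p hp2 X
    rcases hord X hX with h | h | h
    · left; exact h
    · right; left; exact h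
    · right; right; right; exact h
  have htr1 : (p = 5 ∨ p % 10 = 1 ∨ p % 10 = 9) →
      ∀ X : SL(2, F), mkP X ∈ M → X.1.trace ^ p = X.1.trace := by
    intro hp10 X hX
    apply trace_small_prime h2 p hp2 X
    rcases hord X hX with h | h | h
    · left; exact h
    · right; left; exact h
    · right; right; right; exact ⟨h, hp10⟩
  have hred1 : 2 ≤ f → (∀ X : SL(2, F), mkP X ∈ M → X.1.trace ^ p = X.1.trace) →
      p = 5 ∧ ∃ (K : Type) (_ : Field K) (_ : Fintype K), Fintype.card K = p ∧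
        Nonempty (M ≃* Matrix.ProjectiveSpecialLinearGroup (Fin 2) K) := by
    intro hf2 htr
    obtain ⟨K, _, _, hKc, hK, hcard⟩ := reduce_PSL2 p hodd hf one_ne_zero (one_dvd f)
      (by omega) M hM hkl (by simpa using htr)
    rw [hMc, pow_one] at hcard
    rw [pow_one] at hKc
    exact ⟨ord_eq_120 hcard.symm, K, _, _, hKc, hK⟩
  have hp3 : 3 ≤ p := by
    have := hp.out.two_le
    omega
  by_cases hf1 : f = 1
  · subst hf1
    rw [pow_one] at hf
    rw [hf] at hG
    have hdvd : 60 ∣ Nat.card GG := by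
      rw [← hMc]; exact Subgroup.card_subgroup_dvd_card M
    have hpne5 : p ≠ 5 := by
      intro h5'
      rw [h5'] at hG
      have hGc : Nat.card GG = 60 := by omega
      apply hM.1
      apply Subgroup.eq_top_of_card_eq
      rw [hMc, hGc]
    have h5dvd : 5 ∣ p * (p - 1) * (p + 1) := by
      rw [← hG]
      exact Dvd.dvd.mul_left (Dvd.dvd.trans (by norm_num) hdvd) _
    have h10 : p % 10 = 1 ∨ p % 10 = 9 := by
      rcases (Nat.Prime.dvd_mul Nat.prime_five).1 h5dvd with h | h
      · rcases (Nat.Prime.dvd_mul Nat.prime_five).1 h with h | h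
        · exfalso
          exact hpne5 ((Nat.prime_dvd_prime_iff_eq Nat.prime_five hp.out).1 h).symm
        · omega
      · omega
    right; right; right; right; right; left
    exact ⟨by rw [hf]; exact h10, Or.inl hf, ⟨e⟩⟩
  have hf2 : 2 ≤ f := by omega
  by_cases hf2' : f = 2
  · subst hf2'
    by_cases h37 : p % 10 = 3 ∨ p % 10 = 7
    · right; right; right; right; right; left
      refine ⟨Or.inr ?_, Or.inr ⟨hf, h37⟩, ⟨e⟩⟩
      rw [hf, Nat.pow_mod]
      rcases h37 with h | h <;> rw [h]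
    · exfalso
      have hp10 : p = 5 ∨ p % 10 = 1 ∨ p % 10 = 9 := by
        by_cases h5' : p % 5 = 0
        · left
          exact ((Nat.prime_dvd_prime_iff_eq Nat.prime_five hp.out).1
            (Nat.dvd_of_mod_eq_zero h5')).symm
        · right; omega
      have htr := htr1 hp10
      obtain ⟨hp5, -⟩ := hred1 (by omega) htr
      obtain ⟨K', _, _, hK'c, -, hcard'⟩ := reduce_PGL2 p hodd (c := 1) (by simpa using hf)
        one_ne_zero M M hM le_rfl (fun x hx y hy hx' _ => absurd hx hx') hkl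
        (by simpa using htr)
      rw [hMc, pow_one, hp5] at hcard'
      norm_num at hcard'
  by_cases hfe : Even f
  · exfalso
    obtain ⟨j, hj⟩ := hfe
    obtain ⟨K, _, _, hKc, -, hcard⟩ := reduce_PSL2 p hodd hf (c := 2) (by norm_num)
      ⟨j, by omega⟩ (by omega) M hM hkl htr2
    rw [hMc] at hcard
    have h9 : 9 ≤ p ^ 2 := by
      calc 9 = 3 ^ 2 := by norm_num
        _ ≤ p ^ 2 := Nat.pow_le_pow_left hp3 2
    exact ord_lt_nine hcard.symm (by norm_num) h9
  · rw [Nat.not_even_iff_odd] at hfe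
    have htr : ∀ X : SL(2, F), mkP X ∈ M → X.1.trace ^ p = X.1.trace := by
      intro X hX
      exact pow_eq_of_pow_sq_eq p hf hfe _ (htr2 X hX)
    obtain ⟨hp5, K, _, _, hKc, ⟨eK⟩⟩ := hred1 hf2 htr
    have hfprime : f.Prime := by
      by_contra hnp
      obtain ⟨m, hmf, hm2, hmlt⟩ := Nat.exists_dvd_of_not_prime2 hf2 hnp
      obtain ⟨K', _, _, hK'c, -, hcard'⟩ := reduce_PSL2 p hodd hf (c := m) (by omega) hmf hmlt
        M hM hkl (fun X hX => pow_pow_eq_self (htr X hX) m)
      rw [hMc] at hcard'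
      have h9 : 9 ≤ p ^ m := by
        calc 9 = 3 ^ 2 := by norm_num
          _ ≤ p ^ 2 := Nat.pow_le_pow_left hp3 2
          _ ≤ p ^ m := Nat.pow_le_pow_right (by omega) hm2
      exact ord_lt_nine hcard'.symm (by norm_num) h9
    right; right; right; right; left
    exact ⟨K, _, _, f, hfprime, hfe, by rw [hf, hKc], ⟨eK⟩⟩

end Cfsg.Agent.Helper12.MaxSub
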