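import Mathlib
import Cfsg.Agent.Lib.Helper12.MaxSubS

set_option autoImplicit false
set_option linter.unusedVariables false
set_option linter.unusedSectionVars false
set_option linter.style.haveILetI false

/-! Maximal subgroups of `PSL₂(q)`, `q` odd: the subfield cases. -/

namespace Cfsg.Agent.Helper12.MaxSub

open Matrix
open scoped MatrixGroups

variable {F : Type*} [Field F] [Fintype F]

local notation "GG" => Matrix.ProjectiveSpecialLinearGroup (Fin 2) F

/-- a finite field whose order is a root of a power of `p` has characteristic `p` -/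
theorem charP_of_card_pow (p : ℕ) [hp : Fact p.Prime] (K0 : Type*) [Field K0] [Fintype K0]
    {m f : ℕ} (hm : m ≠ 0) (h : Fintype.card K0 ^ m = p ^ f) : CharP K0 p := by
  haveI := ringChar.charP K0
  obtain ⟨n, hr, hc⟩ := FiniteField.card K0 (ringChar K0)
  have hdvd : ringChar K0 ∣ p ^ f := by
    rw [← h, hc]
    exact Dvd.dvd.trans (dvd_pow_self _ n.ne_zero) (dvd_pow_self _ hm)
  have := hr.dvd_of_dvd_pow hdvd
  have heq := (Nat.prime_dvd_prime_iff_eq hr hp.out).1 this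
  rw [← heq]
  infer_instance

/-- common data of the two subfield cases -/
theorem subfield_data (p : ℕ) [hp : Fact p.Prime] (hodd : Odd (Fintype.card F))
    (h5 : 5 ≤ Fintype.card F) {f : ℕ} (hf : Fintype.card F = p ^ f)
    (K0 : Type) [Field K0] [Fintype K0] (m : ℕ) (hK0 : Fintype.card K0 ^ m = Fintype.card F) :
    m ≠ 0 ∧ Odd (Fintype.card K0) ∧ ∃ _ : CharP K0 p, ∃ b : ℕ, 1 ≤ b ∧
      Fintype.card K0 = p ^ b ∧ f = b * m := by
  have hm0 : m ≠ 0 := by
    rintro rfl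
    rw [pow_zero] at hK0
    omega
  have hodd0 : Odd (Fintype.card K0) := by
    rw [← hK0, Nat.odd_pow_iff hm0] at hodd
    exact hodd
  haveI hch : CharP K0 p := charP_of_card_pow p K0 hm0 (hK0.trans hf)
  obtain ⟨b, hb1, hb⟩ := Cfsg.Agent.Helper12.PSL2Max.exists_card_eq_pow K0 p
  refine ⟨hm0, hodd0, hch, b, hb1, hb, ?_⟩
  rw [hb, ← pow_mul, hf] at hK0
  exact (Nat.pow_right_injective hp.out.two_le hK0).symm

/-- the `PSL₂(q₀)` case -/
theorem PSL_case (p : ℕ) [hp : Fact p.Prime] [CharP F p] (hodd : Odd (Fintype.card F))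
    (h5 : 5 ≤ Fintype.card F) {f : ℕ} (hf : Fintype.card F = p ^ f)
    (M : Subgroup GG) (hM : IsCoatom M)
    (K0 : Type) [Field K0] [Fintype K0] (m : ℕ) (hK0 : Fintype.card K0 ^ m = Fintype.card F)
    (e : M ≃* Matrix.ProjectiveSpecialLinearGroup (Fin 2) K0) : Concl F p M := by
  obtain ⟨hf0, hp2⟩ := prime_facts p hodd h5 hf
  have h2 := two_ne_zero_of_odd_card hodd
  obtain ⟨hm0, hodd0, hch, b, hb1, hb, hfbm⟩ := subfield_data p hodd h5 hf K0 m hK0
  haveI := hch
  have hG := two_mul_card_PSL2 (F := F) hodd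
  have hMc : 2 * Nat.card M = p ^ b * (p ^ b - 1) * (p ^ b + 1) := by
    rw [Nat.card_congr e.toEquiv, two_mul_card_PSL2 (F := K0) hodd0, hb]
  have hkl := klein_of_equiv M e (exists_klein_PSL2 hodd0)
  have hQodd : Odd (p ^ b) := by rw [← hb]; exact hodd0
  have htr : ∀ X : SL(2, F), mkP X ∈ M → X.1.trace ^ (p ^ b) = X.1.trace := by
    intro X hX
    apply trace_of_ordCond h2 p b hQodd X
    have h1 := ordCond_PSL2 p hodd0 (e ⟨mkP X, hX⟩)
    rw [hb] at h1
    have h3 : OrdCond (p ^ b) p (⟨mkP X, hX⟩ : M) :=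
      OrdCond.of_map e.toMonoidHom e.injective h1
    exact OrdCond.map M.subtype h3
  have hMpos : 0 < Nat.card M := Nat.card_pos
  have hq0 : 2 ≤ p ^ b := by
    calc 2 ≤ p := hp.out.two_le
      _ = p ^ 1 := (pow_one p).symm
      _ ≤ p ^ b := Nat.pow_le_pow_right hp.out.pos hb1
  by_cases hm1 : m = 1
  · exfalso
    subst hm1
    rw [mul_one] at hfbm
    subst hfbm
    rw [hf, ← hMc] at hG
    apply hM.1
    apply Subgroup.eq_top_of_card_eq
    omega
  have hm2 : 2 ≤ m := by omega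
  have hmprime : m.Prime := by
    by_contra hnp
    obtain ⟨a, ham, ha2, halt⟩ := Nat.exists_dvd_of_not_prime2 hm2 hnp
    obtain ⟨K', _, _, hK'c, -, hcard'⟩ := reduce_PSL2 p hodd hf (c := b * a)
      (by positivity) (by rw [hfbm]; exact Nat.mul_dvd_mul_left b ham)
      (by rw [hfbm]; exact Nat.mul_lt_mul_of_pos_left halt (by omega))
      M hM hkl (fun X hX => by rw [pow_mul]; exact pow_pow_eq_self (htr X hX) a)
    rw [hMc] at hcard'
    have hlt : p ^ b < p ^ (b * a) := by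
      apply Nat.pow_lt_pow_right hp.out.one_lt
      nlinarith
    have := Cfsg.Agent.Helper12.PSL2Max.ord_strict hq0 hlt
    omega
  have hmne2 : m ≠ 2 := by
    rintro rfl
    obtain ⟨K', _, _, hK'c, -, hcard'⟩ := reduce_PGL2 p hodd (c := b)
      (by rw [hf, hfbm, mul_comm]) (by omega) M M hM le_rfl
      (fun x hx y hy hx' _ => absurd hx hx') hkl htr
    omega
  right; right; right; right; left
  exact ⟨K0, _, _, m, hmprime, hmprime.odd_of_ne_two hmne2, hK0.symm, ⟨e⟩⟩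

theorem sq_ord_contra {x : ℕ} (hx : 3 ≤ x)
    (h : 2 * (x * (x - 1) * (x + 1)) = x ^ 2 * (x ^ 2 - 1) * (x ^ 2 + 1)) : False := by
  have h1 : x ^ 2 - 1 = (x - 1) * (x + 1) :=
    (Cfsg.Agent.Helper12.PSL2Max.pred_mul_succ x (by omega)).symm
  rw [h1] at h
  have hA : 0 < x * (x - 1) * (x + 1) := by
    have : 0 < x - 1 := by omega
    positivity
  have h2 : x * (x - 1) * (x + 1) * 2 = x * (x - 1) * (x + 1) * (x * (x ^ 2 + 1)) := by
    rw [mul_comm _ 2, h]; ring
  have h3 := Nat.eq_of_mul_eq_mul_left hA h2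
  have h9 : 9 ≤ x ^ 2 := by
    calc 9 = 3 ^ 2 := by norm_num
      _ ≤ x ^ 2 := Nat.pow_le_pow_left hx 2
  have : 3 * 10 ≤ x * (x ^ 2 + 1) := Nat.mul_le_mul hx (by omega)
  omega

/-- the `PGL₂(q₀)` case -/
theorem PGL_case (p : ℕ) [hp : Fact p.Prime] [CharP F p] (hodd : Odd (Fintype.card F))
    (h5 : 5 ≤ Fintype.card F) {f : ℕ} (hf : Fintype.card F = p ^ f)
    (M : Subgroup GG) (hM : IsCoatom M)
    (K0 : Type) [Field K0] [Fintype K0] (m : ℕ) (hK0 : Fintype.card K0 ^ m = Fintype.card F)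
    (e : M ≃* Matrix.ProjGenLinGroup (Fin 2) K0) : Concl F p M := by
  obtain ⟨hf0, hp2⟩ := prime_facts p hodd h5 hf
  have h2 := two_ne_zero_of_odd_card hodd
  obtain ⟨hm0, hodd0, hch, b, hb1, hb, hfbm⟩ := subfield_data p hodd h5 hf K0 m hK0
  haveI := hch
  have hMc : Nat.card M = p ^ b * (p ^ b - 1) * (p ^ b + 1) := by
    rw [Nat.card_congr e.toEquiv, Cfsg.Agent.Helper12.PSL2Max.card_PGL2' K0 hb]
  by_cases hmodd : Odd m
  · exfalso
    apply Cfsg.Agent.Helper28.SubfieldPSL2.not_dvd_of_odd hodd hmodd hK0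
    rw [← Nat.card_congr e.toEquiv]
    exact Subgroup.card_subgroup_dvd_card M
  rw [Nat.not_odd_iff_even] at hmodd
  obtain ⟨j, hj⟩ := hmodd
  by_cases hm2 : m = 2
  · subst hm2
    right; right; right; left
    exact ⟨K0, _, _, hK0.symm, ⟨e⟩⟩
  exfalso
  have hj2 : 2 ≤ j := by omega
  have hQodd : Odd (p ^ b) := by rw [← hb]; exact hodd0
  have hkl : ∃ s t : GG, s ∈ M ∧ t ∈ M ∧ s ≠ 1 ∧ t ≠ 1 ∧ s ≠ t ∧ s * s = 1 ∧ t * t = 1 ∧
      s * t = t * s := by
    apply klein_of_equiv M e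
    obtain ⟨s, t, hs1, ht1, hst, hs2, ht2, hc⟩ := exists_klein_PSL2 (K := K0) hodd0
    have hinj := Matrix.ProjectiveSpecialLinearGroup.toPGL_injective (n := Fin 2) (R := K0)
    refine ⟨Matrix.ProjectiveSpecialLinearGroup.toPGL s,
      Matrix.ProjectiveSpecialLinearGroup.toPGL t, ?_, ?_, ?_, ?_, ?_, ?_⟩
    · intro h; exact hs1 (hinj (by rw [h, map_one]))
    · intro h; exact ht1 (hinj (by rw [h, map_one]))
    · intro h; exact hst (hinj h)
    · rw [← map_mul, hs2, map_one]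
    · rw [← map_mul, ht2, map_one]
    · rw [← map_mul, hc, map_mul]
  have htr : ∀ X : SL(2, F), mkP X ∈ M → X.1.trace ^ (p ^ (b * 2)) = X.1.trace := by
    intro X hX
    rw [pow_mul]
    apply trace_pow_sq_card h2 p b hQodd X
    apply trace_of_ordCond h2 p b hQodd (X * X)
    have hXX : mkP (X * X) ∈ M := by rw [map_mul]; exact M.mul_mem hX hX
    obtain ⟨z, hz⟩ := sq_mem_range_toPGL (e ⟨mkP X, hX⟩)
    have h1 := ordCond_PSL2 p hodd0 z
    rw [hb] at h1
    have h3 : OrdCond (p ^ b) p (e ⟨mkP (X * X), hXX⟩) := by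
      have : (⟨mkP (X * X), hXX⟩ : M) = ⟨mkP X, hX⟩ * ⟨mkP X, hX⟩ := by
        apply Subtype.ext
        simp
      rw [this, map_mul, ← hz]
      exact OrdCond.map _ h1
    have h4 : OrdCond (p ^ b) p (⟨mkP (X * X), hXX⟩ : M) :=
      OrdCond.of_map e.toMonoidHom e.injective h3
    exact OrdCond.map M.subtype h4
  obtain ⟨K', _, _, hK'c, -, hcard'⟩ := reduce_PSL2 p hodd hf (c := b * 2)
    (by omega) (by rw [hfbm, hj]; exact ⟨j, by ring⟩)
    (by rw [hfbm, hj]; nlinarith) M hM hkl htr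
  rw [hMc, pow_mul] at hcard'
  have hq0 : 3 ≤ p ^ b := by
    have hp3 : 3 ≤ p := by
      have := hp.out.two_le
      omega
    calc 3 ≤ p := hp3
      _ = p ^ 1 := (pow_one p).symm
      _ ≤ p ^ b := Nat.pow_le_pow_right hp.out.pos hb1
  exact sq_ord_contra hq0 hcard'

end Cfsg.Agent.Helper12.MaxSub
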