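import Mathlib
import Cfsg.Agent.Lib.Helper12.MaxSubO

set_option autoImplicit false
set_option linter.unusedVariables false
set_option linter.unusedSectionVars false
set_option linter.style.haveILetI false

/-! Abstract lemmas on maximal subgroups of a finite group `G` with a simple nonabelian normal
subgroup `L` of index two. -/

namespace Cfsg.Agent.Helper12.PGLMax

open Cfsg.Agent.Helper12.MaxSub

variable {G : Type*} [Group G] (L : Subgroup G)

/-- a normal subgroup meets the simple normal subgroup trivially or contains it -/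
theorem inf_eq_bot_or_le [hLn : L.Normal] [IsSimpleGroup L] (N : Subgroup G) [hN : N.Normal] :
    N ⊓ L = ⊥ ∨ L ≤ N := by
  haveI : (N.subgroupOf L).Normal := inferInstance
  rcases (inferInstance : (N.subgroupOf L).Normal).eq_bot_or_eq_top with h | h
  · left
    rw [Subgroup.subgroupOf_eq_bot, disjoint_iff] at h
    exact h
  · right
    rwa [Subgroup.subgroupOf_eq_top] at h

theorem ne_top_of_index_two (hidx : L.index = 2) : L ≠ ⊤ := by
  intro h
  rw [h, Subgroup.index_top] at hidx
  omega

/-- a commutative normal subgroup has order at most two -/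
theorem card_le_two_of_normal_comm [Finite G] [hLn : L.Normal] [IsSimpleGroup L]
    (hidx : L.index = 2) (hLnc : ∃ a ∈ L, ∃ b ∈ L, a * b ≠ b * a)
    (N : Subgroup G) [hN : N.Normal] (hc : ∀ a ∈ N, ∀ b ∈ N, a * b = b * a) :
    Nat.card N ≤ 2 := by
  rcases inf_eq_bot_or_le L N with h | h
  · have h1 : L.relIndex N ∣ L.index := Subgroup.relIndex_dvd_index_of_normal L N
    have h2 : L.relIndex N = Nat.card N := by
      unfold Subgroup.relIndex
      have : L.subgroupOf N = ⊥ := by
        rw [Subgroup.subgroupOf_eq_bot, disjoint_iff, inf_comm]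
        exact h
      rw [this, Subgroup.index_bot]
    rw [h2, hidx] at h1
    exact Nat.le_of_dvd (by norm_num) h1
  · exfalso
    obtain ⟨a, ha, b, hb, hab⟩ := hLnc
    exact hab (hc a (h ha) b (h hb))

/-- the normalizer of a subgroup normalized by a coatom -/
theorem normalizer_eq_or_normal {M R : Subgroup G} (hM : IsCoatom M)
    (hn : M ≤ Subgroup.normalizer (R : Set G)) :
    Subgroup.normalizer (R : Set G) = M ∨ R.Normal := by
  rcases eq_or_ne (Subgroup.normalizer (R : Set G)) ⊤ with h | h
  · right
    exact Subgroup.normalizer_eq_top_iff.1 h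
  · left
    by_contra hne
    exact h (hM.2 _ (lt_of_le_of_ne hn (Ne.symm hne)))

theorem centralizer_le_or_normal {M R : Subgroup G} (hM : IsCoatom M)
    (hn : M ≤ Subgroup.normalizer (R : Set G)) :
    Subgroup.centralizer (R : Set G) ≤ M ∨ R.Normal := by
  rcases normalizer_eq_or_normal hM hn with h | h
  · left
    rw [← h]
    exact Subgroup.centralizer_le_normalizer _
  · right; exact h

/-- a coatom not containing `L` is not contained in `L` -/
theorem exists_notMem_of_coatom (hidx : L.index = 2) {M : Subgroup G} (hM : IsCoatom M)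
    (hML : ¬ L ≤ M) : ∃ x ∈ M, x ∉ L := by
  by_contra hcon
  push Not at hcon
  have hle : M ≤ L := hcon
  rcases eq_or_lt_of_le hle with h | h
  · exact hML h.ge
  · exact ne_top_of_index_two L hidx (hM.2 _ h)

/-- elements of odd order lie in a subgroup of index two -/
theorem mem_of_pow_odd (hidx : L.index = 2) (x : G) (n : ℕ) (hn : Odd n) (hx : x ^ n = 1) :
    x ∈ L := by
  obtain ⟨k, rfl⟩ := hn
  have h1 : x * x ∈ L := Subgroup.mul_self_mem_of_index_two hidx x
  have h2 : x = ((x * x) ^ (k + 1)) * (x ^ (2 * k + 1))⁻¹ := by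
    rw [← pow_two, ← pow_mul]
    have : x ^ (2 * (k + 1)) = x ^ (2 * k + 1) * x := by
      rw [← pow_succ]; congr 1
    rw [this]
    group
  rw [h2, hx, inv_one, mul_one]
  exact L.pow_mem h1 _

/-- the relative index of `L` in a coatom not containing it is two -/
theorem relIndex_coatom [hLn : L.Normal] (hidx : L.index = 2) {M : Subgroup G}
    (hM : IsCoatom M) (hML : ¬ L ≤ M) : L.relIndex M = 2 := by
  have h1 : L.relIndex M ∣ L.index := Subgroup.relIndex_dvd_index_of_normal L M
  rw [hidx] at h1
  rcases (Nat.dvd_prime Nat.prime_two).1 h1 with h | h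
  · exfalso
    rw [Subgroup.relIndex_eq_one] at h
    obtain ⟨x, hx, hxL⟩ := exists_notMem_of_coatom L hidx hM hML
    exact hxL (h hx)
  · exact h

/-- **no commutative maximal subgroup** outside `L` -/
theorem no_comm_coatom' [Finite G] [hLn : L.Normal] [IsSimpleGroup L] (hidx : L.index = 2)
    (h4 : 4 ∣ Nat.card G) (hLnc : ∃ a ∈ L, ∃ b ∈ L, a * b ≠ b * a)
    {M : Subgroup G} (hM : IsCoatom M) (hML : ¬ L ≤ M)
    (hcomm : ∀ a ∈ M, ∀ b ∈ M, a * b = b * a) : False := by
  obtain ⟨a, ha, b, hb, hab⟩ := hLnc
  -- the `r`-parts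
  have hparts : ∀ r : ℕ, r.Prime → r ∣ Nat.card M →
      (rPart M hcomm r).Normal ∧ r = 2 ∧ Nat.card (rPart M hcomm r) = 2 := by
    intro r hr hrd
    haveI : Fact r.Prime := ⟨hr⟩
    obtain ⟨x0, hx0⟩ := exists_prime_orderOf_dvd_card' r hrd
    set R := rPart M hcomm r with hRdef
    have hRM : R ≤ M := fun x hx => hx.1
    have hx0R : (x0 : G) ∈ R := by
      refine ⟨x0.2, 1, ?_⟩
      rw [pow_one]
      have h1 : x0 ^ r = 1 := by rw [← hx0]; exact pow_orderOf_eq_one _
      simpa using congrArg Subtype.val h1
    have hRne : R ≠ ⊥ := by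
      intro h
      rw [h, Subgroup.mem_bot] at hx0R
      have : x0 = 1 := Subtype.ext hx0R
      rw [this, orderOf_one] at hx0
      exact hr.one_lt.ne hx0
    have hRp : IsPGroup r R := by
      rintro ⟨x, hx⟩
      obtain ⟨k, hk⟩ := hx.2
      exact ⟨k, Subtype.ext hk⟩
    have hn : M ≤ Subgroup.normalizer (R : Set G) := by
      intro m hm
      rw [Subgroup.mem_normalizer_iff]
      intro h
      constructor
      · intro hh
        have : m * h * m⁻¹ = h := by
          rw [hcomm m hm h hh.1, mul_assoc, mul_inv_cancel, mul_one]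
        rw [this]; exact hh
      · intro hh
        have hhM : h ∈ M := by
          have : h = m⁻¹ * (m * h * m⁻¹) * m := by group
          rw [this]
          exact M.mul_mem (M.mul_mem (M.inv_mem hm) hh.1) hm
        have : m * h * m⁻¹ = h := by
          rw [hcomm m hm h hhM, mul_assoc, mul_inv_cancel, mul_one]
        rw [this] at hh; exact hh
    have hRc : ∀ x ∈ R, ∀ y ∈ R, x * y = y * x := fun x hx y hy => hcomm x (hRM hx) y (hRM hy)
    have hnormal_case : R.Normal → R.Normal ∧ r = 2 ∧ Nat.card R = 2 := by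
      intro hRn
      haveI := hRn
      have hle := card_le_two_of_normal_comm L hidx ⟨a, ha, b, hb, hab⟩ R hRc
      obtain ⟨k, hk⟩ := IsPGroup.iff_card.1 hRp
      have hk0 : k ≠ 0 := by
        rintro rfl
        rw [pow_zero] at hk
        exact hRne (Subgroup.card_eq_one.1 hk)
      have h2 : r ≤ Nat.card R := by
        rw [hk]
        calc r = r ^ 1 := (pow_one r).symm
          _ ≤ r ^ k := Nat.pow_le_pow_right hr.pos (by omega)
      have hr2 := hr.two_le
      have hr' : r = 2 := by omega
      exact ⟨hRn, hr', by omega⟩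
    rcases normalizer_eq_or_normal hM hn with hN | hRn
    swap
    · exact hnormal_case hRn
    exfalso
    -- `R` is a Sylow subgroup of `G`
    obtain ⟨P, hP⟩ := hRp.exists_le_sylow
    have hEq : R = (P : Subgroup G) := by
      by_contra hne
      have hlt : R < (P : Subgroup G) := lt_of_le_of_ne hP hne
      haveI : Group.IsNilpotent (P : Subgroup G) := P.2.isNilpotent
      have hncond := Group.normalizerCondition_of_isNilpotent (G := (P : Subgroup G))
      have h3 : R.subgroupOf P < ⊤ := by
        rw [lt_top_iff_ne_top]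
        intro h
        rw [Subgroup.subgroupOf_eq_top] at h
        exact hne (le_antisymm hP h)
      have h4' := hncond _ h3
      obtain ⟨x, hx1, hx2⟩ := SetLike.exists_of_lt h4'
      rw [← Subgroup.subgroupOf_normalizer_eq hP, Subgroup.mem_subgroupOf] at hx1
      have hxM : (x : G) ∈ M := hN ▸ hx1
      apply hx2
      rw [Subgroup.mem_subgroupOf]
      refine ⟨hxM, ?_⟩
      obtain ⟨k, hk⟩ := P.2 x
      exact ⟨k, by simpa using congrArg Subtype.val hk⟩
    have hPM : (P : Subgroup G) ≤ M := hEq ▸ hRM
    have hPne : (P : Subgroup G) ≠ ⊥ := hEq ▸ hRne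
    have hNP : Subgroup.normalizer ((P : Subgroup G) : Set G) = M := by rw [← hEq]; exact hN
    have hcen : Subgroup.normalizer ((P : Subgroup G) : Set G) ≤
        Subgroup.centralizer ((P : Subgroup G) : Set G) := by
      rw [hNP]
      intro m hm
      rw [Subgroup.mem_centralizer_iff]
      intro y hy
      exact hcomm y (hPM hy) m hm
    have hc := MonoidHom.ker_transferSylow_isComplement' P hcen
    set K := (MonoidHom.transferSylow P hcen).ker with hKdef
    haveI : K.Normal := (MonoidHom.transferSylow P hcen).normal_ker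
    have hcard : Nat.card K * Nat.card (P : Subgroup G) = Nat.card G := hc.card_mul
    have hKidx : K.index = Nat.card (P : Subgroup G) := by
      have h1 := Subgroup.card_mul_index K
      rw [← hcard] at h1
      exact Nat.eq_of_mul_eq_mul_left Nat.card_pos h1
    rcases inf_eq_bot_or_le L K with hKL | hKL
    · -- `L` is an `r`-group
      have h1 : K.relIndex L ∣ K.index := Subgroup.relIndex_dvd_index_of_normal K L
      have h2 : K.relIndex L = Nat.card L := by
        unfold Subgroup.relIndex
        have : K.subgroupOf L = ⊥ := by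
          rw [Subgroup.subgroupOf_eq_bot, disjoint_iff]
          exact hKL
        rw [this, Subgroup.index_bot]
      rw [h2, hKidx] at h1
      obtain ⟨k, hk⟩ := IsPGroup.iff_card.1 P.2
      rw [hk] at h1
      obtain ⟨j, -, hj⟩ := (Nat.dvd_prime_pow hr).1 h1
      have hLp : IsPGroup r L := IsPGroup.of_card hj
      have := comm_of_simple_pGroup hLp ⟨a, ha⟩ ⟨b, hb⟩
      exact hab (congrArg Subtype.val this)
    · -- `P` has order two
      have h1 : K.index ∣ L.index := Subgroup.index_dvd_of_le hKL
      rw [hKidx, hidx] at h1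
      obtain ⟨k, hk⟩ := IsPGroup.iff_card.1 P.2
      have hk0 : k ≠ 0 := by
        rintro rfl
        rw [pow_zero] at hk
        exact hPne (Subgroup.card_eq_one.1 hk)
      have h2 : r ≤ Nat.card (P : Subgroup G) := by
        rw [hk]
        calc r = r ^ 1 := (pow_one r).symm
          _ ≤ r ^ k := Nat.pow_le_pow_right hr.pos (by omega)
      have h3 : Nat.card (P : Subgroup G) ≤ 2 := Nat.le_of_dvd (by norm_num) h1
      have hr2 := hr.two_le
      have hr' : r = 2 := by omega
      subst hr'
      have hP2 : Nat.card (P : Subgroup G) = 2 := by omega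
      have hdvd : 2 ^ 2 ∣ Nat.card (P : Subgroup G) :=
        P.pow_dvd_card_of_pow_dvd_card (by norm_num; exact h4)
      rw [hP2] at hdvd
      norm_num at hdvd
  -- `M` is not trivial
  have hMbot : M ≠ ⊥ := by
    rintro rfl
    have hL1 : (⊥ : Subgroup G) < L := by
      rw [bot_lt_iff_ne_bot]
      rintro h
      rw [h, Subgroup.mem_bot] at ha hb
      rw [ha, hb] at hab
      exact hab rfl
    exact ne_top_of_index_two L hidx (hM.2 _ hL1)
  have hcard : Nat.card M ≠ 1 := fun h => hMbot (Subgroup.card_eq_one.1 h)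
  obtain ⟨r, hr, hrd⟩ := Nat.exists_prime_and_dvd hcard
  obtain ⟨hRn, hr2, hRc⟩ := hparts r hr hrd
  subst hr2
  -- `M` is a 2-group, equal to its 2-part
  have hM2 : ∀ x ∈ M, x ∈ rPart M hcomm 2 := by
    intro x hx
    refine ⟨hx, ?_⟩
    have hpow : ∃ k, Nat.card M = 2 ^ k := by
      have hpf : ∀ s : ℕ, s.Prime → s ∣ Nat.card M → s = 2 := fun s hs hsd => (hparts s hs hsd).2.1
      exact ⟨_, Nat.eq_prime_pow_of_unique_prime_dvd Nat.card_pos.ne'
        (fun {s} hs hsd => hpf s hs hsd)⟩
    obtain ⟨k, hk⟩ := hpow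
    refine ⟨k, ?_⟩
    have h1 : (⟨x, hx⟩ : M) ^ Nat.card M = 1 := pow_card_eq_one'
    rw [hk] at h1
    simpa using congrArg Subtype.val h1
  have hMn : ∀ t ∈ M, ∀ g : G, g * t * g⁻¹ ∈ M := by
    intro t ht g
    exact (hRn.conj_mem t (hM2 t ht) g).1
  have hMc : Nat.card M = 2 := by
    apply le_antisymm
    · rw [← hRc]
      exact Subgroup.card_le_of_le hM2
    · have := Nat.le_of_dvd Nat.card_pos hrd
      exact this
  obtain ⟨t, ht1, htu⟩ := (Nat.card_eq_two_iff' (1 : M)).1 hMc
  -- the nonidentity element of `M` is central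
  have hcent : ∀ g : G, g * (t : G) * g⁻¹ = t := by
    intro g
    have hconj : g * (t : G) * g⁻¹ ∈ M := hMn t t.2 g
    have hconj1 : (⟨g * (t : G) * g⁻¹, hconj⟩ : M) ≠ 1 := by
      intro h
      apply ht1
      have h' : g * (t : G) * g⁻¹ = 1 := congrArg Subtype.val h
      have : (t : G) = g⁻¹ * (g * t * g⁻¹) * g := by group
      apply Subtype.ext
      rw [this, h']; simp
    have := htu _ hconj1
    exact congrArg Subtype.val this
  have hMle : ∀ c : G, M ≤ Subgroup.centralizer {c} := by
    intro c x hx
    rw [Subgroup.mem_centralizer_iff]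
    intro y hy
    rw [Set.mem_singleton_iff] at hy
    subst hy
    by_cases hx1 : (⟨x, hx⟩ : M) = 1
    · have : x = 1 := congrArg Subtype.val hx1
      rw [this, mul_one, one_mul]
    · have hxt := htu _ hx1
      have hxt' : x = (t : G) := congrArg Subtype.val hxt
      rw [hxt']
      have := hcent y
      calc y * (t : G) = (y * t * y⁻¹) * y := by group
        _ = t * y := by rw [this]
  have hmemM : ∀ c d : G, c * d ≠ d * c → c ∈ M := by
    intro c d hcd
    have hC : Subgroup.centralizer {c} = M := by
      by_contra hne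
      have htop := hM.2 _ (lt_of_le_of_ne (hMle c) (Ne.symm hne))
      have hd : d ∈ Subgroup.centralizer {c} := by rw [htop]; trivial
      rw [Subgroup.mem_centralizer_iff] at hd
      exact hcd (hd c rfl)
    rw [← hC]
    rw [Subgroup.mem_centralizer_iff]
    intro y hy
    rw [Set.mem_singleton_iff] at hy
    rw [hy]
  have haM := hmemM a b hab
  have hbM := hmemM b a (Ne.symm hab)
  exact hab (hcomm a haM b hbM)

end Cfsg.Agent.Helper12.PGLMax
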