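import Mathlib
import Cfsg.Agent.Lib.Helper12.PGLMaxA
import Cfsg.Agent.Lib.Helper12.MaxSubT

set_option autoImplicit false
set_option linter.unusedVariables false
set_option linter.unusedSectionVars false
set_option linter.style.haveILetI false

/-! The image of `SL₂(F)` in `PGL₂(F)`. -/

namespace Cfsg.Agent.Helper12.PGLMax

open Matrix
open scoped MatrixGroups
open Cfsg.Agent.Helper12.MaxSub

variable {F : Type*} [Field F]

/-- the image of `SL₂(F)` in `PGL₂(F)` -/
abbrev Lsub (F : Type*) [Field F] : Subgroup (Matrix.ProjGenLinGroup (Fin 2) F) :=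
  (Matrix.ProjGenLinGroup.mk.comp Matrix.SpecialLinearGroup.toGL).range

theorem Lsub_eq_range_toPGL :
    Lsub F = (Matrix.ProjectiveSpecialLinearGroup.toPGL (n := Fin 2) (R := F)).range := by
  ext x
  constructor
  · rintro ⟨X, rfl⟩
    exact ⟨mkP X, rfl⟩
  · rintro ⟨y, rfl⟩
    obtain ⟨X, rfl⟩ := mkP_surjective y
    exact ⟨X, rfl⟩

/-- `L ≅ PSL₂(F)` -/
noncomputable def equivL : Matrix.ProjectiveSpecialLinearGroup (Fin 2) F ≃* Lsub F :=
  (MonoidHom.ofInjective (Matrix.ProjectiveSpecialLinearGroup.toPGL_injective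
    (n := Fin 2) (R := F))).trans (MulEquiv.subgroupCongr Lsub_eq_range_toPGL.symm)

theorem equivL_coe (y : Matrix.ProjectiveSpecialLinearGroup (Fin 2) F) :
    ((equivL y : Lsub F) : Matrix.ProjGenLinGroup (Fin 2) F) =
      Matrix.ProjectiveSpecialLinearGroup.toPGL y := rfl

section finite

variable [Fintype F]

instance finitePGL : Finite (Matrix.ProjGenLinGroup (Fin 2) F) := by
  unfold Matrix.ProjGenLinGroup; infer_instance

theorem two_mul_card_Lsub (hodd : Odd (Fintype.card F)) :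
    2 * Nat.card (Lsub F) = Fintype.card F * (Fintype.card F - 1) * (Fintype.card F + 1) := by
  rw [← Nat.card_congr (equivL (F := F)).toEquiv]
  exact two_mul_card_PSL2 hodd

theorem card_PGL2_eq : Nat.card (Matrix.ProjGenLinGroup (Fin 2) F) =
    Fintype.card F * (Fintype.card F - 1) * (Fintype.card F + 1) :=
  Cfsg.Agent.Helper12.PSL2Max.card_PGL2' F rfl

theorem index_Lsub (hodd : Odd (Fintype.card F)) : (Lsub F).index = 2 := by
  have h1 := Subgroup.card_mul_index (Lsub F)
  rw [card_PGL2_eq, ← two_mul_card_Lsub hodd, mul_comm 2] at h1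
  exact Nat.eq_of_mul_eq_mul_left Nat.card_pos h1

theorem normal_Lsub (hodd : Odd (Fintype.card F)) : (Lsub F).Normal :=
  Subgroup.normal_of_index_eq_two (index_Lsub hodd)

theorem simple_Lsub (h4 : 4 ≤ Fintype.card F) : IsSimpleGroup (Lsub F) := by
  haveI : IsSimpleGroup (Matrix.ProjectiveSpecialLinearGroup (Fin 2) F) :=
    Matrix.ProjectiveSpecialLinearGroup.rank_two_simple
      (by rw [Nat.card_eq_fintype_card]; exact h4)
  exact (equivL (F := F)).symm.isSimpleGroup

theorem noncomm_Lsub (h4 : 4 ≤ Fintype.card F) :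
    ∃ a ∈ Lsub F, ∃ b ∈ Lsub F, a * b ≠ b * a := by
  have := Cfsg.Agent.Helper12.PSL2Max.PSL2_noncomm (K := F) h4
  push Not at this
  obtain ⟨a, b, hab⟩ := this
  refine ⟨equivL a, (equivL a).2, equivL b, (equivL b).2, ?_⟩
  intro h
  apply hab
  apply (equivL (F := F)).injective
  apply Subtype.ext
  rw [map_mul, map_mul]
  exact h

theorem four_dvd_card (hodd : Odd (Fintype.card F)) :
    4 ∣ Nat.card (Matrix.ProjGenLinGroup (Fin 2) F) := by
  rw [card_PGL2_eq]
  obtain ⟨k, hk⟩ := hodd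
  rw [hk]
  have h1 : 2 * k + 1 - 1 = 2 * k := by omega
  rw [h1]
  exact ⟨(2 * k + 1) * k * (k + 1), by ring⟩

end finite

/-- membership in `L` via the determinant -/
theorem mk_mem_Lsub_iff (A : GL (Fin 2) F) :
    Matrix.ProjGenLinGroup.mk A ∈ Lsub F ↔ IsSquare (A : Matrix (Fin 2) (Fin 2) F).det := by
  constructor
  · rintro ⟨X, hX⟩
    change Matrix.ProjGenLinGroup.mk (Matrix.SpecialLinearGroup.toGL X) = _ at hX
    rw [Matrix.ProjGenLinGroup.mk_eq_mk_iff] at hX
    obtain ⟨u, hu⟩ := hX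
    refine ⟨(u : F), ?_⟩
    rw [← hu, Matrix.GeneralLinearGroup.coe_mul, Matrix.det_mul]
    have h1 : ((Matrix.SpecialLinearGroup.toGL X : GL (Fin 2) F) :
        Matrix (Fin 2) (Fin 2) F).det = 1 := X.2
    rw [h1, one_mul, Matrix.GeneralLinearGroup.coe_scalar, Matrix.scalar_apply,
      Matrix.det_diagonal]
    simp [sq]
  · rintro ⟨s, hs⟩
    have hd : (A : Matrix (Fin 2) (Fin 2) F).det ≠ 0 := Matrix.GeneralLinearGroup.det_ne_zero A
    have hs0 : s ≠ 0 := by
      rintro rfl
      rw [mul_zero] at hs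
      exact hd hs
    have hdet : (s⁻¹ • (A : Matrix (Fin 2) (Fin 2) F)).det = 1 := by
      rw [Matrix.det_smul, Fintype.card_fin, hs]
      field_simp
    refine ⟨⟨_, hdet⟩, ?_⟩
    change Matrix.ProjGenLinGroup.mk (Matrix.SpecialLinearGroup.toGL _) = _
    rw [Matrix.ProjGenLinGroup.mk_eq_mk_iff]
    refine ⟨Units.mk0 s hs0, ?_⟩
    apply Units.ext
    rw [Units.val_mul, Matrix.GeneralLinearGroup.coe_scalar]
    change (s⁻¹ • (A : Matrix (Fin 2) (Fin 2) F)) * _ = _
    ext i j
    rw [Matrix.mul_apply]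
    simp only [Matrix.smul_apply, Matrix.scalar_apply, Matrix.diagonal_apply, smul_eq_mul,
      Units.val_mk0]
    rw [Finset.sum_eq_single j]
    · simp only [if_true]
      field_simp
    · intro b _ hb
      simp [hb]
    · intro h
      exact absurd (Finset.mem_univ j) h

end Cfsg.Agent.Helper12.PGLMax
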