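import Mathlib
import Cfsg.Agent.Lib.Helper12.PGLMaxB

set_option autoImplicit false
set_option linter.unusedVariables false
set_option linter.unusedSectionVars false
set_option linter.style.haveILetI false

/-! Centralizers in `PGL₂(F)`. -/

namespace Cfsg.Agent.Helper12.PGLMax

open Matrix
open scoped MatrixGroups
open Cfsg.Agent.Helper12 (IsScalar2 isScalar2_iff commute_iff_exists_smul sq_eq2
  det_smul_one_add_smul)

section general

/-- the order of the full preimage of a subgroup under a surjective homomorphism -/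
theorem card_comap_of_surjective {G H : Type*} [Group G] [Group H] [Finite G] (f : G →* H)
    (hf : Function.Surjective f) (K : Subgroup H) :
    Nat.card (K.comap f) = Nat.card K * Nat.card f.ker := by
  let φ : K.comap f →* K := f.subgroupComap K
  have hφ : Function.Surjective φ := f.subgroupComap_surjective_of_surjective K hf
  have h1 := Subgroup.card_eq_card_quotient_mul_card_subgroup φ.ker
  rw [Nat.card_congr (QuotientGroup.quotientKerEquivOfSurjective φ hφ).toEquiv] at h1
  have hle : f.ker ≤ K.comap f := by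
    intro x hx
    rw [Subgroup.mem_comap, MonoidHom.mem_ker.1 hx]
    exact K.one_mem
  have hker : φ.ker = f.ker.subgroupOf (K.comap f) := by
    ext x
    rw [MonoidHom.mem_ker, Subgroup.mem_subgroupOf, MonoidHom.mem_ker]
    constructor
    · intro h
      exact congrArg Subtype.val h
    · intro h
      exact Subtype.ext h
  rw [h1, hker, Nat.card_congr (Subgroup.subgroupOfEquivOfLe hle).toEquiv]

end general

variable {F : Type*} [Field F]

section count

variable [Fintype F]

theorem card_ne_zero_sub : Nat.card {u : F // u ≠ 0} = Fintype.card F - 1 := by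
  classical
  rw [Nat.card_eq_fintype_card, Fintype.card_subtype_compl, Fintype.card_subtype_eq]

/-- the number of pairs at which a binary quadratic form with leading coefficient one does not
vanish -/
theorem card_norm_ne_zero (t d : F) :
    Nat.card {p : F × F // p.1 ^ 2 + p.1 * p.2 * t + p.2 ^ 2 * d ≠ 0} =
        (Fintype.card F - 1) * (Fintype.card F - 1) ∨
      Nat.card {p : F × F // p.1 ^ 2 + p.1 * p.2 * t + p.2 ^ 2 * d ≠ 0} =
        (Fintype.card F - 1) * Fintype.card F ∨
      Nat.card {p : F × F // p.1 ^ 2 + p.1 * p.2 * t + p.2 ^ 2 * d ≠ 0} =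
        (Fintype.card F - 1) * (Fintype.card F + 1) := by
  classical
  by_cases hroot : ∃ l : F, l ^ 2 - t * l + d = 0
  · obtain ⟨l, hl⟩ := hroot
    set l' := t - l with hl'
    have hfac : ∀ a b : F, a ^ 2 + a * b * t + b ^ 2 * d = (a + l * b) * (a + l' * b) := by
      intro a b
      rw [hl']
      linear_combination b ^ 2 * hl
    by_cases hne : l = l'
    · -- a double root
      right; left
      let e : F × F ≃ F × F :=
        { toFun := fun p => (p.1 + l * p.2, p.2)
          invFun := fun p => (p.1 - l * p.2, p.2)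
          left_inv := fun p => by simp
          right_inv := fun p => by simp }
      have h1 : ∀ p : F × F, p.1 ^ 2 + p.1 * p.2 * t + p.2 ^ 2 * d ≠ 0 ↔ (e p).1 ≠ 0 := by
        intro p
        rw [hfac, ← hne]
        change (p.1 + l * p.2) * (p.1 + l * p.2) ≠ 0 ↔ p.1 + l * p.2 ≠ 0
        rw [mul_self_ne_zero]
      rw [Nat.card_congr (Equiv.subtypeEquiv (q := fun x : F × F => x.1 ≠ 0) e h1)]
      have h2 : {p : F × F // p.1 ≠ 0} ≃ {u : F // u ≠ 0} × F :=
        { toFun := fun p => (⟨p.1.1, p.2⟩, p.1.2)
          invFun := fun p => ⟨(p.1.1, p.2), p.1.2⟩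
          left_inv := fun p => by simp
          right_inv := fun p => by simp }
      rw [Nat.card_congr h2, Nat.card_prod, card_ne_zero_sub, Nat.card_eq_fintype_card]
    · -- two roots
      left
      have hd : l - l' ≠ 0 := sub_ne_zero.2 hne
      let e : F × F ≃ F × F :=
        { toFun := fun p => (p.1 + l * p.2, p.1 + l' * p.2)
          invFun := fun p => (p.1 - l * ((p.1 - p.2) / (l - l')), (p.1 - p.2) / (l - l'))
          left_inv := fun p => by
            apply Prod.ext
            · simp only
              field_simp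
              ring
            · simp only
              field_simp
              ring
          right_inv := fun p => by
            apply Prod.ext
            · simp only
              ring
            · simp only
              field_simp
              ring }
      have h1 : ∀ p : F × F, p.1 ^ 2 + p.1 * p.2 * t + p.2 ^ 2 * d ≠ 0 ↔
          (e p).1 ≠ 0 ∧ (e p).2 ≠ 0 := by
        intro p
        rw [hfac]
        change (p.1 + l * p.2) * (p.1 + l' * p.2) ≠ 0 ↔ p.1 + l * p.2 ≠ 0 ∧ p.1 + l' * p.2 ≠ 0
        rw [mul_ne_zero_iff]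
      rw [Nat.card_congr (Equiv.subtypeEquiv (q := fun x : F × F => x.1 ≠ 0 ∧ x.2 ≠ 0) e h1)]
      have h2 : {p : F × F // p.1 ≠ 0 ∧ p.2 ≠ 0} ≃ {u : F // u ≠ 0} × {u : F // u ≠ 0} :=
        { toFun := fun p => (⟨p.1.1, p.2.1⟩, ⟨p.1.2, p.2.2⟩)
          invFun := fun p => ⟨(p.1.1, p.2.1), p.1.2, p.2.2⟩
          left_inv := fun p => by simp
          right_inv := fun p => by simp }
      rw [Nat.card_congr h2, Nat.card_prod, card_ne_zero_sub]
  · -- no root
    right; right
    push Not at hroot
    have h1 : ∀ p : F × F, p.1 ^ 2 + p.1 * p.2 * t + p.2 ^ 2 * d ≠ 0 ↔ p ≠ 0 := by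
      intro p
      constructor
      · intro h hp
        apply h
        rw [hp]
        simp
      · intro hp h
        by_cases hb : p.2 = 0
        · rw [hb] at h
          have ha : p.1 = 0 := by
            have : p.1 ^ 2 = 0 := by linear_combination h
            exact pow_eq_zero_iff (by norm_num) |>.1 this
          exact hp (Prod.ext ha hb)
        · apply hroot (-p.1 / p.2)
          field_simp
          linear_combination h
    rw [Nat.card_congr (Equiv.subtypeEquiv (q := fun x : F × F => x ≠ 0) (Equiv.refl _) h1),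
      Nat.card_eq_fintype_card,
      Fintype.card_subtype_compl, Fintype.card_subtype_eq, Fintype.card_prod]
    have hq : 1 ≤ Fintype.card F := Fintype.card_pos
    obtain ⟨n, hn⟩ : ∃ n, Fintype.card F = n + 1 := ⟨Fintype.card F - 1, by omega⟩
    rw [hn]
    simp only [Nat.add_sub_cancel]
    ring_nf
    omega

end count

section centralizer

local notation "mkG" => Matrix.ProjGenLinGroup.mk (n := Fin 2) (R := F)

/-- a scalar matrix is trivial in `PGL₂` -/
theorem mk_eq_one_of_scalar (A : GL (Fin 2) F)
    (h : IsScalar2 (A : Matrix (Fin 2) (Fin 2) F)) : mkG A = 1 := by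
  rw [Matrix.ProjGenLinGroup.mk_eq_one, Matrix.GeneralLinearGroup.center_eq_range_scalar]
  have hd := Matrix.GeneralLinearGroup.det_ne_zero A
  have h0 : (A : Matrix (Fin 2) (Fin 2) F) 0 0 ≠ 0 := by
    intro h0
    apply hd
    rw [Matrix.det_fin_two, h.1, h0]
    ring
  refine ⟨Units.mk0 _ h0, ?_⟩
  apply Units.ext
  rw [Matrix.GeneralLinearGroup.coe_scalar]
  ext i j
  obtain ⟨h1, h2', h3⟩ := h
  fin_cases i <;> fin_cases j <;> simp [h1, h2', h3]

theorem mk_eq_mk_of_smul (A B : GL (Fin 2) F) (u : F)
    (h : (B : Matrix (Fin 2) (Fin 2) F) = u • (A : Matrix (Fin 2) (Fin 2) F)) :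
    mkG B = mkG A := by
  have hu : u ≠ 0 := by
    rintro rfl
    have hd := Matrix.GeneralLinearGroup.det_ne_zero B
    rw [h, zero_smul, Matrix.det_zero] at hd
    exact hd rfl
  symm
  rw [Matrix.ProjGenLinGroup.mk_eq_mk_iff]
  refine ⟨Units.mk0 u hu, ?_⟩
  apply Units.ext
  rw [Units.val_mul, Matrix.GeneralLinearGroup.coe_scalar, h]
  ext i j
  rw [Matrix.mul_apply]
  simp only [Matrix.smul_apply, Matrix.scalar_apply, Matrix.diagonal_apply, smul_eq_mul,
    Units.val_mk0]
  rw [Finset.sum_eq_single j]
  · simp only [if_true]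
    ring
  · intro b _ hb
    simp [hb]
  · intro h
    exact absurd (Finset.mem_univ j) h

theorem exists_smul_of_mk_eq_mk (A B : GL (Fin 2) F) (h : mkG A = mkG B) :
    ∃ u : F, u ≠ 0 ∧ (B : Matrix (Fin 2) (Fin 2) F) = u • (A : Matrix (Fin 2) (Fin 2) F) := by
  rw [Matrix.ProjGenLinGroup.mk_eq_mk_iff] at h
  obtain ⟨u, hu⟩ := h
  refine ⟨(u : F), u.ne_zero, ?_⟩
  rw [← hu, Units.val_mul, Matrix.GeneralLinearGroup.coe_scalar]
  ext i j
  rw [Matrix.mul_apply]
  simp only [Matrix.smul_apply, Matrix.scalar_apply, Matrix.diagonal_apply, smul_eq_mul]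
  rw [Finset.sum_eq_single j]
  · simp only [if_true]
    ring
  · intro b _ hb
    simp [hb]
  · intro h
    exact absurd (Finset.mem_univ j) h

/-- elements commuting in `PGL₂` with an element whose square is nontrivial -/
theorem mem_centralizer_mk_iff (h2 : (2 : F) ≠ 0) (A B : GL (Fin 2) F)
    (hA : mkG A * mkG A ≠ 1) :
    mkG B ∈ Subgroup.centralizer {mkG A} ↔
      (B : Matrix (Fin 2) (Fin 2) F) * (A : Matrix (Fin 2) (Fin 2) F) =
        (A : Matrix (Fin 2) (Fin 2) F) * (B : Matrix (Fin 2) (Fin 2) F) := by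
  rw [Subgroup.mem_centralizer_iff]
  constructor
  · intro h
    have h1 := h (mkG A) rfl
    rw [← map_mul, ← map_mul] at h1
    obtain ⟨u, hu0, hu⟩ := exists_smul_of_mk_eq_mk _ _ h1
    rw [Matrix.GeneralLinearGroup.coe_mul, Matrix.GeneralLinearGroup.coe_mul] at hu
    have hdA := Matrix.GeneralLinearGroup.det_ne_zero A
    have hdB := Matrix.GeneralLinearGroup.det_ne_zero B
    have hdet := congrArg Matrix.det hu
    rw [Matrix.det_smul, Matrix.det_mul, Matrix.det_mul, Fintype.card_fin] at hdet
    have hu2 : u ^ 2 = 1 := by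
      have h3 : (A : Matrix (Fin 2) (Fin 2) F).det * (B : Matrix (Fin 2) (Fin 2) F).det ≠ 0 :=
        mul_ne_zero hdA hdB
      have : (u ^ 2 - 1) * ((A : Matrix (Fin 2) (Fin 2) F).det *
          (B : Matrix (Fin 2) (Fin 2) F).det) = 0 := by linear_combination -hdet
      rcases mul_eq_zero.1 this with h4 | h4
      · linear_combination h4
      · exact absurd h4 h3
    have hu1 : u = 1 ∨ u = -1 := by
      have : (u - 1) * (u + 1) = 0 := by linear_combination hu2
      rcases mul_eq_zero.1 this with h4 | h4
      · left; linear_combination h4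
      · right; linear_combination h4
    rcases hu1 with rfl | rfl
    · rw [one_smul] at hu
      exact hu
    · exfalso
      apply hA
      rw [← map_mul]
      apply mk_eq_one_of_scalar
      have hconj : (B : Matrix (Fin 2) (Fin 2) F) * (A : Matrix (Fin 2) (Fin 2) F) *
          ((B⁻¹ : GL (Fin 2) F) : Matrix (Fin 2) (Fin 2) F) =
          -(A : Matrix (Fin 2) (Fin 2) F) := by
        rw [hu, neg_smul, one_smul, Matrix.neg_mul, Matrix.mul_assoc, ← Units.val_mul,
          mul_inv_cancel, Units.val_one, Matrix.mul_one]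
      have htr : (A : Matrix (Fin 2) (Fin 2) F).trace = 0 := by
        have h5 := Matrix.trace_units_conj B (A : Matrix (Fin 2) (Fin 2) F)
        rw [hconj, Matrix.trace_neg] at h5
        have : (2 : F) * (A : Matrix (Fin 2) (Fin 2) F).trace = 0 := by linear_combination -h5
        rcases mul_eq_zero.1 this with h6 | h6
        · exact absurd h6 h2
        · exact h6
      rw [Matrix.GeneralLinearGroup.coe_mul, sq_eq2, htr, zero_smul, zero_sub, ← neg_smul]
      exact Cfsg.Agent.Helper12.isScalar2_smul_one _
  · intro h x hx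
    rw [Set.mem_singleton_iff] at hx
    subst hx
    rw [← map_mul, ← map_mul]
    congr 1
    apply Units.ext
    rw [Matrix.GeneralLinearGroup.coe_mul, Matrix.GeneralLinearGroup.coe_mul]
    exact h.symm

variable [Fintype F]

theorem card_ker_mk : Nat.card (mkG).ker = Fintype.card F - 1 := by
  rw [Matrix.ProjGenLinGroup.ker_mk]
  exact Cfsg.Agent.Helper28.SubfieldPSL2.card_center_GL2

/-- the order of the centralizer of an element of `PGL₂(q)` whose square is nontrivial -/
theorem card_centralizer_mk (h2 : (2 : F) ≠ 0) (A : GL (Fin 2) F) (hA : mkG A * mkG A ≠ 1) :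
    Nat.card (Subgroup.centralizer {mkG A}) = Fintype.card F - 1 ∨
      Nat.card (Subgroup.centralizer {mkG A}) = Fintype.card F ∨
      Nat.card (Subgroup.centralizer {mkG A}) = Fintype.card F + 1 := by
  classical
  have hns : ¬ IsScalar2 (A : Matrix (Fin 2) (Fin 2) F) := by
    intro h
    apply hA
    rw [mk_eq_one_of_scalar A h, mul_one]
  set C := Subgroup.centralizer {mkG A} with hC
  have hsurj : Function.Surjective mkG := QuotientGroup.mk'_surjective _
  have hcard := card_comap_of_surjective mkG hsurj C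
  rw [card_ker_mk] at hcard
  set t := (A : Matrix (Fin 2) (Fin 2) F).trace with ht
  set d := (A : Matrix (Fin 2) (Fin 2) F).det with hd
  -- the parametrisation of the centralizer in `GL₂`
  let ψ : {p : F × F // p.1 ^ 2 + p.1 * p.2 * t + p.2 ^ 2 * d ≠ 0} → C.comap mkG := fun p =>
    ⟨Matrix.GeneralLinearGroup.mkOfDetNeZero
      (p.1.1 • (1 : Matrix (Fin 2) (Fin 2) F) + p.1.2 • (A : Matrix (Fin 2) (Fin 2) F))
      (by rw [det_smul_one_add_smul]; exact p.2), by
      rw [Subgroup.mem_comap, hC, mem_centralizer_mk_iff h2 A _ hA]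
      change (p.1.1 • (1 : Matrix (Fin 2) (Fin 2) F) + p.1.2 • (A : Matrix (Fin 2) (Fin 2) F)) *
        (A : Matrix (Fin 2) (Fin 2) F) = (A : Matrix (Fin 2) (Fin 2) F) *
        (p.1.1 • (1 : Matrix (Fin 2) (Fin 2) F) + p.1.2 • (A : Matrix (Fin 2) (Fin 2) F))
      rw [Matrix.add_mul, Matrix.mul_add, Matrix.smul_mul, Matrix.smul_mul, Matrix.mul_smul,
        Matrix.mul_smul, Matrix.one_mul, Matrix.mul_one]⟩
  have hψinj : Function.Injective ψ := by
    rintro ⟨⟨a, b⟩, hp⟩ ⟨⟨a', b'⟩, hp'⟩ h
    have h1 : a • (1 : Matrix (Fin 2) (Fin 2) F) + b • (A : Matrix (Fin 2) (Fin 2) F) =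
        a' • (1 : Matrix (Fin 2) (Fin 2) F) + b' • (A : Matrix (Fin 2) (Fin 2) F) := by
      have := congrArg (fun x : C.comap mkG => ((x : GL (Fin 2) F) : Matrix (Fin 2) (Fin 2) F)) h
      exact this
    have e01 := congrFun (congrFun h1 0) 1
    have e10 := congrFun (congrFun h1 1) 0
    have e00 := congrFun (congrFun h1 0) 0
    have e11 := congrFun (congrFun h1 1) 1
    simp only [Matrix.add_apply, Matrix.smul_apply, Matrix.one_apply_eq, Matrix.one_apply_ne,
      ne_eq, one_ne_zero, zero_ne_one, not_false_eq_true, smul_eq_mul, mul_one, mul_zero,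
      zero_add] at e01 e10 e00 e11
    have hb : b = b' := by
      by_contra hbne
      have hbb : b - b' ≠ 0 := sub_ne_zero.2 hbne
      apply hns
      refine ⟨?_, ?_, ?_⟩
      · have : (b - b') * (A : Matrix (Fin 2) (Fin 2) F) 0 1 = 0 := by linear_combination e01
        exact (mul_eq_zero.1 this).resolve_left hbb
      · have : (b - b') * (A : Matrix (Fin 2) (Fin 2) F) 1 0 = 0 := by linear_combination e10
        exact (mul_eq_zero.1 this).resolve_left hbb
      · have : (b - b') * ((A : Matrix (Fin 2) (Fin 2) F) 0 0 -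
            (A : Matrix (Fin 2) (Fin 2) F) 1 1) = 0 := by linear_combination e00 - e11
        exact sub_eq_zero.1 ((mul_eq_zero.1 this).resolve_left hbb)
    subst hb
    have ha : a = a' := by linear_combination e00
    subst ha
    rfl
  have hψsurj : Function.Surjective ψ := by
    rintro ⟨B, hB⟩
    rw [Subgroup.mem_comap, hC, mem_centralizer_mk_iff h2 A _ hA] at hB
    obtain ⟨x, y, hxy⟩ := (commute_iff_exists_smul _ _ hns).1 hB
    have hdet : x ^ 2 + x * y * t + y ^ 2 * d ≠ 0 := by
      rw [← det_smul_one_add_smul, ← hxy]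
      exact Matrix.GeneralLinearGroup.det_ne_zero B
    refine ⟨⟨(x, y), hdet⟩, ?_⟩
    apply Subtype.ext
    apply Units.ext
    exact hxy.symm
  have hcard2 : Nat.card (C.comap mkG) =
      Nat.card {p : F × F // p.1 ^ 2 + p.1 * p.2 * t + p.2 ^ 2 * d ≠ 0} :=
    (Nat.card_congr (Equiv.ofBijective ψ ⟨hψinj, hψsurj⟩)).symm
  have hq : 2 ≤ Fintype.card F := Fintype.one_lt_card
  have hpos : 0 < Fintype.card F - 1 := by omega
  rw [hcard2] at hcard
  rcases card_norm_ne_zero t d with h | h | h
  · left
    rw [h] at hcard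
    exact (Nat.eq_of_mul_eq_mul_right hpos hcard).symm
  · right; left
    rw [h, mul_comm] at hcard
    exact (Nat.eq_of_mul_eq_mul_right hpos hcard).symm
  · right; right
    rw [h, mul_comm] at hcard
    exact (Nat.eq_of_mul_eq_mul_right hpos hcard).symm

end centralizer

end Cfsg.Agent.Helper12.PGLMax
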