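import Mathlib
import Cfsg.Agent.Lib.Helper12.PGLMaxC

set_option autoImplicit false
set_option linter.unusedVariables false
set_option linter.unusedSectionVars false
set_option linter.style.haveILetI false

/-! The embedding of `PGL₂(F)` into `PSL₂(E)` for a quadratic extension `E` of `F`. -/

namespace Cfsg.Agent.Helper12.PGLMax

open Matrix
open scoped MatrixGroups
open Cfsg.Agent.Helper12.MaxSub
open Cfsg.Agent.Helper28.SubfieldPSL2

section ext

variable {F : Type*} [Field F] [Fintype F]

/-- a quadratic extension of a finite field -/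
theorem exists_quadratic_ext (p : ℕ) [Fact p.Prime] [CharP F p] :
    ∃ (E : Type) (_ : Field E) (_ : Fintype E) (_ : F →+* E),
      Fintype.card E = Fintype.card F ^ 2 := by
  obtain ⟨f, -, hf⟩ := FiniteField.card F p
  have h2f : 2 * (f : ℕ) ≠ 0 := by
    have := f.pos
    omega
  haveI : Finite (GaloisField p (2 * f)) := Nat.finite_of_card_ne_zero (by
    rw [GaloisField.card p _ h2f]
    exact pow_ne_zero _ (Fact.out : p.Prime).ne_zero)
  letI : Fintype (GaloisField p (2 * f)) := Fintype.ofFinite _
  have hcard : Fintype.card (GaloisField p (2 * f)) = p ^ (2 * (f : ℕ)) := by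
    rw [← Nat.card_eq_fintype_card]
    exact GaloisField.card p _ h2f
  have hK : Fintype.card F ^ 2 = Fintype.card (GaloisField p (2 * f)) := by
    rw [hcard, hf, ← pow_mul, mul_comm]
  obtain ⟨ι⟩ := exists_ringHom (K := F) (F := GaloisField p (2 * f)) (m := 2) hK
  exact ⟨GaloisField p (2 * f), inferInstance, inferInstance, ι, hK.symm⟩

end ext

section embed

variable {F E : Type*} [Field F] [Field E] (j : F →+* E)
  (hsq : ∀ x : F, x ≠ 0 → IsSquare (j x))

/-- the embedding `PGL₂(F) → PSL₂(E)` -/
noncomputable def Phi : Matrix.ProjGenLinGroup (Fin 2) F →*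
    Matrix.ProjectiveSpecialLinearGroup (Fin 2) E :=
  QuotientGroup.lift (Subgroup.center (GL (Fin 2) F)) (glToPSL j hsq)
    (le_of_eq (ker_glToPSL j hsq).symm)

theorem Phi_mk (g : GL (Fin 2) F) :
    Phi j hsq (Matrix.ProjGenLinGroup.mk g) = glToPSL j hsq g := rfl

theorem Phi_injective : Function.Injective (Phi j hsq) :=
  (QuotientGroup.injective_lift_iff _ _ _).2 (ker_glToPSL j hsq).symm

/-- the embedding on the image of `SL₂(F)` -/
theorem Phi_mk_toGL (X : SL(2, F)) :
    Phi j hsq (Matrix.ProjGenLinGroup.mk (Matrix.SpecialLinearGroup.toGL X)) =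
      mkP (Matrix.SpecialLinearGroup.map j X) := by
  rw [Phi_mk, glToPSL_apply]
  have hs := sroot_mul_self j hsq (Matrix.SpecialLinearGroup.toGL X)
  have hdet : ((Matrix.SpecialLinearGroup.toGL X : GL (Fin 2) F) :
      Matrix (Fin 2) (Fin 2) F).det = 1 := X.2
  rw [hdet, inv_one, map_one] at hs
  have hcoe : ((Matrix.SpecialLinearGroup.map j X : SL(2, E)) : Matrix (Fin 2) (Fin 2) E) =
      j.mapMatrix ((Matrix.SpecialLinearGroup.toGL X : GL (Fin 2) F) :
        Matrix (Fin 2) (Fin 2) F) := rfl
  have h1 : sroot j hsq (Matrix.SpecialLinearGroup.toGL X) = 1 ∨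
      sroot j hsq (Matrix.SpecialLinearGroup.toGL X) = -1 := by
    have : (sroot j hsq (Matrix.SpecialLinearGroup.toGL X) - 1) *
        (sroot j hsq (Matrix.SpecialLinearGroup.toGL X) + 1) = 0 := by linear_combination hs
    rcases mul_eq_zero.1 this with h4 | h4
    · left; linear_combination h4
    · right; linear_combination h4
  rcases h1 with h1 | h1
  · change mkP (lift j hsq (Matrix.SpecialLinearGroup.toGL X)) = _
    congr 1
    apply Subtype.ext
    rw [lift_coe, h1, one_smul, hcoe]
  · apply mk_eq_of_neg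
    rw [lift_coe, h1, neg_smul, one_smul, hcoe]

/-- the image of `L` under the embedding -/
theorem Phi_mem_range_of_mem_Lsub (x : Matrix.ProjGenLinGroup (Fin 2) F) (hx : x ∈ Lsub F) :
    ∃ X : SL(2, F), x = Matrix.ProjGenLinGroup.mk (Matrix.SpecialLinearGroup.toGL X) ∧
      Phi j hsq x = mkP (Matrix.SpecialLinearGroup.map j X) := by
  obtain ⟨X, rfl⟩ := hx
  exact ⟨X, rfl, Phi_mk_toGL j hsq X⟩

end embed

end Cfsg.Agent.Helper12.PGLMax
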