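import Mathlib
import Cfsg.Agent.Lib.Helper12.PGLMaxD

set_option autoImplicit false
set_option linter.unusedVariables false
set_option linter.unusedSectionVars false
set_option linter.style.haveILetI false

/-! Coordinates from traces with a prescribed frame; the rational reduction. -/

namespace Cfsg.Agent.Helper12.PGLMax

open Matrix
open scoped MatrixGroups
open Cfsg.Agent.Helper12.MaxSub
open Cfsg.Agent.Helper12 (negOneSL negOneSL_coe)
open Cfsg.Agent.Helper28.SubfieldPSL2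

local notation "cj" => Cfsg.Agent.Helper2.PA.conjSL

section frame

variable {F : Type*} [Field F]

/-- **coordinates from traces**, for a given frame -/
theorem entries_of_frame (h2 : (2 : F) ≠ 0) {K : Type*} [Field K] (ι : K →+* F) (a0 b0 : K)
    (hab : a0 ^ 2 + b0 ^ 2 = -1) (Hs H1 : Subgroup SL(2, F)) (hH1 : H1 ≤ Hs)
    (hidx : ∀ x ∈ Hs, ∀ y ∈ Hs, x ∉ H1 → y ∉ H1 → x * y ∈ H1)
    (S T : SL(2, F)) (hSm : S ∈ H1) (hTm : T ∈ H1) (g : GL (Fin 2) F)
    (hgS : (g : Matrix (Fin 2) (Fin 2) F) * S.1 = matJ * (g : Matrix (Fin 2) (Fin 2) F))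
    (hgT : (g : Matrix (Fin 2) (Fin 2) F) * T.1 =
      matT (ι a0) (ι b0) * (g : Matrix (Fin 2) (Fin 2) F))
    (htr : ∀ x ∈ H1, ∃ y : K, x.1.trace = ι y) :
    (∀ x ∈ H1, ∀ i j, ∃ y : K, (cj g x).1 i j = ι y) ∧
      (∀ x ∈ Hs, ∃ c : F, c ≠ 0 ∧ ∀ i j, ∃ y : K, (cj g x).1 i j = c * ι y) := by
  have hcS : (cj g S).1 = matJ := MaxSub.conjSL_eq_of_mul_eq g S _ hgS
  have hcT : (cj g T).1 = matT (ι a0) (ι b0) := MaxSub.conjSL_eq_of_mul_eq g T _ hgT
  -- the four traces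
  have t1 : ∀ x : SL(2, F), ((cj g x).1 * matJ).trace = (x * S).1.trace := by
    intro x
    have e : (cj g (x * S)).1 = (cj g x).1 * matJ := by
      rw [MaxSub.conjSL_mul_coe, hcS]
    rw [← e, MaxSub.trace_conjSL]
  have t2 : ∀ x : SL(2, F), ((cj g x).1 * matT (ι a0) (ι b0)).trace = (x * T).1.trace := by
    intro x
    have e : (cj g (x * T)).1 = (cj g x).1 * matT (ι a0) (ι b0) := by
      rw [MaxSub.conjSL_mul_coe, hcT]
    rw [← e, MaxSub.trace_conjSL]
  have t3 : ∀ x : SL(2, F), ((cj g x).1 * (matJ * matT (ι a0) (ι b0))).trace =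
      (x * (S * T)).1.trace := by
    intro x
    have e : (cj g (x * (S * T))).1 = (cj g x).1 * (matJ * matT (ι a0) (ι b0)) := by
      rw [MaxSub.conjSL_mul_coe, MaxSub.conjSL_mul_coe, hcS, hcT]
    rw [← e, MaxSub.trace_conjSL]
  have hfirst : ∀ x ∈ H1, ∀ i j, ∃ y : K, (cj g x).1 i j = ι y := by
    intro x hx
    obtain ⟨y0, hy0⟩ := htr x hx
    obtain ⟨y1, hy1⟩ := htr (x * S) (H1.mul_mem hx hSm)
    obtain ⟨y2, hy2⟩ := htr (x * T) (H1.mul_mem hx hTm)
    obtain ⟨y3, hy3⟩ := htr (x * (S * T)) (H1.mul_mem hx (H1.mul_mem hSm hTm))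
    have := MaxSub.entries_of_traces ι h2 a0 b0 hab 1 (cj g x).1 y0 y1 y2 y3
      (by rw [MaxSub.trace_conjSL, hy0, one_mul]) (by rw [t1, hy1, one_mul]) (by rw [t2, hy2, one_mul])
      (by rw [t3, hy3, one_mul])
    simpa using this
  refine ⟨hfirst, ?_⟩
  intro x hx
  by_cases hx1 : x ∈ H1
  · refine ⟨1, one_ne_zero, ?_⟩
    simpa using hfirst x hx1
  -- the four elements of the frame
  set hh : Fin 4 → SL(2, F) := ![1, S, T, S * T] with hhdef
  have hhm : ∀ i, hh i ∈ H1 := by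
    intro i
    fin_cases i
    · exact H1.one_mem
    · exact hSm
    · exact hTm
    · exact H1.mul_mem hSm hTm
  set tau : Fin 4 → F := fun i => (x * hh i).1.trace with htau
  have hnot : ∀ i, x * hh i ∉ H1 := by
    intro i h
    apply hx1
    have : x = (x * hh i) * (hh i)⁻¹ := by group
    rw [this]
    exact H1.mul_mem h (H1.inv_mem (hhm i))
  have hprod : ∀ i j, ∃ y : K, tau i * tau j = ι y := by
    intro i j
    rw [htau]
    simp only
    rw [MaxSub.trace_mul_trace]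
    obtain ⟨y1, hy1⟩ := htr _ (hidx _ (Hs.mul_mem hx (hH1 (hhm i))) _
      (Hs.mul_mem hx (hH1 (hhm j))) (hnot i) (hnot j))
    have e : x * hh i * (x * hh j)⁻¹ = x * (hh i * (hh j)⁻¹) * x⁻¹ := by group
    obtain ⟨y2, hy2⟩ := htr _ (H1.mul_mem (hhm i) (H1.inv_mem (hhm j)))
    refine ⟨y1 + y2, ?_⟩
    rw [hy1, e, MaxSub.trace_conj_SL, hy2, map_add]
  -- the traces of the conjugate
  have hT0 : (cj g x).1.trace = tau 0 := by
    rw [MaxSub.trace_conjSL, htau]; simp [hhdef]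
  have hT1 : ((cj g x).1 * matJ).trace = tau 1 := by
    rw [t1, htau]; simp [hhdef]
  have hT2 : ((cj g x).1 * matT (ι a0) (ι b0)).trace = tau 2 := by
    rw [t2, htau]; simp [hhdef]
  have hT3 : ((cj g x).1 * (matJ * matT (ι a0) (ι b0))).trace = tau 3 := by
    rw [t3, htau]; simp [hhdef]
  -- some trace is nonzero
  obtain ⟨i0, hi0⟩ : ∃ i0, tau i0 ≠ 0 := by
    by_contra hall
    push Not at hall
    have := MaxSub.entries_of_traces ι h2 a0 b0 hab 0 (cj g x).1 0 0 0 0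
      (by rw [hT0, hall 0, zero_mul]) (by rw [hT1, hall 1, zero_mul])
      (by rw [hT2, hall 2, zero_mul]) (by rw [hT3, hall 3, zero_mul])
    have hzero : (cj g x).1 = 0 := by
      ext i j
      obtain ⟨y, hy⟩ := this i j
      rw [hy, zero_mul]; rfl
    have hdet := (cj g x).2
    rw [hzero, Matrix.det_zero] at hdet
    exact zero_ne_one hdet
  obtain ⟨y00, hy00⟩ := hprod i0 i0
  have hy00ne : y00 ≠ 0 := by
    rintro rfl
    rw [map_zero] at hy00
    exact hi0 (mul_self_eq_zero.1 hy00)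
  have hcoef : ∀ j, ∃ y : K, tau j = tau i0 * ι y := by
    intro j
    obtain ⟨y, hy⟩ := hprod i0 j
    refine ⟨y / y00, ?_⟩
    rw [map_div₀, ← hy, ← hy00]
    field_simp
  obtain ⟨y0, hy0⟩ := hcoef 0
  obtain ⟨y1, hy1⟩ := hcoef 1
  obtain ⟨y2, hy2⟩ := hcoef 2
  obtain ⟨y3, hy3⟩ := hcoef 3
  exact ⟨tau i0, hi0, MaxSub.entries_of_traces ι h2 a0 b0 hab (tau i0) (cj g x).1 y0 y1 y2 y3
    (hT0.trans hy0) (hT1.trans hy1) (hT2.trans hy2) (hT3.trans hy3)⟩


theorem eq_or_eq_neg_of_mkP_eq (X Y : SL(2, F)) (h : mkP X = mkP Y) :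
    X.1 = Y.1 ∨ X.1 = -Y.1 := by
  have h1 : mkP (Y⁻¹ * X) = 1 := by rw [map_mul, map_inv, h, inv_mul_cancel]
  rcases (mkP_eq_one_iff _).1 h1 with h2 | h2
  · left
    have : X = Y := by
      have : X = Y * (Y⁻¹ * X) := by group
      rw [this, h2, mul_one]
    rw [this]
  · right
    have : X = Y * negOneSL := by
      have : X = Y * (Y⁻¹ * X) := by group
      rw [this, h2]
    rw [this, Matrix.SpecialLinearGroup.coe_mul, negOneSL_coe, Matrix.mul_neg, Matrix.mul_one]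

end frame

end Cfsg.Agent.Helper12.PGLMax
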