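import Mathlib
import Cfsg.Agent.Lib.Helper12.PGLMaxE

set_option autoImplicit false
set_option linter.unusedVariables false
set_option linter.unusedSectionVars false
set_option linter.style.haveILetI false

/-! The rational reduction: subgroups of `PGL₂(F)` with traces in a subfield. -/

namespace Cfsg.Agent.Helper12.PGLMax

open Matrix
open scoped MatrixGroups
open Cfsg.Agent.Helper12.MaxSub
open Cfsg.Agent.Helper12 (negOneSL negOneSL_coe)
open Cfsg.Agent.Helper28.SubfieldPSL2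

local notation "cj" => Cfsg.Agent.Helper2.PA.conjSL

section maps

variable {F E : Type*} [Field F] [Field E] (j : F →+* E)

theorem mapMatrix_matJ : j.mapMatrix (matJ : Matrix (Fin 2) (Fin 2) F) = matJ := by
  ext i k
  fin_cases i <;> fin_cases k <;> simp [matJ]

theorem mapMatrix_matT (a b : F) : j.mapMatrix (matT a b) = matT (j a) (j b) := by
  ext i k
  fin_cases i <;> fin_cases k <;> simp [matT]

theorem trace_map_SL (X : SL(2, F)) :
    (Matrix.SpecialLinearGroup.map j X).1.trace = j X.1.trace := by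
  rw [Matrix.SpecialLinearGroup.map_apply_coe, RingHom.mapMatrix_apply, Matrix.trace_fin_two,
    Matrix.trace_fin_two]
  simp

end maps

section rational

variable {F : Type*} [Field F]

/-- the subfield subgroup of `PGL₂(F)` -/
def Rsub {K : Type*} [Field K] (ι : K →+* F) : Subgroup (Matrix.ProjGenLinGroup (Fin 2) F) :=
  (Matrix.ProjGenLinGroup.mk.comp (Matrix.GeneralLinearGroup.map ι)).range

variable [Fintype F]

local notation "mkG" => Matrix.ProjGenLinGroup.mk (n := Fin 2) (R := F)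

/-- **the rational reduction** -/
theorem rational_reduce (p : ℕ) [Fact p.Prime] [CharP F p] (hodd : Odd (Fintype.card F))
    {f c : ℕ} (hf : Fintype.card F = p ^ f) (hc0 : c ≠ 0) (hcf : c ∣ f)
    (M : Subgroup (Matrix.ProjGenLinGroup (Fin 2) F))
    (S T : SL(2, F)) (hSM : mkG (Matrix.SpecialLinearGroup.toGL S) ∈ M)
    (hTM : mkG (Matrix.SpecialLinearGroup.toGL T) ∈ M)
    (hS : S.1 * S.1 = -1) (hT : T.1 * T.1 = -1) (hST : S.1 * T.1 = -(T.1 * S.1))
    (htr : ∀ X : SL(2, F), mkG (Matrix.SpecialLinearGroup.toGL X) ∈ M →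
      X.1.trace ^ (p ^ c) = X.1.trace) :
    ∃ (K : Type) (_ : Field K) (_ : Fintype K) (ι : K →+* F) (g : GL (Fin 2) F),
      Fintype.card K = p ^ c ∧ ∀ x ∈ M, mkG g * x * (mkG g)⁻¹ ∈ Rsub ι := by
  classical
  have h2 := two_ne_zero_of_odd_card hodd
  obtain ⟨K, _, _, ι, hK⟩ := exists_subfield_of_dvd p hf hc0 hcf
  have hKodd : Fintype.card K % 2 = 1 := odd_card_of_ringHom ι hodd
  obtain ⟨a0, b0, hab⟩ := exists_sq_add_sq hKodd
  have habF : ι a0 ^ 2 + ι b0 ^ 2 = -1 := by
    rw [← map_pow, ← map_pow, ← map_add, hab, map_neg, map_one]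
  obtain ⟨g0, hgS, hgT⟩ := exists_conj_frame h2 S.1 T.1 S.2 hS hT hST (ι a0) (ι b0) habF
  obtain ⟨E, _, _, j, hE⟩ := exists_quadratic_ext (F := F) p
  have hoddE : Odd (Fintype.card E) := by rw [hE]; exact hodd.pow
  have hsq : ∀ x : F, x ≠ 0 → IsSquare (j x) := isSquare_of_even j hoddE even_two hE.symm
  have h2E := two_ne_zero_of_odd_card hoddE
  refine ⟨K, _, _, ι, g0, hK, ?_⟩
  set Hs : Subgroup SL(2, E) := (M.map (Phi j hsq)).comap mkP with hHs
  set H1 : Subgroup SL(2, E) := ((M ⊓ Lsub F).map (Phi j hsq)).comap mkP with hH1def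
  have hH1 : H1 ≤ Hs := Subgroup.comap_mono (Subgroup.map_mono inf_le_left)
  have hidxL := index_Lsub (F := F) hodd
  have hidx : ∀ x ∈ Hs, ∀ y ∈ Hs, x ∉ H1 → y ∉ H1 → x * y ∈ H1 := by
    intro x hx y hy hx1 hy1
    rw [hHs, Subgroup.mem_comap, Subgroup.mem_map] at hx hy
    obtain ⟨a, haM, hax⟩ := hx
    obtain ⟨b, hbM, hby⟩ := hy
    have haL : a ∉ Lsub F := by
      intro h
      apply hx1
      rw [hH1def, Subgroup.mem_comap, Subgroup.mem_map]
      exact ⟨a, ⟨haM, h⟩, hax⟩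
    have hbL : b ∉ Lsub F := by
      intro h
      apply hy1
      rw [hH1def, Subgroup.mem_comap, Subgroup.mem_map]
      exact ⟨b, ⟨hbM, h⟩, hby⟩
    have habL : a * b ∈ Lsub F :=
      (Subgroup.mul_mem_iff_of_index_two hidxL).2 (iff_of_false haL hbL)
    rw [hH1def, Subgroup.mem_comap, Subgroup.mem_map]
    refine ⟨a * b, ⟨M.mul_mem haM hbM, habL⟩, ?_⟩
    rw [map_mul, hax, hby, map_mul]
  set S' : SL(2, E) := Matrix.SpecialLinearGroup.map j S with hS'
  set T' : SL(2, E) := Matrix.SpecialLinearGroup.map j T with hT'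
  have hS'm : S' ∈ H1 := by
    rw [hH1def, Subgroup.mem_comap, Subgroup.mem_map]
    exact ⟨mkG (Matrix.SpecialLinearGroup.toGL S), ⟨hSM, ⟨S, rfl⟩⟩, Phi_mk_toGL j hsq S⟩
  have hT'm : T' ∈ H1 := by
    rw [hH1def, Subgroup.mem_comap, Subgroup.mem_map]
    exact ⟨mkG (Matrix.SpecialLinearGroup.toGL T), ⟨hTM, ⟨T, rfl⟩⟩, Phi_mk_toGL j hsq T⟩
  set g : GL (Fin 2) E := Matrix.GeneralLinearGroup.map j g0 with hg
  have hgc : (g : Matrix (Fin 2) (Fin 2) E) = j.mapMatrix (g0 : Matrix (Fin 2) (Fin 2) F) := rfl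
  have hgS' : (g : Matrix (Fin 2) (Fin 2) E) * S'.1 = matJ * (g : Matrix (Fin 2) (Fin 2) E) := by
    rw [hgc, hS', Matrix.SpecialLinearGroup.map_apply_coe, ← map_mul, hgS, map_mul,
      mapMatrix_matJ]
  have hgT' : (g : Matrix (Fin 2) (Fin 2) E) * T'.1 =
      matT ((j.comp ι) a0) ((j.comp ι) b0) * (g : Matrix (Fin 2) (Fin 2) E) := by
    rw [hgc, hT', Matrix.SpecialLinearGroup.map_apply_coe, ← map_mul, hgT, map_mul,
      mapMatrix_matT]
    rfl
  have htr' : ∀ x ∈ H1, ∃ y : K, x.1.trace = (j.comp ι) y := by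
    intro x hx
    rw [hH1def, Subgroup.mem_comap, Subgroup.mem_map] at hx
    obtain ⟨a, ⟨haM, haL⟩, hax⟩ := hx
    obtain ⟨X0, rfl, hΦ⟩ := Phi_mem_range_of_mem_Lsub j hsq a haL
    rw [hΦ] at hax
    have htr0 := htr X0 haM
    rw [← hK] at htr0
    obtain ⟨y, hy⟩ := mem_range_of_pow_card_eq ι _ htr0
    rcases eq_or_eq_neg_of_mkP_eq x _ hax.symm with h | h
    · exact ⟨y, by rw [h, trace_map_SL, hy]; rfl⟩
    · exact ⟨-y, by rw [h, Matrix.trace_neg, trace_map_SL, hy, map_neg]; rfl⟩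
  obtain ⟨-, hent⟩ := entries_of_frame h2E (j.comp ι) a0 b0 hab Hs H1 hH1 hidx S' T' hS'm hT'm g
    hgS' hgT' htr'
  intro a haM
  induction a using Matrix.ProjGenLinGroup.induction_on with
  | mk A =>
    set x : SL(2, E) := lift j hsq A with hx
    have hxHs : x ∈ Hs := by
      rw [hHs, Subgroup.mem_comap, Subgroup.mem_map]
      exact ⟨mkG A, haM, rfl⟩
    obtain ⟨c', hc', hy⟩ := hent x hxHs
    choose y hy using hy
    set B0 : GL (Fin 2) F := g0 * A * g0⁻¹ with hB0
    set σ := sroot j hsq A with hσ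
    have hσ0 : σ ≠ 0 := sroot_ne_zero j hsq A
    have hconj : (cj g x).1 = σ • j.mapMatrix (B0 : Matrix (Fin 2) (Fin 2) F) := by
      rw [Cfsg.Agent.Helper2.PA.conjSL_coe, hx, lift_coe, hg, ← map_inv]
      change j.mapMatrix (g0 : Matrix (Fin 2) (Fin 2) F) * _ *
        j.mapMatrix ((g0⁻¹ : GL (Fin 2) F) : Matrix (Fin 2) (Fin 2) F) = _
      rw [Matrix.mul_smul, Matrix.smul_mul, ← map_mul, ← map_mul, hB0,
        Matrix.GeneralLinearGroup.coe_mul, Matrix.GeneralLinearGroup.coe_mul]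
    have hentry : ∀ i k, σ * j ((B0 : Matrix (Fin 2) (Fin 2) F) i k) = c' * j (ι (y i k)) := by
      intro i k
      have := hy i k
      rw [hconj] at this
      simpa using this
    -- a nonzero entry
    obtain ⟨i0, k0, h0⟩ : ∃ i0 k0, (B0 : Matrix (Fin 2) (Fin 2) F) i0 k0 ≠ 0 := by
      by_contra hall
      push Not at hall
      have hz : (B0 : Matrix (Fin 2) (Fin 2) F) = 0 := by
        ext i k
        exact hall i k
      have hd := Matrix.GeneralLinearGroup.det_ne_zero B0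
      rw [hz, Matrix.det_zero] at hd
      exact hd rfl
    have hj0 : j ((B0 : Matrix (Fin 2) (Fin 2) F) i0 k0) ≠ 0 := by
      intro h
      exact h0 (j.injective (by rw [h, map_zero]))
    have hy0 : y i0 k0 ≠ 0 := by
      intro h
      have := hentry i0 k0
      rw [h, map_zero, map_zero, mul_zero] at this
      exact mul_ne_zero hσ0 hj0 this
    have hιy0 : ι (y i0 k0) ≠ 0 := fun h => hy0 (ι.injective (by rw [h, map_zero]))
    have hjιy0 : j (ι (y i0 k0)) ≠ 0 := fun h => hιy0 (j.injective (by rw [h, map_zero]))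
    set μ : F := (B0 : Matrix (Fin 2) (Fin 2) F) i0 k0 / ι (y i0 k0) with hμ
    have hc'eq : c' = σ * j μ := by
      have := hentry i0 k0
      rw [hμ, map_div₀]
      field_simp
      linear_combination -this
    have hB0eq : ∀ i k, (B0 : Matrix (Fin 2) (Fin 2) F) i k = μ * ι (y i k) := by
      intro i k
      apply j.injective
      have := hentry i k
      rw [hc'eq] at this
      rw [map_mul]
      have h3 : σ * j ((B0 : Matrix (Fin 2) (Fin 2) F) i k) = σ * (j μ * j (ι (y i k))) := by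
        rw [this]; ring
      exact mul_left_cancel₀ hσ0 h3
    set Y : Matrix (Fin 2) (Fin 2) K := Matrix.of y with hY
    have hB0Y : (B0 : Matrix (Fin 2) (Fin 2) F) = μ • ι.mapMatrix Y := by
      ext i k
      rw [hB0eq i k]
      simp [hY]
    have hYdet : Y.det ≠ 0 := by
      intro h
      have hd := Matrix.GeneralLinearGroup.det_ne_zero B0
      rw [hB0Y, Matrix.det_smul, ← RingHom.map_det, h, map_zero, mul_zero] at hd
      exact hd rfl
    set Yg : GL (Fin 2) K := Matrix.GeneralLinearGroup.mkOfDetNeZero Y hYdet with hYg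
    have hmk : mkG B0 = mkG (Matrix.GeneralLinearGroup.map ι Yg) := by
      apply mk_eq_mk_of_smul _ _ μ
      rw [hB0Y]
      rfl
    have hgoal : mkG g0 * mkG A * (mkG g0)⁻¹ = mkG B0 := by
      rw [hB0, map_mul, map_mul, map_inv]
    rw [hgoal, hmk]
    exact ⟨Yg, rfl⟩

end rational

end Cfsg.Agent.Helper12.PGLMax
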