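import Mathlib
import Cfsg.Agent.Lib.Helper12.PGLMaxF

set_option autoImplicit false
set_option linter.unusedVariables false
set_option linter.unusedSectionVars false
set_option linter.style.haveILetI false

/-! Subfield subgroups of `PGL₂(F)`. -/

namespace Cfsg.Agent.Helper12.PGLMax

open Matrix
open scoped MatrixGroups
open Cfsg.Agent.Helper12.MaxSub
open Cfsg.Agent.Helper12 (IsScalar2 isScalar2_iff)
open Cfsg.Agent.Helper28.SubfieldPSL2

section rsub

variable {F : Type*} [Field F]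

local notation "mkG" => Matrix.ProjGenLinGroup.mk (n := Fin 2) (R := F)

theorem scalar_of_mk_eq_one (A : GL (Fin 2) F) (h : mkG A = 1) :
    IsScalar2 (A : Matrix (Fin 2) (Fin 2) F) := by
  rw [Matrix.ProjGenLinGroup.mk_eq_one, Matrix.GeneralLinearGroup.center_eq_range_scalar] at h
  obtain ⟨u, hu⟩ := h
  rw [← hu, Matrix.GeneralLinearGroup.coe_scalar]
  refine ⟨?_, ?_, ?_⟩ <;> simp

variable {K : Type*} [Field K] (ι : K →+* F)

theorem ker_Rsub : (Matrix.ProjGenLinGroup.mk.comp (Matrix.GeneralLinearGroup.map ι)).ker =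
    Subgroup.center (GL (Fin 2) K) := by
  ext Y
  rw [MonoidHom.mem_ker, MonoidHom.comp_apply, ← Matrix.ProjGenLinGroup.mk_eq_one]
  have hc : ((Matrix.GeneralLinearGroup.map ι Y : GL (Fin 2) F) : Matrix (Fin 2) (Fin 2) F) =
      ι.mapMatrix (Y : Matrix (Fin 2) (Fin 2) K) := rfl
  constructor
  · intro h
    have hs := scalar_of_mk_eq_one _ h
    rw [hc] at hs
    apply mk_eq_one_of_scalar
    obtain ⟨h1, h2, h3⟩ := hs
    simp only [RingHom.mapMatrix_apply, Matrix.map_apply] at h1 h2 h3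
    exact ⟨ι.injective (by rw [h1, map_zero]), ι.injective (by rw [h2, map_zero]),
      ι.injective h3⟩
  · intro h
    have hs := scalar_of_mk_eq_one _ h
    apply mk_eq_one_of_scalar
    rw [hc]
    obtain ⟨h1, h2, h3⟩ := hs
    refine ⟨?_, ?_, ?_⟩ <;> simp [h1, h2, h3]

/-- the subfield subgroup is `PGL₂(K)` -/
noncomputable def RsubEquiv : Rsub ι ≃* Matrix.ProjGenLinGroup (Fin 2) K :=
  ((QuotientGroup.quotientMulEquivOfEq (ker_Rsub ι)).symm.trans
    (QuotientGroup.quotientKerEquivRange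
      (Matrix.ProjGenLinGroup.mk.comp (Matrix.GeneralLinearGroup.map ι)))).symm

/-- if the elements of `K` are squares in `F`, the subfield subgroup lies in `L` -/
theorem Rsub_le_Lsub (hsq : ∀ x : K, x ≠ 0 → IsSquare (ι x)) : Rsub ι ≤ Lsub F := by
  rintro _ ⟨Y, rfl⟩
  rw [MonoidHom.comp_apply, mk_mem_Lsub_iff]
  have hc : ((Matrix.GeneralLinearGroup.map ι Y : GL (Fin 2) F) : Matrix (Fin 2) (Fin 2) F) =
      ι.mapMatrix (Y : Matrix (Fin 2) (Fin 2) K) := rfl
  rw [hc, ← RingHom.map_det]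
  exact hsq _ (Matrix.GeneralLinearGroup.det_ne_zero Y)

variable [Fintype F] [Fintype K]

theorem card_Rsub : Nat.card (Rsub ι) =
    Fintype.card K * (Fintype.card K - 1) * (Fintype.card K + 1) := by
  rw [Nat.card_congr (RsubEquiv ι).toEquiv]
  exact Cfsg.Agent.Helper12.PSL2Max.card_PGL2' K rfl

theorem Rsub_ne_top (hlt : Fintype.card K < Fintype.card F) : Rsub ι ≠ ⊤ := by
  intro h
  have h1 := card_Rsub ι
  rw [h, Subgroup.card_top, card_PGL2_eq] at h1
  have h2 : 2 ≤ Fintype.card K := Fintype.one_lt_card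
  have := Cfsg.Agent.Helper12.PSL2Max.ord_strict h2 hlt
  omega

end rsub

section coatom

variable {F : Type*} [Field F] [Fintype F]

local notation "mkG" => Matrix.ProjGenLinGroup.mk (n := Fin 2) (R := F)

/-- a coatom conjugate into a proper subfield subgroup is isomorphic to it -/
theorem equiv_of_conj_mem {K : Type*} [Field K] [Fintype K] (ι : K →+* F)
    (hlt : Fintype.card K < Fintype.card F)
    (M : Subgroup (Matrix.ProjGenLinGroup (Fin 2) F)) (hM : IsCoatom M) (g : GL (Fin 2) F)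
    (h : ∀ x ∈ M, mkG g * x * (mkG g)⁻¹ ∈ Rsub ι) :
    Nonempty (M ≃* Matrix.ProjGenLinGroup (Fin 2) K) := by
  have hle : M.map ((MulAut.conj (mkG g) : MulAut _) : _ ≃* _).toMonoidHom ≤ Rsub ι := by
    rintro _ ⟨x, hx, rfl⟩
    exact h x hx
  obtain ⟨e⟩ := equiv_of_map_le (MulAut.conj (mkG g)) hM hle (Rsub_ne_top ι hlt)
  exact ⟨e.trans (RsubEquiv ι)⟩

/-- a subgroup conjugate into a subfield subgroup of squares lies in `L` -/
theorem le_Lsub_of_conj_mem (hodd : Odd (Fintype.card F)) {K : Type*} [Field K] (ι : K →+* F)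
    (hsq : ∀ x : K, x ≠ 0 → IsSquare (ι x))
    (M : Subgroup (Matrix.ProjGenLinGroup (Fin 2) F)) (g : GL (Fin 2) F)
    (h : ∀ x ∈ M, mkG g * x * (mkG g)⁻¹ ∈ Rsub ι) : M ≤ Lsub F := by
  haveI := normal_Lsub (F := F) hodd
  intro x hx
  have h1 := Rsub_le_Lsub ι hsq (h x hx)
  have h2 := (inferInstance : (Lsub F).Normal).conj_mem _ h1 (mkG g)⁻¹
  have h3 : (mkG g)⁻¹ * (mkG g * x * (mkG g)⁻¹) * (mkG g)⁻¹⁻¹ = x := by group
  rwa [h3] at h2

end coatom

end Cfsg.Agent.Helper12.PGLMax
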