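import Mathlib
import Cfsg.Agent.Lib.Helper12.PGLMaxG

set_option autoImplicit false
set_option linter.unusedVariables false
set_option linter.unusedSectionVars false
set_option linter.style.haveILetI false

/-! Subgroups of index two. -/

namespace Cfsg.Agent.Helper12.PGLMax

open Matrix
open scoped MatrixGroups
open Cfsg.Agent.Helper12.MaxSub

section sl2

variable {K : Type*} [Field K]

theorem transvection_pow (i j : Fin 2) (h : i ≠ j) (c : K) (n : ℕ) :
    (Matrix.SpecialLinearGroup.transvection h c) ^ n =
      Matrix.SpecialLinearGroup.transvection h (n • c) := by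
  induction n with
  | zero =>
    rw [pow_zero, zero_smul, Matrix.SpecialLinearGroup.transvection_coeff_zero]
  | succ n ih =>
    rw [pow_succ, ih]
    apply Subtype.ext
    rw [Matrix.SpecialLinearGroup.coe_mul]
    change Matrix.transvection i j (n • c) * Matrix.transvection i j c = Matrix.transvection i j _
    rw [Matrix.transvection_mul_transvection_same i j h, succ_nsmul]

theorem transvection_pow_char (p : ℕ) [CharP K p] (i j : Fin 2) (h : i ≠ j) (c : K) :
    (Matrix.SpecialLinearGroup.transvection h c) ^ p = 1 := by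
  rw [transvection_pow, nsmul_eq_mul, CharP.cast_eq_zero, zero_mul,
    Matrix.SpecialLinearGroup.transvection_coeff_zero]

/-- homomorphic images of `SL₂(K)`, `K` of odd characteristic, lie in every subgroup of index
two -/
theorem hom_sl2_mem (p : ℕ) [CharP K p] (hp : Odd p) {H : Type*} [Group H] (N : Subgroup H)
    (hN : N.index = 2) (φ : SL(2, K) →* H) (A : SL(2, K)) : φ A ∈ N := by
  refine Matrix.SL2.transvection_induction (fun A => φ A ∈ N) ?_ ?_ A
  · intro i j h c
    apply mem_of_pow_odd N hN _ p hp
    rw [← map_pow, transvection_pow_char, map_one]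
  · intro A B hA hB
    rw [map_mul]
    exact N.mul_mem hA hB

theorem no_index_two_PSL2 (p : ℕ) [CharP K p] (hp : Odd p)
    (N : Subgroup (Matrix.ProjectiveSpecialLinearGroup (Fin 2) K)) (hN : N.index = 2) : False := by
  have : N = ⊤ := by
    rw [eq_top_iff]
    intro y _
    obtain ⟨A, rfl⟩ := mkP_surjective y
    exact hom_sl2_mem p hp N hN mkP A
  rw [this, Subgroup.index_top] at hN
  omega

theorem toPGL_range_le (p : ℕ) [CharP K p] (hp : Odd p)
    (N : Subgroup (Matrix.ProjGenLinGroup (Fin 2) K)) (hN : N.index = 2) :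
    (Matrix.ProjectiveSpecialLinearGroup.toPGL (n := Fin 2) (R := K)).range ≤ N := by
  rintro _ ⟨y, rfl⟩
  obtain ⟨A, rfl⟩ := mkP_surjective y
  exact hom_sl2_mem p hp N hN
    ((Matrix.ProjectiveSpecialLinearGroup.toPGL (n := Fin 2) (R := K)).comp mkP) A

end sl2

section alt

theorem A4_gen : ∀ x : alternatingGroup (Fin 4), ∃ a b : alternatingGroup (Fin 4),
    a ^ 3 = 1 ∧ b ^ 3 = 1 ∧ x = a * b := by
  decide

theorem no_index_two_A4 (N : Subgroup (alternatingGroup (Fin 4))) (hN : N.index = 2) : False := by
  have : N = ⊤ := by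
    rw [eq_top_iff]
    intro x _
    obtain ⟨a, b, ha, hb, rfl⟩ := A4_gen x
    exact N.mul_mem (mem_of_pow_odd N hN a 3 (by decide) ha)
      (mem_of_pow_odd N hN b 3 (by decide) hb)
  rw [this, Subgroup.index_top] at hN
  omega

theorem no_index_two_A5 (N : Subgroup (alternatingGroup (Fin 5))) (hN : N.index = 2) : False := by
  haveI : IsSimpleGroup (alternatingGroup (Fin 5)) := alternatingGroup.isSimpleGroup_five
  haveI : N.Normal := Subgroup.normal_of_index_eq_two hN
  rcases (inferInstance : N.Normal).eq_bot_or_eq_top with h | h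
  · rw [h, Subgroup.index_bot, Cfsg.Agent.Helper12.PSL2Max.card_A5] at hN
    omega
  · rw [h, Subgroup.index_top] at hN
    omega

end alt

section corr

variable {G H : Type*} [Group G] [Group H]

/-- the subgroup of `H` corresponding to `M ⊓ L` under an isomorphism `M ≃* H` -/
def corrSub (M L : Subgroup G) (e : M ≃* H) : Subgroup H := (L.subgroupOf M).map (e : M →* H)

theorem mem_corrSub_iff {M L : Subgroup G} {e : M ≃* H} (x : G) (hx : x ∈ M) :
    e ⟨x, hx⟩ ∈ corrSub M L e ↔ x ∈ L := by
  unfold corrSub
  rw [Subgroup.mem_map]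
  constructor
  · rintro ⟨y, hy, hye⟩
    have : y = ⟨x, hx⟩ := e.injective hye
    rw [this, Subgroup.mem_subgroupOf] at hy
    exact hy
  · intro h
    exact ⟨⟨x, hx⟩, Subgroup.mem_subgroupOf.2 h, rfl⟩

theorem index_corrSub (M L : Subgroup G) (e : M ≃* H) :
    (corrSub M L e).index = L.relIndex M := by
  unfold corrSub
  exact Subgroup.index_map_equiv (L.subgroupOf M) e

end corr

end Cfsg.Agent.Helper12.PGLMax
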