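import Mathlib
import Cfsg.Agent.Lib.Helper12.PGLMaxH

set_option autoImplicit false
set_option linter.unusedVariables false
set_option linter.unusedSectionVars false
set_option linter.style.haveILetI false

/-! Maximal subgroups of `PGL₂(q)`: the cases without subgroups of index two, and the subfield
case. -/

namespace Cfsg.Agent.Helper12.PGLMax

open Matrix
open scoped MatrixGroups
open Cfsg.Agent.Helper12.MaxSub
open Cfsg.Agent.Helper28.SubfieldPSL2

variable {F : Type*} [Field F] [Fintype F]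

local notation "GG" => Matrix.ProjGenLinGroup (Fin 2) F
local notation "mkG" => Matrix.ProjGenLinGroup.mk (n := Fin 2) (R := F)

/-- the list of maximal subgroups of `PGL₂(q)` not containing `PSL₂(q)` -/
def ConclG (F : Type*) [Field F] [Fintype F] (M : Subgroup (Matrix.ProjGenLinGroup (Fin 2) F)) :
    Prop :=
    Nat.card M = Fintype.card F * (Fintype.card F - 1) ∨
    (Fintype.card F ≠ 5 ∧ Nonempty (M ≃* DihedralGroup (Fintype.card F - 1))) ∨
    Nonempty (M ≃* DihedralGroup (Fintype.card F + 1)) ∨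
    ((Fintype.card F).Prime ∧ (Fintype.card F % 8 = 3 ∨ Fintype.card F % 8 = 5) ∧ Nonempty (M ≃* Equiv.Perm (Fin 4))) ∨
    (∃ (F₀ : Type) (_ : Field F₀) (_ : Fintype F₀) (r : ℕ), r.Prime ∧ Odd r ∧ Fintype.card F = Fintype.card F₀ ^ r ∧
        Nonempty (M ≃* Matrix.ProjGenLinGroup (Fin 2) F₀))

/-- the subgroup corresponding to `M ⊓ L` has index two -/
theorem index_corr (hodd : Odd (Fintype.card F)) (M : Subgroup GG) (hM : IsCoatom M)
    (hML : ¬ Lsub F ≤ M) {H : Type*} [Group H] (e : M ≃* H) :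
    (corrSub M (Lsub F) e).index = 2 := by
  haveI := normal_Lsub (F := F) hodd
  rw [index_corrSub]
  exact relIndex_coatom (Lsub F) (index_Lsub hodd) hM hML

theorem A4_contra (hodd : Odd (Fintype.card F)) (M : Subgroup GG) (hM : IsCoatom M)
    (hML : ¬ Lsub F ≤ M) (e : M ≃* alternatingGroup (Fin 4)) : False :=
  no_index_two_A4 _ (index_corr hodd M hM hML e)

theorem A5_contra (hodd : Odd (Fintype.card F)) (M : Subgroup GG) (hM : IsCoatom M)
    (hML : ¬ Lsub F ≤ M) (e : M ≃* alternatingGroup (Fin 5)) : False :=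
  no_index_two_A5 _ (index_corr hodd M hM hML e)

theorem PSL_contra (p : ℕ) (hp : Odd p) (hodd : Odd (Fintype.card F)) (M : Subgroup GG)
    (hM : IsCoatom M) (hML : ¬ Lsub F ≤ M) (K0 : Type*) [Field K0] [CharP K0 p]
    (e : M ≃* Matrix.ProjectiveSpecialLinearGroup (Fin 2) K0) : False :=
  no_index_two_PSL2 p hp _ (index_corr hodd M hM hML e)

/-- a four-group inside `M ⊓ L` lifts to a quaternion pair -/
theorem exists_quat_of_klein (h2 : (2 : F) ≠ 0) (M : Subgroup GG) (s t : GG) (hs : s ∈ M)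
    (ht : t ∈ M) (hsL : s ∈ Lsub F) (htL : t ∈ Lsub F) (hs1 : s ≠ 1) (ht1 : t ≠ 1)
    (hst : s ≠ t) (hs2 : s * s = 1) (ht2 : t * t = 1) (hc : s * t = t * s) :
    ∃ S T : SL(2, F), mkG (Matrix.SpecialLinearGroup.toGL S) ∈ M ∧
      mkG (Matrix.SpecialLinearGroup.toGL T) ∈ M ∧ S.1 * S.1 = -1 ∧ T.1 * T.1 = -1 ∧
      S.1 * T.1 = -(T.1 * S.1) := by
  obtain ⟨S, rfl⟩ := hsL
  obtain ⟨T, rfl⟩ := htL
  have hinj := Matrix.ProjectiveSpecialLinearGroup.toPGL_injective (n := Fin 2) (R := F)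
  have hS : (Matrix.ProjGenLinGroup.mk.comp Matrix.SpecialLinearGroup.toGL) S =
      Matrix.ProjectiveSpecialLinearGroup.toPGL (mkP S) := rfl
  have hT : (Matrix.ProjGenLinGroup.mk.comp Matrix.SpecialLinearGroup.toGL) T =
      Matrix.ProjectiveSpecialLinearGroup.toPGL (mkP T) := rfl
  rw [hS] at hs hs1 hst hs2 hc
  rw [hT] at ht ht1 hst ht2 hc
  obtain ⟨q1, q2, q3⟩ := quat_of_klein h2 S T
    (fun h => hs1 (by rw [h, map_one])) (fun h => ht1 (by rw [h, map_one]))
    (fun h => hst (by rw [h]))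
    (hinj (by rw [map_mul, hs2, map_one])) (hinj (by rw [map_mul, ht2, map_one]))
    (hinj (by rw [map_mul, map_mul, hc]))
  exact ⟨S, T, hs, ht, q1, q2, q3⟩

end Cfsg.Agent.Helper12.PGLMax
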