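import Mathlib
import Cfsg.Agent.Lib.Helper12.PGLMaxI

set_option autoImplicit false
set_option linter.unusedVariables false
set_option linter.unusedSectionVars false
set_option linter.style.haveILetI false

/-! Maximal subgroups of `PGL₂(q)`: a coatom meeting `L` in an abelian Sylow 2-subgroup. -/

namespace Cfsg.Agent.Helper12.PGLMax

open Cfsg.Agent.Helper12.MaxSub

variable {G : Type*} [Group G] (L : Subgroup G)

/-- a coatom normalizes its intersection with a normal subgroup -/
theorem le_normalizer_inf [Finite G] [hLn : L.Normal] (M : Subgroup G) :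
    M ≤ Subgroup.normalizer ((M ⊓ L : Subgroup G) : Set G) := by
  intro m hm
  apply Cfsg.Agent.Helper12.PBC.mem_normalizer_of_conj_mem
  intro x hx
  exact ⟨M.mul_mem (M.mul_mem hm hx.1) (M.inv_mem hm), hLn.conj_mem x hx.2 m⟩

/-- the order of the intersection of a coatom with `L` -/
theorem two_mul_card_inf [Finite G] [hLn : L.Normal] (hidx : L.index = 2) {M : Subgroup G}
    (hM : IsCoatom M) (hML : ¬ L ≤ M) : 2 * Nat.card (M ⊓ L : Subgroup G) = Nat.card M := by
  have h1 := Subgroup.card_mul_index (L.subgroupOf M)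
  have h2 : (L.subgroupOf M).index = 2 := relIndex_coatom L hidx hM hML
  have h3 : Nat.card (L.subgroupOf M) = Nat.card (M ⊓ L : Subgroup G) := by
    rw [← Subgroup.inf_subgroupOf_left L M]
    exact Nat.card_congr (Subgroup.subgroupOfEquivOfLe (inf_le_left : M ⊓ L ≤ M)).toEquiv
  rw [h2, h3] at h1
  omega

/-- subgroups of `L` normalizing `M ⊓ L`, when the latter is not normal, lie in it -/
theorem le_inf_of_le_normalizer [Finite G] [hLn : L.Normal] {M : Subgroup G} (hM : IsCoatom M)
    (hnn : ¬ (M ⊓ L : Subgroup G).Normal) (W : Subgroup G) (hWL : W ≤ L)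
    (hW : W ≤ Subgroup.normalizer ((M ⊓ L : Subgroup G) : Set G)) : W ≤ M ⊓ L := by
  rcases normalizer_eq_or_normal hM (le_normalizer_inf L M) with h | h
  · intro x hx
    exact ⟨h ▸ hW hx, hWL hx⟩
  · exact absurd h hnn

/-- a coatom cannot meet `L` in an abelian Sylow 2-subgroup of order at least four -/
theorem no_sylow_coatom [Finite G] [hLn : L.Normal] [IsSimpleGroup L] (hidx : L.index = 2)
    (hLnc : ∃ a ∈ L, ∃ b ∈ L, a * b ≠ b * a) {M : Subgroup G} (hM : IsCoatom M)
    (hML : ¬ L ≤ M) {a : ℕ} (hV : Nat.card (M ⊓ L : Subgroup G) = 2 ^ a) (ha : 2 ≤ a)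
    (hL : ¬ 2 ^ (a + 1) ∣ Nat.card L)
    (hc : ∀ x ∈ M ⊓ L, ∀ y ∈ M ⊓ L, x * y = y * x) : False := by
  haveI : Fact (Nat.Prime 2) := ⟨Nat.prime_two⟩
  set V : Subgroup G := M ⊓ L with hVdef
  have hV4 : 4 ≤ Nat.card V := by
    rw [hV]
    calc 4 = 2 ^ 2 := by norm_num
      _ ≤ 2 ^ a := Nat.pow_le_pow_right (by norm_num) ha
  have hnn : ¬ V.Normal := by
    intro hVn
    haveI := hVn
    have := card_le_two_of_normal_comm L hidx hLnc V hc
    omega
  -- work inside `L`
  set V' : Subgroup L := V.subgroupOf L with hV'def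
  have hV'c : Nat.card V' = 2 ^ a := by
    rw [← hV]
    exact Nat.card_congr (Subgroup.subgroupOfEquivOfLe (inf_le_right : M ⊓ L ≤ L)).toEquiv
  obtain ⟨P, hP⟩ := exists_sylow_eq V' hV'c hL
  have hPne : (P : Subgroup L) ≠ ⊥ := by
    intro h
    rw [hP] at h
    rw [h, Subgroup.card_bot] at hV'c
    omega
  have hcen : Subgroup.normalizer ((P : Subgroup L) : Set L) ≤
      Subgroup.centralizer ((P : Subgroup L) : Set L) := by
    rw [hP]
    intro y hy
    have hyV : (y : G) ∈ V := by
      have hle := le_inf_of_le_normalizer L hM hnn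
        ((Subgroup.normalizer (V' : Set L)).map L.subtype) ?_ ?_
      · exact hle ⟨y, hy, rfl⟩
      · rintro _ ⟨z, -, rfl⟩
        exact z.2
      · rintro _ ⟨z, hz, rfl⟩
        have hz : z ∈ Subgroup.normalizer (V' : Set L) := hz
        rw [Subgroup.mem_normalizer_iff] at hz ⊢
        intro h
        constructor
        · intro hh
          have h1 : (⟨h, hh.2⟩ : L) ∈ V' := Subgroup.mem_subgroupOf.2 hh
          have h2 := (hz _).1 h1
          exact Subgroup.mem_subgroupOf.1 h2
        · intro hh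
          have hhL : h ∈ L := by
            have h3 : h = (z : G)⁻¹ * ((z : G) * h * (z : G)⁻¹) * (z : G) := by group
            rw [h3]
            exact L.mul_mem (L.mul_mem (L.inv_mem z.2) hh.2) z.2
          have h1 : z * (⟨h, hhL⟩ : L) * z⁻¹ ∈ V' := Subgroup.mem_subgroupOf.2 hh
          have h2 := (hz _).2 h1
          exact Subgroup.mem_subgroupOf.1 h2
    rw [Subgroup.mem_centralizer_iff]
    intro v hv
    apply Subtype.ext
    exact hc _ (Subgroup.mem_subgroupOf.1 hv) _ hyV
  have htop := sylow_eq_top_of_normalizer_le_centralizer P hcen hPne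
  have hLp : IsPGroup 2 L := by
    have := P.2
    rw [htop] at this
    intro x
    obtain ⟨k, hk⟩ := this ⟨x, Subgroup.mem_top x⟩
    exact ⟨k, by simpa using congrArg Subtype.val hk⟩
  obtain ⟨x, hx, y, hy, hxy⟩ := hLnc
  have := comm_of_simple_pGroup hLp ⟨x, hx⟩ ⟨y, hy⟩
  exact hxy (congrArg Subtype.val this)

end Cfsg.Agent.Helper12.PGLMax
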