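import Mathlib
import Cfsg.Agent.Lib.Helper12.PGLMaxJ

set_option autoImplicit false
set_option linter.unusedVariables false
set_option linter.unusedSectionVars false
set_option linter.style.haveILetI false

/-! Maximal subgroups of `PGL₂(q)`: the commutative and dihedral cases. -/

namespace Cfsg.Agent.Helper12.PGLMax

open Matrix
open scoped MatrixGroups
open Cfsg.Agent.Helper12.MaxSub

variable {F : Type*} [Field F] [Fintype F]

local notation "GG" => Matrix.ProjGenLinGroup (Fin 2) F
local notation "mkG" => Matrix.ProjGenLinGroup.mk (n := Fin 2) (R := F)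

theorem comm_caseG (hodd : Odd (Fintype.card F)) (h3 : 3 < Fintype.card F) (M : Subgroup GG)
    (hM : IsCoatom M) (hML : ¬ Lsub F ≤ M) {H : Type*} [Group H] (e : M ≃* H)
    (hH : ∀ a b : H, a * b = b * a) : False := by
  haveI := normal_Lsub (F := F) hodd
  haveI := simple_Lsub (F := F) (by omega)
  refine no_comm_coatom' (Lsub F) (index_Lsub hodd) (four_dvd_card hodd) (noncomm_Lsub (by omega))
    hM hML ?_
  intro a ha b hb
  have h1 : e (⟨a, ha⟩ * ⟨b, hb⟩) = e (⟨b, hb⟩ * ⟨a, ha⟩) := by
    rw [map_mul, map_mul, hH]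
  exact congrArg Subtype.val (e.injective h1)

theorem cyclic_caseG (hodd : Odd (Fintype.card F)) (h3 : 3 < Fintype.card F) (M : Subgroup GG)
    (hM : IsCoatom M) (hML : ¬ Lsub F ≤ M) {H : Type*} [Group H] (e : M ≃* H)
    (hc : IsCyclic H) : False := by
  letI : CommGroup H := IsCyclic.commGroup
  exact comm_caseG hodd h3 M hM hML e mul_comm

/-- **a dihedral maximal subgroup of `PGL₂(q)` has order `2(q - 1)` or `2(q + 1)`** -/
theorem dihedral_coatomG (hodd : Odd (Fintype.card F)) (h3 : 3 < Fintype.card F)
    (M : Subgroup GG) (hM : IsCoatom M) (hML : ¬ Lsub F ≤ M) (k : ℕ) (hk3 : 3 ≤ k)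
    (e : M ≃* DihedralGroup k) :
    k = Fintype.card F - 1 ∨ k = Fintype.card F ∨ k = Fintype.card F + 1 := by
  haveI := normal_Lsub (F := F) hodd
  haveI := simple_Lsub (F := F) (by omega)
  have h2 := two_ne_zero_of_odd_card hodd
  set c : M := e.symm (DihedralGroup.r 1) with hc
  set x : GG := c.1 with hx
  have hec : e c = DihedralGroup.r 1 := e.apply_symm_apply _
  have hord : orderOf x = k := by
    rw [hx, Subgroup.orderOf_coe, ← MulEquiv.orderOf_eq e, hec, DihedralGroup.orderOf_r_one]
  set C := Subgroup.zpowers x with hC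
  have hCcard : Nat.card C = k := by rw [Nat.card_zpowers, hord]
  have hCM : C ≤ M := by
    rw [hC, Subgroup.zpowers_le]; exact c.2
  have hconj : ∀ m ∈ M, m * x * m⁻¹ = x ∨ m * x * m⁻¹ = x⁻¹ := by
    intro m hm
    have h1 := dihedral_conj k (e ⟨m, hm⟩)
    rw [← hec, ← map_inv, ← map_mul, ← map_mul, ← map_inv] at h1
    rcases h1 with h1 | h1
    · left
      have := congrArg Subtype.val (e.injective h1)
      simpa using this
    · right
      have := congrArg Subtype.val (e.injective h1)
      simpa using this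
  haveI : Finite C := inferInstance
  have hn : M ≤ Subgroup.normalizer (C : Set _) := by
    intro m hm
    apply Cfsg.Agent.Helper12.PBC.mem_normalizer_of_conj_mem
    intro y hy
    obtain ⟨n, rfl⟩ := Subgroup.mem_zpowers_iff.1 hy
    rw [← conj_zpow]
    rcases hconj m hm with h | h
    · rw [h]; exact Subgroup.zpow_mem _ (Subgroup.mem_zpowers x) n
    · rw [h]; exact Subgroup.zpow_mem _ (Subgroup.inv_mem _ (Subgroup.mem_zpowers x)) n
  have hCcomm : ∀ a ∈ C, ∀ b ∈ C, a * b = b * a := by
    intro a ha b hb
    obtain ⟨n, rfl⟩ := Subgroup.mem_zpowers_iff.1 ha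
    obtain ⟨m, rfl⟩ := Subgroup.mem_zpowers_iff.1 hb
    rw [← _root_.zpow_add, ← _root_.zpow_add, add_comm]
  have hcenM : Subgroup.centralizer (C : Set GG) ≤ M := by
    rcases centralizer_le_or_normal hM hn with h | h
    · exact h
    · exfalso
      haveI := h
      have := card_le_two_of_normal_comm (Lsub F) (index_Lsub hodd) (noncomm_Lsub (by omega)) C
        hCcomm
      omega
  -- the centralizer of `x` is `C`
  have hcen : Subgroup.centralizer {x} = C := by
    apply le_antisymm
    · intro y hy
      have hyC : y ∈ Subgroup.centralizer (C : Set GG) := by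
        rw [Subgroup.mem_centralizer_iff] at hy ⊢
        intro z hz
        obtain ⟨n, rfl⟩ := Subgroup.mem_zpowers_iff.1 hz
        have h1 : Commute x y := hy x rfl
        exact (h1.zpow_left n).eq
      have hyM := hcenM hyC
      rw [Subgroup.mem_centralizer_iff] at hy
      have h1 : e ⟨y, hyM⟩ * DihedralGroup.r 1 = DihedralGroup.r 1 * e ⟨y, hyM⟩ := by
        rw [← hec, ← map_mul, ← map_mul]
        congr 1
        apply Subtype.ext
        exact (hy x rfl).symm
      obtain ⟨n, hn'⟩ := dihedral_commute k hk3 _ h1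
      rw [← hec, ← map_pow] at hn'
      have h3' := congrArg Subtype.val (e.injective hn')
      have h4 : y = x ^ n := by simpa using h3'
      rw [h4]
      exact Subgroup.pow_mem _ (Subgroup.mem_zpowers x) n
    · intro y hy
      obtain ⟨n, rfl⟩ := Subgroup.mem_zpowers_iff.1 hy
      rw [Subgroup.mem_centralizer_iff]
      intro z hz
      rw [Set.mem_singleton_iff] at hz
      rw [hz]
      exact ((Commute.refl x).zpow_right n).eq
  obtain ⟨A, hA⟩ : ∃ A : GL (Fin 2) F, mkG A = x := QuotientGroup.mk_surjective x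
  have hxx : mkG A * mkG A ≠ 1 := by
    rw [hA, ← pow_two]
    intro h
    have := orderOf_dvd_of_pow_eq_one h
    rw [hord] at this
    have := Nat.le_of_dvd (by norm_num) this
    omega
  have h5 := card_centralizer_mk h2 A hxx
  rw [hA, hcen, hCcard] at h5
  exact h5

end Cfsg.Agent.Helper12.PGLMax
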