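import Mathlib
import Cfsg.Agent.Lib.Helper12.PGLMaxK

set_option autoImplicit false
set_option linter.unusedVariables false
set_option linter.unusedSectionVars false
set_option linter.style.haveILetI false

/-! Maximal subgroups of `PGL₂(q)`: the dihedral case. -/

namespace Cfsg.Agent.Helper12.PGLMax

open Matrix
open scoped MatrixGroups
open Cfsg.Agent.Helper12.MaxSub

variable {F : Type*} [Field F] [Fintype F]

local notation "GG" => Matrix.ProjGenLinGroup (Fin 2) F
local notation "mkG" => Matrix.ProjGenLinGroup.mk (n := Fin 2) (R := F)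

theorem not_dvd_half_sq {q : ℕ} (hq : q % 2 = 1) (h3 : 3 < q)
    (h : q ∣ (q ^ 2 + 1) / 2 ∨ q ∣ (q ^ 2 - 1) / 2) : False := by
  have hq2 : q ^ 2 % 2 = 1 := by rw [Nat.pow_mod, hq]
  have hqsq : q ∣ q ^ 2 := Dvd.intro_left (q ^ 1) (by ring)
  have hpos : 1 ≤ q ^ 2 := Nat.one_le_pow _ _ (by omega)
  rcases h with h | h
  · have h1 : q ∣ q ^ 2 + 1 := by
      have : (q ^ 2 + 1) / 2 * 2 = q ^ 2 + 1 := by omega
      rw [← this]
      exact Dvd.dvd.mul_right h 2
    have h2 : q ∣ 1 := (Nat.dvd_add_right hqsq).1 h1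
    have := Nat.le_of_dvd (by norm_num) h2
    omega
  · have h1 : q ∣ q ^ 2 - 1 := by
      have : (q ^ 2 - 1) / 2 * 2 = q ^ 2 - 1 := by omega
      rw [← this]
      exact Dvd.dvd.mul_right h 2
    have h2 : q ∣ q ^ 2 - (q ^ 2 - 1) := Nat.dvd_sub hqsq h1
    have h3' : q ^ 2 - (q ^ 2 - 1) = 1 := by omega
    rw [h3'] at h2
    have := Nat.le_of_dvd (by norm_num) h2
    omega

/-- the dihedral case -/
theorem dihedral_caseG (hodd : Odd (Fintype.card F)) (h3 : 3 < Fintype.card F)
    (M : Subgroup GG) (hM : IsCoatom M) (hML : ¬ Lsub F ≤ M) (k : ℕ)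
    (hk : k ∣ (Fintype.card F ^ 2 + 1) / 2 ∨ k ∣ (Fintype.card F ^ 2 - 1) / 2)
    (e : M ≃* DihedralGroup k) : ConclG F M := by
  haveI := normal_Lsub (F := F) hodd
  haveI := simple_Lsub (F := F) (by omega)
  have hq2 : Fintype.card F % 2 = 1 := Nat.odd_iff.1 hodd
  have hqq : 16 ≤ Fintype.card F ^ 2 := by
    calc 16 = 4 ^ 2 := by norm_num
      _ ≤ Fintype.card F ^ 2 := Nat.pow_le_pow_left (by omega) 2
  have hk0 : k ≠ 0 := by
    rintro rfl
    rcases hk with h | h
    · rw [zero_dvd_iff] at h; omega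
    · rw [zero_dvd_iff] at h; omega
  by_cases hk3 : 3 ≤ k
  swap
  · exfalso
    exact comm_caseG hodd h3 M hM hML e (dihedral_comm_small k (by omega))
  have hMc : Nat.card M = 2 * k := by
    rw [Nat.card_congr e.toEquiv, DihedralGroup.nat_card]
  rcases dihedral_coatomG hodd h3 M hM hML k hk3 e with h | h | h
  · by_cases h5 : Fintype.card F = 5
    · exfalso
      haveI : Fact (Nat.Prime 2) := ⟨Nat.prime_two⟩
      have hk4 : k = 4 := by omega
      have hL := two_mul_card_Lsub (F := F) hodd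
      rw [h5] at hL
      have hLc : Nat.card (Lsub F) = 60 := by omega
      have hV := two_mul_card_inf (Lsub F) (index_Lsub hodd) hM hML
      rw [hMc, hk4] at hV
      have hVc : Nat.card (M ⊓ Lsub F : Subgroup GG) = 2 ^ 2 := by omega
      refine no_sylow_coatom (Lsub F) (index_Lsub hodd) (noncomm_Lsub (by omega)) hM hML hVc
        le_rfl (by rw [hLc]; norm_num) ?_
      intro x hx y hy
      have := IsPGroup.commutative_of_card_eq_prime_sq hVc ⟨x, hx⟩ ⟨y, hy⟩
      exact congrArg Subtype.val this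
    · right; left
      subst h
      exact ⟨h5, ⟨e⟩⟩
  · exfalso
    subst h
    exact not_dvd_half_sq hq2 h3 hk
  · right; right; left
    subst h
    exact ⟨e⟩

end Cfsg.Agent.Helper12.PGLMax
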