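import Mathlib
import Cfsg.Agent.Lib.Helper12.PGLMaxL

set_option autoImplicit false
set_option linter.unusedVariables false
set_option linter.unusedSectionVars false
set_option linter.style.haveILetI false
set_option linter.unusedSimpArgs false

/-! The binary form of eigenvectors, and elements of order `p` of `PGL₂(F)`. -/

namespace Cfsg.Agent.Helper12.PGLMax

open Matrix
open scoped MatrixGroups
open Cfsg.Agent.Helper12.MaxSub
open Cfsg.Agent.Helper12 (IsScalar2 isScalar2_iff)

section qf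

variable {R S : Type*} [CommRing R] [CommRing S]

/-- the binary quadratic form whose zeros are the eigenvectors of `A` -/
def qf (A : Matrix (Fin 2) (Fin 2) R) (v0 v1 : R) : R :=
  A 1 0 * v0 ^ 2 + (A 1 1 - A 0 0) * v0 * v1 - A 0 1 * v1 ^ 2

theorem conj_adj_entry (s h : Matrix (Fin 2) (Fin 2) R) :
    (s * h * s.adjugate) 1 0 = qf h (s 1 1) (-s 1 0) := by
  simp [Matrix.mul_apply, Fin.sum_univ_two, Matrix.adjugate_fin_two, qf]
  ring

theorem adj_conj_entry (g A : Matrix (Fin 2) (Fin 2) R) :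
    (g.adjugate * A * g) 1 0 = qf A (g 0 0) (g 1 0) := by
  simp [Matrix.mul_apply, Fin.sum_univ_two, Matrix.adjugate_fin_two, qf, Matrix.vecMul,
    dotProduct]
  ring

theorem qf_smul (c : R) (A : Matrix (Fin 2) (Fin 2) R) (v0 v1 : R) :
    qf (c • A) v0 v1 = c * qf A v0 v1 := by
  simp [qf]
  ring

theorem qf_map (j : R →+* S) (A : Matrix (Fin 2) (Fin 2) R) (v0 v1 : R) :
    qf (j.mapMatrix A) (j v0) (j v1) = j (qf A v0 v1) := by
  simp [qf]

theorem qf_scale (μ : R) (A : Matrix (Fin 2) (Fin 2) R) (v0 v1 : R) :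
    qf A (μ * v0) (μ * v1) = μ ^ 2 * qf A v0 v1 := by
  simp [qf]
  ring

end qf

section orderp

variable {F : Type*} [Field F]

/-- zeros of the form of a nonscalar matrix with a double eigenvalue are rational -/
theorem rational_of_qf_eq_zero {E : Type*} [Field E] (j : F →+* E)
    (U : Matrix (Fin 2) (Fin 2) F) (hns : ¬ IsScalar2 U) (htr : U.trace = 2) (hdet : U.det = 1)
    (v0 v1 : E) (hv : v0 ≠ 0 ∨ v1 ≠ 0) (h : qf (j.mapMatrix U) v0 v1 = 0) :
    ∃ w0 w1 : F, (w0 ≠ 0 ∨ w1 ≠ 0) ∧ ∃ μ : E, μ ≠ 0 ∧ v0 = μ * j w0 ∧ v1 = μ * j w1 := by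
  rw [Matrix.trace_fin_two] at htr
  rw [Matrix.det_fin_two] at hdet
  have h11 : U 1 1 = 2 - U 0 0 := by linear_combination htr
  set a := U 0 0 - 1 with ha
  have ha0 : U 0 0 = 1 + a := by rw [ha]; ring
  have ha1 : U 1 1 = 1 - a := by rw [h11, ha0]; ring
  have hrel : a ^ 2 + U 0 1 * U 1 0 = 0 := by
    rw [ha0, ha1] at hdet
    linear_combination -hdet
  simp only [qf, RingHom.mapMatrix_apply, Matrix.map_apply] at h
  rw [ha0, ha1] at h
  by_cases h10 : U 1 0 = 0
  · have ha' : a = 0 := by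
      rw [h10, mul_zero, add_zero] at hrel
      exact eq_zero_of_pow_eq_zero hrel
    have h01 : U 0 1 ≠ 0 := by
      intro h01
      apply hns
      refine ⟨h01, h10, ?_⟩
      rw [ha0, ha1, ha']
      ring
    have hj01 : j (U 0 1) ≠ 0 := fun hh => h01 (j.injective (by rw [hh, map_zero]))
    rw [h10, ha'] at h
    have hv1 : v1 = 0 := by
      have h1 : j (U 0 1) * v1 ^ 2 = 0 := by
        have := h
        simp only [map_zero, map_one, map_add, map_sub, sub_zero, add_zero, zero_mul,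
          zero_add, sub_self] at this
        linear_combination -this
      rcases mul_eq_zero.1 h1 with h2 | h2
      · exact absurd h2 hj01
      · exact eq_zero_of_pow_eq_zero h2
    have hv0 : v0 ≠ 0 := by
      rcases hv with hv | hv
      · exact hv
      · exact absurd hv1 hv
    exact ⟨1, 0, Or.inl one_ne_zero, v0, hv0, by rw [map_one, mul_one], by rw [map_zero, mul_zero, hv1]⟩
  · have hj10 : j (U 1 0) ≠ 0 := fun hh => h10 (j.injective (by rw [hh, map_zero]))
    have hsq : (j (U 1 0) * v0 - j a * v1) ^ 2 = 0 := by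
      have hrel' : j a ^ 2 + j (U 0 1) * j (U 1 0) = 0 := by
        rw [← map_pow, ← map_mul, ← map_add, hrel, map_zero]
      simp only [map_one, map_add, map_sub] at h
      linear_combination j (U 1 0) * h + v1 ^ 2 * hrel'
    have hlin : j (U 1 0) * v0 = j a * v1 := by
      have := eq_zero_of_pow_eq_zero hsq
      linear_combination this
    have hv1 : v1 ≠ 0 := by
      intro hv1
      rw [hv1, mul_zero] at hlin
      rcases mul_eq_zero.1 hlin with h2 | h2
      · exact hj10 h2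
      · rcases hv with hv | hv
        · exact hv h2
        · exact hv hv1
    refine ⟨a, U 1 0, Or.inr h10, v1 / j (U 1 0), div_ne_zero hv1 hj10, ?_, ?_⟩
    · field_simp
      linear_combination hlin
    · field_simp

variable [Fintype F]

local notation "mkG" => Matrix.ProjGenLinGroup.mk (n := Fin 2) (R := F)

/-- an element of order `p` of `PGL₂(F)` is the image of a unipotent matrix -/
theorem exists_unipotent_rep (p : ℕ) [hp : Fact p.Prime] [CharP F p]
    (x : Matrix.ProjGenLinGroup (Fin 2) F) (hx1 : x ≠ 1) (hxp : x ^ p = 1) :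
    ∃ U : GL (Fin 2) F, mkG U = x ∧ ¬ IsScalar2 (U : Matrix (Fin 2) (Fin 2) F) ∧
      (U : Matrix (Fin 2) (Fin 2) F).trace = 2 ∧ (U : Matrix (Fin 2) (Fin 2) F).det = 1 := by
  obtain ⟨U0, rfl⟩ : ∃ A : GL (Fin 2) F, mkG A = x := QuotientGroup.mk_surjective x
  rw [← map_pow] at hxp
  have hs := scalar_of_mk_eq_one _ hxp
  rw [isScalar2_iff] at hs
  set μ := ((U0 ^ p : GL (Fin 2) F) : Matrix (Fin 2) (Fin 2) F) 0 0 with hμ
  have hμ0 : μ ≠ 0 := by
    intro h0
    have hd := Matrix.GeneralLinearGroup.det_ne_zero (U0 ^ p)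
    rw [hs, h0, zero_smul, Matrix.det_zero] at hd
    exact hd rfl
  obtain ⟨f, -, hf⟩ := FiniteField.card F p
  -- a `p`-th root of `μ`
  set l := μ ^ (p ^ ((f : ℕ) - 1)) with hl
  have hlp : l ^ p = μ := by
    rw [hl, ← pow_mul, ← pow_succ]
    have : (f : ℕ) - 1 + 1 = f := by have := f.pos; omega
    rw [this, ← hf, FiniteField.pow_card]
  have hl0 : l ≠ 0 := by
    intro h0
    rw [h0, zero_pow hp.out.ne_zero] at hlp
    exact hμ0 hlp.symm
  have hdet : (l⁻¹ • (U0 : Matrix (Fin 2) (Fin 2) F)).det ≠ 0 := by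
    rw [Matrix.det_smul]
    exact mul_ne_zero (pow_ne_zero _ (inv_ne_zero hl0)) (Matrix.GeneralLinearGroup.det_ne_zero U0)
  set U : GL (Fin 2) F := Matrix.GeneralLinearGroup.mkOfDetNeZero _ hdet with hU
  have hUc : (U : Matrix (Fin 2) (Fin 2) F) = l⁻¹ • (U0 : Matrix (Fin 2) (Fin 2) F) := rfl
  have hmk : mkG U = mkG U0 := mk_eq_mk_of_smul U0 U l⁻¹ hUc
  have hUp : (U : Matrix (Fin 2) (Fin 2) F) ^ p = 1 := by
    rw [hUc, smul_pow, inv_pow, hlp]
    have : (U0 : Matrix (Fin 2) (Fin 2) F) ^ p = μ • 1 := by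
      have h1 : ((U0 ^ p : GL (Fin 2) F) : Matrix (Fin 2) (Fin 2) F) =
          (U0 : Matrix (Fin 2) (Fin 2) F) ^ p := by simp
      rw [← h1]; exact hs
    rw [this, smul_smul, inv_mul_cancel₀ hμ0, one_smul]
  have hU1 : (U : Matrix (Fin 2) (Fin 2) F) ≠ 1 := by
    intro h1
    apply hx1
    rw [← hmk]
    have : U = 1 := Units.ext h1
    rw [this, map_one]
  obtain ⟨h1, h2, h3⟩ := Cfsg.Agent.Helper12.unipotent2_data _ p hUp hU1
  exact ⟨U, hmk, h1, h2, h3⟩

end orderp

end Cfsg.Agent.Helper12.PGLMax
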