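import Mathlib
import Cfsg.Agent.Lib.Helper12.PGLMaxM

set_option autoImplicit false
set_option linter.unusedVariables false
set_option linter.unusedSectionVars false
set_option linter.style.haveILetI false

/-! Maximal subgroups of `PGL₂(q)`: the Borel case. -/

namespace Cfsg.Agent.Helper12.PGLMax

open Matrix
open scoped MatrixGroups
open Cfsg.Agent.Helper12.MaxSub
open Cfsg.Agent.Helper12 (IsScalar2 isScalar2_iff)
open Cfsg.Agent.Helper28.SubfieldPSL2

variable {F : Type*} [Field F]

local notation "GG" => Matrix.ProjGenLinGroup (Fin 2) F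
local notation "mkG" => Matrix.ProjGenLinGroup.mk (n := Fin 2) (R := F)

/-- the image in `PGL₂(F)` of the upper triangular matrices -/
def Bor (F : Type*) [Field F] : Subgroup (Matrix.ProjGenLinGroup (Fin 2) F) :=
  (Cfsg.upperTriangularGL 2 F).map Matrix.ProjGenLinGroup.mk

theorem comap_Bor : (Bor F).comap mkG = Cfsg.upperTriangularGL 2 F := by
  unfold Bor
  rw [Subgroup.comap_map_eq, sup_eq_left, Matrix.ProjGenLinGroup.ker_mk,
    Matrix.GeneralLinearGroup.center_eq_range_scalar]
  rintro _ ⟨u, rfl⟩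
  rw [Cfsg.Agent.Helper12.mem_upperTriangularGL_two_iff, Matrix.GeneralLinearGroup.coe_scalar]
  simp

variable [Fintype F]

theorem card_Bor : Nat.card (Bor F) = Fintype.card F * (Fintype.card F - 1) := by
  have hsurj : Function.Surjective mkG := QuotientGroup.mk'_surjective _
  have h1 := card_comap_of_surjective mkG hsurj (Bor F)
  rw [comap_Bor, card_ker_mk, ← Nat.card_congr (Cfsg.Agent.Helper12.borelEquivGL (F := F)),
    Nat.card_prod, Nat.card_prod, Nat.card_units, Nat.card_eq_fintype_card] at h1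
  have hq : 2 ≤ Fintype.card F := Fintype.one_lt_card
  have hpos : 0 < Fintype.card F - 1 := by omega
  have h2 : (Fintype.card F * (Fintype.card F - 1)) * (Fintype.card F - 1) =
      Nat.card (Bor F) * (Fintype.card F - 1) := by
    rw [← h1]; ring
  exact (Nat.eq_of_mul_eq_mul_right hpos h2).symm

theorem Bor_ne_top : Bor F ≠ ⊤ := by
  intro h
  have h1 := card_Bor (F := F)
  rw [h, Subgroup.card_top, card_PGL2_eq] at h1
  have hq : 2 ≤ Fintype.card F := Fintype.one_lt_card
  have hpos : 0 < Fintype.card F * (Fintype.card F - 1) := by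
    have : 0 < Fintype.card F - 1 := by omega
    positivity
  have : Fintype.card F * (Fintype.card F - 1) * (Fintype.card F + 1) =
      Fintype.card F * (Fintype.card F - 1) * 1 := by rw [h1, mul_one]
  have := Nat.eq_of_mul_eq_mul_left hpos this
  omega

/-- a coatom fixing a rational point has order `q (q - 1)` -/
theorem card_of_fix (M : Subgroup GG) (hM : IsCoatom M) (w0 w1 : F) (hw : w0 ≠ 0 ∨ w1 ≠ 0)
    (h : ∀ A : GL (Fin 2) F, mkG A ∈ M → qf (A : Matrix (Fin 2) (Fin 2) F) w0 w1 = 0) :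
    Nat.card M = Fintype.card F * (Fintype.card F - 1) := by
  -- a matrix with first column `w`
  obtain ⟨g, hg0, hg1⟩ : ∃ g : GL (Fin 2) F, (g : Matrix (Fin 2) (Fin 2) F) 0 0 = w0 ∧
      (g : Matrix (Fin 2) (Fin 2) F) 1 0 = w1 := by
    by_cases hw0 : w0 = 0
    · have hw1 : w1 ≠ 0 := by
        rcases hw with hw | hw
        · exact absurd hw0 hw
        · exact hw
      refine ⟨Matrix.GeneralLinearGroup.mkOfDetNeZero !![w0, 1; w1, 0] ?_, ?_, ?_⟩
      · rw [Matrix.det_fin_two_of]
        simpa using hw1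
      · simp [Matrix.GeneralLinearGroup.mkOfDetNeZero]
      · simp [Matrix.GeneralLinearGroup.mkOfDetNeZero]
    · refine ⟨Matrix.GeneralLinearGroup.mkOfDetNeZero !![w0, 0; w1, 1] ?_, ?_, ?_⟩
      · rw [Matrix.det_fin_two_of]
        simpa using hw0
      · simp [Matrix.GeneralLinearGroup.mkOfDetNeZero]
      · simp [Matrix.GeneralLinearGroup.mkOfDetNeZero]
  have hle : M.map ((MulAut.conj (mkG g)⁻¹ : MulAut GG) : GG ≃* GG).toMonoidHom ≤ Bor F := by
    rintro _ ⟨x, hx, rfl⟩
    obtain ⟨A, rfl⟩ : ∃ A : GL (Fin 2) F, mkG A = x := QuotientGroup.mk_surjective x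
    have hq := h A hx
    change (MulAut.conj (mkG g)⁻¹) (mkG A) ∈ Bor F
    rw [MulAut.conj_apply, inv_inv, ← map_inv, ← map_mul, ← map_mul]
    refine ⟨g⁻¹ * A * g, ?_, rfl⟩
    change g⁻¹ * A * g ∈ Cfsg.upperTriangularGL 2 F
    rw [Cfsg.Agent.Helper12.mem_upperTriangularGL_two_iff]
    have hinv : ((g⁻¹ : GL (Fin 2) F) : Matrix (Fin 2) (Fin 2) F) =
        ((g : Matrix (Fin 2) (Fin 2) F).det)⁻¹ • (g : Matrix (Fin 2) (Fin 2) F).adjugate := by
      rw [Matrix.coe_units_inv, Matrix.inv_def, Ring.inverse_eq_inv']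
    rw [Matrix.GeneralLinearGroup.coe_mul, Matrix.GeneralLinearGroup.coe_mul, hinv,
      Matrix.smul_mul, Matrix.smul_mul, Matrix.smul_apply, adj_conj_entry, hg0, hg1, hq,
      smul_zero]
  obtain ⟨e⟩ := equiv_of_map_le (MulAut.conj (mkG g)⁻¹) hM hle Bor_ne_top
  rw [Nat.card_congr e.toEquiv, card_Bor]

end Cfsg.Agent.Helper12.PGLMax
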