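import Mathlib
import Cfsg.Agent.Lib.Helper12.PGLMaxN

set_option autoImplicit false
set_option linter.unusedVariables false
set_option linter.unusedSectionVars false
set_option linter.style.haveILetI false

/-! Maximal subgroups of `PGL₂(q)`: the Borel case, assembly. -/

namespace Cfsg.Agent.Helper12.PGLMax

open Matrix
open scoped MatrixGroups
open Cfsg.Agent.Helper12.MaxSub
open Cfsg.Agent.Helper12 (IsScalar2 isScalar2_iff)
open Cfsg.Agent.Helper28.SubfieldPSL2

variable {F : Type*} [Field F] [Fintype F]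

local notation "GG" => Matrix.ProjGenLinGroup (Fin 2) F
local notation "mkG" => Matrix.ProjGenLinGroup.mk (n := Fin 2) (R := F)

theorem card_map_Phi {E : Type*} [Field E] (j : F →+* E)
    (hsq : ∀ x : F, x ≠ 0 → IsSquare (j x)) (M : Subgroup GG) :
    Nat.card (M.map (Phi j hsq)) = Nat.card M :=
  (Nat.card_congr (M.equivMapOfInjective _ (Phi_injective j hsq)).toEquiv).symm

/-- the Borel case -/
theorem borel_caseG (p : ℕ) [hp : Fact p.Prime] [CharP F p] {E : Type*} [Field E] [Fintype E]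
    (j : F →+* E) (hsq : ∀ x : F, x ≠ 0 → IsSquare (j x)) (M : Subgroup GG) (hM : IsCoatom M)
    (hpd : p ∣ Nat.card (M.map (Phi j hsq))) (s : SL(2, E))
    (hs : ∀ h ∈ Cfsg.Agent.Helper11.Klein.preim (M.map (Phi j hsq)), (s * h * s⁻¹).1 1 0 = 0) :
    Nat.card M = Fintype.card F * (Fintype.card F - 1) := by
  set v0 : E := s.1 1 1 with hv0
  set v1 : E := -s.1 1 0 with hv1
  have hv : v0 ≠ 0 ∨ v1 ≠ 0 := by
    by_contra hcon
    push Not at hcon
    have hdet := s.2
    rw [Matrix.det_fin_two] at hdet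
    have h1 : s.1 1 1 = 0 := hcon.1
    have h2 : s.1 1 0 = 0 := by
      have := hcon.2
      rw [hv1, neg_eq_zero] at this
      exact this
    rw [h1, h2, mul_zero, mul_zero, sub_zero] at hdet
    exact zero_ne_one hdet
  have key : ∀ A : GL (Fin 2) F, mkG A ∈ M →
      qf (j.mapMatrix (A : Matrix (Fin 2) (Fin 2) F)) v0 v1 = 0 := by
    intro A hA
    have hmem : lift j hsq A ∈ Cfsg.Agent.Helper11.Klein.preim (M.map (Phi j hsq)) := by
      change (QuotientGroup.mk' _ (lift j hsq A)) ∈ M.map (Phi j hsq)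
      exact ⟨mkG A, hA, rfl⟩
    have h1 := hs _ hmem
    rw [Matrix.SpecialLinearGroup.coe_mul, Matrix.SpecialLinearGroup.coe_mul,
      Matrix.SpecialLinearGroup.coe_inv, conj_adj_entry, lift_coe, qf_smul] at h1
    rcases mul_eq_zero.1 h1 with h2 | h2
    · exact absurd h2 (sroot_ne_zero j hsq A)
    · exact h2
  -- an element of order `p`
  rw [card_map_Phi] at hpd
  obtain ⟨x, hx⟩ := exists_prime_orderOf_dvd_card' p hpd
  have hx1 : (x : GG) ≠ 1 := by
    intro h
    have : x = 1 := Subtype.ext h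
    rw [this, orderOf_one] at hx
    exact hp.out.one_lt.ne hx
  have hxp : (x : GG) ^ p = 1 := by
    have h1 : x ^ p = 1 := by rw [← hx]; exact pow_orderOf_eq_one _
    simpa using congrArg Subtype.val h1
  obtain ⟨U, hmk, hns, htr, hdet⟩ := exists_unipotent_rep p (x : GG) hx1 hxp
  have hUM : mkG U ∈ M := by rw [hmk]; exact x.2
  obtain ⟨w0, w1, hw, μ, hμ, e0, e1⟩ :=
    rational_of_qf_eq_zero j (U : Matrix (Fin 2) (Fin 2) F) hns htr hdet v0 v1 hv (key U hUM)
  apply card_of_fix M hM w0 w1 hw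
  intro A hA
  have h1 := key A hA
  rw [e0, e1, qf_scale, qf_map] at h1
  rcases mul_eq_zero.1 h1 with h2 | h2
  · exact absurd (eq_zero_of_pow_eq_zero h2) hμ
  · exact j.injective (by rw [h2, map_zero])

end Cfsg.Agent.Helper12.PGLMax
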