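import Mathlib
import Cfsg.Agent.Lib.Helper12.PGLMaxO

set_option autoImplicit false
set_option linter.unusedVariables false
set_option linter.unusedSectionVars false
set_option linter.style.haveILetI false

/-! Maximal subgroups of `PGL₂(q)`: the subfield case. -/

namespace Cfsg.Agent.Helper12.PGLMax

open Matrix
open scoped MatrixGroups
open Cfsg.Agent.Helper12.MaxSub
open Cfsg.Agent.Helper28.SubfieldPSL2

variable {F : Type*} [Field F] [Fintype F]

local notation "GG" => Matrix.ProjGenLinGroup (Fin 2) F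
local notation "mkG" => Matrix.ProjGenLinGroup.mk (n := Fin 2) (R := F)

/-- a subgroup of index two containing a subgroup of index two -/
theorem eq_of_le_of_index_two {H : Type*} [Group H] {A B : Subgroup H} (hAB : A ≤ B)
    (hA : A.index = 2) (hB : B.index = 2) : B = A := by
  have h1 := Subgroup.relIndex_mul_index hAB
  rw [hA, hB] at h1
  have h2 : A.relIndex B = 1 := by omega
  exact le_antisymm (Subgroup.relIndex_eq_one.1 h2) hAB

/-- the `PGL₂(q₀)` case -/
theorem PGL_sub_caseG (p : ℕ) [hp : Fact p.Prime] [CharP F p] (hodd : Odd (Fintype.card F))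
    (h3 : 3 < Fintype.card F) {f : ℕ} (hf : Fintype.card F = p ^ f)
    (M : Subgroup GG) (hM : IsCoatom M) (hML : ¬ Lsub F ≤ M)
    (K0 : Type) [Field K0] [Fintype K0] (r : ℕ) (hK0 : Fintype.card K0 ^ r = Fintype.card F)
    (e : M ≃* Matrix.ProjGenLinGroup (Fin 2) K0) : ConclG F M := by
  have h5 : 5 ≤ Fintype.card F := by
    have := Nat.odd_iff.1 hodd
    omega
  obtain ⟨hf0, hp2⟩ := prime_facts p hodd h5 hf
  have h2 := two_ne_zero_of_odd_card hodd
  obtain ⟨hr0, hodd0, hch, b, hb1, hb, hfbr⟩ := subfield_data p hodd h5 hf K0 r hK0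
  haveI := hch
  have hpodd : Odd p := Nat.odd_iff.2 hp2
  have hQodd : Odd (p ^ b) := by rw [← hb]; exact hodd0
  have hMc : Nat.card M = p ^ b * (p ^ b - 1) * (p ^ b + 1) := by
    rw [Nat.card_congr e.toEquiv, Cfsg.Agent.Helper12.PSL2Max.card_PGL2' K0 hb]
  have hq0 : 2 ≤ p ^ b := by
    calc 2 ≤ p := hp.out.two_le
      _ = p ^ 1 := (pow_one p).symm
      _ ≤ p ^ b := Nat.pow_le_pow_right hp.out.pos hb1
  by_cases hr1 : r = 1
  · exfalso
    subst hr1
    rw [mul_one] at hfbr
    subst hfbr
    apply hM.1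
    apply Subgroup.eq_top_of_card_eq
    rw [hMc, card_PGL2_eq, hf]
  by_cases hrp : r.Prime ∧ Odd r
  · right; right; right; right
    exact ⟨K0, _, _, r, hrp.1, hrp.2, hK0.symm, ⟨e⟩⟩
  exfalso
  have hr2 : 2 ≤ r := by omega
  -- the subgroup of index two
  set N := corrSub M (Lsub F) e with hNdef
  have hNidx : N.index = 2 := index_corr hodd M hM hML e
  have hNle : (Matrix.ProjectiveSpecialLinearGroup.toPGL (n := Fin 2) (R := K0)).range ≤ N :=
    toPGL_range_le p hpodd N hNidx
  have hNeq : N = (Matrix.ProjectiveSpecialLinearGroup.toPGL (n := Fin 2) (R := K0)).range := by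
    apply eq_of_le_of_index_two hNle _ hNidx
    rw [← Lsub_eq_range_toPGL]
    exact index_Lsub hodd0
  have hinj0 := Matrix.ProjectiveSpecialLinearGroup.toPGL_injective (n := Fin 2) (R := K0)
  -- the four-group
  obtain ⟨S, T, hSM, hTM, hS, hT, hST⟩ : ∃ S T : SL(2, F),
      mkG (Matrix.SpecialLinearGroup.toGL S) ∈ M ∧
      mkG (Matrix.SpecialLinearGroup.toGL T) ∈ M ∧ S.1 * S.1 = -1 ∧ T.1 * T.1 = -1 ∧
      S.1 * T.1 = -(T.1 * S.1) := by
    obtain ⟨s0, t0, hs1, ht1, hst, hs2, ht2, hc⟩ := exists_klein_PSL2 (K := K0) hodd0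
    set s : M := e.symm (Matrix.ProjectiveSpecialLinearGroup.toPGL s0) with hs
    set t : M := e.symm (Matrix.ProjectiveSpecialLinearGroup.toPGL t0) with ht
    have hes : e s = Matrix.ProjectiveSpecialLinearGroup.toPGL s0 := e.apply_symm_apply _
    have het : e t = Matrix.ProjectiveSpecialLinearGroup.toPGL t0 := e.apply_symm_apply _
    have hsL : (s : GG) ∈ Lsub F := by
      apply (mem_corrSub_iff (e := e) (s : GG) s.2).1
      change e s ∈ N
      rw [hes]
      exact hNle ⟨s0, rfl⟩
    have htL : (t : GG) ∈ Lsub F := by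
      apply (mem_corrSub_iff (e := e) (t : GG) t.2).1
      change e t ∈ N
      rw [het]
      exact hNle ⟨t0, rfl⟩
    apply exists_quat_of_klein h2 M (s : GG) (t : GG) s.2 t.2 hsL htL
    · intro h
      have h1 : s = 1 := Subtype.ext h
      rw [h1, map_one] at hes
      exact hs1 (hinj0 (by rw [← hes, map_one]))
    · intro h
      have h1 : t = 1 := Subtype.ext h
      rw [h1, map_one] at het
      exact ht1 (hinj0 (by rw [← het, map_one]))
    · intro h
      have h1 : s = t := Subtype.ext h
      rw [h1, het] at hes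
      exact hst (hinj0 hes.symm)
    · have : s * s = 1 := by
        apply e.injective
        rw [map_mul, hes, ← map_mul, hs2, map_one, map_one]
      exact congrArg Subtype.val this
    · have : t * t = 1 := by
        apply e.injective
        rw [map_mul, het, ← map_mul, ht2, map_one, map_one]
      exact congrArg Subtype.val this
    · have : s * t = t * s := by
        apply e.injective
        rw [map_mul, map_mul, hes, het, ← map_mul, hc, map_mul]
      exact congrArg Subtype.val this
  -- the traces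
  have htr : ∀ X : SL(2, F), mkG (Matrix.SpecialLinearGroup.toGL X) ∈ M →
      X.1.trace ^ (p ^ b) = X.1.trace := by
    intro X hX
    apply trace_of_ordCond h2 p b hQodd X
    have hXL : mkG (Matrix.SpecialLinearGroup.toGL X) ∈ Lsub F := ⟨X, rfl⟩
    have h1 : e ⟨_, hX⟩ ∈ N := (mem_corrSub_iff _ hX).2 hXL
    rw [hNeq] at h1
    obtain ⟨z, hz⟩ := h1
    have h3' := ordCond_PSL2 p hodd0 z
    rw [hb] at h3'
    have h4 : OrdCond (p ^ b) p (e ⟨_, hX⟩) := by
      rw [← hz]
      exact OrdCond.map _ h3'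
    have h5' : OrdCond (p ^ b) p (⟨_, hX⟩ : M) :=
      OrdCond.of_map e.toMonoidHom e.injective h4
    have h6 : OrdCond (p ^ b) p (mkG (Matrix.SpecialLinearGroup.toGL X)) :=
      OrdCond.map M.subtype h5'
    exact OrdCond.of_map (Matrix.ProjectiveSpecialLinearGroup.toPGL (n := Fin 2) (R := F))
      Matrix.ProjectiveSpecialLinearGroup.toPGL_injective h6
  by_cases hre : Even r
  · -- `M` lies in `L`
    obtain ⟨a, ha⟩ := hre
    have ha0 : a ≠ 0 := by omega
    obtain ⟨K, _, _, ι, g, hKc, hconj⟩ := rational_reduce p hodd hf (c := b * a)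
      (Nat.mul_ne_zero (by omega) ha0) (by rw [hfbr]; exact Nat.mul_dvd_mul_left b ⟨2, by omega⟩)
      M S T hSM hTM hS hT hST
      (fun X hX => by rw [pow_mul]; exact pow_pow_eq_self (htr X hX) a)
    have hcard : Fintype.card K ^ 2 = Fintype.card F := by
      rw [hKc, hf, hfbr, ha, ← pow_mul]
      congr 1; ring
    have hle := le_Lsub_of_conj_mem hodd ι (isSquare_of_even ι hodd even_two hcard) M g hconj
    haveI := normal_Lsub (F := F) hodd
    obtain ⟨x, hx, hxL⟩ := exists_notMem_of_coatom (Lsub F) (index_Lsub hodd) hM hML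
    exact hxL (hle hx)
  · -- `M` is too small
    rw [Nat.not_even_iff_odd] at hre
    have hnp : ¬ r.Prime := fun h => hrp ⟨h, hre⟩
    obtain ⟨a, har, ha2, halt⟩ := Nat.exists_dvd_of_not_prime2 hr2 hnp
    obtain ⟨K, _, _, ι, g, hKc, hconj⟩ := rational_reduce p hodd hf (c := b * a)
      (Nat.mul_ne_zero (by omega) (by omega)) (by rw [hfbr]; exact Nat.mul_dvd_mul_left b har)
      M S T hSM hTM hS hT hST
      (fun X hX => by rw [pow_mul]; exact pow_pow_eq_self (htr X hX) a)
    have hlt : Fintype.card K < Fintype.card F := by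
      rw [hKc, hf, hfbr]
      apply Nat.pow_lt_pow_right hp.out.one_lt
      exact Nat.mul_lt_mul_of_pos_left halt (by omega)
    obtain ⟨e'⟩ := equiv_of_conj_mem ι hlt M hM g hconj
    have hMc' : Nat.card M = p ^ (b * a) * (p ^ (b * a) - 1) * (p ^ (b * a) + 1) := by
      rw [Nat.card_congr e'.toEquiv, Cfsg.Agent.Helper12.PSL2Max.card_PGL2' K hKc]
    have hlt' : p ^ b < p ^ (b * a) := by
      apply Nat.pow_lt_pow_right hp.out.one_lt
      nlinarith
    have := Cfsg.Agent.Helper12.PSL2Max.ord_strict hq0 hlt'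
    omega

end Cfsg.Agent.Helper12.PGLMax
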