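import Mathlib
import Cfsg.Agent.Lib.Helper12.PGLMaxP

set_option autoImplicit false
set_option linter.unusedVariables false
set_option linter.unusedSectionVars false
set_option linter.style.haveILetI false

/-! Maximal subgroups of `PGL₂(q)`: the `S₄` case. -/

namespace Cfsg.Agent.Helper12.PGLMax

open Matrix
open scoped MatrixGroups
open Cfsg.Agent.Helper12.MaxSub
open Cfsg.Agent.Helper28.SubfieldPSL2

section abstract

variable {G : Type*} [Group G] (L : Subgroup G)

/-- normalizers inside a subgroup -/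
theorem coe_mem_normalizer_of_mem {V : Subgroup G} (hVL : V ≤ L) (z : L)
    (hz : z ∈ Subgroup.normalizer ((V.subgroupOf L : Subgroup L) : Set L)) :
    (z : G) ∈ Subgroup.normalizer (V : Set G) := by
  rw [Subgroup.mem_normalizer_iff] at hz ⊢
  intro h
  constructor
  · intro hh
    have h1 : (⟨h, hVL hh⟩ : L) ∈ V.subgroupOf L := Subgroup.mem_subgroupOf.2 hh
    have h2 := (hz _).1 h1
    exact Subgroup.mem_subgroupOf.1 h2
  · intro hh
    have hhL : h ∈ L := by
      have h3 : h = (z : G)⁻¹ * ((z : G) * h * (z : G)⁻¹) * (z : G) := by group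
      rw [h3]
      exact L.mul_mem (L.mul_mem (L.inv_mem z.2) (hVL hh)) z.2
    have h1 : z * (⟨h, hhL⟩ : L) * z⁻¹ ∈ V.subgroupOf L := Subgroup.mem_subgroupOf.2 hh
    have h2 := (hz _).2 h1
    exact Subgroup.mem_subgroupOf.1 h2

/-- a commutative 2-subgroup of `L` normalized by a coatom, which is not a Sylow subgroup of
`L`: the coatom meets `L` in a subgroup of order divisible by twice its order -/
theorem dvd_card_inf_of_normalizing [Finite G] [hLn : L.Normal] [IsSimpleGroup L]
    (hidx : L.index = 2) (hLnc : ∃ a ∈ L, ∃ b ∈ L, a * b ≠ b * a) {M : Subgroup G}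
    (hM : IsCoatom M) (V : Subgroup G) (hVL : V ≤ L)
    (hn : M ≤ Subgroup.normalizer (V : Set G)) {n : ℕ} (hV : Nat.card V = 2 ^ n) (hn2 : 2 ≤ n)
    (hc : ∀ x ∈ V, ∀ y ∈ V, x * y = y * x) (hdvd : 2 ^ (n + 1) ∣ Nat.card L) :
    2 ^ (n + 1) ∣ Nat.card (M ⊓ L : Subgroup G) := by
  have hV4 : 4 ≤ Nat.card V := by
    rw [hV]
    calc 4 = 2 ^ 2 := by norm_num
      _ ≤ 2 ^ n := Nat.pow_le_pow_right (by norm_num) hn2
  have hN : Subgroup.normalizer (V : Set G) = M := by
    rcases normalizer_eq_or_normal hM hn with h | h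
    · exact h
    · exfalso
      haveI := h
      have := card_le_two_of_normal_comm L hidx hLnc V hc
      omega
  set V' : Subgroup L := V.subgroupOf L with hV'def
  have hV'c : Nat.card V' = 2 ^ n := by
    rw [← hV]
    exact Nat.card_congr (Subgroup.subgroupOfEquivOfLe hVL).toEquiv
  obtain ⟨W', hW'c, -, hW'n⟩ := exists_normalizing_two V' hV'c hdvd
  have hWc : Nat.card (W'.map L.subtype) = 2 ^ (n + 1) := by
    rw [Subgroup.card_map_of_injective L.subtype_injective, hW'c]
  rw [← hWc]
  apply Subgroup.card_dvd_of_le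
  rintro _ ⟨z, hz, rfl⟩
  refine ⟨?_, z.2⟩
  rw [← hN]
  exact coe_mem_normalizer_of_mem L hVL z (hW'n hz)

end abstract

section V4S

/-- the normal four-group of `S₄` -/
def V4S : Subgroup (Equiv.Perm (Fin 4)) := V4.map (alternatingGroup (Fin 4)).subtype

theorem mem_V4S {y : Equiv.Perm (Fin 4)} :
    y ∈ V4S ↔ y ∈ alternatingGroup (Fin 4) ∧ y * y = 1 := by
  unfold V4S
  constructor
  · rintro ⟨z, hz, rfl⟩
    refine ⟨z.2, ?_⟩
    have := congrArg Subtype.val (mem_V4.1 hz)
    exact this
  · rintro ⟨h1, h2⟩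
    exact ⟨⟨y, h1⟩, mem_V4.2 (Subtype.ext h2), rfl⟩

instance V4S_normal : V4S.Normal := by
  constructor
  intro y hy g
  rw [mem_V4S] at hy ⊢
  refine ⟨(inferInstance : (alternatingGroup (Fin 4)).Normal).conj_mem y hy.1 g, ?_⟩
  calc g * y * g⁻¹ * (g * y * g⁻¹) = g * (y * y) * g⁻¹ := by group
    _ = 1 := by rw [hy.2, mul_one, mul_inv_cancel]

theorem card_V4S : Nat.card V4S = 4 := by
  unfold V4S
  rw [Subgroup.card_map_of_injective (Subgroup.subtype_injective _), card_V4]

theorem V4S_le : V4S ≤ alternatingGroup (Fin 4) := fun y hy => (mem_V4S.1 hy).1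

end V4S

variable {F : Type*} [Field F] [Fintype F]

local notation "GG" => Matrix.ProjGenLinGroup (Fin 2) F
local notation "mkG" => Matrix.ProjGenLinGroup.mk (n := Fin 2) (R := F)

/-- the `S₄` case -/
theorem S4_caseG (p : ℕ) [hp : Fact p.Prime] [CharP F p] (hodd : Odd (Fintype.card F))
    (h3 : 3 < Fintype.card F) {f : ℕ} (hf : Fintype.card F = p ^ f)
    (M : Subgroup GG) (hM : IsCoatom M) (hML : ¬ Lsub F ≤ M)
    (e : M ≃* Equiv.Perm (Fin 4)) : ConclG F M := by
  haveI := normal_Lsub (F := F) hodd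
  haveI := simple_Lsub (F := F) (by omega)
  have h5 : 5 ≤ Fintype.card F := by
    have := Nat.odd_iff.1 hodd
    omega
  obtain ⟨hf0, hp2⟩ := prime_facts p hodd h5 hf
  have h2 := two_ne_zero_of_odd_card hodd
  have hMc : Nat.card M = 24 := by
    rw [Nat.card_congr e.toEquiv, Cfsg.Agent.Helper12.PSL2Max.card_S4]
  have hNeq : corrSub M (Lsub F) e = alternatingGroup (Fin 4) :=
    Equiv.Perm.eq_alternatingGroup_of_index_eq_two (index_corr hodd M hM hML e)
  have hinf : Nat.card (M ⊓ Lsub F : Subgroup GG) = 12 := by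
    have := two_mul_card_inf (Lsub F) (index_Lsub hodd) hM hML
    omega
  -- the four-group
  set V := pullSub M e V4S with hVdef
  have hVM : V ≤ M := pullSub_le _ _ _
  have hVc : Nat.card V = 2 ^ 2 := by rw [hVdef, card_pullSub, card_V4S]; norm_num
  have hVL : V ≤ Lsub F := by
    intro x hx
    obtain ⟨hxM, hxV⟩ := mem_pullSub.1 hx
    apply (mem_corrSub_iff (e := e) x hxM).1
    rw [hNeq]
    exact V4S_le hxV
  by_cases hf1 : f = 1
  · subst hf1
    rw [pow_one] at hf
    right; right; right; left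
    refine ⟨by rw [hf]; exact hp.out, ?_, ⟨e⟩⟩
    by_contra hcon
    have hq8 : Fintype.card F % 8 = 1 ∨ Fintype.card F % 8 = 7 := by
      have := Nat.odd_iff.1 hodd
      omega
    have hL8 : 2 ^ (2 + 1) ∣ Nat.card (Lsub F) :=
      card_dvd_eight (two_mul_card_Lsub hodd) hq8
    haveI : Fact (Nat.Prime 2) := ⟨Nat.prime_two⟩
    have hcomm : ∀ x ∈ V, ∀ y ∈ V, x * y = y * x := by
      intro x hx y hy
      have := IsPGroup.commutative_of_card_eq_prime_sq hVc ⟨x, hx⟩ ⟨y, hy⟩
      exact congrArg Subtype.val this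
    have := dvd_card_inf_of_normalizing (Lsub F) (index_Lsub hodd) (noncomm_Lsub (by omega)) hM
      V hVL (pullSub_normal M e V4S) hVc le_rfl hcomm hL8
    rw [hinf] at this
    norm_num at this
  -- `f ≥ 2`: reduction to the prime field
  have hf2 : 2 ≤ f := by omega
  obtain ⟨S, T, hSM, hTM, hS, hT, hST⟩ : ∃ S T : SL(2, F),
      mkG (Matrix.SpecialLinearGroup.toGL S) ∈ M ∧
      mkG (Matrix.SpecialLinearGroup.toGL T) ∈ M ∧ S.1 * S.1 = -1 ∧ T.1 * T.1 = -1 ∧
      S.1 * T.1 = -(T.1 * S.1) := by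
    obtain ⟨s0, t0, hsA, htA, hs1, ht1, hst, hs2, ht2, hc⟩ := klein_S4
    set s : M := e.symm s0 with hs
    set t : M := e.symm t0 with ht
    have hes : e s = s0 := e.apply_symm_apply _
    have het : e t = t0 := e.apply_symm_apply _
    have hsL : (s : GG) ∈ Lsub F := by
      apply (mem_corrSub_iff (e := e) (s : GG) s.2).1
      change e s ∈ _
      rw [hes, hNeq]
      exact hsA
    have htL : (t : GG) ∈ Lsub F := by
      apply (mem_corrSub_iff (e := e) (t : GG) t.2).1
      change e t ∈ _
      rw [het, hNeq]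
      exact htA
    apply exists_quat_of_klein h2 M (s : GG) (t : GG) s.2 t.2 hsL htL
    · intro h
      have h1 : s = 1 := Subtype.ext h
      rw [h1, map_one] at hes
      exact hs1 hes.symm
    · intro h
      have h1 : t = 1 := Subtype.ext h
      rw [h1, map_one] at het
      exact ht1 het.symm
    · intro h
      have h1 : s = t := Subtype.ext h
      rw [h1, het] at hes
      exact hst hes.symm
    · have : s * s = 1 := by
        apply e.injective
        rw [map_mul, hes, hs2, map_one]
      exact congrArg Subtype.val this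
    · have : t * t = 1 := by
        apply e.injective
        rw [map_mul, het, ht2, map_one]
      exact congrArg Subtype.val this
    · have : s * t = t * s := by
        apply e.injective
        rw [map_mul, map_mul, hes, het, hc]
      exact congrArg Subtype.val this
  have hinjF := Matrix.ProjectiveSpecialLinearGroup.toPGL_injective (n := Fin 2) (R := F)
  have htr : ∀ X : SL(2, F), mkG (Matrix.SpecialLinearGroup.toGL X) ∈ M →
      X.1.trace ^ (p ^ 1) = X.1.trace := by
    intro X hX
    rw [pow_one]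
    have hXL : mkG (Matrix.SpecialLinearGroup.toGL X) ∈ Lsub F := ⟨X, rfl⟩
    have h1 : e ⟨_, hX⟩ ∈ corrSub M (Lsub F) e := (mem_corrSub_iff _ hX).2 hXL
    rw [hNeq] at h1
    apply trace_small_prime h2 p hp2 X
    rcases (ordCond_S4 (e ⟨_, hX⟩)).1 h1 with h | h
    · left
      apply hinjF
      rw [map_pow, map_one]
      exact pow_eq_one_of_equiv M e _ hX 2 h
    · right; left
      apply hinjF
      rw [map_pow, map_one]
      exact pow_eq_one_of_equiv M e _ hX 3 h
  obtain ⟨K, _, _, ι, g, hKc, hconj⟩ := rational_reduce p hodd hf (c := 1) one_ne_zero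
    (one_dvd f) M S T hSM hTM hS hT hST htr
  rw [pow_one] at hKc
  have hlt : Fintype.card K < Fintype.card F := by
    rw [hKc, hf]
    calc p = p ^ 1 := (pow_one p).symm
      _ < p ^ f := Nat.pow_lt_pow_right hp.out.one_lt (by omega)
  obtain ⟨e'⟩ := equiv_of_conj_mem ι hlt M hM g hconj
  exact PGL_sub_caseG p hodd h3 hf M hM hML K f (by rw [hKc, hf]) e'

end Cfsg.Agent.Helper12.PGLMax
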