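import Mathlib
import Cfsg.Agent.Lib.Helper12.PGLMaxQ

set_option autoImplicit false
set_option linter.unusedVariables false
set_option linter.unusedSectionVars false
set_option linter.style.haveILetI false

/-! Maximal subgroups of `PGL₂(q)`, `q` odd, not containing `PSL₂(q)`. -/

namespace Cfsg.Agent.Helper12.PGLMax

open Matrix
open scoped MatrixGroups
open Cfsg.Agent.Helper12.MaxSub
open Cfsg.Agent.Helper28.SubfieldPSL2

variable {F : Type*} [Field F] [Fintype F]

local notation "GG" => Matrix.ProjGenLinGroup (Fin 2) F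
local notation "mkG" => Matrix.ProjGenLinGroup.mk (n := Fin 2) (R := F)

/-- **maximal subgroups of `PGL₂(q)` not containing `PSL₂(q)`** -/
theorem main (hodd : Odd (Fintype.card F)) (h3 : 3 < Fintype.card F) (M : Subgroup GG)
    (hM : IsCoatom M) (hML : ¬ Lsub F ≤ M) : ConclG F M := by
  obtain ⟨p, hp⟩ := CharP.exists F
  haveI := hp
  haveI : Fact p.Prime := ⟨CharP.char_is_prime F p⟩
  obtain ⟨f, -, hf⟩ := FiniteField.card F p
  have h5 : 5 ≤ Fintype.card F := by
    have := Nat.odd_iff.1 hodd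
    omega
  obtain ⟨hf0, hp2⟩ := prime_facts p hodd h5 hf
  have hpodd : Odd p := Nat.odd_iff.2 hp2
  obtain ⟨E, _, _, j, hE⟩ := exists_quadratic_ext (F := F) p
  have hoddE : Odd (Fintype.card E) := by rw [hE]; exact hodd.pow
  have hsq : ∀ x : F, x ≠ 0 → IsSquare (j x) := isSquare_of_even j hoddE even_two hE.symm
  haveI : CharP E p := charP_of_injective_ringHom j.injective p
  have hfE : Fintype.card E = p ^ (2 * (f : ℕ)) := by
    rw [hE, hf, ← pow_mul, mul_comm]
  have hgcd := Cfsg.Agent.Helper12.PSL2Max.gcd_two_odd hoddE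
  have hD := Cfsg.Agent.Helper11.Dickson.dickson_refined (F := E) rfl p (M.map (Phi j hsq))
  rw [hgcd] at hD
  set eM := M.equivMapOfInjective _ (Phi_injective j hsq) with heM
  rcases hD with ⟨k, hk, (⟨hc, -⟩ | ⟨⟨e⟩⟩)⟩ | ⟨hpd, s, hs⟩ | ⟨⟨e⟩⟩ | ⟨⟨e⟩⟩ | ⟨⟨e⟩⟩ |
    ⟨K, _, _, m, hK, (⟨⟨e⟩⟩ | ⟨⟨e⟩⟩)⟩
  · exact (cyclic_caseG hodd h3 M hM hML eM hc).elim
  · rw [hE] at hk
    exact dihedral_caseG hodd h3 M hM hML k hk (eM.trans e)
  · left
    exact borel_caseG p j hsq M hM hpd s hs
  · exact (A4_contra hodd M hM hML (eM.trans e)).elim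
  · exact S4_caseG p hodd h3 hf M hM hML (eM.trans e)
  · exact (A5_contra hodd M hM hML (eM.trans e)).elim
  · exfalso
    have hm0 : m ≠ 0 := by
      rintro rfl
      rw [pow_zero, hE] at hK
      have : 16 ≤ Fintype.card F ^ 2 := by
        calc 16 = 4 ^ 2 := by norm_num
          _ ≤ Fintype.card F ^ 2 := Nat.pow_le_pow_left (by omega) 2
      omega
    haveI : CharP K p := charP_of_card_pow p K hm0 (hK.trans hfE)
    exact PSL_contra p hpodd hodd M hM hML K (eM.trans e)
  · by_cases hmodd : Odd m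
    · exfalso
      apply Cfsg.Agent.Helper28.SubfieldPSL2.not_dvd_of_odd hoddE hmodd hK
      rw [← Nat.card_congr e.toEquiv]
      exact Subgroup.card_subgroup_dvd_card _
    · rw [Nat.not_odd_iff_even] at hmodd
      obtain ⟨r, hr⟩ := hmodd
      have hKr : Fintype.card K ^ r = Fintype.card F := by
        have h1 : (Fintype.card K ^ r) ^ 2 = Fintype.card F ^ 2 := by
          rw [← hE, ← hK, hr, ← pow_mul]
          congr 1; ring
        exact Nat.pow_left_injective (by norm_num : 2 ≠ 0) h1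
      exact PGL_sub_caseG p hodd h3 hf M hM hML K r hKr (eM.trans e)

end Cfsg.Agent.Helper12.PGLMax
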