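import Mathlib
import Cfsg.Agent.Lib.Helper12.PGLMaxR

set_option autoImplicit false
set_option linter.unusedVariables false
set_option linter.unusedSectionVars false
set_option linter.style.haveILetI false

/-! Intersections of maximal subgroups of `PGL₂(q)` with `PSL₂(q)`: transfer and structure. -/

namespace Cfsg.Agent.Helper12.PGLInf

open Matrix
open scoped MatrixGroups
open Cfsg.Agent.Helper12.MaxSub
open Cfsg.Agent.Helper12.PGLMax

variable {F : Type*} [Field F]

local notation "GG" => Matrix.ProjGenLinGroup (Fin 2) F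
local notation "PP" => Matrix.ProjectiveSpecialLinearGroup (Fin 2) F
local notation "toP" => Matrix.ProjectiveSpecialLinearGroup.toPGL (n := Fin 2) (R := F)

/-- transfer of maximality from `PSL₂(F)` to the image `L` -/
theorem isCoatom_inf_subgroupOf (M : Subgroup GG) (h : IsCoatom (M.comap toP)) :
    IsCoatom ((M ⊓ Lsub F).subgroupOf (Lsub F)) := by
  have h1 := ((MulEquiv.mapSubgroup (equivL (F := F))).isCoatom_iff (M.comap toP)).2 h
  convert h1 using 1
  ext x
  rw [Subgroup.mem_subgroupOf]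
  constructor
  · intro hx
    refine ⟨(equivL (F := F)).symm x, ?_, (equivL (F := F)).apply_symm_apply x⟩
    change toP ((equivL (F := F)).symm x) ∈ M
    rw [← equivL_coe, (equivL (F := F)).apply_symm_apply]
    exact hx.1
  · rintro ⟨y, hy, rfl⟩
    refine ⟨?_, (equivL y).2⟩
    exact hy

theorem mem_Lsub_iff_range (x : GG) : x ∈ Lsub F ↔ ∃ y : PP, toP y = x := by
  rw [Lsub_eq_range_toPGL]
  rfl

/-- the case `L = ⊤` -/
theorem isCoatom_of_Lsub_top (hL : ∀ x : GG, x ∈ Lsub F) (M : Subgroup GG) (hM : IsCoatom M) :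
    IsCoatom ((M ⊓ Lsub F).subgroupOf (Lsub F)) := by
  constructor
  · intro h
    apply hM.1
    rw [eq_top_iff]
    intro x _
    have : (⟨x, hL x⟩ : Lsub F) ∈ (M ⊓ Lsub F).subgroupOf (Lsub F) := by rw [h]; trivial
    exact (Subgroup.mem_subgroupOf.1 this).1
  · intro K hK
    have hle : M ≤ K.map (Lsub F).subtype := by
      intro m hm
      refine ⟨⟨m, hL m⟩, hK.le ?_, rfl⟩
      exact Subgroup.mem_subgroupOf.2 ⟨hm, hL m⟩
    obtain ⟨k, hkK, hkD⟩ := SetLike.exists_of_lt hK
    have hne : M ≠ K.map (Lsub F).subtype := by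
      intro h
      apply hkD
      refine Subgroup.mem_subgroupOf.2 ⟨?_, k.2⟩
      rw [h]
      exact ⟨k, hkK, rfl⟩
    have htop := hM.2 _ (lt_of_le_of_ne hle hne)
    rw [eq_top_iff]
    intro x _
    have hx : (x : GG) ∈ K.map (Lsub F).subtype := by rw [htop]; trivial
    obtain ⟨k', hk', hk'x⟩ := hx
    have : k' = x := Subtype.ext hk'x
    rw [← this]
    exact hk'

section finite

variable [Fintype F]

theorem Lsub_top_of_even (heven : Fintype.card F % 2 = 0) (x : GG) : x ∈ Lsub F := by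
  obtain ⟨A, rfl⟩ : ∃ A : GL (Fin 2) F, Matrix.ProjGenLinGroup.mk A = x :=
    QuotientGroup.mk_surjective x
  rw [mk_mem_Lsub_iff]
  exact FiniteField.isSquare_of_char_two (FiniteField.even_card_iff_char_two.2 heven) _

theorem card_comap_toPGL (M : Subgroup GG) :
    Nat.card (M.comap toP) = Nat.card (M ⊓ Lsub F : Subgroup GG) := by
  have hinj := Matrix.ProjectiveSpecialLinearGroup.toPGL_injective (n := Fin 2) (R := F)
  have h1 := Subgroup.card_map_of_injective (K := M.comap toP) hinj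
  rw [← h1, Subgroup.map_comap_eq, Lsub_eq_range_toPGL, inf_comm]

theorem two_mul_card_comap (hodd : Odd (Fintype.card F)) (M : Subgroup GG) (hM : IsCoatom M)
    (hML : ¬ Lsub F ≤ M) : 2 * Nat.card (M.comap toP) = Nat.card M := by
  haveI := normal_Lsub (F := F) hodd
  rw [card_comap_toPGL]
  exact two_mul_card_inf (Lsub F) (index_Lsub hodd) hM hML

/-- a dihedral `M` meets `L` in a subgroup with an element of order `n / 2` -/
theorem exists_orderOf_of_dihedral (hodd : Odd (Fintype.card F)) (M : Subgroup GG) (n : ℕ)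
    (hn : Even n) (e : M ≃* DihedralGroup n) :
    ∃ y : PP, y ∈ M.comap toP ∧ orderOf y = n / 2 := by
  have hinj := Matrix.ProjectiveSpecialLinearGroup.toPGL_injective (n := Fin 2) (R := F)
  set z : M := e.symm (DihedralGroup.r 1) with hz
  have hez : e z = DihedralGroup.r 1 := e.apply_symm_apply _
  have hL : ((z ^ 2 : M) : GG) ∈ Lsub F := by
    rw [pow_two]
    exact Subgroup.mul_self_mem_of_index_two (index_Lsub hodd) (z : GG)
  obtain ⟨y, hy⟩ := (mem_Lsub_iff_range _).1 hL
  refine ⟨y, ?_, ?_⟩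
  · rw [Subgroup.mem_comap, hy]
    exact (z ^ 2).2
  · rw [← orderOf_injective toP hinj y, hy, Subgroup.orderOf_coe, ← MulEquiv.orderOf_eq e,
      map_pow, hez, orderOf_pow' _ (by norm_num : 2 ≠ 0), DihedralGroup.orderOf_r_one]
    obtain ⟨k, rfl⟩ := hn
    rcases Nat.eq_zero_or_pos k with rfl | hk
    · simp
    · have : Nat.gcd (k + k) 2 = 2 := by
        rw [← two_mul]
        exact Nat.gcd_eq_right (Dvd.intro _ rfl)
      rw [this]

set_option maxRecDepth 100000 in
theorem S4_pair : ∃ a b : Equiv.Perm (Fin 4), a ^ 3 = 1 ∧ b ^ 3 = 1 ∧ a * b ≠ b * a :=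
  ⟨Equiv.swap 0 1 * Equiv.swap 1 2, Equiv.swap 0 1 * Equiv.swap 1 3, by decide⟩

/-- an `M` of type `S₄` meets `L` in a subgroup with two non-commuting elements of order three -/
theorem exists_pair_of_S4 (hodd : Odd (Fintype.card F)) (M : Subgroup GG)
    (e : M ≃* Equiv.Perm (Fin 4)) :
    ∃ a b : PP, a ∈ M.comap toP ∧ b ∈ M.comap toP ∧ a ^ 3 = 1 ∧ b ^ 3 = 1 ∧ a * b ≠ b * a := by
  have hinj := Matrix.ProjectiveSpecialLinearGroup.toPGL_injective (n := Fin 2) (R := F)
  obtain ⟨a0, b0, ha0, hb0, hab0⟩ := S4_pair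
  set za : M := e.symm a0 with hza
  set zb : M := e.symm b0 with hzb
  have hza3 : za ^ 3 = 1 := by rw [hza, ← map_pow, ha0, map_one]
  have hzb3 : zb ^ 3 = 1 := by rw [hzb, ← map_pow, hb0, map_one]
  have hza3' : (za : GG) ^ 3 = 1 := by simpa using congrArg Subtype.val hza3
  have hzb3' : (zb : GG) ^ 3 = 1 := by simpa using congrArg Subtype.val hzb3
  have haL := mem_of_pow_odd (Lsub F) (index_Lsub hodd) (za : GG) 3 (by decide) hza3'
  have hbL := mem_of_pow_odd (Lsub F) (index_Lsub hodd) (zb : GG) 3 (by decide) hzb3'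
  obtain ⟨a, ha⟩ := (mem_Lsub_iff_range _).1 haL
  obtain ⟨b, hb⟩ := (mem_Lsub_iff_range _).1 hbL
  refine ⟨a, b, ?_, ?_, ?_, ?_, ?_⟩
  · rw [Subgroup.mem_comap, ha]; exact za.2
  · rw [Subgroup.mem_comap, hb]; exact zb.2
  · apply hinj; rw [map_pow, ha, hza3', map_one]
  · apply hinj; rw [map_pow, hb, hzb3', map_one]
  · intro h
    apply hab0
    have h1 : (za : GG) * zb = zb * za := by
      rw [← ha, ← hb, ← map_mul, ← map_mul, h]
    have h2 : za * zb = zb * za := Subtype.ext h1
    have h3 := congrArg e h2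
    rw [map_mul, map_mul] at h3
    simpa [hza, hzb] using h3

end finite

end Cfsg.Agent.Helper12.PGLInf
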