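import Mathlib
import Cfsg.Agent.Lib.Helper12.PGLInfA

set_option autoImplicit false
set_option linter.unusedVariables false
set_option linter.unusedSectionVars false
set_option linter.style.haveILetI false

/-! Intersections of maximal subgroups of `PGL₂(q)` with `PSL₂(q)`: properties of the possible
overgroups. -/

namespace Cfsg.Agent.Helper12.PGLInf

open Matrix
open scoped MatrixGroups
open Cfsg.Agent.Helper12.MaxSub
open Cfsg.Agent.Helper12.PGLMax

section abstract

variable {G : Type*} [Group G]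

theorem orderOf_le_five_A5 (H : Subgroup G) (e : H ≃* alternatingGroup (Fin 5)) (y : G)
    (hy : y ∈ H) : orderOf y ≤ 5 := by
  rcases ordCond_A5 (e ⟨y, hy⟩) with h | h | h
  · have := orderOf_le_of_pow_eq_one (by norm_num) (pow_eq_one_of_equiv H e y hy 2 h)
    omega
  · have := orderOf_le_of_pow_eq_one (by norm_num) (pow_eq_one_of_equiv H e y hy 3 h)
    omega
  · exact orderOf_le_of_pow_eq_one (by norm_num) (pow_eq_one_of_equiv H e y hy 5 h)

theorem orderOf_le_five_A4 (H : Subgroup G) (e : H ≃* alternatingGroup (Fin 4)) (y : G)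
    (hy : y ∈ H) : orderOf y ≤ 5 := by
  rcases ordCond_A4 (e ⟨y, hy⟩) with h | h
  · have := orderOf_le_of_pow_eq_one (by norm_num) (pow_eq_one_of_equiv H e y hy 2 h)
    omega
  · have := orderOf_le_of_pow_eq_one (by norm_num) (pow_eq_one_of_equiv H e y hy 3 h)
    omega

theorem orderOf_le_five_S4 (H : Subgroup G) (e : H ≃* Equiv.Perm (Fin 4)) (y : G)
    (hy : y ∈ H) : orderOf y ≤ 5 := by
  rcases (ordCond_S4 (e ⟨y, hy⟩)).2 with h | h | h
  · have := orderOf_le_of_pow_eq_one (by norm_num) (pow_eq_one_of_equiv H e y hy 2 h)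
    omega
  · have := orderOf_le_of_pow_eq_one (by norm_num) (pow_eq_one_of_equiv H e y hy 3 h)
    omega
  · have := orderOf_le_of_pow_eq_one (by norm_num) (pow_eq_one_of_equiv H e y hy 4 h)
    omega

theorem comm_of_cube_dihedral (k : ℕ) (a b : DihedralGroup k) (ha : a ^ 3 = 1) (hb : b ^ 3 = 1) :
    a * b = b * a := by
  have key : ∀ i : ZMod k, (DihedralGroup.sr i) ^ 3 ≠ 1 := by
    intro i h
    rw [pow_succ, pow_two, DihedralGroup.sr_mul_self, one_mul, DihedralGroup.one_def] at h
    cases h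
  cases a with
  | sr i => exact absurd ha (key i)
  | r i =>
    cases b with
    | sr j => exact absurd hb (key j)
    | r j =>
      rw [DihedralGroup.r_mul_r, DihedralGroup.r_mul_r, add_comm]

theorem comm_of_cube_of_dihedral (H : Subgroup G) (k : ℕ) (e : H ≃* DihedralGroup k) (a b : G)
    (ha : a ∈ H) (hb : b ∈ H) (ha3 : a ^ 3 = 1) (hb3 : b ^ 3 = 1) : a * b = b * a := by
  have h1 : e ⟨a, ha⟩ ^ 3 = 1 := by
    rw [← map_pow]
    have : (⟨a, ha⟩ : H) ^ 3 = 1 := Subtype.ext (by simpa using ha3)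
    rw [this, map_one]
  have h2 : e ⟨b, hb⟩ ^ 3 = 1 := by
    rw [← map_pow]
    have : (⟨b, hb⟩ : H) ^ 3 = 1 := Subtype.ext (by simpa using hb3)
    rw [this, map_one]
  have h3 := comm_of_cube_dihedral k _ _ h1 h2
  rw [← map_mul, ← map_mul] at h3
  exact congrArg Subtype.val (e.injective h3)

theorem no_index_two_of_A4 [Finite G] (H D : Subgroup G) (hDH : D ≤ H)
    (hcard : Nat.card H = 2 * Nat.card D) (e : H ≃* alternatingGroup (Fin 4)) : False := by
  apply no_index_two_A4 ((D.subgroupOf H).map (e : H →* alternatingGroup (Fin 4)))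
  rw [Subgroup.index_map_equiv]
  have h1 := Subgroup.card_mul_index (D.subgroupOf H)
  rw [Nat.card_congr (Subgroup.subgroupOfEquivOfLe hDH).toEquiv, hcard, mul_comm 2] at h1
  exact Nat.eq_of_mul_eq_mul_left Nat.card_pos h1

end abstract

section pgl

variable {K : Type*} [Field K] [Fintype K]

/-- elements of `PGL₂(q₀)`, `q₀` odd, have order at most `2 q₀` -/
theorem orderOf_le_PGL2 (p : ℕ) [hp : Fact p.Prime] [CharP K p] (hodd : Odd (Fintype.card K))
    (g : Matrix.ProjGenLinGroup (Fin 2) K) : orderOf g ≤ 2 * Fintype.card K := by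
  obtain ⟨z, hz⟩ := sq_mem_range_toPGL g
  have hq : 3 ≤ Fintype.card K := by
    have h1 : 2 ≤ Fintype.card K := Fintype.one_lt_card
    have := Nat.odd_iff.1 hodd
    omega
  have hpq : p ≤ Fintype.card K := by
    obtain ⟨b, hb1, hb⟩ := Cfsg.Agent.Helper12.PSL2Max.exists_card_eq_pow K p
    rw [hb]
    calc p = p ^ 1 := (pow_one p).symm
      _ ≤ p ^ b := Nat.pow_le_pow_right hp.out.pos hb1
  have key : ∀ n : ℕ, 0 < n → z ^ n = 1 → orderOf g ≤ 2 * n := by
    intro n hn h
    apply orderOf_le_of_pow_eq_one (by omega)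
    rw [pow_mul, pow_two, ← hz, ← map_pow, h, map_one]
  have hq2 := Nat.odd_iff.1 hodd
  rcases ordCond_PSL2 p hodd z with h | h | h
  · have := key _ (by omega) h
    omega
  · have := key _ (by omega) h
    omega
  · have := key _ hp.out.pos h
    omega

theorem orderOf_le_of_PGL2 {G : Type*} [Group G] (p : ℕ) [hp : Fact p.Prime] [CharP K p]
    (hodd : Odd (Fintype.card K)) (H : Subgroup G) (e : H ≃* Matrix.ProjGenLinGroup (Fin 2) K)
    (y : G) (hy : y ∈ H) : orderOf y ≤ 2 * Fintype.card K := by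
  have h1 : orderOf y = orderOf (e ⟨y, hy⟩) := by
    rw [MulEquiv.orderOf_eq e, ← Subgroup.orderOf_coe]
  rw [h1]
  exact orderOf_le_PGL2 p hodd _

end pgl

end Cfsg.Agent.Helper12.PGLInf
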