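import Mathlib
import Cfsg.Agent.Lib.Helper11.F4ICJ
import Cfsg.Agent.Lib.Lead.TwReeCard

/-!
# S2184 piece SURJ (helper12, for helper11): every element of `U ⊓ ²F₄(q)` is a twisted normal form (counting).
-/

set_option autoImplicit false
set_option linter.unusedSectionVars false
set_option linter.unusedSimpArgs false
set_option linter.unusedVariables false

namespace Cfsg.Agent.Helper11.F4I

open Cfsg Cfsg.Lie Cfsg.Agent.Lead.Chev Cfsg.Agent.Lead.Tw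

variable {K : Type*} [Field K] [Fintype K] [CharP K 2] {m : ℕ} (hK : Fintype.card K = 2 ^ (2 * m + 1))
  (hperf : ∀ x : K, ∃ y : K, y ^ 2 = x) (f : K ≃+* K) (hf : ∀ t, f t = t ^ (2 ^ m))
include hK hperf hf

/-! ### PIECE SURJ -/

theorem exists_NF (u : GL chevF4.Idx K) (hu : u ∈ chevF4.posUnipotent K ⊓ twistedF4 K (2 ^ m)) :
    ∃ t1 t2 u2 t3 t4 u4 t5 t6 u6 t7 t8 u8 : K, u = NF f t1 t2 u2 t3 t4 u4 t5 t6 u6 t7 t8 u8 := by
  classical
  have hcardU : Nat.card ↥(chevF4.posUnipotent K ⊓ twistedF4 K (2 ^ m)) = (2 ^ (2 * m + 1)) ^ 12 :=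
    F4.card_U hK hperf f hf
  have hcardK : Nat.card K = 2 ^ (2 * m + 1) := by rw [Nat.card_eq_fintype_card, hK]
  let D := K × K × K × K × K × K × K × K × K × K × K × K
  let φ : D → ↥(chevF4.posUnipotent K ⊓ twistedF4 K (2 ^ m)) := fun d =>
    ⟨NF f d.1 d.2.1 d.2.2.1 d.2.2.2.1 d.2.2.2.2.1 d.2.2.2.2.2.1 d.2.2.2.2.2.2.1 d.2.2.2.2.2.2.2.1
        d.2.2.2.2.2.2.2.2.1 d.2.2.2.2.2.2.2.2.2.1 d.2.2.2.2.2.2.2.2.2.2.1 d.2.2.2.2.2.2.2.2.2.2.2,
      NF_mem hK hperf f hf _ _ _ _ _ _ _ _ _ _ _ _⟩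
  have hφinj : Function.Injective φ := by
    rintro ⟨a1, a2, a3, a4, a5, a6, a7, a8, a9, a10, a11, a12⟩
      ⟨b1, b2, b3, b4, b5, b6, b7, b8, b9, b10, b11, b12⟩ h
    have h' := congrArg Subtype.val h
    simp only [φ] at h'
    obtain ⟨e1, e2, e3, e4, e5, e6, e7, e8, e9, e10, e11, e12⟩ := NF_inj f (hff hK f hf) h'
    subst e1 e2 e3 e4 e5 e6 e7 e8 e9 e10 e11 e12
    rfl
  have hcardD : Nat.card D = (2 ^ (2 * m + 1)) ^ 12 := by
    simp only [D, Nat.card_prod, hcardK]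
    ring
  have : Finite D := by
    apply Nat.finite_of_card_ne_zero
    rw [hcardD]
    positivity
  have : Finite ↥(chevF4.posUnipotent K ⊓ twistedF4 K (2 ^ m)) := by
    apply Nat.finite_of_card_ne_zero
    rw [hcardU]
    positivity
  have hφbij : Function.Bijective φ :=
    (Nat.bijective_iff_injective_and_card φ).2 ⟨hφinj, by rw [hcardD, hcardU]⟩
  obtain ⟨⟨a1, a2, a3, a4, a5, a6, a7, a8, a9, a10, a11, a12⟩, hd⟩ := hφbij.2 ⟨u, hu⟩
  refine ⟨a1, a2, a3, a4, a5, a6, a7, a8, a9, a10, a11, a12, ?_⟩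
  have := congrArg Subtype.val hd
  simpa [φ] using this.symm

end Cfsg.Agent.Helper11.F4I
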