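import Mathlib

/-!
# Numerics for the bound on nilpotent subgroups of symmetric groups

`nsV n = v₂(n!)`, `nsF n` = the maximal order of a nilpotent subgroup of `S_n`
(`2 ^ v₂(n!)`, times `3/2` when `n ≡ 3 mod 4`).
-/

set_option autoImplicit false

namespace Cfsg.Agent.Helper12.NilSym

open Nat

/-- `v₂(n!)`. -/
noncomputable def nsV (n : ℕ) : ℕ := padicValNat 2 n.factorial

/-- the bound. -/
noncomputable def nsF (n : ℕ) : ℕ := if n % 4 = 3 then 3 * 2 ^ (nsV n - 1) else 2 ^ nsV n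

theorem nsV_half (n : ℕ) : nsV n = n / 2 + nsV (n / 2) := by
  unfold nsV
  rw [← padicValNat_mul_div_factorial n (p := 2), padicValNat_factorial_mul, add_comm]

theorem padic_le_of_dvd (p : ℕ) [Fact p.Prime] {a b : ℕ} (hb : b ≠ 0) (h : a ∣ b) :
    padicValNat p a ≤ padicValNat p b :=
  (padicValNat_dvd_iff_le hb).mp (pow_padicValNat_dvd.trans h)

theorem nsV_add (a b : ℕ) : nsV a + nsV b ≤ nsV (a + b) := by
  unfold nsV
  rw [← padicValNat.mul (factorial_ne_zero a) (factorial_ne_zero b)]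
  exact padic_le_of_dvd 2 (factorial_ne_zero _) (Nat.factorial_mul_factorial_dvd_factorial_add a b)

theorem nsV_mono {a b : ℕ} (h : a ≤ b) : nsV a ≤ nsV b := by
  unfold nsV
  exact padic_le_of_dvd 2 (factorial_ne_zero _) (Nat.factorial_dvd_factorial h)

theorem nsV_lt {m : ℕ} (hm : m ≠ 0) : nsV m < m :=
  padicValNat_factorial_lt_of_ne_zero 2 hm

theorem nsV_zero : nsV 0 = 0 := by simp [nsV]

theorem nsV_one : nsV 1 = 0 := by simp [nsV]

/-- the residue factor. -/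
def nsC (r : ℕ) : ℕ := if r = 3 then 3 else if r = 2 then 2 else 1

theorem nsV_four (k r : ℕ) (hr : r < 4) :
    nsV (4 * k + r) = 3 * k + nsV k + (if 2 ≤ r then 1 else 0) := by
  rw [nsV_half (4 * k + r), nsV_half ((4 * k + r) / 2)]
  have h1 : (4 * k + r) / 2 = 2 * k + r / 2 := by omega
  have h2 : (4 * k + r) / 2 / 2 = k := by omega
  rw [h2, h1]
  split_ifs with h
  · have : r / 2 = 1 := by omega
    omega
  · have : r / 2 = 0 := by omega
    omega

theorem nsF_four (k r : ℕ) (hr : r < 4) :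
    nsF (4 * k + r) = 8 ^ k * 2 ^ nsV k * nsC r := by
  have h8 : (8 : ℕ) ^ k = 2 ^ (3 * k) := by
    rw [pow_mul]
    norm_num
  unfold nsF
  rw [nsV_four k r hr, h8]
  have hmod : (4 * k + r) % 4 = r := by omega
  rw [hmod]
  interval_cases r
  · simp [nsC, pow_add]
  · simp [nsC, pow_add]
  · simp [nsC, pow_add]
  · simp only [nsC, if_true]
    have : 3 * k + nsV k + (if 2 ≤ 3 then 1 else 0) - 1 = 3 * k + nsV k := by simp
    rw [this, pow_add]
    ring

theorem nsF_pos (n : ℕ) : 0 < nsF n := by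
  unfold nsF
  split_ifs <;> positivity

theorem two_pow_nsV_le (n : ℕ) : 2 ^ nsV n ≤ nsF n := by
  unfold nsF
  split_ifs with h
  · have hv : nsV n ≠ 0 := by
      obtain ⟨k, hk⟩ : ∃ k, n = 4 * k + 3 := ⟨n / 4, by omega⟩
      rw [hk, nsV_four k 3 (by norm_num)]
      simp
    obtain ⟨w, hw⟩ : ∃ w, nsV n = w + 1 := ⟨nsV n - 1, by omega⟩
    rw [hw, Nat.add_sub_cancel, pow_succ]
    omega
  · exact le_rfl

theorem nsF_eq_of_mod {n : ℕ} (h : n % 4 ≠ 3) : nsF n = 2 ^ nsV n := by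
  unfold nsF
  rw [if_neg h]

theorem nsC_le (r : ℕ) (hr : r < 4) : 1 ≤ nsC r ∧ nsC r ≤ 3 := by
  interval_cases r <;> simp [nsC]

/-- superadditivity of the bound. -/
theorem nsF_mul_le (a b : ℕ) : nsF a * nsF b ≤ nsF (a + b) := by
  obtain ⟨k, r, hr, rfl⟩ : ∃ k r, r < 4 ∧ a = 4 * k + r := ⟨a / 4, a % 4, by omega, by omega⟩
  obtain ⟨l, s, hs, rfl⟩ : ∃ l s, s < 4 ∧ b = 4 * l + s := ⟨b / 4, b % 4, by omega, by omega⟩
  rw [nsF_four k r hr, nsF_four l s hs]
  by_cases hrs : r + s < 4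
  · have e : 4 * k + r + (4 * l + s) = 4 * (k + l) + (r + s) := by ring
    rw [e, nsF_four (k + l) (r + s) hrs]
    have h1 : 2 ^ nsV k * 2 ^ nsV l ≤ 2 ^ nsV (k + l) := by
      rw [← pow_add]
      exact Nat.pow_le_pow_right (by norm_num) (nsV_add k l)
    have h2 : nsC r * nsC s ≤ nsC (r + s) := by
      interval_cases r <;> interval_cases s <;> simp [nsC] at hrs ⊢
    calc 8 ^ k * 2 ^ nsV k * nsC r * (8 ^ l * 2 ^ nsV l * nsC s)
        = 8 ^ (k + l) * (2 ^ nsV k * 2 ^ nsV l) * (nsC r * nsC s) := by ring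
      _ ≤ 8 ^ (k + l) * 2 ^ nsV (k + l) * nsC (r + s) := by gcongr
  · have e : 4 * k + r + (4 * l + s) = 4 * (k + l + 1) + (r + s - 4) := by omega
    rw [e, nsF_four (k + l + 1) (r + s - 4) (by omega)]
    have h1 : 2 ^ nsV k * 2 ^ nsV l ≤ 2 ^ nsV (k + l + 1) := by
      rw [← pow_add]
      exact Nat.pow_le_pow_right (by norm_num)
        ((nsV_add k l).trans (nsV_mono (Nat.le_succ _)))
    have h2 : nsC r * nsC s ≤ 8 * nsC (r + s - 4) := by
      interval_cases r <;> interval_cases s <;> simp [nsC] at hrs ⊢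
    calc 8 ^ k * 2 ^ nsV k * nsC r * (8 ^ l * 2 ^ nsV l * nsC s)
        = 8 ^ (k + l) * (2 ^ nsV k * 2 ^ nsV l) * (nsC r * nsC s) := by ring
      _ ≤ 8 ^ (k + l) * 2 ^ nsV (k + l + 1) * (8 * nsC (r + s - 4)) := by gcongr
      _ = 8 ^ (k + l + 1) * 2 ^ nsV (k + l + 1) * nsC (r + s - 4) := by ring

theorem nsF_zero : nsF 0 = 1 := by
  have := nsF_four 0 0 (by norm_num)
  simpa [nsV_zero, nsC] using this

theorem nsF_one : nsF 1 = 1 := by
  have := nsF_four 0 1 (by norm_num)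
  simpa [nsV_zero, nsC] using this

theorem nsF_mono {a b : ℕ} (h : a ≤ b) : nsF a ≤ nsF b := by
  obtain ⟨c, rfl⟩ := Nat.exists_eq_add_of_le h
  calc nsF a = nsF a * 1 := (mul_one _).symm
    _ ≤ nsF a * nsF c := Nat.mul_le_mul_left _ (nsF_pos c)
    _ ≤ nsF (a + c) := nsF_mul_le a c

end Cfsg.Agent.Helper12.NilSym
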