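import Mathlib
import Cfsg.Agent.Lib.Helper12.NilSymNum

/-!
# The Sylow `p`-subgroup of `S_{p^j}` is not larger than the bound
-/

set_option autoImplicit false

namespace Cfsg.Agent.Helper12.NilSym

open Nat

/-- `v_p((p^j)!)`. -/
noncomputable def nsA (p j : ℕ) : ℕ := padicValNat p (p ^ j).factorial

theorem nsA_zero (p : ℕ) : nsA p 0 = 0 := by simp [nsA]

theorem nsA_succ (p : ℕ) [Fact p.Prime] (j : ℕ) : nsA p (j + 1) = nsA p j + p ^ j := by
  unfold nsA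
  rw [pow_succ', padicValNat_factorial_mul]

theorem nsA_mul (p : ℕ) [Fact p.Prime] (j : ℕ) : (p - 1) * nsA p j + 1 = p ^ j := by
  have hp : 1 ≤ p := (Fact.out : p.Prime).one_lt.le
  induction j with
  | zero => simp [nsA_zero]
  | succ j ih =>
    rw [nsA_succ, mul_add, pow_succ']
    obtain ⟨q, rfl⟩ : ∃ q, p = q + 1 := ⟨p - 1, by omega⟩
    simp only [Nat.add_sub_cancel] at ih ⊢
    have : (q + 1) * (q + 1) ^ j = q * (q + 1) ^ j + (q + 1) ^ j := by ring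
    rw [this, ← ih]
    ring

theorem odd_le_two_pow (h : ℕ) (hh : 3 ≤ h) : 2 * h + 1 ≤ 2 ^ h := by
  induction h, hh using Nat.le_induction with
  | base => norm_num
  | succ h hh ih =>
    rw [pow_succ]
    omega

theorem pow_nsA_le_of_seven_le (p : ℕ) [Fact p.Prime] (hp : 7 ≤ p) (j : ℕ) :
    p ^ nsA p j ≤ nsF (p ^ j) := by
  have hodd : p % 2 = 1 := by
    rcases (Fact.out : p.Prime).eq_two_or_odd with h | h
    · omega
    · exact h
  obtain ⟨h, rfl⟩ : ∃ h, p = 2 * h + 1 := ⟨p / 2, by omega⟩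
  have h3 : 3 ≤ h := by omega
  have h1 := nsA_mul (2 * h + 1) j
  simp only [Nat.add_sub_cancel] at h1
  have h2 : h * nsA (2 * h + 1) j = (2 * h + 1) ^ j / 2 := by
    rw [← h1]
    have : 2 * h * nsA (2 * h + 1) j + 1 = 2 * (h * nsA (2 * h + 1) j) + 1 := by ring
    rw [this]
    omega
  calc (2 * h + 1) ^ nsA (2 * h + 1) j ≤ (2 ^ h) ^ nsA (2 * h + 1) j :=
        Nat.pow_le_pow_left (odd_le_two_pow h h3) _
    _ = 2 ^ ((2 * h + 1) ^ j / 2) := by rw [← pow_mul, h2]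
    _ ≤ 2 ^ nsV ((2 * h + 1) ^ j) := by
        apply Nat.pow_le_pow_right (by norm_num)
        rw [nsV_half ((2 * h + 1) ^ j)]
        exact Nat.le_add_right _ _
    _ ≤ nsF ((2 * h + 1) ^ j) := two_pow_nsV_le _

theorem pow_nsA_le_five [Fact (Nat.Prime 5)] (j : ℕ) : 5 ^ nsA 5 j ≤ nsF (5 ^ j) := by
  have h1 := nsA_mul 5 j
  have h1' : 4 * nsA 5 j + 1 = 5 ^ j := h1
  calc 5 ^ nsA 5 j ≤ 8 ^ nsA 5 j := Nat.pow_le_pow_left (by norm_num) _
    _ = 2 ^ (3 * nsA 5 j) := by rw [pow_mul]; norm_num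
    _ ≤ 2 ^ nsV (5 ^ j) := by
        apply Nat.pow_le_pow_right (by norm_num)
        rw [← h1', nsV_four (nsA 5 j) 1 (by norm_num)]
        omega
    _ ≤ nsF (5 ^ j) := two_pow_nsV_le _

theorem nsV_three_mul (m : ℕ) (hm : m ≠ 0) : 3 * nsV m + 1 ≤ nsV (3 * m) := by
  have h1 : nsV (2 * m) = m + nsV m := by
    rw [nsV_half (2 * m)]
    have : 2 * m / 2 = m := by omega
    rw [this]
  have h2 := nsV_add (2 * m) m
  have h3 := nsV_lt hm
  have e : 2 * m + m = 3 * m := by ring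
  rw [e] at h2
  omega

theorem nsA_three_succ [Fact (Nat.Prime 3)] (j : ℕ) : nsA 3 (j + 1) = 3 * nsA 3 j + 1 := by
  have h1 := nsA_mul 3 j
  have h1' : 2 * nsA 3 j + 1 = 3 ^ j := h1
  rw [nsA_succ, ← h1']
  ring

theorem three_aux [Fact (Nat.Prime 3)] (j : ℕ) :
    3 ^ (nsA 3 (j + 2) + 1) ≤ 2 ^ (nsV (3 ^ (j + 2)) + 1) := by
  induction j with
  | zero =>
    have hA : nsA 3 2 = 4 := by
      rw [nsA_three_succ, nsA_three_succ, nsA_zero]
    have hV : nsV (3 ^ 2) = 7 := by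
      have e : (3 : ℕ) ^ 2 = 4 * 2 + 1 := by norm_num
      rw [e, nsV_four 2 1 (by norm_num)]
      have e2 : (2 : ℕ) = 4 * 0 + 2 := by norm_num
      have : nsV 2 = 1 := by
        rw [e2, nsV_four 0 2 (by norm_num), nsV_zero]
        simp
      rw [this]
      simp
    rw [hA, hV]
    norm_num
  | succ j ih =>
    have hA : nsA 3 (j + 1 + 2) = 3 * nsA 3 (j + 2) + 1 := nsA_three_succ (j + 2)
    have hV : 3 * nsV (3 ^ (j + 2)) + 1 ≤ nsV (3 ^ (j + 1 + 2)) := by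
      have := nsV_three_mul (3 ^ (j + 2)) (by positivity)
      have e : 3 * 3 ^ (j + 2) = 3 ^ (j + 1 + 2) := by ring
      rwa [e] at this
    rw [hA]
    obtain ⟨X, hX⟩ : ∃ X, X = 3 ^ (nsA 3 (j + 2) + 1) := ⟨_, rfl⟩
    obtain ⟨Y, hY⟩ : ∃ Y, Y = 2 ^ (nsV (3 ^ (j + 2)) + 1) := ⟨_, rfl⟩
    rw [← hX, ← hY] at ih
    have h1 : 3 * 3 ^ (3 * nsA 3 (j + 2) + 1 + 1) = X ^ 3 := by
      rw [hX, ← pow_mul, ← pow_succ']
      congr 1
      omega
    have h2 : Y ^ 3 ≤ 4 * 2 ^ nsV (3 ^ (j + 1 + 2)) := by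
      rw [hY, ← pow_mul]
      have : (4 : ℕ) * 2 ^ nsV (3 ^ (j + 1 + 2)) = 2 ^ (nsV (3 ^ (j + 1 + 2)) + 2) := by
        rw [pow_add]; ring
      rw [this]
      apply Nat.pow_le_pow_right (by norm_num)
      omega
    have h3 : X ^ 3 ≤ Y ^ 3 := Nat.pow_le_pow_left ih 3
    have h4 : 3 * 3 ^ (3 * nsA 3 (j + 2) + 1 + 1) ≤ 4 * 2 ^ nsV (3 ^ (j + 1 + 2)) := by
      rw [h1]; exact h3.trans h2
    rw [pow_succ 2 (nsV (3 ^ (j + 1 + 2)))]
    omega

theorem pow_nsA_le_three [Fact (Nat.Prime 3)] (j : ℕ) (hj : 1 ≤ j) : 3 ^ nsA 3 j ≤ nsF (3 ^ j) := by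
  rcases Nat.lt_or_ge j 2 with h | h
  · have hj1 : j = 1 := by omega
    subst hj1
    have hA : nsA 3 1 = 1 := by rw [nsA_three_succ, nsA_zero]
    have hF : nsF (3 ^ 1) = 3 := by
      have e : (3 : ℕ) ^ 1 = 4 * 0 + 3 := by norm_num
      rw [e, nsF_four 0 3 (by norm_num), nsV_zero]
      simp [nsC]
    rw [hA, hF]
    norm_num
  · obtain ⟨i, rfl⟩ : ∃ i, j = i + 2 := ⟨j - 2, by omega⟩
    have h1 := three_aux i
    rw [pow_succ, pow_succ] at h1
    have h2 : 3 ^ nsA 3 (i + 2) ≤ 2 ^ nsV (3 ^ (i + 2)) := by omega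
    exact h2.trans (two_pow_nsV_le _)

/-- The numeric comparison for transitive `p`-groups. -/
theorem pow_nsA_le (p : ℕ) [hp : Fact p.Prime] (j : ℕ) (hj : 1 ≤ j) :
    p ^ nsA p j ≤ nsF (p ^ j) := by
  rcases Nat.lt_or_ge p 7 with h | h
  · have h2 := hp.out.two_le
    interval_cases p
    · exact two_pow_nsV_le _
    · exact pow_nsA_le_three j hj
    · exact absurd hp.out (by norm_num)
    · exact pow_nsA_le_five j
    · exact absurd hp.out (by norm_num)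
  · exact pow_nsA_le_of_seven_le p h j

end Cfsg.Agent.Helper12.NilSym
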