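import Mathlib
import Cfsg.Agent.Lib.Helper12.NilSymNum2
import Cfsg.Agent.Lib.Helper24.NilpotentSplit

/-!
# Nilpotent groups acting faithfully on `n` points have order at most `nsF n`
-/

set_option autoImplicit false

namespace Cfsg.Agent.Helper12.NilSym

open MulAction

/-- transitive `p`-groups. -/
theorem pgroup_bound {G : Type} [Group G] [Finite G] {α : Type} [Finite α] [MulAction G α]
    [FaithfulSMul G α] [IsPretransitive G α] (p : ℕ) [Fact p.Prime] (k : ℕ)
    (hG : Nat.card G = p ^ k) (hn : 2 ≤ Nat.card α) : Nat.card G ≤ nsF (Nat.card α) := by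
  have hp : p.Prime := Fact.out
  have hne : Nonempty α := by
    by_contra h
    rw [not_nonempty_iff] at h
    rw [Nat.card_of_isEmpty] at hn
    omega
  obtain ⟨a⟩ := hne
  have h1 : Nat.card α ∣ p ^ k := by
    rw [← hG, ← MulAction.index_stabilizer_of_transitive G a]
    exact Subgroup.index_dvd_card _
  obtain ⟨j, -, hj⟩ := (Nat.dvd_prime_pow hp).mp h1
  have hj1 : 1 ≤ j := by
    rcases Nat.eq_zero_or_pos j with h | h
    · rw [hj, h, pow_zero] at hn
      omega
    · exact h
  have h2 : Nat.card G ∣ (Nat.card α).factorial := by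
    rw [← Nat.card_perm]
    exact Subgroup.card_dvd_of_injective (MulAction.toPermHom G α) MulAction.toPerm_injective
  rw [hG, hj] at h2
  have h3 : k ≤ nsA p j := (padicValNat_dvd_iff_le (Nat.factorial_ne_zero _)).mp h2
  rw [hG, hj]
  exact (Nat.pow_le_pow_right hp.pos h3).trans (pow_nsA_le p j hj1)

theorem normal_of_comm_prod {G : Type*} [Group G] (A B : Subgroup G)
    (hcomm : ∀ x ∈ A, ∀ y ∈ B, x * y = y * x) (hprod : ∀ g : G, ∃ x ∈ A, ∃ y ∈ B, g = y * x) :
    A.Normal := by
  constructor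
  intro n hn g
  obtain ⟨x, hx, y, hy, rfl⟩ := hprod g
  have h1 : y * x * n * (y * x)⁻¹ = y * (x * n * x⁻¹) * y⁻¹ := by group
  have hm : x * n * x⁻¹ ∈ A := A.mul_mem (A.mul_mem hx hn) (A.inv_mem hx)
  rw [h1, ← hcomm _ hm y hy, mul_assoc, mul_inv_cancel, mul_one]
  exact hm

theorem faithful_orbit {G : Type*} [Group G] {α : Type*} [MulAction G α] [FaithfulSMul G α]
    [IsPretransitive G α] (A B : Subgroup G) (hcomm : ∀ x ∈ A, ∀ y ∈ B, x * y = y * x)
    (hprod : ∀ g : G, ∃ x ∈ A, ∃ y ∈ B, g = y * x) (a : α) :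
    FaithfulSMul A (orbit A a) := by
  constructor
  intro x x' h
  apply Subtype.ext
  apply eq_of_smul_eq_smul (α := α)
  intro c
  obtain ⟨g, rfl⟩ := MulAction.exists_smul_eq G a c
  obtain ⟨u, hu, y, hy, rfl⟩ := hprod g
  have hb : u • a ∈ orbit A a := ⟨⟨u, hu⟩, rfl⟩
  have h1 := congrArg Subtype.val (h ⟨u • a, hb⟩)
  rw [MulAction.orbit.coe_smul, MulAction.orbit.coe_smul] at h1
  simp only [Subgroup.smul_def] at h1
  have e1 : (x : G) • (y * u) • a = y • ((x : G) • u • a) := by
    rw [smul_smul, smul_smul, smul_smul, ← mul_assoc, hcomm x x.2 y hy, mul_assoc]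
  have e2 : (x' : G) • (y * u) • a = y • ((x' : G) • u • a) := by
    rw [smul_smul, smul_smul, smul_smul, ← mul_assoc, hcomm x' x'.2 y hy, mul_assoc]
  rw [e1, e2, h1]

theorem card_orbit_dvd {G : Type*} [Group G] [Finite G] {α : Type*} [MulAction G α]
    (A : Subgroup G) (a : α) : Nat.card (orbit A a) ∣ Nat.card A := by
  rw [Nat.card_coe_set_eq, ← MulAction.index_stabilizer]
  exact Subgroup.index_dvd_card _

theorem card_orbit_dvd_of_normal {G : Type*} [Group G] {α : Type*} [MulAction G α]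
    [IsPretransitive G α] (A : Subgroup G) [A.Normal] (a : α) :
    Nat.card (orbit A a) ∣ Nat.card α := by
  rw [Nat.card_coe_set_eq]
  exact (IsBlock.orbit_of_normal (N := A) a).ncard_dvd_card ⟨a, mem_orbit_self a⟩

theorem two_le_card_orbit {G : Type*} [Group G] [Finite G] {α : Type*} [Finite α] [MulAction G α]
    (A : Subgroup G) (a : α) [FaithfulSMul A (orbit A a)] (hA : Nat.card A ≠ 1) :
    2 ≤ Nat.card (orbit A a) := by
  by_contra hlt
  push Not at hlt
  have hsub : Subsingleton (orbit A a) := by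
    rw [← Finite.card_le_one_iff_subsingleton]
    omega
  have : Subsingleton A := by
    constructor
    intro x y
    exact eq_of_smul_eq_smul (α := orbit A a) fun c => Subsingleton.elim _ _
  exact hA (Nat.card_eq_one_iff_unique.mpr ⟨this, ⟨1⟩⟩)

end Cfsg.Agent.Helper12.NilSym
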