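import Mathlib
import Cfsg.Agent.Lib.Helper12.NilSymMain

/-!
# Intransitive case and the full bound
-/

set_option autoImplicit false

namespace Cfsg.Agent.Helper12.NilSym

open MulAction

/-- the intransitive case of the induction. -/
theorem bound_intransitive (n : ℕ)
    (ih : ∀ m < n, ∀ (G : Type) [Group G] [Finite G] [Group.IsNilpotent G] (α : Type) [Finite α]
      [MulAction G α] [FaithfulSMul G α], Nat.card α = m → Nat.card G ≤ nsF m)
    (G : Type) [Group G] [Finite G] [Group.IsNilpotent G] (α : Type) [Finite α]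
    [MulAction G α] [FaithfulSMul G α] (a b : α) (hab : b ∉ orbit G a) (hα : Nat.card α = n) :
    Nat.card G ≤ nsF n := by
  classical
  let S₁ : SubMulAction G α :=
    { carrier := orbit G a
      smul_mem' := fun g x hx => by
        obtain ⟨h, rfl⟩ := hx
        exact ⟨g * h, by simp [mul_smul]⟩ }
  let S₂ : SubMulAction G α :=
    { carrier := (orbit G a)ᶜ
      smul_mem' := fun g x hx hgx => by
        apply hx
        obtain ⟨h, hh⟩ := hgx
        refine ⟨g⁻¹ * h, ?_⟩
        show (g⁻¹ * h) • a = x
        rw [mul_smul]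
        have : h • a = g • x := hh
        rw [this, inv_smul_smul] }
  have hmem₁ : ∀ x : α, x ∈ S₁ ↔ x ∈ orbit G a := fun x => Iff.rfl
  have hmem₂ : ∀ x : α, x ∈ S₂ ↔ x ∉ orbit G a := fun x => Iff.rfl
  have hsum : Nat.card S₁ + Nat.card S₂ = n := by
    haveI := Fintype.ofFinite α
    rw [← hα, Nat.card_eq_fintype_card, Nat.card_eq_fintype_card, Nat.card_eq_fintype_card]
    have e1 : Fintype.card S₁ = Fintype.card {x : α // x ∈ orbit G a} :=
      Fintype.card_congr (Equiv.refl _)
    have e2 : Fintype.card S₂ = Fintype.card {x : α // ¬ (x ∈ orbit G a)} :=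
      Fintype.card_congr (Equiv.refl _)
    rw [e1, e2]
    exact Fintype.card_subtype_compl (fun x => x ∈ orbit G a) ▸ by
      have := Fintype.card_subtype_le (fun x : α => x ∈ orbit G a)
      omega
  have h1 : 1 ≤ Nat.card S₁ := by
    haveI : Nonempty S₁ := ⟨⟨a, mem_orbit_self a⟩⟩
    exact Nat.card_pos
  have h2 : 1 ≤ Nat.card S₂ := by
    haveI : Nonempty S₂ := ⟨⟨b, hab⟩⟩
    exact Nat.card_pos
  obtain ⟨ρ, hρ⟩ : ∃ ρ : G →* Equiv.Perm S₁, ρ = MulAction.toPermHom G S₁ := ⟨_, rfl⟩
  have hGcard : Nat.card ρ.ker * Nat.card ρ.range = Nat.card G := by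
    rw [← Subgroup.index_ker]
    exact Subgroup.card_mul_index _
  -- the range acts faithfully on the orbit
  haveI nR : Group.IsNilpotent ρ.range :=
    nilpotent_of_surjective ρ.rangeRestrict ρ.rangeRestrict_surjective
  haveI FR : FaithfulSMul ρ.range S₁ := by
    constructor
    intro x y h
    apply Subtype.ext
    apply Equiv.ext
    intro s
    exact h s
  have bR : Nat.card ρ.range ≤ nsF (Nat.card S₁) :=
    ih _ (by omega) ρ.range S₁ rfl
  -- the kernel acts faithfully on the complement
  haveI FK : FaithfulSMul ρ.ker S₂ := by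
    constructor
    intro x y h
    apply Subtype.ext
    apply eq_of_smul_eq_smul (α := α)
    intro c
    by_cases hc : c ∈ orbit G a
    · have hx : ρ x.1 = 1 := x.2
      have hy : ρ y.1 = 1 := y.2
      have hx' := congrArg (fun σ => (σ ⟨c, hc⟩ : α)) hx
      have hy' := congrArg (fun σ => (σ ⟨c, hc⟩ : α)) hy
      simp only [hρ, MulAction.toPermHom_apply, MulAction.toPerm_apply, Equiv.Perm.coe_one, id_eq,
        SubMulAction.val_smul] at hx' hy'
      rw [hx', hy']
    · have := congrArg Subtype.val (h ⟨c, hc⟩)
      simpa [Subgroup.smul_def] using this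
  have bK : Nat.card ρ.ker ≤ nsF (Nat.card S₂) :=
    ih _ (by omega) ρ.ker S₂ rfl
  calc Nat.card G = Nat.card ρ.ker * Nat.card ρ.range := hGcard.symm
    _ ≤ nsF (Nat.card S₂) * nsF (Nat.card S₁) := Nat.mul_le_mul bK bR
    _ ≤ nsF (Nat.card S₂ + Nat.card S₁) := nsF_mul_le _ _
    _ = nsF n := by rw [add_comm, hsum]

/-- A finite nilpotent group acting faithfully on `n` points has order at most `nsF n`. -/
theorem bound : ∀ n : ℕ, ∀ (G : Type) [Group G] [Finite G] [Group.IsNilpotent G] (α : Type)
    [Finite α] [MulAction G α] [FaithfulSMul G α], Nat.card α = n → Nat.card G ≤ nsF n := by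
  intro n
  induction n using Nat.strong_induction_on with
  | _ n ih =>
    intro G _ _ _ α _ _ _ hα
    rcases Nat.lt_or_ge n 2 with hn | hn
    · haveI : Subsingleton α := by
        rw [← Finite.card_le_one_iff_subsingleton]
        omega
      rw [bound_trivial (G := G) (α := α)]
      exact nsF_pos n
    · by_cases ht : IsPretransitive G α
      · exact bound_transitive n hn ih G α hα
      · have : ∃ a b : α, b ∉ orbit G a := by
          by_contra hcon
          push Not at hcon
          apply ht
          constructor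
          intro x y
          exact hcon x y
        obtain ⟨a, b, hab⟩ := this
        exact bound_intransitive n ih G α a b hab hα

end Cfsg.Agent.Helper12.NilSym
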