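import Mathlib
import Cfsg.Agent.Lib.Helper11.UnitarySimple

set_option autoImplicit false

/-! Algebra of Siegel elements and transvections of the unitary group, and the set of matrices
of a subgroup of the special unitary group. -/

namespace Cfsg.Agent.Helper12.SUgen

open Matrix Cfsg.Agent.Helper11.Herm

section general

variable {F : Type*} [Field F] {ι : Type*} [Fintype ι] [DecidableEq ι] (φ : F →+* F)

theorem hdot_neg_left' (x z : ι → F) : hdot φ (-x) z = -hdot φ x z := by
  rw [show (-x) = (-1 : F) • x by simp, hdot_smul_left]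
  ring

theorem hdot_neg_right' (x z : ι → F) : hdot φ x (-z) = -hdot φ x z := by
  rw [show (-z) = (-1 : F) • z by simp, hdot_smul_right, map_neg, map_one]
  ring

/-- conjugation of a Siegel element by a unitary matrix -/
theorem isU_mul_sg {M : Matrix ι ι F} (hM : IsU φ M) (e w : ι → F) (s : F) :
    M * sg φ e w s = sg φ (M *ᵥ e) (M *ᵥ w) s * M := by
  rw [Matrix.ext_iff_mulVec]
  intro x
  rw [← Matrix.mulVec_mulVec, ← Matrix.mulVec_mulVec, sg_mulVec, sg_mulVec, Matrix.mulVec_add,
    Matrix.mulVec_add, Matrix.mulVec_smul, Matrix.mulVec_smul, hM.hdot_mulVec, hM.hdot_mulVec]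

theorem sg_shift (e w : ι → F) (a s : F) :
    sg φ e (w + a • e) s = sg φ e w (s + a - φ a) := by
  rw [Matrix.ext_iff_mulVec]
  intro x
  rw [sg_mulVec, sg_mulVec, hdot_add_right, hdot_smul_right]
  module

theorem sg_scale (hφφ : ∀ x, φ (φ x) = x) (a : F) (e w : ι → F) (s : F) :
    sg φ (a • e) w s = sg φ e (φ a • w) (a * φ a * s) := by
  rw [Matrix.ext_iff_mulVec]
  intro x
  rw [sg_mulVec, sg_mulVec, hdot_smul_right, hdot_smul_right, hφφ]
  module

theorem sg_swap (hφφ : ∀ x, φ (φ x) = x) (x y : ι → F) (a : F) :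
    sg φ x (a • y) 0 = sg φ y (-φ a • x) 0 := by
  rw [Matrix.ext_iff_mulVec]
  intro v
  rw [sg_mulVec, sg_mulVec, hdot_smul_right, hdot_smul_right, map_neg, hφφ]
  module

theorem sg_mul_tv (e w : ι → F) (s c : F) (he : hdot φ e e = 0) (hew : hdot φ e w = 0) :
    sg φ e w s * tv φ e c = sg φ e w (s + c) := by
  rw [Matrix.ext_iff_mulVec]
  intro x
  rw [← Matrix.mulVec_mulVec, tv_mulVec, sg_mulVec, sg_mulVec]
  simp only [hdot_add_left, hdot_smul_left, he, hew, mul_zero, add_zero]
  module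

theorem tv_mul_sg (e w : ι → F) (s c : F) (he : hdot φ e e = 0) (hwe : hdot φ w e = 0) :
    tv φ e c * sg φ e w s = sg φ e w (s + c) := by
  rw [Matrix.ext_iff_mulVec]
  intro x
  rw [← Matrix.mulVec_mulVec, tv_mulVec, sg_mulVec, sg_mulVec]
  simp only [hdot_add_left, hdot_smul_left, he, hwe, mul_zero, add_zero]
  module

theorem sg_zero_zero (e : ι → F) : sg φ e 0 0 = 1 := by
  rw [sg_zero, tv_zero_right]

theorem sg_mul_inv (e w : ι → F) (s : F) (he : hdot φ e e = 0) (hwe : hdot φ w e = 0)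
    (hew : hdot φ e w = 0) (hs : s + φ s + hdot φ w w = 0) :
    sg φ e w s * sg φ e (-w) (φ s) = 1 := by
  rw [sg_mul_sg φ e w (-w) s (φ s) he (by rw [show (-w) = (-1 : F) • w by simp, hdot_smul_left,
    hwe, mul_zero]) hew]
  rw [add_neg_cancel, show (-w) = (-1 : F) • w by simp, hdot_smul_left]
  have : s + φ s - -1 * hdot φ w w = 0 := by linear_combination hs
  rw [this, sg_zero_zero]

theorem sg_inv_mul (hφφ : ∀ x, φ (φ x) = x) (e w : ι → F) (s : F) (he : hdot φ e e = 0)
    (hwe : hdot φ w e = 0)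
    (hew : hdot φ e w = 0) (hs : s + φ s + hdot φ w w = 0) :
    sg φ e (-w) (φ s) * sg φ e w s = 1 := by
  have h := sg_mul_inv φ e (-w) (φ s) he
    (by rw [show (-w) = (-1 : F) • w by simp, hdot_smul_left, hwe, mul_zero])
    (by rw [show (-w) = (-1 : F) • w by simp, hdot_smul_right, hew, mul_zero])
    (by rw [hφφ, show (-w) = (-1 : F) • w by simp, hdot_smul_left, hdot_smul_right, map_neg,
      map_one]; linear_combination hs)
  rw [neg_neg, hφφ] at h
  exact h

theorem tv_mul_inv (v : ι → F) (c : F) (hv : hdot φ v v = 0) : tv φ v c * tv φ v (-c) = 1 := by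
  rw [tv_mul_tv φ v hv, add_neg_cancel, tv_zero_right]

theorem tv_inv_mul (v : ι → F) (c : F) (hv : hdot φ v v = 0) : tv φ v (-c) * tv φ v c = 1 := by
  rw [tv_mul_tv φ v hv, neg_add_cancel, tv_zero_right]

/-- transvection along a sum of two orthogonal isotropic vectors -/
theorem tv_add (e w : ι → F) (c : F) (he : hdot φ e e = 0) (hw : hdot φ w w = 0)
    (hwe : hdot φ w e = 0) (hew : hdot φ e w = 0) (hc : φ c = -c) :
    tv φ (e + w) c = tv φ e c * tv φ w c * sg φ e (c • w) 0 := by
  rw [Matrix.ext_iff_mulVec]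
  intro x
  rw [← Matrix.mulVec_mulVec, ← Matrix.mulVec_mulVec, sg_mulVec, tv_mulVec, tv_mulVec, tv_mulVec]
  simp only [hdot_add_left, hdot_add_right, hdot_smul_left, hdot_smul_right, he, hw, hwe, hew,
    mul_zero, add_zero, zero_mul, sub_zero, zero_sub, hc]
  module

/-- the key identity for the `SL₂(p)` trick: `w` isotropic and orthogonal to the hyperbolic
pair `e, f` -/
theorem mt_identity (e f w : ι → F) (κ : F) (hee : hdot φ e e = 0) (hff : hdot φ f f = 0)
    (hfe : hdot φ f e = 1) (hww : hdot φ w w = 0)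
    (hwe : hdot φ w e = 0) (hew : hdot φ e w = 0) (hfw : hdot φ f w = 0)
    (hκ : φ κ = -κ) :
    sg φ e (-w) 0 * tv φ w κ * sg φ (e - κ • f) w 0 = sg φ (-κ • f) w 0 := by
  rw [Matrix.ext_iff_mulVec]
  intro x
  rw [← Matrix.mulVec_mulVec, ← Matrix.mulVec_mulVec, sg_mulVec, tv_mulVec, sg_mulVec, sg_mulVec]
  simp only [hdot_add_left, hdot_add_right, hdot_sub_left, hdot_sub_right, hdot_smul_left,
    hdot_smul_right, hdot_neg_left', hdot_neg_right', hee, hff, hfe, hww, hwe, hew, hfw,
    mul_zero, add_zero, zero_mul, sub_zero, zero_sub, hκ, map_neg, mul_one, zero_add]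
  module

end general

end Cfsg.Agent.Helper12.SUgen
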