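import Mathlib
import Cfsg.Agent.Lib.Helper12.SUgenA

set_option autoImplicit false

/-! The set of matrices of a subgroup of the special unitary group, and the end game: a subgroup
containing the Siegel groups of two non-orthogonal isotropic vectors is everything. -/

namespace Cfsg.Agent.Helper12.SUgen

open Matrix Cfsg.Agent.Helper11.Herm

section general

variable {F : Type*} [Field F] {ι : Type*} [Fintype ι] [DecidableEq ι] (φ : F →+* F)

/-- the matrices of the elements of a subgroup -/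
def MS (H : Subgroup (SUg ι φ)) : Set (Matrix ι ι F) := {M | ∃ g ∈ H, smat φ g = M}

variable {φ}
variable {H : Subgroup (SUg ι φ)}

theorem MS_one : (1 : Matrix ι ι F) ∈ MS φ H := ⟨1, H.one_mem, rfl⟩

theorem MS_mul {M N : Matrix ι ι F} (hM : M ∈ MS φ H) (hN : N ∈ MS φ H) : M * N ∈ MS φ H := by
  obtain ⟨g, hg, rfl⟩ := hM
  obtain ⟨h, hh, rfl⟩ := hN
  exact ⟨g * h, H.mul_mem hg hh, rfl⟩

theorem MS_isU {M : Matrix ι ι F} (hM : M ∈ MS φ H) : IsU φ M := by
  obtain ⟨g, _, rfl⟩ := hM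
  exact smat_isU φ g

theorem MS_det {M : Matrix ι ι F} (hM : M ∈ MS φ H) : M.det = 1 := by
  obtain ⟨g, _, rfl⟩ := hM
  exact smat_det φ g

theorem MS_inv {M M' : Matrix ι ι F} (hM : M ∈ MS φ H) (h : M * M' = 1) : M' ∈ MS φ H := by
  obtain ⟨g, hg, rfl⟩ := hM
  refine ⟨g⁻¹, H.inv_mem hg, ?_⟩
  calc smat φ g⁻¹ = smat φ g⁻¹ * (smat φ g * M') := by rw [h, Matrix.mul_one]
    _ = M' := by rw [← Matrix.mul_assoc, smat_inv_mul, Matrix.one_mul]

theorem MS_exists_inv {M : Matrix ι ι F} (hM : M ∈ MS φ H) :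
    ∃ M', M' ∈ MS φ H ∧ M * M' = 1 ∧ M' * M = 1 := by
  obtain ⟨g, hg, rfl⟩ := hM
  exact ⟨smat φ g⁻¹, ⟨g⁻¹, H.inv_mem hg, rfl⟩, smat_mul_inv φ g, smat_inv_mul φ g⟩

theorem MS_conj {M N N' : Matrix ι ι F} (hN : N ∈ MS φ H) (h : N * N' = 1) (hM : M ∈ MS φ H) :
    N * M * N' ∈ MS φ H :=
  MS_mul (MS_mul hN hM) (MS_inv hN h)

theorem mem_of_MS {M : Matrix ι ι F} (hM : M ∈ MS φ H) (hU : IsU φ M) (hdet : M.det = 1) :
    mkS φ M hU hdet ∈ H := by
  obtain ⟨g, hg, hgM⟩ := hM
  have : mkS φ M hU hdet = g := by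
    apply sug_ext
    rw [mat_mkS, hgM]
  rw [this]
  exact hg

theorem MS_of_mem (g : SUg ι φ) (hg : g ∈ H) : smat φ g ∈ MS φ H := ⟨g, hg, rfl⟩

theorem MS_mono {H K : Subgroup (SUg ι φ)} (h : H ≤ K) {M : Matrix ι ι F} (hM : M ∈ MS φ H) :
    M ∈ MS φ K := by
  obtain ⟨g, hg, rfl⟩ := hM
  exact ⟨g, h hg, rfl⟩

/-- conjugate of a transvection -/
theorem MS_tv_conj {M : Matrix ι ι F} (hM : M ∈ MS φ H) (v : ι → F) (c : F)
    (h : tv φ v c ∈ MS φ H) : tv φ (M *ᵥ v) c ∈ MS φ H := by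
  obtain ⟨M', hM', h1, h2⟩ := MS_exists_inv hM
  have : tv φ (M *ᵥ v) c = M * tv φ v c * M' := by
    rw [isU_mul_tv φ (MS_isU hM), Matrix.mul_assoc, h1, Matrix.mul_one]
  rw [this]
  exact MS_mul (MS_mul hM h) hM'

/-- conjugate of a Siegel element -/
theorem MS_sg_conj {M : Matrix ι ι F} (hM : M ∈ MS φ H) (e w : ι → F) (s : F)
    (h : sg φ e w s ∈ MS φ H) : sg φ (M *ᵥ e) (M *ᵥ w) s ∈ MS φ H := by
  obtain ⟨M', hM', h1, h2⟩ := MS_exists_inv hM
  have : sg φ (M *ᵥ e) (M *ᵥ w) s = M * sg φ e w s * M' := by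
    rw [isU_mul_sg φ (MS_isU hM), Matrix.mul_assoc, h1, Matrix.mul_one]
  rw [this]
  exact MS_mul (MS_mul hM h) hM'

variable (φ)

/-- the vectors all of whose transvections lie in the subgroup -/
def XS (H : Subgroup (SUg ι φ)) (v : ι → F) : Prop :=
  hdot φ v v = 0 ∧ ∀ c : F, c + φ c = 0 → tv φ v c ∈ MS φ H

variable {φ}

theorem XS_act {M : Matrix ι ι F} (hM : M ∈ MS φ H) {v : ι → F} (hv : XS φ H v) :
    XS φ H (M *ᵥ v) := by
  refine ⟨by rw [(MS_isU hM).hdot_mulVec, hv.1], fun c hc => MS_tv_conj hM v c (hv.2 c hc)⟩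

theorem XS_smul (hφφ : ∀ x, φ (φ x) = x) (a : F) {v : ι → F} (hv : XS φ H v) :
    XS φ H (a • v) := by
  refine ⟨by rw [hdot_smul_left, hdot_smul_right, hv.1, mul_zero, mul_zero], fun c hc => ?_⟩
  rw [tv_smul_left]
  apply hv.2
  rw [map_mul, map_mul, hφφ]
  linear_combination (a * φ a) * hc

/-- the Siegel group of `e` moves `y` to any isotropic vector not orthogonal to `e` -/
theorem XS_reach (hφφ : ∀ x, φ (φ x) = x) (e y : ι → F) (he : hdot φ e e = 0)
    (hye : hdot φ y e ≠ 0)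
    (hQe : ∀ w s, hdot φ w e = 0 → s + φ s + hdot φ w w = 0 → sg φ e w s ∈ MS φ H)
    (hy : XS φ H y) (v : ι → F) (hv : hdot φ v v = 0) (hve : hdot φ v e ≠ 0) : XS φ H v := by
  set η := hdot φ y e with hη
  have hη' : φ η ≠ 0 := fun h => hye (by rw [← hφφ η, h, map_zero])
  have hey : hdot φ e y = φ η := by rw [hη, hdot_conj φ hφφ]
  set a := hdot φ v e / η with ha
  have ha0 : a ≠ 0 := div_ne_zero hve hye
  set v' := a⁻¹ • v with hv'
  have hv'e : hdot φ v' e = η := by
    rw [hv', hdot_smul_left, ha]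
    field_simp
  have hv'v' : hdot φ v' v' = 0 := by
    rw [hv', hdot_smul_left, hdot_smul_right, hv, mul_zero, mul_zero]
  set w := η⁻¹ • (v' - y) with hw
  have hwe : hdot φ w e = 0 := by
    rw [hw, hdot_smul_left, hdot_sub_left, hv'e, sub_self, mul_zero]
  set s := hdot φ y w / η with hs
  have hyw : hdot φ y w = (φ η)⁻¹ * hdot φ y v' := by
    rw [hw, hdot_smul_right, hdot_sub_right, hy.1, sub_zero, map_inv₀]
  have hww : hdot φ w w = -(η⁻¹ * (φ η)⁻¹) * (hdot φ v' y + hdot φ y v') := by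
    rw [hw, hdot_smul_left, hdot_smul_right, hdot_sub_left, hdot_sub_right, hdot_sub_right,
      hv'v', hy.1, map_inv₀]
    ring
  have hcond : s + φ s + hdot φ w w = 0 := by
    have hc1 : φ (hdot φ y v') = hdot φ v' y := hdot_conj φ hφφ y v'
    rw [hs, hyw, hww, map_div₀, map_mul, map_inv₀, hφφ, hc1]
    field_simp
    ring
  have hq := hQe w s hwe hcond
  have hqy : sg φ e w s *ᵥ y = v' := by
    rw [sg_mulVec, ← hη, hs, hw]
    have : (hdot φ y (η⁻¹ • (v' - y)) / η * η - hdot φ y (η⁻¹ • (v' - y))) = 0 := by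
      field_simp
      ring
    rw [this, zero_smul, add_zero, smul_smul, mul_inv_cancel₀ hye, one_smul]
    abel
  have h1 : XS φ H v' := by
    rw [← hqy]
    exact XS_act hq hy
  have h2 : v = a • v' := by
    rw [hv', smul_smul, mul_inv_cancel₀ ha0, one_smul]
  rw [h2]
  exact XS_smul hφφ a h1

/-- **End game**: the Siegel groups of two non-orthogonal isotropic vectors generate. -/
theorem endgame [Finite F] (hφφ : ∀ x, φ (φ x) = x)
    (hgen : ∀ M : Matrix ι ι F, IsU φ M → M.det = 1 → M ∈ TM φ) (H : Subgroup (SUg ι φ))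
    (e y : ι → F) (he : hdot φ e e = 0) (hy : hdot φ y y = 0) (hye : hdot φ y e ≠ 0)
    (hQe : ∀ w s, hdot φ w e = 0 → s + φ s + hdot φ w w = 0 → sg φ e w s ∈ MS φ H)
    (hQy : ∀ w s, hdot φ w y = 0 → s + φ s + hdot φ w w = 0 → sg φ y w s ∈ MS φ H) :
    H = ⊤ := by
  have hey : hdot φ e y ≠ 0 := fun h => hye (hdot_eq_zero_symm φ hφφ _ _ h)
  have hXe : XS φ H e := by
    refine ⟨he, fun c hc => ?_⟩
    rw [← sg_zero]
    exact hQe 0 c (hdot_zero_left φ e) (by rw [hdot_zero_left, add_zero, hc])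
  have hXy : XS φ H y := by
    refine ⟨hy, fun c hc => ?_⟩
    rw [← sg_zero]
    exact hQy 0 c (hdot_zero_left φ y) (by rw [hdot_zero_left, add_zero, hc])
  have hall : ∀ v : ι → F, hdot φ v v = 0 → XS φ H v := by
    intro v hv
    by_cases hve : hdot φ v e = 0
    · by_cases hvy : hdot φ v y = 0
      · -- both orthogonal: use `v + e`
        have hev : hdot φ e v = 0 := hdot_eq_zero_symm φ hφφ _ _ hve
        have h1 : hdot φ (e + v) (e + v) = 0 := by
          rw [hdot_add_left, hdot_add_right, hdot_add_right, he, hv, hve, hev]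
          ring
        have h2 : hdot φ (e + v) y ≠ 0 := by
          rw [hdot_add_left, hvy, add_zero]
          exact hey
        have h3 := XS_reach hφφ y e hy hey hQy hXe (e + v) h1 h2
        refine ⟨hv, fun c hc => ?_⟩
        have hc' : φ c = -c := by linear_combination hc
        have h4 := tv_add φ e v c he hv hve hev hc'
        have h5 : sg φ e (c • v) 0 ∈ MS φ H := by
          apply hQe
          · rw [hdot_smul_left, hve, mul_zero]
          · rw [hdot_smul_left, hdot_smul_right, hv, mul_zero, mul_zero, map_zero, add_zero,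
              add_zero]
        have h6 : sg φ e (c • v) 0 * sg φ e (-(c • v)) (φ 0) = 1 := by
          apply sg_mul_inv φ e (c • v) 0 he
          · rw [hdot_smul_left, hve, mul_zero]
          · rw [hdot_smul_right, hev, mul_zero]
          · rw [hdot_smul_left, hdot_smul_right, hv, mul_zero, mul_zero, map_zero, add_zero,
              add_zero]
        have h7 : tv φ v c = tv φ e (-c) * tv φ (e + v) c * sg φ e (-(c • v)) (φ 0) := by
          rw [h4, Matrix.mul_assoc, Matrix.mul_assoc, Matrix.mul_assoc, h6, Matrix.mul_one,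
            ← Matrix.mul_assoc, tv_inv_mul φ e c he, Matrix.one_mul]
        rw [h7]
        refine MS_mul (MS_mul (hXe.2 (-c) ?_) (h3.2 c hc)) (MS_inv h5 h6)
        rw [map_neg]
        linear_combination -hc
      · exact XS_reach hφφ y e hy hey hQy hXe v hv hvy
    · exact XS_reach hφφ e y he hye hQe hXy v hv hve
  apply eq_top_of_forall_tv_mem φ hφφ hgen
  intro v c hv hc
  exact mem_of_MS ((hall v hv).2 c hc) _ _

end general

end Cfsg.Agent.Helper12.SUgen
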