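import Mathlib
import Cfsg.Agent.Lib.Helper12.SUgenB

set_option autoImplicit false

/-! The parabolic step: the part of the Siegel group of `e` inside a subgroup. -/

namespace Cfsg.Agent.Helper12.SUgen

open Matrix Cfsg.Agent.Helper11.Herm

section general

variable {F : Type*} [Field F] {ι : Type*} [Fintype ι] [DecidableEq ι] (φ : F →+* F)

/-- the vectors `w` orthogonal to `e` for which some Siegel element `sg e w s` lies in `H` -/
def B0 (H : Subgroup (SUg ι φ)) (e : ι → F) : Set (ι → F) :=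
  {w | hdot φ w e = 0 ∧ ∃ s : F, s + φ s + hdot φ w w = 0 ∧ sg φ e w s ∈ MS φ H}

variable {φ}
variable {H : Subgroup (SUg ι φ)} {e : ι → F}

theorem B0_zero : (0 : ι → F) ∈ B0 φ H e := by
  refine ⟨hdot_zero_left φ e, 0, ?_, ?_⟩
  · rw [map_zero, hdot_zero_left]
    ring
  · rw [sg_zero_zero]
    exact MS_one

theorem B0_add (hφφ : ∀ x, φ (φ x) = x) (he : hdot φ e e = 0) {w w' : ι → F}
    (hw : w ∈ B0 φ H e) (hw' : w' ∈ B0 φ H e) : w + w' ∈ B0 φ H e := by
  obtain ⟨hwe, s, hs, hm⟩ := hw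
  obtain ⟨hwe', s', hs', hm'⟩ := hw'
  have hew : hdot φ e w = 0 := hdot_eq_zero_symm φ hφφ _ _ hwe
  refine ⟨by rw [hdot_add_left, hwe, hwe', add_zero], s + s' - hdot φ w' w, ?_, ?_⟩
  · rw [map_sub, map_add, hdot_conj φ hφφ, hdot_add_left, hdot_add_right, hdot_add_right]
    linear_combination hs + hs'
  · rw [← sg_mul_sg φ e w w' s s' he hwe' hew]
    exact MS_mul hm hm'

theorem B0_neg (hφφ : ∀ x, φ (φ x) = x) (he : hdot φ e e = 0) {w : ι → F}
    (hw : w ∈ B0 φ H e) : -w ∈ B0 φ H e := by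
  obtain ⟨hwe, s, hs, hm⟩ := hw
  have hew : hdot φ e w = 0 := hdot_eq_zero_symm φ hφφ _ _ hwe
  refine ⟨by rw [hdot_neg_left', hwe, neg_zero], φ s, ?_, ?_⟩
  · rw [hφφ, hdot_neg_left', hdot_neg_right']
    linear_combination hs
  · exact MS_inv hm (sg_mul_inv φ e w s he hwe hew hs)

theorem B0_sub (hφφ : ∀ x, φ (φ x) = x) (he : hdot φ e e = 0) {w w' : ι → F}
    (hw : w ∈ B0 φ H e) (hw' : w' ∈ B0 φ H e) : w - w' ∈ B0 φ H e := by
  rw [sub_eq_add_neg]
  exact B0_add hφφ he hw (B0_neg hφφ he hw')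

theorem B0_shift (hφφ : ∀ x, φ (φ x) = x) (he : hdot φ e e = 0) {w : ι → F} (a : F)
    (hw : w ∈ B0 φ H e) : w + a • e ∈ B0 φ H e := by
  obtain ⟨hwe, s, hs, hm⟩ := hw
  have hew : hdot φ e w = 0 := hdot_eq_zero_symm φ hφφ _ _ hwe
  refine ⟨by rw [hdot_add_left, hdot_smul_left, hwe, he, mul_zero, add_zero], s - a + φ a, ?_, ?_⟩
  · rw [map_add, map_sub, hφφ, hdot_add_left, hdot_add_right, hdot_add_right, hdot_smul_left,
      hdot_smul_left, hdot_smul_right, hdot_smul_right, hwe, hew, he]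
    linear_combination hs
  · rw [sg_shift]
    have : s - a + φ a + a - φ a = s := by ring
    rw [this]
    exact hm

theorem B0_unshift (hφφ : ∀ x, φ (φ x) = x) (he : hdot φ e e = 0) {w : ι → F} (a : F)
    (hw : w + a • e ∈ B0 φ H e) : w ∈ B0 φ H e := by
  have := B0_shift hφφ he (-a) hw
  have h2 : w + a • e + -a • e = w := by module
  rw [h2] at this
  exact this

theorem B0_act {M : Matrix ι ι F} (hM : M ∈ MS φ H) (hMe : M *ᵥ e = e) {w : ι → F}
    (hw : w ∈ B0 φ H e) : M *ᵥ w ∈ B0 φ H e := by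
  obtain ⟨hwe, s, hs, hm⟩ := hw
  have hU := MS_isU hM
  refine ⟨?_, s, ?_, ?_⟩
  · rw [← hMe, hU.hdot_mulVec, hwe]
  · rw [hU.hdot_mulVec]
    exact hs
  · have := MS_sg_conj hM e w s hm
    rw [hMe] at this
    exact this

/-- `(M - 1) w` for `M` in the subgroup fixing `e` -/
theorem B0_act_sub (hφφ : ∀ x, φ (φ x) = x) (he : hdot φ e e = 0) {M : Matrix ι ι F}
    (hM : M ∈ MS φ H) (hMe : M *ᵥ e = e) {w : ι → F}
    (hw : w ∈ B0 φ H e) : M *ᵥ w - w ∈ B0 φ H e :=
  B0_sub hφφ he (B0_act hM hMe hw) hw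

/-- **The parabolic step.** -/
theorem parab (hφφ : ∀ x, φ (φ x) = x) (H : Subgroup (SUg ι φ)) (e f2 e2 : ι → F)
    (he : hdot φ e e = 0) (hf2e2 : hdot φ f2 e2 = 1) (he2f2 : hdot φ e2 f2 = 1)
    (he2e : hdot φ e2 e = 0)
    (μ : F) (hμ : ∀ y : F, y ≠ 0 → ∃ k : ℕ, y = μ ^ k)
    (τ : F) (hτ : τ + φ τ = 1)
    (U U' : Matrix ι ι F) (hU : U ∈ MS φ H) (hUU' : U * U' = 1) (hUe : U *ᵥ e = e)
    (hloop : ∀ x : F, x • f2 ∈ B0 φ H e → (μ * x) • f2 ∈ B0 φ H e)
    (hinit : ∃ x0 : F, x0 ≠ 0 ∧ x0 • f2 ∈ B0 φ H e)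
    (hcyc : ∀ S : Submodule F (ι → F), e ∈ S → f2 ∈ S → (∀ x ∈ S, U *ᵥ x ∈ S) →
      (∀ x ∈ S, U' *ᵥ x ∈ S) → ∀ w, hdot φ w e = 0 → w ∈ S) :
    ∀ w s, hdot φ w e = 0 → s + φ s + hdot φ w w = 0 → sg φ e w s ∈ MS φ H := by
  obtain ⟨x0, hx0, hx0m⟩ := hinit
  -- step 1
  have h1 : ∀ x : F, x • f2 ∈ B0 φ H e := by
    intro x
    by_cases hx : x = 0
    · rw [hx, zero_smul]
      exact B0_zero
    · obtain ⟨k, hk⟩ := hμ (x / x0) (div_ne_zero hx hx0)
      have h2 : ∀ k : ℕ, (μ ^ k * x0) • f2 ∈ B0 φ H e := by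
        intro k
        induction k with
        | zero => rw [pow_zero, one_mul]; exact hx0m
        | succ k ih =>
          rw [pow_succ', mul_assoc]
          exact hloop _ ih
      have h3 : x = μ ^ k * x0 := by
        rw [← hk]
        field_simp
      rw [h3]
      exact h2 k
  -- step 2
  have hU' : U' ∈ MS φ H := MS_inv hU hUU'
  have hU'U : U' * U = 1 := by
    rw [mul_eq_one_comm]
    exact hUU'
  have hU'e : U' *ᵥ e = e := by
    conv_lhs => rw [← hUe]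
    rw [Matrix.mulVec_mulVec, hU'U, Matrix.one_mulVec]
  let BF : Submodule F (ι → F) :=
    { carrier := {w | ∀ x : F, x • w ∈ B0 φ H e}
      add_mem' := by
        intro a b ha hb x
        rw [smul_add]
        exact B0_add hφφ he (ha x) (hb x)
      zero_mem' := by
        intro x
        rw [smul_zero]
        exact B0_zero
      smul_mem' := by
        intro c w hw x
        rw [smul_smul]
        exact hw (x * c) }
  have heBF : e ∈ BF := by
    intro x
    have := B0_shift hφφ he x (B0_zero (φ := φ) (H := H) (e := e))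
    rw [zero_add] at this
    exact this
  have h2 : ∀ w, hdot φ w e = 0 → w ∈ B0 φ H e := by
    intro w hw
    have := hcyc BF heBF h1
      (fun x hx c => by
        rw [← Matrix.mulVec_smul]
        exact B0_act hU hUe (hx c))
      (fun x hx c => by
        rw [← Matrix.mulVec_smul]
        exact B0_act hU' hU'e (hx c)) w hw 1
    rw [one_smul] at this
    exact this
  -- step 3
  have h3 : ∀ c : F, c + φ c = 0 → tv φ e c ∈ MS φ H := by
    intro c hc
    obtain ⟨hw1e, s1, hs1, hm1⟩ := h1 (τ * c)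
    obtain ⟨hw2e, s2, hs2, hm2⟩ := h2 e2 he2e
    have hew1 : hdot φ e ((τ * c) • f2) = 0 := hdot_eq_zero_symm φ hφφ _ _ hw1e
    have hew2 : hdot φ e e2 = 0 := hdot_eq_zero_symm φ hφφ _ _ hw2e
    have hP := sg_mul_sg φ e ((τ * c) • f2) e2 s1 s2 he hw2e hew1
    have hQ := sg_mul_sg φ e e2 ((τ * c) • f2) s2 s1 he hw1e hew2
    have hval : hdot φ ((τ * c) • f2) e2 - hdot φ e2 ((τ * c) • f2) = c := by
      rw [hdot_smul_left, hdot_smul_right, hf2e2, he2f2, map_mul]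
      have hc' : φ c = -c := by linear_combination hc
      rw [hc']
      linear_combination c * hτ
    have hQm : sg φ e e2 s2 * sg φ e ((τ * c) • f2) s1 ∈ MS φ H := MS_mul hm2 hm1
    have hPm : sg φ e ((τ * c) • f2) s1 * sg φ e e2 s2 ∈ MS φ H := MS_mul hm1 hm2
    obtain ⟨Q', hQ', hQQ', hQ'Q⟩ := MS_exists_inv hQm
    have hPQ : sg φ e ((τ * c) • f2) s1 * sg φ e e2 s2 =
        sg φ e e2 s2 * sg φ e ((τ * c) • f2) s1 * tv φ e c := by
      rw [hP, hQ, sg_mul_tv φ e _ _ _ he (by rw [hdot_add_right, hew1, hew2, add_zero]),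
        add_comm e2]
      congr 1
      linear_combination hval
    have : tv φ e c = Q' * (sg φ e ((τ * c) • f2) s1 * sg φ e e2 s2) := by
      rw [hPQ, ← Matrix.mul_assoc, hQ'Q, Matrix.one_mul]
    rw [this]
    exact MS_mul hQ' hPm
  -- step 4
  intro w s hwe hs
  obtain ⟨_, s', hs', hm'⟩ := h2 w hwe
  have hew : hdot φ e w = 0 := hdot_eq_zero_symm φ hφφ _ _ hwe
  have : sg φ e w s = sg φ e w s' * tv φ e (s - s') := by
    rw [sg_mul_tv φ e w s' (s - s') he hew]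
    congr 1
    ring
  rw [this]
  refine MS_mul hm' (h3 _ ?_)
  rw [map_sub]
  linear_combination hs - hs'

end general

end Cfsg.Agent.Helper12.SUgen
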