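import Mathlib
import Cfsg.Agent.Lib.Helper12.SUgenC

set_option autoImplicit false

/-! The common part of the generation argument: the `SL₂(p)` on the hyperbolic plane `⟨e, f⟩`
and the elements it produces. -/

namespace Cfsg.Agent.Helper12.SUgen

open Matrix Cfsg.Agent.Helper11.Herm

section general

variable {F : Type*} [Field F] {ι : Type*} [Fintype ι] [DecidableEq ι] (φ : F →+* F)

/-- a hyperbolic system of `k` pairs -/
structure HypSys (k : ℕ) (p q : Fin k → ι → F) : Prop where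
  pp : ∀ i j, hdot φ (p i) (p j) = 0
  qq : ∀ i j, hdot φ (q i) (q j) = 0
  pq : ∀ i j, hdot φ (p i) (q j) = if i = j then 1 else 0
  qp : ∀ i j, hdot φ (q i) (p j) = if i = j then 1 else 0

variable {φ}

theorem tv_fix (v x : ι → F) (c : F) (h : hdot φ x v = 0) : tv φ v c *ᵥ x = x := by
  rw [tv_mulVec, h, mul_zero, zero_smul, add_zero]

theorem sg_fix (e w x : ι → F) (s : F) (h1 : hdot φ x e = 0) (h2 : hdot φ x w = 0) :
    sg φ e w s *ᵥ x = x := by
  rw [sg_mulVec, h1, h2, mul_zero, sub_zero, zero_smul, zero_smul, add_zero, add_zero]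

theorem commute_tv_of_fix {M : Matrix ι ι F} (hM : IsU φ M) {v : ι → F} (hMv : M *ᵥ v = v)
    (c : F) : M * tv φ v c = tv φ v c * M := by
  rw [isU_mul_tv φ hM, hMv]

theorem commute_sg_of_fix {M : Matrix ι ι F} (hM : IsU φ M) {e w : ι → F} (hMe : M *ᵥ e = e)
    (hMw : M *ᵥ w = w) (s : F) : M * sg φ e w s = sg φ e w s * M := by
  rw [isU_mul_sg φ hM, hMe, hMw]

theorem conj_sg_mul {g g' Y : Matrix ι ι F} (hg : IsU φ g) (hgg' : g * g' = 1)
    (hgY : g * Y = Y * g) (e w : ι → F) (s : F) :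
    g * (sg φ e w s * Y) * g' = sg φ (g *ᵥ e) (g *ᵥ w) s * Y := by
  rw [← Matrix.mul_assoc, isU_mul_sg φ hg, Matrix.mul_assoc _ g Y, hgY, Matrix.mul_assoc,
    Matrix.mul_assoc, hgg', Matrix.mul_one]

/-- a Siegel element in a unitary group satisfies the unitarity condition -/
theorem sg_cond_of_isU (hφφ : ∀ x, φ (φ x) = x) (e f w : ι → F) (s : F)
    (hee : hdot φ e e = 0) (hfe : hdot φ f e = 1)
    (hwe : hdot φ w e = 0) (h : IsU φ (sg φ e w s)) : s + φ s + hdot φ w w = 0 := by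
  have hef : hdot φ e f = 1 := by rw [← hdot_conj φ hφφ, hfe, map_one]
  have hew : hdot φ e w = 0 := hdot_eq_zero_symm φ hφφ _ _ hwe
  have h1 := h.hdot_mulVec φ f f
  rw [sg_mulVec] at h1
  simp only [hdot_add_left, hdot_add_right, hdot_smul_left, hdot_smul_right, hee, hfe, hef, hwe,
    hew, mul_zero, add_zero, mul_one, map_sub, map_mul, map_one, one_mul, zero_add] at h1
  rw [hdot_conj φ hφφ f w] at h1
  linear_combination h1

theorem B0_of_mem (hφφ : ∀ x, φ (φ x) = x) {H : Subgroup (SUg ι φ)} (e f w : ι → F) (s : F)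
    (hee : hdot φ e e = 0) (hfe : hdot φ f e = 1)
    (hwe : hdot φ w e = 0) (h : sg φ e w s ∈ MS φ H) : w ∈ B0 φ H e :=
  ⟨hwe, s, sg_cond_of_isU hφφ e f w s hee hfe hwe (MS_isU h), h⟩

/-- two unitary matrices fixing `e` and agreeing modulo `e` on `e^⊥` differ by a Siegel
element -/
theorem sg_of_levi_eq (hφφ : ∀ x, φ (φ x) = x) (e f : ι → F) (hee : hdot φ e e = 0)
    (hfe : hdot φ f e = 1) (g1 g2 : Matrix ι ι F) (h1 : IsU φ g1) (h2 : IsU φ g2)
    (h1e : g1 *ᵥ e = e) (h2e : g2 *ᵥ e = e)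
    (hlev : ∀ x, hdot φ x e = 0 → ∃ c : F, g1 *ᵥ x = g2 *ᵥ x + c • e) :
    g1 = sg φ e (g1 *ᵥ f - g2 *ᵥ f) (hdot φ (g2 *ᵥ f) (g1 *ᵥ f - g2 *ᵥ f)) * g2 := by
  have hef : hdot φ e f = 1 := by rw [← hdot_conj φ hφφ, hfe, map_one]
  set w := g1 *ᵥ f - g2 *ᵥ f with hw
  have h2fe : hdot φ (g2 *ᵥ f) e = 1 := by
    conv_lhs => rw [← h2e]
    rw [h2.hdot_mulVec, hfe]
  have h1fe : hdot φ (g1 *ᵥ f) e = 1 := by
    conv_lhs => rw [← h1e]
    rw [h1.hdot_mulVec, hfe]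
  have he1f : hdot φ e (g1 *ᵥ f) = 1 := by rw [← hdot_conj φ hφφ, h1fe, map_one]
  -- agreement on `f`
  have hf : g1 *ᵥ f = (sg φ e w (hdot φ (g2 *ᵥ f) w) * g2) *ᵥ f := by
    rw [← Matrix.mulVec_mulVec, sg_mulVec, h2fe, hw]
    module
  -- agreement on `e^⊥`
  have hperp : ∀ x, hdot φ x e = 0 → g1 *ᵥ x = (sg φ e w (hdot φ (g2 *ᵥ f) w) * g2) *ᵥ x := by
    intro x hx
    obtain ⟨c, hc⟩ := hlev x hx
    have h2xe : hdot φ (g2 *ᵥ x) e = 0 := by
      conv_lhs => rw [← h2e]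
      rw [h2.hdot_mulVec, hx]
    have hc' : c = hdot φ x f - hdot φ (g2 *ᵥ x) (g1 *ᵥ f) := by
      have := h1.hdot_mulVec φ x f
      rw [hc, hdot_add_left, hdot_smul_left, he1f] at this
      linear_combination this
    have key : hdot φ (g2 *ᵥ x) w = hdot φ (g2 *ᵥ x) (g1 *ᵥ f) - hdot φ x f := by
      rw [hw, hdot_sub_right, h2.hdot_mulVec]
    rw [← Matrix.mulVec_mulVec, sg_mulVec, h2xe, hc, key, hc']
    module
  rw [Matrix.ext_iff_mulVec]
  intro x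
  have hx : x = (x - hdot φ x e • f) + hdot φ x e • f := by module
  have hx0 : hdot φ (x - hdot φ x e • f) e = 0 := by
    rw [hdot_sub_left, hdot_smul_left, hfe]
    ring
  rw [hx, Matrix.mulVec_add, Matrix.mulVec_add, Matrix.mulVec_smul, Matrix.mulVec_smul, ← hf,
    ← hperp _ hx0]

/-- the common part -/
theorem common (hφφ : ∀ x, φ (φ x) = x) (H : Subgroup (SUg ι φ)) (e f f2 : ι → F)
    (hee : hdot φ e e = 0) (hff : hdot φ f f = 0) (hef : hdot φ e f = 1) (hfe : hdot φ f e = 1)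
    (hf2f2 : hdot φ f2 f2 = 0) (hf2e : hdot φ f2 e = 0) (hef2 : hdot φ e f2 = 0)
    (hf2f : hdot φ f2 f = 0) (hff2 : hdot φ f f2 = 0)
    (κ : F) (hκ : φ κ = -κ) (hκ0 : κ ≠ 0)
    (Y R : Matrix ι ι F) (hY : IsU φ Y) (hYe : Y *ᵥ e = e) (hYf : Y *ᵥ f = f)
    (hR : IsU φ R) (hRe : R *ᵥ e = e)
    (hu : sg φ e f2 0 * Y ∈ MS φ H) (hz : tv φ e κ⁻¹ ∈ MS φ H)
    (hu3 : tv φ f (-κ) * R ∈ MS φ H) :
    tv φ f (-κ) ∈ MS φ H ∧ R ∈ MS φ H ∧ sg φ e (-f2) 0 * tv φ f2 κ ∈ MS φ H ∧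
      sg φ e f2 0 * sg φ e f2 0 ∈ MS φ H := by
  have hκi : φ κ⁻¹ = -κ⁻¹ := by rw [map_inv₀, hκ, inv_neg]
  -- `u3 e`
  have hu3e : (tv φ f (-κ) * R) *ᵥ e = e + (-κ) • f := by
    rw [← Matrix.mulVec_mulVec, hRe, tv_mulVec, hef, mul_one]
  set y := e + (-κ) • f with hy
  have hyy : hdot φ y y = 0 := by
    rw [hy]
    simp only [hdot_add_left, hdot_add_right, hdot_smul_left, hdot_smul_right, hee, hff, hef, hfe,
      map_neg, hκ]
    ring
  have hz' : tv φ y κ⁻¹ ∈ MS φ H := by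
    have := MS_tv_conj hu3 e κ⁻¹ hz
    rw [hu3e] at this
    exact this
  have hz'i : tv φ y (-κ⁻¹) ∈ MS φ H := MS_inv hz' (tv_mul_inv φ y κ⁻¹ hyy)
  -- `L1`
  have hL1id : tv φ y (-κ⁻¹) * tv φ e κ⁻¹ * tv φ y κ⁻¹ = tv φ f (-κ) := by
    rw [Matrix.ext_iff_mulVec]
    intro x
    rw [← Matrix.mulVec_mulVec, ← Matrix.mulVec_mulVec, tv_mulVec, tv_mulVec, tv_mulVec,
      tv_mulVec, hy]
    simp only [hdot_add_left, hdot_add_right, hdot_smul_left, hdot_smul_right, hee, hff, hef, hfe,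
      map_neg, hκ]
    match_scalars <;> field_simp <;> ring
  have hL1 : tv φ f (-κ) ∈ MS φ H := by
    rw [← hL1id]
    exact MS_mul (MS_mul hz'i hz) hz'
  have hL1i : tv φ f κ ∈ MS φ H := by
    have := MS_inv hL1 (tv_mul_inv φ f (-κ) hff)
    rw [neg_neg] at this
    exact this
  have hRm : R ∈ MS φ H := by
    have : R = tv φ f κ * (tv φ f (-κ) * R) := by
      rw [← Matrix.mul_assoc, tv_mul_inv φ f κ hff, Matrix.one_mul]
    rw [this]
    exact MS_mul hL1i hu3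
  -- the element `g1 = z * L1`
  set g1 := tv φ e κ⁻¹ * tv φ f (-κ) with hg1
  set g1' := tv φ f κ * tv φ e (-κ⁻¹) with hg1'
  have hg1m : g1 ∈ MS φ H := MS_mul hz hL1
  have hg1U : IsU φ g1 := MS_isU hg1m
  have hg1g1' : g1 * g1' = 1 := by
    rw [hg1, hg1', Matrix.mul_assoc, ← Matrix.mul_assoc (tv φ f (-κ)), tv_inv_mul φ f κ hff,
      Matrix.one_mul, tv_mul_inv φ e _ hee]
  have hYtve : ∀ c, Y * tv φ e c = tv φ e c * Y := commute_tv_of_fix hY hYe
  have hYtvf : ∀ c, Y * tv φ f c = tv φ f c * Y := commute_tv_of_fix hY hYf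
  have hg1Y : g1 * Y = Y * g1 := by
    rw [hg1, Matrix.mul_assoc, ← hYtvf, ← Matrix.mul_assoc, ← hYtve, Matrix.mul_assoc]
  have hg1e : g1 *ᵥ e = (-κ) • f := by
    rw [hg1, ← Matrix.mulVec_mulVec, tv_mulVec, tv_mulVec]
    simp only [hdot_add_left, hdot_smul_left, hee, hfe, hef]
    match_scalars <;> field_simp <;> ring
  have hg1f : g1 *ᵥ f = f + κ⁻¹ • e := by
    rw [hg1, ← Matrix.mulVec_mulVec, tv_mulVec, tv_mulVec]
    simp only [hdot_add_left, hdot_smul_left, hff, hfe]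
    match_scalars <;> field_simp <;> ring
  have hg1f2 : g1 *ᵥ f2 = f2 := by
    rw [hg1, ← Matrix.mulVec_mulVec, tv_fix f f2 _ hf2f, tv_fix e f2 _ hf2e]
  have hL1U : IsU φ (tv φ f (-κ)) := MS_isU hL1
  have hL1Y : tv φ f (-κ) * Y = Y * tv φ f (-κ) := (hYtvf _).symm
  have hL1e : tv φ f (-κ) *ᵥ e = y := by
    rw [tv_mulVec, hef, mul_one]
  have hL1f2 : tv φ f (-κ) *ᵥ f2 = f2 := tv_fix f f2 _ hf2f
  have hN1 : sg φ ((-κ) • f) f2 0 * Y ∈ MS φ H := by
    have := MS_conj hg1m hg1g1' hu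
    rw [conj_sg_mul hg1U hg1g1' hg1Y, hg1e, hg1f2] at this
    exact this
  have hN2 : sg φ y f2 0 * Y ∈ MS φ H := by
    have := MS_conj hL1 (tv_mul_inv φ f (-κ) hff) hu
    rw [conj_sg_mul hL1U (tv_mul_inv φ f (-κ) hff) hL1Y, hL1e, hL1f2] at this
    exact this
  refine ⟨hL1, hRm, ?_, ?_⟩
  · -- the element `E`
    obtain ⟨N2', hN2', h1, h2⟩ := MS_exists_inv hN2
    have hmt := mt_identity φ e f f2 κ hee hff hfe hf2f2 hf2e hef2 hff2 hκ
    have hy' : e - κ • f = y := by rw [hy, neg_smul, sub_eq_add_neg]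
    rw [hy'] at hmt
    have : sg φ e (-f2) 0 * tv φ f2 κ = sg φ ((-κ) • f) f2 0 * Y * N2' := by
      rw [← hmt, Matrix.mul_assoc _ _ Y, Matrix.mul_assoc _ _ N2', h1, Matrix.mul_one]
    rw [this]
    exact MS_mul hN1 hN2'
  · -- `A * A`
    have hι : g1 * g1 * g1 ∈ MS φ H := MS_mul (MS_mul hg1m hg1m) hg1m
    have hιι' : g1 * g1 * g1 * (g1' * g1' * g1') = 1 := by
      have e1 : g1 * g1 * g1 * (g1' * g1' * g1') = g1 * (g1 * (g1 * g1' * g1') * g1') := by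
        simp only [Matrix.mul_assoc]
      rw [e1, hg1g1', Matrix.one_mul, hg1g1', Matrix.one_mul, hg1g1']
    have hιY : g1 * g1 * g1 * Y = Y * (g1 * g1 * g1) := by
      have hc : Commute g1 Y := hg1Y
      exact ((hc.mul_left hc).mul_left hc).eq
    have hιe : (g1 * g1 * g1) *ᵥ e = -e := by
      rw [← Matrix.mulVec_mulVec, ← Matrix.mulVec_mulVec, hg1e, Matrix.mulVec_smul, hg1f,
        Matrix.mulVec_smul, Matrix.mulVec_add, Matrix.mulVec_smul, hg1f, hg1e]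
      match_scalars <;> field_simp <;> ring
    have hιf2 : (g1 * g1 * g1) *ᵥ f2 = f2 := by
      rw [← Matrix.mulVec_mulVec, ← Matrix.mulVec_mulVec, hg1f2, hg1f2, hg1f2]
    have hN3 : sg φ (-e) f2 0 * Y ∈ MS φ H := by
      have := MS_conj hι hιι' hu
      rw [conj_sg_mul (MS_isU hι) hιι' hιY, hιe, hιf2] at this
      exact this
    have hneg : sg φ (-e) f2 0 = sg φ e (-f2) 0 := by
      have := sg_scale φ hφφ (-1) e f2 0
      rw [neg_one_smul, map_neg, map_one, neg_one_smul, mul_zero] at this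
      exact this
    rw [hneg] at hN3
    obtain ⟨N3', hN3', h1, h2⟩ := MS_exists_inv hN3
    have hAinv : sg φ e f2 0 * sg φ e (-f2) 0 = 1 := by
      have := sg_mul_inv φ e f2 0 hee hf2e hef2 (by rw [map_zero, hf2f2]; ring)
      rw [map_zero] at this
      exact this
    have : sg φ e f2 0 * sg φ e f2 0 = sg φ e f2 0 * Y * N3' := by
      calc sg φ e f2 0 * sg φ e f2 0
          = sg φ e f2 0 * sg φ e f2 0 * (sg φ e (-f2) 0 * Y * N3') := by
            rw [h1, Matrix.mul_one]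
        _ = sg φ e f2 0 * (sg φ e f2 0 * sg φ e (-f2) 0) * Y * N3' := by
            simp only [Matrix.mul_assoc]
        _ = sg φ e f2 0 * Y * N3' := by rw [hAinv, Matrix.mul_one]
    rw [this]
    exact MS_mul hu hN3'

/-- the final step: the Siegel group of `e` and `L1` give everything -/
theorem finish [Finite F] (hφφ : ∀ x, φ (φ x) = x)
    (hgen : ∀ M : Matrix ι ι F, IsU φ M → M.det = 1 → M ∈ TM φ)
    (H : Subgroup (SUg ι φ)) (e f : ι → F)
    (hee : hdot φ e e = 0) (hff : hdot φ f f = 0) (hef : hdot φ e f = 1) (hfe : hdot φ f e = 1)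
    (κ : F) (hκ : φ κ = -κ) (hκ0 : κ ≠ 0) (hL1 : tv φ f (-κ) ∈ MS φ H)
    (hQe : ∀ w s, hdot φ w e = 0 → s + φ s + hdot φ w w = 0 → sg φ e w s ∈ MS φ H) :
    H = ⊤ := by
  set y := tv φ f (-κ) *ᵥ e with hy
  have hy' : y = e + (-κ) • f := by
    rw [hy, tv_mulVec, hef, mul_one]
  have hL1i : tv φ f κ ∈ MS φ H := by
    have := MS_inv hL1 (tv_mul_inv φ f (-κ) hff)
    rw [neg_neg] at this
    exact this
  have hL1L1i : tv φ f (-κ) * tv φ f κ = 1 := by
    have := tv_mul_inv φ f (-κ) hff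
    rw [neg_neg] at this
    exact this
  have hL1iL1 : tv φ f κ * tv φ f (-κ) = 1 := tv_mul_inv φ f κ hff
  have hQy : ∀ w s, hdot φ w y = 0 → s + φ s + hdot φ w w = 0 → sg φ y w s ∈ MS φ H := by
    intro w s hwy hws
    have hUi := MS_isU hL1i
    have h1 : hdot φ (tv φ f κ *ᵥ w) e = 0 := by
      have : e = tv φ f κ *ᵥ y := by
        rw [hy, Matrix.mulVec_mulVec, hL1iL1, Matrix.one_mulVec]
      rw [this, hUi.hdot_mulVec, hwy]
    have h2 : s + φ s + hdot φ (tv φ f κ *ᵥ w) (tv φ f κ *ᵥ w) = 0 := by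
      rw [hUi.hdot_mulVec]
      exact hws
    have h3 := MS_sg_conj hL1 _ _ _ (hQe _ s h1 h2)
    rw [Matrix.mulVec_mulVec, hL1L1i, Matrix.one_mulVec] at h3
    exact h3
  apply endgame hφφ hgen H e y hee
  · rw [hy']
    simp only [hdot_add_left, hdot_add_right, hdot_smul_left, hdot_smul_right, hee, hff, hef, hfe,
      map_neg, hκ]
    ring
  · rw [hy']
    simp only [hdot_add_left, hdot_smul_left, hee, hfe]
    simpa using hκ0
  · exact hQe
  · exact hQy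

end general

end Cfsg.Agent.Helper12.SUgen
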