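import Mathlib
import Cfsg.Agent.Lib.Helper12.SUgenD

set_option autoImplicit false

/-! Witt families and the regular unipotent element attached to one. -/

namespace Cfsg.Agent.Helper12.SUgen

open Matrix Cfsg.Agent.Helper11.Herm

section general

variable {F : Type*} [Field F] {ι : Type*} [Fintype ι] [DecidableEq ι]

/-- a Witt family: `m` hyperbolic pairs and a vector of norm one, spanning the space -/
structure Witt (φ : F →+* F) (ι : Type*) [Fintype ι] [DecidableEq ι] (m : ℕ) where
  e : ℕ → ι → F
  f : ℕ → ι → F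
  d : ι → F
  ee : ∀ i j, i < m → j < m → hdot φ (e i) (e j) = 0
  ff : ∀ i j, i < m → j < m → hdot φ (f i) (f j) = 0
  ef : ∀ i j, i < m → j < m → hdot φ (e i) (f j) = if i = j then 1 else 0
  fe : ∀ i j, i < m → j < m → hdot φ (f i) (e j) = if i = j then 1 else 0
  ed : ∀ i, i < m → hdot φ (e i) d = 0
  de : ∀ i, i < m → hdot φ d (e i) = 0
  fd : ∀ i, i < m → hdot φ (f i) d = 0
  df : ∀ i, i < m → hdot φ d (f i) = 0
  dd : hdot φ d d = 1
  span : ∀ S : Submodule F (ι → F), (∀ i, i < m → e i ∈ S) → (∀ i, i < m → f i ∈ S) → d ∈ S →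
    ∀ x, x ∈ S

variable {φ : F →+* F} {m : ℕ} (W : Witt φ ι m) (td s0 : F)

/-- the product `g_k g_{k+1} ⋯ g_{k+j}` -/
def chain : ℕ → ℕ → Matrix ι ι F
  | k, 0 => sg φ (W.e k) (td • W.d) s0
  | k, j + 1 => sg φ (W.e k) (W.f (k + 1)) 0 * chain (k + 1) j

/-- its inverse -/
def chainInv : ℕ → ℕ → Matrix ι ι F
  | k, 0 => sg φ (W.e k) (-(td • W.d)) (φ s0)
  | k, j + 1 => chainInv (k + 1) j * sg φ (W.e k) (-(W.f (k + 1))) 0

theorem chain_zero (k : ℕ) : chain W td s0 k 0 = sg φ (W.e k) (td • W.d) s0 := rfl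

theorem chain_succ (k j : ℕ) :
    chain W td s0 k (j + 1) = sg φ (W.e k) (W.f (k + 1)) 0 * chain W td s0 (k + 1) j := rfl

theorem chainInv_zero (k : ℕ) : chainInv W td s0 k 0 = sg φ (W.e k) (-(td • W.d)) (φ s0) := rfl

theorem chainInv_succ (k j : ℕ) :
    chainInv W td s0 k (j + 1) =
      chainInv W td s0 (k + 1) j * sg φ (W.e k) (-(W.f (k + 1))) 0 := rfl

theorem chain_fix (j : ℕ) : ∀ (k : ℕ) (x : ι → F),
    (∀ i, k ≤ i → i ≤ k + j → hdot φ x (W.e i) = 0) →
    (∀ i, k < i → i ≤ k + j → hdot φ x (W.f i) = 0) → hdot φ x W.d = 0 →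
    chain W td s0 k j *ᵥ x = x := by
  induction j with
  | zero =>
    intro k x h1 _ h3
    rw [chain_zero, sg_fix _ _ _ _ (h1 k le_rfl (by omega))]
    rw [hdot_smul_right, h3, mul_zero]
  | succ j ih =>
    intro k x h1 h2 h3
    rw [chain_succ, ← Matrix.mulVec_mulVec, ih (k + 1) x (fun i hi hi' => h1 i (by omega) (by omega))
      (fun i hi hi' => h2 i (by omega) (by omega)) h3]
    exact sg_fix _ _ _ _ (h1 k le_rfl (by omega)) (h2 (k + 1) (by omega) (by omega))

theorem chainInv_fix (j : ℕ) : ∀ (k : ℕ) (x : ι → F),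
    (∀ i, k ≤ i → i ≤ k + j → hdot φ x (W.e i) = 0) →
    (∀ i, k < i → i ≤ k + j → hdot φ x (W.f i) = 0) → hdot φ x W.d = 0 →
    chainInv W td s0 k j *ᵥ x = x := by
  induction j with
  | zero =>
    intro k x h1 _ h3
    rw [chainInv_zero, sg_fix _ _ _ _ (h1 k le_rfl (by omega))]
    rw [hdot_neg_right', hdot_smul_right, h3, mul_zero, neg_zero]
  | succ j ih =>
    intro k x h1 h2 h3
    rw [chainInv_succ, ← Matrix.mulVec_mulVec, sg_fix _ _ _ _ (h1 k le_rfl (by omega))
      (by rw [hdot_neg_right', h2 (k + 1) (by omega) (by omega), neg_zero])]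
    exact ih (k + 1) x (fun i hi hi' => h1 i (by omega) (by omega))
      (fun i hi hi' => h2 i (by omega) (by omega)) h3

variable (hφφ : ∀ x, φ (φ x) = x) (hs0 : s0 + φ s0 + td * φ td = 0)

include hφφ hs0 in
theorem chain_isU (j : ℕ) : ∀ k, k + j < m → IsU φ (chain W td s0 k j) := by
  induction j with
  | zero =>
    intro k hk
    rw [chain_zero]
    apply isU_sg φ hφφ _ _ _ (W.ee k k (by omega) (by omega))
    · rw [hdot_smul_left, W.de k (by omega), mul_zero]
    · rw [hdot_smul_left, hdot_smul_right, W.dd]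
      linear_combination hs0
  | succ j ih =>
    intro k hk
    rw [chain_succ]
    apply IsU.mul φ _ (ih (k + 1) (by omega))
    apply isU_sg φ hφφ _ _ _ (W.ee k k (by omega) (by omega))
    · rw [W.fe (k + 1) k (by omega) (by omega), if_neg (by omega)]
    · rw [W.ff (k + 1) (k + 1) (by omega) (by omega), map_zero]
      ring

include hφφ in
theorem chain_det (j : ℕ) : ∀ k, k + j < m → (chain W td s0 k j).det = 1 := by
  induction j with
  | zero =>
    intro k hk
    rw [chain_zero]
    apply det_sg φ _ _ _ (W.ee k k (by omega) (by omega))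
    · rw [hdot_smul_left, W.de k (by omega), mul_zero]
    · rw [hdot_smul_right, W.ed k (by omega), mul_zero]
  | succ j ih =>
    intro k hk
    rw [chain_succ, Matrix.det_mul, ih (k + 1) (by omega), mul_one]
    apply det_sg φ _ _ _ (W.ee k k (by omega) (by omega))
    · rw [W.fe (k + 1) k (by omega) (by omega), if_neg (by omega)]
    · rw [W.ef k (k + 1) (by omega) (by omega), if_neg (by omega)]

include hφφ hs0 in
theorem chain_mul_inv (j : ℕ) : ∀ k, k + j < m →
    chain W td s0 k j * chainInv W td s0 k j = 1 := by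
  induction j with
  | zero =>
    intro k hk
    rw [chain_zero, chainInv_zero]
    apply sg_mul_inv φ _ _ _ (W.ee k k (by omega) (by omega))
    · rw [hdot_smul_left, W.de k (by omega), mul_zero]
    · rw [hdot_smul_right, W.ed k (by omega), mul_zero]
    · rw [hdot_smul_left, hdot_smul_right, W.dd]
      linear_combination hs0
  | succ j ih =>
    intro k hk
    rw [chain_succ, chainInv_succ]
    have h1 : sg φ (W.e k) (W.f (k + 1)) 0 * sg φ (W.e k) (-(W.f (k + 1))) 0 = 1 := by
      have := sg_mul_inv φ (W.e k) (W.f (k + 1)) 0 (W.ee k k (by omega) (by omega))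
        (by rw [W.fe (k + 1) k (by omega) (by omega), if_neg (by omega)])
        (by rw [W.ef k (k + 1) (by omega) (by omega), if_neg (by omega)])
        (by rw [W.ff (k + 1) (k + 1) (by omega) (by omega), map_zero]; ring)
      rw [map_zero] at this
      exact this
    calc sg φ (W.e k) (W.f (k + 1)) 0 * chain W td s0 (k + 1) j *
          (chainInv W td s0 (k + 1) j * sg φ (W.e k) (-(W.f (k + 1))) 0)
        = sg φ (W.e k) (W.f (k + 1)) 0 * (chain W td s0 (k + 1) j * chainInv W td s0 (k + 1) j) *
          sg φ (W.e k) (-(W.f (k + 1))) 0 := by simp only [Matrix.mul_assoc]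
      _ = 1 := by rw [ih (k + 1) (by omega), Matrix.mul_one, h1]

include hφφ hs0 in
theorem chainInv_mul (j k : ℕ) (hk : k + j < m) :
    chainInv W td s0 k j * chain W td s0 k j = 1 := by
  rw [mul_eq_one_comm]
  exact chain_mul_inv W td s0 hφφ hs0 j k hk

theorem chain_e_self (j k : ℕ) (hk : k + j < m) : chain W td s0 k j *ᵥ W.e k = W.e k :=
  chain_fix W td s0 j k _ (fun i _ _ => W.ee k i (by omega) (by omega))
    (fun i hi _ => by rw [W.ef k i (by omega) (by omega), if_neg (by omega)]) (W.ed k (by omega))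

theorem chainInv_e_self (j k : ℕ) (hk : k + j < m) : chainInv W td s0 k j *ᵥ W.e k = W.e k :=
  chainInv_fix W td s0 j k _ (fun i _ _ => W.ee k i (by omega) (by omega))
    (fun i hi _ => by rw [W.ef k i (by omega) (by omega), if_neg (by omega)]) (W.ed k (by omega))

theorem chain_f (j : ℕ) : ∀ k i, k + j < m → k ≤ i → i < k + j →
    chain W td s0 k j *ᵥ W.f i = W.f i + W.f (i + 1) := by
  induction j with
  | zero => intro k i _ h1 h2; omega
  | succ j ih =>
    intro k i hk h1 h2
    rw [chain_succ, ← Matrix.mulVec_mulVec]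
    by_cases hik : i = k
    · subst hik
      rw [chain_fix W td s0 j (i + 1) (W.f i)
        (fun l _ _ => by rw [W.fe i l (by omega) (by omega), if_neg (by omega)])
        (fun l _ _ => W.ff i l (by omega) (by omega)) (W.fd i (by omega)), sg_mulVec,
        W.fe i i (by omega) (by omega), if_pos rfl, W.ff i (i + 1) (by omega) (by omega)]
      module
    · rw [ih (k + 1) i (by omega) (by omega) (by omega)]
      apply sg_fix
      · rw [hdot_add_left, W.fe i k (by omega) (by omega), if_neg hik,
          W.fe (i + 1) k (by omega) (by omega), if_neg (by omega), add_zero]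
      · rw [hdot_add_left, W.ff i (k + 1) (by omega) (by omega),
          W.ff (i + 1) (k + 1) (by omega) (by omega), add_zero]

theorem chain_f_last (j : ℕ) : ∀ k, k + j < m →
    chain W td s0 k j *ᵥ W.f (k + j) =
      W.f (k + j) + td • W.d + s0 • (chain W td s0 k j *ᵥ W.e (k + j)) := by
  induction j with
  | zero =>
    intro k hk
    rw [add_zero, chain_zero, sg_mulVec, sg_mulVec]
    simp only [hdot_smul_right, W.fe k k (by omega) (by omega), W.fd k (by omega),
      W.ee k k (by omega) (by omega), W.ed k (by omega), if_pos]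
    module
  | succ j ih =>
    intro k hk
    have e1 : k + (j + 1) = k + 1 + j := by omega
    rw [e1, chain_succ, ← Matrix.mulVec_mulVec, ← Matrix.mulVec_mulVec, ih (k + 1) (by omega),
      Matrix.mulVec_add, Matrix.mulVec_add, Matrix.mulVec_smul, Matrix.mulVec_smul]
    rw [sg_fix (W.e k) (W.f (k + 1)) (W.f (k + 1 + j)) 0
      (by rw [W.fe _ _ (by omega) (by omega), if_neg (by omega)])
      (W.ff _ _ (by omega) (by omega)),
      sg_fix (W.e k) (W.f (k + 1)) W.d 0 (W.de k (by omega)) (W.df _ (by omega))]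

theorem chain_e_next (j k : ℕ) (hk : k + (j + 1) < m) :
    chain W td s0 k (j + 1) *ᵥ W.e (k + 1) = W.e (k + 1) - W.e k := by
  rw [chain_succ, ← Matrix.mulVec_mulVec, chain_e_self W td s0 j (k + 1) (by omega), sg_mulVec,
    W.ee _ _ (by omega) (by omega), W.ef _ _ (by omega) (by omega), if_pos rfl]
  module

theorem chainInv_e_succ (j : ℕ) : ∀ k i, k + j < m → k ≤ i → i < k + j →
    chainInv W td s0 k j *ᵥ W.e (i + 1) = W.e (i + 1) + W.e i := by
  induction j with
  | zero => intro k i _ h1 h2; omega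
  | succ j ih =>
    intro k i hk h1 h2
    rw [chainInv_succ, ← Matrix.mulVec_mulVec]
    by_cases hik : i = k
    · subst hik
      rw [sg_mulVec, W.ee _ _ (by omega) (by omega), hdot_neg_right',
        W.ef _ _ (by omega) (by omega), if_pos rfl]
      have : W.e (i + 1) + (0 : F) • -W.f (i + 1) + ((0 : F) * 0 - -1) • W.e i =
          W.e (i + 1) + W.e i := by module
      rw [this, Matrix.mulVec_add, chainInv_e_self W td s0 j (i + 1) (by omega)]
      rw [chainInv_fix W td s0 j (i + 1) (W.e i)
        (fun l _ _ => W.ee i l (by omega) (by omega))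
        (fun l _ _ => by rw [W.ef i l (by omega) (by omega), if_neg (by omega)])
        (W.ed i (by omega))]
    · rw [sg_fix (W.e k) (-(W.f (k + 1))) (W.e (i + 1)) 0 (W.ee _ _ (by omega) (by omega))
        (by rw [hdot_neg_right', W.ef _ _ (by omega) (by omega), if_neg (by omega), neg_zero])]
      exact ih (k + 1) i (by omega) (by omega) (by omega)

theorem chainInv_d (j : ℕ) : ∀ k, k + j < m →
    chainInv W td s0 k j *ᵥ W.d = W.d + φ td • W.e (k + j) := by
  induction j with
  | zero =>
    intro k hk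
    rw [add_zero, chainInv_zero, sg_mulVec, W.de k (by omega), hdot_neg_right', hdot_smul_right,
      W.dd]
    module
  | succ j ih =>
    intro k hk
    have e1 : k + (j + 1) = k + 1 + j := by omega
    rw [e1, chainInv_succ, ← Matrix.mulVec_mulVec,
      sg_fix (W.e k) (-(W.f (k + 1))) W.d 0 (W.de k (by omega))
        (by rw [hdot_neg_right', W.df _ (by omega), neg_zero])]
    exact ih (k + 1) (by omega)

end general

end Cfsg.Agent.Helper12.SUgen
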