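import Mathlib
import Cfsg.Agent.Lib.Helper12.SUgenG

set_option autoImplicit false

/-! Expansion in a Witt family, cyclicity and regularity of the unipotent element. -/

namespace Cfsg.Agent.Helper12.SUgen

open Matrix Cfsg.Agent.Helper11.Herm

section general

variable {F : Type*} [Field F] {ι : Type*} [Fintype ι] [DecidableEq ι]
variable {φ : F →+* F} {m : ℕ} (W : Witt φ ι m)

/-- the vectors orthogonal (on the right) to `y` -/
def perpR (φ : F →+* F) (y : ι → F) : Submodule F (ι → F) where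
  carrier := {v | hdot φ y v = 0}
  add_mem' := by
    intro a b ha hb
    show hdot φ y (a + b) = 0
    rw [hdot_add_right, ha, hb, add_zero]
  zero_mem' := hdot_zero_right φ y
  smul_mem' := by
    intro c v hv
    show hdot φ y (c • v) = 0
    rw [hdot_smul_right, hv, mul_zero]

theorem Witt.eq_zero_of_perp (y : ι → F) (h1 : ∀ i, i < m → hdot φ y (W.e i) = 0)
    (h2 : ∀ i, i < m → hdot φ y (W.f i) = 0) (h3 : hdot φ y W.d = 0) : y = 0 := by
  apply eq_zero_of_hdot_right φ y
  intro v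
  exact W.span (perpR φ y) h1 h2 h3 v

theorem Witt.expand (x : ι → F) :
    x = ∑ i ∈ Finset.range m, (hdot φ x (W.f i) • W.e i + hdot φ x (W.e i) • W.f i) +
      hdot φ x W.d • W.d := by
  rw [← sub_eq_zero]
  apply W.eq_zero_of_perp
  · intro j hj
    rw [hdot_sub_left, hdot_add_left, hdot_sum_left, hdot_smul_left, W.de j hj, mul_zero, add_zero]
    rw [Finset.sum_eq_single j]
    · rw [hdot_add_left, hdot_smul_left, hdot_smul_left, W.ee j j hj hj, W.fe j j hj hj,
        if_pos rfl]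
      ring
    · intro i hi hij
      rw [Finset.mem_range] at hi
      rw [hdot_add_left, hdot_smul_left, hdot_smul_left, W.ee i j hi hj, W.fe i j hi hj,
        if_neg hij]
      ring
    · intro h
      exact absurd (Finset.mem_range.2 hj) h
  · intro j hj
    rw [hdot_sub_left, hdot_add_left, hdot_sum_left, hdot_smul_left, W.df j hj, mul_zero, add_zero]
    rw [Finset.sum_eq_single j]
    · rw [hdot_add_left, hdot_smul_left, hdot_smul_left, W.ff j j hj hj, W.ef j j hj hj,
        if_pos rfl]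
      ring
    · intro i hi hij
      rw [Finset.mem_range] at hi
      rw [hdot_add_left, hdot_smul_left, hdot_smul_left, W.ff i j hi hj, W.ef i j hi hj,
        if_neg hij]
      ring
    · intro h
      exact absurd (Finset.mem_range.2 hj) h
  · rw [hdot_sub_left, hdot_add_left, hdot_sum_left, hdot_smul_left, W.dd, mul_one]
    rw [Finset.sum_eq_zero]
    · ring
    · intro i hi
      rw [Finset.mem_range] at hi
      rw [hdot_add_left, hdot_smul_left, hdot_smul_left, W.ed i hi, W.fd i hi]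
      ring

variable (td s0 : F) (hφφ : ∀ x, φ (φ x) = x) (hs0 : s0 + φ s0 + td * φ td = 0)

include hφφ hs0 in
/-- cyclicity -/
theorem cyc (hm : 2 ≤ m) (htd : td ≠ 0) (S : Submodule F (ι → F)) (he : W.e 0 ∈ S)
    (hf : W.f 1 ∈ S) (hu : ∀ x ∈ S, chain W td s0 0 (m - 1) *ᵥ x ∈ S)
    (hui : ∀ x ∈ S, chainInv W td s0 0 (m - 1) *ᵥ x ∈ S) :
    ∀ w, hdot φ w (W.e 0) = 0 → w ∈ S := by
  set u := chain W td s0 0 (m - 1) with hu_def
  set ui := chainInv W td s0 0 (m - 1) with hui_def
  have hj0 : 0 + (m - 1) < m := by omega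
  have huui : u * ui = 1 := chain_mul_inv W td s0 hφφ hs0 (m - 1) 0 hj0
  have huiu : ui * u = 1 := chainInv_mul W td s0 hφφ hs0 (m - 1) 0 hj0
  have hφtd : φ td ≠ 0 := fun h => htd (by rw [← hφφ td, h, map_zero])
  have hc : td * φ td ≠ 0 := mul_ne_zero htd hφtd
  -- the `f i`
  have hfS : ∀ i, 1 ≤ i → i < m → W.f i ∈ S := by
    intro i hi
    induction i, hi using Nat.le_induction with
    | base => intro _; exact hf
    | succ i hi ih =>
      intro him
      have h1 := hu _ (ih (by omega))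
      rw [hu_def, chain_f W td s0 (m - 1) 0 i hj0 (by omega) (by omega)] at h1
      have := S.sub_mem h1 (ih (by omega))
      rwa [add_sub_cancel_left] at this
  -- the vector `w1`
  have hlast : u *ᵥ W.f (m - 1) = W.f (m - 1) + td • W.d + s0 • (u *ᵥ W.e (m - 1)) := by
    have := chain_f_last W td s0 (m - 1) 0 hj0
    rw [zero_add] at this
    exact this
  have hw1 : td • W.d + s0 • (u *ᵥ W.e (m - 1)) ∈ S := by
    have h1 := hu _ (hfS (m - 1) (by omega) (by omega))
    rw [hlast] at h1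
    have := S.sub_mem h1 (hfS (m - 1) (by omega) (by omega))
    have e1 : W.f (m - 1) + td • W.d + s0 • (u *ᵥ W.e (m - 1)) - W.f (m - 1) =
        td • W.d + s0 • (u *ᵥ W.e (m - 1)) := by abel
    rwa [e1] at this
  -- the operator `N' = ui - 1`
  have hN'S : ∀ x ∈ S, ui *ᵥ x - x ∈ S := fun x hx => S.sub_mem (hui x hx) hx
  have hN'u : ∀ x, ui *ᵥ (u *ᵥ x) - u *ᵥ x = u *ᵥ (ui *ᵥ x - x) := by
    intro x
    rw [Matrix.mulVec_sub, Matrix.mulVec_mulVec, Matrix.mulVec_mulVec, huiu, huui]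
  have hN'd : ui *ᵥ W.d - W.d = φ td • W.e (m - 1) := by
    rw [hui_def, chainInv_d W td s0 (m - 1) 0 hj0, zero_add]
    abel
  have hN'e : ∀ i, i + 1 < m → ui *ᵥ W.e (i + 1) - W.e (i + 1) = W.e i := by
    intro i hi
    rw [hui_def, chainInv_e_succ W td s0 (m - 1) 0 i hj0 (by omega) (by omega)]
    abel
  -- the vectors `v i`
  have hv : ∀ k i, i + k + 2 = m →
      (td * φ td) • W.e (i + 1) + s0 • (u *ᵥ W.e i) ∈ S := by
    intro k
    induction k with
    | zero =>
      intro i hi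
      have h1 := hN'S _ hw1
      have e1 : ui *ᵥ (td • W.d + s0 • (u *ᵥ W.e (m - 1))) -
          (td • W.d + s0 • (u *ᵥ W.e (m - 1))) =
          td • (ui *ᵥ W.d - W.d) + s0 • (ui *ᵥ (u *ᵥ W.e (m - 1)) - u *ᵥ W.e (m - 1)) := by
        rw [Matrix.mulVec_add, Matrix.mulVec_smul, Matrix.mulVec_smul]
        module
      have e2 : m - 1 = i + 1 := by omega
      rw [e1, hN'd, hN'u, e2, hN'e i (by omega), smul_smul] at h1
      exact h1
    | succ k ih =>
      intro i hi
      have h1 := hN'S _ (ih (i + 1) (by omega))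
      have e1 : ui *ᵥ ((td * φ td) • W.e (i + 1 + 1) + s0 • (u *ᵥ W.e (i + 1))) -
          ((td * φ td) • W.e (i + 1 + 1) + s0 • (u *ᵥ W.e (i + 1))) =
          (td * φ td) • (ui *ᵥ W.e (i + 1 + 1) - W.e (i + 1 + 1)) +
            s0 • (ui *ᵥ (u *ᵥ W.e (i + 1)) - u *ᵥ W.e (i + 1)) := by
        rw [Matrix.mulVec_add, Matrix.mulVec_smul, Matrix.mulVec_smul]
        module
      rw [e1, hN'u, hN'e i (by omega), hN'e (i + 1) (by omega)] at h1
      exact h1
  -- the `e i`
  have heS : ∀ i, i < m → W.e i ∈ S := by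
    intro i
    induction i with
    | zero => intro _; exact he
    | succ i ih =>
      intro hi
      have h1 := hv (m - 2 - i) i (by omega)
      have h2 := S.smul_mem s0 (hu _ (ih (by omega)))
      have h3 := S.smul_mem (td * φ td)⁻¹ (S.sub_mem h1 h2)
      have e1 : (td * φ td)⁻¹ • ((td * φ td) • W.e (i + 1) + s0 • (u *ᵥ W.e i) -
          s0 • (u *ᵥ W.e i)) = W.e (i + 1) := by
        rw [add_sub_cancel_right, smul_smul, inv_mul_cancel₀ hc, one_smul]
      rwa [e1] at h3
  have hdS : W.d ∈ S := by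
    have h2 := S.smul_mem s0 (hu _ (heS (m - 1) (by omega)))
    have h3 := S.smul_mem td⁻¹ (S.sub_mem hw1 h2)
    have e1 : td⁻¹ • (td • W.d + s0 • (u *ᵥ W.e (m - 1)) - s0 • (u *ᵥ W.e (m - 1))) = W.d := by
      rw [add_sub_cancel_right, smul_smul, inv_mul_cancel₀ htd, one_smul]
    rwa [e1] at h3
  intro w hw
  rw [W.expand w]
  apply S.add_mem _ (S.smul_mem _ hdS)
  apply S.sum_mem
  intro i hi
  rw [Finset.mem_range] at hi
  by_cases hi0 : i = 0
  · subst hi0
    rw [hw, zero_smul, add_zero]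
    exact S.smul_mem _ he
  · exact S.add_mem (S.smul_mem _ (heS i hi)) (S.smul_mem _ (hfS i (by omega) hi))

theorem pow_succ_mulVec (A : Matrix ι ι F) (k : ℕ) (x : ι → F) :
    (A ^ (k + 1)) *ᵥ x = (A ^ k) *ᵥ (A *ᵥ x) := by
  rw [pow_succ, Matrix.mulVec_mulVec]

theorem pow_succ_mulVec' (A : Matrix ι ι F) (k : ℕ) (x : ι → F) :
    (A ^ (k + 1)) *ᵥ x = A *ᵥ ((A ^ k) *ᵥ x) := by
  rw [pow_succ', Matrix.mulVec_mulVec]

theorem pow_kill (A : Matrix ι ι F) (k K : ℕ) (x : ι → F) (h : (A ^ k) *ᵥ x = 0) (hk : k ≤ K) :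
    (A ^ K) *ᵥ x = 0 := by
  have : K = (K - k) + k := by omega
  rw [this, pow_add, ← Matrix.mulVec_mulVec, h, Matrix.mulVec_zero]

include hφφ hs0 in
/-- regularity -/
theorem regular (hm : 1 ≤ m) (htd : td ≠ 0) :
    IsNilpotent (chain W td s0 0 (m - 1) - 1) ∧ (chain W td s0 0 (m - 1) - 1) ^ (2 * m) ≠ 0 := by
  set u := chain W td s0 0 (m - 1) with hu_def
  set ui := chainInv W td s0 0 (m - 1) with hui_def
  have hj0 : 0 + (m - 1) < m := by omega
  have huui : u * ui = 1 := chain_mul_inv W td s0 hφφ hs0 (m - 1) 0 hj0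
  have huiu : ui * u = 1 := chainInv_mul W td s0 hφφ hs0 (m - 1) 0 hj0
  have hφtd : φ td ≠ 0 := fun h => htd (by rw [← hφφ td, h, map_zero])
  have hc : td * φ td ≠ 0 := mul_ne_zero htd hφtd
  set N := u - 1 with hN
  set N' := ui - 1 with hN'
  have hNv : ∀ x, N *ᵥ x = u *ᵥ x - x := by
    intro x; rw [hN, Matrix.sub_mulVec, Matrix.one_mulVec]
  have hN'v : ∀ x, N' *ᵥ x = ui *ᵥ x - x := by
    intro x; rw [hN', Matrix.sub_mulVec, Matrix.one_mulVec]
  have hNeq : N = (-u) * N' := by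
    rw [hN, hN', neg_mul, mul_sub, huui, mul_one]
    abel
  have hcomm : Commute (-u) N' := by
    show (-u) * N' = N' * (-u)
    rw [hN', neg_mul, mul_sub, huui, mul_one, mul_neg, sub_mul, huiu, one_mul]
  have hcomm' : Commute N' u := by
    show N' * u = u * N'
    rw [hN', sub_mul, huiu, one_mul, mul_sub, huui, mul_one]
  have hNpow : ∀ k, N ^ k = (-u) ^ k * N' ^ k := by
    intro k
    rw [hNeq, hcomm.mul_pow]
  have hue0 : u *ᵥ W.e 0 = W.e 0 := chain_e_self W td s0 (m - 1) 0 hj0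
  have hnegu : ∀ k, ((-u) ^ k) *ᵥ W.e 0 = (-1 : F) ^ k • W.e 0 := by
    intro k
    induction k with
    | zero => simp
    | succ k ih =>
      rw [pow_succ_mulVec, Matrix.neg_mulVec, hue0, Matrix.mulVec_neg, ih, pow_succ]
      module
  -- `N` on the `f i`
  have hNf : ∀ i, i + 1 < m → N *ᵥ W.f i = W.f (i + 1) := by
    intro i hi
    rw [hNv, hu_def, chain_f W td s0 (m - 1) 0 i hj0 (by omega) (by omega)]
    abel
  have hNfk : ∀ k i, i + k < m → (N ^ k) *ᵥ W.f i = W.f (i + k) := by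
    intro k
    induction k with
    | zero => intro i _; simp
    | succ k ih =>
      intro i hi
      rw [pow_succ_mulVec, hNf i (by omega), ih (i + 1) (by omega)]
      congr 1
      omega
  have hlast : N *ᵥ W.f (m - 1) = td • W.d + s0 • (u *ᵥ W.e (m - 1)) := by
    have := chain_f_last W td s0 (m - 1) 0 hj0
    rw [zero_add] at this
    rw [hNv, hu_def, this]
    abel
  set w1 := td • W.d + s0 • (u *ᵥ W.e (m - 1)) with hw1
  -- `N'` on the `e i` and `d`
  have hN'e : ∀ i, i + 1 < m → N' *ᵥ W.e (i + 1) = W.e i := by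
    intro i hi
    rw [hN'v, hui_def, chainInv_e_succ W td s0 (m - 1) 0 i hj0 (by omega) (by omega)]
    abel
  have hN'e0 : N' *ᵥ W.e 0 = 0 := by
    rw [hN'v, hui_def, chainInv_e_self W td s0 (m - 1) 0 hj0, sub_self]
  have hN'ek : ∀ j i, i + j < m → (N' ^ j) *ᵥ W.e (i + j) = W.e i := by
    intro j
    induction j with
    | zero => intro i _; simp
    | succ j ih =>
      intro i hi
      have e1 : i + (j + 1) = (i + j) + 1 := by omega
      rw [pow_succ_mulVec, e1, hN'e (i + j) (by omega), ih i (by omega)]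
  have hN'kill : ∀ i, i < m → (N' ^ (i + 1)) *ᵥ W.e i = 0 := by
    intro i hi
    have := hN'ek i 0 (by omega)
    rw [zero_add] at this
    rw [pow_succ_mulVec', this, hN'e0]
  have hN'd : N' *ᵥ W.d = φ td • W.e (m - 1) := by
    rw [hN'v, hui_def, chainInv_d W td s0 (m - 1) 0 hj0, zero_add]
    abel
  have hpm : ∀ (A : Matrix ι ι F), A ^ m = A ^ (m - 1 + 1) := fun A => by
    rw [Nat.sub_add_cancel hm]
  have hN'md : (N' ^ m) *ᵥ W.d = φ td • W.e 0 := by
    have := hN'ek (m - 1) 0 (by omega)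
    rw [zero_add] at this
    rw [hpm N', pow_succ_mulVec, hN'd, Matrix.mulVec_smul, this]
  have hN'pu : ∀ k x, (N' ^ k) *ᵥ (u *ᵥ x) = u *ᵥ ((N' ^ k) *ᵥ x) := by
    intro k x
    rw [Matrix.mulVec_mulVec, Matrix.mulVec_mulVec, (hcomm'.pow_left k).eq]
  have hN'mw1 : (N' ^ m) *ᵥ w1 = (td * φ td) • W.e 0 := by
    have h1 : (N' ^ m) *ᵥ W.e (m - 1) = 0 := by
      rw [hpm N']
      exact hN'kill (m - 1) (by omega)
    rw [hw1, Matrix.mulVec_add, Matrix.mulVec_smul, Matrix.mulVec_smul, hN'md, hN'pu, h1,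
      Matrix.mulVec_zero, smul_zero, add_zero, smul_smul]
  have hNm : (N ^ m) *ᵥ W.f 0 = w1 := by
    have := hNfk (m - 1) 0 (by omega)
    rw [zero_add] at this
    rw [hpm N, pow_succ_mulVec', this, hlast]
  have hN'kill_w1 : (N' ^ (m + 1)) *ᵥ w1 = 0 := by
    rw [pow_succ_mulVec' N' m, hN'mw1, Matrix.mulVec_smul, hN'e0, smul_zero]
  have hN'kill_d : (N' ^ (m + 1)) *ᵥ W.d = 0 := by
    rw [pow_succ_mulVec' N' m, hN'md, Matrix.mulVec_smul, hN'e0, smul_zero]
  have he0 : W.e 0 ≠ 0 := by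
    intro h
    have := W.ef 0 0 (by omega) (by omega)
    rw [h, hdot_zero_left, if_pos rfl] at this
    exact zero_ne_one this
  constructor
  · -- nilpotent
    refine ⟨2 * m + 1, ?_⟩
    rw [Matrix.ext_iff_mulVec]
    intro x
    rw [Matrix.zero_mulVec]
    have hS := W.span (LinearMap.ker (Matrix.toLin' (N ^ (2 * m + 1)))) ?_ ?_ ?_ x
    · rw [LinearMap.mem_ker, Matrix.toLin'_apply] at hS
      exact hS
    · intro i hi
      rw [LinearMap.mem_ker, Matrix.toLin'_apply]
      apply pow_kill N (i + 1) _ _ _ (by omega)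
      rw [hNpow, ← Matrix.mulVec_mulVec, hN'kill i hi, Matrix.mulVec_zero]
    · intro i hi
      rw [LinearMap.mem_ker, Matrix.toLin'_apply]
      apply pow_kill N ((m + 1) + (m - i)) _ _ _ (by omega)
      have e1 : m - i = (m - 1 - i) + 1 := by omega
      have h1 : (N ^ (m - i)) *ᵥ W.f i = w1 := by
        rw [e1, pow_succ_mulVec', hNfk (m - 1 - i) i (by omega)]
        have e2 : i + (m - 1 - i) = m - 1 := by omega
        rw [e2, hlast]
      rw [pow_add, ← Matrix.mulVec_mulVec, h1, hNpow, ← Matrix.mulVec_mulVec, hN'kill_w1,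
        Matrix.mulVec_zero]
    · rw [LinearMap.mem_ker, Matrix.toLin'_apply]
      apply pow_kill N (m + 1) _ _ _ (by omega)
      rw [hNpow, ← Matrix.mulVec_mulVec, hN'kill_d, Matrix.mulVec_zero]
  · -- the power `2 m`
    intro h
    have h1 : (N ^ (2 * m)) *ᵥ W.f 0 = ((td * φ td) * (-1) ^ m) • W.e 0 := by
      have e1 : 2 * m = m + m := by omega
      rw [e1, pow_add, ← Matrix.mulVec_mulVec, hNm, hNpow, ← Matrix.mulVec_mulVec, hN'mw1,
        Matrix.mulVec_smul, hnegu, smul_smul]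
    rw [h, Matrix.zero_mulVec] at h1
    have h2 := smul_eq_zero.mp h1.symm
    rcases h2 with h2 | h2
    · exact (mul_ne_zero hc (pow_ne_zero m (by norm_num))) h2
    · exact he0 h2

end general

end Cfsg.Agent.Helper12.SUgen
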