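import Mathlib
import Cfsg.Agent.Lib.Helper12.SUgenD

set_option autoImplicit false

/-! The generation argument in rank two (dimension five). -/

namespace Cfsg.Agent.Helper12.SUgen

open Matrix Cfsg.Agent.Helper11.Herm

section general

variable {F : Type*} [Field F] {ι : Type*} [Fintype ι] [DecidableEq ι] {φ : F →+* F}

set_option maxHeartbeats 1600000 in
theorem core2 [Finite F] (hφφ : ∀ x, φ (φ x) = x)
    (hgen : ∀ M : Matrix ι ι F, IsU φ M → M.det = 1 → M ∈ TM φ)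
    (H : Subgroup (SUg ι φ)) (p q : Fin 2 → ι → F) (hs : HypSys φ 2 p q) (d : ι → F)
    (hdd : hdot φ d d = 1) (hpd : ∀ i, hdot φ (p i) d = 0) (hdp : ∀ i, hdot φ d (p i) = 0)
    (hqd : ∀ i, hdot φ (q i) d = 0) (hdq : ∀ i, hdot φ d (q i) = 0)
    (hspan : ∀ x : ι → F, x = hdot φ x (q 0) • p 0 + hdot φ x (p 0) • q 0 +
      hdot φ x (q 1) • p 1 + hdot φ x (p 1) • q 1 + hdot φ x d • d)
    (κ μ τ s0 td t : F) (hκ : φ κ = -κ) (hκ0 : κ ≠ 0) (h2κ : (2 : F) = 0 → κ = 1)
    (ht : t * φ t = 1) (htd : td ≠ 0) (hs0 : s0 + φ s0 + td * φ td = 0)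
    (hμs : -κ⁻¹ * s0 = μ)
    (hμ : ∀ y : F, y ≠ 0 → ∃ k : ℕ, y = μ ^ k) (hτ : τ + φ τ = 1)
    (U' : Matrix ι ι F)
    (hUU' : sg φ (p 0) (q 1) 0 * sg φ (p 1) (td • d) s0 * U' = 1)
    (hu : sg φ (p 0) (q 1) 0 * sg φ (p 1) (td • d) s0 ∈ MS φ H)
    (hz : tv φ (p 0) κ⁻¹ ∈ MS φ H)
    (hu3 : tv φ (q 0) (-κ) * (tv φ (q 1) κ *
      sg φ (p 0 - p 1) ((-κ⁻¹ * t * td) • d) (-κ⁻¹ * κ⁻¹ * s0)) ∈ MS φ H)
    (hcyc : ∀ S : Submodule F (ι → F), p 0 ∈ S → q 1 ∈ S →
      (∀ x ∈ S, (sg φ (p 0) (q 1) 0 * sg φ (p 1) (td • d) s0) *ᵥ x ∈ S) →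
      (∀ x ∈ S, U' *ᵥ x ∈ S) →
      ∀ w, hdot φ w (p 0) = 0 → w ∈ S) : H = ⊤ := by
  have hκi : φ κ⁻¹ = -κ⁻¹ := by rw [map_inv₀, hκ, inv_neg]
  have hφtd0 : φ td ≠ 0 := fun h => htd (by rw [← hφφ td, h, map_zero])
  have hee := hs.pp 0 0
  have hfe : hdot φ (q 0) (p 0) = 1 := by simp only [hs.qp, ↓reduceIte]
  set δ := -κ⁻¹ * t * td with hδ
  set σ := -κ⁻¹ * κ⁻¹ * s0 with hσ
  -- the elements `Y`, `S`, `R`
  set Y := sg φ (p 1) (td • d) s0 with hY_def
  have hYU : IsU φ Y := by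
    apply isU_sg φ hφφ _ _ _ (hs.pp 1 1)
    · simp only [hdot_smul_left, hdp, mul_zero]
    · simp only [hdot_smul_left, hdot_smul_right, hdd, mul_one]
      linear_combination hs0
  have hYe : Y *ᵥ p 0 = p 0 := by
    rw [hY_def, sg_fix _ _ _ _ (hs.pp 0 1)]
    simp only [hdot_smul_right, hpd, mul_zero]
  have hYf : Y *ᵥ q 0 = q 0 := by
    rw [hY_def, sg_fix]
    · simp only [hs.qp, Fin.reduceEq, ↓reduceIte]
    · simp only [hdot_smul_right, hqd, mul_zero]
  set S := sg φ (p 0 - p 1) (δ • d) σ with hS_def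
  have hSU : IsU φ S := by
    apply isU_sg φ hφφ
    · simp only [hdot_sub_left, hdot_sub_right, hs.pp, sub_zero]
    · simp only [hdot_smul_left, hdot_sub_right, hdp, sub_zero, mul_zero]
    · simp only [hdot_smul_left, hdot_smul_right, hdd, mul_one, hδ, hσ, map_mul, map_neg, hκi]
      linear_combination (-κ⁻¹ * κ⁻¹) * hs0 + (-κ⁻¹ * κ⁻¹ * td * φ td) * ht
  have htvU : IsU φ (tv φ (q 1) κ) := by
    apply isU_tv φ hφφ
    rw [hs.qq, hκ]
    ring
  set R := tv φ (q 1) κ * S with hR_def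
  have hRU : IsU φ R := IsU.mul φ htvU hSU
  have hSe : S *ᵥ p 0 = p 0 := by
    rw [hS_def, sg_fix]
    · simp only [hdot_sub_right, hs.pp, sub_zero]
    · simp only [hdot_smul_right, hpd, mul_zero]
  have hRe : R *ᵥ p 0 = p 0 := by
    rw [hR_def, ← Matrix.mulVec_mulVec, hSe, tv_fix]
    simp only [hs.pq, Fin.reduceEq, ↓reduceIte]
  obtain ⟨hL1, hRm, hE, hAA⟩ := common hφφ H (p 0) (q 0) (q 1) hee (hs.qq 0 0)
    (by simp only [hs.pq, ↓reduceIte]) hfe (hs.qq 1 1)
    (by simp only [hs.qp, Fin.reduceEq, ↓reduceIte]) (by simp only [hs.pq, Fin.reduceEq, ↓reduceIte])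
    (hs.qq 1 0) (hs.qq 0 1) κ hκ hκ0 Y R hYU hYe hYf hRU hRe hu hz hu3
  set u := sg φ (p 0) (q 1) 0 * Y with hu_def
  set E := sg φ (p 0) (-q 1) 0 * tv φ (q 1) κ with hE_def
  have hue : u *ᵥ p 0 = p 0 := by
    rw [hu_def, ← Matrix.mulVec_mulVec, hYe, sg_fix _ _ _ _ hee]
    simp only [hs.pq, Fin.reduceEq, ↓reduceIte]
  have hEe : E *ᵥ p 0 = p 0 := by
    rw [hE_def, ← Matrix.mulVec_mulVec, tv_fix, sg_fix _ _ _ _ hee]
    · simp only [hdot_neg_right', hs.pq, Fin.reduceEq, ↓reduceIte, neg_zero]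
    · simp only [hs.pq, Fin.reduceEq, ↓reduceIte]
  have hEe2 : E *ᵥ p 1 = p 1 + κ • q 1 + p 0 := by
    rw [hE_def, ← Matrix.mulVec_mulVec, tv_mulVec, sg_mulVec]
    simp only [hdot_add_left, hdot_smul_left, hdot_neg_right', hs.pp, hs.qq, hs.pq, hs.qp,
      Fin.reduceEq, ↓reduceIte]
    module
  have hEf2 : E *ᵥ q 1 = q 1 := by
    rw [hE_def, ← Matrix.mulVec_mulVec, tv_mulVec, sg_mulVec]
    simp only [hdot_add_left, hdot_smul_left, hdot_neg_right', hs.pp, hs.qq, hs.pq, hs.qp,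
      Fin.reduceEq, ↓reduceIte]
    module
  have hEd : E *ᵥ d = d := by
    rw [hE_def, ← Matrix.mulVec_mulVec, tv_fix _ _ _ (hdq 1), sg_fix _ _ _ _ (hdp 0)]
    simp only [hdot_neg_right', hdq, neg_zero]
  -- action of `S`
  have hSf2 : S *ᵥ q 1 = q 1 - δ • d - σ • p 0 + σ • p 1 := by
    rw [hS_def, sg_mulVec]
    simp only [hdot_sub_right, hdot_smul_right, hs.qp, hqd, Fin.reduceEq, ↓reduceIte]
    module
  have hRf2 : R *ᵥ q 1 = q 1 - δ • d - σ • p 0 + σ • p 1 + (κ * σ) • q 1 := by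
    rw [hR_def, ← Matrix.mulVec_mulVec, hSf2, tv_mulVec]
    simp only [hdot_add_left, hdot_sub_left, hdot_smul_left, hs.pq, hs.qq, hdq, Fin.reduceEq,
      ↓reduceIte]
    module
  have hκσ : κ * σ = μ := by
    rw [← hμs, hσ]
    field_simp
  -- the loop
  have hloop : ∀ x : F, x • q 1 ∈ B0 φ H (p 0) → (μ * x) • q 1 ∈ B0 φ H (p 0) := by
    intro x hx
    have h2 := B0_act_sub hφφ hee hRm hRe hx
    have e2 : R *ᵥ (x • q 1) - x • q 1 =
        (-(x * δ)) • d + (x * σ) • p 1 + (x * μ) • q 1 + (-(x * σ)) • p 0 := by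
      rw [Matrix.mulVec_smul, hRf2, hκσ]
      module
    rw [e2] at h2
    have h3 := B0_act_sub hφφ hee hE hEe h2
    have e3 : E *ᵥ ((-(x * δ)) • d + (x * σ) • p 1 + (x * μ) • q 1 + (-(x * σ)) • p 0) -
        ((-(x * δ)) • d + (x * σ) • p 1 + (x * μ) • q 1 + (-(x * σ)) • p 0) =
        (μ * x) • q 1 + (x * σ) • p 0 := by
      rw [Matrix.mulVec_add, Matrix.mulVec_add, Matrix.mulVec_add, Matrix.mulVec_smul,
        Matrix.mulVec_smul, Matrix.mulVec_smul, Matrix.mulVec_smul, hEe2, hEf2, hEe, hEd, ← hκσ]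
      module
    rw [e3] at h3
    exact B0_unshift hφφ hee _ h3
  -- the initial element
  have hinit : ∃ x0 : F, x0 ≠ 0 ∧ x0 • q 1 ∈ B0 φ H (p 0) := by
    by_cases h2 : (2 : F) = 0
    · -- characteristic two
      have hκ1 : κ = 1 := h2κ h2
      have hσ1 : σ = -s0 := by rw [hσ, hκ1]; simp
      have hδ1 : δ = -(t * td) := by rw [hδ, hκ1]; simp
      have hN : δ * φ δ = td * φ td := by
        rw [hδ1, map_neg, map_mul]
        linear_combination (td * φ td) * ht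
      -- the element `X`
      set E' := tv φ (q 1) (-κ) * sg φ (p 0) (q 1) 0 with hE'_def
      have hsginv : sg φ (p 0) (-q 1) 0 * sg φ (p 0) (q 1) 0 = 1 := by
        have := sg_inv_mul φ hφφ (p 0) (q 1) 0 hee
          (by simp only [hs.qp, Fin.reduceEq, ↓reduceIte])
          (by simp only [hs.pq, Fin.reduceEq, ↓reduceIte]) (by rw [map_zero, hs.qq]; ring)
        rw [map_zero] at this
        exact this
      have hEE' : E * E' = 1 := by
        rw [hE_def, hE'_def]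
        calc sg φ (p 0) (-q 1) 0 * tv φ (q 1) κ * (tv φ (q 1) (-κ) * sg φ (p 0) (q 1) 0)
            = sg φ (p 0) (-q 1) 0 * (tv φ (q 1) κ * tv φ (q 1) (-κ)) * sg φ (p 0) (q 1) 0 := by
              simp only [Matrix.mul_assoc]
          _ = 1 := by rw [tv_mul_inv φ _ _ (hs.qq 1 1), Matrix.mul_one, hsginv]
      have hE'm : E' ∈ MS φ H := MS_inv hE hEE'
      set X := sg φ (p 0) (q 1) 0 * S with hX_def
      have hcomm : tv φ (q 1) κ * sg φ (p 0) (q 1) 0 = sg φ (p 0) (q 1) 0 * tv φ (q 1) κ :=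
        commute_sg_of_fix htvU
          (tv_fix _ _ _ (by simp only [hs.pq, Fin.reduceEq, ↓reduceIte]))
          (tv_fix _ _ _ (hs.qq 1 1)) 0
      have hXm : X ∈ MS φ H := by
        have : X = E' * R := by
          rw [hX_def, hE'_def, hR_def]
          calc sg φ (p 0) (q 1) 0 * S
              = tv φ (q 1) (-κ) * (tv φ (q 1) κ * sg φ (p 0) (q 1) 0) * S := by
                rw [← Matrix.mul_assoc, tv_inv_mul φ _ _ (hs.qq 1 1), Matrix.one_mul]
            _ = tv φ (q 1) (-κ) * sg φ (p 0) (q 1) 0 * (tv φ (q 1) κ * S) := by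
                rw [hcomm]
                simp only [Matrix.mul_assoc]
        rw [this]
        exact MS_mul hE'm hRm
      -- actions of `u`
      have huf : u *ᵥ q 0 = q 0 + q 1 := by
        rw [hu_def, ← Matrix.mulVec_mulVec, hYf, sg_mulVec]
        simp only [hs.qp, hs.qq, ↓reduceIte]
        module
      have hYe2 : Y *ᵥ p 1 = p 1 := by
        rw [hY_def, sg_fix _ _ _ _ (hs.pp 1 1)]
        simp only [hdot_smul_right, hpd, mul_zero]
      have hue2 : u *ᵥ p 1 = p 1 - p 0 := by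
        rw [hu_def, ← Matrix.mulVec_mulVec, hYe2, sg_mulVec]
        simp only [hs.pp, hs.pq, ↓reduceIte]
        module
      have hud : u *ᵥ d = d - φ td • p 1 + φ td • p 0 := by
        rw [hu_def, ← Matrix.mulVec_mulVec, hY_def, sg_mulVec, sg_mulVec]
        simp only [hdot_add_left, hdot_smul_left, hdot_smul_right, hdp, hdq, hdd, hs.pp, hs.pq,
          ↓reduceIte]
        module
      have huf2 : u *ᵥ q 1 = q 1 + td • d + s0 • p 1 - s0 • p 0 := by
        rw [hu_def, ← Matrix.mulVec_mulVec, hY_def, sg_mulVec, sg_mulVec]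
        simp only [hdot_add_left, hdot_smul_left, hdot_smul_right, hdp, hdq, hqd, hdd, hs.pp,
          hs.pq, hs.qp, hs.qq, Fin.reduceEq, ↓reduceIte]
        module
      -- actions of `X`
      have hXe : X *ᵥ p 0 = p 0 := by
        rw [hX_def, ← Matrix.mulVec_mulVec, hSe, sg_fix _ _ _ _ hee]
        simp only [hs.pq, Fin.reduceEq, ↓reduceIte]
      have hXf : X *ᵥ q 0 = q 0 + q 1 + δ • d - σ • p 1 + (2 * σ) • p 0 := by
        rw [hX_def, ← Matrix.mulVec_mulVec, hS_def, sg_mulVec, sg_mulVec]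
        simp only [hdot_add_left, hdot_sub_left, hdot_sub_right, hdot_smul_left, hdot_smul_right,
          hdp, hdq, hqd, hpd, hdd, hs.pp, hs.pq, hs.qp, hs.qq, Fin.reduceEq, ↓reduceIte]
        module
      have hXe2 : X *ᵥ p 1 = p 1 - p 0 := by
        rw [hX_def, ← Matrix.mulVec_mulVec, hS_def, sg_mulVec, sg_mulVec]
        simp only [hdot_add_left, hdot_sub_left, hdot_sub_right, hdot_smul_left, hdot_smul_right,
          hdp, hdq, hqd, hpd, hdd, hs.pp, hs.pq, hs.qp, hs.qq, Fin.reduceEq, ↓reduceIte]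
        module
      have hXd : X *ᵥ d = d + φ δ • p 1 - (2 * φ δ) • p 0 := by
        rw [hX_def, ← Matrix.mulVec_mulVec, hS_def, sg_mulVec, sg_mulVec]
        simp only [hdot_add_left, hdot_sub_left, hdot_sub_right, hdot_smul_left, hdot_smul_right,
          hdp, hdq, hqd, hpd, hdd, hs.pp, hs.pq, hs.qp, hs.qq, Fin.reduceEq, ↓reduceIte]
        module
      have hXf2 : X *ᵥ q 1 = q 1 - δ • d + σ • p 1 - (2 * σ) • p 0 := by
        rw [hX_def, ← Matrix.mulVec_mulVec, hSf2, sg_mulVec]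
        simp only [hdot_add_left, hdot_sub_left, hdot_sub_right, hdot_smul_left, hdot_smul_right,
          hdp, hdq, hqd, hpd, hdd, hs.pp, hs.pq, hs.qp, hs.qq, Fin.reduceEq, ↓reduceIte]
        module
      -- squares
      have huue2 : (u * u) *ᵥ p 1 = p 1 - (2 : F) • p 0 := by
        rw [← Matrix.mulVec_mulVec, hue2, Matrix.mulVec_sub, hue2, hue]
        module
      have huud : (u * u) *ᵥ d = d - (2 * φ td) • p 1 + (3 * φ td) • p 0 := by
        rw [← Matrix.mulVec_mulVec, hud, Matrix.mulVec_add, Matrix.mulVec_sub, Matrix.mulVec_smul,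
          Matrix.mulVec_smul, hud, hue2, hue]
        module
      have huuf2 : (u * u) *ᵥ q 1 = q 1 + (2 * td) • d + (2 * s0 - td * φ td) • p 1 +
          (-(3 * s0) + td * φ td) • p 0 := by
        rw [← Matrix.mulVec_mulVec, huf2, Matrix.mulVec_sub, Matrix.mulVec_add, Matrix.mulVec_add,
          Matrix.mulVec_smul, Matrix.mulVec_smul, Matrix.mulVec_smul, huf2, hud, hue2, hue]
        module
      have huuf : (u * u) *ᵥ q 0 = q 0 + (2 : F) • q 1 + td • d + s0 • p 1 - s0 • p 0 := by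
        rw [← Matrix.mulVec_mulVec, huf, Matrix.mulVec_add, huf, huf2]
        module
      have hXXe2 : (X * X) *ᵥ p 1 = p 1 - (2 : F) • p 0 := by
        rw [← Matrix.mulVec_mulVec, hXe2, Matrix.mulVec_sub, hXe2, hXe]
        module
      have hXXd : (X * X) *ᵥ d = d + (2 * φ δ) • p 1 - (5 * φ δ) • p 0 := by
        rw [← Matrix.mulVec_mulVec, hXd, Matrix.mulVec_sub, Matrix.mulVec_add, Matrix.mulVec_smul,
          Matrix.mulVec_smul, hXd, hXe2, hXe]
        module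
      have hXXf2 : (X * X) *ᵥ q 1 = q 1 - (2 * δ) • d + (2 * σ - δ * φ δ) • p 1 +
          (-(5 * σ) + 2 * (δ * φ δ)) • p 0 := by
        rw [← Matrix.mulVec_mulVec, hXf2, Matrix.mulVec_sub, Matrix.mulVec_add, Matrix.mulVec_sub,
          Matrix.mulVec_smul, Matrix.mulVec_smul, Matrix.mulVec_smul, hXf2, hXd, hXe2, hXe]
        module
      have hXXf : (X * X) *ᵥ q 0 = q 0 + (2 : F) • q 1 + δ • d + (δ * φ δ - σ) • p 1 +
          (3 * σ - 2 * (δ * φ δ)) • p 0 := by
        rw [← Matrix.mulVec_mulVec, hXf, Matrix.mulVec_add, Matrix.mulVec_sub, Matrix.mulVec_add,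
          Matrix.mulVec_add, Matrix.mulVec_smul, Matrix.mulVec_smul, Matrix.mulVec_smul, hXf,
          hXf2, hXd, hXe2, hXe]
        module
      have huuU : IsU φ (u * u) := MS_isU (MS_mul hu hu)
      have hXXU : IsU φ (X * X) := MS_isU (MS_mul hXm hXm)
      have huue : (u * u) *ᵥ p 0 = p 0 := by rw [← Matrix.mulVec_mulVec, hue, hue]
      have hXXe : (X * X) *ᵥ p 0 = p 0 := by rw [← Matrix.mulVec_mulVec, hXe, hXe]
      have hlev : ∀ x, hdot φ x (p 0) = 0 → ∃ c : F, (u * u) *ᵥ x = (X * X) *ᵥ x + c • p 0 := by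
        intro x hx
        have hxx := hspan x
        rw [hx, zero_smul, add_zero] at hxx
        generalize hdot φ x (q 0) = a at hxx
        generalize hdot φ x (q 1) = b at hxx
        generalize hdot φ x (p 1) = c at hxx
        generalize hdot φ x d = d' at hxx
        refine ⟨c * ((-(3 * s0) + td * φ td) - (-(5 * σ) + 2 * (δ * φ δ))) +
          d' * (3 * φ td + 5 * φ δ), ?_⟩
        rw [hxx]
        simp only [Matrix.mulVec_add, Matrix.mulVec_smul, huue, hXXe, huue2, hXXe2, huuf2, hXXf2,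
          huud, hXXd]
        match_scalars <;>
          first
          | ring1
          | linear_combination (c * (s0 - σ) - d' * (φ td + φ δ)) * h2 + c * hN
          | linear_combination (c * td + c * δ) * h2
      have hG1m : u * u ∈ MS φ H := MS_mul hu hu
      have hG2m : X * X ∈ MS φ H := MS_mul hXm hXm
      obtain ⟨G1, hG1⟩ : ∃ G1, G1 = u * u := ⟨_, rfl⟩
      obtain ⟨G2, hG2⟩ : ∃ G2, G2 = X * X := ⟨_, rfl⟩
      rw [← hG1] at huuf huuU huue hlev hG1m
      rw [← hG2] at hXXf hXXU hXXe hlev hG2m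
      have hlv := sg_of_levi_eq hφφ (p 0) (q 0) hee hfe G1 G2 huuU hXXU huue hXXe hlev
      set w0 := G1 *ᵥ q 0 - G2 *ᵥ q 0 with hw0
      obtain ⟨XX', hXX'm, hXX'1, hXX'2⟩ := MS_exists_inv hG2m
      have hsgm : sg φ (p 0) w0 (hdot φ (G2 *ᵥ q 0) w0) ∈ MS φ H := by
        have : sg φ (p 0) w0 (hdot φ (G2 *ᵥ q 0) w0) = G1 * XX' := by
          calc sg φ (p 0) w0 (hdot φ (G2 *ᵥ q 0) w0)
              = sg φ (p 0) w0 (hdot φ (G2 *ᵥ q 0) w0) * (G2 * XX') := by
                rw [hXX'1, Matrix.mul_one]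
            _ = (sg φ (p 0) w0 (hdot φ (G2 *ᵥ q 0) w0) * G2) * XX' := by
                rw [Matrix.mul_assoc]
            _ = G1 * XX' := by rw [← hlv]
        rw [this]
        exact MS_mul hG1m hXX'm
      have hw0e : w0 = (td - δ) • d + (s0 - δ * φ δ + σ) • p 1 +
          (-s0 - 3 * σ + 2 * (δ * φ δ)) • p 0 := by
        rw [hw0, huuf, hXXf]
        module
      have hw0B : w0 ∈ B0 φ H (p 0) := by
        apply B0_of_mem hφφ (p 0) (q 0) _ _ hee hfe _ hsgm
        rw [hw0e]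
        simp only [hdot_add_left, hdot_smul_left, hdp, hs.pp, mul_zero, add_zero]
      have h1 := B0_act_sub hφφ hee hE hEe hw0B
      have e1 : E *ᵥ w0 - w0 = ((s0 - δ * φ δ + σ) * κ) • q 1 + (s0 - δ * φ δ + σ) • p 0 := by
        rw [hw0e, Matrix.mulVec_add, Matrix.mulVec_add, Matrix.mulVec_smul, Matrix.mulVec_smul,
          Matrix.mulVec_smul, hEd, hEe2, hEe]
        module
      rw [e1] at h1
      refine ⟨(s0 - δ * φ δ + σ) * κ, ?_, B0_unshift hφφ hee _ h1⟩
      rw [hσ1, hN, hκ1, mul_one]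
      have : s0 - td * φ td + -s0 = -(td * φ td) := by ring
      rw [this]
      exact neg_ne_zero.mpr (mul_ne_zero htd hφtd0)
    · -- odd characteristic
      refine ⟨2, h2, ?_⟩
      have e1 : sg φ (p 0) (q 1) 0 * sg φ (p 0) (q 1) 0 = sg φ (p 0) ((2 : F) • q 1) 0 := by
        rw [sg_mul_sg φ _ _ _ _ _ hee (by simp only [hs.qp, Fin.reduceEq, ↓reduceIte])
          (by simp only [hs.pq, Fin.reduceEq, ↓reduceIte]), hs.qq]
        congr 1
        · module
        · ring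
      rw [e1] at hAA
      exact B0_of_mem hφφ (p 0) (q 0) _ _ hee hfe
        (by simp only [hdot_smul_left, hs.qp, Fin.reduceEq, ↓reduceIte, mul_zero]) hAA
  -- the Siegel group of `e`
  have hQe := parab hφφ H (p 0) (q 1) (p 1) hee (by simp only [hs.qp, ↓reduceIte])
    (by simp only [hs.pq, ↓reduceIte]) (hs.pp 1 0) μ hμ τ hτ u U' hu hUU' hue hloop hinit hcyc
  exact finish hφφ hgen H (p 0) (q 0) hee (hs.qq 0 0) (by simp only [hs.pq, ↓reduceIte]) hfe κ hκ
    hκ0 hL1 hQe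

end general

end Cfsg.Agent.Helper12.SUgen
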