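import Mathlib
import Cfsg.Agent.Lib.Helper12.SUgenD

set_option autoImplicit false

/-! The generation argument in rank at least three. -/

namespace Cfsg.Agent.Helper12.SUgen

open Matrix Cfsg.Agent.Helper11.Herm

section general

variable {F : Type*} [Field F] {ι : Type*} [Fintype ι] [DecidableEq ι] {φ : F →+* F}

theorem core3 [Finite F] (hφφ : ∀ x, φ (φ x) = x)
    (hgen : ∀ M : Matrix ι ι F, IsU φ M → M.det = 1 → M ∈ TM φ)
    (H : Subgroup (SUg ι φ)) (p q : Fin 3 → ι → F) (hs : HypSys φ 3 p q)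
    (κ b μ τ : F) (hκ : φ κ = -κ) (hκ0 : κ ≠ 0) (hb0 : b ≠ 0) (hb : -κ * φ b = μ)
    (hμ : ∀ y : F, y ≠ 0 → ∃ k : ℕ, y = μ ^ k) (hτ : τ + φ τ = 1)
    (Y Y'' : Matrix ι ι F) (hY : IsU φ Y) (hY'' : IsU φ Y'')
    (hYe : Y *ᵥ p 0 = p 0) (hYf : Y *ᵥ q 0 = q 0) (hYf2 : Y *ᵥ q 1 = q 1 + q 2)
    (hYe3 : Y *ᵥ p 2 = p 2 - p 1) (hYe2 : Y *ᵥ p 1 = p 1)
    (hY''e : Y'' *ᵥ p 0 = p 0) (hY''f : Y'' *ᵥ q 0 = q 0)
    (hY''f3 : Y'' *ᵥ q 2 = q 2 - φ b • p 1 - (κ * φ b) • q 1)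
    (U' : Matrix ι ι F) (hUU' : sg φ (p 0) (q 1) 0 * Y * U' = 1)
    (hu : sg φ (p 0) (q 1) 0 * Y ∈ MS φ H) (hz : tv φ (p 0) κ⁻¹ ∈ MS φ H)
    (hu3 : tv φ (q 0) (-κ) * (sg φ (p 0) (-b • p 2) 0 * Y'') ∈ MS φ H)
    (hcyc : ∀ S : Submodule F (ι → F), p 0 ∈ S → q 1 ∈ S →
      (∀ x ∈ S, (sg φ (p 0) (q 1) 0 * Y) *ᵥ x ∈ S) → (∀ x ∈ S, U' *ᵥ x ∈ S) →
      ∀ w, hdot φ w (p 0) = 0 → w ∈ S) : H = ⊤ := by
  have hφb0 : φ b ≠ 0 := fun h => hb0 (by rw [← hφφ b, h, map_zero])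
  have hκi : φ κ⁻¹ = -κ⁻¹ := by rw [map_inv₀, hκ, inv_neg]
  have hee := hs.pp 0 0
  -- the element `R`
  have hsgU : IsU φ (sg φ (p 0) (-b • p 2) 0) := by
    apply isU_sg φ hφφ _ _ _ hee
    · simp only [hdot_smul_left, hs.pp, mul_zero]
    · simp only [hdot_smul_left, hdot_smul_right, hs.pp, mul_zero, map_zero, add_zero]
  set R := sg φ (p 0) (-b • p 2) 0 * Y'' with hR
  have hRU : IsU φ R := IsU.mul φ hsgU hY''
  have hRe : R *ᵥ p 0 = p 0 := by
    rw [hR, ← Matrix.mulVec_mulVec, hY''e, sg_fix _ _ _ _ hee]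
    simp only [hdot_smul_right, hs.pp, mul_zero]
  obtain ⟨hL1, hRm, hE, hAA⟩ := common hφφ H (p 0) (q 0) (q 1) hee (hs.qq 0 0)
    (by simp only [hs.pq, ↓reduceIte]) (by simp only [hs.qp, ↓reduceIte]) (hs.qq 1 1)
    (by simp only [hs.qp, Fin.reduceEq, ↓reduceIte]) (by simp only [hs.pq, Fin.reduceEq, ↓reduceIte])
    (hs.qq 1 0) (hs.qq 0 1) κ hκ hκ0 Y R hY hYe hYf hRU hRe hu hz hu3
  set u := sg φ (p 0) (q 1) 0 * Y with hu_def
  set E := sg φ (p 0) (-q 1) 0 * tv φ (q 1) κ with hE_def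
  have hue : u *ᵥ p 0 = p 0 := by
    rw [hu_def, ← Matrix.mulVec_mulVec, hYe, sg_fix _ _ _ _ hee]
    simp only [hs.pq, Fin.reduceEq, ↓reduceIte]
  have hEe : E *ᵥ p 0 = p 0 := by
    rw [hE_def, ← Matrix.mulVec_mulVec, tv_fix, sg_fix _ _ _ _ hee]
    · simp only [hdot_neg_right', hs.pq, Fin.reduceEq, ↓reduceIte, neg_zero]
    · simp only [hs.pq, Fin.reduceEq, ↓reduceIte]
  -- action of `E` on `e2`, `f2`
  have hEe2 : E *ᵥ p 1 = p 1 + κ • q 1 + p 0 := by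
    rw [hE_def, ← Matrix.mulVec_mulVec, tv_mulVec, sg_mulVec]
    simp only [hdot_add_left, hdot_smul_left, hdot_neg_right', hs.pp, hs.qq, hs.pq, hs.qp,
      Fin.reduceEq, ↓reduceIte]
    module
  have hEf2 : E *ᵥ q 1 = q 1 := by
    rw [hE_def, ← Matrix.mulVec_mulVec, tv_mulVec, sg_mulVec]
    simp only [hdot_add_left, hdot_smul_left, hdot_neg_right', hs.pp, hs.qq, hs.pq, hs.qp,
      Fin.reduceEq, ↓reduceIte]
    module
  -- action of `u`
  have huf2 : u *ᵥ q 1 = q 1 + q 2 := by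
    rw [hu_def, ← Matrix.mulVec_mulVec, hYf2, sg_fix]
    · simp only [hdot_add_left, hs.qp, Fin.reduceEq, ↓reduceIte, add_zero]
    · simp only [hdot_add_left, hs.qq, add_zero]
  have hue2 : u *ᵥ p 1 = p 1 - p 0 := by
    rw [hu_def, ← Matrix.mulVec_mulVec, hYe2, sg_mulVec]
    simp only [hs.pp, hs.pq, ↓reduceIte]
    module
  have hue3 : u *ᵥ p 2 = p 2 - p 1 + p 0 := by
    rw [hu_def, ← Matrix.mulVec_mulVec, hYe3, sg_mulVec]
    simp only [hdot_sub_left, hs.pp, hs.pq, Fin.reduceEq, ↓reduceIte]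
    module
  -- action of `R` on `f3`
  have hRf3 : R *ᵥ q 2 = q 2 - φ b • p 1 - (κ * φ b) • q 1 + φ b • p 0 := by
    rw [hR, ← Matrix.mulVec_mulVec, hY''f3, sg_mulVec]
    simp only [hdot_sub_left, hdot_smul_left, hdot_smul_right, hdot_neg_right', hs.pp, hs.qq,
      hs.pq, hs.qp, Fin.reduceEq, ↓reduceIte, map_neg]
    module
  -- the loop
  have hloop : ∀ x : F, x • q 1 ∈ B0 φ H (p 0) → (μ * x) • q 1 ∈ B0 φ H (p 0) := by
    intro x hx
    have h1 := B0_act_sub hφφ hee hu hue hx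
    have e1 : u *ᵥ (x • q 1) - x • q 1 = x • q 2 := by
      rw [Matrix.mulVec_smul, huf2]
      module
    rw [e1] at h1
    have h2 := B0_act_sub hφφ hee hRm hRe h1
    have e2 : R *ᵥ (x • q 2) - x • q 2 =
        (-(x * φ b)) • p 1 + (-(x * κ * φ b)) • q 1 + (x * φ b) • p 0 := by
      rw [Matrix.mulVec_smul, hRf3]
      module
    rw [e2] at h2
    have h3 := B0_act_sub hφφ hee hE hEe h2
    have e3 : E *ᵥ ((-(x * φ b)) • p 1 + (-(x * κ * φ b)) • q 1 + (x * φ b) • p 0) -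
        ((-(x * φ b)) • p 1 + (-(x * κ * φ b)) • q 1 + (x * φ b) • p 0) =
        (μ * x) • q 1 + (-(x * φ b)) • p 0 := by
      rw [Matrix.mulVec_add, Matrix.mulVec_add, Matrix.mulVec_smul, Matrix.mulVec_smul,
        Matrix.mulVec_smul, hEe2, hEf2, hEe, ← hb]
      module
    rw [e3] at h3
    exact B0_unshift hφφ hee _ h3
  have hfe : hdot φ (q 0) (p 0) = 1 := by simp only [hs.qp, ↓reduceIte]
  -- the initial element
  have hinit : ∃ x0 : F, x0 ≠ 0 ∧ x0 • q 1 ∈ B0 φ H (p 0) := by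
    by_cases h2 : (2 : F) = 0
    · -- characteristic two
      set g := tv φ (q 0) (-κ) * tv φ (p 0) κ⁻¹ * R with hg
      have hgm : g ∈ MS φ H := MS_mul (MS_mul hL1 hz) hRm
      set x0 := p 0 - (b * κ) • p 2 with hx0
      have hgf : g *ᵥ q 0 = κ⁻¹ • x0 := by
        rw [hg, ← Matrix.mulVec_mulVec, ← Matrix.mulVec_mulVec, hR, ← Matrix.mulVec_mulVec,
          hY''f, sg_mulVec, tv_mulVec, tv_mulVec, hx0]
        simp only [hdot_add_left, hdot_smul_left, hdot_smul_right, hdot_neg_right', hs.pp, hs.qq,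
          hs.pq, hs.qp, Fin.reduceEq, ↓reduceIte]
        match_scalars <;> field_simp <;> ring
      have hx0m : tv φ x0 κ⁻¹ ∈ MS φ H := by
        have := MS_tv_conj hgm (q 0) (-κ) hL1
        rw [hgf, tv_smul_left, hκi] at this
        have e1 : κ⁻¹ * -κ⁻¹ * -κ = κ⁻¹ := by field_simp
        rw [e1] at this
        exact this
      have hx0x0 : hdot φ x0 x0 = 0 := by
        rw [hx0]
        simp only [hdot_sub_left, hdot_sub_right, hdot_smul_left, hdot_smul_right, hs.pp]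
        ring
      have huux0 : (u * u) *ᵥ x0 = x0 + (-(b * κ)) • p 0 := by
        rw [← Matrix.mulVec_mulVec, hx0, Matrix.mulVec_sub, Matrix.mulVec_smul, hue, hue3,
          Matrix.mulVec_sub, Matrix.mulVec_smul, Matrix.mulVec_add, Matrix.mulVec_sub, hue,
          hue3, hue2]
        match_scalars <;>
          first
          | ring1
          | linear_combination (-(b * κ)) * h2
          | linear_combination (b * κ) * h2
      have hx2m : tv φ (x0 + (-(b * κ)) • p 0) κ⁻¹ ∈ MS φ H := by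
        have := MS_tv_conj (MS_mul hu hu) x0 κ⁻¹ hx0m
        rw [huux0] at this
        exact this
      have hadd := tv_add φ x0 ((-(b * κ)) • p 0) κ⁻¹ hx0x0
        (by simp only [hdot_smul_left, hdot_smul_right, hs.pp, mul_zero])
        (by rw [hx0]; simp only [hdot_smul_left, hdot_sub_right, hdot_smul_right, hs.pp]; ring)
        (by rw [hx0]; simp only [hdot_smul_right, hdot_sub_left, hdot_smul_left, hs.pp]; ring)
        hκi
      have hprod : tv φ ((-(b * κ)) • p 0) κ⁻¹ * sg φ x0 (κ⁻¹ • (-(b * κ)) • p 0) 0 ∈ MS φ H := by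
        have e1 : tv φ ((-(b * κ)) • p 0) κ⁻¹ * sg φ x0 (κ⁻¹ • (-(b * κ)) • p 0) 0 =
            tv φ x0 (-κ⁻¹) * tv φ (x0 + (-(b * κ)) • p 0) κ⁻¹ := by
          rw [hadd, ← Matrix.mul_assoc, ← Matrix.mul_assoc, tv_inv_mul φ x0 _ hx0x0,
            Matrix.one_mul]
        rw [e1]
        exact MS_mul (MS_inv hx0m (tv_mul_inv φ x0 _ hx0x0)) hx2m
      have hsw : sg φ x0 (κ⁻¹ • (-(b * κ)) • p 0) 0 =
          sg φ (p 0) ((-(b * φ b * κ)) • p 2) (φ b - b) := by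
        rw [smul_smul, sg_swap φ hφφ]
        have e1 : -φ (κ⁻¹ * -(b * κ)) • x0 = (-(b * φ b * κ)) • p 2 + φ b • p 0 := by
          rw [hx0, map_mul, map_neg, map_mul, hκ, hκi]
          match_scalars <;> field_simp <;> ring
        rw [e1, sg_shift, hφφ]
        congr 1
        ring
      rw [hsw, tv_smul_left, tv_mul_sg φ _ _ _ _ hee
        (by simp only [hdot_smul_left, hs.pp, mul_zero])] at hprod
      have hw0 : (-(b * φ b * κ)) • p 2 ∈ B0 φ H (p 0) :=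
        B0_of_mem hφφ (p 0) (q 0) _ _ hee hfe
          (by simp only [hdot_smul_left, hs.pp, mul_zero]) hprod
      have h1 := B0_act_sub hφφ hee hu hue hw0
      have e1 : u *ᵥ ((-(b * φ b * κ)) • p 2) - (-(b * φ b * κ)) • p 2 =
          (b * φ b * κ) • p 1 + (-(b * φ b * κ)) • p 0 := by
        rw [Matrix.mulVec_smul, hue3]
        module
      rw [e1] at h1
      have h3 := B0_act_sub hφφ hee hE hEe (B0_unshift hφφ hee _ h1)
      have e3 : E *ᵥ ((b * φ b * κ) • p 1) - (b * φ b * κ) • p 1 =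
          (b * φ b * κ * κ) • q 1 + (b * φ b * κ) • p 0 := by
        rw [Matrix.mulVec_smul, hEe2]
        module
      rw [e3] at h3
      refine ⟨b * φ b * κ * κ, ?_, B0_unshift hφφ hee _ h3⟩
      exact mul_ne_zero (mul_ne_zero (mul_ne_zero hb0 hφb0) hκ0) hκ0
    · -- odd characteristic
      refine ⟨2, h2, ?_⟩
      have e1 : sg φ (p 0) (q 1) 0 * sg φ (p 0) (q 1) 0 = sg φ (p 0) ((2 : F) • q 1) 0 := by
        rw [sg_mul_sg φ _ _ _ _ _ hee (by simp only [hs.qp, Fin.reduceEq, ↓reduceIte])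
          (by simp only [hs.pq, Fin.reduceEq, ↓reduceIte]), hs.qq]
        congr 1
        · module
        · ring
      rw [e1] at hAA
      exact B0_of_mem hφφ (p 0) (q 0) _ _ hee hfe
        (by simp only [hdot_smul_left, hs.qp, Fin.reduceEq, ↓reduceIte, mul_zero]) hAA
  -- the Siegel group of `e`
  have hQe := parab hφφ H (p 0) (q 1) (p 1) hee (by simp only [hs.qp, ↓reduceIte])
    (by simp only [hs.pq, ↓reduceIte]) (hs.pp 1 0) μ hμ τ hτ u U' hu hUU' hue hloop hinit hcyc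
  -- the Siegel group of `y = L1 e`
  set y := tv φ (q 0) (-κ) *ᵥ p 0 with hy
  have hy' : y = p 0 + (-κ) • q 0 := by
    rw [hy, tv_mulVec]
    simp only [hs.pq, ↓reduceIte, mul_one]
  have hL1i : tv φ (q 0) κ ∈ MS φ H := by
    have := MS_inv hL1 (tv_mul_inv φ (q 0) (-κ) (hs.qq 0 0))
    rw [neg_neg] at this
    exact this
  have hL1L1i : tv φ (q 0) (-κ) * tv φ (q 0) κ = 1 := by
    have := tv_mul_inv φ (q 0) (-κ) (hs.qq 0 0)
    rw [neg_neg] at this
    exact this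
  have hL1iL1 : tv φ (q 0) κ * tv φ (q 0) (-κ) = 1 := tv_mul_inv φ (q 0) κ (hs.qq 0 0)
  have hQy : ∀ w s, hdot φ w y = 0 → s + φ s + hdot φ w w = 0 → sg φ y w s ∈ MS φ H := by
    intro w s hwy hws
    have hUi := MS_isU hL1i
    have h1 : hdot φ (tv φ (q 0) κ *ᵥ w) (p 0) = 0 := by
      have : p 0 = tv φ (q 0) κ *ᵥ y := by
        rw [hy, Matrix.mulVec_mulVec, hL1iL1, Matrix.one_mulVec]
      rw [this, hUi.hdot_mulVec, hwy]
    have h2 : s + φ s + hdot φ (tv φ (q 0) κ *ᵥ w) (tv φ (q 0) κ *ᵥ w) = 0 := by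
      rw [hUi.hdot_mulVec]
      exact hws
    have h3 := MS_sg_conj hL1 _ _ _ (hQe _ s h1 h2)
    rw [Matrix.mulVec_mulVec, hL1L1i, Matrix.one_mulVec] at h3
    exact h3
  apply endgame hφφ hgen H (p 0) y hee
  · rw [hy']
    simp only [hdot_add_left, hdot_add_right, hdot_smul_left, hdot_smul_right, hs.pp, hs.qq,
      hs.pq, hs.qp, ↓reduceIte, map_neg, hκ]
    ring
  · rw [hy']
    simp only [hdot_add_left, hdot_smul_left, hs.pp, hs.qp, ↓reduceIte]
    simpa using hκ0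
  · exact hQe
  · exact hQy

end general

end Cfsg.Agent.Helper12.SUgen
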