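import Mathlib
import Cfsg.Agent.Lib.Helper12.SUgenH

set_option autoImplicit false

/-! The matrix carrying one Witt family to another, replacing the first pairs of a Witt family, and
some identities among Siegel elements. -/

namespace Cfsg.Agent.Helper12.SUgen

open Matrix Cfsg.Agent.Helper11.Herm

section general

variable {F : Type*} [Field F] {ι : Type*} [Fintype ι] [DecidableEq ι]
variable {φ : F →+* F} {m : ℕ}

/-- the matrix sending one Witt family to another -/
def wmap (W W' : Witt φ ι m) : Matrix ι ι F :=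
  ∑ i ∈ Finset.range m, (Matrix.vecMulVec (W'.e i) (φ ∘ W.f i) +
    Matrix.vecMulVec (W'.f i) (φ ∘ W.e i)) + Matrix.vecMulVec W'.d (φ ∘ W.d)

theorem wmap_mulVec (W W' : Witt φ ι m) (x : ι → F) :
    wmap W W' *ᵥ x = ∑ i ∈ Finset.range m, (hdot φ x (W.f i) • W'.e i +
      hdot φ x (W.e i) • W'.f i) + hdot φ x W.d • W'.d := by
  unfold wmap
  rw [Matrix.add_mulVec, vecMulVec_mulVec', Matrix.sum_mulVec]
  congr 1
  apply Finset.sum_congr rfl
  intro i _
  rw [Matrix.add_mulVec, vecMulVec_mulVec', vecMulVec_mulVec']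

theorem wmap_e (W W' : Witt φ ι m) (j : ℕ) (hj : j < m) : wmap W W' *ᵥ W.e j = W'.e j := by
  rw [wmap_mulVec, W.ed j hj, zero_smul, add_zero, Finset.sum_eq_single j]
  · rw [W.ef j j hj hj, if_pos rfl, W.ee j j hj hj, one_smul, zero_smul, add_zero]
  · intro i hi hij
    rw [Finset.mem_range] at hi
    rw [W.ef j i hj hi, if_neg (Ne.symm hij), W.ee j i hj hi, zero_smul, zero_smul, add_zero]
  · intro h
    exact absurd (Finset.mem_range.2 hj) h

theorem wmap_f (W W' : Witt φ ι m) (j : ℕ) (hj : j < m) : wmap W W' *ᵥ W.f j = W'.f j := by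
  rw [wmap_mulVec, W.fd j hj, zero_smul, add_zero, Finset.sum_eq_single j]
  · rw [W.fe j j hj hj, if_pos rfl, W.ff j j hj hj, one_smul, zero_smul, zero_add]
  · intro i hi hij
    rw [Finset.mem_range] at hi
    rw [W.fe j i hj hi, if_neg (Ne.symm hij), W.ff j i hj hi, zero_smul, zero_smul, add_zero]
  · intro h
    exact absurd (Finset.mem_range.2 hj) h

theorem wmap_d (W W' : Witt φ ι m) : wmap W W' *ᵥ W.d = W'.d := by
  rw [wmap_mulVec, W.dd, one_smul, Finset.sum_eq_zero, zero_add]
  intro i hi
  rw [Finset.mem_range] at hi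
  rw [W.df i hi, W.de i hi, zero_smul, zero_smul, add_zero]

theorem wmap_isU (hφφ : ∀ x, φ (φ x) = x) (W W' : Witt φ ι m) : IsU φ (wmap W W') := by
  apply isU_of_preserves
  intro x y
  let S : Submodule F (ι → F) :=
    { carrier := {x | ∀ y, hdot φ (wmap W W' *ᵥ x) (wmap W W' *ᵥ y) = hdot φ x y}
      add_mem' := by
        intro a b ha hb y
        rw [Matrix.mulVec_add, hdot_add_left, ha y, hb y, hdot_add_left]
      zero_mem' := by
        intro y
        rw [Matrix.mulVec_zero, hdot_zero_left, hdot_zero_left]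
      smul_mem' := by
        intro c a ha y
        rw [Matrix.mulVec_smul, hdot_smul_left, ha y, hdot_smul_left] }
  have hx : x ∈ S := by
    apply W.span S
    · intro i hi y
      rw [wmap_e W W' i hi, wmap_mulVec, hdot_add_right, hdot_sum_right, hdot_smul_right,
        W'.ed i hi, mul_zero, add_zero, Finset.sum_eq_single i]
      · rw [hdot_add_right, hdot_smul_right, hdot_smul_right, W'.ee i i hi hi, W'.ef i i hi hi,
          if_pos rfl, mul_zero, zero_add, mul_one, hdot_conj φ hφφ]
      · intro j hj hji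
        rw [Finset.mem_range] at hj
        rw [hdot_add_right, hdot_smul_right, hdot_smul_right, W'.ee i j hi hj, W'.ef i j hi hj,
          if_neg (Ne.symm hji), mul_zero, mul_zero, add_zero]
      · intro h
        exact absurd (Finset.mem_range.2 hi) h
    · intro i hi y
      rw [wmap_f W W' i hi, wmap_mulVec, hdot_add_right, hdot_sum_right, hdot_smul_right,
        W'.fd i hi, mul_zero, add_zero, Finset.sum_eq_single i]
      · rw [hdot_add_right, hdot_smul_right, hdot_smul_right, W'.ff i i hi hi, W'.fe i i hi hi,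
          if_pos rfl, mul_zero, add_zero, mul_one, hdot_conj φ hφφ]
      · intro j hj hji
        rw [Finset.mem_range] at hj
        rw [hdot_add_right, hdot_smul_right, hdot_smul_right, W'.ff i j hi hj, W'.fe i j hi hj,
          if_neg (Ne.symm hji), mul_zero, mul_zero, add_zero]
      · intro h
        exact absurd (Finset.mem_range.2 hi) h
    · intro y
      rw [wmap_d W W', wmap_mulVec, hdot_add_right, hdot_sum_right, hdot_smul_right, W'.dd,
        mul_one, Finset.sum_eq_zero, zero_add, hdot_conj φ hφφ]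
      intro j hj
      rw [Finset.mem_range] at hj
      rw [hdot_add_right, hdot_smul_right, hdot_smul_right, W'.de j hj, W'.df j hj, mul_zero,
        mul_zero, add_zero]
  exact hx y

/-- conjugating the chain -/
theorem conj_chain (W W' : Witt φ ι m) (h : Matrix ι ι F) (hU : IsU φ h)
    (he : ∀ i, i < m → h *ᵥ W.e i = W'.e i) (hf : ∀ i, i < m → h *ᵥ W.f i = W'.f i)
    (hd : h *ᵥ W.d = W'.d) (td s0 : F) (j : ℕ) :
    ∀ k, k + j < m → h * chain W td s0 k j = chain W' td s0 k j * h := by
  induction j with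
  | zero =>
    intro k hk
    rw [chain_zero, chain_zero, isU_mul_sg φ hU, he k (by omega), Matrix.mulVec_smul, hd]
  | succ j ih =>
    intro k hk
    rw [chain_succ, chain_succ, ← Matrix.mul_assoc, isU_mul_sg φ hU, he k (by omega),
      hf (k + 1) (by omega), Matrix.mul_assoc, ih (k + 1) (by omega), Matrix.mul_assoc]

/-- the hyperbolic system of the first pairs of a Witt family -/
theorem Witt.hypSys (W : Witt φ ι m) (k : ℕ) (hk : k ≤ m) :
    HypSys φ k (fun i => W.e i.val) (fun i => W.f i.val) where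
  pp i j := W.ee _ _ (lt_of_lt_of_le i.isLt hk) (lt_of_lt_of_le j.isLt hk)
  qq i j := W.ff _ _ (lt_of_lt_of_le i.isLt hk) (lt_of_lt_of_le j.isLt hk)
  pq i j := by
    rw [W.ef _ _ (lt_of_lt_of_le i.isLt hk) (lt_of_lt_of_le j.isLt hk)]
    simp only [Fin.val_inj]
  qp i j := by
    rw [W.fe _ _ (lt_of_lt_of_le i.isLt hk) (lt_of_lt_of_le j.isLt hk)]
    simp only [Fin.val_inj]

/-- replace the first `k` pairs of a Witt family by another hyperbolic system of the same span,
and rescale the anisotropic vector -/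
def Witt.replace (W : Witt φ ι m) (hφφ : ∀ x, φ (φ x) = x) (k : ℕ) (hk : k ≤ m)
    (p q : Fin k → ι → F) (hs : HypSys φ k p q)
    (hpe : ∀ i j, k ≤ j → j < m → hdot φ (p i) (W.e j) = 0)
    (hpf : ∀ i j, k ≤ j → j < m → hdot φ (p i) (W.f j) = 0)
    (hqe : ∀ i j, k ≤ j → j < m → hdot φ (q i) (W.e j) = 0)
    (hqf : ∀ i j, k ≤ j → j < m → hdot φ (q i) (W.f j) = 0)
    (hpd : ∀ i, hdot φ (p i) W.d = 0) (hqd : ∀ i, hdot φ (q i) W.d = 0)
    (hsp : ∀ S : Submodule F (ι → F), (∀ i, p i ∈ S) → (∀ i, q i ∈ S) →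
      ∀ j, j < k → W.e j ∈ S ∧ W.f j ∈ S)
    (t : F) (ht : t * φ t = 1) : Witt φ ι m where
  e := fun i => if h : i < k then p ⟨i, h⟩ else W.e i
  f := fun i => if h : i < k then q ⟨i, h⟩ else W.f i
  d := t • W.d
  ee := by
    intro i j hi hj
    by_cases h1 : i < k <;> by_cases h2 : j < k
    · simp only [dif_pos h1, dif_pos h2]; exact hs.pp _ _
    · simp only [dif_pos h1, dif_neg h2]; exact hpe _ j (by omega) hj
    · simp only [dif_neg h1, dif_pos h2]
      exact hdot_eq_zero_symm φ hφφ _ _ (hpe _ i (by omega) hi)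
    · simp only [dif_neg h1, dif_neg h2]; exact W.ee i j hi hj
  ff := by
    intro i j hi hj
    by_cases h1 : i < k <;> by_cases h2 : j < k
    · simp only [dif_pos h1, dif_pos h2]; exact hs.qq _ _
    · simp only [dif_pos h1, dif_neg h2]; exact hqf _ j (by omega) hj
    · simp only [dif_neg h1, dif_pos h2]
      exact hdot_eq_zero_symm φ hφφ _ _ (hqf _ i (by omega) hi)
    · simp only [dif_neg h1, dif_neg h2]; exact W.ff i j hi hj
  ef := by
    intro i j hi hj
    by_cases h1 : i < k <;> by_cases h2 : j < k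
    · simp only [dif_pos h1, dif_pos h2]
      rw [hs.pq]
      simp only [Fin.mk.injEq]
    · simp only [dif_pos h1, dif_neg h2]
      rw [hpf _ j (by omega) hj, if_neg (by omega)]
    · simp only [dif_neg h1, dif_pos h2]
      rw [hdot_eq_zero_symm φ hφφ _ _ (hqe _ i (by omega) hi), if_neg (by omega)]
    · simp only [dif_neg h1, dif_neg h2]; exact W.ef i j hi hj
  fe := by
    intro i j hi hj
    by_cases h1 : i < k <;> by_cases h2 : j < k
    · simp only [dif_pos h1, dif_pos h2]
      rw [hs.qp]
      simp only [Fin.mk.injEq]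
    · simp only [dif_pos h1, dif_neg h2]
      rw [hqe _ j (by omega) hj, if_neg (by omega)]
    · simp only [dif_neg h1, dif_pos h2]
      rw [hdot_eq_zero_symm φ hφφ _ _ (hpf _ i (by omega) hi), if_neg (by omega)]
    · simp only [dif_neg h1, dif_neg h2]; exact W.fe i j hi hj
  ed := by
    intro i hi
    by_cases h1 : i < k
    · simp only [dif_pos h1]; rw [hdot_smul_right, hpd, mul_zero]
    · simp only [dif_neg h1]; rw [hdot_smul_right, W.ed i hi, mul_zero]
  de := by
    intro i hi
    by_cases h1 : i < k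
    · simp only [dif_pos h1]
      rw [hdot_smul_left, hdot_eq_zero_symm φ hφφ _ _ (hpd _), mul_zero]
    · simp only [dif_neg h1]; rw [hdot_smul_left, W.de i hi, mul_zero]
  fd := by
    intro i hi
    by_cases h1 : i < k
    · simp only [dif_pos h1]; rw [hdot_smul_right, hqd, mul_zero]
    · simp only [dif_neg h1]; rw [hdot_smul_right, W.fd i hi, mul_zero]
  df := by
    intro i hi
    by_cases h1 : i < k
    · simp only [dif_pos h1]
      rw [hdot_smul_left, hdot_eq_zero_symm φ hφφ _ _ (hqd _), mul_zero]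
    · simp only [dif_neg h1]; rw [hdot_smul_left, W.df i hi, mul_zero]
  dd := by
    rw [hdot_smul_left, hdot_smul_right, W.dd]
    linear_combination ht
  span := by
    intro S he hf hd x
    have ht0 : t ≠ 0 := by
      intro h
      rw [h, zero_mul] at ht
      exact zero_ne_one ht
    have h1 := hsp S
      (fun i => by
        have := he i.val (lt_of_lt_of_le i.isLt hk)
        rwa [dif_pos i.isLt] at this)
      (fun i => by
        have := hf i.val (lt_of_lt_of_le i.isLt hk)
        rwa [dif_pos i.isLt] at this)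
    apply W.span S
    · intro j hj
      by_cases h2 : j < k
      · exact (h1 j h2).1
      · have := he j hj
        rwa [dif_neg h2] at this
    · intro j hj
      by_cases h2 : j < k
      · exact (h1 j h2).2
      · have := hf j hj
        rwa [dif_neg h2] at this
    · have := S.smul_mem t⁻¹ hd
      rwa [smul_smul, inv_mul_cancel₀ ht0, one_smul] at this

/-- `sg (f0 + f1) (φ γ f0 + γ f1) 0` is a product of two transvections -/
theorem sgA (hφφ : ∀ x, φ (φ x) = x) (f0 f1 : ι → F) (γ : F) (h00 : hdot φ f0 f0 = 0)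
    (h01 : hdot φ f0 f1 = 0) (h10 : hdot φ f1 f0 = 0) (h11 : hdot φ f1 f1 = 0) :
    sg φ (f0 + f1) (φ γ • f0 + γ • f1) 0 = tv φ f0 (-(γ - φ γ)) * tv φ f1 (γ - φ γ) := by
  rw [Matrix.ext_iff_mulVec]
  intro x
  rw [← Matrix.mulVec_mulVec, sg_mulVec, tv_mulVec, tv_mulVec]
  simp only [hdot_add_left, hdot_add_right, hdot_smul_left, hdot_smul_right, hφφ, h00, h01, h10,
    h11, mul_zero, add_zero]
  module

/-- `sg (e0 - e1) w 0` as a product -/
theorem sgB (e0 e1 w : ι → F) (h10 : hdot φ e1 e0 = 0) (hw0 : hdot φ w e0 = 0)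
    (hww : hdot φ w w = 0) (h1w : hdot φ e1 w = 0) :
    sg φ (e0 - e1) w 0 = sg φ e0 w 0 * sg φ e1 (-w) 0 := by
  rw [Matrix.ext_iff_mulVec]
  intro x
  rw [← Matrix.mulVec_mulVec, sg_mulVec, sg_mulVec, sg_mulVec]
  simp only [hdot_add_left, hdot_sub_right, hdot_smul_left, hdot_neg_right', hdot_neg_left',
    h10, hw0, hww, h1w, mul_zero, add_zero]
  module

/-- the commutator producing a long root element -/
theorem zlem (e0 e1 : ι → F) (c : F) (h00 : hdot φ e0 e0 = 0) (h10 : hdot φ e1 e0 = 0)
    (h01 : hdot φ e0 e1 = 0) (h11 : hdot φ e1 e1 = 0) :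
    sg φ e0 (c • e1) 0 * sg φ e0 (-(c • (e1 - e0))) 0 = tv φ e0 (c - φ c) := by
  rw [Matrix.ext_iff_mulVec]
  intro x
  rw [← Matrix.mulVec_mulVec, sg_mulVec, sg_mulVec, tv_mulVec]
  simp only [hdot_add_left, hdot_sub_right, hdot_sub_left, hdot_smul_left, hdot_smul_right,
    hdot_neg_right', hdot_neg_left', h00, h10, h01, h11, mul_zero, add_zero, sub_zero]
  module

theorem smat_conj (G U : SUg ι φ) :
    smat φ (G * U * G⁻¹) = smat φ G * smat φ U * smat φ G⁻¹ := rfl

end general

end Cfsg.Agent.Helper12.SUgen
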