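import Mathlib
import Cfsg.Agent.Lib.Helper12.SUgenI

set_option autoImplicit false

/-! The second hyperbolic system used for the third conjugate. -/

namespace Cfsg.Agent.Helper12.SUgen

open Matrix Cfsg.Agent.Helper11.Herm

section general

variable {F : Type*} [Field F] {ι : Type*} [Fintype ι] [DecidableEq ι]
variable {φ : F →+* F}

theorem primed3 (hφφ : ∀ x, φ (φ x) = x) (p q : Fin 3 → ι → F) (hs : HypSys φ 3 p q)
    (κ γ β : F) (hκ : φ κ = -κ) (hκ0 : κ ≠ 0) (hγ : γ - φ γ = κ) (hβ : φ β ≠ 0) :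
    HypSys φ 3 ![q 0 + q 1, κ⁻¹ • (p 0 - p 1), (φ β)⁻¹ • q 2]
      ![κ⁻¹ • (γ • p 1 - φ γ • p 0), φ γ • q 0 + γ • q 1, β • p 2] := by
  have hκi : φ κ⁻¹ = -κ⁻¹ := by rw [map_inv₀, hκ, inv_neg]
  have hβ0 : β ≠ 0 := fun h => hβ (by rw [h, map_zero])
  subst hγ
  constructor
  · intro i j
    fin_cases i <;> fin_cases j <;>
    simp [hdot_add_left, hdot_add_right, hdot_sub_left, hdot_sub_right, hdot_smul_left,
      hdot_smul_right, hs.pp, hs.qq, hs.pq, hs.qp]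
  · intro i j
    fin_cases i <;> fin_cases j <;>
    simp [hdot_add_left, hdot_add_right, hdot_sub_left, hdot_sub_right, hdot_smul_left,
      hdot_smul_right, hs.pp, hs.qq, hs.pq, hs.qp, hφφ] <;>
    first | ring1 | (right; ring1)
  · intro i j
    fin_cases i <;> fin_cases j <;>
    simp [hdot_add_left, hdot_add_right, hdot_sub_left, hdot_sub_right, hdot_smul_left,
      hdot_smul_right, hs.pp, hs.qq, hs.pq, hs.qp, hφφ, hκi] <;>
    first | (field_simp; ring) | field_simp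
  · intro i j
    fin_cases i <;> fin_cases j <;>
    simp [hdot_add_left, hdot_add_right, hdot_sub_left, hdot_sub_right, hdot_smul_left,
      hdot_smul_right, hs.pp, hs.qq, hs.pq, hs.qp, hφφ, hκi] <;>
    first | (field_simp; ring) | field_simp

theorem primed2 (hφφ : ∀ x, φ (φ x) = x) (p q : Fin 2 → ι → F) (hs : HypSys φ 2 p q)
    (κ γ : F) (hκ : φ κ = -κ) (hκ0 : κ ≠ 0) (hγ : γ - φ γ = κ) :
    HypSys φ 2 ![q 0 + q 1, κ⁻¹ • (p 0 - p 1)]
      ![κ⁻¹ • (γ • p 1 - φ γ • p 0), φ γ • q 0 + γ • q 1] := by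
  have hκi : φ κ⁻¹ = -κ⁻¹ := by rw [map_inv₀, hκ, inv_neg]
  subst hγ
  constructor
  · intro i j
    fin_cases i <;> fin_cases j <;>
    simp [hdot_add_left, hdot_add_right, hdot_sub_left, hdot_sub_right, hdot_smul_left,
      hdot_smul_right, hs.pp, hs.qq, hs.pq, hs.qp]
  · intro i j
    fin_cases i <;> fin_cases j <;>
    simp [hdot_add_left, hdot_add_right, hdot_sub_left, hdot_sub_right, hdot_smul_left,
      hdot_smul_right, hs.pp, hs.qq, hs.pq, hs.qp, hφφ] <;>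
    first | ring1 | (right; ring1)
  · intro i j
    fin_cases i <;> fin_cases j <;>
    simp [hdot_add_left, hdot_add_right, hdot_sub_left, hdot_sub_right, hdot_smul_left,
      hdot_smul_right, hs.pp, hs.qq, hs.pq, hs.qp, hφφ, hκi] <;>
    first | (field_simp; ring) | field_simp
  · intro i j
    fin_cases i <;> fin_cases j <;>
    simp [hdot_add_left, hdot_add_right, hdot_sub_left, hdot_sub_right, hdot_smul_left,
      hdot_smul_right, hs.pp, hs.qq, hs.pq, hs.qp, hφφ, hκi] <;>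
    first | (field_simp; ring) | field_simp

/-- a vector orthogonal to the old system is orthogonal to the new one -/
theorem primed3_perp (p q : Fin 3 → ι → F) (κ γ β : F) (x : ι → F)
    (hp : ∀ i, hdot φ (p i) x = 0) (hq : ∀ i, hdot φ (q i) x = 0) :
    (∀ i, hdot φ ((![q 0 + q 1, κ⁻¹ • (p 0 - p 1), (φ β)⁻¹ • q 2] : Fin 3 → ι → F) i) x = 0) ∧
    (∀ i, hdot φ ((![κ⁻¹ • (γ • p 1 - φ γ • p 0), φ γ • q 0 + γ • q 1, β • p 2] :
      Fin 3 → ι → F) i) x = 0) := by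
  constructor
  · intro i
    fin_cases i <;>
    simp [hdot_add_left, hdot_sub_left, hdot_smul_left, hp, hq]
  · intro i
    fin_cases i <;>
    simp [hdot_add_left, hdot_sub_left, hdot_smul_left, hp, hq]

theorem primed2_perp (p q : Fin 2 → ι → F) (κ γ : F) (x : ι → F)
    (hp : ∀ i, hdot φ (p i) x = 0) (hq : ∀ i, hdot φ (q i) x = 0) :
    (∀ i, hdot φ ((![q 0 + q 1, κ⁻¹ • (p 0 - p 1)] : Fin 2 → ι → F) i) x = 0) ∧
    (∀ i, hdot φ ((![κ⁻¹ • (γ • p 1 - φ γ • p 0), φ γ • q 0 + γ • q 1] :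
      Fin 2 → ι → F) i) x = 0) := by
  constructor
  · intro i
    fin_cases i <;>
    simp [hdot_add_left, hdot_sub_left, hdot_smul_left, hp, hq]
  · intro i
    fin_cases i <;>
    simp [hdot_add_left, hdot_sub_left, hdot_smul_left, hp, hq]

/-- the old vectors in terms of the new ones -/
theorem primed_inv (p0 p1 q0 q1 : ι → F) (κ γ : F) (hκ0 : κ ≠ 0) (hγ : γ - φ γ = κ)
    (S : Submodule F (ι → F)) (h1 : q0 + q1 ∈ S) (h2 : κ⁻¹ • (p0 - p1) ∈ S)
    (h3 : κ⁻¹ • (γ • p1 - φ γ • p0) ∈ S) (h4 : φ γ • q0 + γ • q1 ∈ S) :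
    p0 ∈ S ∧ p1 ∈ S ∧ q0 ∈ S ∧ q1 ∈ S := by
  have hk : κ⁻¹ * (γ - φ γ) = 1 := by rw [hγ, inv_mul_cancel₀ hκ0]
  have hp0 : p0 ∈ S := by
    have := S.add_mem (S.smul_mem γ h2) h3
    have e : γ • κ⁻¹ • (p0 - p1) + κ⁻¹ • (γ • p1 - φ γ • p0) = (κ⁻¹ * (γ - φ γ)) • p0 := by
      module
    rwa [e, hk, one_smul] at this
  have hp1 : p1 ∈ S := by
    have := S.add_mem (S.smul_mem (φ γ) h2) h3
    have e : φ γ • κ⁻¹ • (p0 - p1) + κ⁻¹ • (γ • p1 - φ γ • p0) = (κ⁻¹ * (γ - φ γ)) • p1 := by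
      module
    rwa [e, hk, one_smul] at this
  have hq1 : q1 ∈ S := by
    have := S.smul_mem κ⁻¹ (S.sub_mem h4 (S.smul_mem (φ γ) h1))
    have e : κ⁻¹ • (φ γ • q0 + γ • q1 - φ γ • (q0 + q1)) = (κ⁻¹ * (γ - φ γ)) • q1 := by
      module
    rwa [e, hk, one_smul] at this
  have hq0 : q0 ∈ S := by
    have := S.sub_mem h1 hq1
    rwa [add_sub_cancel_right] at this
  exact ⟨hp0, hp1, hq0, hq1⟩

end general

end Cfsg.Agent.Helper12.SUgen
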