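import Mathlib
import Cfsg.Agent.Lib.Helper12.SUgenE
import Cfsg.Agent.Lib.Helper12.SUgenJ
import Cfsg.Agent.Lib.Helper11.UnitaryParabolic

set_option autoImplicit false

/-! Three conjugate regular unipotent elements generating the special unitary group of a space with
a Witt family of rank at least three. -/

namespace Cfsg.Agent.Helper12.SUgen

open Matrix Cfsg.Agent.Helper11.Herm

section general

variable {F : Type*} [Field F] {ι : Type*} [Fintype ι] [DecidableEq ι] {φ : F →+* F} {m : ℕ}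

/-- the inverse of an element given by a matrix with a known right inverse -/
theorem smat_inv_eq (G : SUg ι φ) (g' : Matrix ι ι F) (h : smat φ G * g' = 1) :
    smat φ G⁻¹ = g' := by
  calc smat φ G⁻¹ = smat φ G⁻¹ * (smat φ G * g') := by rw [h, Matrix.mul_one]
    _ = g' := by rw [← Matrix.mul_assoc, smat_inv_mul, Matrix.one_mul]

/-- rescaling the anisotropic vector -/
theorem wmap_rescale (W W1 Wt : Witt φ ι m) (t : F) (he : ∀ i, Wt.e i = W1.e i)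
    (hf : ∀ i, Wt.f i = W1.f i) (hd1 : W1.d = W.d) (hdt : Wt.d = t • W.d) :
    wmap W Wt = wmap W W1 * r1 φ W.d W.d (t - 1) := by
  rw [Matrix.ext_iff_mulVec]
  intro x
  rw [← Matrix.mulVec_mulVec, r1_mulVec, Matrix.mulVec_add, Matrix.mulVec_smul, wmap_d,
    wmap_mulVec, wmap_mulVec, hd1, hdt]
  simp only [he, hf]
  module

theorem exists_t (hφφ : ∀ x, φ (φ x) = x) (W : Witt φ ι m) (k : ℕ) (hk : k ≤ m)
    (p q : Fin k → ι → F) (hs : HypSys φ k p q)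
    (hpe : ∀ i j, k ≤ j → j < m → hdot φ (p i) (W.e j) = 0)
    (hpf : ∀ i j, k ≤ j → j < m → hdot φ (p i) (W.f j) = 0)
    (hqe : ∀ i j, k ≤ j → j < m → hdot φ (q i) (W.e j) = 0)
    (hqf : ∀ i j, k ≤ j → j < m → hdot φ (q i) (W.f j) = 0)
    (hpd : ∀ i, hdot φ (p i) W.d = 0) (hqd : ∀ i, hdot φ (q i) W.d = 0)
    (hsp : ∀ S : Submodule F (ι → F), (∀ i, p i ∈ S) → (∀ i, q i ∈ S) →
      ∀ j, j < k → W.e j ∈ S ∧ W.f j ∈ S) :
    ∃ (t : F) (ht : t * φ t = 1),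
      (wmap W (W.replace hφφ k hk p q hs hpe hpf hqe hqf hpd hqd hsp t ht)).det = 1 := by
  have h1 : (1 : F) * φ 1 = 1 := by rw [map_one, mul_one]
  set W1 := W.replace hφφ k hk p q hs hpe hpf hqe hqf hpd hqd hsp 1 h1 with hW1
  set θ := (wmap W W1).det with hθ
  have hθn : θ * φ θ = 1 := IsU.det_norm φ (wmap_isU hφφ W W1)
  have ht : φ θ * φ (φ θ) = 1 := by rw [hφφ, mul_comm]; exact hθn
  refine ⟨φ θ, ht, ?_⟩
  rw [wmap_rescale W W1 (W.replace hφφ k hk p q hs hpe hpf hqe hqf hpd hqd hsp (φ θ) ht) (φ θ)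
    (fun i => rfl) (fun i => rfl) (by show (1 : F) • W.d = W.d; rw [one_smul]) rfl,
    Matrix.det_mul, det_r1, W.dd, ← hθ]
  linear_combination hθn

set_option maxHeartbeats 1600000 in
theorem main3 [Finite F] {k : ℕ} (W : Witt φ ι (k + 3)) (hφφ : ∀ x, φ (φ x) = x)
    (hgen : ∀ M : Matrix ι ι F, IsU φ M → M.det = 1 → M ∈ TM φ)
    (κ μ τ : F) (hκ : φ κ = -κ) (hκ0 : κ ≠ 0) (hμ0 : μ ≠ 0)
    (hμ : ∀ y : F, y ≠ 0 → ∃ k : ℕ, y = μ ^ k) (hτ : τ + φ τ = 1) :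
    ∃ U G Hh : SUg ι φ, (IsNilpotent (smat φ U - 1) ∧ (smat φ U - 1) ^ (2 * (k + 3)) ≠ 0) ∧
      Subgroup.closure ({U, G * U * G⁻¹, Hh * U * Hh⁻¹} : Set (SUg ι φ)) = ⊤ := by
  -- parameters
  obtain ⟨b, hb_def⟩ : ∃ b : F, b = φ (-μ * κ⁻¹) := ⟨_, rfl⟩
  have hφb : φ b = -μ * κ⁻¹ := by rw [hb_def, hφφ]
  have hb0 : b ≠ 0 := by
    intro h
    rw [h, map_zero] at hφb
    have : μ * κ⁻¹ = 0 := by linear_combination hφb
    rcases mul_eq_zero.mp this with h1 | h1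
    · exact hμ0 h1
    · exact (inv_ne_zero hκ0) h1
  have hb : -κ * φ b = μ := by rw [hφb]; field_simp
  obtain ⟨β, hβ_def⟩ : ∃ β : F, β = b * κ := ⟨_, rfl⟩
  have hφβ : φ β = μ := by rw [hβ_def, map_mul, hφb, hκ]; field_simp
  have hφβ0 : φ β ≠ 0 := by rw [hφβ]; exact hμ0
  have hβ0 : β ≠ 0 := fun h => hφβ0 (by rw [h, map_zero])
  obtain ⟨γ, hγ_def⟩ : ∃ γ : F, γ = τ * κ := ⟨_, rfl⟩
  have hγ : γ - φ γ = κ := by rw [hγ_def, map_mul, hκ]; linear_combination κ * hτ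
  have hκi : φ κ⁻¹ = -κ⁻¹ := by rw [map_inv₀, hκ, inv_neg]
  have hs0 : (-τ) + φ (-τ) + (1 : F) * φ 1 = 0 := by
    rw [map_neg, map_one]; linear_combination -hτ
  -- the unipotent element
  have hj0 : 0 + (k + 2) < k + 3 := by omega
  obtain ⟨u, hu_def⟩ : ∃ u, u = chain W 1 (-τ) 0 (k + 2) := ⟨_, rfl⟩
  obtain ⟨u', hu'_def⟩ : ∃ u', u' = chainInv W 1 (-τ) 0 (k + 2) := ⟨_, rfl⟩
  have huU : IsU φ u := by rw [hu_def]; exact chain_isU W 1 (-τ) hφφ hs0 (k + 2) 0 hj0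
  have hudet : u.det = 1 := by rw [hu_def]; exact chain_det W 1 (-τ) hφφ (k + 2) 0 hj0
  have huu' : u * u' = 1 := by
    rw [hu_def, hu'_def]; exact chain_mul_inv W 1 (-τ) hφφ hs0 (k + 2) 0 hj0
  obtain ⟨Y, hY_def⟩ : ∃ Y, Y = chain W 1 (-τ) 1 (k + 1) := ⟨_, rfl⟩
  have huY : u = sg φ (W.e 0) (W.f 1) 0 * Y := by rw [hu_def, hY_def]; rfl
  have hue0 : u *ᵥ W.e 0 = W.e 0 := by rw [hu_def]; exact chain_e_self W 1 (-τ) (k + 2) 0 hj0
  have hue1 : u *ᵥ W.e 1 = W.e 1 - W.e 0 := by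
    rw [hu_def]; exact chain_e_next W 1 (-τ) (k + 1) 0 hj0
  -- Gram facts
  have hlt : ∀ i : Fin 3, i.val < k + 3 := fun i => by have := i.isLt; omega
  -- the second conjugate
  obtain ⟨c, hc_def⟩ : ∃ c : F, c = τ * κ⁻¹ := ⟨_, rfl⟩
  have hcc : c - φ c = κ⁻¹ := by rw [hc_def, map_mul, hκi]; linear_combination κ⁻¹ * hτ
  have e00 := W.ee 0 0 (by omega) (by omega)
  have e10 := W.ee 1 0 (by omega) (by omega)
  have e01 := W.ee 0 1 (by omega) (by omega)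
  have e11 := W.ee 1 1 (by omega) (by omega)
  obtain ⟨g, hg_def⟩ : ∃ g, g = sg φ (W.e 0) (c • W.e 1) 0 := ⟨_, rfl⟩
  obtain ⟨g', hg'_def⟩ : ∃ g', g' = sg φ (W.e 0) (-(c • W.e 1)) 0 := ⟨_, rfl⟩
  have hgU : IsU φ g := by
    rw [hg_def]
    apply isU_sg φ hφφ _ _ _ e00
    · rw [hdot_smul_left, e10, mul_zero]
    · rw [hdot_smul_left, hdot_smul_right, e11, map_zero]; ring
  have hgdet : g.det = 1 := by
    rw [hg_def]
    apply det_sg φ _ _ _ e00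
    · rw [hdot_smul_left, e10, mul_zero]
    · rw [hdot_smul_right, e01, mul_zero]
  have hgg' : g * g' = 1 := by
    have := sg_mul_inv φ (W.e 0) (c • W.e 1) 0 e00 (by rw [hdot_smul_left, e10, mul_zero])
      (by rw [hdot_smul_right, e01, mul_zero])
      (by rw [hdot_smul_left, hdot_smul_right, e11, map_zero]; ring)
    rw [map_zero] at this
    rw [hg_def, hg'_def]
    exact this
  have hgug : g * u * g' = tv φ (W.e 0) κ⁻¹ * u := by
    have h1 : u * g' = sg φ (W.e 0) (-(c • (W.e 1 - W.e 0))) 0 * u := by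
      rw [hg'_def, isU_mul_sg φ huU, hue0, Matrix.mulVec_neg, Matrix.mulVec_smul, hue1]
    rw [Matrix.mul_assoc, h1, ← Matrix.mul_assoc, hg_def, zlem (W.e 0) (W.e 1) c e00 e10 e01 e11,
      hcc]
  -- the primed system
  have hs' : HypSys φ 3 ![W.f 0 + W.f 1, κ⁻¹ • (W.e 0 - W.e 1), (φ β)⁻¹ • W.f 2]
      ![κ⁻¹ • (γ • W.e 1 - φ γ • W.e 0), φ γ • W.f 0 + γ • W.f 1, β • W.e 2] :=
    primed3 hφφ (fun i : Fin 3 => W.e i.val) (fun i : Fin 3 => W.f i.val)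
      (W.hypSys 3 (by omega)) κ γ β hκ hκ0 hγ hφβ0
  have hperp : ∀ x : ι → F, (∀ i : Fin 3, hdot φ (W.e i.val) x = 0) →
      (∀ i : Fin 3, hdot φ (W.f i.val) x = 0) →
      (∀ i, hdot φ ((![W.f 0 + W.f 1, κ⁻¹ • (W.e 0 - W.e 1), (φ β)⁻¹ • W.f 2] :
        Fin 3 → ι → F) i) x = 0) ∧
      (∀ i, hdot φ ((![κ⁻¹ • (γ • W.e 1 - φ γ • W.e 0), φ γ • W.f 0 + γ • W.f 1, β • W.e 2] :
        Fin 3 → ι → F) i) x = 0) := fun x hp hq =>
    primed3_perp (fun i : Fin 3 => W.e i.val) (fun i : Fin 3 => W.f i.val) κ γ β x hp hq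
  have hpe : ∀ (i : Fin 3) j, 3 ≤ j → j < k + 3 →
      hdot φ ((![W.f 0 + W.f 1, κ⁻¹ • (W.e 0 - W.e 1), (φ β)⁻¹ • W.f 2] :
        Fin 3 → ι → F) i) (W.e j) = 0 := fun i j hj hj' =>
    (hperp (W.e j) (fun i => W.ee _ _ (hlt i) hj')
      (fun i => by rw [W.fe _ _ (hlt i) hj', if_neg]; have := i.isLt; omega)).1 i
  have hpf : ∀ (i : Fin 3) j, 3 ≤ j → j < k + 3 →
      hdot φ ((![W.f 0 + W.f 1, κ⁻¹ • (W.e 0 - W.e 1), (φ β)⁻¹ • W.f 2] :
        Fin 3 → ι → F) i) (W.f j) = 0 := fun i j hj hj' =>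
    (hperp (W.f j) (fun i => by rw [W.ef _ _ (hlt i) hj', if_neg]; have := i.isLt; omega)
      (fun i => W.ff _ _ (hlt i) hj')).1 i
  have hqe : ∀ (i : Fin 3) j, 3 ≤ j → j < k + 3 →
      hdot φ ((![κ⁻¹ • (γ • W.e 1 - φ γ • W.e 0), φ γ • W.f 0 + γ • W.f 1, β • W.e 2] :
        Fin 3 → ι → F) i) (W.e j) = 0 := fun i j hj hj' =>
    (hperp (W.e j) (fun i => W.ee _ _ (hlt i) hj')
      (fun i => by rw [W.fe _ _ (hlt i) hj', if_neg]; have := i.isLt; omega)).2 i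
  have hqf : ∀ (i : Fin 3) j, 3 ≤ j → j < k + 3 →
      hdot φ ((![κ⁻¹ • (γ • W.e 1 - φ γ • W.e 0), φ γ • W.f 0 + γ • W.f 1, β • W.e 2] :
        Fin 3 → ι → F) i) (W.f j) = 0 := fun i j hj hj' =>
    (hperp (W.f j) (fun i => by rw [W.ef _ _ (hlt i) hj', if_neg]; have := i.isLt; omega)
      (fun i => W.ff _ _ (hlt i) hj')).2 i
  have hpd : ∀ (i : Fin 3),
      hdot φ ((![W.f 0 + W.f 1, κ⁻¹ • (W.e 0 - W.e 1), (φ β)⁻¹ • W.f 2] :
        Fin 3 → ι → F) i) W.d = 0 := fun i =>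
    (hperp W.d (fun i => W.ed _ (hlt i)) (fun i => W.fd _ (hlt i))).1 i
  have hqd : ∀ (i : Fin 3),
      hdot φ ((![κ⁻¹ • (γ • W.e 1 - φ γ • W.e 0), φ γ • W.f 0 + γ • W.f 1, β • W.e 2] :
        Fin 3 → ι → F) i) W.d = 0 := fun i =>
    (hperp W.d (fun i => W.ed _ (hlt i)) (fun i => W.fd _ (hlt i))).2 i
  have hsp : ∀ S : Submodule F (ι → F),
      (∀ i, (![W.f 0 + W.f 1, κ⁻¹ • (W.e 0 - W.e 1), (φ β)⁻¹ • W.f 2] :
        Fin 3 → ι → F) i ∈ S) →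
      (∀ i, (![κ⁻¹ • (γ • W.e 1 - φ γ • W.e 0), φ γ • W.f 0 + γ • W.f 1, β • W.e 2] :
        Fin 3 → ι → F) i ∈ S) → ∀ j, j < 3 → W.e j ∈ S ∧ W.f j ∈ S := by
    intro S hp hq j hj
    obtain ⟨h1, h2, h3, h4⟩ := primed_inv (W.e 0) (W.e 1) (W.f 0) (W.f 1) κ γ hκ0 hγ S
      (hp 0) (hp 1) (hq 0) (hq 1)
    have h5 : W.e 2 ∈ S := by
      have h := hq 2
      change β • W.e 2 ∈ S at h
      have := S.smul_mem β⁻¹ h
      rwa [smul_smul, inv_mul_cancel₀ hβ0, one_smul] at this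
    have h6 : W.f 2 ∈ S := by
      have h := hp 2
      change (φ β)⁻¹ • W.f 2 ∈ S at h
      have := S.smul_mem (φ β) h
      rwa [smul_smul, mul_inv_cancel₀ hφβ0, one_smul] at this
    interval_cases j
    · exact ⟨h1, h3⟩
    · exact ⟨h2, h4⟩
    · exact ⟨h5, h6⟩
  obtain ⟨t, ht, hdet⟩ := exists_t hφφ W 3 (by omega) _ _ hs' hpe hpf hqe hqf hpd hqd hsp
  obtain ⟨Wt, hWt⟩ : ∃ Wt, Wt = W.replace hφφ 3 (by omega) _ _ hs' hpe hpf hqe hqf hpd hqd hsp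
    t ht := ⟨_, rfl⟩
  rw [← hWt] at hdet
  have hWe0 : Wt.e 0 = W.f 0 + W.f 1 := by rw [hWt]; rfl
  have hWe1 : Wt.e 1 = κ⁻¹ • (W.e 0 - W.e 1) := by rw [hWt]; rfl
  have hWe2 : Wt.e 2 = (φ β)⁻¹ • W.f 2 := by rw [hWt]; rfl
  have hWf1 : Wt.f 1 = φ γ • W.f 0 + γ • W.f 1 := by rw [hWt]; rfl
  have hWf2 : Wt.f 2 = β • W.e 2 := by rw [hWt]; rfl
  have hWe : ∀ i, 3 ≤ i → Wt.e i = W.e i := by
    intro i hi; rw [hWt]; exact dif_neg (by omega)
  have hWf : ∀ i, 3 ≤ i → Wt.f i = W.f i := by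
    intro i hi; rw [hWt]; exact dif_neg (by omega)
  have hWd : Wt.d = t • W.d := by rw [hWt]; rfl
  obtain ⟨h, hh_def⟩ : ∃ h, h = wmap W Wt := ⟨_, rfl⟩
  rw [← hh_def] at hdet
  have hhU : IsU φ h := by rw [hh_def]; exact wmap_isU hφφ W Wt
  -- the third conjugate
  obtain ⟨T, hT_def⟩ : ∃ T, T = chain Wt 1 (-τ) 2 k := ⟨_, rfl⟩
  have hTU : IsU φ T := by rw [hT_def]; exact chain_isU Wt 1 (-τ) hφφ hs0 k 2 (by omega)
  have hhu : h * u = chain Wt 1 (-τ) 0 (k + 2) * h := by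
    rw [hu_def]
    exact conj_chain W Wt h hhU (fun i hi => by rw [hh_def]; exact wmap_e W Wt i hi)
      (fun i hi => by rw [hh_def]; exact wmap_f W Wt i hi)
      (by rw [hh_def]; exact wmap_d W Wt) 1 (-τ) (k + 2) 0 hj0
  have hchain : chain Wt 1 (-τ) 0 (k + 2) =
      sg φ (Wt.e 0) (Wt.f 1) 0 * (sg φ (Wt.e 1) (Wt.f 2) 0 * T) := by rw [hT_def]; rfl
  have hT : ∀ x, hdot φ x (W.f 2) = 0 → (∀ i, 3 ≤ i → i < k + 3 → hdot φ x (W.e i) = 0) →
      (∀ i, 3 ≤ i → i < k + 3 → hdot φ x (W.f i) = 0) → hdot φ x W.d = 0 → T *ᵥ x = x := by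
    intro x h1 h2 h3 h4
    rw [hT_def]
    apply chain_fix Wt 1 (-τ) k 2 x
    · intro i hi hi'
      by_cases h2i : i = 2
      · subst h2i
        rw [hWe2, hdot_smul_right, h1, mul_zero]
      · rw [hWe i (by omega)]
        exact h2 i (by omega) (by omega)
    · intro i hi hi'
      rw [hWf i (by omega)]
      exact h3 i (by omega) (by omega)
    · rw [hWd, hdot_smul_right, h4, mul_zero]
  -- the elements
  let U : SUg ι φ := mkS φ u huU hudet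
  let G : SUg ι φ := mkS φ g hgU hgdet
  let Hh : SUg ι φ := mkS φ h hhU hdet
  refine ⟨U, G, Hh, ?_, ?_⟩
  · have := regular W 1 (-τ) hφφ hs0 (by omega) one_ne_zero
    have e : k + 3 - 1 = k + 2 := rfl
    rw [e, ← hu_def] at this
    exact this
  obtain ⟨H, hH⟩ : ∃ H, H = Subgroup.closure ({U, G * U * G⁻¹, Hh * U * Hh⁻¹} : Set (SUg ι φ)) :=
    ⟨_, rfl⟩
  rw [← hH]
  have hu : u ∈ MS φ H := by
    have : U ∈ H := by rw [hH]; exact Subgroup.subset_closure (by simp)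
    exact MS_of_mem U this
  have hgu : g * u * g' ∈ MS φ H := by
    have : G * U * G⁻¹ ∈ H := by rw [hH]; exact Subgroup.subset_closure (by simp)
    have h2 := MS_of_mem _ this
    rw [smat_conj, smat_inv_eq G g' hgg'] at h2
    exact h2
  have hu' : u' ∈ MS φ H := MS_inv hu huu'
  have hz : tv φ (W.e 0) κ⁻¹ ∈ MS φ H := by
    have h2 := MS_mul hgu hu'
    rw [hgug, Matrix.mul_assoc, huu', Matrix.mul_one] at h2
    exact h2
  have hu3 : chain Wt 1 (-τ) 0 (k + 2) ∈ MS φ H := by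
    have : Hh * U * Hh⁻¹ ∈ H := by rw [hH]; exact Subgroup.subset_closure (by simp)
    have h2 := MS_of_mem _ this
    rw [smat_conj] at h2
    have h3 : smat φ Hh * smat φ U * smat φ Hh⁻¹ = chain Wt 1 (-τ) 0 (k + 2) := by
      show h * u * smat φ Hh⁻¹ = _
      rw [hhu, Matrix.mul_assoc]
      have : h * smat φ Hh⁻¹ = 1 := smat_mul_inv φ Hh
      rw [this, Matrix.mul_one]
    rw [h3] at h2
    exact h2
  -- Gram facts
  have f00 := W.ff 0 0 (by omega) (by omega)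
  have f01 := W.ff 0 1 (by omega) (by omega)
  have f10 := W.ff 1 0 (by omega) (by omega)
  have f11 := W.ff 1 1 (by omega) (by omega)
  have e20 := W.ee 2 0 (by omega) (by omega)
  have e21 := W.ee 2 1 (by omega) (by omega)
  have e22 := W.ee 2 2 (by omega) (by omega)
  have e02 := W.ee 0 2 (by omega) (by omega)
  have e12 := W.ee 1 2 (by omega) (by omega)
  have ef (i j : ℕ) (hi : i < k + 3) (hj : j < k + 3) (hij : i ≠ j) :
      hdot φ (W.e i) (W.f j) = 0 := by rw [W.ef i j hi hj, if_neg hij]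
  have fe (i j : ℕ) (hi : i < k + 3) (hj : j < k + 3) (hij : i ≠ j) :
      hdot φ (W.f i) (W.e j) = 0 := by rw [W.fe i j hi hj, if_neg hij]
  have fe11 : hdot φ (W.f 1) (W.e 1) = 1 := by rw [W.fe 1 1 (by omega) (by omega), if_pos rfl]
  have fe22 : hdot φ (W.f 2) (W.e 2) = 1 := by rw [W.fe 2 2 (by omega) (by omega), if_pos rfl]
  have ef11 : hdot φ (W.e 1) (W.f 1) = 1 := by rw [W.ef 1 1 (by omega) (by omega), if_pos rfl]
  -- the form of the third conjugate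
  have hA : sg φ (Wt.e 0) (Wt.f 1) 0 = tv φ (W.f 0) (-κ) * tv φ (W.f 1) κ := by
    rw [hWe0, hWf1, sgA hφφ (W.f 0) (W.f 1) γ f00 f01 f10 f11, hγ]
  have hB : sg φ (Wt.e 1) (Wt.f 2) 0 =
      sg φ (W.e 0) (-b • W.e 2) 0 * sg φ (W.e 1) (b • W.e 2) 0 := by
    have e1 : φ κ⁻¹ • β • W.e 2 = -b • W.e 2 := by
      rw [smul_smul, hκi, hβ_def]
      congr 1
      field_simp
    rw [hWe1, hWf2, sg_scale φ hφφ, e1, mul_zero,
      sgB (W.e 0) (W.e 1) (-b • W.e 2) e10 (by rw [hdot_smul_left, e20, mul_zero])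
        (by rw [hdot_smul_left, hdot_smul_right, e22, mul_zero, mul_zero])
        (by rw [hdot_smul_right, e12, mul_zero]), neg_smul, neg_neg]
  have hsg0U : IsU φ (sg φ (W.e 0) (-b • W.e 2) 0) := by
    apply isU_sg φ hφφ _ _ _ e00
    · rw [hdot_smul_left, e20, mul_zero]
    · rw [hdot_smul_left, hdot_smul_right, e22, map_zero]; ring
  have hsg1U : IsU φ (sg φ (W.e 1) (b • W.e 2) 0) := by
    apply isU_sg φ hφφ _ _ _ e11
    · rw [hdot_smul_left, e21, mul_zero]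
    · rw [hdot_smul_left, hdot_smul_right, e22, map_zero]; ring
  have htvU : IsU φ (tv φ (W.f 1) κ) := by
    apply isU_tv φ hφφ
    rw [f11, hκ]; ring
  have hcomm : tv φ (W.f 1) κ * sg φ (W.e 0) (-b • W.e 2) 0 =
      sg φ (W.e 0) (-b • W.e 2) 0 * tv φ (W.f 1) κ := by
    symm
    apply commute_tv_of_fix hsg0U
    apply sg_fix
    · exact fe 1 0 (by omega) (by omega) (by omega)
    · rw [hdot_smul_right, fe 1 2 (by omega) (by omega) (by omega), mul_zero]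
  obtain ⟨Y'', hY''_def⟩ : ∃ Y'', Y'' = tv φ (W.f 1) κ * (sg φ (W.e 1) (b • W.e 2) 0 * T) :=
    ⟨_, rfl⟩
  have hu3' : chain Wt 1 (-τ) 0 (k + 2) =
      tv φ (W.f 0) (-κ) * (sg φ (W.e 0) (-b • W.e 2) 0 * Y'') := by
    rw [hchain, hA, hB, hY''_def]
    calc tv φ (W.f 0) (-κ) * tv φ (W.f 1) κ *
          (sg φ (W.e 0) (-b • W.e 2) 0 * sg φ (W.e 1) (b • W.e 2) 0 * T)
        = tv φ (W.f 0) (-κ) * (tv φ (W.f 1) κ * sg φ (W.e 0) (-b • W.e 2) 0) *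
          (sg φ (W.e 1) (b • W.e 2) 0 * T) := by simp only [Matrix.mul_assoc]
      _ = tv φ (W.f 0) (-κ) * (sg φ (W.e 0) (-b • W.e 2) 0 *
          (tv φ (W.f 1) κ * (sg φ (W.e 1) (b • W.e 2) 0 * T))) := by
        rw [hcomm]; simp only [Matrix.mul_assoc]
  rw [hu3'] at hu3
  have hY''U : IsU φ Y'' := by
    rw [hY''_def]
    exact IsU.mul φ htvU (IsU.mul φ hsg1U hTU)
  have hYU : IsU φ Y := by
    rw [hY_def]; exact chain_isU W 1 (-τ) hφφ hs0 (k + 1) 1 (by omega)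
  -- apply the core
  apply core3 hφφ hgen H (fun i : Fin 3 => W.e i.val) (fun i : Fin 3 => W.f i.val)
    (W.hypSys 3 (by omega)) κ b μ τ hκ hκ0 hb0 hb hμ hτ Y Y'' hYU hY''U
    ?_ ?_ ?_ ?_ ?_ ?_ ?_ ?_ u' ?_ ?_ hz hu3 ?_
  · -- Y e0
    show Y *ᵥ W.e 0 = W.e 0
    rw [hY_def]
    apply chain_fix
    · intro i hi hi'; exact W.ee 0 i (by omega) (by omega)
    · intro i hi hi'; exact ef 0 i (by omega) (by omega) (by omega)
    · exact W.ed 0 (by omega)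
  · show Y *ᵥ W.f 0 = W.f 0
    rw [hY_def]
    apply chain_fix
    · intro i hi hi'; exact fe 0 i (by omega) (by omega) (by omega)
    · intro i hi hi'; exact W.ff 0 i (by omega) (by omega)
    · exact W.fd 0 (by omega)
  · show Y *ᵥ W.f 1 = W.f 1 + W.f 2
    rw [hY_def]
    exact chain_f W 1 (-τ) (k + 1) 1 1 (by omega) (by omega) (by omega)
  · show Y *ᵥ W.e 2 = W.e 2 - W.e 1
    rw [hY_def]
    exact chain_e_next W 1 (-τ) k 1 (by omega)
  · show Y *ᵥ W.e 1 = W.e 1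
    rw [hY_def]
    exact chain_e_self W 1 (-τ) (k + 1) 1 (by omega)
  · show Y'' *ᵥ W.e 0 = W.e 0
    rw [hY''_def, ← Matrix.mulVec_mulVec, ← Matrix.mulVec_mulVec,
      hT (W.e 0) (ef 0 2 (by omega) (by omega) (by omega))
        (fun i hi hi' => W.ee 0 i (by omega) hi')
        (fun i hi hi' => ef 0 i (by omega) hi' (by omega)) (W.ed 0 (by omega)),
      sg_fix _ _ _ _ e01 (by rw [hdot_smul_right, e02, mul_zero]),
      tv_fix _ _ _ (ef 0 1 (by omega) (by omega) (by omega))]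
  · show Y'' *ᵥ W.f 0 = W.f 0
    rw [hY''_def, ← Matrix.mulVec_mulVec, ← Matrix.mulVec_mulVec,
      hT (W.f 0) (W.ff 0 2 (by omega) (by omega))
        (fun i hi hi' => fe 0 i (by omega) hi' (by omega))
        (fun i hi hi' => W.ff 0 i (by omega) hi') (W.fd 0 (by omega)),
      sg_fix _ _ _ _ (fe 0 1 (by omega) (by omega) (by omega))
        (by rw [hdot_smul_right, fe 0 2 (by omega) (by omega) (by omega), mul_zero]),
      tv_fix _ _ _ f01]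
  · show Y'' *ᵥ W.f 2 = W.f 2 - φ b • W.e 1 - (κ * φ b) • W.f 1
    rw [hY''_def, ← Matrix.mulVec_mulVec, ← Matrix.mulVec_mulVec,
      hT (W.f 2) (W.ff 2 2 (by omega) (by omega))
        (fun i hi hi' => fe 2 i (by omega) hi' (by omega))
        (fun i hi hi' => W.ff 2 i (by omega) hi') (W.fd 2 (by omega)),
      sg_mulVec, tv_mulVec]
    simp only [hdot_add_left, hdot_smul_left, hdot_smul_right,
      fe 2 1 (by omega) (by omega) (by omega), fe22, W.ff 2 1 (by omega) (by omega), ef11]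
    module
  · show sg φ (W.e 0) (W.f 1) 0 * Y * u' = 1
    rw [← huY]; exact huu'
  · show sg φ (W.e 0) (W.f 1) 0 * Y ∈ MS φ H
    rw [← huY]; exact hu
  · intro S he hf hSu hSu'
    have e : k + 3 - 1 = k + 2 := rfl
    have := cyc W 1 (-τ) hφφ hs0 (by omega) one_ne_zero S he hf
    rw [e, ← hu_def, ← hu'_def] at this
    exact this (by rw [huY]; exact hSu) hSu'

end general

end Cfsg.Agent.Helper12.SUgen
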