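import Mathlib
import Cfsg.Agent.Lib.Helper12.SUgenF
import Cfsg.Agent.Lib.Helper12.SUgenK

set_option autoImplicit false

/-! Three conjugate regular unipotent elements generating the special unitary group of a space with
a Witt family of rank two. -/

namespace Cfsg.Agent.Helper12.SUgen

open Matrix Cfsg.Agent.Helper11.Herm

section general

variable {F : Type*} [Field F] {ι : Type*} [Fintype ι] [DecidableEq ι] {φ : F →+* F}

set_option maxHeartbeats 1600000 in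
theorem main2 [Finite F] (W : Witt φ ι 2) (hφφ : ∀ x, φ (φ x) = x)
    (hgen : ∀ M : Matrix ι ι F, IsU φ M → M.det = 1 → M ∈ TM φ)
    (κ μ τ td : F) (hκ : φ κ = -κ) (hκ0 : κ ≠ 0) (h2κ : (2 : F) = 0 → κ = 1)
    (htd : td * φ td = κ * (μ - φ μ)) (htd0 : td ≠ 0)
    (hμ : ∀ y : F, y ≠ 0 → ∃ k : ℕ, y = μ ^ k) (hτ : τ + φ τ = 1) :
    ∃ U G Hh : SUg ι φ, (IsNilpotent (smat φ U - 1) ∧ (smat φ U - 1) ^ (2 * 2) ≠ 0) ∧
      Subgroup.closure ({U, G * U * G⁻¹, Hh * U * Hh⁻¹} : Set (SUg ι φ)) = ⊤ := by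
  -- parameters
  obtain ⟨s0, hs0_def⟩ : ∃ s0 : F, s0 = -κ * μ := ⟨_, rfl⟩
  have hs0 : s0 + φ s0 + td * φ td = 0 := by
    rw [htd, hs0_def, map_mul, map_neg, hκ]; ring
  have hμs : -κ⁻¹ * s0 = μ := by rw [hs0_def]; field_simp
  obtain ⟨γ, hγ_def⟩ : ∃ γ : F, γ = τ * κ := ⟨_, rfl⟩
  have hγ : γ - φ γ = κ := by rw [hγ_def, map_mul, hκ]; linear_combination κ * hτ
  have hκi : φ κ⁻¹ = -κ⁻¹ := by rw [map_inv₀, hκ, inv_neg]
  -- the unipotent element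
  have hj0 : 0 + 1 < 2 := by omega
  obtain ⟨u, hu_def⟩ : ∃ u, u = chain W td s0 0 1 := ⟨_, rfl⟩
  obtain ⟨u', hu'_def⟩ : ∃ u', u' = chainInv W td s0 0 1 := ⟨_, rfl⟩
  have huU : IsU φ u := by rw [hu_def]; exact chain_isU W td s0 hφφ hs0 1 0 hj0
  have hudet : u.det = 1 := by rw [hu_def]; exact chain_det W td s0 hφφ 1 0 hj0
  have huu' : u * u' = 1 := by
    rw [hu_def, hu'_def]; exact chain_mul_inv W td s0 hφφ hs0 1 0 hj0
  have huY : u = sg φ (W.e 0) (W.f 1) 0 * sg φ (W.e 1) (td • W.d) s0 := by rw [hu_def]; rfl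
  have hue0 : u *ᵥ W.e 0 = W.e 0 := by rw [hu_def]; exact chain_e_self W td s0 1 0 hj0
  have hue1 : u *ᵥ W.e 1 = W.e 1 - W.e 0 := by
    rw [hu_def]; exact chain_e_next W td s0 0 0 hj0
  have hlt : ∀ i : Fin 2, i.val < 2 := fun i => i.isLt
  -- the second conjugate
  obtain ⟨c, hc_def⟩ : ∃ c : F, c = τ * κ⁻¹ := ⟨_, rfl⟩
  have hcc : c - φ c = κ⁻¹ := by rw [hc_def, map_mul, hκi]; linear_combination κ⁻¹ * hτ
  have e00 := W.ee 0 0 (by omega) (by omega)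
  have e10 := W.ee 1 0 (by omega) (by omega)
  have e01 := W.ee 0 1 (by omega) (by omega)
  have e11 := W.ee 1 1 (by omega) (by omega)
  obtain ⟨g, hg_def⟩ : ∃ g, g = sg φ (W.e 0) (c • W.e 1) 0 := ⟨_, rfl⟩
  obtain ⟨g', hg'_def⟩ : ∃ g', g' = sg φ (W.e 0) (-(c • W.e 1)) 0 := ⟨_, rfl⟩
  have hgU : IsU φ g := by
    rw [hg_def]
    apply isU_sg φ hφφ _ _ _ e00
    · rw [hdot_smul_left, e10, mul_zero]
    · rw [hdot_smul_left, hdot_smul_right, e11, map_zero]; ring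
  have hgdet : g.det = 1 := by
    rw [hg_def]
    apply det_sg φ _ _ _ e00
    · rw [hdot_smul_left, e10, mul_zero]
    · rw [hdot_smul_right, e01, mul_zero]
  have hgg' : g * g' = 1 := by
    have := sg_mul_inv φ (W.e 0) (c • W.e 1) 0 e00 (by rw [hdot_smul_left, e10, mul_zero])
      (by rw [hdot_smul_right, e01, mul_zero])
      (by rw [hdot_smul_left, hdot_smul_right, e11, map_zero]; ring)
    rw [map_zero] at this
    rw [hg_def, hg'_def]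
    exact this
  have hgug : g * u * g' = tv φ (W.e 0) κ⁻¹ * u := by
    have h1 : u * g' = sg φ (W.e 0) (-(c • (W.e 1 - W.e 0))) 0 * u := by
      rw [hg'_def, isU_mul_sg φ huU, hue0, Matrix.mulVec_neg, Matrix.mulVec_smul, hue1]
    rw [Matrix.mul_assoc, h1, ← Matrix.mul_assoc, hg_def, zlem (W.e 0) (W.e 1) c e00 e10 e01 e11,
      hcc]
  -- the primed system
  have hs' : HypSys φ 2 ![W.f 0 + W.f 1, κ⁻¹ • (W.e 0 - W.e 1)]
      ![κ⁻¹ • (γ • W.e 1 - φ γ • W.e 0), φ γ • W.f 0 + γ • W.f 1] :=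
    primed2 hφφ (fun i : Fin 2 => W.e i.val) (fun i : Fin 2 => W.f i.val)
      (W.hypSys 2 (by omega)) κ γ hκ hκ0 hγ
  have hperp : ∀ x : ι → F, (∀ i : Fin 2, hdot φ (W.e i.val) x = 0) →
      (∀ i : Fin 2, hdot φ (W.f i.val) x = 0) →
      (∀ i, hdot φ ((![W.f 0 + W.f 1, κ⁻¹ • (W.e 0 - W.e 1)] :
        Fin 2 → ι → F) i) x = 0) ∧
      (∀ i, hdot φ ((![κ⁻¹ • (γ • W.e 1 - φ γ • W.e 0), φ γ • W.f 0 + γ • W.f 1] :
        Fin 2 → ι → F) i) x = 0) := fun x hp hq =>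
    primed2_perp (fun i : Fin 2 => W.e i.val) (fun i : Fin 2 => W.f i.val) κ γ x hp hq
  have hpe : ∀ (i : Fin 2) j, 2 ≤ j → j < 2 →
      hdot φ ((![W.f 0 + W.f 1, κ⁻¹ • (W.e 0 - W.e 1)] :
        Fin 2 → ι → F) i) (W.e j) = 0 := fun i j hj hj' => by omega
  have hpf : ∀ (i : Fin 2) j, 2 ≤ j → j < 2 →
      hdot φ ((![W.f 0 + W.f 1, κ⁻¹ • (W.e 0 - W.e 1)] :
        Fin 2 → ι → F) i) (W.f j) = 0 := fun i j hj hj' => by omega
  have hqe : ∀ (i : Fin 2) j, 2 ≤ j → j < 2 →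
      hdot φ ((![κ⁻¹ • (γ • W.e 1 - φ γ • W.e 0), φ γ • W.f 0 + γ • W.f 1] :
        Fin 2 → ι → F) i) (W.e j) = 0 := fun i j hj hj' => by omega
  have hqf : ∀ (i : Fin 2) j, 2 ≤ j → j < 2 →
      hdot φ ((![κ⁻¹ • (γ • W.e 1 - φ γ • W.e 0), φ γ • W.f 0 + γ • W.f 1] :
        Fin 2 → ι → F) i) (W.f j) = 0 := fun i j hj hj' => by omega
  have hpd : ∀ (i : Fin 2),
      hdot φ ((![W.f 0 + W.f 1, κ⁻¹ • (W.e 0 - W.e 1)] :
        Fin 2 → ι → F) i) W.d = 0 := fun i =>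
    (hperp W.d (fun i => W.ed _ (hlt i)) (fun i => W.fd _ (hlt i))).1 i
  have hqd : ∀ (i : Fin 2),
      hdot φ ((![κ⁻¹ • (γ • W.e 1 - φ γ • W.e 0), φ γ • W.f 0 + γ • W.f 1] :
        Fin 2 → ι → F) i) W.d = 0 := fun i =>
    (hperp W.d (fun i => W.ed _ (hlt i)) (fun i => W.fd _ (hlt i))).2 i
  have hsp : ∀ S : Submodule F (ι → F),
      (∀ i, (![W.f 0 + W.f 1, κ⁻¹ • (W.e 0 - W.e 1)] :
        Fin 2 → ι → F) i ∈ S) →
      (∀ i, (![κ⁻¹ • (γ • W.e 1 - φ γ • W.e 0), φ γ • W.f 0 + γ • W.f 1] :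
        Fin 2 → ι → F) i ∈ S) → ∀ j, j < 2 → W.e j ∈ S ∧ W.f j ∈ S := by
    intro S hp hq j hj
    obtain ⟨h1, h2, h3, h4⟩ := primed_inv (W.e 0) (W.e 1) (W.f 0) (W.f 1) κ γ hκ0 hγ S
      (hp 0) (hp 1) (hq 0) (hq 1)
    interval_cases j
    · exact ⟨h1, h3⟩
    · exact ⟨h2, h4⟩
  obtain ⟨t, ht, hdet⟩ := exists_t hφφ W 2 (by omega) _ _ hs' hpe hpf hqe hqf hpd hqd hsp
  obtain ⟨Wt, hWt⟩ : ∃ Wt, Wt = W.replace hφφ 2 (by omega) _ _ hs' hpe hpf hqe hqf hpd hqd hsp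
    t ht := ⟨_, rfl⟩
  rw [← hWt] at hdet
  have hWe0 : Wt.e 0 = W.f 0 + W.f 1 := by rw [hWt]; rfl
  have hWe1 : Wt.e 1 = κ⁻¹ • (W.e 0 - W.e 1) := by rw [hWt]; rfl
  have hWf1 : Wt.f 1 = φ γ • W.f 0 + γ • W.f 1 := by rw [hWt]; rfl
  have hWd : Wt.d = t • W.d := by rw [hWt]; rfl
  obtain ⟨h, hh_def⟩ : ∃ h, h = wmap W Wt := ⟨_, rfl⟩
  rw [← hh_def] at hdet
  have hhU : IsU φ h := by rw [hh_def]; exact wmap_isU hφφ W Wt
  -- the third conjugate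
  have hhu : h * u = chain Wt td s0 0 1 * h := by
    rw [hu_def]
    exact conj_chain W Wt h hhU (fun i hi => by rw [hh_def]; exact wmap_e W Wt i hi)
      (fun i hi => by rw [hh_def]; exact wmap_f W Wt i hi)
      (by rw [hh_def]; exact wmap_d W Wt) td s0 1 0 hj0
  have hchain : chain Wt td s0 0 1 =
      sg φ (Wt.e 0) (Wt.f 1) 0 * sg φ (Wt.e 1) (td • Wt.d) s0 := rfl
  -- the elements
  let U : SUg ι φ := mkS φ u huU hudet
  let G : SUg ι φ := mkS φ g hgU hgdet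
  let Hh : SUg ι φ := mkS φ h hhU hdet
  refine ⟨U, G, Hh, ?_, ?_⟩
  · have := regular W td s0 hφφ hs0 (by omega) htd0
    have e : 2 - 1 = 1 := rfl
    rw [e, ← hu_def] at this
    exact this
  obtain ⟨H, hH⟩ : ∃ H, H = Subgroup.closure ({U, G * U * G⁻¹, Hh * U * Hh⁻¹} : Set (SUg ι φ)) :=
    ⟨_, rfl⟩
  rw [← hH]
  have hu : u ∈ MS φ H := by
    have : U ∈ H := by rw [hH]; exact Subgroup.subset_closure (by simp)
    exact MS_of_mem U this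
  have hgu : g * u * g' ∈ MS φ H := by
    have : G * U * G⁻¹ ∈ H := by rw [hH]; exact Subgroup.subset_closure (by simp)
    have h2 := MS_of_mem _ this
    rw [smat_conj, smat_inv_eq G g' hgg'] at h2
    exact h2
  have hu' : u' ∈ MS φ H := MS_inv hu huu'
  have hz : tv φ (W.e 0) κ⁻¹ ∈ MS φ H := by
    have h2 := MS_mul hgu hu'
    rw [hgug, Matrix.mul_assoc, huu', Matrix.mul_one] at h2
    exact h2
  have hu3 : chain Wt td s0 0 1 ∈ MS φ H := by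
    have : Hh * U * Hh⁻¹ ∈ H := by rw [hH]; exact Subgroup.subset_closure (by simp)
    have h2 := MS_of_mem _ this
    rw [smat_conj] at h2
    have h3 : smat φ Hh * smat φ U * smat φ Hh⁻¹ = chain Wt td s0 0 1 := by
      show h * u * smat φ Hh⁻¹ = _
      rw [hhu, Matrix.mul_assoc]
      have : h * smat φ Hh⁻¹ = 1 := smat_mul_inv φ Hh
      rw [this, Matrix.mul_one]
    rw [h3] at h2
    exact h2
  -- Gram facts
  have f00 := W.ff 0 0 (by omega) (by omega)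
  have f01 := W.ff 0 1 (by omega) (by omega)
  have f10 := W.ff 1 0 (by omega) (by omega)
  have f11 := W.ff 1 1 (by omega) (by omega)
  -- the form of the third conjugate
  have hA : sg φ (Wt.e 0) (Wt.f 1) 0 = tv φ (W.f 0) (-κ) * tv φ (W.f 1) κ := by
    rw [hWe0, hWf1, sgA hφφ (W.f 0) (W.f 1) γ f00 f01 f10 f11, hγ]
  have hB : sg φ (Wt.e 1) (td • Wt.d) s0 =
      sg φ (W.e 0 - W.e 1) ((-κ⁻¹ * t * td) • W.d) (-κ⁻¹ * κ⁻¹ * s0) := by
    have e1 : φ κ⁻¹ • td • t • W.d = (-κ⁻¹ * t * td) • W.d := by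
      rw [smul_smul, smul_smul, hκi]
      congr 1
      ring
    have e2 : κ⁻¹ * φ κ⁻¹ * s0 = -κ⁻¹ * κ⁻¹ * s0 := by rw [hκi]; ring
    rw [hWe1, hWd, sg_scale φ hφφ, e1, e2]
  have hu3' : chain Wt td s0 0 1 =
      tv φ (W.f 0) (-κ) * (tv φ (W.f 1) κ *
        sg φ (W.e 0 - W.e 1) ((-κ⁻¹ * t * td) • W.d) (-κ⁻¹ * κ⁻¹ * s0)) := by
    rw [hchain, hA, hB, Matrix.mul_assoc]
  rw [hu3'] at hu3
  -- apply the core
  apply core2 hφφ hgen H (fun i : Fin 2 => W.e i.val) (fun i : Fin 2 => W.f i.val)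
    (W.hypSys 2 (by omega)) W.d W.dd (fun i => W.ed _ (hlt i)) (fun i => W.de _ (hlt i))
    (fun i => W.fd _ (hlt i)) (fun i => W.df _ (hlt i)) ?_ κ μ τ s0 td t hκ hκ0 h2κ ht htd0 hs0
    hμs hμ hτ u' ?_ ?_ hz hu3 ?_
  · intro x
    show x = hdot φ x (W.f 0) • W.e 0 + hdot φ x (W.e 0) • W.f 0 + hdot φ x (W.f 1) • W.e 1 +
      hdot φ x (W.e 1) • W.f 1 + hdot φ x W.d • W.d
    have := W.expand x
    rw [Finset.sum_range_succ, Finset.sum_range_one] at this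
    rw [← add_assoc] at this
    exact this
  · show sg φ (W.e 0) (W.f 1) 0 * sg φ (W.e 1) (td • W.d) s0 * u' = 1
    rw [← huY]; exact huu'
  · show sg φ (W.e 0) (W.f 1) 0 * sg φ (W.e 1) (td • W.d) s0 ∈ MS φ H
    rw [← huY]; exact hu
  · intro S he hf hSu hSu'
    have e : 2 - 1 = 1 := rfl
    have := cyc W td s0 hφφ hs0 (by omega) htd0 S he hf
    rw [e, ← hu_def, ← hu'_def] at this
    exact this (by rw [huY]; exact hSu) hSu'

end general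

end Cfsg.Agent.Helper12.SUgen
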