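import Mathlib
import Cfsg.Agent.Lib.Helper12.SUgenL
import Cfsg.Agent.Lib.Helper11.UnitaryGen2
import Cfsg.Agent.Lib.Helper11.UnitaryGeom

set_option autoImplicit false

/-! The standard Witt family of an odd dimensional coordinate space, and three conjugate regular
unipotent elements generating the special unitary group in odd dimension at least five. -/

namespace Cfsg.Agent.Helper12.SUgen

open Matrix Cfsg.Agent.Helper11.Herm

section std

variable {F : Type*} [Field F] (φ : F →+* F) (n : ℕ)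

/-- the coordinate vectors, indexed by natural numbers -/
def bk (j : ℕ) : Fin n → F := fun i => if i.val = j then 1 else 0

theorem bk_eq_single (a : ℕ) (ha : a < n) : (bk n a : Fin n → F) = Pi.single ⟨a, ha⟩ 1 := by
  funext i
  unfold bk
  rw [Pi.single_apply]
  simp only [Fin.ext_iff]

theorem hbk (a b : ℕ) (ha : a < n) (hb : b < n) :
    hdot φ (bk n a : Fin n → F) (bk n b) = if a = b then 1 else 0 := by
  rw [bk_eq_single n a ha, bk_eq_single n b hb, hdot_single_single]
  simp only [Fin.mk.injEq]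

variable (m : ℕ) (lam τ : F)

/-- the standard isotropic vectors -/
def se (i : ℕ) : Fin (2 * m + 1) → F := bk (2 * m + 1) (2 * i) + lam • bk (2 * m + 1) (2 * i + 1)

def sf (i : ℕ) : Fin (2 * m + 1) → F := bk (2 * m + 1) (2 * i) - τ • se m lam i

variable {φ} (hlam : lam * φ lam = -1) (hτ : τ + φ τ = 1)

include hlam in
theorem se_se (i j : ℕ) (hi : i < m) (hj : j < m) : hdot φ (se m lam i) (se m lam j) = 0 := by
  unfold se
  simp only [hdot_add_left, hdot_add_right, hdot_smul_left, hdot_smul_right]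
  rw [hbk φ _ (2 * i) (2 * j) (by omega) (by omega),
    hbk φ _ (2 * i) (2 * j + 1) (by omega) (by omega),
    hbk φ _ (2 * i + 1) (2 * j) (by omega) (by omega),
    hbk φ _ (2 * i + 1) (2 * j + 1) (by omega) (by omega)]
  by_cases h : i = j
  · subst h
    rw [if_pos rfl, if_neg (by omega), if_neg (by omega), if_pos rfl]
    linear_combination hlam
  · rw [if_neg (by omega), if_neg (by omega), if_neg (by omega), if_neg (by omega)]
    ring

theorem bk_se (i j : ℕ) (hi : i < m) (hj : j < m) :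
    hdot φ (bk (2 * m + 1) (2 * i)) (se m lam j) = if i = j then 1 else 0 := by
  unfold se
  simp only [hdot_add_right, hdot_smul_right]
  rw [hbk φ _ (2 * i) (2 * j) (by omega) (by omega),
    hbk φ _ (2 * i) (2 * j + 1) (by omega) (by omega)]
  by_cases h : i = j
  · subst h
    rw [if_pos rfl, if_neg (by omega), if_pos rfl]
    ring
  · rw [if_neg (by omega), if_neg (by omega), if_neg h]
    ring

theorem se_bk (i j : ℕ) (hi : i < m) (hj : j < m) :
    hdot φ (se m lam i) (bk (2 * m + 1) (2 * j)) = if i = j then 1 else 0 := by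
  unfold se
  simp only [hdot_add_left, hdot_smul_left]
  rw [hbk φ _ (2 * i) (2 * j) (by omega) (by omega),
    hbk φ _ (2 * i + 1) (2 * j) (by omega) (by omega)]
  by_cases h : i = j
  · subst h
    rw [if_pos rfl, if_neg (by omega), if_pos rfl]
    ring
  · rw [if_neg (by omega), if_neg (by omega), if_neg h]
    ring

theorem se_d (i : ℕ) (hi : i < m) :
    hdot φ (se m lam i) (bk (2 * m + 1) (2 * m)) = 0 := by
  unfold se
  simp only [hdot_add_left, hdot_smul_left]
  rw [hbk φ _ (2 * i) (2 * m) (by omega) (by omega),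
    hbk φ _ (2 * i + 1) (2 * m) (by omega) (by omega), if_neg (by omega), if_neg (by omega)]
  ring

theorem d_se (i : ℕ) (hi : i < m) :
    hdot φ (bk (2 * m + 1) (2 * m)) (se m lam i) = 0 := by
  unfold se
  simp only [hdot_add_right, hdot_smul_right]
  rw [hbk φ _ (2 * m) (2 * i) (by omega) (by omega),
    hbk φ _ (2 * m) (2 * i + 1) (by omega) (by omega), if_neg (by omega), if_neg (by omega)]
  ring

/-- the standard Witt family -/
def stdWitt : Witt φ (Fin (2 * m + 1)) m where
  e := se m lam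
  f := sf m lam τ
  d := bk (2 * m + 1) (2 * m)
  ee := se_se m lam hlam
  ff := by
    intro i j hi hj
    unfold sf
    simp only [hdot_sub_left, hdot_sub_right, hdot_smul_left, hdot_smul_right]
    rw [se_se m lam hlam i j hi hj, bk_se m lam i j hi hj, se_bk m lam i j hi hj,
      hbk φ _ (2 * i) (2 * j) (by omega) (by omega)]
    by_cases h : i = j
    · subst h
      rw [if_pos rfl, if_pos rfl]
      linear_combination -hτ
    · rw [if_neg (by omega), if_neg h]
      ring
  ef := by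
    intro i j hi hj
    unfold sf
    simp only [hdot_sub_right, hdot_smul_right]
    rw [se_se m lam hlam i j hi hj, se_bk m lam i j hi hj]
    ring
  fe := by
    intro i j hi hj
    unfold sf
    simp only [hdot_sub_left, hdot_smul_left]
    rw [se_se m lam hlam i j hi hj, bk_se m lam i j hi hj]
    ring
  ed := se_d m lam
  de := d_se m lam
  fd := by
    intro i hi
    unfold sf
    simp only [hdot_sub_left, hdot_smul_left]
    rw [se_d m lam i hi, hbk φ _ (2 * i) (2 * m) (by omega) (by omega), if_neg (by omega)]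
    ring
  df := by
    intro i hi
    unfold sf
    simp only [hdot_sub_right, hdot_smul_right]
    rw [d_se m lam i hi, hbk φ _ (2 * m) (2 * i) (by omega) (by omega), if_neg (by omega)]
    ring
  dd := by
    rw [hbk φ _ (2 * m) (2 * m) (by omega) (by omega), if_pos rfl]
  span := by
    intro S he hf hd x
    have hlam0 : lam ≠ 0 := by
      intro h
      rw [h, zero_mul] at hlam
      exact zero_ne_one (by linear_combination -hlam)
    have h0 : ∀ i, i < m → bk (2 * m + 1) (2 * i) ∈ S := by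
      intro i hi
      have := S.add_mem (hf i hi) (S.smul_mem τ (he i hi))
      have e1 : sf m lam τ i + τ • se m lam i = bk (2 * m + 1) (2 * i) := by
        unfold sf; abel
      rwa [e1] at this
    have h1 : ∀ i, i < m → bk (2 * m + 1) (2 * i + 1) ∈ S := by
      intro i hi
      have := S.smul_mem lam⁻¹ (S.sub_mem (he i hi) (h0 i hi))
      have e1 : lam⁻¹ • (se m lam i - bk (2 * m + 1) (2 * i)) = bk (2 * m + 1) (2 * i + 1) := by
        unfold se
        rw [add_sub_cancel_left, smul_smul, inv_mul_cancel₀ hlam0, one_smul]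
      rwa [e1] at this
    rw [pi_eq_sum_univ x]
    apply S.sum_mem
    intro j _
    apply S.smul_mem
    have e2 : (fun j' : Fin (2 * m + 1) => if j = j' then (1 : F) else 0) =
        bk (2 * m + 1) j.val := by
      funext j'
      unfold bk
      simp only [Fin.ext_iff, eq_comm]
    rw [e2]
    have hj := j.isLt
    rcases Nat.even_or_odd' j.val with ⟨i, hi | hi⟩
    · by_cases him : i = m
      · rw [hi, him]; exact hd
      · rw [hi]; exact h0 i (by omega)
    · rw [hi]; exact h1 i (by omega)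

end std

section finite

variable {F : Type*} [Field F] [Fintype F] {q : ℕ}

theorem exists_params (hF : Fintype.card F = q ^ 2) (φ : F →+* F) (hφ : ∀ x, φ x = x ^ q) :
    ∃ κ μ τ lam td : F, φ κ = -κ ∧ κ ≠ 0 ∧ ((2 : F) = 0 → κ = 1) ∧ μ ≠ 0 ∧
      (∀ y : F, y ≠ 0 → ∃ k : ℕ, y = μ ^ k) ∧ τ + φ τ = 1 ∧ lam * φ lam = -1 ∧
      td * φ td = κ * (μ - φ μ) ∧ td ≠ 0 := by
  have hφφ := frob_frob hF φ hφ
  have hne := frob_ne_id hF φ hφ
  have hN1 := frob_norm_surj hF φ hφ
  -- generator
  obtain ⟨ζ, hζ⟩ := IsCyclic.exists_generator (α := Fˣ)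
  have hμ : ∀ y : F, y ≠ 0 → ∃ k : ℕ, y = (ζ : F) ^ k := by
    intro y hy
    have h1 : Units.mk0 y hy ∈ Subgroup.zpowers ζ := hζ _
    rw [← mem_powers_iff_mem_zpowers, Submonoid.mem_powers_iff] at h1
    obtain ⟨k, hk⟩ := h1
    refine ⟨k, ?_⟩
    have := congrArg Units.val hk
    rw [Units.val_pow_eq_pow_val, Units.val_mk0] at this
    exact this.symm
  have hμφ : φ (ζ : F) ≠ (ζ : F) := by
    intro h
    apply hne
    ext y
    by_cases hy : y = 0
    · rw [hy, map_zero, map_zero]
    · obtain ⟨k, rfl⟩ := hμ y hy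
      rw [map_pow, h, RingHom.id_apply]
  -- trace
  obtain ⟨μ0, hμ0⟩ := frob_trace_ne_zero hF φ hφ
  have hs : φ (μ0 + φ μ0) = μ0 + φ μ0 := by rw [map_add, hφφ, add_comm]
  -- κ
  obtain ⟨κ, hκ, hκ0, h2κ⟩ : ∃ κ : F, φ κ = -κ ∧ κ ≠ 0 ∧ ((2 : F) = 0 → κ = 1) := by
    by_cases h2 : (2 : F) = 0
    · refine ⟨1, ?_, one_ne_zero, fun _ => rfl⟩
      rw [map_one]; linear_combination h2
    · refine ⟨(ζ : F) - φ ζ, ?_, ?_, fun h => absurd h h2⟩
      · rw [map_sub, hφφ]; ring
      · intro h; exact hμφ (by linear_combination -h)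
  -- norm minus one
  obtain ⟨lam, _, hlam⟩ := hN1 (-1) (by simp) (by rw [map_neg, map_one])
  -- td
  have hc0 : κ * ((ζ : F) - φ ζ) ≠ 0 :=
    mul_ne_zero hκ0 (fun h => hμφ (by linear_combination -h))
  have hcφ : φ (κ * ((ζ : F) - φ ζ)) = κ * ((ζ : F) - φ ζ) := by
    rw [map_mul, map_sub, hφφ, hκ]; ring
  obtain ⟨td, htd0, htd⟩ := hN1 _ hc0 hcφ
  refine ⟨κ, ζ, μ0 / (μ0 + φ μ0), lam, td, hκ, hκ0, h2κ, ζ.ne_zero, hμ, ?_, hlam, htd, htd0⟩
  rw [map_div₀, hs]
  field_simp

theorem su_gen (hF : Fintype.card F = q ^ 2) (φ : F →+* F) (hφ : ∀ x, φ x = x ^ q) (m : ℕ)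
    (hm : 2 ≤ m) :
    ∃ U G Hh : SUg (Fin (2 * m + 1)) φ,
      (IsNilpotent (smat φ U - 1) ∧ (smat φ U - 1) ^ (2 * m) ≠ 0) ∧
      Subgroup.closure ({U, G * U * G⁻¹, Hh * U * Hh⁻¹} : Set (SUg (Fin (2 * m + 1)) φ)) = ⊤ := by
  have hφφ := frob_frob hF φ hφ
  have hne := frob_ne_id hF φ hφ
  have hN1 := frob_norm_surj hF φ hφ
  obtain ⟨κ, μ, τ, lam, td, hκ, hκ0, h2κ, hμ0, hμ, hτ, hlam, htd, htd0⟩ := exists_params hF φ hφ
  have hgen : ∀ M : Matrix (Fin (2 * m + 1)) (Fin (2 * m + 1)) F, IsU φ M → M.det = 1 →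
      M ∈ TM φ := fun M hM hd =>
    mem_TM_of_isU_of_det φ hne hφφ hN1 (Or.inl (by rw [Fintype.card_fin]; omega))
      ⟨0, by omega⟩ M hM hd
  obtain rfl | ⟨k, rfl⟩ : m = 2 ∨ ∃ k, m = k + 3 := by
    by_cases h : m = 2
    · exact Or.inl h
    · exact Or.inr ⟨m - 3, by omega⟩
  · exact main2 (stdWitt 2 lam τ hlam hτ) hφφ hgen κ μ τ td hκ hκ0 h2κ htd htd0 hμ hτ
  · exact main3 (stdWitt (k + 3) lam τ hlam hτ) hφφ hgen κ μ τ hκ hκ0 hμ0 hμ hτ

end finite

end Cfsg.Agent.Helper12.SUgen
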