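import Mathlib
import Cfsg.Agent.Lib.Helper12.Icosa3

/-!
# The binary icosahedral relations bound the order by `120`
-/

set_option autoImplicit false

namespace Cfsg.Agent.Helper12.BinIco

variable {G : Type*} [Group G] {x y z : G}

/-- relations of the binary icosahedral group. -/
structure BRel (x y z : G) : Prop where
  hx : x ^ 3 = 1
  hy : y ^ 5 = 1
  hz : z ^ 2 = 1
  hzx : z * x = x * z
  hzy : z * y = y * z
  hxy : (x * y) ^ 2 = z

theorem central (h : BRel x y z) (hgen : Subgroup.closure ({x, y} : Set G) = ⊤) (g : G) :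
    g * z = z * g := by
  have hle : Subgroup.closure ({x, y} : Set G) ≤ Subgroup.centralizer {z} := by
    rw [Subgroup.closure_le]
    intro w hw
    simp only [Set.mem_insert_iff, Set.mem_singleton_iff] at hw
    rw [SetLike.mem_coe, Subgroup.mem_centralizer_singleton_iff]
    rcases hw with rfl | rfl
    · exact h.hzx.symm
    · exact h.hzy.symm
  have hg : g ∈ Subgroup.closure ({x, y} : Set G) := by rw [hgen]; trivial
  exact Subgroup.mem_centralizer_singleton_iff.mp (hle hg)

theorem card_le (h : BRel x y z) (hgen : Subgroup.closure ({x, y} : Set G) = ⊤) :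
    Finite G ∧ Nat.card G ≤ 120 := by
  have hcen := central h hgen
  have hzpow : ∀ n ∈ Subgroup.zpowers z, ∀ g : G, g * n = n * g := by
    intro n hn g
    obtain ⟨k, rfl⟩ := Subgroup.mem_zpowers_iff.mp hn
    exact (Commute.zpow_right (show Commute g z from hcen g) k).eq
  haveI hnorm : (Subgroup.zpowers z).Normal := by
    constructor
    intro n hn g
    rw [hzpow n hn g, mul_inv_cancel_right]
    exact hn
  obtain ⟨X, hX⟩ : ∃ X : G ⧸ Subgroup.zpowers z, X = QuotientGroup.mk (x * y) := ⟨_, rfl⟩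
  obtain ⟨c, hc⟩ : ∃ c : G ⧸ Subgroup.zpowers z, c = QuotientGroup.mk y⁻¹ := ⟨_, rfl⟩
  have hXc : X * c = QuotientGroup.mk x := by
    rw [hX, hc, ← QuotientGroup.mk_mul, mul_inv_cancel_right]
  have hrel : Ico.Rel X c := by
    refine ⟨?_, ?_, ?_⟩
    · rw [hX, ← QuotientGroup.mk_mul, ← pow_two, h.hxy]
      exact (QuotientGroup.eq_one_iff _).mpr (Subgroup.mem_zpowers z)
    · rw [hc, ← QuotientGroup.mk_pow, inv_pow, h.hy, inv_one, QuotientGroup.mk_one]
    · rw [hXc, ← QuotientGroup.mk_mul, ← QuotientGroup.mk_mul]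
      have : x * x * x = 1 := by
        rw [← h.hx]; simp [pow_succ]
      rw [this, QuotientGroup.mk_one]
  have hgenQ : Subgroup.closure ({X, c} : Set (G ⧸ Subgroup.zpowers z)) = ⊤ := by
    rw [eq_top_iff]
    have hsurj : Function.Surjective (QuotientGroup.mk' (Subgroup.zpowers z)) :=
      QuotientGroup.mk'_surjective _
    have h1 : (Subgroup.closure ({x, y} : Set G)).map (QuotientGroup.mk' (Subgroup.zpowers z)) =
        ⊤ := by
      rw [hgen, ← MonoidHom.range_eq_map, MonoidHom.range_eq_top]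
      exact hsurj
    rw [← h1, MonoidHom.map_closure, Subgroup.closure_le]
    rintro _ ⟨w, hw, rfl⟩
    simp only [Set.mem_insert_iff, Set.mem_singleton_iff] at hw
    have hXm : X ∈ Subgroup.closure ({X, c} : Set (G ⧸ Subgroup.zpowers z)) :=
      Subgroup.subset_closure (by simp)
    have hcm : c ∈ Subgroup.closure ({X, c} : Set (G ⧸ Subgroup.zpowers z)) :=
      Subgroup.subset_closure (by simp)
    rcases hw with rfl | rfl
    · show (QuotientGroup.mk w : G ⧸ Subgroup.zpowers z) ∈ _
      rw [← hXc]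
      exact Subgroup.mul_mem _ hXm hcm
    · show (QuotientGroup.mk w : G ⧸ Subgroup.zpowers z) ∈ _
      have : (QuotientGroup.mk w : G ⧸ Subgroup.zpowers z) = c⁻¹ := by
        rw [hc, ← QuotientGroup.mk_inv, inv_inv]
      rw [this]
      exact Subgroup.inv_mem _ hcm
  obtain ⟨hfinQ, hcardQ⟩ := Ico.card_le_sixty hrel hgenQ
  have hZcard : Nat.card (Subgroup.zpowers z) = orderOf z := Nat.card_zpowers z
  have hord : orderOf z ≤ 2 := orderOf_le_of_pow_eq_one (by norm_num) h.hz
  have hordpos : 0 < orderOf z := orderOf_pos_iff.mpr (isOfFinOrder_iff_pow_eq_one.mpr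
    ⟨2, by norm_num, h.hz⟩)
  haveI hfinZ : Finite (Subgroup.zpowers z) := Nat.finite_of_card_ne_zero (by omega)
  haveI : Finite G :=
    Finite.of_equiv _ (Subgroup.groupEquivQuotientProdSubgroup (s := Subgroup.zpowers z)).symm
  refine ⟨inferInstance, ?_⟩
  rw [Subgroup.card_eq_card_quotient_mul_card_subgroup (Subgroup.zpowers z), hZcard]
  calc Nat.card (G ⧸ Subgroup.zpowers z) * orderOf z ≤ 60 * 2 := Nat.mul_le_mul hcardQ hord
    _ = 120 := by norm_num

end Cfsg.Agent.Helper12.BinIco
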