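import Mathlib
import Cfsg.Agent.Lib.Helper12.BinIco
import Cfsg.Agent.Lib.Helper2.ExcM4
import Cfsg.Agent.Lib.Helper2.CardSL

/-!
# The presentation of `SL(2,5)`
-/

set_option autoImplicit false

namespace Cfsg.Agent.Helper12.BinIco

/-- the relators. -/
def rels : Set (FreeGroup (Fin 3)) :=
  ({FreeGroup.of (0 : Fin 3) ^ 3, FreeGroup.of (1 : Fin 3) ^ 5, FreeGroup.of (2 : Fin 3) ^ 2,
        (FreeGroup.of (2 : Fin 3))⁻¹ * FreeGroup.of 0 * FreeGroup.of 2 * (FreeGroup.of (0 : Fin 3))⁻¹,
        (FreeGroup.of (2 : Fin 3))⁻¹ * FreeGroup.of 1 * FreeGroup.of 2 * (FreeGroup.of (1 : Fin 3))⁻¹,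
        (FreeGroup.of (0 : Fin 3) * FreeGroup.of 1) ^ 2 * (FreeGroup.of (2 : Fin 3))⁻¹} : Set (FreeGroup (Fin 3)))

/-- the presented group. -/
abbrev Gam : Type := PresentedGroup rels

/-- generator `x`. -/
def gx : Gam := PresentedGroup.of 0

/-- generator `y`. -/
def gy : Gam := PresentedGroup.of 1

/-- generator `z`. -/
def gz : Gam := PresentedGroup.of 2

theorem gam_rel : BRel gx gy gz := by
  have r1 : gx ^ 3 = 1 := by
    have h : FreeGroup.of (0 : Fin 3) ^ 3 ∈ rels := by simp [rels]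
    have := PresentedGroup.one_of_mem h
    simpa [gx, PresentedGroup.of] using this
  have r2 : gy ^ 5 = 1 := by
    have h : FreeGroup.of (1 : Fin 3) ^ 5 ∈ rels := by simp [rels]
    have := PresentedGroup.one_of_mem h
    simpa [gy, PresentedGroup.of] using this
  have r3 : gz ^ 2 = 1 := by
    have h : FreeGroup.of (2 : Fin 3) ^ 2 ∈ rels := by simp [rels]
    have := PresentedGroup.one_of_mem h
    simpa [gz, PresentedGroup.of] using this
  have r4 : gz⁻¹ * gx * gz * gx⁻¹ = 1 := by
    have h : (FreeGroup.of (2 : Fin 3))⁻¹ * FreeGroup.of 0 * FreeGroup.of 2 *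
        (FreeGroup.of (0 : Fin 3))⁻¹ ∈ rels := by simp [rels]
    have := PresentedGroup.one_of_mem h
    simpa [gx, gz, PresentedGroup.of] using this
  have r5 : gz⁻¹ * gy * gz * gy⁻¹ = 1 := by
    have h : (FreeGroup.of (2 : Fin 3))⁻¹ * FreeGroup.of 1 * FreeGroup.of 2 *
        (FreeGroup.of (1 : Fin 3))⁻¹ ∈ rels := by simp [rels]
    have := PresentedGroup.one_of_mem h
    simpa [gy, gz, PresentedGroup.of] using this
  have r6 : (gx * gy) ^ 2 * gz⁻¹ = 1 := by
    have h : (FreeGroup.of (0 : Fin 3) * FreeGroup.of 1) ^ 2 * (FreeGroup.of (2 : Fin 3))⁻¹ ∈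
        rels := by simp [rels]
    have := PresentedGroup.one_of_mem h
    simpa [gx, gy, gz, PresentedGroup.of] using this
  refine ⟨r1, r2, r3, ?_, ?_, ?_⟩
  · have : gz * (gz⁻¹ * gx * gz * gx⁻¹) * gx = gz * 1 * gx := by rw [r4]
    rw [mul_one] at this
    rw [← this]
    group
  · have : gz * (gz⁻¹ * gy * gz * gy⁻¹) * gy = gz * 1 * gy := by rw [r5]
    rw [mul_one] at this
    rw [← this]
    group
  · have : (gx * gy) ^ 2 * gz⁻¹ * gz = 1 * gz := by rw [r6]
    rw [one_mul, inv_mul_cancel_right] at this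
    exact this

theorem gam_gen : Subgroup.closure ({gx, gy} : Set Gam) = ⊤ := by
  rw [eq_top_iff, ← PresentedGroup.closure_range_of rels, Subgroup.closure_le]
  rintro _ ⟨b, rfl⟩
  have hx : gx ∈ Subgroup.closure ({gx, gy} : Set Gam) := Subgroup.subset_closure (by simp)
  have hy : gy ∈ Subgroup.closure ({gx, gy} : Set Gam) := Subgroup.subset_closure (by simp)
  fin_cases b
  · exact hx
  · exact hy
  · have e : (PresentedGroup.of (2 : Fin 3) : Gam) = (gx * gy) ^ 2 := gam_rel.hxy.symm
    show (PresentedGroup.of (2 : Fin 3) : Gam) ∈ _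
    rw [e]
    exact Subgroup.pow_mem _ (Subgroup.mul_mem _ hx hy) 2

theorem gam_card : Finite Gam ∧ Nat.card Gam ≤ 120 := card_le gam_rel gam_gen

/-- the universal property. -/
def lift {G : Type*} [Group G] {x y z : G} (h : BRel x y z) : Gam →* G :=
  PresentedGroup.toGroup (f := ![x, y, z]) (by
    intro r hr
    simp only [rels, Set.mem_insert_iff, Set.mem_singleton_iff] at hr
    rcases hr with rfl | rfl | rfl | rfl | rfl | rfl
    · simpa using h.hx
    · simpa using h.hy
    · simpa using h.hz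
    · simp only [map_mul, map_inv, FreeGroup.lift_apply_of]
      change z⁻¹ * x * z * x⁻¹ = 1
      rw [mul_assoc z⁻¹, ← h.hzx]
      group
    · simp only [map_mul, map_inv, FreeGroup.lift_apply_of]
      change z⁻¹ * y * z * y⁻¹ = 1
      rw [mul_assoc z⁻¹, ← h.hzy]
      group
    · simp only [map_mul, map_inv, map_pow, FreeGroup.lift_apply_of]
      change (x * y) ^ 2 * z⁻¹ = 1
      rw [h.hxy, mul_inv_cancel])

theorem lift_gx {G : Type*} [Group G] {x y z : G} (h : BRel x y z) : lift h gx = x :=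
  PresentedGroup.toGroup.of _

theorem lift_gy {G : Type*} [Group G] {x y z : G} (h : BRel x y z) : lift h gy = y :=
  PresentedGroup.toGroup.of _

theorem lift_gz {G : Type*} [Group G] {x y z : G} (h : BRel x y z) : lift h gz = z :=
  PresentedGroup.toGroup.of _

end Cfsg.Agent.Helper12.BinIco
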