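import Mathlib
import Cfsg.Agent.Lib.Helper12.BinIco2

/-!
# `SL(2,5)` satisfies the binary icosahedral presentation
-/

set_option autoImplicit false

namespace Cfsg.Agent.Helper12.BinIco

open Matrix

/-- the group `SL(2,5)`. -/
abbrev S25 : Type := Matrix.SpecialLinearGroup (Fin 2) (ZMod 5)

/-- a matrix of order `3`. -/
def mx : S25 := ⟨!![0, -1; 1, -1], by decide⟩

/-- a matrix of order `5`. -/
def my : S25 := ⟨!![1, 1; 0, 1], by decide⟩

/-- the central involution. -/
def mz : S25 := ⟨!![-1, 0; 0, -1], by decide⟩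

theorem mx_pow : mx ^ 3 = 1 := by decide
theorem my_pow : my ^ 5 = 1 := by decide
theorem mz_pow : mz ^ 2 = 1 := by decide
theorem mxy_pow : (mx * my) ^ 2 = mz := by decide
theorem mx_ne : mx ≠ 1 := by decide
theorem my_ne : my ≠ 1 := by decide
theorem mz_ne : mz ≠ 1 := by decide

theorem mz_comm (g : S25) : mz * g = g * mz := by
  apply Subtype.ext
  rw [Matrix.SpecialLinearGroup.coe_mul, Matrix.SpecialLinearGroup.coe_mul]
  ext i j
  fin_cases i <;> fin_cases j <;> simp [mz, Matrix.mul_apply, Fin.sum_univ_two]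

theorem m_rel : BRel mx my mz :=
  ⟨mx_pow, my_pow, mz_pow, mz_comm mx, mz_comm my, mxy_pow⟩

theorem card_S25 : Nat.card S25 = 120 := by
  haveI : Fact (Nat.Prime 5) := ⟨by norm_num⟩
  have h := Cfsg.Agent.Helper2.card_SL_mul (F := ZMod 5) 2 (by norm_num)
  rw [Fin.prod_univ_two] at h
  simp only [Fin.val_zero, Fin.val_one, pow_zero, pow_one, ZMod.card] at h
  norm_num at h
  rw [← Nat.card_eq_fintype_card] at h
  have h2 : Nat.card S25 = Nat.card (Matrix.SpecialLinearGroup (Fin 2) (ZMod 5)) := rfl
  omega

/-- the homomorphism onto `SL(2,5)`. -/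
noncomputable def toS25 : Gam →* S25 := lift m_rel

theorem toS25_surjective : Function.Surjective toS25 := by
  rw [← MonoidHom.range_eq_top]
  haveI : Fact (Nat.Prime 3) := ⟨by norm_num⟩
  haveI : Fact (Nat.Prime 5) := ⟨by norm_num⟩
  have h3 : orderOf mx = 3 := orderOf_eq_prime mx_pow mx_ne
  have h5 : orderOf my = 5 := orderOf_eq_prime my_pow my_ne
  have h4 : orderOf (mx * my) = 4 := by
    haveI : Fact (Nat.Prime 2) := ⟨Nat.prime_two⟩
    have h41 : (mx * my) ^ 4 = 1 := by decide
    have := orderOf_eq_prime_pow (x := mx * my) (p := 2) (n := 1) (by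
      rw [pow_one, mxy_pow]; exact mz_ne) (by
      norm_num
      exact h41)
    simpa using this
  have d3 : 3 ∣ Nat.card toS25.range := by
    have := Ico.orderOf_dvd_card_range toS25 gx
    rwa [toS25, lift_gx, h3] at this
  have d5 : 5 ∣ Nat.card toS25.range := by
    have := Ico.orderOf_dvd_card_range toS25 gy
    rwa [toS25, lift_gy, h5] at this
  have d4 : 4 ∣ Nat.card toS25.range := by
    have := Ico.orderOf_dvd_card_range toS25 (gx * gy)
    rwa [toS25, map_mul, lift_gx, lift_gy, h4] at this
  have d60 : 60 ∣ Nat.card toS25.range := by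
    have h12 : 12 ∣ Nat.card toS25.range :=
      Nat.Coprime.mul_dvd_of_dvd_of_dvd (by norm_num : Nat.Coprime 3 4) d3 d4
    exact Nat.Coprime.mul_dvd_of_dvd_of_dvd (by norm_num : Nat.Coprime 12 5) h12 d5
  have hidx := Subgroup.card_mul_index toS25.range
  rw [card_S25] at hidx
  obtain ⟨k, hk⟩ := d60
  have hk0 : k ≠ 0 := by
    rintro rfl
    rw [mul_zero] at hk
    have : 0 < Nat.card toS25.range := Nat.card_pos
    omega
  have hidx2 : toS25.range.index = 1 ∨ toS25.range.index = 2 := by
    rw [hk] at hidx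
    have : k * toS25.range.index = 2 := by nlinarith
    have hle : toS25.range.index ∣ 2 := Dvd.intro_left _ this
    exact (Nat.dvd_prime Nat.prime_two).mp hle
  rcases hidx2 with h1 | h2
  · exact Subgroup.index_eq_one.mp h1
  · haveI : toS25.range.Normal := Subgroup.normal_of_index_eq_two h2
    have hperf : commutator S25 = ⊤ :=
      Cfsg.Agent.Helper2.ExcM4.commutator_SL2_eq_top (K := ZMod 5) (by
        rw [ZMod.card]; norm_num)
    have hq : Nat.card (S25 ⧸ toS25.range) = 2 := by
      rw [← Subgroup.index_eq_card]; exact h2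
    haveI : Fact (Nat.Prime 2) := ⟨Nat.prime_two⟩
    haveI : IsCyclic (S25 ⧸ toS25.range) := isCyclic_of_prime_card hq
    have hcomm : ∀ a b : S25 ⧸ toS25.range, a * b = b * a :=
      fun a b => (IsCyclic.commGroup (α := S25 ⧸ toS25.range)).mul_comm a b
    have hle : commutator S25 ≤ toS25.range := by
      rw [commutator_def, Subgroup.commutator_le]
      intro a _ b _
      rw [← QuotientGroup.eq_one_iff]
      simp only [commutatorElement_def, QuotientGroup.mk_mul, QuotientGroup.mk_inv]
      rw [hcomm (QuotientGroup.mk a) (QuotientGroup.mk b)]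
      group
    rw [hperf] at hle
    exact top_le_iff.mp hle

/-- the presentation of `SL(2,5)`. -/
noncomputable def gamEquiv : Gam ≃* S25 := by
  haveI : Finite Gam := gam_card.1
  have hb : Function.Bijective toS25 :=
    Function.Surjective.bijective_of_nat_card_le toS25_surjective (by
      rw [card_S25]; exact gam_card.2)
  exact MulEquiv.ofBijective toS25 hb

end Cfsg.Agent.Helper12.BinIco
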