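import Mathlib
import Cfsg.Agent.Lib.Helper20.A3Defs
import Cfsg.Agent.S0012

set_option autoImplicit false
set_option linter.unusedSectionVars false
set_option linter.unusedVariables false

/-!
S3117 piece BIL (helper12, for helper20): the squaring map `C/Φ(C) → UU C` is a quadratic map.
-/

namespace Cfsg.Agent.Helper20.A3

open scoped commutatorElement

section Glue

variable {C : Type*} [Group C] [Finite C]

/-- squares lie in the Frattini subgroup of a `2`-group -/
theorem bil_sq_mem (hC : IsPGroup 2 C) (x : C) : x ^ 2 ∈ frattini C := by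
  haveI : Fact (Nat.Prime 2) := ⟨Nat.prime_two⟩
  exact (Cfsg.Agent.S0012.result 2 hC).2 x

/-- the "commutator" `x⁻¹ y x y⁻¹` lies in the Frattini subgroup of a `2`-group -/
theorem bil_comm_mem (hC : IsPGroup 2 C) (x y : C) : x⁻¹ * y * x * y⁻¹ ∈ frattini C := by
  haveI : Fact (Nat.Prime 2) := ⟨Nat.prime_two⟩
  apply (Cfsg.Agent.S0012.result 2 hC).1
  have h : x⁻¹ * y * x * y⁻¹ = ⁅x⁻¹, y⁆ := by
    rw [commutatorElement_def, inv_inv]
  rw [h]
  exact Subgroup.commutator_mem_commutator (Subgroup.mem_top _) (Subgroup.mem_top _)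

/-- the squaring map on representatives (inline version of QMK) -/
theorem bil_qq_mk (hC : IsPGroup 2 C) (hΦ : frattini C ≤ Subgroup.center C) (x : C) :
    qq C (QuotientGroup.mk x) = QuotientGroup.mk (x ^ 2) := by
  obtain ⟨f, hf⟩ := QuotientGroup.mk_out_eq_mul (frattini C) x
  unfold qq
  rw [hf]
  have hfc : (f : C) ∈ Subgroup.center C := hΦ f.2
  have hcomm : (f : C) * x = x * (f : C) := (Subgroup.mem_center_iff.mp hfc x).symm
  have h1 : (x * (f : C)) ^ 2 = x ^ 2 * (f : C) ^ 2 := by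
    rw [pow_two, pow_two, pow_two]
    calc x * (f : C) * (x * (f : C)) = x * ((f : C) * x) * (f : C) := by group
      _ = x * (x * (f : C)) * (f : C) := by rw [hcomm]
      _ = x * x * ((f : C) * (f : C)) := by group
  rw [h1, QuotientGroup.mk_mul]
  have h2 : ((f : C) ^ 2 : C) ∈ sqF C := Subgroup.subset_closure ⟨f, f.2, rfl⟩
  have h3 : (QuotientGroup.mk ((f : C) ^ 2) : C ⧸ sqF C) = 1 :=
    (QuotientGroup.eq_one_iff _).mpr h2
  rw [h3, mul_one]

/-- `(x y)² = x² y² κ(x, y)` with `κ(x, y) = x⁻¹ y x y⁻¹` central -/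
theorem bil_sq_mul (hC : IsPGroup 2 C) (hΦ : frattini C ≤ Subgroup.center C) (x y : C) :
    (x * y) ^ 2 = x ^ 2 * y ^ 2 * (x⁻¹ * y * x * y⁻¹) := by
  have hk : x⁻¹ * y * x * y⁻¹ ∈ Subgroup.center C := hΦ (bil_comm_mem hC x y)
  have hc : ∀ g : C, (x⁻¹ * y * x * y⁻¹) * g = g * (x⁻¹ * y * x * y⁻¹) := fun g =>
    (Subgroup.mem_center_iff.mp hk g).symm
  rw [pow_two, pow_two, pow_two]
  calc x * y * (x * y) = x * x * (x⁻¹ * y * x * y⁻¹) * (y * y) := by group
    _ = x * x * ((x⁻¹ * y * x * y⁻¹) * (y * y)) := by group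
    _ = x * x * ((y * y) * (x⁻¹ * y * x * y⁻¹)) := by rw [hc]
    _ = x * x * (y * y) * (x⁻¹ * y * x * y⁻¹) := by group

/-- `κ` is multiplicative in the first variable -/
theorem bil_kappa_mul (hC : IsPGroup 2 C) (hΦ : frattini C ≤ Subgroup.center C) (x y z : C) :
    (x * y)⁻¹ * z * (x * y) * z⁻¹ = (x⁻¹ * z * x * z⁻¹) * (y⁻¹ * z * y * z⁻¹) := by
  have hk : x⁻¹ * z * x * z⁻¹ ∈ Subgroup.center C := hΦ (bil_comm_mem hC x z)
  have hc : ∀ g : C, (x⁻¹ * z * x * z⁻¹) * g = g * (x⁻¹ * z * x * z⁻¹) := fun g =>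
    (Subgroup.mem_center_iff.mp hk g).symm
  calc (x * y)⁻¹ * z * (x * y) * z⁻¹ = y⁻¹ * ((x⁻¹ * z * x * z⁻¹) * (z * y * z⁻¹)) := by group
    _ = y⁻¹ * ((z * y * z⁻¹) * (x⁻¹ * z * x * z⁻¹)) := by rw [hc]
    _ = (y⁻¹ * z * y * z⁻¹) * (x⁻¹ * z * x * z⁻¹) := by group
    _ = (x⁻¹ * z * x * z⁻¹) * (y⁻¹ * z * y * z⁻¹) := by rw [hc]

/-- the image of a fourth power `(x²)²` in `C ⧸ sqF C` is trivial -/
theorem bil_mk_sq_sq (hC : IsPGroup 2 C) (x : C) :
    (QuotientGroup.mk (x ^ 2) : C ⧸ sqF C) * QuotientGroup.mk (x ^ 2) = 1 := by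
  rw [← QuotientGroup.mk_mul, ← pow_two]
  exact (QuotientGroup.eq_one_iff _).mpr (Subgroup.subset_closure ⟨x ^ 2, bil_sq_mem hC x, rfl⟩)

/-- images of central elements are central in the quotient -/
theorem bil_mk_comm (hΦ : frattini C ≤ Subgroup.center C) {a : C} (ha : a ∈ frattini C) (g : C ⧸ sqF C) :
    (QuotientGroup.mk a : C ⧸ sqF C) * g = g * QuotientGroup.mk a := by
  induction g using QuotientGroup.induction_on with
  | H b =>
    rw [← QuotientGroup.mk_mul, ← QuotientGroup.mk_mul]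
    congr 1
    exact (Subgroup.mem_center_iff.mp (hΦ ha) b).symm

/-- the polar form of the squaring map is `κ` -/
theorem bil_bet (hC : IsPGroup 2 C) (hΦ : frattini C ≤ Subgroup.center C) (x y : C) :
    ((bet (qU C) (QuotientGroup.mk x) (QuotientGroup.mk y) : ↥(UU C)) : C ⧸ sqF C) =
      QuotientGroup.mk (x⁻¹ * y * x * y⁻¹) := by
  unfold bet
  rw [Subgroup.coe_mul, Subgroup.coe_mul, qU_coe, qU_coe, qU_coe, ← QuotientGroup.mk_mul,
    bil_qq_mk hC hΦ, bil_qq_mk hC hΦ, bil_qq_mk hC hΦ, bil_sq_mul hC hΦ, QuotientGroup.mk_mul,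
    QuotientGroup.mk_mul]
  have hx := bil_mk_sq_sq hC x
  have hy := bil_mk_sq_sq hC y
  have cx := bil_mk_comm hΦ (bil_sq_mem hC x)
  have cy := bil_mk_comm hΦ (bil_sq_mem hC y)
  have ck := bil_mk_comm hΦ (bil_comm_mem hC x y)
  set X : C ⧸ sqF C := QuotientGroup.mk (x ^ 2) with hX
  set Y : C ⧸ sqF C := QuotientGroup.mk (y ^ 2) with hY
  set K : C ⧸ sqF C := QuotientGroup.mk (x⁻¹ * y * x * y⁻¹) with hK
  calc X * Y * K * X * Y = X * Y * (K * X) * Y := by group
    _ = X * Y * (X * K) * Y := by rw [ck X]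
    _ = X * (Y * X) * K * Y := by group
    _ = X * (X * Y) * K * Y := by rw [cy X]
    _ = (X * X) * Y * (K * Y) := by group
    _ = (X * X) * Y * (Y * K) := by rw [ck Y]
    _ = (X * X) * (Y * Y) * K := by group
    _ = K := by rw [hx, hy, one_mul, one_mul]

/-- **A3-BIL.** The squaring map is a quadratic map. -/
theorem qU_isQuadMap (hC : IsPGroup 2 C) (hΦ : frattini C ≤ Subgroup.center C) :
    IsQuadMap (qU C) := by
  intro a b c
  induction a using QuotientGroup.induction_on with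
  | H x =>
    induction b using QuotientGroup.induction_on with
    | H y =>
      induction c using QuotientGroup.induction_on with
      | H z =>
        apply Subtype.ext
        rw [Subgroup.coe_mul, ← QuotientGroup.mk_mul, bil_bet hC hΦ, bil_bet hC hΦ, bil_bet hC hΦ,
          ← QuotientGroup.mk_mul, bil_kappa_mul hC hΦ]

end Glue

end Cfsg.Agent.Helper20.A3
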