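import Mathlib
import Cfsg.Agent.Lib.Helper20.A3Defs

set_option autoImplicit false
set_option linter.unusedSectionVars false
set_option linter.unusedVariables false

/-!
S3117 piece CARDW (helper12, for helper20).
-/

namespace Cfsg.Agent.Helper20.A3

section Abs

variable {W U : Type*} [Group W] [Group U] [Finite W] [Finite U]

/-- **A3-CARDW.** A finite group of exponent `2` and order at most `16` has order
`1, 2, 4, 8` or `16`. -/
theorem card_W_cases (hW : ∀ w : W, w * w = 1) (hle : Nat.card W ≤ 16) :
    Nat.card W ≤ 4 ∨ Nat.card W = 8 ∨ Nat.card W = 16 := by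
  have hp : IsPGroup 2 W := by
    intro g
    refine ⟨1, ?_⟩
    rw [pow_one, pow_two]
    exact hW g
  obtain ⟨n, hn⟩ := IsPGroup.iff_card.mp hp
  rw [hn] at hle ⊢
  have hn4 : n ≤ 4 := by
    by_contra hcon
    have h5 : 5 ≤ n := by omega
    have : 2 ^ 5 ≤ 2 ^ n := Nat.pow_le_pow_right (by norm_num) h5
    omega
  interval_cases n <;> simp

end Abs

end Cfsg.Agent.Helper20.A3
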