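import Mathlib
import Cfsg.Agent.Lib.Helper26.S4150CENT

/-!
# S4150, piece NLX: an element of `K` fixing the two fixed points of the `11`-cycle `g` and normalising `⟨g⟩` lies in `⟨g⟩`
(helper12)
-/

set_option autoImplicit false
set_option linter.style.haveILetI false
set_option linter.unusedVariables false

open Equiv Equiv.Perm MulAction Subgroup

namespace Cfsg.Agent.Helper2.AG

namespace NLX

/-- iterated conjugation -/
theorem conj_pow_pow {G : Type*} [Group G] (ν g : G) (j : ℕ) (h : ν * g * ν⁻¹ = g ^ j) (k : ℕ) :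
    ν ^ k * g * (ν ^ k)⁻¹ = g ^ (j ^ k) := by
  induction k with
  | zero => simp
  | succ k ih =>
    have e : ν ^ (k + 1) * g * (ν ^ (k + 1))⁻¹ = ν * (ν ^ k * g * (ν ^ k)⁻¹) * ν⁻¹ := by
      rw [pow_succ']; group
    rw [e, ih]
    have e2 : ν * g ^ (j ^ k) * ν⁻¹ = (ν * g * ν⁻¹) ^ (j ^ k) := by
      rw [_root_.conj_pow]
    rw [e2, h, ← pow_mul, pow_succ']

instance fact11 : Fact (Nat.Prime 11) := ⟨by norm_num⟩

/-- an element whose order is prime to `5` and which normalises a group `⟨g⟩` of order `11` centralises or inverts `g` -/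
theorem conj_cases {G : Type*} [Group G] (ν g : G) (h11 : orderOf g = 11) (hfin : 0 < orderOf ν)
    (h5 : ¬ 5 ∣ orderOf ν) (hν : ν * g * ν⁻¹ ∈ zpowers g) :
    ν * g * ν⁻¹ = g ∨ ν * g * ν⁻¹ = g⁻¹ := by
  have hg11 : g ^ 11 = 1 := by rw [← h11]; exact pow_orderOf_eq_one g
  have hfo : IsOfFinOrder g := by
    rw [← orderOf_pos_iff, h11]; norm_num
  obtain ⟨j, hj⟩ := (hfo.mem_powers_iff_mem_zpowers.mpr hν)
  simp only at hj
  have hk := conj_pow_pow ν g j hj.symm (orderOf ν)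
  rw [pow_orderOf_eq_one, inv_one, one_mul, mul_one] at hk
  -- `j ^ orderOf ν ≡ 1 [MOD 11]`
  have hmod : j ^ orderOf ν ≡ 1 [MOD 11] := by
    have : g ^ (j ^ orderOf ν) = g ^ 1 := by rw [← hk, pow_one]
    rw [pow_eq_pow_iff_modEq, h11] at this
    exact this
  have hx : ((j : ZMod 11)) ^ orderOf ν = 1 := by
    have := (ZMod.natCast_eq_natCast_iff _ _ 11).mpr hmod
    push_cast at this
    exact this
  have hx0 : (j : ZMod 11) ≠ 0 := by
    intro h0
    rw [h0, zero_pow hfin.ne'] at hx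
    exact zero_ne_one hx
  have hx10 : ((j : ZMod 11)) ^ 10 = 1 := ZMod.pow_card_sub_one_eq_one hx0
  have hgcd : ((j : ZMod 11)) ^ Nat.gcd (orderOf ν) 10 = 1 := pow_gcd_eq_one.mpr ⟨hx, hx10⟩
  have hd : Nat.gcd (orderOf ν) 10 ∣ 2 := by
    have h1 : Nat.gcd (orderOf ν) 10 ∣ 10 := Nat.gcd_dvd_right _ _
    have h2 : ¬ 5 ∣ Nat.gcd (orderOf ν) 10 := fun h => h5 (h.trans (Nat.gcd_dvd_left _ _))
    have hle : Nat.gcd (orderOf ν) 10 ≤ 10 := Nat.le_of_dvd (by norm_num) h1
    obtain ⟨d, hd⟩ : ∃ d, d = Nat.gcd (orderOf ν) 10 := ⟨_, rfl⟩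
    rw [← hd] at h1 h2 hle ⊢
    interval_cases d <;> omega
  have hsq : ((j : ZMod 11)) ^ 2 = 1 := by
    obtain ⟨c, hc⟩ := hd
    rw [hc, pow_mul, hgcd, one_pow]
  have hpm : (j : ZMod 11) = 1 ∨ (j : ZMod 11) = -1 := by
    have : ((j : ZMod 11) - 1) * ((j : ZMod 11) + 1) = 0 := by ring_nf; rw [hsq]; ring
    rcases mul_eq_zero.mp this with h | h
    · left; exact sub_eq_zero.mp h
    · right; exact eq_neg_of_add_eq_zero_left h
  rcases hpm with h | h
  · left
    have h1 : j ≡ 1 [MOD 11] := by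
      rw [← ZMod.natCast_eq_natCast_iff]; push_cast; exact h
    have : g ^ j = g ^ 1 := by rw [pow_eq_pow_iff_modEq, h11]; exact h1
    rw [← hj, this, pow_one]
  · right
    have h1 : j ≡ 10 [MOD 11] := by
      rw [← ZMod.natCast_eq_natCast_iff]; rw [h]; decide
    have : g ^ j = g ^ 10 := by rw [pow_eq_pow_iff_modEq, h11]; exact h1
    rw [← hj, this]
    rw [eq_inv_iff_mul_eq_one, ← pow_succ]
    exact hg11

end NLX

section T13

variable {β : Type*} [Fintype β] [DecidableEq β]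

/-- NLX -/
theorem normalizer_fix_le (hβ : Fintype.card β = 13) (K : Subgroup (Perm β))
    (hKalt : K ≤ alternatingGroup β) (h5 : ¬ 5 ∣ Nat.card K) {g : Perm β} (hgc : g.IsCycle)
    (hg11 : g.support.card = 11) (hg : g ∈ K) {a b : β} (hab : a ≠ b)
    (ha : g a = a) (hb : g b = b) {n : Perm β} (hn : n ∈ K)
    (hnX : n * g * n⁻¹ ∈ zpowers g) (hna : n a = b) (hnb : n b = a) :
    ∀ ν ∈ K, ν a = a → ν b = b → ν * g * ν⁻¹ ∈ zpowers g → ν ∈ zpowers g := by
  have h11 : orderOf g = 11 := by rw [hgc.orderOf, hg11]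
  have hcard : g.support.card + 2 = Fintype.card β := by rw [hg11, hβ]
  have hodd : Odd g.support.card := by rw [hg11]; decide
  -- elements of `K` have order prime to `5`
  have hK5 : ∀ k ∈ K, 0 < orderOf k ∧ ¬ 5 ∣ orderOf k := by
    intro k hk
    refine ⟨orderOf_pos k, fun h => h5 (h.trans ?_)⟩
    have := orderOf_dvd_natCard (⟨k, hk⟩ : K)
    rwa [Subgroup.orderOf_mk] at this
  have heven : ∀ k ∈ K, Perm.sign k = 1 := fun k hk => Equiv.Perm.mem_alternatingGroup.mp (hKalt hk)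
  -- elements of `⟨g⟩` fix `a`
  have hfix : ∀ x ∈ zpowers g, x a = a := by
    intro x hx
    obtain ⟨i, rfl⟩ := Subgroup.mem_zpowers_iff.mp hx
    exact Equiv.Perm.zpow_apply_eq_self_of_apply_eq_self ha i
  -- a commuting even element lies in `⟨g⟩`
  have hcent : ∀ k ∈ K, k * g * k⁻¹ = g → k ∈ zpowers g := by
    intro k hk e
    apply mem_zpowers_of_commute_of_even hgc hcard hodd _ (heven k hk)
    show k * g = g * k
    calc k * g = (k * g * k⁻¹) * k := by group
      _ = g * k := by rw [e]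
  -- `n` inverts `g`
  have hninv : n * g * n⁻¹ = g⁻¹ := by
    rcases NLX.conj_cases n g h11 (hK5 n hn).1 (hK5 n hn).2 hnX with e | e
    · exfalso
      have := hfix n (hcent n hn e)
      rw [hna] at this
      exact hab this.symm
    · exact e
  intro ν hν hνa hνb hνX
  rcases NLX.conj_cases ν g h11 (hK5 ν hν).1 (hK5 ν hν).2 hνX with e | e
  · exact hcent ν hν e
  · exfalso
    have e2 : (ν * n) * g * (ν * n)⁻¹ = g := by
      calc (ν * n) * g * (ν * n)⁻¹ = ν * (n * g * n⁻¹) * ν⁻¹ := by group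
        _ = ν * g⁻¹ * ν⁻¹ := by rw [hninv]
        _ = (ν * g * ν⁻¹)⁻¹ := by group
        _ = g := by rw [e, inv_inv]
    have := hfix (ν * n) (hcent (ν * n) (K.mul_mem hν hn) e2)
    rw [Perm.mul_apply, hna, hνb] at this
    exact hab this.symm

end T13

end Cfsg.Agent.Helper2.AG
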