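import Mathlib
import Cfsg.Agent.Lib.Helper26.S4150SHARP2

/-!
# S4150, piece SHARP3: a sharply `3`-transitive group has degree one more than a prime power (helper12)

The stabiliser of a point acts sharply `2`-transitively on the remaining points; apply SHARP2.
-/

set_option autoImplicit false
set_option linter.style.haveILetI false
set_option linter.unusedVariables false

open Equiv Equiv.Perm MulAction Subgroup

namespace Cfsg.Agent.Helper2.AG

section general

variable {β : Type*} [Fintype β] [DecidableEq β]

/-- SHARP3 -/
theorem isPrimePow_card_of_sharp3 (G : Subgroup (Perm β)) [IsMultiplyPretransitive G β 3]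
    (h3 : 3 ≤ Fintype.card β)
    (hcard : Nat.card G = Fintype.card β * (Fintype.card β - 1) * (Fintype.card β - 2)) :
    IsPrimePow (Fintype.card β - 1) := by
  classical
  have hn : Nat.card β = Fintype.card β := Nat.card_eq_fintype_card
  haveI hT : IsPretransitive G β := by
    rw [← is_one_pretransitive_iff]
    exact isMultiplyPretransitive_of_le (n := 3) (by norm_num) (by rw [hn]; exact h3)
  obtain ⟨a⟩ : Nonempty β := by
    rw [← Fintype.card_pos_iff]; omega
  -- the stabiliser and its action on the complement
  let S := stabilizer G a
  let β' := SubMulAction.ofStabilizer G a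
  haveI : Fintype β' := Fintype.ofFinite _
  have h2t : IsMultiplyPretransitive S β' 2 :=
    (SubMulAction.ofStabilizer.isMultiplyPretransitive (n := 2)).mp inferInstance
  have hβ' : Fintype.card β' = Fintype.card β - 1 := by
    rw [← Nat.card_eq_fintype_card, SubMulAction.nat_card_ofStabilizer_eq G a, hn]
  -- the permutation group induced on the complement
  let ρ : S →* Perm β' := MulAction.toPermHom S β'
  have hρinj : Function.Injective ρ := by
    rw [← MonoidHom.ker_eq_bot_iff, eq_bot_iff]
    intro s hs
    rw [MonoidHom.mem_ker] at hs
    rw [Subgroup.mem_bot]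
    apply Subtype.ext
    apply Subtype.ext
    ext x
    show ((s : G) : Perm β) x = x
    by_cases hx : x = a
    · rw [hx]
      exact s.2
    · have := congrArg (fun σ : Perm β' => ((σ ⟨x, hx⟩ : β') : β)) hs
      exact this
  let G' : Subgroup (Perm β') := ρ.range
  let σ : S → G' := fun s => ⟨ρ s, ⟨s, rfl⟩⟩
  let f : β' →ₑ[σ] β' :=
    { toFun := id
      map_smul' := fun s x => rfl }
  haveI : IsMultiplyPretransitive G' β' 2 :=
    IsPretransitive.of_embedding (f := f) Function.surjective_id
  have hcardS : Nat.card S * Fintype.card β = Nat.card G := by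
    have h1 := Subgroup.card_mul_index S
    rw [index_stabilizer_of_transitive G a, hn] at h1
    exact h1
  have hcardG' : Nat.card G' = Nat.card S :=
    (Nat.card_congr (MonoidHom.ofInjective hρinj).toEquiv).symm
  have hcard' : Nat.card G' = Fintype.card β' * (Fintype.card β' - 1) := by
    rw [hcardG', hβ']
    have hpos : 0 < Fintype.card β := by omega
    apply Nat.eq_of_mul_eq_mul_right hpos
    rw [hcardS, hcard]
    have : Fintype.card β - 1 - 1 = Fintype.card β - 2 := by omega
    rw [this]
    ring
  have := isPrimePow_card_of_sharp2 G' (by rw [hβ']; omega) hcard'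
  rwa [hβ'] at this

end general

end Cfsg.Agent.Helper2.AG
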