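import Mathlib

/-!
# Weight spaces of an elementary abelian subgroup `x : (ι → F) → G`

For a family `x a` (`a : ι → F`) of group elements with `x (a + b) = x a * x b`, a representation
`R : G →* End_L V` and a nontrivial additive character `ψ : F → L`, the weight spaces
`wt b = {v | ∀ a, R (x a) v = ψ (a ⬝ b) v}` are independent and (if `|F| ≠ 0` in `L`) span `V`.
-/

set_option autoImplicit false

open Module

namespace Cfsg.Agent.Helper12
namespace AbelWt

variable {F : Type*} [Field F] {ι : Type*} [Fintype ι] [DecidableEq ι]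
variable {L : Type*} [Field L] {V : Type*} [AddCommGroup V] [Module L V]
variable {G : Type*} [Group G]

/-- The weight space for the character `a ↦ ψ (a ⬝ b)`. -/
def wt (x : (ι → F) → G) (R : G →* Module.End L V) (ψ : AddChar F L) (b : ι → F) :
    Submodule L V :=
  ⨅ a : ι → F, Module.End.eigenspace (R (x a)) (ψ (a ⬝ᵥ b))

omit [DecidableEq ι] in
theorem mem_wt_iff {x : (ι → F) → G} {R : G →* Module.End L V} {ψ : AddChar F L}
    {b : ι → F} {v : V} :
    v ∈ wt x R ψ b ↔ ∀ a : ι → F, R (x a) v = ψ (a ⬝ᵥ b) • v := by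
  unfold wt
  rw [Submodule.mem_iInf]
  simp only [Module.End.mem_eigenspace_iff]

theorem psi_ne_zero' (ψ : AddChar F L) (a : F) : ψ a ≠ 0 := by
  intro h
  have h1 : ψ a * ψ (-a) = 1 := by
    rw [← AddChar.map_add_eq_mul, add_neg_cancel, AddChar.map_zero_eq_one]
  rw [h, zero_mul] at h1
  exact zero_ne_one h1

theorem exists_dot_eq {c : ι → F} (hc : c ≠ 0) (t : F) : ∃ a : ι → F, a ⬝ᵥ c = t := by
  obtain ⟨i, hi⟩ : ∃ i, c i ≠ 0 := by
    by_contra h
    push Not at h
    exact hc (funext h)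
  refine ⟨Pi.single i (t / c i), ?_⟩
  rw [single_dotProduct, div_mul_cancel₀ _ hi]

theorem psi_dot_injective' (ψ : AddChar F L) (hψ : ∃ t, ψ t ≠ 1) :
    Function.Injective (fun b : ι → F => fun a : ι → F => ψ (a ⬝ᵥ b)) := by
  intro b b' h
  by_contra hne
  have hc : b - b' ≠ 0 := sub_ne_zero.mpr hne
  obtain ⟨t, ht⟩ := hψ
  obtain ⟨a, ha⟩ := exists_dot_eq hc t
  have h1 := congrFun h a
  simp only at h1
  have h2 : a ⬝ᵥ b = a ⬝ᵥ b' + t := by
    rw [← ha, dotProduct_sub]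
    ring
  rw [h2, AddChar.map_add_eq_mul] at h1
  have h3 := psi_ne_zero' ψ (a ⬝ᵥ b')
  apply ht
  have h4 : ψ (a ⬝ᵥ b') * ψ t = ψ (a ⬝ᵥ b') * 1 := by rw [h1, mul_one]
  exact mul_left_cancel₀ h3 h4

theorem iSupIndep_wt (x : (ι → F) → G) (hxadd : ∀ a b, x (a + b) = x a * x b)
    (R : G →* Module.End L V) (ψ : AddChar F L) (hψ : ∃ t, ψ t ≠ 1) :
    iSupIndep (fun b : ι → F => wt x R ψ b) := by
  have hcomm : ∀ a a' : ι → F, Commute (R (x a)) (R (x a')) := fun a a' => by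
    have : Commute (x a) (x a') := by
      show x a * x a' = x a' * x a
      rw [← hxadd, ← hxadd, add_comm]
    exact this.map R
  have h := Module.End.independent_iInf_maxGenEigenspace_of_forall_mapsTo
    (fun a : ι → F => R (x a))
    (fun i j μ => Module.End.mapsTo_maxGenEigenspace_of_comm (hcomm j i) μ)
  have h2 := h.comp (psi_dot_injective' (ι := ι) ψ hψ)
  refine h2.mono ?_
  intro b
  show wt x R ψ b ≤ ⨅ a : ι → F, (R (x a)).maxGenEigenspace (ψ (a ⬝ᵥ b))
  unfold wt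
  exact iInf_mono fun a => Module.End.eigenspace_le_maxGenEigenspace

/-- The number of weights occurring is at most the dimension. -/
theorem card_le_finrank [FiniteDimensional L V] (x : (ι → F) → G)
    (hxadd : ∀ a b, x (a + b) = x a * x b)
    (R : G →* Module.End L V) (ψ : AddChar F L) (hψ : ∃ t, ψ t ≠ 1)
    (T : Finset (ι → F)) (hT : ∀ b ∈ T, wt x R ψ b ≠ ⊥) : T.card ≤ finrank L V := by
  classical
  have hind := iSupIndep_wt x hxadd R ψ hψ
  have h2 : iSupIndep (fun b : T => wt x R ψ b.1) := hind.comp Subtype.val_injective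
  letI : Fintype {b : T // wt x R ψ b.1 ≠ ⊥} := Fintype.ofFinite _
  have h3 := h2.subtype_ne_bot_le_finrank
  have h4 : Fintype.card T ≤ Fintype.card {b : T // wt x R ψ b.1 ≠ ⊥} :=
    Fintype.card_le_of_injective (fun b => ⟨b, hT b.1 b.2⟩) (fun a b hab => by
      exact congrArg (fun z : {b : T // wt x R ψ b.1 ≠ ⊥} => z.1) hab)
  rw [Fintype.card_coe] at h4
  omega

variable [Fintype F]

/-- Orthogonality: a nontrivial character sums to zero. -/
theorem sum_psi_dot_eq_zero' (ψ : AddChar F L) (hψ : ∃ t, ψ t ≠ 1)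
    {a : ι → F} (ha : a ≠ 0) : ∑ b : ι → F, ψ (a ⬝ᵥ b) = 0 := by
  obtain ⟨t, ht⟩ := hψ
  obtain ⟨b₁, hb₁⟩ := exists_dot_eq ha t
  rw [dotProduct_comm] at hb₁
  have h1 : ∑ b : ι → F, ψ (a ⬝ᵥ b) = ψ t * ∑ b : ι → F, ψ (a ⬝ᵥ b) := by
    rw [Finset.mul_sum, ← Equiv.sum_comp (Equiv.addLeft b₁)]
    refine Finset.sum_congr rfl fun b _ => ?_
    rw [Equiv.coe_addLeft, dotProduct_add, hb₁, AddChar.map_add_eq_mul]
  have h2 : (1 - ψ t) * ∑ b : ι → F, ψ (a ⬝ᵥ b) = 0 := by
    rw [sub_mul, one_mul, ← h1, sub_self]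
  rcases mul_eq_zero.mp h2 with h | h
  · exact absurd (sub_eq_zero.mp h).symm ht
  · exact h

/-- The unnormalized projection onto a weight space. -/
noncomputable def proj (x : (ι → F) → G) (R : G →* Module.End L V) (ψ : AddChar F L)
    (b : ι → F) : Module.End L V :=
  ∑ a : ι → F, ψ (-(a ⬝ᵥ b)) • R (x a)

theorem proj_mem (x : (ι → F) → G) (hxadd : ∀ a b, x (a + b) = x a * x b)
    (R : G →* Module.End L V) (ψ : AddChar F L) (b : ι → F) (v : V) :
    proj x R ψ b v ∈ wt x R ψ b := by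
  rw [mem_wt_iff]
  intro a'
  unfold proj
  rw [LinearMap.sum_apply, map_sum, Finset.smul_sum,
    ← Equiv.sum_comp (Equiv.addLeft a')
      (fun a => ψ (a' ⬝ᵥ b) • ((ψ (-(a ⬝ᵥ b)) • R (x a)) v))]
  refine Finset.sum_congr rfl fun a _ => ?_
  rw [LinearMap.smul_apply, LinearMap.smul_apply, map_smul, Equiv.coe_addLeft, hxadd, map_mul,
    Module.End.mul_apply, smul_smul]
  congr 1
  rw [← AddChar.map_add_eq_mul]
  congr 1
  rw [add_dotProduct]
  ring

theorem sum_proj (x : (ι → F) → G) (hx0 : x 0 = 1) (R : G →* Module.End L V) (ψ : AddChar F L)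
    (hψ : ∃ t, ψ t ≠ 1) :
    ∑ b : ι → F, proj x R ψ b = (Fintype.card (ι → F) : L) • (1 : Module.End L V) := by
  unfold proj
  rw [Finset.sum_comm]
  simp_rw [← Finset.sum_smul]
  rw [Finset.sum_eq_single (0 : ι → F)]
  · simp [hx0]
  · intro a _ ha
    have h0 : ∑ b : ι → F, ψ (-(a ⬝ᵥ b)) = 0 := by
      have := sum_psi_dot_eq_zero' ψ hψ (neg_ne_zero.mpr ha)
      simpa [neg_dotProduct] using this
    rw [h0, zero_smul]
  · intro h
    exact absurd (Finset.mem_univ _) h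

/-- If every occurring weight is orthogonal to `a₀` then `x a₀` acts trivially. -/
theorem map_eq_one_of_forall (x : (ι → F) → G) (hx0 : x 0 = 1)
    (hxadd : ∀ a b, x (a + b) = x a * x b)
    (R : G →* Module.End L V) (ψ : AddChar F L) (hψ : ∃ t, ψ t ≠ 1)
    (hq : (Fintype.card F : L) ≠ 0) (a₀ : ι → F)
    (h : ∀ b, wt x R ψ b ≠ ⊥ → a₀ ⬝ᵥ b = 0) : R (x a₀) = 1 := by
  have hcard : (Fintype.card (ι → F) : L) ≠ 0 := by
    rw [Fintype.card_fun]
    push_cast
    exact pow_ne_zero _ hq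
  have hfix : ∀ b v, R (x a₀) (proj x R ψ b v) = proj x R ψ b v := by
    intro b v
    have hm := proj_mem x hxadd R ψ b v
    by_cases hb : wt x R ψ b = ⊥
    · rw [hb, Submodule.mem_bot] at hm
      rw [hm, map_zero]
    · rw [mem_wt_iff.mp hm a₀, h b hb, AddChar.map_zero_eq_one, one_smul]
  ext v
  have hsum := sum_proj x hx0 R ψ hψ
  have h1 : (Fintype.card (ι → F) : L) • v = ∑ b : ι → F, proj x R ψ b v := by
    have := congrArg (fun f : Module.End L V => f v) hsum
    simp only [LinearMap.sum_apply, LinearMap.smul_apply] at this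
    rw [this]
    rfl
  have h2 : R (x a₀) ((Fintype.card (ι → F) : L) • v) = (Fintype.card (ι → F) : L) • v := by
    rw [h1, map_sum]
    exact Finset.sum_congr rfl fun b _ => hfix b v
  rw [map_smul] at h2
  have h3 := smul_right_injective V hcard h2
  rw [h3]
  rfl

omit [Fintype F] [DecidableEq ι] in
/-- Transport of weights by a normalizing element. -/
theorem wt_ne_bot_of_conj (x : (ι → F) → G) (R : G →* Module.End L V) (ψ : AddChar F L)
    (h : G) (σ : (ι → F) → (ι → F)) (hσ : ∀ a, h * x a = x (σ a) * h)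
    (b c : ι → F) (hbc : ∀ a, σ a ⬝ᵥ b = a ⬝ᵥ c) (hb : wt x R ψ b ≠ ⊥) :
    wt x R ψ c ≠ ⊥ := by
  obtain ⟨v, hv, hv0⟩ := Submodule.exists_mem_ne_zero_of_ne_bot hb
  rw [mem_wt_iff] at hv
  have hmem : R h⁻¹ v ∈ wt x R ψ c := by
    rw [mem_wt_iff]
    intro a
    have h1 : x a * h⁻¹ = h⁻¹ * x (σ a) := by
      rw [eq_inv_mul_iff_mul_eq, ← mul_assoc, hσ a, mul_assoc, mul_inv_cancel, mul_one]
    calc R (x a) (R h⁻¹ v) = R (x a * h⁻¹) v := by rw [map_mul]; rfl
      _ = R (h⁻¹ * x (σ a)) v := by rw [h1]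
      _ = R h⁻¹ (R (x (σ a)) v) := by rw [map_mul]; rfl
      _ = ψ (a ⬝ᵥ c) • R h⁻¹ v := by rw [hv (σ a), map_smul, hbc a]
  intro hbot
  rw [hbot, Submodule.mem_bot] at hmem
  apply hv0
  have h3 : R h (R h⁻¹ v) = v := by
    rw [← Module.End.mul_apply, ← map_mul, mul_inv_cancel, map_one]
    rfl
  rw [hmem, map_zero] at h3
  exact h3.symm

end AbelWt
end Cfsg.Agent.Helper12
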