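import Mathlib

/-!
# The unit group of a finite-dimensional algebra of dimension `≤ n` embeds in `GL_n`
-/

set_option autoImplicit false

namespace Cfsg.Agent.Helper12

open Module

section

variable {F : Type*} [Field F] (A : Type*) [Ring A] [Algebra F A] [Module.Finite F A]

/-- `f ↦ f × id` as a monoid homomorphism of endomorphism rings. -/
def prodIdHom (F : Type*) [Field F] (M W : Type*) [AddCommGroup M] [Module F M] [AddCommGroup W]
    [Module F W] : Module.End F M →* Module.End F (M × W) where
  toFun f := f.prodMap (1 : Module.End F W)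
  map_one' := LinearMap.prodMap_one
  map_mul' f g := by
    rw [LinearMap.prodMap_mul, mul_one]

theorem prodIdHom_injective (F : Type*) [Field F] (M W : Type*) [AddCommGroup M] [Module F M]
    [AddCommGroup W] [Module F W] : Function.Injective (prodIdHom F M W) := by
  intro f g h
  ext v
  have h1 := congrArg (fun T : Module.End F (M × W) => (T (v, 0)).1) h
  exact h1

/-- An injective multiplicative map from a finite-dimensional algebra into `n × n` matrices,
when `dim A ≤ n`. -/
theorem exists_monoidHom_matrix {n : ℕ} (h : finrank F A ≤ n) :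
    ∃ Ψ : A →* Matrix (Fin n) (Fin n) F, Function.Injective Ψ := by
  classical
  have hfr : finrank F (A × (Fin (n - finrank F A) → F)) = finrank F (Fin n → F) := by
    rw [Module.finrank_prod, Module.finrank_fin_fun, Module.finrank_fin_fun]
    omega
  obtain ⟨e⟩ : Nonempty ((A × (Fin (n - finrank F A) → F)) ≃ₗ[F] (Fin n → F)) :=
    ⟨LinearEquiv.ofFinrankEq _ _ hfr⟩
  let φ₁ : A →* Module.End F A := (Algebra.lmul F A : A →ₐ[F] Module.End F A)
  let φ₂ := prodIdHom F A (Fin (n - finrank F A) → F)
  let φ₃ : Module.End F (A × (Fin (n - finrank F A) → F)) →* Module.End F (Fin n → F) :=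
    (LinearEquiv.conjRingEquiv e : _ ≃+* _)
  let φ₄ : Module.End F (Fin n → F) →* Matrix (Fin n) (Fin n) F :=
    (LinearMap.toMatrixAlgEquiv' : _ ≃ₐ[F] Matrix (Fin n) (Fin n) F)
  refine ⟨φ₄.comp (φ₃.comp (φ₂.comp φ₁)), ?_⟩
  have h1 : Function.Injective φ₁ := Algebra.lmul_injective
  have h2 : Function.Injective φ₂ := prodIdHom_injective F A _
  have h3 : Function.Injective φ₃ := (LinearEquiv.conjRingEquiv e).injective
  have h4 : Function.Injective φ₄ :=
    (LinearMap.toMatrixAlgEquiv' : _ ≃ₐ[F] Matrix (Fin n) (Fin n) F).injective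
  exact h4.comp (h3.comp (h2.comp h1))

/-- The unit group of a finite-dimensional algebra of dimension at most `n` embeds in `GL_n`. -/
theorem exists_units_embedding {n : ℕ} (h : finrank F A ≤ n) :
    ∃ f : Aˣ →* GL (Fin n) F, Function.Injective f := by
  obtain ⟨Ψ, hΨ⟩ := exists_monoidHom_matrix A h
  exact ⟨Units.map Ψ, Units.map_injective hΨ⟩

end

end Cfsg.Agent.Helper12
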