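import Mathlib

set_option autoImplicit false

namespace Cfsg.Agent.Helper12

open Equiv Equiv.Perm

/-- Element orders of the alternating group of degree `n` in terms of cycle types. -/
theorem alt_order_iff (n k : ℕ) :
    k ∈ Set.range (orderOf : alternatingGroup (Fin n) → ℕ) ↔
      ∃ m : Multiset ℕ, (∀ a ∈ m, 2 ≤ a) ∧ m.sum ≤ n ∧ Even (m.sum + m.card) ∧ m.lcm = k := by
  constructor
  · rintro ⟨g, rfl⟩
    refine ⟨(g : Perm (Fin n)).cycleType, fun a ha => two_le_of_mem_cycleType ha, ?_, ?_, ?_⟩
    · rw [sum_cycleType]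
      calc (g : Perm (Fin n)).support.card ≤ Fintype.card (Fin n) := Finset.card_le_univ _
        _ = n := Fintype.card_fin n
    · have h1 : sign (g : Perm (Fin n)) = 1 := mem_alternatingGroup.mp g.2
      rw [sign_of_cycleType] at h1
      by_contra hodd
      rw [Nat.not_even_iff_odd] at hodd
      rw [hodd.neg_one_pow] at h1
      exact absurd h1 (by decide)
    · rw [lcm_cycleType, Subgroup.orderOf_coe]
  · rintro ⟨m, h2, hsum, heven, rfl⟩
    have hex : ∃ g : Perm (Fin n), g.cycleType = m := by
      rw [exists_with_cycleType_iff]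
      exact ⟨by simpa using hsum, h2⟩
    obtain ⟨g, hg⟩ := hex
    have hmem : g ∈ alternatingGroup (Fin n) := by
      rw [mem_alternatingGroup, sign_of_cycleType, hg, heven.neg_one_pow]
    refine ⟨⟨g, hmem⟩, ?_⟩
    rw [← Subgroup.orderOf_coe]
    simp only
    rw [← lcm_cycleType, hg]

/-- A prime dividing the lcm of a multiset of naturals divides one of its members. -/
theorem prime_dvd_multiset_lcm {p : ℕ} (hp : p.Prime) (m : Multiset ℕ) (h : p ∣ m.lcm) :
    ∃ a ∈ m, p ∣ a := by
  induction m using Multiset.induction with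
  | empty =>
    rw [Multiset.lcm_zero] at h
    exact absurd (Nat.dvd_one.mp h) hp.one_lt.ne'
  | cons a m ih =>
    rw [Multiset.lcm_cons] at h
    have h' : p ∣ a * m.lcm := dvd_trans h (lcm_dvd (dvd_mul_right _ _) (dvd_mul_left _ _))
    rcases (Nat.Prime.dvd_mul hp).mp h' with h1 | h1
    · exact ⟨a, Multiset.mem_cons_self a m, h1⟩
    · obtain ⟨b, hb, hpb⟩ := ih h1
      exact ⟨b, Multiset.mem_cons_of_mem hb, hpb⟩

/-- Two distinct members of a multiset of naturals have sum at most the total sum. -/
theorem add_le_multiset_sum {a b : ℕ} {m : Multiset ℕ} (ha : a ∈ m) (hb : b ∈ m) (hab : a ≠ b) :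
    a + b ≤ m.sum := by
  obtain ⟨m', rfl⟩ := Multiset.exists_cons_of_mem ha
  have hb' : b ∈ m' := by
    rcases Multiset.mem_cons.mp hb with h | h
    · exact absurd h.symm hab
    · exact h
  obtain ⟨m'', rfl⟩ := Multiset.exists_cons_of_mem hb'
  simp only [Multiset.sum_cons]
  omega

/-- If `sum + card` of a multiset of naturals is odd, some member is even. -/
theorem exists_even_of_odd_sum_add_card (m : Multiset ℕ) (h : ¬ Even (m.sum + m.card)) :
    ∃ c ∈ m, Even c := by
  induction m using Multiset.induction with
  | empty => exact absurd (by simp) h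
  | cons a m ih =>
    by_cases ha : Even a
    · exact ⟨a, Multiset.mem_cons_self a m, ha⟩
    · have h' : ¬ Even (m.sum + m.card) := by
        intro he
        apply h
        rw [Multiset.sum_cons, Multiset.card_cons]
        have hodd : Odd a := Nat.not_even_iff_odd.mp ha
        have : Even (a + 1) := hodd.add_one
        have h2 : a + m.sum + (m.card + 1) = (a + 1) + (m.sum + m.card) := by ring
        rw [h2]
        exact this.add he
      obtain ⟨c, hc, hce⟩ := ih h'
      exact ⟨c, Multiset.mem_cons_of_mem hc, hce⟩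

end Cfsg.Agent.Helper12
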