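import Mathlib
import Cfsg.Agent.Lib.Helper12.BG11D4
import Cfsg.Agent.Lib.Helper17.BG11W
import Cfsg.Agent.Lib.Helper18.BG13P4
import Cfsg.Agent.S1403
import Cfsg.Agent.S1414

/-!
# Bender–Glauberman Section 11, part D6   (helper12)

The weak form of **BG Theorem 11.4**: for an exceptional maximal subgroup `M` (`Exc M p A A0`)
and a maximal subgroup `H ≥ A` with `H_σ ∩ M_σ ≠ 1` we have `H = M`.

* `p ∉ σ(H)`: `A` acts coprimely on `H_σ`; `A`-invariant Sylow `q`-subgroups `Q₁ = O_q(M_σ)` of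
  `M_σ` and `Q₂` of `H_σ` over a common `A`-invariant `q`-subgroup are conjugate under
  `O_{p'}(C_G(A)) ≤ M = N_G(Q₁)` (S1392), so `Q₂ = Q₁` and `M = N_G(Q₂) ≤ H`.
* `p ∈ σ(H)`: `H` is not conjugate to `M`, `A ≤ H_σ`, and helper18's (F3) gives
  `M_σ ∩ H ≤ C(A)`, which is trivial by helper17's Lemma W.
-/

set_option autoImplicit false
set_option linter.unusedSectionVars false
set_option linter.style.haveILetI false

namespace Cfsg.Agent.Helper12.BG11

open Cfsg Subgroup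
open Cfsg.Agent.Helper17.BG11 (Exc sigmaHall sigmaCore_le le_normalizer_sigmaCore
  le_sigmaCore_of_isPGroup prime_mem_sigma_of_dvd_card sylow_mem_maxInv
  exists_sylow_eq_of_sylow_hall le_normalizer_of_conj_mem lemma_W)
open Cfsg.Agent.Helper15 (mem_map_conj_iff conj_mem_map_conj map_conj_mono card_map_conj
  map_conj_eq_of_mem_normalizer)

universe u

variable {G : Type u} [Group G] [Finite G] {M : Subgroup G} {p : ℕ} [Fact p.Prime]
  {A A0 : Subgroup G}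

/-- weak BG 11.4, the coprime case `p ∉ σ(H)` -/
theorem weak11_4_coprime (hG : IsMinSimpleOddOrder G) (hE : Exc M p A A0) {H : Subgroup G}
    (hH : IsCoatom H) (hAH : A ≤ H) (hpH : p ∉ sigma H)
    (hne : sigmaCore H ⊓ sigmaCore M ≠ ⊥) : H = M := by
  have hpp : p.Prime := Fact.out
  obtain ⟨D, hDdef⟩ : ∃ D : Subgroup G, D = sigmaCore H ⊓ sigmaCore M := ⟨_, rfl⟩
  rw [← hDdef] at hne
  have hDM : D ≤ sigmaCore M := hDdef ▸ inf_le_right
  have hDH : D ≤ sigmaCore H := hDdef ▸ inf_le_left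
  obtain ⟨hσM, hσMG⟩ := sigmaHall hG hE.hM
  obtain ⟨hσH, hσHG⟩ := sigmaHall hG hH
  have hcardD : Nat.card D ≠ 1 := fun h => hne (card_eq_one.mp h)
  obtain ⟨q, hqp, hqD⟩ := Nat.exists_prime_and_dvd hcardD
  haveI := Fact.mk hqp
  have hqM : q ∈ sigma M := prime_mem_sigma_of_dvd_card M hDM hqp hqD
  have hqH : q ∈ sigma H := prime_mem_sigma_of_dvd_card H hDH hqp hqD
  have hqne : q ≠ p := fun h => hE.hp (h ▸ hqM)
  have hqA : ¬ q ∣ Nat.card A := by
    rw [hE.hcard]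
    intro h
    exact hqne ((Nat.prime_dvd_prime_iff_eq hqp hpp).mp (hqp.dvd_of_dvd_pow h))
  have hsolvA := hE.isSolvable
  -- `A` normalizes `D`
  have hAσM : A ≤ normalizer (sigmaCore M : Set G) := hE.hAM.trans (le_normalizer_sigmaCore M)
  have hAσH : A ≤ normalizer (sigmaCore H : Set G) := hAH.trans (le_normalizer_sigmaCore H)
  have hAD : A ≤ normalizer (D : Set G) := by
    apply le_normalizer_of_conj_mem
    intro a ha x hx
    rw [hDdef] at hx ⊢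
    obtain ⟨hx1, hx2⟩ := Subgroup.mem_inf.mp hx
    exact Subgroup.mem_inf.mpr ⟨(mem_normalizer_iff.mp (hAσH ha) x).mp hx1,
      (mem_normalizer_iff.mp (hAσM ha) x).mp hx2⟩
  -- an `A`-invariant Sylow `q`-subgroup `Q0` of `D`
  obtain ⟨P0, hP0⟩ := Cfsg.Agent.Helper1.exists_invariant_sylow (p := q) (K := D) A hAD
    (hE.coprime_card hDM) (Or.inl hsolvA)
  obtain ⟨Q0, hQ0def⟩ : ∃ Q0 : Subgroup G, Q0 = (P0 : Subgroup D).map D.subtype := ⟨_, rfl⟩
  rw [← hQ0def] at hP0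
  have hQ0q : IsPGroup q Q0 := hQ0def ▸ P0.isPGroup'.map _
  have hQ0D : Q0 ≤ D := hQ0def ▸ map_subtype_le _
  have hQ01 : Q0 ≠ ⊥ := by
    intro h
    have h1 : Nat.card Q0 = 1 := by rw [h]; exact card_bot
    rw [hQ0def, card_map_of_injective D.subtype_injective, P0.card_eq_multiplicity] at h1
    have hk : 0 < (Nat.card D).factorization q :=
      hqp.factorization_pos_of_dvd Nat.card_pos.ne' hqD
    exact absurd h1 (Nat.one_lt_pow hk.ne' hqp.one_lt).ne'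
  -- `Q1 = O_q(M_σ)`
  have hKnil := Cfsg.Agent.Helper17.BG11.theorem_11_3 hG (h1410 hG) hE
  obtain ⟨Qs, hQs⟩ := exists_sylow_eq_of_sylow_hall (sigmaCore M) (hσMG.2 q hqp hqM)
    (Classical.arbitrary (Sylow q (sigmaCore M)))
  have hQdef : (Qs : Subgroup G) = Cfsg.Agent.Helper12.NHF.pPart (sigmaCore M) q := hQs
  have hMQ : M ≤ normalizer ((Qs : Subgroup G) : Set G) := by
    intro m hm
    apply Cfsg.Agent.Helper12.NHF.mem_normalizer_of_conj_mem
    intro x hx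
    rw [hQdef, Cfsg.Agent.Helper12.NHF.mem_pPart_iff hKnil] at hx ⊢
    refine ⟨(mem_normalizer_iff.mp (le_normalizer_sigmaCore M hm) x).mp hx.1, ?_⟩
    rw [Cfsg.Agent.Helper12.NHF.orderOf_conj']
    exact hx.2
  have hQ0Q1 : Q0 ≤ (Qs : Subgroup G) := by
    intro x hx
    rw [hQdef, Cfsg.Agent.Helper12.NHF.mem_pPart_iff hKnil]
    refine ⟨hDM (hQ0D hx), ?_⟩
    obtain ⟨k, hk⟩ := IsPGroup.iff_orderOf.mp hQ0q ⟨x, hx⟩
    refine ⟨k, ?_⟩
    rw [← hk, Subgroup.orderOf_mk]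
  have hAQ1 : A ≤ normalizer ((Qs : Subgroup G) : Set G) := hE.hAM.trans hMQ
  -- `Q2`: an `A`-invariant Sylow `q`-subgroup of `H_σ` over `Q0`
  have hcopH : (Nat.card A).Coprime (Nat.card (sigmaCore H)) := by
    rw [hE.hcard]
    apply Nat.Coprime.pow_left
    rw [Nat.Prime.coprime_iff_not_dvd hpp]
    intro h
    exact hpH (prime_mem_sigma_of_dvd_card H le_rfl hpp h)
  obtain ⟨P2, hP2, hAP2⟩ := Cfsg.Agent.S0025.result A (sigmaCore H) hAσH hcopH (Or.inl hsolvA) q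
    Q0 (hQ0D.trans hDH) hQ0q hP0
  obtain ⟨Q2, hQ2⟩ := exists_sylow_eq_of_sylow_hall (sigmaCore H) (hσHG.2 q hqp hqH) P2
  have hQ2H : (Q2 : Subgroup G) ≤ H := by
    rw [hQ2]; exact (map_subtype_le _).trans (sigmaCore_le H)
  have hAQ2 : A ≤ normalizer ((Q2 : Subgroup G) : Set G) := hQ2 ▸ hAP2
  have hQ0Q2 : Q0 ≤ (Q2 : Subgroup G) := hQ2 ▸ hP2
  -- transitivity
  have hQ0M : Q0 ≤ M := (hQ0D.trans hDM).trans (sigmaCore_le M)
  have hM1 : M ⊓ (Qs : Subgroup G) ≠ ⊥ := by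
    intro h
    apply hQ01
    rw [eq_bot_iff, ← h]
    exact le_inf hQ0M hQ0Q1
  have hM2 : M ⊓ (Q2 : Subgroup G) ≠ ⊥ := by
    intro h
    apply hQ01
    rw [eq_bot_iff, ← h]
    exact le_inf hQ0M hQ0Q2
  obtain ⟨k, hk, hQ⟩ := Cfsg.Agent.S1392.result hG A (hE.transHyp hG (h1410 hG)) q hqp hqA
    (Qs : Subgroup G) (Q2 : Subgroup G) (sylow_mem_maxInv A Qs hAQ1) (sylow_mem_maxInv A Q2 hAQ2)
    M hE.hM.1 hE.hAM hM1 hM2
  have hkC : k ∈ centralizer (A : Set G) := Cfsg.Agent.Helper14.BGTrans.piCoreOf_le _ _ hk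
  have hkM : k ∈ M := hE.cent_le hkC
  have hQ21 : (Q2 : Subgroup G) = (Qs : Subgroup G) := by
    rw [hQ, map_conj_eq_of_mem_normalizer (hMQ hkM)]
  -- `N_G(Q2) ≤ H`
  obtain ⟨S0, hS0, hN0⟩ := Cfsg.Agent.Helper24.BG101.exists_sylow_of_mem_sigma hqH
  have hN2 := Cfsg.Agent.Helper24.BG101.normalizer_sylow_le S0 hS0 hN0 Q2 hQ2H
  have hMH : M ≤ H := by
    rw [hQ21] at hN2
    exact hMQ.trans hN2
  exact (hE.hM.le_iff_eq hH.1).mp hMH

/-- **weak BG 11.4**: a maximal subgroup `H ≥ A` with `H_σ ∩ M_σ ≠ 1` is `M` -/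
theorem weak11_4 (hG : IsMinSimpleOddOrder G) (hE : Exc M p A A0) {H : Subgroup G}
    (hH : IsCoatom H) (hAH : A ≤ H) (hne : sigmaCore H ⊓ sigmaCore M ≠ ⊥) : H = M := by
  by_cases hpH : p ∈ sigma H
  · exfalso
    have h1403 : Cfsg.Agent.Helper22.BG13.Hyp1403 G :=
      fun K hK hK2 hK3 => Cfsg.Agent.S1403.result hG K hK hK2 hK3
    have h1414 : Cfsg.Agent.Helper22.BG13.Hyp1414 G :=
      fun L hL => Cfsg.Agent.S1414.result hG L hL
    obtain ⟨hσH, -⟩ := sigmaHall hG hH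
    have hconj : ∀ g : G, H ≠ M.map (MulAut.conj g).toMonoidHom := by
      intro g hg
      rw [hg] at hpH
      exact hE.hp (Cfsg.Agent.Helper18.BG13P.mem_sigma_of_map_conj hpH)
    have hAσ : A ≤ sigmaCore H := le_sigmaCore_of_isPGroup hσH hpH hE.isPGroup hAH
    have hK : ∀ q : ℕ, q.Prime → q ∣ Nat.card ↥H → q ∉ beta H →
        HasNormalPComplement q ↥(sigmaCore H) :=
      fun q hq hqd hqb => ((h1414 H hH).2.2.2.2 q hq hqd hqb).2.1
    have h3 := Cfsg.Agent.Helper18.BG13P.centralizes_of_le_normal hG h1403 h1414 hE.hM hH hconj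
      (sigmaCore_le H) (le_normalizer_sigmaCore H) hK hE.hp hE.isPGroup hE.hAM hAσ
    apply hne
    rw [eq_bot_iff, ← lemma_W hG hE.toExc0]
    refine le_inf inf_le_right ?_
    refine le_trans ?_ h3
    exact le_inf inf_le_right (inf_le_left.trans (sigmaCore_le H))
  · exact weak11_4_coprime hG hE hH hAH hpH hne

end Cfsg.Agent.Helper12.BG11
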