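import Mathlib
import Cfsg.Prelude.Def_OddOrder
import Cfsg.Prelude.Def_Local
import Cfsg.Agent.Lib.Helper12.NHFBasic
import Cfsg.Agent.S1461

/-!
# Nilpotent Hall subgroups of a minimal simple group of odd order: local structure (helper12)

`H` is a nilpotent Hall subgroup.  From the frozen statements S1410 (`p`-length one of proper
subgroups) and S1413(d) (`N_P(Q)` is a Sylow subgroup of `N_G(Q)`), taken as hypotheses, we show
for `T ≤ H` that `N_H(T)` is a Hall subgroup of `N_G(T)` and that `N_H(T) C_G(T)` is normal in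
`N_G(T)`.
-/

set_option autoImplicit false

namespace Cfsg.Agent.Helper12.NHF

open Subgroup
open scoped Pointwise

variable {G : Type*} [Group G]

/-- membership in a subgroup can be tested on the primary parts -/
theorem mem_of_primary_parts [Finite G] (K : Subgroup G) :
    ∀ (n : ℕ) (g : G), orderOf g = n →
      (∀ q : ℕ, q.Prime → ∀ v ∈ Subgroup.zpowers g, (∃ i : ℕ, orderOf v = q ^ i) → v ∈ K) →
      g ∈ K := by
  intro n
  induction n using Nat.strong_induction_on with
  | _ n ih =>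
    intro g hg h
    by_cases h1 : orderOf g = 1
    · rw [orderOf_eq_one_iff] at h1
      rw [h1]; exact K.one_mem
    · obtain ⟨q, hq, hqd⟩ := Nat.exists_prime_and_dvd h1
      haveI : Fact q.Prime := ⟨hq⟩
      obtain ⟨u, v, huv, -, hu, hv, huz, hvz⟩ :=
        Cfsg.Agent.Helper20.exists_pPart_decomp q g (orderOf_pos g)
      have huK : u ∈ K := h q hq u huz hu
      have hvdvd : orderOf v ∣ orderOf g := orderOf_dvd_of_mem_zpowers hvz
      have hvlt : orderOf v < n := by
        rw [← hg]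
        refine lt_of_le_of_ne (Nat.le_of_dvd (orderOf_pos g) hvdvd) ?_
        intro heq
        rw [heq] at hv
        exact (Nat.Prime.coprime_iff_not_dvd hq).mp hv.symm hqd
      have hvK : v ∈ K := by
        apply ih (orderOf v) hvlt v rfl
        intro q' hq' w hw hwo
        exact h q' hq' w ((Subgroup.zpowers_le.mpr hvz) hw) hwo
      rw [huv]
      exact K.mul_mem huK hvK

section

variable [Finite G]

/-- decomposition of an element of `T ≤ H` into its `p`-part and `p'`-part -/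
theorem exists_decomp {H T : Subgroup G} (hHn : Group.IsNilpotent H) (hTH : T ≤ H) (p : ℕ)
    [Fact p.Prime] {t : G} (ht : t ∈ T) :
    ∃ t₁ t₂ : G, t = t₁ * t₂ ∧ t₁ ∈ T ⊓ pPart H p ∧ t₂ ∈ T ∧ (orderOf t₂).Coprime p := by
  obtain ⟨u, v, huv, -, hu, hv, huz, hvz⟩ :=
    Cfsg.Agent.Helper20.exists_pPart_decomp p t (orderOf_pos t)
  have hz : Subgroup.zpowers t ≤ T := Subgroup.zpowers_le.mpr ht
  exact ⟨u, v, huv, Subgroup.mem_inf.mpr ⟨hz huz, (mem_pPart_iff hHn).mpr ⟨hTH (hz huz), hu⟩⟩,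
    hz hvz, hv⟩

/-- a `p`-element of `H` normalizing `T ∩ H_p` normalizes `T` -/
theorem conj_mem_of_pPart {H T : Subgroup G} (hHn : Group.IsNilpotent H) (hTH : T ≤ H) {p : ℕ}
    [Fact p.Prime] {u : G} (hu : u ∈ pPart H p)
    (huN : u ∈ normalizer ((T ⊓ pPart H p : Subgroup G) : Set G)) {t : G} (ht : t ∈ T) :
    u * t * u⁻¹ ∈ T := by
  obtain ⟨t₁, t₂, rfl, ht₁, ht₂, hco⟩ := exists_decomp hHn hTH p ht
  have h1 : u * t₁ * u⁻¹ ∈ T := (conj_mem_of_mem_normalizer huN ht₁).1
  have h2 : u * t₂ * u⁻¹ = t₂ := by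
    rw [commute_pPart hHn hu (hTH ht₂) hco]; group
  have h3 : u * (t₁ * t₂) * u⁻¹ = (u * t₁ * u⁻¹) * (u * t₂ * u⁻¹) := by group
  rw [h3, h2]
  exact T.mul_mem h1 ht₂

theorem mem_normalizer_of_pPart {H T : Subgroup G} (hHn : Group.IsNilpotent H) (hTH : T ≤ H)
    {p : ℕ} [Fact p.Prime] {u : G} (hu : u ∈ pPart H p)
    (huN : u ∈ normalizer ((T ⊓ pPart H p : Subgroup G) : Set G)) :
    u ∈ normalizer (T : Set G) :=
  mem_normalizer_of_conj_mem (fun _ ht => conj_mem_of_pPart hHn hTH hu huN ht)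

theorem normalizer_le_normalizer_inf_pPart {H T : Subgroup G} (hHn : Group.IsNilpotent H)
    (hTH : T ≤ H) (p : ℕ) [Fact p.Prime] :
    normalizer (T : Set G) ≤ normalizer ((T ⊓ pPart H p : Subgroup G) : Set G) := by
  intro g hg
  apply mem_normalizer_of_conj_mem
  intro a ha
  have h2 := (mem_pPart_iff hHn).mp ha.2
  exact Subgroup.mem_inf.mpr ⟨conj_mem_of_mem_normalizer hg ha.1, (mem_pPart_iff hHn).mpr
    ⟨hTH (conj_mem_of_mem_normalizer hg ha.1), by rw [orderOf_conj']; exact h2.2⟩⟩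

/-- the hypothesis S1413(d) -/
def Hyp13 (G : Type*) [Group G] : Prop :=
  ∀ (p : ℕ) [Fact p.Prime] (P : Sylow p G) (Q : Subgroup G), Q ≤ (P : Subgroup G) →
    ¬ p ∣ ((P : Subgroup G) ⊓ normalizer (Q : Set G)).relIndex (normalizer (Q : Set G))

/-- the hypothesis S1410 -/
def Hyp10 (G : Type*) [Group G] : Prop :=
  ∀ (p : ℕ) [Fact p.Prime] (L : Subgroup G), L ≠ ⊤ → Cfsg.PLengthLE p 1 L

/-- `N_H(T)` has index prime to `p` in `N_G(T)` -/
theorem not_dvd_relIndex {H T : Subgroup G} (hHn : Group.IsNilpotent H)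
    (hHall : (Nat.card H).Coprime H.index) (h13 : Hyp13 G) (hTH : T ≤ H) {p : ℕ} [Fact p.Prime]
    (hpH : p ∣ Nat.card H) :
    ¬ p ∣ (H ⊓ normalizer (T : Set G)).relIndex (normalizer (T : Set G)) := by
  have h := h13 p ((isPGroup_pPart H p).toSylow (not_dvd_index_pPart hHall hpH))
    (T ⊓ pPart H p) inf_le_right
  rw [IsPGroup.toSylow_coe] at h
  intro hdvd
  apply h
  have hA₀A : pPart H p ⊓ normalizer ((T ⊓ pPart H p : Subgroup G) : Set G) ≤
      H ⊓ normalizer (T : Set G) := by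
    intro u hu
    exact ⟨pPart_le hu.1, mem_normalizer_of_pPart hHn hTH hu.1 hu.2⟩
  have hNN := normalizer_le_normalizer_inf_pPart hHn hTH p
  have h1 := Subgroup.relIndex_dvd_of_le_left (normalizer (T : Set G)) hA₀A
  have h2 := Subgroup.relIndex_mul_relIndex
    (pPart H p ⊓ normalizer ((T ⊓ pPart H p : Subgroup G) : Set G)) (normalizer (T : Set G))
    (normalizer ((T ⊓ pPart H p : Subgroup G) : Set G)) (hA₀A.trans inf_le_right) hNN
  rw [← h2]
  exact (hdvd.trans h1).mul_right _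

theorem coprime_relIndex {H T : Subgroup G} (hHn : Group.IsNilpotent H)
    (hHall : (Nat.card H).Coprime H.index) (h13 : Hyp13 G) (hTH : T ≤ H) {m : ℕ}
    (hm : m ∣ Nat.card H) :
    m.Coprime ((H ⊓ normalizer (T : Set G)).relIndex (normalizer (T : Set G))) := by
  apply Nat.coprime_of_dvd
  intro k hk hkm
  have : Fact k.Prime := ⟨hk⟩
  exact not_dvd_relIndex hHn hHall h13 hTH (hkm.trans hm)

end

end Cfsg.Agent.Helper12.NHF
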