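import Mathlib
import Cfsg.Agent.Lib.Helper12.NHFLocal

/-!
# Nilpotent Hall subgroups of a minimal simple group of odd order: extension of automorphisms
(helper12)

For `T ≤ H` the set `N_H(T) C_G(T)` is a normal subgroup of `N_G(T)`.
-/

set_option autoImplicit false

namespace Cfsg.Agent.Helper12.NHF

open Subgroup
open scoped Pointwise

variable {G : Type*} [Group G]

theorem orderOf_dvd_card_of_mem {H : Subgroup G} {x : G} (hx : x ∈ H) :
    orderOf x ∣ Nat.card H := by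
  have := orderOf_dvd_natCard (⟨x, hx⟩ : H)
  rwa [Subgroup.orderOf_mk] at this

/-- the centralizer of `T` is normalized by the normalizer of `T` -/
theorem conj_mem_centralizer {T : Subgroup G} {a c : G} (ha : a ∈ normalizer (T : Set G))
    (hc : c ∈ centralizer (T : Set G)) : a * c * a⁻¹ ∈ centralizer (T : Set G) := by
  rw [mem_centralizer_iff'] at hc ⊢
  intro t ht
  have h1 := hc _ (conj_inv_mem_of_mem_normalizer ha ht)
  calc a * c * a⁻¹ * t = a * (c * (a⁻¹ * t * a)) * a⁻¹ := by group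
    _ = a * ((a⁻¹ * t * a) * c) * a⁻¹ := by rw [h1]
    _ = t * (a * c * a⁻¹) := by group

/-- a nilpotent subgroup of a minimal simple group of odd order is proper -/
theorem ne_top_of_isNilpotent (hG : Cfsg.IsMinSimpleOddOrder G) {H : Subgroup G}
    (hHn : Group.IsNilpotent H) : H ≠ ⊤ := by
  rintro rfl
  haveI := hG.2.1
  have h1 : Group.IsNilpotent G :=
    Group.nilpotent_of_mulEquiv (Subgroup.topEquiv : (⊤ : Subgroup G) ≃* G)
  have h2 : Group.IsSolvable G := inferInstance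
  have h3 := IsSimpleGroup.comm_iff_isSolvable.mpr h2
  exact hG.2.2.1 ⟨⟨h3⟩⟩

/-- the normalizer of a nontrivial subgroup of a proper subgroup is proper -/
theorem normalizer_ne_top (hG : Cfsg.IsMinSimpleOddOrder G) {H Q : Subgroup G} (hH : H ≠ ⊤)
    (hQH : Q ≤ H) (hQ : Q ≠ ⊥) : normalizer (Q : Set G) ≠ ⊤ := by
  intro h
  haveI := hG.2.1
  have hn : Q.Normal := Subgroup.normalizer_eq_top_iff.mp h
  rcases hn.eq_bot_or_eq_top with h1 | h1
  · exact hQ h1
  · apply hH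
    rw [eq_top_iff, ← h1]
    exact hQH

section

variable [Finite G]

/-- the structure of a subgroup of `p`-length one, in subgroup form -/
theorem plength_structure (L S : Subgroup G) {p : ℕ} [Fact p.Prime]
    (hpl : Cfsg.PLengthLE p 1 L) (hSL : S ≤ L) (hS : IsPGroup p S) (hidx : ¬ p ∣ S.relIndex L) :
    ∃ K : Subgroup G, K ≤ L ∧ L ≤ normalizer (K : Set G) ∧ (Nat.card K).Coprime p ∧
      ∀ d ∈ L, ∃ k ∈ K, ∃ m ∈ L ⊓ normalizer (S : Set G), d = k * m := by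
  have hS' : IsPGroup p (S.subgroupOf L) := hS.comap_subtype
  obtain ⟨K', hK'n, hK'c, hsup⟩ :=
    Cfsg.Agent.S1461.structure_lemma p hpl (hS'.toSylow hidx)
  refine ⟨K'.map L.subtype, Subgroup.map_subtype_le K', ?_, ?_, ?_⟩
  · intro l hl
    apply mem_normalizer_of_conj_mem
    rintro _ ⟨k, hk, rfl⟩
    refine ⟨⟨l, hl⟩ * k * ⟨l, hl⟩⁻¹, hK'n.conj_mem k hk ⟨l, hl⟩, ?_⟩
    simp
  · rw [Subgroup.card_map_of_injective L.subtype_injective]
    exact hK'c
  · intro d hd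
    have hcoe : ((hS'.toSylow hidx : Sylow p L) : Subgroup L) = S.subgroupOf L := rfl
    rw [hcoe] at hsup
    have h1 : (⟨d, hd⟩ : L) ∈ K' ⊔ normalizer ((S.subgroupOf L : Subgroup L) : Set L) := by
      rw [hsup]; exact Subgroup.mem_top _
    haveI := hK'n
    rw [← SetLike.mem_coe, Subgroup.normal_mul] at h1
    obtain ⟨k, hk, m, hm, hkm⟩ := Set.mem_mul.mp h1
    refine ⟨(k : G), ⟨k, hk, rfl⟩, (m : G), ⟨m.2, ?_⟩, ?_⟩
    · apply mem_normalizer_of_conj_mem
      intro s hs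
      have h2 : (⟨s, hSL hs⟩ : L) ∈ S.subgroupOf L := by
        rw [Subgroup.mem_subgroupOf]; exact hs
      have h3 := conj_mem_of_mem_normalizer hm h2
      rw [Subgroup.mem_subgroupOf] at h3
      simpa using h3
    · have := congrArg Subtype.val hkm
      simpa using this.symm

end

section

variable [Finite G]

/-- conjugates of `p`-elements of `N_H(T)` under `N_G(T)` stay in `N_H(T) C_G(T)` -/
theorem conj_pPart_mem (hG : Cfsg.IsMinSimpleOddOrder G) (h10 : Hyp10 G) (h13 : Hyp13 G)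
    {H T : Subgroup G} (hHn : Group.IsNilpotent H) (hHall : (Nat.card H).Coprime H.index)
    (hTH : T ≤ H) {p : ℕ} [hp : Fact p.Prime] {d u : G} (hd : d ∈ normalizer (T : Set G))
    (hu : u ∈ pPart H p) (huN : u ∈ normalizer (T : Set G)) :
    ∃ u' ∈ H ⊓ normalizer (T : Set G), ∃ c ∈ centralizer (T : Set G), d * u * d⁻¹ = u' * c := by
  -- commuting with `p'`-elements
  have hcomm : ∀ t ∈ T, (orderOf t).Coprime p → (d * u * d⁻¹) * t = t * (d * u * d⁻¹) := by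
    intro t ht hco
    have ht' : d⁻¹ * t * d ∈ T := conj_inv_mem_of_mem_normalizer hd ht
    have hco' : (orderOf (d⁻¹ * t * d)).Coprime p := by
      have : orderOf (d⁻¹ * t * d) = orderOf t := by
        have := orderOf_conj' d⁻¹ t; simpa using this
      rw [this]; exact hco
    have h1 := commute_pPart hHn hu (hTH ht') hco'
    calc d * u * d⁻¹ * t = d * (u * (d⁻¹ * t * d)) * d⁻¹ := by group
      _ = d * ((d⁻¹ * t * d) * u) * d⁻¹ := by rw [h1]
      _ = t * (d * u * d⁻¹) := by group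
  by_cases hQ : T ⊓ pPart H p = ⊥
  · -- all elements of `T` are `p'`-elements
    have hall : ∀ t ∈ T, (orderOf t).Coprime p := by
      intro t ht
      rw [Nat.coprime_comm, Nat.Prime.coprime_iff_not_dvd hp.out]
      intro hdvd
      have h1 : orderOf (t ^ (orderOf t / p)) = p :=
        orderOf_pow_orderOf_div (orderOf_pos t).ne' hdvd
      have h2 : t ^ (orderOf t / p) ∈ T ⊓ pPart H p :=
        Subgroup.mem_inf.mpr ⟨T.pow_mem ht _, (mem_pPart_iff hHn).mpr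
          ⟨H.pow_mem (hTH ht) _, 1, by rw [h1, pow_one]⟩⟩
      rw [hQ, Subgroup.mem_bot] at h2
      rw [h2, orderOf_one] at h1
      exact hp.out.one_lt.ne h1
    refine ⟨1, Subgroup.one_mem _, d * u * d⁻¹, ?_, by rw [one_mul]⟩
    rw [mem_centralizer_iff']
    intro t ht
    exact hcomm t ht (hall t ht)
  · obtain ⟨Q, hQdef⟩ : ∃ Q : Subgroup G, Q = T ⊓ pPart H p := ⟨_, rfl⟩
    rw [← hQdef] at hQ
    have hQT : Q ≤ T := by rw [hQdef]; exact inf_le_left
    have hQP : Q ≤ pPart H p := by rw [hQdef]; exact inf_le_right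
    have hHtop : H ≠ ⊤ := ne_top_of_isNilpotent hG hHn
    have hL : normalizer (Q : Set G) ≠ ⊤ := normalizer_ne_top hG hHtop (hQT.trans hTH) hQ
    have hpH : p ∣ Nat.card H := by
      obtain ⟨q, hq1⟩ := (Subgroup.ne_bot_iff_exists_ne_one).mp hQ
      obtain ⟨hqH, k, hk⟩ := (mem_pPart_iff hHn).mp (hQP q.2)
      have hk0 : k ≠ 0 := by
        rintro rfl
        rw [pow_zero, orderOf_eq_one_iff] at hk
        exact hq1 (Subtype.ext hk)
      have h1 : p ∣ orderOf (q : G) := by rw [hk]; exact dvd_pow_self p hk0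
      exact h1.trans (orderOf_dvd_card_of_mem hqH)
    have h13' := h13 p ((isPGroup_pPart H p).toSylow (not_dvd_index_pPart hHall hpH)) Q hQP
    rw [IsPGroup.toSylow_coe] at h13'
    obtain ⟨K, hKL, hLK, hKc, hdec⟩ := plength_structure (normalizer (Q : Set G))
      (pPart H p ⊓ normalizer (Q : Set G)) (h10 p _ hL) inf_le_right
      ((isPGroup_pPart H p).to_le inf_le_left) h13'
    have hKQ : K ⊓ Q = ⊥ := by
      apply Subgroup.inf_eq_bot_of_coprime
      obtain ⟨j, hj⟩ := IsPGroup.exists_card_eq ((isPGroup_pPart H p).to_le hQP)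
      rw [hj]; exact Nat.Coprime.pow_right j hKc
    have hcent : ∀ k ∈ K, ∀ q ∈ Q, k * q = q * k := by
      intro k hk q hq
      have h1 : k * q * k⁻¹ * q⁻¹ ∈ K ⊓ Q := by
        refine Subgroup.mem_inf.mpr ⟨?_, ?_⟩
        · have : q * k⁻¹ * q⁻¹ ∈ K :=
            conj_mem_of_mem_normalizer (hLK (le_normalizer hq)) (K.inv_mem hk)
          have e : k * q * k⁻¹ * q⁻¹ = k * (q * k⁻¹ * q⁻¹) := by group
          rw [e]; exact K.mul_mem hk this
        · have : k * q * k⁻¹ ∈ Q := conj_mem_of_mem_normalizer (hKL hk) hq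
          exact Q.mul_mem this (Q.inv_mem hq)
      rw [hKQ, Subgroup.mem_bot] at h1
      calc k * q = (k * q * k⁻¹ * q⁻¹) * (q * k) := by group
        _ = q * k := by rw [h1, one_mul]
    have hNN : normalizer (T : Set G) ≤ normalizer (Q : Set G) := by
      rw [hQdef]; exact normalizer_le_normalizer_inf_pPart hHn hTH p
    obtain ⟨k, hk, m, hm, hdkm⟩ := hdec d (hNN hd)
    have huS : u ∈ pPart H p ⊓ normalizer (Q : Set G) := Subgroup.mem_inf.mpr ⟨hu, hNN huN⟩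
    obtain ⟨u₁, hu₁⟩ : ∃ u₁ : G, u₁ = m * u * m⁻¹ := ⟨_, rfl⟩
    have hu₁S : u₁ ∈ pPart H p ⊓ normalizer (Q : Set G) := by
      rw [hu₁]; exact conj_mem_of_mem_normalizer hm.2 huS
    have hu₁N : u₁ ∈ normalizer (T : Set G) := by
      apply mem_normalizer_of_pPart hHn hTH hu₁S.1
      rw [← hQdef]; exact hu₁S.2
    have hdu : d * u * d⁻¹ = k * u₁ * k⁻¹ := by rw [hdkm, hu₁]; group
    have hc₁K : u₁⁻¹ * k * u₁ * k⁻¹ ∈ K := by
      have : u₁⁻¹ * k * u₁ ∈ K := conj_inv_mem_of_mem_normalizer (hLK hu₁S.2) hk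
      exact K.mul_mem this (K.inv_mem hk)
    refine ⟨u₁, Subgroup.mem_inf.mpr ⟨pPart_le hu₁S.1, hu₁N⟩, u₁⁻¹ * k * u₁ * k⁻¹, ?_,
      by rw [hdu]; group⟩
    rw [mem_centralizer_iff']
    intro t ht
    obtain ⟨t₁, t₂, rfl, ht₁, ht₂, hco⟩ := exists_decomp hHn hTH p ht
    rw [← hQdef] at ht₁
    have e1 : (u₁⁻¹ * k * u₁ * k⁻¹) * t₁ = t₁ * (u₁⁻¹ * k * u₁ * k⁻¹) := hcent _ hc₁K t₁ ht₁
    have e2 : (u₁⁻¹ * k * u₁ * k⁻¹) * t₂ = t₂ * (u₁⁻¹ * k * u₁ * k⁻¹) := by
      have h1 : u₁ * t₂ = t₂ * u₁ := commute_pPart hHn hu₁S.1 (hTH ht₂) hco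
      have h2 := hcomm t₂ ht₂ hco
      rw [hdu] at h2
      have h3 : u₁⁻¹ * t₂ = t₂ * u₁⁻¹ := by
        calc u₁⁻¹ * t₂ = u₁⁻¹ * (t₂ * u₁) * u₁⁻¹ := by group
          _ = u₁⁻¹ * (u₁ * t₂) * u₁⁻¹ := by rw [h1]
          _ = t₂ * u₁⁻¹ := by group
      calc u₁⁻¹ * k * u₁ * k⁻¹ * t₂ = u₁⁻¹ * ((k * u₁ * k⁻¹) * t₂) := by group
        _ = u₁⁻¹ * (t₂ * (k * u₁ * k⁻¹)) := by rw [h2]
        _ = (u₁⁻¹ * t₂) * (k * u₁ * k⁻¹) := by group
        _ = (t₂ * u₁⁻¹) * (k * u₁ * k⁻¹) := by rw [h3]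
        _ = t₂ * (u₁⁻¹ * k * u₁ * k⁻¹) := by group
    calc (u₁⁻¹ * k * u₁ * k⁻¹) * (t₁ * t₂) = ((u₁⁻¹ * k * u₁ * k⁻¹) * t₁) * t₂ := by group
      _ = t₁ * ((u₁⁻¹ * k * u₁ * k⁻¹) * t₂) := by rw [e1]; group
      _ = t₁ * t₂ * (u₁⁻¹ * k * u₁ * k⁻¹) := by rw [e2]; group

end

end Cfsg.Agent.Helper12.NHF
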