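import Mathlib
import Cfsg.Agent.Lib.Helper12.NHFExt

/-!
# Control of fusion in a nilpotent Hall subgroup of a minimal simple group of odd order (helper12)

Bender–Glauberman Lemma 16.1: if `H` is a nilpotent Hall subgroup of `G`, two elements of `H`
conjugate in `G` are conjugate in `N_G(H)`.  In fact `g T g⁻¹ ≤ H` for `T ≤ H` forces
`g ∈ N_G(H) C_G(T)`.  The frozen statements S1410 and S1413(d) are hypotheses `Hyp10`, `Hyp13`.
-/

set_option autoImplicit false

namespace Cfsg.Agent.Helper12.NHF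

open Subgroup
open scoped Pointwise

variable {G : Type*} [Group G]

/-- the subgroup `N_H(T) C_G(T)` -/
def XX (H T : Subgroup G) : Subgroup G where
  carrier := {y | ∃ a ∈ H ⊓ normalizer (T : Set G), ∃ c ∈ centralizer (T : Set G), y = a * c}
  mul_mem' := by
    rintro _ _ ⟨a, ha, c, hc, rfl⟩ ⟨a', ha', c', hc', rfl⟩
    refine ⟨a * a', mul_mem ha ha', (a'⁻¹ * c * a') * c', mul_mem ?_ hc', by group⟩
    have := conj_mem_centralizer (inv_mem ha'.2) hc
    simpa using this
  one_mem' := ⟨1, one_mem _, 1, one_mem _, by simp⟩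
  inv_mem' := by
    rintro _ ⟨a, ha, c, hc, rfl⟩
    exact ⟨a⁻¹, inv_mem ha, a * c⁻¹ * a⁻¹, conj_mem_centralizer ha.2 (inv_mem hc), by group⟩

theorem mem_XX {H T : Subgroup G} {y : G} :
    y ∈ XX H T ↔ ∃ a ∈ H ⊓ normalizer (T : Set G), ∃ c ∈ centralizer (T : Set G), y = a * c :=
  Iff.rfl

theorem XX_le_normalizer (H T : Subgroup G) : XX H T ≤ normalizer (T : Set G) := by
  rintro _ ⟨a, ha, c, hc, rfl⟩
  exact mul_mem ha.2 (Subgroup.centralizer_le_normalizer _ hc)

theorem le_XX (H T : Subgroup G) : H ⊓ normalizer (T : Set G) ≤ XX H T := by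
  intro a ha
  exact ⟨a, ha, 1, one_mem _, by simp⟩

/-- transport of centralizers -/
theorem conj_inv_mem_centralizer_of_map {T T' : Subgroup G} {x c : G}
    (hx : ∀ t ∈ T, x * t * x⁻¹ ∈ T') (hc : c ∈ centralizer (T' : Set G)) :
    x⁻¹ * c * x ∈ centralizer (T : Set G) := by
  rw [mem_centralizer_iff'] at hc ⊢
  intro t ht
  have h1 := hc _ (hx t ht)
  calc x⁻¹ * c * x * t = x⁻¹ * (c * (x * t * x⁻¹)) * x := by group
    _ = x⁻¹ * ((x * t * x⁻¹) * c) * x := by rw [h1]
    _ = t * (x⁻¹ * c * x) := by group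

section

variable [Finite G]

theorem conj_mem_XX (hG : Cfsg.IsMinSimpleOddOrder G) (h10 : Hyp10 G) (h13 : Hyp13 G)
    {H T : Subgroup G} (hHn : Group.IsNilpotent H) (hHall : (Nat.card H).Coprime H.index)
    (hTH : T ≤ H) {d u : G} (hd : d ∈ normalizer (T : Set G))
    (hu : u ∈ H ⊓ normalizer (T : Set G)) : d * u * d⁻¹ ∈ XX H T := by
  have key : u ∈ (XX H T).comap (MulAut.conj d).toMonoidHom := by
    apply mem_of_primary_parts _ (orderOf u) u rfl
    rintro q hq v hv ⟨i, hi⟩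
    have : Fact q.Prime := ⟨hq⟩
    have hvA : v ∈ H ⊓ normalizer (T : Set G) := (Subgroup.zpowers_le.mpr hu) hv
    have hvP : v ∈ pPart H q := (mem_pPart_iff hHn).mpr ⟨hvA.1, i, hi⟩
    obtain ⟨u', hu', c, hc, e⟩ := conj_pPart_mem hG h10 h13 hHn hHall hTH hd hvP hvA.2
    rw [Subgroup.mem_comap]
    exact ⟨u', hu', c, hc, e⟩
  exact key

/-- the normalizer condition, in subgroup form -/
theorem exists_normalizer_not_mem {H T : Subgroup G} (hHn : Group.IsNilpotent H) (hTH : T ≤ H)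
    (hne : T ≠ H) : ∃ y ∈ H ⊓ normalizer (T : Set G), y ∉ T := by
  haveI := hHn
  have hlt : T.subgroupOf H < ⊤ := by
    rw [lt_top_iff_ne_top]
    intro h
    rw [Subgroup.subgroupOf_eq_top] at h
    exact hne (le_antisymm hTH h)
  have h1 := Group.normalizerCondition_of_isNilpotent (G := H) (T.subgroupOf H) hlt
  obtain ⟨y, hyN, hyT⟩ := SetLike.exists_of_lt h1
  refine ⟨(y : G), Subgroup.mem_inf.mpr ⟨y.2, ?_⟩, ?_⟩
  · apply mem_normalizer_of_conj_mem
    intro t ht
    have h2 : (⟨t, hTH ht⟩ : H) ∈ T.subgroupOf H := by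
      rw [Subgroup.mem_subgroupOf]; exact ht
    have h3 := conj_mem_of_mem_normalizer hyN h2
    rw [Subgroup.mem_subgroupOf] at h3
    simpa using h3
  · intro h
    exact hyT (by rw [Subgroup.mem_subgroupOf]; exact h)

theorem card_lt_card_normalizer {H T : Subgroup G} (hHn : Group.IsNilpotent H) (hTH : T ≤ H)
    (hne : T ≠ H) : Nat.card T < Nat.card (H ⊓ normalizer (T : Set G) : Subgroup G) := by
  obtain ⟨y, hy, hyT⟩ := exists_normalizer_not_mem hHn hTH hne
  have hle : T ≤ H ⊓ normalizer (T : Set G) := le_inf hTH le_normalizer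
  by_contra hcon
  push_neg at hcon
  have := Subgroup.eq_of_le_of_card_ge hle hcon
  exact hyT (this ▸ hy)

/-- Hall domination in `N_G(T)` -/
theorem dominate (hG : Cfsg.IsMinSimpleOddOrder G) (h13 : Hyp13 G)
    {H T : Subgroup G} (hHn : Group.IsNilpotent H) (hHall : (Nat.card H).Coprime H.index)
    (hTH : T ≤ H) (hT : T ≠ ⊥) {U : Subgroup G} (hU : U ≤ normalizer (T : Set G))
    (hUc : Nat.card U ∣ Nat.card H) :
    ∃ d ∈ normalizer (T : Set G), ∀ u ∈ U, d * u * d⁻¹ ∈ H ⊓ normalizer (T : Set G) := by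
  have hHtop : H ≠ ⊤ := ne_top_of_isNilpotent hG hHn
  have hN : normalizer (T : Set G) ≠ ⊤ := normalizer_ne_top hG hHtop hTH hT
  haveI : Group.IsSolvable (normalizer (T : Set G)) := hG.2.2.2 _ hN
  exact hall_dominate (normalizer (T : Set G)) (H ⊓ normalizer (T : Set G)) U inf_le_right hU
    (coprime_relIndex hHn hHall h13 hTH (Subgroup.card_dvd_of_le inf_le_left))
    (coprime_relIndex hHn hHall h13 hTH hUc)

/-- the Frattini argument: `N_G(T) = C_G(T) (N_G(T) ∩ N_G(N_H(T)))` -/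
theorem frattini (hG : Cfsg.IsMinSimpleOddOrder G) (h10 : Hyp10 G) (h13 : Hyp13 G)
    {H T : Subgroup G} (hHn : Group.IsNilpotent H) (hHall : (Nat.card H).Coprime H.index)
    (hTH : T ≤ H) (hT : T ≠ ⊥) {d : G} (hd : d ∈ normalizer (T : Set G)) :
    ∃ c ∈ centralizer (T : Set G), ∃ e ∈ normalizer (T : Set G) ⊓
      normalizer ((H ⊓ normalizer (T : Set G) : Subgroup G) : Set G), d = c * e := by
  have hHtop : H ≠ ⊤ := ne_top_of_isNilpotent hG hHn
  have hN : normalizer (T : Set G) ≠ ⊤ := normalizer_ne_top hG hHtop hTH hT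
  have hXN := XX_le_normalizer H T
  have hX : XX H T ≠ ⊤ := by
    intro h
    apply hN
    rw [eq_top_iff, ← h]
    exact hXN
  haveI : Group.IsSolvable (XX H T) := hG.2.2.2 _ hX
  have hco : (Nat.card (H ⊓ normalizer (T : Set G) : Subgroup G)).Coprime
      ((H ⊓ normalizer (T : Set G)).relIndex (XX H T)) := by
    have h1 := coprime_relIndex hHn hHall h13 hTH
      (Subgroup.card_dvd_of_le (inf_le_left : H ⊓ normalizer (T : Set G) ≤ H))
    have h2 := Subgroup.relIndex_mul_relIndex (H ⊓ normalizer (T : Set G)) (XX H T)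
      (normalizer (T : Set G)) (le_XX H T) hXN
    exact Nat.Coprime.coprime_dvd_right (Dvd.intro _ h2) h1
  have hUX : cj d (H ⊓ normalizer (T : Set G)) ≤ XX H T :=
    cj_le_iff.mpr (fun u hu => conj_mem_XX hG h10 h13 hHn hHall hTH hd hu)
  obtain ⟨z, hzX, hz⟩ := hall_dominate (XX H T) (H ⊓ normalizer (T : Set G))
    (cj d (H ⊓ normalizer (T : Set G))) (le_XX H T) hUX hco (by rw [card_cj]; exact hco)
  obtain ⟨a, ha, c, hc, rfl⟩ := hzX
  have he₀ : a * c * d ∈ normalizer ((H ⊓ normalizer (T : Set G) : Subgroup G) : Set G) := by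
    apply mem_normalizer_of_conj_mem
    intro u hu
    have := hz _ (conj_mem_cj (g := d) hu)
    have e : a * c * d * u * (a * c * d)⁻¹ = a * c * (d * u * d⁻¹) * (a * c)⁻¹ := by group
    rw [e]; exact this
  refine ⟨c⁻¹, inv_mem hc, a⁻¹ * (a * c * d), Subgroup.mem_inf.mpr ⟨?_, ?_⟩, by group⟩
  · exact mul_mem (inv_mem ha.2)
      (mul_mem (mul_mem ha.2 (Subgroup.centralizer_le_normalizer _ hc)) hd)
  · exact mul_mem (inv_mem (le_normalizer ha)) he₀

end

section

variable [Finite G]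

/-- **Strong control of fusion** in a nilpotent Hall subgroup: induction on `|H| - |T|`. -/
theorem control_aux (hG : Cfsg.IsMinSimpleOddOrder G) (h10 : Hyp10 G) (h13 : Hyp13 G)
    {H : Subgroup G} (hHn : Group.IsNilpotent H) (hHall : (Nat.card H).Coprime H.index) :
    ∀ (n : ℕ) (T : Subgroup G), T ≤ H → Nat.card H - Nat.card T = n → ∀ g : G,
      (∀ t ∈ T, g * t * g⁻¹ ∈ H) →
      ∃ m ∈ normalizer (H : Set G), ∃ c ∈ centralizer (T : Set G), g = m * c := by
  intro n
  induction n using Nat.strong_induction_on with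
  | _ n ih =>
    intro T hTH hn g hg
    by_cases hT : T = ⊥
    · refine ⟨1, one_mem _, g, ?_, by rw [one_mul]⟩
      rw [mem_centralizer_iff']
      intro t ht
      rw [hT, Subgroup.mem_bot] at ht
      rw [ht, mul_one, one_mul]
    by_cases hTH' : T = H
    · refine ⟨g, ?_, 1, one_mem _, by rw [mul_one]⟩
      apply mem_normalizer_of_conj_mem
      intro a ha
      exact hg a (hTH' ▸ ha)
    -- the conjugate T'
    obtain ⟨T', hT'def⟩ : ∃ T' : Subgroup G, T' = cj g T := ⟨_, rfl⟩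
    have hT'H : T' ≤ H := by rw [hT'def]; exact cj_le_iff.mpr hg
    have hcard : Nat.card T' = Nat.card T := by rw [hT'def, card_cj]
    have hgT : ∀ t ∈ T, g * t * g⁻¹ ∈ T' := by
      intro t ht; rw [hT'def]; exact conj_mem_cj ht
    have hT' : T' ≠ ⊥ := by
      intro h
      apply hT
      rw [eq_bot_iff]
      intro t ht
      have := hgT t ht
      rw [h, Subgroup.mem_bot] at this
      rw [Subgroup.mem_bot]
      calc t = g⁻¹ * (g * t * g⁻¹) * g := by group
        _ = 1 := by rw [this]; group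
    have hT'ne : T' ≠ H := by
      intro h
      apply hTH'
      apply Subgroup.eq_of_le_of_card_ge hTH
      rw [← hcard, h]
    have hcardH : Nat.card T ≤ Nat.card H := Subgroup.card_le_of_le hTH
    have hlt := card_lt_card_normalizer hHn hTH hTH'
    have hlt' := card_lt_card_normalizer hHn hT'H hT'ne
    have hAle : Nat.card (H ⊓ normalizer (T : Set G) : Subgroup G) ≤ Nat.card H :=
      Subgroup.card_le_of_le inf_le_left
    have hA'le : Nat.card (H ⊓ normalizer (T' : Set G) : Subgroup G) ≤ Nat.card H :=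
      Subgroup.card_le_of_le inf_le_left
    -- U = g N_H(T) g⁻¹ ≤ N_G(T')
    have hUN : cj g (H ⊓ normalizer (T : Set G)) ≤ normalizer (T' : Set G) := by
      rw [hT'def, normalizer_cj]
      exact Subgroup.map_mono inf_le_right
    obtain ⟨d, hd, hdU⟩ := dominate hG h13 hHn hHall hT'H hT' hUN
      (by rw [card_cj]; exact Subgroup.card_dvd_of_le inf_le_left)
    -- induction for A = N_H(T) and d g
    obtain ⟨m₁, hm₁, c₁, hc₁, hdg⟩ := ih (Nat.card H - Nat.card (H ⊓ normalizer (T : Set G) : Subgroup G))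
      (by omega) (H ⊓ normalizer (T : Set G)) inf_le_left rfl (d * g) (by
        intro a ha
        have := (hdU _ (conj_mem_cj (g := g) ha)).1
        have e : d * g * a * (d * g)⁻¹ = d * (g * a * g⁻¹) * d⁻¹ := by group
        rw [e]; exact this)
    have hc₁T : c₁ ∈ centralizer (T : Set G) :=
      Subgroup.centralizer_le (show (T : Set G) ⊆ ((H ⊓ normalizer (T : Set G) : Subgroup G) : Set G) from
        le_inf hTH le_normalizer) hc₁
    -- Frattini for d⁻¹
    obtain ⟨c₂, hc₂, e, he, hde⟩ := frattini hG h10 h13 hHn hHall hT'H hT' (inv_mem hd)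
    obtain ⟨m₂, hm₂, c₃, hc₃, hem⟩ := ih (Nat.card H - Nat.card (H ⊓ normalizer (T' : Set G) : Subgroup G))
      (by omega) (H ⊓ normalizer (T' : Set G)) inf_le_left rfl e (by
        intro a ha
        exact (conj_mem_of_mem_normalizer he.2 ha).1)
    have hc₃T' : c₃ ∈ centralizer (T' : Set G) :=
      Subgroup.centralizer_le (show (T' : Set G) ⊆ ((H ⊓ normalizer (T' : Set G) : Subgroup G) : Set G) from
        le_inf hT'H le_normalizer) hc₃
    -- m₂ normalizes T'
    have hm₂N : m₂ ∈ normalizer (T' : Set G) := by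
      have e1 : m₂ = e * c₃⁻¹ := by rw [hem]; group
      rw [e1]
      exact mul_mem he.1 (Subgroup.centralizer_le_normalizer _ (inv_mem hc₃T'))
    -- m₁ maps T into T'
    have hm₁T : ∀ t ∈ T, m₁ * t * m₁⁻¹ ∈ T' := by
      intro t ht
      have e1 : m₁ = d * g * c₁⁻¹ := by rw [hdg]; group
      have h1 : c₁ * t = t * c₁ := mem_centralizer_iff'.mp hc₁T t ht
      have e2 : m₁ * t * m₁⁻¹ = d * (g * t * g⁻¹) * d⁻¹ := by
        rw [e1]
        calc d * g * c₁⁻¹ * t * (d * g * c₁⁻¹)⁻¹ = d * g * (c₁⁻¹ * (t * c₁)) * g⁻¹ * d⁻¹ := by group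
          _ = d * g * (c₁⁻¹ * (c₁ * t)) * g⁻¹ * d⁻¹ := by rw [h1]
          _ = d * (g * t * g⁻¹) * d⁻¹ := by group
      rw [e2]
      exact conj_mem_of_mem_normalizer hd (hgT t ht)
    have hm₂m₁T : ∀ t ∈ T, (m₂ * m₁) * t * (m₂ * m₁)⁻¹ ∈ T' := by
      intro t ht
      have e1 : (m₂ * m₁) * t * (m₂ * m₁)⁻¹ = m₂ * (m₁ * t * m₁⁻¹) * m₂⁻¹ := by group
      rw [e1]
      exact conj_mem_of_mem_normalizer hm₂N (hm₁T t ht)
    refine ⟨m₂ * m₁, mul_mem hm₂ hm₁,
      ((m₂ * m₁)⁻¹ * c₂ * (m₂ * m₁)) * (m₁⁻¹ * c₃ * m₁) * c₁, ?_, ?_⟩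
    · exact mul_mem (mul_mem (conj_inv_mem_centralizer_of_map hm₂m₁T hc₂)
        (conj_inv_mem_centralizer_of_map hm₁T hc₃T')) hc₁T
    · calc g = d⁻¹ * (d * g) := by group
        _ = (c₂ * e) * (m₁ * c₁) := by rw [hde, hdg]
        _ = (c₂ * (m₂ * c₃)) * (m₁ * c₁) := by rw [hem]
        _ = m₂ * m₁ * ((m₂ * m₁)⁻¹ * c₂ * (m₂ * m₁) * (m₁⁻¹ * c₃ * m₁) * c₁) := by group

/-- **Bender–Glauberman 16.1** (from S1410 and S1413(d)): the normalizer of a nilpotent Hall
subgroup controls fusion in it. -/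
theorem control (hG : Cfsg.IsMinSimpleOddOrder G) (h10 : Hyp10 G) (h13 : Hyp13 G)
    (H : Subgroup G) (hHn : Group.IsNilpotent H) (hHall : (Nat.card H).Coprime H.index) :
    ∀ x ∈ H, ∀ g : G, g * x * g⁻¹ ∈ H →
      ∃ n ∈ Subgroup.normalizer (H : Set G), n * x * n⁻¹ = g * x * g⁻¹ := by
  intro x hx g hgx
  obtain ⟨m, hm, c, hc, hgmc⟩ := control_aux hG h10 h13 hHn hHall _ (Subgroup.zpowers x)
    (Subgroup.zpowers_le.mpr hx) rfl g (by
      intro t ht
      obtain ⟨k, rfl⟩ := Subgroup.mem_zpowers_iff.mp ht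
      have e : g * x ^ k * g⁻¹ = (g * x * g⁻¹) ^ k := by
        have := map_zpow (MulAut.conj g) x k
        simpa using this
      rw [e]
      exact H.zpow_mem hgx k)
  refine ⟨m, hm, ?_⟩
  have h1 : c * x = x * c := mem_centralizer_iff'.mp hc x (Subgroup.mem_zpowers x)
  rw [hgmc]
  calc m * x * m⁻¹ = m * (x * c) * c⁻¹ * m⁻¹ := by group
    _ = m * (c * x) * c⁻¹ * m⁻¹ := by rw [h1]
    _ = m * c * x * (m * c)⁻¹ := by group

end

end Cfsg.Agent.Helper12.NHF
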