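import Mathlib
import Cfsg.Agent.Lib.Helper12.NHFMain

/-!
# S1384 from the frozen statements S1410 and S1413 (helper12)

`S1384_of` takes the frozen statements of S1410 and S1413 (for the group `G`) as hypotheses.
The S-file is then
`S1384_of hG (fun p _ L hL => Cfsg.Agent.S1410.result hG p L hL)
  (fun p _ P => Cfsg.Agent.S1413.result hG p P) H hHn hHall`.
-/

set_option autoImplicit false

namespace Cfsg.Agent.Helper12.NHF

theorem S1384_of {G : Type*} [Group G] [Finite G] (hG : Cfsg.IsMinSimpleOddOrder G)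
    (h1410 : ∀ (p : ℕ) [Fact p.Prime] (L : Subgroup G), L ≠ ⊤ → Cfsg.PLengthLE p 1 L)
    (h1413 : ∀ (p : ℕ) [Fact p.Prime] (P : Sylow p G),
      (∀ (Q : Subgroup G) (x : G), Q ≤ (P : Subgroup G) → Q.map (MulAut.conj x).toMonoidHom ≤ (P : Subgroup G) →
        ∃ y ∈ Subgroup.normalizer ((P : Subgroup G) : Set G), Q.map (MulAut.conj x).toMonoidHom = Q.map (MulAut.conj y).toMonoidHom) ∧
      (∀ Q : Subgroup G, Q ≤ (P : Subgroup G) →
        ¬ p ∣ ((P : Subgroup G) ⊓ Subgroup.normalizer (Q : Set G)).relIndex (Subgroup.normalizer (Q : Set G))) ∧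
      (∀ (R Q : Subgroup G), IsPGroup p R → Q ≤ (P : Subgroup G) ⊓ R →
        Subgroup.normalizer ((P : Subgroup G) : Set G) ≤ Subgroup.normalizer (Q : Set G) →
        Subgroup.normalizer (R : Set G) ≤ Subgroup.normalizer (Q : Set G)))
    (H : Subgroup G) (hHn : Group.IsNilpotent H) (hHall : (Nat.card H).Coprime H.index) :
    ∀ x ∈ H, ∀ g : G, g * x * g⁻¹ ∈ H →
      ∃ n ∈ Subgroup.normalizer (H : Set G), n * x * n⁻¹ = g * x * g⁻¹ :=
  control hG (fun p _ L hL => h1410 p L hL) (fun p _ P Q hQ => (h1413 p P).2.1 Q hQ) H hHn hHall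

end Cfsg.Agent.Helper12.NHF
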