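import Mathlib
import Cfsg.Agent.Lib.Helper7.BG13R
import Cfsg.Agent.Lib.Helper20.BG12C

/-!
# Bender-Glauberman section 14: the KEY LEMMA on normal `p`-complements (helper12)

If `K ⊴ L` has a normal `p`-complement, then every `p'`-subgroup `Y ≤ K` centralizes every
`p`-subgroup `S ≤ L` that it normalizes.
-/

set_option autoImplicit false
set_option linter.style.haveILetI false
set_option linter.unusedSectionVars false
set_option linter.unusedVariables false

namespace Cfsg.Agent.Helper12.BG14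

open Cfsg Subgroup

universe u

variable {G : Type u} [Group G] [Finite G]

/-- in a group with a normal `p`-complement `N`, the elements of order prime to `p` are exactly
the elements of `N` -/
theorem mem_normalPComplement_iff {K : Type u} [Group K] [Finite K] {p : ℕ} [Fact p.Prime]
    {P : Sylow p K} {N : Subgroup K} (hN : N.Normal) (hc : N.IsComplement' (P : Subgroup K))
    (y : K) : y ∈ N ↔ (orderOf y).Coprime p := by
  have hpp : p.Prime := Fact.out
  have hcard : Nat.card ↥N * Nat.card ↥(P : Subgroup K) = Nat.card K := hc.card_mul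
  have hidx : N.index = Nat.card ↥(P : Subgroup K) := by
    have h1 := N.card_mul_index
    have : Nat.card ↥N * N.index = Nat.card ↥N * Nat.card ↥(P : Subgroup K) := by
      rw [h1, hcard]
    exact Nat.eq_of_mul_eq_mul_left Nat.card_pos this
  have hNcop : (Nat.card ↥N).Coprime p := by
    rw [Nat.coprime_comm, Nat.Prime.coprime_iff_not_dvd hpp]
    intro hd
    have h2 : (P : Subgroup K).index = Nat.card ↥N := by
      have h1 := (P : Subgroup K).card_mul_index
      have : Nat.card ↥(P : Subgroup K) * (P : Subgroup K).index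
          = Nat.card ↥(P : Subgroup K) * Nat.card ↥N := by
        rw [h1, ← hcard, mul_comm]
      exact Nat.eq_of_mul_eq_mul_left Nat.card_pos this
    exact P.not_dvd_index (h2 ▸ hd)
  constructor
  · intro hy
    have h1 : orderOf (⟨y, hy⟩ : ↥N) ∣ Nat.card ↥N := orderOf_dvd_natCard _
    rw [Subgroup.orderOf_mk] at h1
    exact Nat.Coprime.coprime_dvd_left h1 hNcop
  · intro hy
    haveI := hN
    obtain ⟨k, hk⟩ := (P.isPGroup').exists_card_eq
    have h1 : (QuotientGroup.mk y : K ⧸ N) ^ (p ^ k) = 1 := by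
      have : Nat.card (K ⧸ N) = p ^ k := by
        rw [← hk, ← hidx]; rfl
      rw [← this]
      exact pow_card_eq_one'
    have h2 : (QuotientGroup.mk y : K ⧸ N) ^ orderOf y = 1 := by
      rw [← QuotientGroup.mk_pow, pow_orderOf_eq_one]; rfl
    have h3 : orderOf (QuotientGroup.mk y : K ⧸ N) ∣ Nat.gcd (orderOf y) (p ^ k) :=
      Nat.dvd_gcd (orderOf_dvd_of_pow_eq_one h2) (orderOf_dvd_of_pow_eq_one h1)
    have h4 : Nat.gcd (orderOf y) (p ^ k) = 1 := Nat.Coprime.pow_right k hy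
    rw [h4, Nat.dvd_one, orderOf_eq_one_iff] at h3
    exact (QuotientGroup.eq_one_iff y).mp h3

/-- **KEY LEMMA**: `K ≤ L` normalized by `L` with a normal `p`-complement, `S ≤ L` a `p`-group,
`Y ≤ K` a `p'`-group normalizing `S`.  Then `S` centralizes `Y`. -/
theorem centralizes_of_hasNormalPComplement {L K S Y : Subgroup G} {p : ℕ} [Fact p.Prime]
    (hLK : L ≤ normalizer (K : Set G)) (hnc : HasNormalPComplement p ↥K)
    (hSL : S ≤ L) (hS : IsPGroup p ↥S) (hYK : Y ≤ K) (hY : (Nat.card ↥Y).Coprime p)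
    (hYS : Y ≤ normalizer (S : Set G)) : S ≤ centralizer (Y : Set G) := by
  have hpp : p.Prime := Fact.out
  obtain ⟨P, N, hNn, hNP⟩ := hnc
  -- membership criterion in `N`, transported to `G`
  have hcrit : ∀ x : G, ∀ hx : x ∈ K, ((⟨x, hx⟩ : ↥K) ∈ N ↔ (orderOf x).Coprime p) := by
    intro x hx
    rw [mem_normalPComplement_iff hNn hNP, Subgroup.orderOf_mk]
  intro s hs
  rw [mem_centralizer_iff]
  intro y hy
  have hyK : y ∈ K := hYK hy
  have hyo : (orderOf y).Coprime p := by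
    have h1 : orderOf (⟨y, hy⟩ : ↥Y) ∣ Nat.card ↥Y := orderOf_dvd_natCard _
    rw [Subgroup.orderOf_mk] at h1
    exact Nat.Coprime.coprime_dvd_left h1 hY
  have hyN : (⟨y, hyK⟩ : ↥K) ∈ N := (hcrit y hyK).mpr hyo
  -- `s y s⁻¹ ∈ K` has the same order
  have hsK : s * y * s⁻¹ ∈ K := by
    have := (Subgroup.mem_normalizer_iff.mp (hLK (hSL hs))) y
    exact this.mp hyK
  have hsN : (⟨s * y * s⁻¹, hsK⟩ : ↥K) ∈ N := by
    rw [hcrit]
    have : orderOf (s * y * s⁻¹) = orderOf y := by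
      have h := (MulAut.conj s).orderOf_eq y
      rwa [MulAut.conj_apply] at h
    rw [this]; exact hyo
  -- the commutator `c = s y s⁻¹ y⁻¹`
  have hcK : s * y * s⁻¹ * y⁻¹ ∈ K := K.mul_mem hsK (K.inv_mem hyK)
  have hcN : (⟨s * y * s⁻¹ * y⁻¹, hcK⟩ : ↥K) ∈ N := by
    have := N.mul_mem hsN (N.inv_mem hyN)
    exact this
  have hco : (orderOf (s * y * s⁻¹ * y⁻¹)).Coprime p := (hcrit _ hcK).mp hcN
  have hcS : s * y * s⁻¹ * y⁻¹ ∈ S := by
    have h1 : y * s⁻¹ * y⁻¹ ∈ S :=
      (Subgroup.mem_normalizer_iff.mp (hYS hy) s⁻¹).mp (S.inv_mem hs)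
    have : s * y * s⁻¹ * y⁻¹ = s * (y * s⁻¹ * y⁻¹) := by group
    rw [this]
    exact S.mul_mem hs h1
  obtain ⟨k, hk⟩ := hS ⟨_, hcS⟩
  have hk' : (s * y * s⁻¹ * y⁻¹) ^ (p ^ k) = 1 := by simpa using congrArg Subtype.val hk
  have h1 : orderOf (s * y * s⁻¹ * y⁻¹) ∣ Nat.gcd (orderOf (s * y * s⁻¹ * y⁻¹)) (p ^ k) :=
    Nat.dvd_gcd dvd_rfl (orderOf_dvd_of_pow_eq_one hk')
  rw [Nat.Coprime.pow_right k hco, Nat.dvd_one, orderOf_eq_one_iff] at h1
  -- `s y s⁻¹ y⁻¹ = 1` gives `y s = s y`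
  have : s * y = y * s := by
    have h2 : s * y * s⁻¹ * y⁻¹ * (y * s) = y * s := by rw [h1, one_mul]
    have h3 : s * y * s⁻¹ * y⁻¹ * (y * s) = s * y := by group
    rw [← h3, h2]
  exact this.symm

end Cfsg.Agent.Helper12.BG14
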