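import Mathlib
import Cfsg.Agent.Lib.Helper12.BG14G2A

/-!
# Bender-Glauberman section 14: LEMMA G2 (helper14's proof, board msg 1962 (I)) (helper12)

`M` maximal, `X ≤ M` of prime order `p ∉ σ(M)`, `M` of `p`-rank 1, `Y₀ ≤ C_{M_σ}(X)` of prime
order with `𝓜(C_G(Y₀)) = {M}`, `H ∈ 𝓜(N_G(X))`.  Then `p ∈ σ(H)`.
-/

set_option autoImplicit false
set_option linter.style.haveILetI false
set_option linter.unusedSectionVars false
set_option linter.unusedVariables false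

namespace Cfsg.Agent.Helper12.BG14

open Cfsg Subgroup
open scoped commutatorElement
open Cfsg.Agent.Helper14.BGTrans Cfsg.Agent.Helper14.BGUniq
open Cfsg.Agent.Helper10 (IsPiNum)
open Cfsg.Agent.Helper15 (IsSylowIn isSylowIn_of_sylow_le isSylowIn_map_subtype isSylowIn_top
  map_conj_eq_of_mem_normalizer map_conj_map_conj card_map_conj map_conj_one
  map_conj_map_conj_inv map_conj_inv_map_conj isPGroup_map_conj map_conj_mono
  map_conj_eq_self_of_mem exists_isSylowIn_ge exists_isSylowIn isSylowIn_of_not_dvd_relIndex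
  isSylowIn_of_card)
open Cfsg.Agent.Helper22.BG13
open Cfsg.Agent.Helper18.BG13P

universe u

variable {G : Type u} [Group G] [Finite G]

/-- second part of the statement of S1378 -/
def H1378b (G : Type u) [Group G] : Prop :=
  ∀ M N : Subgroup G, IsCoatom M → IsCoatom N → (sigma M ∩ sigma N).Nonempty →
    ∃ g : G, N = M.map (MulAut.conj g).toMonoidHom

/-- the `β`-case of the statement of S1423 (first conclusion) -/
def H1423β (G : Type u) [Group G] : Prop :=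
  ∀ (M : Subgroup G), IsCoatom M → ∀ p : ℕ, p ∈ sigma M → p ∈ beta M →
    ∀ X : Subgroup G, X ≤ M → Nat.card ↥X = p →
      centralizer (X : Set G) ≤ M ∧
        ∀ L : Subgroup G, IsCoatom L → centralizer (X : Set G) ≤ L → L = M

/-- THEOREM A (BG 13.6 + S1423): `X ≤ M` of order `p ∈ τ₁(M)`, `Y₀ ≤ C_{M_σ}(X)` of prime order;
then `𝓜(C_G(Y₀)) = {M}` -/
def HypThmA (G : Type u) [Group G] : Prop :=
  ∀ (M : Subgroup G), IsCoatom M → ∀ p : ℕ, p ∈ tau1 M →
    ∀ X : Subgroup G, X ≤ M → Nat.card ↥X = p →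
      ∀ Y₀ : Subgroup G, Y₀ ≤ sigmaCore M ⊓ centralizer (X : Set G) → (Nat.card ↥Y₀).Prime →
        centralizer (Y₀ : Set G) ≤ M ∧
          ∀ L : Subgroup G, IsCoatom L → centralizer (Y₀ : Set G) ≤ L → L = M

/-- a subgroup of prime order `q ∈ τ₃(L)` lies in `L'` -/
theorem le_commutator_of_mem_tau3 (hG : IsMinSimpleOddOrder G) (h1350 : Hyp1350 G)
    (h1415 : H1415 G) {L Y : Subgroup G} {q : ℕ} [Fact q.Prime] (hL : IsCoatom L)
    (hq : q ∈ tau3 L) (hYL : Y ≤ L) (hYc : Nat.card ↥Y = q) : Y ≤ ⁅L, L⁆ := by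
  have hqq : q.Prime := Fact.out
  have hsolvL : Group.IsSolvable ↥L := isSolvable_of_ne_top hG hL.1
  obtain ⟨hLhall, -, -⟩ := h1350 L hL
  have hcopL := coprime_of_isPiHallOf hLhall
  have hYcop : (Nat.card ↥Y).Coprime (Nat.card ↥(sigmaCore L)) := by
    rw [hYc]
    exact (Nat.Prime.coprime_iff_not_dvd hqq).mpr (not_dvd_card_sigmaCore hqq hq.2.1)
  obtain ⟨EL, hEL, hYEL⟩ := exists_isComplIn_ge hsolvL (sigmaCore_le L) hcopL hYL hYcop
  have hELtop : EL ≠ ⊤ := fun h => hL.1 (top_le_iff.mp (h ▸ hEL.1))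
  have hsolvE : Group.IsSolvable ↥EL := isSolvable_of_ne_top hG hELtop
  obtain ⟨E₃, hRE₃, hE₃⟩ := Cfsg.Agent.Helper4.BGSig.exists_isPiHallOf_ge hsolvE (tau3 L) hYEL
    (fun s hs hsd => by
      rw [hYc] at hsd
      rw [(Nat.prime_dvd_prime_iff_eq hs hqq).mp hsd]
      exact hq)
  obtain ⟨-, hE₃', -⟩ := (h1415 L hL EL hEL).2.2 E₃ hE₃
  exact (hRE₃.trans hE₃').trans (Subgroup.commutator_mono hEL.1 hEL.1)

/-- **LEMMA G2** -/
theorem lemma_G2 (hG : IsMinSimpleOddOrder G) (h1350 : Hyp1350 G) (h1403 : Hyp1403 G)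
    (h1409 : H1409 G) (h1414 : Hyp1414 G) (h1415 : H1415 G) (h1418 : Hyp1418 G)
    (h78 : H1378b G) (h23 : H1423β G) (hA : HypThmA G)
    {M X Y₀ H : Subgroup G} {p : ℕ} [Fact p.Prime] (hM : IsCoatom M) (hXM : X ≤ M)
    (hX : Nat.card ↥X = p) (hpM : p ∉ sigma M) (hr1 : PRankLE p 1 ↥M)
    (hY₀ : Y₀ ≤ sigmaCore M ⊓ centralizer (X : Set G)) (hY₀c : (Nat.card ↥Y₀).Prime)
    (hY₀M : centralizer (Y₀ : Set G) ≤ M)
    (hY₀u : ∀ L : Subgroup G, IsCoatom L → centralizer (Y₀ : Set G) ≤ L → L = M)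
    (hH : IsCoatom H) (hNH : normalizer (X : Set G) ≤ H) : p ∈ sigma H := by
  have hpp : p.Prime := Fact.out
  by_contra hpH
  obtain ⟨⟨hr2H, hr1H⟩, -, -⟩ := h1409 H hH p hpH X hX hNH
  have hτ : p ∈ tau2 H := ⟨hpp, hpH, hr2H, hr1H⟩
  generalize hq : Nat.card ↥Y₀ = q at hY₀c
  haveI : Fact q.Prime := ⟨hY₀c⟩
  have hXp : IsPGroup p ↥X := IsPGroup.of_card (n := 1) (by rw [hX, pow_one])
  have hX1 : X ≠ ⊥ := card_prime_ne_bot hX
  have hYq : IsPGroup q ↥Y₀ := IsPGroup.of_card (n := 1) (by rw [hq, pow_one])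
  have hXH : X ≤ H := Subgroup.le_normalizer.trans hNH
  have hCXH : centralizer (X : Set G) ≤ H := (Subgroup.centralizer_le_normalizer _).trans hNH
  have hYH : Y₀ ≤ H := (hY₀.trans inf_le_right).trans hCXH
  have hYσ : Y₀ ≤ sigmaCore M := hY₀.trans inf_le_left
  have hYCX : Y₀ ≤ centralizer (X : Set G) := hY₀.trans inf_le_right
  have hXCY : X ≤ centralizer (Y₀ : Set G) := Subgroup.le_centralizer_iff.mp hYCX
  -- `q ∈ σ(M)`
  have hqM : q ∈ sigma M := by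
    apply isPiNum_card_sigmaCore M q hY₀c
    rw [← hq]; exact Subgroup.card_dvd_of_le hYσ
  -- `q ∉ σ(H)`
  have hqH : q ∉ sigma H := by
    intro h
    obtain ⟨g, hg⟩ := h78 M H hM hH ⟨q, hqM, h⟩
    apply hr1H
    rw [hg]
    exact pRankLE_map_conj hr1 g
  -- a complement `E_H` containing `X Y₀`
  have hsolvH : Group.IsSolvable ↥H := isSolvable_of_ne_top hG hH.1
  obtain ⟨hHhall, -, -⟩ := h1350 H hH
  have hcopH := coprime_of_isPiHallOf hHhall
  have hDH : X ⊔ Y₀ ≤ H := sup_le hXH hYH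
  have hDcop : (Nat.card ↥(X ⊔ Y₀ : Subgroup G)).Coprime (Nat.card ↥(sigmaCore H)) := by
    have h1 : Nat.card ↥(X ⊔ Y₀ : Subgroup G) ∣ Nat.card ↥X * Nat.card ↥Y₀ :=
      Cfsg.Agent.Helper7.card_sup_dvd_mul_of_le_normalizer
        (hYCX.trans (Subgroup.centralizer_le_normalizer _))
    apply Nat.Coprime.coprime_dvd_left h1
    rw [hX, hq]
    exact Nat.Coprime.mul_left
      ((Nat.Prime.coprime_iff_not_dvd hpp).mpr (not_dvd_card_sigmaCore hpp hpH))
      ((Nat.Prime.coprime_iff_not_dvd hY₀c).mpr (not_dvd_card_sigmaCore hY₀c hqH))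
  obtain ⟨EH, hEH, hDEH⟩ := exists_isComplIn_ge hsolvH (sigmaCore_le H) hcopH hDH hDcop
  obtain ⟨A, hAE, hAe, hAc⟩ :=
    Cfsg.Agent.Helper20.BG12.exists_elemAb_sq_le_compl hHhall hEH hτ
  obtain ⟨⟨hEN, hall⟩, ⟨hCA, hMN, hNA⟩, -⟩ := h1418 H hH EH hEH p hτ A ⟨hAE, hAe, hAc⟩
  have hXA : X ≤ A := hall X (le_sup_left.trans hDEH) hX
  have hAp : IsPGroup p ↥A := IsPGroup.of_card (n := 2) hAc
  have hA1 : A ≠ ⊥ := by
    intro h
    rw [h, Subgroup.card_bot] at hAc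
    have := hpp.one_lt
    nlinarith
  -- `L ∈ 𝓜(N_G(A))`
  obtain ⟨L, hL, hNL⟩ := exists_isCoatom_ge (normalizer_ne_top_of_isPGroup hG hAp hA1)
  have hAL : A ≤ L := Subgroup.le_normalizer.trans hNL
  have hLH : L ≠ H := fun h => hNA (h ▸ hNL)
  have hsolvL : Group.IsSolvable ↥L := isSolvable_of_ne_top hG hL.1
  obtain ⟨hLhall, -, -⟩ := h1350 L hL
  have hcopL := coprime_of_isPiHallOf hLhall
  have hlt : p ^ 1 < Nat.card ↥A := by
    rw [hAc, pow_one]
    have := hpp.one_lt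
    nlinarith
  -- `p ∈ σ(L)`
  have hpL : p ∈ sigma L := by
    by_contra hpL
    have hr1L : ¬ PRankLE p 1 ↥L := not_pRankLE_of_le hAL hAe hlt
    have hr2L : PRankLE p 2 ↥L := by
      by_contra h
      exact hpL (Cfsg.Agent.Helper23.BG10.alpha_subset_sigma hG h1403 hL ⟨hpp, h⟩)
    have hτL : p ∈ tau2 L := ⟨hpp, hpL, hr2L, hr1L⟩
    have hAcop : (Nat.card ↥A).Coprime (Nat.card ↥(sigmaCore L)) := by
      rw [hAc]
      exact Nat.Coprime.pow_left 2
        ((Nat.Prime.coprime_iff_not_dvd hpp).mpr (not_dvd_card_sigmaCore hpp hpL))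
    obtain ⟨EL, hEL, hAEL⟩ := exists_isComplIn_ge hsolvL (sigmaCore_le L) hcopL hAL hAcop
    obtain ⟨-, ⟨-, -, hNAL⟩, -⟩ := h1418 L hL EL hEL p hτL A ⟨hAEL, hAe, hAc⟩
    exact hNAL hNL
  have hAσ : A ≤ sigmaCore L :=
    le_sigmaCore_of_isPiNum h1350 hL hAL (isPiNum_of_isPGroup hpL hAp)
  have hXσ : X ≤ sigmaCore L := hXA.trans hAσ
  have hXL : X ≤ L := hXA.trans hAL
  have hYL : Y₀ ≤ L := (le_sup_right.trans hDEH).trans (hEN.trans hNL)
  -- `q ∉ σ(L)`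
  have hqL : q ∉ sigma L := by
    intro h
    obtain ⟨g, hg⟩ := h78 M L hM hL ⟨q, hqM, h⟩
    rw [hg] at hpL
    exact hpM (mem_sigma_of_map_conj hpL)
  have hne : sigmaCore L ⊓ centralizer (Y₀ : Set G) ≠ ⊥ := by
    intro h
    have : X ≤ sigmaCore L ⊓ centralizer (Y₀ : Set G) := le_inf hXσ hXCY
    rw [h] at this
    exact hX1 (le_bot_iff.mp this)
  have hqdL : q ∣ Nat.card ↥L := by
    rw [← hq]; exact Subgroup.card_dvd_of_le hYL
  have hpdL : p ∣ Nat.card ↥L := by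
    rw [← hX]; exact Subgroup.card_dvd_of_le hXL
  have hq2L : PRankLE q 2 ↥L := by
    by_contra h
    exact hqL (Cfsg.Agent.Helper23.BG10.alpha_subset_sigma hG h1403 hL ⟨hY₀c, h⟩)
  have hYcop : (Nat.card ↥Y₀).Coprime (Nat.card ↥(sigmaCore L)) := by
    rw [hq]
    exact (Nat.Prime.coprime_iff_not_dvd hY₀c).mpr (not_dvd_card_sigmaCore hY₀c hqL)
  -- `C_G(X) ≤ L` uniquely is impossible
  have hnotuniq : ¬ (∀ L' : Subgroup G, IsCoatom L' → centralizer (X : Set G) ≤ L' → L' = L) :=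
    fun h => hLH (h H hH hCXH).symm
  by_cases hq1L : PRankLE q 1 ↥L
  · by_cases hqL' : q ∣ Nat.card ↥⁅L, L⁆
    · -- `q ∈ τ₃(L)`
      have hτ3 : q ∈ tau3 L := ⟨hY₀c, hqL, hqL', hq1L⟩
      by_cases hβ : p ∈ beta L
      · exact hnotuniq (h23 L hL p hpL hβ X hXL hX).2
      · have hnc : HasNormalPComplement p ↥⁅L, L⁆ :=
          ((h1414 L hL).2.2.2.2 p hpp hpdL hβ).1
        have hYL' : Y₀ ≤ ⁅L, L⁆ := le_commutator_of_mem_tau3 hG h1350 h1415 hL hτ3 hYL hq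
        have hσq : (Nat.card ↥(sigmaCore L)).Coprime q := by
          rw [Nat.coprime_comm]
          exact (Nat.Prime.coprime_iff_not_dvd hY₀c).mpr (not_dvd_card_sigmaCore hY₀c hqL)
        obtain ⟨S, hSσ, hSp, hSc, hYS⟩ :=
          Cfsg.Agent.Helper15.exists_invariant_sylow_of_coprime (p := q) p hYq hσq
            (hYL.trans (le_normalizer_sigmaCore L))
        have hSL : S ≤ L := hSσ.trans (sigmaCore_le L)
        have hqp : (Nat.card ↥Y₀).Coprime p := by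
          rw [hq, Nat.coprime_primes hY₀c hpp]
          rintro rfl
          exact hqL hpL
        have hSC : S ≤ centralizer (Y₀ : Set G) :=
          centralizes_of_hasNormalPComplement
            (le_normalizer_commutator_of_le Subgroup.le_normalizer Subgroup.le_normalizer)
            hnc hSL hSp hYL' hqp hYS
        -- `S` is a Sylow `p`-subgroup of `L`
        have hSσs : IsSylowIn p S (sigmaCore L) := isSylowIn_of_card hSσ hSc
        obtain ⟨T, hST, hT⟩ := exists_isSylowIn_ge hSp hSL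
        have hTσ : T ≤ sigmaCore L :=
          le_sigmaCore_of_isPiNum h1350 hL hT.le (isPiNum_of_isPGroup hpL hT.isPGroup)
        have hTS : T = S := hSσs.eq_of_le hT.isPGroup hST hTσ
        rw [hTS] at hT
        obtain ⟨T', hAT', hT'⟩ := exists_isSylowIn_ge hAp hAL
        obtain ⟨l, hl, hconj⟩ := hT'.exists_conj hT
        have hAS : A.map (MulAut.conj l).toMonoidHom ≤ S := by
          rw [← hconj]; exact map_conj_mono hAT' l
        have hAM' : A.map (MulAut.conj l).toMonoidHom ≤ M := (hAS.trans hSC).trans hY₀M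
        have hlt' : p ^ 1 < Nat.card ↥(A.map (MulAut.conj l).toMonoidHom) := by
          rw [card_map_conj]; exact hlt
        exact not_pRankLE_of_le hAM'
          (Cfsg.Agent.Helper20.BG12.isElementaryAbelian_map_conj hAe l) hlt' hr1
    · -- `q ∈ τ₁(L)`
      have hτ1 : q ∈ tau1 L := ⟨hY₀c, hqL, hqdL, hqL', hq1L⟩
      exact hnotuniq (hA L hL q hτ1 Y₀ hYL hq X (le_inf hXσ hXCY) (by rw [hX]; exact hpp)).2
  · -- `q ∈ τ₂(L)`
    have hτ2 : q ∈ tau2 L := ⟨hY₀c, hqL, hq2L, hq1L⟩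
    obtain ⟨EL, hEL, hYEL⟩ := exists_isComplIn_ge hsolvL (sigmaCore_le L) hcopL hYL hYcop
    obtain ⟨B, hBE, hBe, hBc⟩ :=
      Cfsg.Agent.Helper20.BG12.exists_elemAb_sq_le_compl hLhall hEL hτ2
    obtain ⟨⟨-, hallB⟩, -, h3⟩ := h1418 L hL EL hEL q hτ2 B ⟨hBE, hBe, hBc⟩
    have hYB : Y₀ ≤ B := hallB Y₀ hYEL hq
    obtain ⟨hCYL, -⟩ := h3 Y₀ hYB hq hne
    have hLM : L = M := hY₀u L hL hCYL
    rw [hLM] at hpL
    exact hpM hpL

end Cfsg.Agent.Helper12.BG14
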