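import Mathlib
import Cfsg.Agent.Lib.Helper12.BG14G2B

/-!
# Bender-Glauberman section 14: the two ready-to-use forms of LEMMA G2 (helper12)

`X ≤ M` of prime order `p ∈ τ₁(M)` (resp. `p ∈ τ₃(M)`, `X` inside a complement `E` of `M_σ`),
`C_{M_σ}(X) ≠ 1`, `H ∈ 𝓜(N_G(X))`.  Then `p ∈ σ(H)`.
-/

set_option autoImplicit false
set_option linter.style.haveILetI false
set_option linter.unusedSectionVars false
set_option linter.unusedVariables false

namespace Cfsg.Agent.Helper12.BG14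

open Cfsg Subgroup
open scoped commutatorElement
open Cfsg.Agent.Helper14.BGTrans Cfsg.Agent.Helper14.BGUniq
open Cfsg.Agent.Helper10 (IsPiNum)
open Cfsg.Agent.Helper22.BG13
open Cfsg.Agent.Helper18.BG13P

universe u

variable {G : Type u} [Group G] [Finite G]

/-- the `(M_σ)'`-case of the statement of S1423 (first conclusion) -/
def H1423' (G : Type u) [Group G] : Prop :=
  ∀ (M : Subgroup G), IsCoatom M → ∀ p : ℕ, p ∈ sigma M →
    ∀ X : Subgroup G, X ≤ M → Nat.card ↥X = p → X ≤ ⁅sigmaCore M, sigmaCore M⁆ →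
      centralizer (X : Set G) ≤ M ∧
        ∀ L : Subgroup G, IsCoatom L → centralizer (X : Set G) ≤ L → L = M

/-- the first clause of the statement of S1426 -/
def H1426a (G : Type u) [Group G] : Prop :=
  ∀ (M : Subgroup G), IsCoatom M → ∀ E : Subgroup G, IsComplIn E (sigmaCore M) M →
    sigmaCore M ⊓ centralizer (E : Set G) ≤ ⁅sigmaCore M, sigmaCore M⁆

omit [Finite G] in
/-- a nontrivial finite subgroup contains a subgroup of prime order -/
theorem exists_le_card_prime [Finite G] {D : Subgroup G} (hD : D ≠ ⊥) :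
    ∃ Y : Subgroup G, Y ≤ D ∧ (Nat.card ↥Y).Prime := by
  have h1 : Nat.card ↥D ≠ 1 := by
    intro h
    exact hD (Subgroup.card_eq_one.mp h)
  obtain ⟨q, hq, hqd⟩ := Nat.exists_prime_and_dvd h1
  haveI : Fact q.Prime := ⟨hq⟩
  obtain ⟨y, hy⟩ := exists_prime_orderOf_dvd_card' q hqd
  refine ⟨zpowers (y : G), ?_, ?_⟩
  · rw [Subgroup.zpowers_le]; exact y.2
  · rw [Nat.card_zpowers, Subgroup.orderOf_coe, hy]; exact hq

/-- **LEMMA G2 for `p ∈ τ₁(M)`** -/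
theorem G2_tau1 (hG : IsMinSimpleOddOrder G) (h1350 : Hyp1350 G) (h1403 : Hyp1403 G)
    (h1409 : H1409 G) (h1414 : Hyp1414 G) (h1415 : H1415 G) (h1418 : Hyp1418 G)
    (h78 : H1378b G) (h23 : H1423β G) (hA : HypThmA G)
    {M X H : Subgroup G} {p : ℕ} (hM : IsCoatom M) (hp : p ∈ tau1 M) (hXM : X ≤ M)
    (hX : Nat.card ↥X = p) (hne : sigmaCore M ⊓ centralizer (X : Set G) ≠ ⊥)
    (hH : IsCoatom H) (hNH : normalizer (X : Set G) ≤ H) : p ∈ sigma H := by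
  have hpp : p.Prime := hp.1
  have hpM : p ∉ sigma M := hp.2.1
  have hr1 : PRankLE p 1 ↥M := hp.2.2.2.2
  haveI : Fact p.Prime := ⟨hpp⟩
  obtain ⟨Y₀, hY₀, hY₀c⟩ := exists_le_card_prime hne
  obtain ⟨hY₀M, hY₀u⟩ := hA M hM p hp X hXM hX Y₀ hY₀ hY₀c
  exact lemma_G2 hG h1350 h1403 h1409 h1414 h1415 h1418 h78 h23 hA hM hXM hX hpM hr1 hY₀ hY₀c
    hY₀M hY₀u hH hNH

/-- a subgroup of prime order `p ∈ τ₃(M)` of a complement `E` of `M_σ` is normal in `E` -/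
theorem le_normalizer_of_mem_tau3 (hG : IsMinSimpleOddOrder G) (h1415 : H1415 G)
    {M E X : Subgroup G} {p : ℕ} (hM : IsCoatom M) (hE : IsComplIn E (sigmaCore M) M)
    (hp : p ∈ tau3 M) (hXE : X ≤ E) (hX : Nat.card ↥X = p) : E ≤ normalizer (X : Set G) := by
  have hpp : p.Prime := hp.1
  have hEtop : E ≠ ⊤ := fun h => hM.1 (top_le_iff.mp (h ▸ hE.1))
  have hsolvE : Group.IsSolvable ↥E := isSolvable_of_ne_top hG hEtop
  obtain ⟨E₃, hXE₃, hE₃⟩ := Cfsg.Agent.Helper4.BGSig.exists_isPiHallOf_ge hsolvE (tau3 M) hXE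
    (fun s hs hsd => by
      rw [hX] at hsd
      rw [(Nat.prime_dvd_prime_iff_eq hs hpp).mp hsd]
      exact hp)
  obtain ⟨hcyc, -, hnorm⟩ := (h1415 M hM E hE).2.2 E₃ hE₃
  intro g hg
  have hgN := hnorm hg
  rw [Subgroup.mem_normalizer_iff]
  -- `X^g ≤ E₃` has the same order as `X`
  have hconj : X.map (MulAut.conj g).toMonoidHom = X := by
    apply Cfsg.Agent.Helper23.subgroup_eq_of_card_eq_of_le_cyclic E₃ hcyc _ hXE₃
    · rw [Cfsg.Agent.Helper15.card_map_conj]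
    · rintro _ ⟨x, hx, rfl⟩
      exact (Subgroup.mem_normalizer_iff.mp hgN x).mp (hXE₃ hx)
  have hconj' : X.map (MulAut.conj g⁻¹).toMonoidHom = X := by
    conv_lhs => rw [← hconj]
    exact Cfsg.Agent.Helper15.map_conj_inv_map_conj X g
  intro x
  constructor
  · intro hx
    rw [← hconj]
    exact ⟨x, hx, rfl⟩
  · intro hx
    have : g⁻¹ * (g * x * g⁻¹) * g⁻¹⁻¹ ∈ X := by
      rw [← hconj']
      exact ⟨g * x * g⁻¹, hx, rfl⟩
    have h2 : g⁻¹ * (g * x * g⁻¹) * g⁻¹⁻¹ = x := by group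
    rwa [h2] at this

/-- **LEMMA G2 for `p ∈ τ₃(M)`** -/
theorem G2_tau3 (hG : IsMinSimpleOddOrder G) (h1350 : Hyp1350 G) (h1403 : Hyp1403 G)
    (h1404 : Hyp1404 G) (h1408 : Cfsg.Agent.Helper7.BG13R.H1408 G)
    (h1409 : H1409 G) (h1413 : Hyp1413 G) (h1414 : Hyp1414 G) (h1415 : H1415 G)
    (h1416 : Hyp1416 G) (h1417 : Hyp1417 G) (h1418 : Hyp1418 G)
    (h78 : H1378b G) (h23 : H1423β G) (h23' : H1423' G) (h26 : H1426a G) (hA : HypThmA G)
    {M E X H : Subgroup G} {p : ℕ} (hM : IsCoatom M) (hE : IsComplIn E (sigmaCore M) M)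
    (hp : p ∈ tau3 M) (hXE : X ≤ E)
    (hX : Nat.card ↥X = p) (hne : sigmaCore M ⊓ centralizer (X : Set G) ≠ ⊥)
    (hH : IsCoatom H) (hNH : normalizer (X : Set G) ≤ H) : p ∈ sigma H := by
  obtain ⟨hpp, hpM, hpM', hr1⟩ := hp
  have hp : p ∈ tau3 M := ⟨hpp, hpM, hpM', hr1⟩
  haveI : Fact p.Prime := ⟨hpp⟩
  have hXM : X ≤ M := hXE.trans hE.1
  by_contra hpH
  obtain ⟨⟨hr2H, hr1H⟩, -, -⟩ := h1409 H hH p hpH X hX hNH
  have hτ : p ∈ tau2 H := ⟨hpp, hpH, hr2H, hr1H⟩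
  have hconj : ∀ g : G, H ≠ M.map (MulAut.conj g).toMonoidHom := by
    intro g hg
    apply hr1H
    rw [hg]
    exact pRankLE_map_conj hr1 g
  have hXp : IsPGroup p ↥X := IsPGroup.of_card (n := 1) (by rw [hX, pow_one])
  have hX1 : X ≠ ⊥ := card_prime_ne_bot hX
  have hXH : X ≤ H := Subgroup.le_normalizer.trans hNH
  have hs := Cfsg.Agent.Helper7.BG13R.strong_propA hG h1403 h1404 h1413 h1416 h1350 h1414 h1417
    h1418 h1415 h1408 hM hH hconj hpM hτ hXp hX1 hXM hXH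
  rw [Subgroup.commutator_eq_bot_iff_le_centralizer] at hs
  have hEN : E ≤ normalizer (X : Set G) := le_normalizer_of_mem_tau3 hG h1415 hM hE hp hXE hX
  have hEMH : E ≤ M ⊓ H := le_inf hE.1 (hEN.trans hNH)
  have hCXH : centralizer (X : Set G) ≤ H := (Subgroup.centralizer_le_normalizer _).trans hNH
  have hYE : sigmaCore M ⊓ centralizer (X : Set G) ≤ sigmaCore M ⊓ centralizer (E : Set G) :=
    le_inf inf_le_left
      (((inf_le_inf_left _ hCXH).trans hs).trans (Subgroup.centralizer_le hEMH))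
  obtain ⟨Y₀, hY₀, hY₀c⟩ := exists_le_card_prime hne
  have hY₀' : Y₀ ≤ ⁅sigmaCore M, sigmaCore M⁆ := (hY₀.trans hYE).trans (h26 M hM E hE)
  have hY₀σ : Y₀ ≤ sigmaCore M := hY₀.trans inf_le_left
  have hqM : Nat.card ↥Y₀ ∈ sigma M :=
    isPiNum_card_sigmaCore M _ hY₀c (Subgroup.card_dvd_of_le hY₀σ)
  obtain ⟨hY₀M, hY₀u⟩ := h23' M hM _ hqM Y₀ (hY₀σ.trans (sigmaCore_le M)) rfl hY₀'
  exact hpH (lemma_G2 hG h1350 h1403 h1409 h1414 h1415 h1418 h78 h23 hA hM hXM hX hpM hr1 hY₀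
    hY₀c hY₀M hY₀u hH hNH)

end Cfsg.Agent.Helper12.BG14
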