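import Mathlib
import Cfsg.Agent.Lib.Helper12.BG14G2C
import Cfsg.Agent.Lib.Helper10.BG13S2
import Cfsg.Agent.Lib.Helper4.BGSigH
import Cfsg.Agent.Lib.Helper18.Winter1
import Cfsg.Agent.Lib.Helper11.BG1413A
import Cfsg.Agent.S0025

/-!
# Bender-Glauberman 13.6 = THEOREM A (helper20's proof, board msg 1929) (helper12)

`M` maximal, `X ≤ M` of order `p ∈ τ₁(M)`, `Y₀ ≤ C_{M_σ}(X)` of prime order `q`.  Then
`q ∈ β(M)` or `Y₀ ≤ (M_σ)'`; hence (S1423) `𝓜(C_G(Y₀)) = {M}`.
-/

set_option autoImplicit false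
set_option linter.style.haveILetI false
set_option linter.unusedSectionVars false
set_option linter.unusedVariables false

namespace Cfsg.Agent.Helper12.BG14

open Cfsg Subgroup
open scoped commutatorElement
open Cfsg.Agent.Helper14.BGTrans Cfsg.Agent.Helper14.BGUniq
open Cfsg.Agent.Helper10 (IsPiNum)
open Cfsg.Agent.Helper15 (IsSylowIn isSylowIn_map_subtype exists_isSylowIn_ge exists_isSylowIn
  isSylowIn_of_not_dvd_relIndex)
open Cfsg.Agent.Helper22.BG13
open Cfsg.Agent.Helper18.BG13P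

universe u

variable {G : Type u} [Group G] [Finite G]

omit [Finite G] in
/-- a subgroup of `E` containing a Sylow `r`-subgroup of `E` for every prime `r` is `E` -/
theorem eq_of_forall_sylow_le [Finite G] {E D : Subgroup G} (hDE : D ≤ E)
    (h : ∀ r : ℕ, r.Prime → r ∣ Nat.card ↥E → ∃ T : Subgroup G, IsSylowIn r T E ∧ T ≤ D) :
    D = E := by
  apply Subgroup.eq_of_le_of_card_ge hDE
  apply Nat.le_of_dvd Nat.card_pos
  rw [← Nat.factorization_prime_le_iff_dvd Nat.card_pos.ne' Nat.card_pos.ne']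
  intro r hr
  haveI : Fact r.Prime := ⟨hr⟩
  by_cases hrd : r ∣ Nat.card ↥E
  · obtain ⟨T, hT, hTD⟩ := h r hr hrd
    have h1 : Nat.card ↥T ∣ Nat.card ↥D := Subgroup.card_dvd_of_le hTD
    rw [hT.card_eq] at h1
    exact (hr.pow_dvd_iff_le_factorization Nat.card_pos.ne').mp h1
  · rw [Nat.factorization_eq_zero_of_not_dvd hrd]
    exact Nat.zero_le _

omit [Finite G] in
/-- a subgroup of prime order is generated by an element of that order -/
theorem exists_zpowers_eq_of_card [Finite G] {p : ℕ} [hp : Fact p.Prime] {X : Subgroup G}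
    (hX : Nat.card ↥X = p) : ∃ x : G, x ∈ X ∧ X = zpowers x ∧ orderOf x = p := by
  have hX1 : X ≠ ⊥ := card_prime_ne_bot hX
  obtain ⟨x, hxX, hx1⟩ : ∃ x : G, x ∈ X ∧ x ≠ 1 := by
    obtain ⟨a, ha⟩ := Subgroup.ne_bot_iff_exists_ne_one.mp hX1
    exact ⟨(a : G), a.2, fun h => ha (Subtype.ext h)⟩
  have hle : zpowers x ≤ X := by rw [Subgroup.zpowers_le]; exact hxX
  have hd : orderOf x ∣ p := by
    have := orderOf_dvd_natCard (⟨x, hxX⟩ : ↥X)
    rwa [Subgroup.orderOf_mk, hX] at this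
  have ho : orderOf x = p := by
    rcases (Nat.dvd_prime hp.out).mp hd with h | h
    · exact absurd (orderOf_eq_one_iff.mp h) hx1
    · exact h
  refine ⟨x, hxX, ?_, ho⟩
  symm
  apply Subgroup.eq_of_le_of_card_ge hle
  rw [Nat.card_zpowers, ho, hX]

/-- **THEOREM A, first form**: `q ∈ β(M)` or `Y₀ ≤ (M_σ)'` -/
theorem thmA_aux (hG : IsMinSimpleOddOrder G) (h1350 : Hyp1350 G) (h1403 : Hyp1403 G)
    (h1414 : Hyp1414 G) (h1415 : H1415 G) (h1417 : Hyp1417 G) (h1418 : Hyp1418 G)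
    (h26 : H1426a G) (h27 : Cfsg.Agent.Helper4.BGSig.H1427 G)
    (h28 : Cfsg.Agent.Helper4.BGSig.H1428 G)
    {M X Y₀ : Subgroup G} {p : ℕ} (hM : IsCoatom M) (hp : p ∈ tau1 M) (hXM : X ≤ M)
    (hX : Nat.card ↥X = p) (hY₀ : Y₀ ≤ sigmaCore M ⊓ centralizer (X : Set G))
    (hY₀c : (Nat.card ↥Y₀).Prime) :
    Nat.card ↥Y₀ ∈ beta M ∨ Y₀ ≤ ⁅sigmaCore M, sigmaCore M⁆ := by
  have hpp : p.Prime := hp.1
  have hpM : p ∉ sigma M := hp.2.1
  haveI : Fact p.Prime := ⟨hpp⟩
  by_contra hneg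
  rw [not_or] at hneg
  obtain ⟨hβ, hY'⟩ := hneg
  generalize hq : Nat.card ↥Y₀ = q at hY₀c hβ
  haveI : Fact q.Prime := ⟨hY₀c⟩
  have hYq : IsPGroup q ↥Y₀ := IsPGroup.of_card (n := 1) (by rw [hq, pow_one])
  have hY1 : Y₀ ≠ ⊥ := card_prime_ne_bot hq
  have hYσ : Y₀ ≤ sigmaCore M := hY₀.trans inf_le_left
  have hYCX : Y₀ ≤ centralizer (X : Set G) := hY₀.trans inf_le_right
  have hXCY : X ≤ centralizer (Y₀ : Set G) := Subgroup.le_centralizer_iff.mp hYCX
  have hqM : q ∈ sigma M := by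
    apply isPiNum_card_sigmaCore M q hY₀c
    rw [← hq]; exact Subgroup.card_dvd_of_le hYσ
  have hqdM : q ∣ Nat.card ↥M := by
    rw [← hq]; exact Subgroup.card_dvd_of_le (hYσ.trans (sigmaCore_le M))
  obtain ⟨hhall, -, -⟩ := h1350 M hM
  -- the `X`-invariant Sylow `q`-subgroup `S` of `M_σ` over `Y₀`
  have hXcop : (Nat.card ↥X).Coprime (Nat.card ↥(sigmaCore M)) := by
    rw [hX]
    exact (Nat.Prime.coprime_iff_not_dvd hpp).mpr (not_dvd_card_sigmaCore hpp hpM)
  have hσtop : sigmaCore M ≠ ⊤ := fun h => hM.1 (top_le_iff.mp (h ▸ sigmaCore_le M))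
  obtain ⟨P, hYP, hXP⟩ := Cfsg.Agent.S0025.result X (sigmaCore M)
    (hXM.trans (le_normalizer_sigmaCore M)) hXcop (Or.inr (isSolvable_of_ne_top hG hσtop))
    q Y₀ hYσ hYq (hXCY.trans (Subgroup.centralizer_le_normalizer _))
  obtain ⟨S, hSdef⟩ : ∃ S : Subgroup G,
      S = (P : Subgroup ↥(sigmaCore M)).map (sigmaCore M).subtype := ⟨_, rfl⟩
  rw [← hSdef] at hYP hXP
  have hS : IsSylowIn q S (sigmaCore M) := by rw [hSdef]; exact isSylowIn_map_subtype P
  have hSM : S ≤ M := hS.le.trans (sigmaCore_le M)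
  -- the complement `E` of `M_σ` in `M` inside `N_G(S)`, containing `X`
  obtain ⟨E, hE, hES, hXE⟩ := Cfsg.Agent.Helper10.BG13S.exists_compl_normalizer_ge hG
    (fun M hM => h1350 M hM) hM hS hXM hXP hXcop
  have hEhall := Cfsg.Agent.Helper11.BG1413.isPiHallOf_compl hhall hE
  have hEtop : E ≠ ⊤ := fun h => hM.1 (top_le_iff.mp (h ▸ hE.1))
  have hsolvE : Group.IsSolvable ↥E := isSolvable_of_ne_top hG hEtop
  have hE'E : ⁅E, E⁆ ≤ E := Subgroup.commutator_le.mpr
    (fun a ha b hb => E.mul_mem (E.mul_mem (E.mul_mem ha hb) (E.inv_mem ha)) (E.inv_mem hb))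
  -- KEY LEMMA: `E'` centralizes `S`
  have hnc : HasNormalPComplement q ↥⁅M, M⁆ := ((h1414 M hM).2.2.2.2 q hY₀c hqdM hβ).1
  have hE'q : (Nat.card ↥⁅E, E⁆).Coprime q := by
    rw [Nat.coprime_comm, Nat.Prime.coprime_iff_not_dvd hY₀c]
    intro hd
    exact (hEhall.2.1 q hY₀c (hd.trans (Subgroup.card_dvd_of_le hE'E))).2 hqM
  have hSE' : S ≤ centralizer ((⁅E, E⁆ : Subgroup G) : Set G) :=
    centralizes_of_hasNormalPComplement
      (le_normalizer_commutator_of_le Subgroup.le_normalizer Subgroup.le_normalizer)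
      hnc hSM hS.isPGroup (Subgroup.commutator_mono hE.1 hE.1) hE'q (hE'E.trans hES)
  have hE'Y : ⁅E, E⁆ ≤ centralizer (Y₀ : Set G) :=
    (Subgroup.le_centralizer_iff.mp hSE').trans (Subgroup.centralizer_le hYP)
  -- CLAIM A: prime-order subgroups of `C_E(X)` centralize `Y₀`
  have claimA : ∀ R : Subgroup G, R ≤ E ⊓ centralizer (X : Set G) → (Nat.card ↥R).Prime →
      R ≤ centralizer (Y₀ : Set G) := by
    intro R hRE hR
    have h1 := h28 M hM E hE p hp X hXE hX R hRE hR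
    exact Subgroup.le_centralizer_iff.mp ((hY₀.trans h1).trans inf_le_right)
  by_cases hτ2 : ∃ l : ℕ, l ∈ tau2 M
  · -- `τ₂(M) ≠ ∅`
    obtain ⟨l, hl⟩ := hτ2
    have hlp : l.Prime := hl.1
    haveI : Fact l.Prime := ⟨hlp⟩
    obtain ⟨B, hBE, hBe, hBc⟩ := Cfsg.Agent.Helper20.BG12.exists_elemAb_sq_le_compl hhall hE hl
    have hEB : E ≤ normalizer (B : Set G) := (h1418 M hM E hE l hl B ⟨hBE, hBe, hBc⟩).1.1
    have hfix : sigmaCore M ⊓ centralizer (B : Set G) = ⊥ :=
      (h1417 M hM l hl B ⟨hBE.trans hE.1, hBe, hBc⟩).2.2.2.1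
    obtain ⟨x, hxX, hXx, hxo⟩ := exists_zpowers_eq_of_card hX
    have hlp' : l ≠ p := by
      rintro rfl
      exact hl.2.2.2 hp.2.2.2.2
    have hcop : Nat.Coprime (orderOf x) (Nat.card ↥B) := by
      rw [hxo, hBc]
      exact Nat.Coprime.pow_right 2 ((Nat.coprime_primes hpp hlp).mpr (Ne.symm hlp'))
    have hxB : ∀ w ∈ B, x * w * x⁻¹ ∈ B := fun w hw =>
      (Subgroup.mem_normalizer_iff.mp (hEB (hXE hxX)) w).mp hw
    have hBcomm : ∀ a ∈ B, ∀ b ∈ B, a * b = b * a := by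
      intro a ha b hb
      have := hBe.1.is_comm.comm (⟨a, ha⟩ : ↥B) ⟨b, hb⟩
      simpa using congrArg Subtype.val this
    have hYB : Y₀ ≤ sigmaCore M ⊓ centralizer (B : Set G) := by
      refine le_inf hYσ ?_
      rw [Subgroup.le_centralizer_iff]
      intro b hb
      obtain ⟨b₀, hb₀B, v, hvB, hfix₀, hdec⟩ :=
        Cfsg.Agent.Helper18.Winter.fitting_decomp B hBcomm x hxB hcop b hb
      rw [hdec]
      refine (centralizer (Y₀ : Set G)).mul_mem ?_ ?_
      · by_cases hb1 : b₀ = 1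
        · rw [hb1]; exact Subgroup.one_mem _
        · have hbl : b₀ ^ l = 1 := hBe.2 b₀ hb₀B
          have hbo : orderOf b₀ = l := orderOf_eq_prime hbl hb1
          have hRc : Nat.card ↥(zpowers b₀) = l := by rw [Nat.card_zpowers, hbo]
          have hRE : zpowers b₀ ≤ E ⊓ centralizer (X : Set G) := by
            rw [Subgroup.zpowers_le]
            refine Subgroup.mem_inf.mpr ⟨hBE hb₀B, ?_⟩
            rw [hXx, Subgroup.mem_centralizer_iff]
            intro h hh
            obtain ⟨k, rfl⟩ := Subgroup.mem_zpowers_iff.mp hh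
            have hc : Commute x b₀ := by
              show x * b₀ = b₀ * x
              have : x * b₀ * x⁻¹ * x = b₀ * x := by rw [hfix₀]
              rwa [inv_mul_cancel_right] at this
            exact (hc.zpow_left k).eq
          exact claimA (zpowers b₀) hRE (by rw [hRc]; exact hlp) (Subgroup.mem_zpowers b₀)
      · have : x * v * x⁻¹ * v⁻¹ ∈ ⁅E, E⁆ :=
          Subgroup.commutator_mem_commutator (hXE hxX) (hBE hvB)
        exact hE'Y this
    rw [hfix] at hYB
    exact hY1 (le_bot_iff.mp hYB)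
  · -- `τ₂(M) = ∅`: `E` centralizes `Y₀`
    have hEY : E ⊓ centralizer (Y₀ : Set G) = E := by
      apply eq_of_forall_sylow_le inf_le_left
      intro r hr hrd
      haveI : Fact r.Prime := ⟨hr⟩
      have hrM : r ∉ sigma M := (hEhall.2.1 r hr hrd).2
      have hrdM : r ∣ Nat.card ↥M := hrd.trans (Subgroup.card_dvd_of_le hE.1)
      have hr2 : PRankLE r 2 ↥M := by
        by_contra h
        exact hrM (Cfsg.Agent.Helper23.BG10.alpha_subset_sigma hG h1403 hM ⟨hr, h⟩)
      have hr1 : PRankLE r 1 ↥M := by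
        by_contra h
        exact hτ2 ⟨r, hr, hrM, hr2, h⟩
      by_cases hrM' : r ∣ Nat.card ↥⁅M, M⁆
      · -- `r ∈ τ₃(M)`
        have hτ3 : r ∈ tau3 M := ⟨hr, hrM, hrM', hr1⟩
        obtain ⟨T, hT⟩ := exists_isSylowIn (p := r) E
        obtain ⟨E₃, hTE₃, hE₃⟩ := Cfsg.Agent.Helper4.BGSig.exists_isPiHallOf_ge hsolvE (tau3 M)
          hT.le (fun s hs hsd => by
            obtain ⟨k, hk⟩ := hT.isPGroup.exists_card_eq
            rw [hk] at hsd
            rw [(Nat.prime_dvd_prime_iff_eq hs hr).mp (hs.dvd_of_dvd_pow hsd)]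
            exact hτ3)
        obtain ⟨-, hE₃', -⟩ := (h1415 M hM E hE).2.2 E₃ hE₃
        exact ⟨T, hT, le_inf hT.le ((hTE₃.trans hE₃').trans hE'Y)⟩
      · -- `r ∈ τ₁(M)`
        have hτ1 : r ∈ tau1 M := ⟨hr, hrM, hrdM, hrM', hr1⟩
        obtain ⟨E₁, hXE₁, hE₁⟩ := Cfsg.Agent.Helper4.BGSig.exists_isPiHallOf_ge hsolvE (tau1 M)
          hXE (fun s hs hsd => by
            rw [hX] at hsd
            rw [(Nat.prime_dvd_prime_iff_eq hs hpp).mp hsd]
            exact hp)
        have hcyc : IsCyclic ↥E₁ := (h1415 M hM E hE).2.1 E₁ hE₁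
        obtain ⟨T, hT⟩ := exists_isSylowIn (p := r) E₁
        have hTE : T ≤ E := hT.le.trans hE₁.1
        have hTsyl : IsSylowIn r T E := by
          apply isSylowIn_of_not_dvd_relIndex hT.isPGroup hTE
          rw [← Subgroup.relIndex_mul_relIndex T E₁ E hT.le hE₁.1]
          intro hdvd
          rcases (Nat.Prime.dvd_mul hr).mp hdvd with h | h
          · exact hT.not_dvd_relIndex h
          · exact hE₁.2.2 r hr hτ1 h
        have hTcyc : IsCyclic ↥T := isCyclic_of_le_aux hT.le hcyc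
        -- `T ≠ ⊥`
        have hTc : Nat.card ↥T = r ^ (Nat.card ↥E).factorization r := hTsyl.card_eq
        have hfac : 0 < (Nat.card ↥E).factorization r :=
          hr.factorization_pos_of_dvd Nat.card_pos.ne' hrd
        have hrT : r ∣ Nat.card ↥T := by
          rw [hTc]; exact dvd_pow_self r hfac.ne'
        obtain ⟨t, htT, hto⟩ : ∃ t : G, t ∈ T ∧ orderOf t = r := by
          obtain ⟨t', ht'⟩ := exists_prime_orderOf_dvd_card' r hrT
          exact ⟨(t' : G), t'.2, by rw [Subgroup.orderOf_coe, ht']⟩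
        have ht1 : t ≠ 1 := by
          intro h
          rw [h, orderOf_one] at hto
          exact hr.one_lt.ne hto
        have hRc : Nat.card ↥(zpowers t) = r := by rw [Nat.card_zpowers, hto]
        have hRE : zpowers t ≤ E ⊓ centralizer (X : Set G) := by
          rw [Subgroup.zpowers_le]
          refine Subgroup.mem_inf.mpr ⟨hTE htT, ?_⟩
          rw [Subgroup.mem_centralizer_iff]
          intro a ha
          exact Cfsg.Agent.Helper23.comm_of_mem_cyclic E₁ hcyc (hXE₁ ha) (hT.le htT)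
        have hRY := claimA (zpowers t) hRE (by rw [hRc]; exact hr)
        have hY₀t : Y₀ ≤ sigmaCore M ⊓ centralizer ({t} : Set G) := by
          refine le_inf hYσ ?_
          intro y hy
          rw [Subgroup.mem_centralizer_iff]
          intro h hh
          rw [Set.mem_singleton_iff] at hh
          rw [hh]
          have := Subgroup.mem_centralizer_iff.mp (hRY (Subgroup.mem_zpowers t)) y hy
          exact this.symm
        -- S1427 for the Sylow subgroup `T` of `E`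
        have hSne : ((hTsyl.toSylow : Sylow r ↥E) : Subgroup ↥E) ≠ ⊥ := by
          intro h
          have h1 := hTsyl.map_toSylow
          rw [h, Subgroup.map_bot] at h1
          rw [← h1] at htT
          exact ht1 (Subgroup.mem_bot.mp htT)
        have hScyc : IsCyclic ↥((hTsyl.toSylow : Sylow r ↥E) : Subgroup ↥E) := by
          rw [hTsyl.coe_toSylow]
          haveI := hTcyc
          exact isCyclic_of_surjective (Subgroup.subgroupOfEquivOfLe hTE).symm.toMonoidHom
            (Subgroup.subgroupOfEquivOfLe hTE).symm.surjective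
        have h27' := h27 M hM E hE r hTsyl.toSylow hSne hScyc t
          (by rw [hTsyl.map_toSylow]; exact htT) ht1
        rw [hTsyl.map_toSylow] at h27'
        rw [h27'] at hY₀t
        exact ⟨T, hTsyl, le_inf hTE (Subgroup.le_centralizer_iff.mp (hY₀t.trans inf_le_right))⟩
    have hEC : E ≤ centralizer (Y₀ : Set G) := by
      rw [← hEY]; exact inf_le_right
    have hYE : Y₀ ≤ sigmaCore M ⊓ centralizer (E : Set G) :=
      le_inf hYσ (Subgroup.le_centralizer_iff.mp hEC)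
    exact hY' (hYE.trans (h26 M hM E hE))

/-- **THEOREM A** in the shape `HypThmA` used by LEMMA G2 -/
theorem thmA (hG : IsMinSimpleOddOrder G) (h1350 : Hyp1350 G) (h1403 : Hyp1403 G)
    (h1414 : Hyp1414 G) (h1415 : H1415 G) (h1417 : Hyp1417 G) (h1418 : Hyp1418 G)
    (h23 : H1423β G) (h23' : H1423' G)
    (h26 : H1426a G) (h27 : Cfsg.Agent.Helper4.BGSig.H1427 G)
    (h28 : Cfsg.Agent.Helper4.BGSig.H1428 G) : HypThmA G := by
  intro M hM p hp X hXM hX Y₀ hY₀ hY₀c
  have hYσ : Y₀ ≤ sigmaCore M := hY₀.trans inf_le_left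
  have hqM : Nat.card ↥Y₀ ∈ sigma M :=
    isPiNum_card_sigmaCore M _ hY₀c (Subgroup.card_dvd_of_le hYσ)
  rcases thmA_aux hG h1350 h1403 h1414 h1415 h1417 h1418 h26 h27 h28 hM hp hXM hX hY₀ hY₀c
    with h | h
  · exact h23 M hM _ hqM h Y₀ (hYσ.trans (sigmaCore_le M)) rfl
  · exact h23' M hM _ hqM Y₀ (hYσ.trans (sigmaCore_le M)) rfl h

end Cfsg.Agent.Helper12.BG14
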