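import Mathlib
import Cfsg.Prelude.Def_Blocks
import Cfsg.Agent.Lib.Helper12.BRC3

/-!
# S4503 pieces CONSTV and KER (exact skeleton signatures of `plans/S4503_Skel.lean.txt`)

* `principal_const`: characters of the principal block are constant on `a · V`;
* `ker_of_no_fixed`: the kernel trick (Lemma K) for an arbitrary character.
(helper12)
-/

set_option autoImplicit false
set_option linter.unusedSectionVars false
set_option linter.unusedVariables false
set_option linter.style.haveILetI false

namespace Cfsg.Agent.Helper14.BRB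

open scoped ComplexConjugate
open Cfsg

universe u

variable {G : Type u} [Group G] [Fintype G] (p : ℕ) [Fact p.Prime]

variable (P : Sylow p G)

local notation "𝒞" => Subgroup.centralizer ((P : Subgroup G) : Set G)
local notation "𝒩" => Subgroup.normalizer ((P : Subgroup G) : Set G)

/-- PIECE CONSTV (second + third main theorems for the principal block). -/
theorem principal_const (M : Ideal AlgInt) (hM : IsPModular p M) (hP : Nat.card P = p)
    (χ : IrrCharacter G) (hχ : χ ∈ principalBlock M G) (a : G) (ha : a ∈ (P : Subgroup G))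
    (ha1 : a ≠ 1) (v : G) (hv : v ∈ 𝒞) (hvp : ¬ p ∣ orderOf v) :
    (χ : G → ℂ) (a * v) = (χ : G → ℂ) a :=
  Cfsg.Agent.Helper12.BRC.principal_const p M hM P hP χ hχ a ha ha1 v hv hvp

/-- PIECE KER (Lemma K): a character which is constant on the cosets `a · V` (`a ∈ P^#`) and has no
`P`-fixed vectors has `V` in its kernel. -/
theorem ker_of_no_fixed (hP : Nat.card P = p) (χ : G → ℂ) (hχ : IsCharacter G χ)
    (hconst : ∀ a ∈ (P : Subgroup G), a ≠ 1 → ∀ v ∈ 𝒞, ¬ p ∣ orderOf v → χ (a * v) = χ a)
    (hfix : ∑ᶠ a : (P : Subgroup G), χ (a : G) = 0)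
    (v : G) (hv : v ∈ 𝒞) (hvp : ¬ p ∣ orderOf v) : χ v = χ 1 := by
  classical
  haveI : Fintype (P : Subgroup G) := Fintype.ofFinite _
  rw [finsum_eq_sum_of_fintype] at hfix
  have h0 := hfix
  have h1 := Cfsg.Agent.Helper12.BRC.sum_mul_eq_zero_of_sum_eq_zero hχ (P : Subgroup G) h0 v
  have hsplit : ∀ f : ↥(P : Subgroup G) → ℂ,
      ∑ a : (P : Subgroup G), f a = f 1 + ∑ a ∈ Finset.univ.erase (1 : (P : Subgroup G)), f a := by
    intro f
    rw [Finset.add_sum_erase _ _ (Finset.mem_univ _)]
  rw [hsplit] at h1 h0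
  have hc : ∀ a ∈ Finset.univ.erase (1 : (P : Subgroup G)),
      χ ((a : G) * v) = χ (a : G) := by
    intro a ha
    have ha1 : (a : G) ≠ 1 := by
      intro h
      exact (Finset.mem_erase.1 ha).1 (Subtype.ext h)
    exact hconst (a : G) a.2 ha1 v hv hvp
  rw [Finset.sum_congr rfl hc] at h1
  simp only [Subgroup.coe_one, one_mul] at h1 h0
  have := h1.trans h0.symm
  exact add_right_cancel this

end Cfsg.Agent.Helper14.BRB
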