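import Mathlib
import Cfsg.Agent.Lib.Helper3.BSWDefs
import Cfsg.Agent.Lib.Helper4.BSWHSTRUCT
import Cfsg.Agent.Lib.Helper25.BSWHYPCONJ
import Cfsg.Agent.Lib.Helper14.BSWNINV

/-!
# S3282 piece NDB (helper12 for helper3): `N(D) = D ⟨u⟩` for a self-centralizing `D` of order `k - 1` inverted by `u`
-/

set_option autoImplicit false

namespace Cfsg.Agent.Helper3.BSW

universe u

namespace NDB

/-- a finite group acting freely on a finite set: its order divides the size of the set -/
theorem card_dvd_of_free {C X : Type*} [Group C] [MulAction C X] [Finite C] [Finite X]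
    (hfree : ∀ (c : C) (x : X), c • x = x → c = 1) : Nat.card C ∣ Nat.card X := by
  classical
  haveI : Fintype (MulAction.orbitRel.Quotient C X) := Fintype.ofFinite _
  have e := MulAction.selfEquivSigmaOrbitsQuotientStabilizer C X
  rw [Nat.card_congr e, Nat.card_sigma]
  apply Finset.dvd_sum
  intro ω _
  have hst : MulAction.stabilizer C (Quotient.out ω) = ⊥ := by
    rw [Subgroup.eq_bot_iff_forall]
    intro c hc
    exact hfree c _ (MulAction.mem_stabilizer_iff.mp hc)
  rw [hst]
  have : Nat.card (C ⧸ (⊥ : Subgroup C)) = Nat.card C := by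
    rw [← Subgroup.index_eq_card, Subgroup.index_bot]
  rw [this]

variable {G : Type u} [Group G]

/-- the number of non-identity elements of a finite subgroup -/
theorem card_nonid [Finite G] (D : Subgroup G) :
    Nat.card {d : G // d ∈ D ∧ d ≠ 1} + 1 = Nat.card D := by
  classical
  haveI : Fintype ↥D := Fintype.ofFinite _
  have e : {d : G // d ∈ D ∧ d ≠ 1} ≃ {d : ↥D // d ≠ 1} :=
    { toFun := fun d => ⟨⟨d.1, d.2.1⟩, fun h => d.2.2 (congrArg Subtype.val h)⟩
      invFun := fun d => ⟨d.1.1, d.1.2, fun h => d.2 (Subtype.ext h)⟩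
      left_inv := fun d => rfl
      right_inv := fun d => rfl }
  rw [Nat.card_congr e, Nat.card_eq_fintype_card, Nat.card_eq_fintype_card,
    Fintype.card_subtype_compl, Fintype.card_subtype_eq]
  have : 0 < Fintype.card ↥D := Fintype.card_pos
  omega

/-- the conjugation action of a subgroup of the normalizer of `D` on `D#` -/
def conjAction (D C : Subgroup G) (hC : C ≤ Subgroup.normalizer (D : Set G)) :
    MulAction ↥C {d : G // d ∈ D ∧ d ≠ 1} where
  smul c d := ⟨(c : G) * d.1 * (c : G)⁻¹, (Subgroup.mem_normalizer_iff.mp (hC c.2) d.1).mp d.2.1, by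
    intro h1
    apply d.2.2
    have e : d.1 = (c : G)⁻¹ * ((c : G) * d.1 * (c : G)⁻¹) * (c : G) := by group
    rw [e, h1]
    group⟩
  one_smul d := by
    apply Subtype.ext
    show ((1 : ↥C) : G) * d.1 * ((1 : ↥C) : G)⁻¹ = d.1
    simp
  mul_smul c c' d := by
    apply Subtype.ext
    show ((c * c' : ↥C) : G) * d.1 * ((c * c' : ↥C) : G)⁻¹ =
      (c : G) * ((c' : G) * d.1 * (c' : G)⁻¹) * (c : G)⁻¹
    simp only [Subgroup.coe_mul]
    group

end NDB

variable {G : Type u} [Group G] [Fintype G] {t s : G} {K : Subgroup G}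

/-- PIECE NDB (IIB2). -/
theorem normalizer_DB (h : Hyp t s K) {D : Subgroup G} (hD : SelfCent D) (hne : D ≠ ⊥)
    (hcard : Nat.card D + 1 = Nat.card K) {u : G} (hu : orderOf u = 2)
    (huD : ∀ d ∈ D, u * d * u⁻¹ = d⁻¹) :
    Subgroup.normalizer (D : Set G) = D ⊔ Subgroup.zpowers u := by
  classical
  obtain ⟨hkeven, hk2⟩ := even_card_K h
  -- `|D|` is odd
  have hodd : Odd (Nat.card D) := by
    rcases hkeven with ⟨m, hm⟩
    refine ⟨m - 1, ?_⟩
    omega
  -- `u` normalizes `D`
  have hui : u⁻¹ = u := HSTRUCT.inv_of_order_two hu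
  have huN : u ∈ Subgroup.normalizer (D : Set G) := by
    rw [Subgroup.mem_normalizer_iff]
    intro d
    constructor
    · intro hd
      rw [huD d hd]
      exact D.inv_mem hd
    · intro hd
      have h2 := huD _ hd
      have huu : u * u = 1 := HSTRUCT.mul_self_of_order_two hu
      have e : u * (u * d * u⁻¹) * u⁻¹ = d := by
        rw [hui]
        calc u * (u * d * u) * u = (u * u) * d * (u * u) := by group
          _ = d := by rw [huu, one_mul, mul_one]
      rw [e] at h2
      rw [h2]
      exact D.inv_mem hd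
  obtain ⟨-, -, hsup, hbot, honly⟩ := normalizer_invol hD hne hodd hu huN
  set C : Subgroup G := Subgroup.normalizer (D : Set G) ⊓ Subgroup.centralizer ({u} : Set G) with hCdef
  have huC : u ∈ C := Subgroup.mem_inf.mpr ⟨huN, Subgroup.mem_centralizer_singleton_iff.mpr rfl⟩
  -- `u = g t g⁻¹`
  obtain ⟨g, hg⟩ := isConj_iff.mp (h.hconj t u h.ht hu)
  have h' := hyp_conj h g
  rw [hg] at h'
  -- `C ≤ Kc K g`
  have hCK : C ≤ Kc K g := by
    intro c hc
    have hcu : c ∈ Subgroup.centralizer ({u} : Set G) := (Subgroup.mem_inf.mp hc).2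
    rcases (mem_H_iff h' c).mp hcu with hcK | ⟨x, hx, rfl⟩
    · exact hcK
    · exfalso
      obtain ⟨ho, hnK, -⟩ := coset_props h' hx
      have := honly _ hc ho
      rw [this] at hnK
      exact hnK h'.htK
  -- `|C|` divides `k`
  have hcardKc : Nat.card (Kc K g) = Nat.card K := by
    unfold Kc
    exact (Nat.card_congr (K.equivMapOfInjective _ (MulAut.conj g).injective).toEquiv).symm
  have hdvd1 : Nat.card C ∣ Nat.card K := by
    rw [← hcardKc]
    exact Subgroup.card_dvd_of_le hCK
  -- `|C|` divides `|D| - 1`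
  have hdvd2 : Nat.card C ∣ Nat.card {d : G // d ∈ D ∧ d ≠ 1} := by
    letI := NDB.conjAction D C inf_le_left
    apply NDB.card_dvd_of_free
    intro c d hcd
    have h1 : (c : G) * d.1 * (c : G)⁻¹ = d.1 := congrArg Subtype.val hcd
    have h2 : (c : G) ∈ Subgroup.centralizer ({d.1} : Set G) := by
      rw [Subgroup.mem_centralizer_singleton_iff]
      calc (c : G) * d.1 = (c : G) * d.1 * (c : G)⁻¹ * (c : G) := by group
        _ = d.1 * (c : G) := by rw [h1]
    rw [hD d.1 d.2.1 d.2.2] at h2
    have h3 : (c : G) ∈ D ⊓ Subgroup.centralizer ({u} : Set G) :=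
      Subgroup.mem_inf.mpr ⟨h2, (Subgroup.mem_inf.mp c.2).2⟩
    rw [hbot, Subgroup.mem_bot] at h3
    exact Subtype.ext h3
  have hX := NDB.card_nonid D
  -- `|C|` divides 2
  have hdvd3 : Nat.card C ∣ 2 := by
    have e : 2 = Nat.card K - Nat.card {d : G // d ∈ D ∧ d ≠ 1} := by omega
    rw [e]
    exact Nat.dvd_sub hdvd1 hdvd2
  have h2dvd : 2 ∣ Nat.card C := by
    have := Subgroup.orderOf_dvd_natCard C huC
    rwa [hu] at this
  have hC2 : Nat.card C = 2 := Nat.dvd_antisymm hdvd3 h2dvd
  have hCz : Subgroup.zpowers u = C := by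
    apply Subgroup.eq_of_le_of_card_ge
    · rw [Subgroup.zpowers_le]
      exact huC
    · rw [hC2, Nat.card_zpowers, hu]
  rw [hsup, hCz]

end Cfsg.Agent.Helper3.BSW
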