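import Mathlib
import Cfsg.Agent.Lib.Helper3.BSWDefs
import Cfsg.Agent.Lib.Helper4.BSWHSTRUCT
import Cfsg.Agent.Lib.Helper4.BSWCENT
import Cfsg.Agent.Lib.Helper4.BSWFUS
import Cfsg.Agent.Lib.Helper25.BSWHYPCONJ
import Cfsg.Agent.Lib.Helper25.BSWVALSB
import Cfsg.Agent.Lib.Helper14.BSWSCTI
import Cfsg.Agent.Lib.Helper12.BSWNDB
import Cfsg.Agent.Lib.Helper19.BSWCENTB1

/-!
# S3282 piece ABW (helper12 for helper3): the abelian control subgroup of an odd order element outside `R0` (case B)
-/

set_option autoImplicit false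

namespace Cfsg.Agent.Helper3.BSW

universe u

namespace ABW

variable {G : Type u} [Group G]

/-- the elements of `A ⊔ ⟨u⟩` when the involution `u` inverts `A` -/
theorem mem_sup_zpowers {A : Subgroup G} {u : G} (huu : u * u = 1)
    (hinv : ∀ a ∈ A, u * a * u⁻¹ = a⁻¹) {x : G} (hx : x ∈ A ⊔ Subgroup.zpowers u) :
    x ∈ A ∨ ∃ a ∈ A, x = a * u := by
  have hui : u⁻¹ = u := inv_eq_of_mul_eq_one_left huu
  have hua : ∀ a ∈ A, u * a = a⁻¹ * u := by
    intro a ha
    have := hinv a ha
    calc u * a = u * a * u⁻¹ * u := by group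
      _ = a⁻¹ * u := by rw [this]
  let S : Subgroup G :=
    { carrier := {x | x ∈ A ∨ ∃ a ∈ A, x = a * u}
      one_mem' := Or.inl A.one_mem
      mul_mem' := by
        rintro x y (hx | ⟨a, ha, rfl⟩) (hy | ⟨b, hb, rfl⟩)
        · exact Or.inl (A.mul_mem hx hy)
        · exact Or.inr ⟨x * b, A.mul_mem hx hb, by group⟩
        · refine Or.inr ⟨a * y⁻¹, A.mul_mem ha (A.inv_mem hy), ?_⟩
          rw [mul_assoc, hua y hy]
          group
        · refine Or.inl ?_
          have e : a * u * (b * u) = a * b⁻¹ := by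
            calc a * u * (b * u) = a * (u * b) * u := by group
              _ = a * (b⁻¹ * u) * u := by rw [hua b hb]
              _ = a * b⁻¹ * (u * u) := by group
              _ = a * b⁻¹ := by rw [huu, mul_one]
          rw [e]
          exact A.mul_mem ha (A.inv_mem hb)
      inv_mem' := by
        rintro x (hx | ⟨a, ha, rfl⟩)
        · exact Or.inl (A.inv_mem hx)
        · refine Or.inr ⟨a, ha, ?_⟩
          have e : (a * u)⁻¹ = u * a⁻¹ := by rw [mul_inv_rev, hui]
          rw [e, hua a⁻¹ (A.inv_mem ha), inv_inv] }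
  have hle : A ⊔ Subgroup.zpowers u ≤ S := by
    apply sup_le
    · intro a ha
      exact Or.inl ha
    · rw [Subgroup.zpowers_le]
      exact Or.inr ⟨1, A.one_mem, by group⟩
  exact hle hx

/-- an element of odd order whose square is `1` is `1` -/
theorem eq_one_of_odd {g : G} (hodd : Odd (orderOf g)) (h2 : g * g = 1) : g = 1 := by
  have hd : orderOf g ∣ 2 := by
    apply orderOf_dvd_of_pow_eq_one
    rw [pow_two]
    exact h2
  have h12 : orderOf g = 1 ∨ orderOf g = 2 := (Nat.dvd_prime Nat.prime_two).mp hd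
  rcases h12 with h1 | h1
  · exact orderOf_eq_one_iff.mp h1
  · rw [h1] at hodd
    exact absurd hodd (by decide)

end ABW

variable {G : Type u} [Group G] [Fintype G] {t s : G} {K : Subgroup G} {St : G → ℤ}

/-- PIECE ABW (IIB6, input of ODDCL1). -/
theorem abel_cent_B (h : Hyp t s K) (hB : StB K St) {w : G} (hw1 : w ≠ 1) (hodd : Odd (orderOf w))
    (hw : ¬ (InR K w ∧ St w = 0)) :
    ∃ A : Subgroup G, (∀ a ∈ A, ∀ b ∈ A, a * b = b * a) ∧ Subgroup.centralizer ({w} : Set G) ≤ A ∧
      ∀ L : Subgroup G, L ≤ A → L ≠ ⊥ → ∀ g ∈ Subgroup.normalizer (L : Set G), Odd (orderOf g) → g ∈ A := by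
  by_cases hR : InR K w
  · -- `w ∈ R'`, `St w = 1`
    have h1 : St w = 1 := by
      rcases stB_vals h hB hR with h0 | h1
      · exact absurd ⟨hR, h0⟩ hw
      · exact h1
    obtain ⟨u, hu, huinv, hSC, hcard, -⟩ := cent_B1 h hB hR h1
    have huu : u * u = 1 := by
      have := pow_orderOf_eq_one u
      rw [hu, pow_two] at this
      exact this
    have hwA : w ∈ Subgroup.centralizer ({w} : Set G) := Subgroup.mem_centralizer_singleton_iff.mpr rfl
    have hne : Subgroup.centralizer ({w} : Set G) ≠ ⊥ := by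
      intro hbot
      rw [hbot, Subgroup.mem_bot] at hwA
      exact hw1 hwA
    have hN := normalizer_DB h hSC hne hcard hu huinv
    refine ⟨Subgroup.centralizer ({w} : Set G), selfCent_comm hSC, le_refl _, ?_⟩
    intro L hL hLne g hg hgodd
    have hg2 : g ∈ Subgroup.normalizer ((Subgroup.centralizer ({w} : Set G) : Subgroup G) : Set G) :=
      selfCent_normalizer hSC hL hLne hg
    rw [hN] at hg2
    rcases ABW.mem_sup_zpowers huu huinv hg2 with hgA | ⟨a, ha, rfl⟩
    · exact hgA
    · have hsq : a * u * (a * u) = 1 := by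
        have hua : u * a = a⁻¹ * u := by
          have := huinv a ha
          calc u * a = u * a * u⁻¹ * u := by group
            _ = a⁻¹ * u := by rw [this]
        calc a * u * (a * u) = a * (u * a) * u := by group
          _ = a * (a⁻¹ * u) * u := by rw [hua]
          _ = u * u := by group
          _ = 1 := huu
      rw [ABW.eq_one_of_odd hgodd hsq]
      exact Subgroup.one_mem _
  · -- `w` is conjugate into `K`
    have hex : ∃ g : G, g * w * g⁻¹ ∈ K := by
      by_contra hcon
      push_neg at hcon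
      exact hR ⟨hw1, hcon⟩
    obtain ⟨g0, hg0⟩ := hex
    have h' := hyp_conj h g0⁻¹
    have hwA : w ∈ Kc K g0⁻¹ := by
      unfold Kc
      rw [Subgroup.mem_map]
      refine ⟨g0 * w * g0⁻¹, hg0, ?_⟩
      simp only [MulEquiv.coe_toMonoidHom, MulAut.conj_apply]
      group
    have hwt : w ≠ g0⁻¹ * t * g0⁻¹⁻¹ := by
      intro he
      have h2 := h'.ht
      rw [← he] at h2
      rw [h2] at hodd
      exact absurd hodd (by decide)
    have hC := cent_eq h' hwA hw1 hwt
    refine ⟨Kc K g0⁻¹, h'.hKab, le_of_eq hC, ?_⟩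
    intro L hL hLne g hg hgodd
    rw [normalizer_eq h' hL hLne] at hg
    rcases (mem_H_iff h' g).mp hg with hgA | ⟨x, hx, rfl⟩
    · exact hgA
    · have h2 := (coset_props h' hx).1
      rw [h2] at hgodd
      exact absurd hgodd (by decide)

end Cfsg.Agent.Helper3.BSW
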