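import Mathlib
import Cfsg.Agent.Lib.Helper24.CharLinear
import Cfsg.Agent.Lib.Helper3.BSWCharDefs

/-!
# S3282 farm-out (helper3), skeleton 4: PIECE BONE (`b μ 1_G = 1`)
-/

set_option autoImplicit false

namespace Cfsg.Agent.Helper3.BSW

open Cfsg Cfsg.Agent.Helper24
open scoped ComplexConjugate

universe u

namespace BONE

/-- a non-principal hom `A →* ℂˣ` of a finite group sums to `0` -/
theorem sum_hom_eq_zero {A : Type u} [Group A] [Fintype A] (μ : A →* ℂˣ) (hμ : μ ≠ 1) :
    ∑ x : A, ((μ x : ℂˣ) : ℂ) = 0 := by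
  have hne : ((Units.coeHom ℂ).comp μ) ≠ 1 := by
    intro h
    apply hμ
    ext x
    have := DFunLike.congr_fun h x
    simpa using this
  have := sum_hom_units_eq_zero ((Units.coeHom ℂ).comp μ) hne
  simpa using this

end BONE

variable {G : Type u} [Group G] [Fintype G] [Fintype (IrrCharacter G)] [DecidableEq (IrrCharacter G)]
  {t s : G} {K : Subgroup G} [Fintype K] [Fintype (JK K)] [DecidableEq (JK K)]
  {a1 : IrrCharacter G → ℤ} {b : JK K → IrrCharacter G → ℤ} {sgn : JK K → ℤ}

/-- PIECE BONE (C2). `(1/k) ∑_x (1 - conj μ x) = 1` for `μ ≠ 1`. -/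
theorem b_one_K (h : Hyp t s K) (cd : CharData K t h.htK a1 b sgn) (μ : JK K) :
    b μ (principalChar G) = 1 := by
  have h1 := cd.hb μ (principalChar G)
  have h2 : bC K μ.1 ((principalChar G : IrrCharacter G) : G → ℂ) = 1 := by
    unfold bC
    have e : ∀ x : K, ((principalChar G : IrrCharacter G) : G → ℂ) x * (1 - conj ((μ.1 x : ℂˣ) : ℂ)) =
        1 - conj ((μ.1 x : ℂˣ) : ℂ) := by
      intro x
      show (1 : ℂ) * _ = _
      rw [one_mul]
    rw [Finset.sum_congr rfl (fun x _ => e x), Finset.sum_sub_distrib, ← map_sum,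
      BONE.sum_hom_eq_zero μ.1 μ.2, map_zero, sub_zero, Finset.sum_const, Finset.card_univ,
      Nat.card_eq_fintype_card, nsmul_eq_mul, mul_one]
    have hk : (Fintype.card K : ℂ) ≠ 0 := by
      exact_mod_cast Fintype.card_ne_zero
    exact inv_mul_cancel₀ hk
  rw [h2] at h1
  exact_mod_cast h1

end Cfsg.Agent.Helper3.BSW
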