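import Mathlib
import Cfsg.Agent.Lib.Helper24.CharLinear
import Cfsg.Agent.Lib.Helper3.BSWCharDefs

/-!
# S3282 farm-out (helper3), skeleton 4: PIECE CARDJ
-/

set_option autoImplicit false

namespace Cfsg.Agent.Helper3.BSW

open Cfsg Cfsg.Agent.Helper24
open scoped ComplexConjugate

universe u

namespace CARDJ

section
variable (A : Type u) [CommGroup A] [Finite A]

theorem card_dual : Nat.card (A →* ℂˣ) = Nat.card A :=
  CommGroup.card_monoidHom_of_hasEnoughRootsOfUnity A ℂ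

theorem finite_dual : Finite (A →* ℂˣ) := by
  apply Nat.finite_of_card_ne_zero
  rw [card_dual]
  exact Nat.card_pos.ne'

/-- `|{μ ≠ 1}| + 1 = |A|` -/
theorem card_nonprincipal : Nat.card {μ : A →* ℂˣ // μ ≠ 1} + 1 = Nat.card A := by
  classical
  haveI := finite_dual A
  rw [← card_dual A, ← Finite.card_option]
  exact Nat.card_congr (Equiv.optionSubtypeNe (1 : A →* ℂˣ))

/-- `∑_{μ ≠ 1} μ(x) = -1` for `x ≠ 1` -/
theorem sum_nonprincipal [Fintype {μ : A →* ℂˣ // μ ≠ 1}] {x : A} (hx : x ≠ 1) :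
    ∑ μ : {μ : A →* ℂˣ // μ ≠ 1}, ((μ.1 x : ℂˣ) : ℂ) = -1 := by
  classical
  haveI := finite_dual A
  haveI : Fintype (A →* ℂˣ) := Fintype.ofFinite _
  obtain ⟨μ₀, hμ₀⟩ := CommGroup.exists_apply_ne_one_of_hasEnoughRootsOfUnity A ℂ hx
  have hS : ∑ μ : A →* ℂˣ, ((μ x : ℂˣ) : ℂ) = 0 := by
    have e : ((μ₀ x : ℂˣ) : ℂ) * ∑ μ : A →* ℂˣ, ((μ x : ℂˣ) : ℂ) = ∑ μ : A →* ℂˣ, ((μ x : ℂˣ) : ℂ) := by
      rw [Finset.mul_sum]
      refine Fintype.sum_equiv (Equiv.mulLeft μ₀) _ _ ?_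
      intro μ
      simp
    have hne : ((μ₀ x : ℂˣ) : ℂ) - 1 ≠ 0 := by
      intro h0
      apply hμ₀
      apply Units.ext
      rw [Units.val_one]
      linear_combination h0
    have : (((μ₀ x : ℂˣ) : ℂ) - 1) * ∑ μ : A →* ℂˣ, ((μ x : ℂˣ) : ℂ) = 0 := by
      rw [sub_mul, e, one_mul, sub_self]
    rcases mul_eq_zero.1 this with h | h
    · exact absurd h hne
    · exact h
  have hsplit : ∑ μ : A →* ℂˣ, ((μ x : ℂˣ) : ℂ) =
      1 + ∑ μ : {μ : A →* ℂˣ // μ ≠ 1}, ((μ.1 x : ℂˣ) : ℂ) := by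
    rw [← Fintype.sum_equiv (Equiv.optionSubtypeNe (1 : A →* ℂˣ))
      (fun o => (((Equiv.optionSubtypeNe (1 : A →* ℂˣ)) o x : ℂˣ) : ℂ)) _ (fun _ => rfl),
      Fintype.sum_option]
    simp
  rw [hsplit] at hS
  linear_combination hS

end

end CARDJ

variable {G : Type u} [Group G] [Fintype G] [Fintype (IrrCharacter G)] [DecidableEq (IrrCharacter G)]
  {t s : G} {K : Subgroup G} [Fintype K] [Fintype (JK K)] [DecidableEq (JK K)]
  {a1 : IrrCharacter G → ℤ} {b : JK K → IrrCharacter G → ℤ} {sgn : JK K → ℤ}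

/-- PIECE CARDJ (C). -/
theorem card_JK (h : Hyp t s K) (cd : CharData K t h.htK a1 b sgn) :
    Fintype.card (JK K) + 1 = Nat.card K ∧ (∀ μ, sgn (invJ K μ) = sgn μ) ∧ ∑ μ, sgn μ = -1 := by
  letI : CommGroup K :=
    { (inferInstance : Group K) with
      mul_comm := fun a b => Subtype.ext (h.hKab a a.2 b b.2) }
  have ht2 : t * t = 1 := by
    have := pow_orderOf_eq_one t
    rwa [h.ht, pow_two] at this
  have ht1 : t ≠ 1 := by
    intro h1
    have := h.ht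
    rw [h1, orderOf_one] at this
    norm_num at this
  refine ⟨?_, ?_, ?_⟩
  · rw [← Nat.card_eq_fintype_card]
    exact CARDJ.card_nonprincipal K
  · intro μ
    have hu : μ.1 ⟨t, h.htK⟩ * μ.1 ⟨t, h.htK⟩ = 1 := by
      rw [← map_mul]
      have : (⟨t, h.htK⟩ : K) * ⟨t, h.htK⟩ = 1 := Subtype.ext ht2
      rw [this, map_one]
    have hinv : (μ.1 ⟨t, h.htK⟩)⁻¹ = μ.1 ⟨t, h.htK⟩ := inv_eq_of_mul_eq_one_left hu
    have e1 := cd.hsgn (invJ K μ)
    have e2 := cd.hsgn μ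
    have e3 : (invJ K μ).1 ⟨t, h.htK⟩ = (μ.1 ⟨t, h.htK⟩)⁻¹ := rfl
    rw [e3, hinv, ← e2] at e1
    exact_mod_cast e1
  · have hx : (⟨t, h.htK⟩ : K) ≠ 1 := fun h1 => ht1 (congrArg Subtype.val h1)
    have := CARDJ.sum_nonprincipal K hx
    have e : ((∑ μ, sgn μ : ℤ) : ℂ) = -1 := by
      rw [← this, Int.cast_sum]
      exact Finset.sum_congr rfl (fun μ _ => cd.hsgn μ)
    exact_mod_cast e

end Cfsg.Agent.Helper3.BSW
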