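import Mathlib
import Cfsg.Agent.Lib.Helper3.BSWDefs
import Cfsg.Agent.Lib.Helper25.BSWVALSA
import Cfsg.Agent.Lib.Helper8.BSWREALC

/-!
# S3282 piece CENTA (helper12 for helper3): in case A every element of `R'` is real and `|C(y)| = 2k+1 + k St y`
-/

set_option autoImplicit false

namespace Cfsg.Agent.Helper3.BSW

universe u

variable {G : Type u} [Group G] [Fintype G] {t s : G} {K : Subgroup G} {St : G → ℤ}

/-- PIECE CENTA (IIA2). `rc y = 2k+1 + k St y ≥ k+1 > 0` (`hA.rform`, `stA_vals`), so an involution inverts `y`; `real_cent`. -/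
theorem cent_A (h : Hyp t s K) (hA : StA K St) {y : G} (hy : InR K y) :
    (∃ u : G, orderOf u = 2 ∧ u * y * u⁻¹ = y⁻¹) ∧
      (Nat.card (Subgroup.centralizer ({y} : Set G)) : ℤ) =
        2 * (Nat.card K : ℤ) + 1 + (Nat.card K : ℤ) * St y := by
  have hr := hA.rform y hy
  have hv := stA_vals h hA hy
  have hk : (0 : ℤ) ≤ (Nat.card K : ℤ) := Int.natCast_nonneg _
  have hpos : rc y ≠ 0 := by
    intro h0
    rw [h0] at hr
    rcases hv with hv | hv
    · rw [hv] at hr
      push_cast at hr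
      linarith
    · rw [hv] at hr
      push_cast at hr
      linarith
  have hne : Nonempty {u : G // orderOf u = 2 ∧ u * y * u⁻¹ = y⁻¹} := by
    by_contra hcon
    rw [not_nonempty_iff] at hcon
    apply hpos
    unfold rc
    exact Nat.card_of_isEmpty
  obtain ⟨⟨u, hu, huy⟩⟩ := hne
  refine ⟨⟨u, hu, huy⟩, ?_⟩
  have h3 := (real_cent h hy hu huy).2.2
  rw [← h3]
  exact hr

end Cfsg.Agent.Helper3.BSW
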