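import Mathlib
import Cfsg.Prelude.Def_Blocks
import Cfsg.Agent.Lib.Helper24.CharLinear
import Cfsg.Agent.Lib.Helper24.CharInduced
import Cfsg.Agent.Lib.Helper24.CharComplete
import Cfsg.Agent.Lib.Helper24.CharOrtho
import Cfsg.Agent.Lib.Helper10.BR996Defs
import Cfsg.Agent.Lib.Helper21.BTDefs

/-!
# S0997 piece DECOMP (helper12): multiplicities, degree and weight of a character
-/

set_option autoImplicit false
set_option linter.unusedSectionVars false
set_option linter.unusedVariables false
set_option linter.style.haveILetI false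

namespace Cfsg.Agent.Helper21.BT

open scoped ComplexConjugate
open Cfsg Cfsg.Agent.Helper24 Cfsg.Agent.Helper10.BR996

universe u

variable {G : Type u} [Group G] [Fintype G] [Fintype (IrrCharacter G)]

variable (p : ℕ) [Fact p.Prime] (P : Subgroup G)

local notation "𝒩" => Subgroup.normalizer (P : Set G)

namespace DECOMP

/-- the weight is additive and homogeneous -/
theorem Aw_sum_smul {ι : Type*} (s : Finset ι) (c : ι → ℂ) (f : ι → G → ℂ) :
    Aw P (∑ i ∈ s, c i • f i) = ∑ i ∈ s, c i * Aw P (f i) := by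
  classical
  unfold Aw psum
  rw [Finset.mul_sum]
  have h1 : ∀ z : G, (Nat.card P : ℂ)⁻¹ * (if z ∈ P then (∑ i ∈ s, c i • f i) z else 0) =
      ∑ i ∈ s, c i * ((Nat.card P : ℂ)⁻¹ * (if z ∈ P then f i z else 0)) := by
    intro z
    by_cases hz : z ∈ P
    · simp only [hz, if_true, Finset.sum_apply, Pi.smul_apply, smul_eq_mul]
      rw [Finset.mul_sum]
      apply Finset.sum_congr rfl
      intro i _
      ring
    · simp [hz]
  rw [Finset.sum_congr rfl (fun z _ => h1 z), Finset.sum_comm]
  apply Finset.sum_congr rfl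
  intro i _
  rw [Finset.mul_sum, Finset.mul_sum]

end DECOMP

/-! ## PIECE DECOMP: multiplicities, degree and weight of a character -/

/-- PIECE DECOMP (`isCharacter_decomp`, `irr_orthogonality'`, linearity of `Aw`). -/
theorem exists_mult {φ : G → ℂ} (hφ : IsCharacter G φ) :
    ∃ m : IrrCharacter G → ℕ, (∀ χ : IrrCharacter G, classInner φ (χ : G → ℂ) = (m χ : ℂ)) ∧
      φ 1 = ∑ χ : IrrCharacter G, (m χ : ℂ) * (charDegree (χ : G → ℂ) : ℂ) ∧
      Aw P φ = ∑ χ : IrrCharacter G, (m χ : ℂ) * Aw P (χ : G → ℂ) := by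
  obtain ⟨h1, h2⟩ := isCharacter_decomp hφ
  choose m hm using h1
  refine ⟨m, hm, ?_, ?_⟩
  · have h3 := congrFun h2 1
    rw [Finset.sum_apply] at h3
    rw [h3]
    apply Finset.sum_congr rfl
    intro χ _
    rw [Pi.smul_apply, smul_eq_mul, hm χ, irr_one_eq_charDegree χ.2]
  · have h3 : Aw P φ = Aw P (∑ χ : IrrCharacter G, classInner φ (χ : G → ℂ) • (χ : G → ℂ)) := by
      rw [← h2]
    rw [h3, DECOMP.Aw_sum_smul]
    apply Finset.sum_congr rfl
    intro χ _
    rw [hm χ]

end Cfsg.Agent.Helper21.BT
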