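import Mathlib
import Cfsg.Prelude.Def_Blocks
import Cfsg.Agent.Lib.Helper24.CharLinear
import Cfsg.Agent.Lib.Helper24.CharInduced
import Cfsg.Agent.Lib.Helper24.CharComplete
import Cfsg.Agent.Lib.Helper10.BR996Defs
import Cfsg.Agent.Lib.Helper21.BTDefs
import Cfsg.Agent.Lib.Helper12.BR996WT
import Cfsg.Agent.Lib.Helper6.BR996GA

/-!
# S0997 piece SUPP (helper12): inner products of class functions supported on the `p`-singular elements
-/

set_option autoImplicit false
set_option linter.unusedSectionVars false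
set_option linter.unusedVariables false
set_option linter.style.haveILetI false

namespace Cfsg.Agent.Helper21.BT

open scoped ComplexConjugate
open Cfsg Cfsg.Agent.Helper24 Cfsg.Agent.Helper10.BR996

universe u

variable {G : Type u} [Group G] [Fintype G] [Fintype (IrrCharacter G)]

variable (p : ℕ) [Fact p.Prime] (P : Subgroup G)

local notation "𝒩" => Subgroup.normalizer (P : Set G)

namespace SUPP

/-- the permutation character `1_P^G` equals `w = |N : P|` on every `p`-singular element -/
theorem permP_of_dvd (hcard : Nat.card P = p) (hcent : Subgroup.centralizer (P : Set G) ≤ P)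
    {g : G} (hg : p ∣ orderOf g) : permP P g = (P.relIndex 𝒩 : ℂ) := by
  obtain ⟨x, hx, hx1⟩ := exists_conj_mem_of_dvd p P hcard hcent hg
  have hcl : IsClassFunction G (permP P) := isClassFunction_of_isCharacter (permP_isCharacter P)
  have h1 : g = x * (x⁻¹ * g * x) * x⁻¹ := by group
  rw [h1, hcl, permP_of_mem p P hcard hcent hx hx1]

/-- the sum over `G` of a class function supported on the `p`-singular elements -/
theorem classInner_one_of_support (hcard : Nat.card P = p)
    (hcent : Subgroup.centralizer (P : Set G) ≤ P) {φ : G → ℂ} (hφ : IsClassFunction G φ)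
    (hvan : ∀ g : G, ¬ p ∣ orderOf g → φ g = 0) :
    (Nat.card G : ℂ)⁻¹ * ∑ g : G, φ g =
      ((p : ℂ) * (P.relIndex 𝒩 : ℂ))⁻¹ * dsum P φ := by
  have hp : p.Prime := Fact.out
  have hp0 : (p : ℂ) ≠ 0 := by exact_mod_cast hp.ne_zero
  have hw0 : (P.relIndex 𝒩 : ℂ) ≠ 0 := by
    have : P.relIndex 𝒩 ≠ 0 := Subgroup.index_ne_zero_of_finite
    exact_mod_cast this
  -- `φ * conj (1_P^G) = w φ` pointwise
  have key : ∀ g : G, φ g * conj (permP P g) = (P.relIndex 𝒩 : ℂ) * φ g := by
    intro g
    by_cases hg : p ∣ orderOf g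
    · rw [permP_of_dvd p P hcard hcent hg, Complex.conj_natCast, mul_comm]
    · rw [hvan g hg, zero_mul, mul_zero]
  -- Frobenius reciprocity
  have h1 : classInner φ (permP P) = Aw P φ := classInner_permP P hφ
  have h2 : classInner φ (permP P) =
      (P.relIndex 𝒩 : ℂ) * ((Nat.card G : ℂ)⁻¹ * ∑ g : G, φ g) := by
    unfold classInner
    rw [Finset.sum_congr rfl (fun g _ => key g), ← Finset.mul_sum]
    ring
  have h3 : (p : ℂ) * Aw P φ = φ 1 + dsum P φ := Aw_eq p P hcard φ
  have h4 : φ 1 = 0 := hvan 1 (by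
    rw [orderOf_one]
    exact fun h => hp.one_lt.ne' (Nat.dvd_one.mp h))
  rw [h4, zero_add] at h3
  rw [h1] at h2
  have h5 : (Nat.card G : ℂ)⁻¹ * ∑ g : G, φ g = (P.relIndex 𝒩 : ℂ)⁻¹ * Aw P φ := by
    rw [h2, ← mul_assoc, inv_mul_cancel₀ hw0, one_mul]
  have h6 : Aw P φ = (p : ℂ)⁻¹ * dsum P φ := by
    rw [← h3, ← mul_assoc, inv_mul_cancel₀ hp0, one_mul]
  rw [h5, h6, mul_inv]
  ring

end SUPP

/-! ## PIECE SUPP: inner products of class functions supported on the `p`-singular elements -/

/-- PIECE SUPP. -/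
theorem classInner_of_support (hcard : Nat.card P = p)
    (hcent : Subgroup.centralizer (P : Set G) ≤ P) {F χ : G → ℂ} (hF : IsClassFunction G F)
    (hχ : IsClassFunction G χ) (hvan : ∀ g : G, ¬ p ∣ orderOf g → F g = 0) :
    classInner F χ =
      ((p : ℂ) * (P.relIndex 𝒩 : ℂ))⁻¹ * dsum P (fun g => F g * conj (χ g)) := by
  have hφ : IsClassFunction G (fun g => F g * conj (χ g)) := by
    intro g h
    show F (h * g * h⁻¹) * conj (χ (h * g * h⁻¹)) = F g * conj (χ g)
    rw [hF g h, hχ g h]
  have hv : ∀ g : G, ¬ p ∣ orderOf g → (fun g => F g * conj (χ g)) g = 0 := by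
    intro g hg
    show F g * conj (χ g) = 0
    rw [hvan g hg, zero_mul]
  have := SUPP.classInner_one_of_support p P hcard hcent hφ hv
  unfold classInner
  exact this

end Cfsg.Agent.Helper21.BT
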