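import Mathlib
import Cfsg.Prelude.Def_Blocks
import Cfsg.Agent.Lib.Helper24.CharLinear
import Cfsg.Agent.Lib.Helper24.CharInduced
import Cfsg.Agent.Lib.Helper24.CharComplete
import Cfsg.Agent.Lib.Helper24.CharAlgebra
import Cfsg.Agent.Lib.Helper10.BR996Defs
import Cfsg.Agent.Lib.Helper21.BTDefs
import Cfsg.Agent.Lib.Helper12.BTSUPP
import Cfsg.Agent.Lib.Helper12.BTDECOMP

/-!
# S0997 piece DELTA (helper12): the Delta trick
-/

set_option autoImplicit false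
set_option linter.unusedSectionVars false
set_option linter.unusedVariables false
set_option linter.style.haveILetI false

namespace Cfsg.Agent.Helper21.BT

open scoped ComplexConjugate
open Cfsg Cfsg.Agent.Helper24 Cfsg.Agent.Helper10.BR996

universe u

variable {G : Type u} [Group G] [Fintype G] [Fintype (IrrCharacter G)]

variable (p : ℕ) [Fact p.Prime] (P : Subgroup G)

local notation "𝒩" => Subgroup.normalizer (P : Set G)

namespace DELTA

theorem dsum_sub (f g : G → ℂ) : dsum P (fun z => f z - g z) = dsum P f - dsum P g := by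
  classical
  unfold dsum
  rw [← Finset.sum_sub_distrib]
  apply Finset.sum_congr rfl
  intro z _
  by_cases hz : z ∈ P ∧ z ≠ 1
  · rw [if_pos hz, if_pos hz, if_pos hz]
  · rw [if_neg hz, if_neg hz, if_neg hz, sub_zero]

theorem dsum_congr {f g : G → ℂ} (h : ∀ z ∈ P, z ≠ 1 → f z = g z) : dsum P f = dsum P g := by
  classical
  unfold dsum
  apply Finset.sum_congr rfl
  intro z _
  by_cases hz : z ∈ P ∧ z ≠ 1
  · rw [if_pos hz, if_pos hz, h z hz.1 hz.2]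
  · rw [if_neg hz, if_neg hz]

theorem dsum_mul_const (f : G → ℂ) (c : ℂ) : dsum P (fun z => f z * c) = dsum P f * c := by
  classical
  unfold dsum
  rw [Finset.sum_mul]
  apply Finset.sum_congr rfl
  intro z _
  by_cases hz : z ∈ P ∧ z ≠ 1
  · rw [if_pos hz, if_pos hz]
  · rw [if_neg hz, if_neg hz, zero_mul]

theorem classInner_sub_left (f g χ : G → ℂ) :
    classInner (fun z => f z - g z) χ = classInner f χ - classInner g χ := by
  unfold classInner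
  rw [← mul_sub, ← Finset.sum_sub_distrib]
  congr 1
  apply Finset.sum_congr rfl
  intro z _
  ring

end DELTA

/-! ## PIECE DELTA: the Delta trick (section 3 of the paper proof) -/

/-- PIECE DELTA. -/
theorem delta_mult (hcard : Nat.card P = p) (hcent : Subgroup.centralizer (P : Set G) ≤ P)
    (w t : ℕ) (hw : P.relIndex 𝒩 = w) (D : BTData p P w t)
    (θ θ' : IrrCharacter G) (hθ : θ ∈ D.Y) (hθ' : θ' ∈ D.Y) (hne : θ ≠ θ')
    (a : IrrCharacter G → ℕ) (ha : ∀ χ : IrrCharacter G, Aw P (χ : G → ℂ) = (a χ : ℂ)) :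
    ∃ m1 m2 : IrrCharacter G → ℕ,
      (∀ χ ∈ D.X, (m1 χ : ℤ) - (m2 χ : ℤ) = D.sg χ) ∧
      ∑ χ, m1 χ * charDegree (χ : G → ℂ) = charDegree (θ : G → ℂ) ^ 2 ∧
      ∑ χ, m2 χ * charDegree (χ : G → ℂ) = charDegree (θ : G → ℂ) ^ 2 ∧
      p * ∑ χ, m1 χ * a χ + w ^ 2 = charDegree (θ : G → ℂ) ^ 2 + p * w ∧
      p * ∑ χ, m2 χ * a χ + w ^ 2 = charDegree (θ : G → ℂ) ^ 2 := by
  have hp : p.Prime := Fact.out
  have hp0 : (p : ℂ) ≠ 0 := by exact_mod_cast hp.ne_zero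
  have hw0 : (w : ℂ) ≠ 0 := by
    have : P.relIndex 𝒩 ≠ 0 := Subgroup.index_ne_zero_of_finite
    rw [hw] at this
    exact_mod_cast this
  have hone : ¬ p ∣ orderOf (1 : G) := by
    rw [orderOf_one]
    exact fun h => hp.one_lt.ne' (Nat.dvd_one.mp h)
  -- the two products
  have hθc : IsCharacter G (θ : G → ℂ) := isCharacter_of_isIrrCharacter θ.2
  have hθ'c : IsCharacter G (θ' : G → ℂ) := isCharacter_of_isIrrCharacter θ'.2
  set Ξ : G → ℂ := (θ : G → ℂ) * (fun g => conj ((θ : G → ℂ) g)) with hΞ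
  set Ξ' : G → ℂ := (θ : G → ℂ) * (fun g => conj ((θ' : G → ℂ) g)) with hΞ'
  have hΞc : IsCharacter G Ξ := isCharacter_mul hθc (isCharacter_conj hθc)
  have hΞ'c : IsCharacter G Ξ' := isCharacter_mul hθc (isCharacter_conj hθ'c)
  have hΞv : ∀ g, Ξ g = (θ : G → ℂ) g * conj ((θ : G → ℂ) g) := fun g => rfl
  have hΞ'v : ∀ g, Ξ' g = (θ : G → ℂ) g * conj ((θ' : G → ℂ) g) := fun g => rfl
  obtain ⟨m1, hm1, hdeg1, hwt1⟩ := exists_mult P hΞc
  obtain ⟨m2, hm2, hdeg2, hwt2⟩ := exists_mult P hΞ'c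
  -- degrees
  have hd : (θ : G → ℂ) 1 = (charDegree (θ : G → ℂ) : ℂ) := irr_one_eq_charDegree θ.2
  have hd' : (θ' : G → ℂ) 1 = (charDegree (θ : G → ℂ) : ℂ) := by
    rw [← D.regY θ hθ θ' hθ' 1 hone, hd]
  have hΞ1 : Ξ 1 = ((charDegree (θ : G → ℂ) : ℂ)) ^ 2 := by
    rw [hΞv, hd, Complex.conj_natCast, sq]
  have hΞ'1 : Ξ' 1 = ((charDegree (θ : G → ℂ) : ℂ)) ^ 2 := by
    rw [hΞ'v, hd, hd', Complex.conj_natCast, sq]
  -- deficiencies
  have hds1 : dsum P Ξ = (p : ℂ) * (w : ℂ) - (w : ℂ) ^ 2 := D.selfY θ hθ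
  have hds2 : dsum P Ξ' = -(w : ℂ) ^ 2 := D.crossY θ hθ θ' hθ' hne
  refine ⟨m1, m2, ?_, ?_, ?_, ?_, ?_⟩
  · -- the multiplicities on `X`
    intro χ hχ
    have hcl : IsClassFunction G (fun z => Ξ z - Ξ' z) := by
      have h1 := isClassFunction_of_isCharacter hΞc
      have h2 := isClassFunction_of_isCharacter hΞ'c
      intro g h
      show Ξ (h * g * h⁻¹) - Ξ' (h * g * h⁻¹) = Ξ g - Ξ' g
      rw [h1 g h, h2 g h]
    have hχcl : IsClassFunction G (χ : G → ℂ) := isClassFunction_of_isIrrCharacter χ.2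
    have hvan : ∀ g : G, ¬ p ∣ orderOf g → (fun z => Ξ z - Ξ' z) g = 0 := by
      intro g hg
      show Ξ g - Ξ' g = 0
      rw [hΞv, hΞ'v, D.regY θ hθ θ' hθ' g hg, sub_self]
    have h1 := classInner_of_support p P hcard hcent hcl hχcl hvan
    rw [hw] at h1
    have h2 : dsum P (fun g => (fun z => Ξ z - Ξ' z) g * conj ((χ : G → ℂ) g)) =
        dsum P (fun z => (Ξ z - Ξ' z) * (D.sg χ : ℂ)) := by
      apply DELTA.dsum_congr
      intro z hz hz1
      show (Ξ z - Ξ' z) * conj ((χ : G → ℂ) z) = (Ξ z - Ξ' z) * (D.sg χ : ℂ)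
      rw [D.valX χ hχ z hz hz1, map_intCast]
    rw [h2, DELTA.dsum_mul_const, DELTA.dsum_sub, hds1, hds2, DELTA.classInner_sub_left, hm1 χ,
      hm2 χ] at h1
    have h3 : ((m1 χ : ℂ) - (m2 χ : ℂ)) = (D.sg χ : ℂ) := by
      rw [h1]
      field_simp
      ring
    exact_mod_cast h3
  · have : ((∑ χ, m1 χ * charDegree (χ : G → ℂ) : ℕ) : ℂ) =
        ((charDegree (θ : G → ℂ) ^ 2 : ℕ) : ℂ) := by
      push_cast
      rw [← hdeg1, hΞ1]
    exact_mod_cast this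
  · have : ((∑ χ, m2 χ * charDegree (χ : G → ℂ) : ℕ) : ℂ) =
        ((charDegree (θ : G → ℂ) ^ 2 : ℕ) : ℂ) := by
      push_cast
      rw [← hdeg2, hΞ'1]
    exact_mod_cast this
  · have h1 : (p : ℂ) * Aw P Ξ = Ξ 1 + dsum P Ξ := Aw_eq p P hcard Ξ
    rw [hwt1, hΞ1, hds1] at h1
    have : ((p * ∑ χ, m1 χ * a χ + w ^ 2 : ℕ) : ℂ) =
        ((charDegree (θ : G → ℂ) ^ 2 + p * w : ℕ) : ℂ) := by
      push_cast
      have h2 : ∑ χ : IrrCharacter G, (m1 χ : ℂ) * Aw P (χ : G → ℂ) =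
          ∑ χ : IrrCharacter G, (m1 χ : ℂ) * (a χ : ℂ) :=
        Finset.sum_congr rfl (fun χ _ => by rw [ha χ])
      rw [h2] at h1
      rw [h1]
      ring
    exact_mod_cast this
  · have h1 : (p : ℂ) * Aw P Ξ' = Ξ' 1 + dsum P Ξ' := Aw_eq p P hcard Ξ'
    rw [hwt2, hΞ'1, hds2] at h1
    have : ((p * ∑ χ, m2 χ * a χ + w ^ 2 : ℕ) : ℂ) =
        ((charDegree (θ : G → ℂ) ^ 2 : ℕ) : ℂ) := by
      push_cast
      have h2 : ∑ χ : IrrCharacter G, (m2 χ : ℂ) * Aw P (χ : G → ℂ) =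
          ∑ χ : IrrCharacter G, (m2 χ : ℂ) * (a χ : ℂ) :=
        Finset.sum_congr rfl (fun χ _ => by rw [ha χ])
      rw [h2] at h1
      rw [h1]
      ring
    exact_mod_cast this

end Cfsg.Agent.Helper21.BT
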