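import Mathlib
import Cfsg.Agent.Lib.Helper14.BhsDefs

/-!
# S2999 (helper14 farm-out) PIECE BHS-PART (helper12): in the ideal configuration every conjugate of
`D = C_W(A)` is `D` or one of the `(a x) • D`, `a ∈ A`.
-/

set_option autoImplicit false

namespace Cfsg.Agent.Helper14.Bhs

open Pointwise

universe u v

section grp3

variable {P : Type u} [Group P] [Finite P] {W : Type v} [AddCommGroup W] [Finite W]
  [DistribMulAction P W] {p : ℕ} [Fact p.Prime] {T : Sylow p P} {M A : Subgroup P}

/-- elements of `Z = C_W(P)` are fixed -/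
theorem bhs_part_smul_of_mem_top {z : W} (hz : z ∈ fix W (⊤ : Subgroup P)) (g : P) : g • z = z :=
  mem_fix_top.1 hz g

/-- (i) every vector lies in `D` or in some `(a x) • D` -/
theorem bhs_part_cover {x : P} (hI : Ideal W A x) (w : W) :
    w ∈ fix W A ∨ ∃ a ∈ A, (a * x)⁻¹ • w ∈ fix W A := by
  obtain ⟨h1, -, -, -, -, h6⟩ := hI
  have hw : w ∈ fix W A ⊔ x • fix W A := by rw [h1]; exact AddSubgroup.mem_top w
  obtain ⟨d, hd, e, he, rfl⟩ := AddSubgroup.mem_sup.1 hw
  by_cases heZ : e ∈ fix W (⊤ : Subgroup P)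
  · left
    exact AddSubgroup.add_mem _ hd (fix_top_le A heZ)
  · right
    obtain ⟨a, ha, hz⟩ := h6 e he heZ d hd
    refine ⟨a, ha, ?_⟩
    -- `d + e = a • e - z`
    set z := cm e a - d with hzdef
    have e1 : d + e = a • e - z := by
      rw [hzdef, cm_def]; abel
    rw [e1, smul_sub, bhs_part_smul_of_mem_top hz]
    apply AddSubgroup.sub_mem _ _ (fix_top_le A hz)
    rw [mul_inv_rev, mul_smul, inv_smul_smul]
    exact AddSubgroup.mem_pointwise_smul_iff_inv_smul_mem.1 he

/-- (ii) `M` stabilizes `D` -/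
theorem bhs_part_stab (h : Hyp W p T M A) (hic : InterConj W M A) {x : P} (hx : x ∉ M)
    (hI : Ideal W A x) {m : P} (hm : m ∈ M) {w : W} (hw : m⁻¹ • w ∈ fix W A) : w ∈ fix W A := by
  rcases bhs_part_cover hI w with h1 | ⟨a, ha, h1⟩
  · exact h1
  · have haM : a ∈ M := h.hTM (h.hAT ha)
    have hg : m⁻¹ * a * x ∉ M := by
      intro hcon
      apply hx
      have : x = a⁻¹ * (m * (m⁻¹ * a * x)) := by group
      rw [this]
      exact M.mul_mem (M.inv_mem haM) (M.mul_mem hm hcon)
    have hv : m⁻¹ • w ∈ fix W A ⊓ (m⁻¹ * a * x) • fix W A := by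
      refine AddSubgroup.mem_inf.2 ⟨hw, ?_⟩
      rw [AddSubgroup.mem_pointwise_smul_iff_inv_smul_mem, ← mul_smul]
      have : (m⁻¹ * a * x)⁻¹ * m⁻¹ = (a * x)⁻¹ := by group
      rw [this]
      exact h1
    rw [hic _ hg] at hv
    have e1 : w = m • (m⁻¹ • w) := by rw [smul_inv_smul]
    rw [e1, bhs_part_smul_of_mem_top hv]
    exact fix_top_le A hv

/-! ### BHS-PART -/

theorem part (h : Hyp W p T M A) (hic : InterConj W M A) {x : P} (hx : x ∉ M)
    (hI : Ideal W A x) : Part W A x := by
  have hstab : ∀ m ∈ M, m • fix W A = fix W A := by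
    intro m hm
    ext w
    rw [AddSubgroup.mem_pointwise_smul_iff_inv_smul_mem]
    constructor
    · intro hw
      exact bhs_part_stab h hic hx hI hm hw
    · intro hw
      apply bhs_part_stab h hic hx hI (M.inv_mem hm)
      rw [inv_inv, smul_inv_smul]
      exact hw
  intro g
  by_cases hg : g ∈ M
  · left
    exact hstab g hg
  · right
    obtain ⟨d, hd, hdZ⟩ : ∃ d ∈ fix W A, d ∉ fix W (⊤ : Subgroup P) := by
      by_contra hcon
      push Not at hcon
      exact hI.2.2.2.1 (fun w hw => hcon w hw)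
    rcases bhs_part_cover hI (g • d) with h1 | ⟨a, ha, h1⟩
    · exfalso
      have hv : g • d ∈ fix W A ⊓ g • fix W A := by
        refine AddSubgroup.mem_inf.2 ⟨h1, ?_⟩
        rw [AddSubgroup.mem_pointwise_smul_iff_inv_smul_mem, inv_smul_smul]
        exact hd
      rw [hic g hg] at hv
      apply hdZ
      have e1 : d = g⁻¹ • (g • d) := by rw [inv_smul_smul]
      rw [e1, bhs_part_smul_of_mem_top hv]
      exact hv
    · refine ⟨a, ha, ?_⟩
      have hk : g⁻¹ * a * x ∈ M := by
        by_contra hk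
        apply hdZ
        have hv : d ∈ fix W A ⊓ (g⁻¹ * a * x) • fix W A := by
          refine AddSubgroup.mem_inf.2 ⟨hd, ?_⟩
          rw [AddSubgroup.mem_pointwise_smul_iff_inv_smul_mem]
          have e2 : (g⁻¹ * a * x)⁻¹ • d = (a * x)⁻¹ • g • d := by
            rw [← mul_smul]
            congr 1
            group
          rw [e2]
          exact h1
        rw [hic _ hk] at hv
        exact hv
      have e3 : a * x = g * (g⁻¹ * a * x) := by group
      rw [e3, mul_smul, hstab _ hk]

end grp3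

end Cfsg.Agent.Helper14.Bhs
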