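import Mathlib
import Cfsg.Agent.Lib.Helper12.BinIco3
import Cfsg.Agent.Lib.Helper12.Small60
import Cfsg.Agent.Lib.Helper2.Order60

/-!
# Nonsolvable groups of order `120` with quaternion Sylow `2`-subgroups
-/

set_option autoImplicit false

namespace Cfsg.Agent.Helper12.BinIco

universe u

open scoped Pointwise

/-- `z` is the unique involution of `P`. -/
structure UInv {P : Type*} [Group P] (z : P) : Prop where
  ne : z ≠ 1
  sq : z ^ 2 = 1
  uniq : ∀ w : P, w ^ 2 = 1 → w = 1 ∨ w = z

theorem quat_uinv : UInv (QuaternionGroup.a 2 : QuaternionGroup 2) :=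
  ⟨by decide, by decide, by decide⟩

theorem exists_uinv {P : Type*} [Group P] (e : P ≃* QuaternionGroup 2) :
    ∃ z : P, UInv z ∧ Nat.card P = 8 := by
  refine ⟨e.symm (QuaternionGroup.a 2), ⟨?_, ?_, ?_⟩, ?_⟩
  · intro h
    apply quat_uinv.ne
    have := congrArg e h
    simpa using this
  · rw [← map_pow, quat_uinv.sq, map_one]
  · intro w hw
    have h1 : (e w) ^ 2 = 1 := by rw [← map_pow, hw, map_one]
    rcases quat_uinv.uniq _ h1 with h | h
    · left
      have := congrArg e.symm h
      simpa using this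
    · right
      have := congrArg e.symm h
      simpa using this
  · rw [Nat.card_congr e.toEquiv, Nat.card_eq_fintype_card, QuaternionGroup.card]

theorem uinv_smul {P : Type*} [Group P] [Finite P] {X : Type*} [MulAction P X] [Finite X]
    (hP : Nat.card P = 8) (hX : Nat.card X < 8) {z : P} (hz : UInv z) (x : X) : z • x = x := by
  haveI : Fact (Nat.Prime 2) := ⟨Nat.prime_two⟩
  have h1 := MulAction.index_stabilizer P x
  have h2 := Subgroup.card_mul_index (MulAction.stabilizer P x)
  have h3 : (MulAction.orbit P x).ncard ≤ Nat.card X := Set.ncard_le_card _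
  rw [hP] at h2
  have hdvd : Nat.card (MulAction.stabilizer P x) ∣ 2 ^ 3 := ⟨_, by rw [h2]; norm_num⟩
  obtain ⟨k, hk, hk2⟩ := (Nat.dvd_prime_pow Nat.prime_two).mp hdvd
  have hk0 : k ≠ 0 := by
    rintro rfl
    rw [hk2, pow_zero, one_mul] at h2
    omega
  have h2dvd : 2 ∣ Nat.card (MulAction.stabilizer P x) := by
    rw [hk2]
    exact dvd_pow_self 2 hk0
  obtain ⟨w, hw⟩ := exists_prime_orderOf_dvd_card' 2 h2dvd
  have hw2 : (w : P) ^ 2 = 1 := by
    have := pow_orderOf_eq_one w
    rw [hw] at this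
    have := congrArg Subtype.val this
    simpa using this
  have hw1 : (w : P) ≠ 1 := by
    intro h
    have : w = 1 := Subtype.ext h
    rw [this, orderOf_one] at hw
    omega
  rcases hz.uniq _ hw2 with h | h
  · exact absurd h hw1
  · have := w.2
    rw [h] at this
    exact MulAction.mem_stabilizer_iff.mp this

section Main

variable {G : Type u} [Group G] [Finite G]

theorem fact120 : (120 : ℕ).factorization 5 = 1 := by
  have h : (120 : ℕ) = 5 * 24 := by norm_num
  rw [h, Nat.factorization_mul (by norm_num) (by norm_num)]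
  simp only [Finsupp.coe_add, Pi.add_apply]
  rw [Nat.Prime.factorization_self (by norm_num),
    Nat.factorization_eq_zero_of_not_dvd (by norm_num)]

theorem card_sylow_five (h120 : Nat.card G = 120) (hns : ¬ IsSolvable G) :
    Nat.card (Sylow 5 G) = 6 := by
  haveI : Fact (Nat.Prime 5) := ⟨by norm_num⟩
  obtain ⟨P⟩ : Nonempty (Sylow 5 G) := inferInstance
  have hP : Nat.card P = 5 := by
    rw [Sylow.card_eq_multiplicity, h120, fact120, pow_one]
  have hidx : (P : Subgroup G).index = 24 := by
    have := Subgroup.card_mul_index (P : Subgroup G)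
    rw [hP, h120] at this
    omega
  have hdvd : Nat.card (Sylow 5 G) ∣ 24 := hidx ▸ Sylow.card_dvd_index P
  have hmod := card_sylow_modEq_one 5 G
  have hle : Nat.card (Sylow 5 G) ≤ 24 := Nat.le_of_dvd (by norm_num) hdvd
  unfold Nat.ModEq at hmod
  obtain ⟨n, hn⟩ : ∃ n, n = Nat.card (Sylow 5 G) := ⟨_, rfl⟩
  rw [← hn] at hdvd hmod hle ⊢
  have h16 : n = 1 ∨ n = 6 := by
    interval_cases n <;> omega
  rcases h16 with h1 | h6
  · exfalso
    apply hns
    haveI : Subsingleton (Sylow 5 G) := by
      rw [← Finite.card_le_one_iff_subsingleton, ← hn, h1]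
    haveI : (P : Subgroup G).Normal := Sylow.normal_of_subsingleton P
    have hq : Nat.card (G ⧸ (P : Subgroup G)) = 24 := by
      rw [← Subgroup.index_eq_card]; exact hidx
    exact Small60.isSolvable_of_normal (P : Subgroup G)
      (Small60.isSolvable_of_card_lt 5 _ hP (by norm_num))
      (Small60.isSolvable_of_card_lt 24 _ hq (by norm_num))
  · exact h6

/-- The structure of a nonsolvable group of order `120` with quaternion Sylow `2`-subgroups. -/
theorem exists_central_inv (h120 : Nat.card G = 120) (hns : ¬ IsSolvable G)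
    (hQ : ∀ P : Sylow 2 G, Nonempty ((P : Subgroup G) ≃* QuaternionGroup 2)) :
    ∃ z : G, z ≠ 1 ∧ z ^ 2 = 1 ∧ (∀ g, g * z = z * g) ∧ (∀ w : G, w ^ 2 = 1 → w = 1 ∨ w = z) ∧
      ∃ f : G →* alternatingGroup (Fin 5), Function.Surjective f ∧
        ∀ g, f g = 1 ↔ g = 1 ∨ g = z := by
  haveI : Fact (Nat.Prime 2) := ⟨Nat.prime_two⟩
  haveI : Fact (Nat.Prime 5) := ⟨by norm_num⟩
  have h6 := card_sylow_five h120 hns
  obtain ⟨P⟩ : Nonempty (Sylow 2 G) := inferInstance
  obtain ⟨e⟩ := hQ P
  obtain ⟨z0, hz0, hP8⟩ := exists_uinv e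
  obtain ⟨K, hK⟩ : ∃ K : Subgroup G, K = (MulAction.toPermHom G (Sylow 5 G)).ker := ⟨_, rfl⟩
  haveI : K.Normal := by rw [hK]; infer_instance
  have hmemK : ∀ g : G, g ∈ K ↔ ∀ Q : Sylow 5 G, g • Q = Q := by
    intro g
    rw [hK, MonoidHom.mem_ker]
    constructor
    · intro h Q
      have := congrArg (fun σ : Equiv.Perm (Sylow 5 G) => σ Q) h
      simpa using this
    · intro h
      refine Equiv.ext (fun Q => ?_)
      rw [MulAction.toPermHom_apply, MulAction.toPerm_apply, Equiv.Perm.one_apply]
      exact h Q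
  have hzK : (z0 : G) ∈ K := by
    rw [hmemK]
    intro Q
    exact uinv_smul (P := (P : Subgroup G)) (X := Sylow 5 G) hP8 (by omega) hz0 Q
  have hz1 : (z0 : G) ≠ 1 := by
    intro h
    exact hz0.ne (Subtype.ext h)
  have hz2 : (z0 : G) ^ 2 = 1 := by
    have := congrArg Subtype.val hz0.sq
    simpa using this
  -- size of `K`
  obtain ⟨Q0⟩ : Nonempty (Sylow 5 G) := inferInstance
  have hKle : K ≤ Subgroup.normalizer (Q0 : Subgroup G) := by
    intro k hk
    exact Sylow.smul_eq_iff_mem_normalizer.mp ((hmemK k).mp hk Q0)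
  have hN : Nat.card (Subgroup.normalizer ((Q0 : Subgroup G) : Set G)) = 20 := by
    have h1 : Nat.card (Sylow 5 G) = (Subgroup.normalizer ((Q0 : Subgroup G) : Set G)).index :=
      Sylow.card_eq_index_normalizer Q0
    have h2 := Subgroup.card_mul_index (Subgroup.normalizer ((Q0 : Subgroup G) : Set G))
    rw [← h1, h6, h120] at h2
    omega
  have hK20 : Nat.card K ≤ 20 := hN ▸ Subgroup.card_le_of_le hKle
  have hKsolv : IsSolvable K := Small60.isSolvable_of_card_lt (Nat.card K) K rfl (by omega)
  have hqns : ¬ IsSolvable (G ⧸ K) := fun h => hns (Small60.isSolvable_of_normal K hKsolv h)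
  have hq60 : 60 ≤ Nat.card (G ⧸ K) := by
    by_contra hlt
    exact hqns (Small60.isSolvable_of_card_lt (Nat.card (G ⧸ K)) (G ⧸ K) rfl (by omega))
  have hmul := Subgroup.card_eq_card_quotient_mul_card_subgroup K
  rw [h120] at hmul
  have hK2 : 2 ≤ Nat.card K := by
    have : 1 < Nat.card K := by
      rw [Subgroup.one_lt_card_iff_ne_bot]
      intro hb
      rw [hb, Subgroup.mem_bot] at hzK
      exact hz1 hzK
    omega
  have hKcard : Nat.card K = 2 := by
    by_contra hne
    have h3 : 3 ≤ Nat.card K := by omega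
    have : 60 * 3 ≤ Nat.card (G ⧸ K) * Nat.card K := Nat.mul_le_mul hq60 h3
    omega
  have hqcard : Nat.card (G ⧸ K) = 60 := by
    rw [hKcard] at hmul
    omega
  have hKmem : ∀ k ∈ K, k = 1 ∨ k = (z0 : G) := by
    intro k hk
    obtain ⟨y, _, hy⟩ := (Nat.card_eq_two_iff' (1 : K)).mp hKcard
    by_cases h1 : k = 1
    · exact Or.inl h1
    · right
      have e1 : (⟨k, hk⟩ : K) = y := hy _ (fun h => h1 (congrArg Subtype.val h))
      have e2 : (⟨(z0 : G), hzK⟩ : K) = y := hy _ (fun h => hz1 (congrArg Subtype.val h))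
      have := congrArg Subtype.val (e1.trans e2.symm)
      exact this
  have hcen : ∀ g : G, g * (z0 : G) = (z0 : G) * g := by
    intro g
    have hmem : g * (z0 : G) * g⁻¹ ∈ K := Subgroup.Normal.conj_mem inferInstance _ hzK g
    rcases hKmem _ hmem with h | h
    · exfalso
      apply hz1
      have : (z0 : G) = g⁻¹ * (g * (z0 : G) * g⁻¹) * g := by group
      rw [this, h]
      group
    · have e : g * (z0 : G) = (g * (z0 : G) * g⁻¹) * g := by group
      rw [e, h]
  -- the unique involution
  have huniq : ∀ w : G, w ^ 2 = 1 → w = 1 ∨ w = (z0 : G) := by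
    intro w hw
    by_cases hw1 : w = 1
    · exact Or.inl hw1
    · right
      have hord : orderOf w = 2 := orderOf_eq_prime hw hw1
      have hpg : IsPGroup 2 (Subgroup.zpowers w) := by
        apply IsPGroup.of_card (n := 1)
        rw [Nat.card_zpowers, hord, pow_one]
      obtain ⟨P', hP'⟩ := hpg.exists_le_sylow
      obtain ⟨g, hg⟩ := MulAction.exists_smul_eq G P P'
      have hzP' : (z0 : G) ∈ (P' : Subgroup G) := by
        have h1 : MulAut.conj g • (z0 : G) ∈ MulAut.conj g • (P : Subgroup G) :=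
          Subgroup.smul_mem_pointwise_smul _ _ _ z0.2
        rw [← Sylow.coe_subgroup_smul, hg] at h1
        have h2 : MulAut.conj g • (z0 : G) = (z0 : G) := by
          rw [MulAut.smul_def, MulAut.conj_apply, hcen g]
          group
        rwa [h2] at h1
      have hwP' : w ∈ (P' : Subgroup G) := hP' (Subgroup.mem_zpowers w)
      obtain ⟨e'⟩ := hQ P'
      obtain ⟨z', hz', _⟩ := exists_uinv e'
      have e1 : (⟨w, hwP'⟩ : (P' : Subgroup G)) = z' := by
        rcases hz'.uniq ⟨w, hwP'⟩ (Subtype.ext (by simpa using hw)) with h | h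
        · exact absurd (congrArg Subtype.val h) hw1
        · exact h
      have e2 : (⟨(z0 : G), hzP'⟩ : (P' : Subgroup G)) = z' := by
        rcases hz'.uniq ⟨(z0 : G), hzP'⟩ (Subtype.ext (by simpa using hz2)) with h | h
        · exact absurd (congrArg Subtype.val h) hz1
        · exact h
      exact congrArg Subtype.val (e1.trans e2.symm)
  -- the quotient
  haveI : IsSimpleGroup (G ⧸ K) := Small60.isSimpleGroup_of_card_sixty hqcard hqns
  obtain ⟨e5⟩ := Cfsg.Agent.Helper2.simple_sixty_equiv_alternating hqcard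
  refine ⟨(z0 : G), hz1, hz2, hcen, huniq, e5.toMonoidHom.comp (QuotientGroup.mk' K), ?_, ?_⟩
  · intro a
    obtain ⟨q, hq⟩ := e5.surjective a
    obtain ⟨g, hg⟩ := QuotientGroup.mk'_surjective K q
    refine ⟨g, ?_⟩
    rw [MonoidHom.comp_apply, hg, MulEquiv.coe_toMonoidHom, hq]
  · intro g
    have h1 : (e5.toMonoidHom.comp (QuotientGroup.mk' K)) g = 1 ↔ g ∈ K := by
      rw [MonoidHom.comp_apply, MulEquiv.coe_toMonoidHom, MulEquiv.map_eq_one_iff,
        QuotientGroup.mk'_apply, QuotientGroup.eq_one_iff]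
    rw [h1]
    constructor
    · exact hKmem g
    · rintro (rfl | rfl)
      · exact Subgroup.one_mem K
      · exact hzK

end Main

end Cfsg.Agent.Helper12.BinIco
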