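import Mathlib
import Cfsg.Agent.Lib.Helper12.BinIco4

/-!
# Nonsolvable groups of order `120` with quaternion Sylow `2`-subgroups are `SL(2,5)`
-/

set_option autoImplicit false

namespace Cfsg.Agent.Helper12.BinIco

universe u

open Cfsg.Agent.Helper12.Ico

theorem closure_qa_qab :
    Subgroup.closure ({qa, qa * qb} : Set (alternatingGroup (Fin 5))) = ⊤ := by
  have h1 : (Subgroup.closure ({Ico.gx, Ico.gx * Ico.gy} : Set Dyck)).map toA5 = ⊤ := by
    rw [dyck_gen, ← MonoidHom.range_eq_map, MonoidHom.range_eq_top]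
    exact toA5_surjective
  rw [MonoidHom.map_closure] at h1
  rw [← h1]
  congr 1
  ext a
  simp only [Set.mem_insert_iff, Set.mem_singleton_iff, Set.mem_image]
  constructor
  · rintro (rfl | rfl)
    · exact ⟨Ico.gx, Or.inl rfl, toA5_gx⟩
    · exact ⟨Ico.gx * Ico.gy, Or.inr rfl, by rw [map_mul, toA5_gx, toA5_gy]⟩
  · rintro ⟨b, (rfl | rfl), rfl⟩
    · exact Or.inl toA5_gx.symm
    · right
      rw [map_mul, toA5_gx, toA5_gy]

theorem final {G : Type u} [Group G] [Finite G] (h120 : Nat.card G = 120) (z : G)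
    (hz2 : z ^ 2 = 1) (hzc : ∀ g, g * z = z * g)
    (huniq : ∀ w : G, w ^ 2 = 1 → w = 1 ∨ w = z)
    (f : G →* alternatingGroup (Fin 5)) (hf : Function.Surjective f)
    (hker : ∀ g, f g = 1 ↔ g = 1 ∨ g = z) : Nonempty (G ≃* S25) := by
  have hfz : f z = 1 := (hker z).mpr (Or.inr rfl)
  have hqb3 : qb ^ 3 = 1 := by
    rw [pow_succ, pow_two]; exact qb_cube
  have hqa2 : qa ^ 2 = 1 := by
    rw [pow_two]; exact qa_sq
  -- lift of `qb`
  obtain ⟨x, hfx, hx3⟩ : ∃ x : G, f x = qb ∧ x ^ 3 = 1 := by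
    obtain ⟨x0, hx0⟩ := hf qb
    have h1 : f (x0 ^ 3) = 1 := by rw [map_pow, hx0, hqb3]
    rcases (hker _).mp h1 with h | h
    · exact ⟨x0, hx0, h⟩
    · refine ⟨x0 * z, by rw [map_mul, hx0, hfz, mul_one], ?_⟩
      have hc : Commute x0 z := hzc x0
      rw [hc.mul_pow, h]
      calc z * z ^ 3 = (z ^ 2) ^ 2 := by group
        _ = 1 := by rw [hz2, one_pow]
  obtain ⟨y, hfy, hy5⟩ : ∃ y : G, f y = (qa * qb)⁻¹ ∧ y ^ 5 = 1 := by
    obtain ⟨y0, hy0⟩ := hf (qa * qb)⁻¹
    have h1 : f (y0 ^ 5) = 1 := by rw [map_pow, hy0, inv_pow, qab_pow, inv_one]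
    rcases (hker _).mp h1 with h | h
    · exact ⟨y0, hy0, h⟩
    · refine ⟨y0 * z, by rw [map_mul, hy0, hfz, mul_one], ?_⟩
      have hc : Commute y0 z := hzc y0
      rw [hc.mul_pow, h]
      calc z * z ^ 5 = (z ^ 2) ^ 3 := by group
        _ = 1 := by rw [hz2, one_pow]
  have hqa_inv : qa⁻¹ = qa := inv_eq_of_mul_eq_one_left qa_sq
  have hfxy : f (x * y) = qa := by
    rw [map_mul, hfx, hfy, mul_inv_rev, mul_inv_cancel_left, hqa_inv]
  have hxy : (x * y) ^ 2 = z := by
    have h1 : f ((x * y) ^ 2) = 1 := by rw [map_pow, hfxy, hqa2]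
    rcases (hker _).mp h1 with h | h
    · exfalso
      apply qa_ne
      rw [← hfxy]
      rcases huniq _ h with h' | h'
      · rw [h', map_one]
      · rw [h', hfz]
    · exact h
  have hrel : BRel x y z := ⟨hx3, hy5, hz2, (hzc x).symm, (hzc y).symm, hxy⟩
  -- surjectivity of the lift
  have hsurj : Function.Surjective (lift hrel) := by
    rw [← MonoidHom.range_eq_top]
    have hxR : x ∈ (lift hrel).range := ⟨gx, lift_gx hrel⟩
    have hyR : y ∈ (lift hrel).range := ⟨gy, lift_gy hrel⟩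
    have hzR : z ∈ (lift hrel).range := ⟨gz, lift_gz hrel⟩
    have hmap : ((lift hrel).range).map f = ⊤ := by
      rw [eq_top_iff, ← closure_qa_qab, Subgroup.closure_le]
      intro a ha
      simp only [Set.mem_insert_iff, Set.mem_singleton_iff] at ha
      rcases ha with rfl | rfl
      · exact ⟨x * y, Subgroup.mul_mem _ hxR hyR, hfxy⟩
      · refine ⟨y⁻¹, Subgroup.inv_mem _ hyR, ?_⟩
        rw [map_inv, hfy, inv_inv]
    rw [eq_top_iff]
    intro g _
    have hg : f g ∈ ((lift hrel).range).map f := by rw [hmap]; trivial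
    obtain ⟨r, hr, hrg⟩ := hg
    have h1 : f (r⁻¹ * g) = 1 := by rw [map_mul, map_inv, hrg, inv_mul_cancel]
    have hmem : r⁻¹ * g ∈ (lift hrel).range := by
      rcases (hker _).mp h1 with h | h
      · rw [h]; exact Subgroup.one_mem _
      · rw [h]; exact hzR
    have : g = r * (r⁻¹ * g) := by group
    rw [this]
    exact Subgroup.mul_mem _ hr hmem
  haveI : Finite Gam := gam_card.1
  have hcard : Nat.card Gam = Nat.card G := by
    have h1 := Nat.card_le_card_of_surjective _ hsurj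
    have h2 := gam_card.2
    omega
  have hbij : Function.Bijective (lift hrel) :=
    (Nat.bijective_iff_surjective_and_card _).mpr ⟨hsurj, hcard⟩
  exact ⟨(MulEquiv.ofBijective (lift hrel) hbij).symm.trans gamEquiv⟩

/-- The classification. -/
theorem main_thm (G : Type u) [Group G] [Finite G] (h120 : Nat.card G = 120)
    (hns : ¬ IsSolvable G)
    (hQ : ∀ P : Sylow 2 G, Nonempty ((P : Subgroup G) ≃* QuaternionGroup 2)) :
    Nonempty (G ≃* S25) := by
  obtain ⟨z, _, hz2, hzc, huniq, f, hf, hker⟩ := exists_central_inv h120 hns hQ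
  exact final h120 z hz2 hzc huniq f hf hker

end Cfsg.Agent.Helper12.BinIco
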