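import Mathlib

/-!
# Lifting elements of coprime order through a central quotient
-/

set_option autoImplicit false

namespace Cfsg.Agent.Helper12

/-- An element of the quotient by a subgroup of exponent dividing `m`, killed by `s` coprime to `m`,
lifts to an element killed by `s`. -/
theorem exists_lift_pow_eq_one {G : Type*} [Group G] (Z : Subgroup G) [Z.Normal] {m s : ℕ}
    (hZ : ∀ c ∈ Z, c ^ m = 1) (hs : 1 < s) (hcop : Nat.Coprime s m) (a : G ⧸ Z)
    (ha : a ^ s = 1) : ∃ u : G, (u : G ⧸ Z) = a ∧ u ^ s = 1 := by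
  obtain ⟨a', rfl⟩ := QuotientGroup.mk_surjective a
  obtain ⟨t, -, ht⟩ := Nat.exists_mul_mod_eq_one_of_coprime hcop.symm hs
  refine ⟨a' ^ (m * t), ?_, ?_⟩
  · rw [QuotientGroup.mk_pow]
    conv_lhs => rw [← Nat.mod_add_div (m * t) s]
    rw [pow_add, pow_mul, ha, one_pow, mul_one, ht, pow_one]
  · have h1 : a' ^ s ∈ Z := by
      rw [← QuotientGroup.eq_one_iff, QuotientGroup.mk_pow]
      exact ha
    rw [← pow_mul, mul_comm (m * t) s, ← mul_assoc, pow_mul, pow_mul, hZ _ h1, one_pow]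

/-- Commuting modulo a central subgroup of exponent coprime to the order implies commuting. -/
theorem commute_of_commute_mk {G : Type*} [Group G] (Z : Subgroup G) [Z.Normal]
    (hZc : Z ≤ Subgroup.center G) {m s : ℕ} (hZ : ∀ c ∈ Z, c ^ m = 1) (hcop : Nat.Coprime s m)
    {u x : G} (hu : u ^ s = 1) (h : Commute (u : G ⧸ Z) (x : G ⧸ Z)) : Commute u x := by
  obtain ⟨c, hcdef⟩ : ∃ c, c = x * u * x⁻¹ * u⁻¹ := ⟨_, rfl⟩
  have hc : c ∈ Z := by
    rw [hcdef, ← QuotientGroup.eq_one_iff]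
    rw [QuotientGroup.mk_mul, QuotientGroup.mk_mul, QuotientGroup.mk_mul, QuotientGroup.mk_inv,
      QuotientGroup.mk_inv, ← h.eq]
    group
  have hcc : c ∈ Subgroup.center G := hZc hc
  have h1 : x * u * x⁻¹ = c * u := by
    rw [hcdef]
    group
  have hcu : Commute c u := (Subgroup.mem_center_iff.mp hcc u).symm
  have h2 : (c * u) ^ s = c ^ s * u ^ s := hcu.mul_pow s
  have h3 : (x * u * x⁻¹) ^ s = x * u ^ s * x⁻¹ := conj_pow
  rw [h1, h2, hu, mul_one, mul_one, mul_inv_cancel] at h3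
  have h4 : orderOf c ∣ Nat.gcd s m :=
    Nat.dvd_gcd (orderOf_dvd_of_pow_eq_one h3) (orderOf_dvd_of_pow_eq_one (hZ c hc))
  rw [hcop, Nat.dvd_one, orderOf_eq_one_iff] at h4
  rw [h4, one_mul] at h1
  unfold Commute SemiconjBy
  calc u * x = (x * u * x⁻¹) * x := by rw [h1]
    _ = x * u := by group

end Cfsg.Agent.Helper12
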