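import Mathlib

/-!
# An element of prime order `r` with `ord_r(q) ≥ n - 1` commutes with no nontrivial unipotent
element of `GL_n(q)` (`n ≥ 3`)
-/

set_option autoImplicit false

namespace Cfsg.Agent.Helper12

open Module

section

variable {F : Type*} [Field F] [Fintype F] {V : Type*} [AddCommGroup V] [Module F V]
  [FiniteDimensional F V]

/-- Fixed-point congruence on an invariant subspace. -/
theorem orderOf_dvd_finrank_sub {r : ℕ} [Fact r.Prime] (hrq : ¬ r ∣ Fintype.card F)
    (X : Module.End F V) (hX : X ^ r = 1) (W : Submodule F V) (hW : ∀ w ∈ W, X w ∈ W) :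
    orderOf ((Fintype.card F : ℕ) : ZMod r) ∣
      finrank F W - finrank F ↥(W ⊓ LinearMap.ker (X - 1)) := by
  classical
  haveI : Finite V := Module.finite_of_finite F
  letI : Fintype W := Fintype.ofFinite _
  let f : Function.End W := fun w => ⟨X w.1, hW w.1 w.2⟩
  have hfpow : ∀ k : ℕ, ∀ w : W, ((f ^ k) w).1 = (X ^ k) w.1 := by
    intro k
    induction k with
    | zero => intro w; rfl
    | succ k ih =>
      intro w
      rw [pow_succ', pow_succ']
      show X ((f ^ k) w).1 = (X * X ^ k) w.1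
      rw [ih, Module.End.mul_apply]
  have hf : f ^ r ^ 1 = 1 := by
    rw [pow_one]
    funext w
    apply Subtype.ext
    rw [hfpow, hX]
    rfl
  have h1 := Equiv.Perm.card_fixedPoints_modEq (p := r) (n := 1) hf
  have h2 : Fintype.card (Function.fixedPoints f) =
      Nat.card ↥(W ⊓ LinearMap.ker (X - 1)) := by
    rw [← Nat.card_eq_fintype_card]
    apply Nat.card_congr
    refine
      { toFun := fun w => ⟨w.1.1, Submodule.mem_inf.mpr ⟨w.1.2, ?_⟩⟩
        invFun := fun w => ⟨⟨w.1, (Submodule.mem_inf.mp w.2).1⟩, ?_⟩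
        left_inv := fun w => rfl
        right_inv := fun w => rfl }
    · have := w.2
      rw [Function.mem_fixedPoints, Function.IsFixedPt] at this
      have h3 : X w.1.1 = w.1.1 := congrArg Subtype.val this
      rw [LinearMap.mem_ker, LinearMap.sub_apply, h3]
      exact sub_self _
    · rw [Function.mem_fixedPoints, Function.IsFixedPt]
      apply Subtype.ext
      have h3 := (Submodule.mem_inf.mp w.2).2
      rw [LinearMap.mem_ker, LinearMap.sub_apply, sub_eq_zero] at h3
      exact h3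
  have hcW : Fintype.card W = Fintype.card F ^ finrank F W := by
    rw [← Nat.card_eq_fintype_card, Module.natCard_eq_pow_finrank (K := F) (V := W),
      Nat.card_eq_fintype_card]
  have hcC : Nat.card ↥(W ⊓ LinearMap.ker (X - 1)) =
      Fintype.card F ^ finrank F ↥(W ⊓ LinearMap.ker (X - 1)) := by
    rw [Module.natCard_eq_pow_finrank (K := F) (V := ↥(W ⊓ LinearMap.ker (X - 1))),
      Nat.card_eq_fintype_card]
  rw [h2, hcW, hcC] at h1
  have hle : finrank F ↥(W ⊓ LinearMap.ker (X - 1)) ≤ finrank F W :=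
    Submodule.finrank_mono inf_le_left
  rw [orderOf_dvd_iff_pow_eq_one]
  have h3 : ((Fintype.card F : ℕ) : ZMod r) ^ finrank F W =
      ((Fintype.card F : ℕ) : ZMod r) ^ finrank F ↥(W ⊓ LinearMap.ker (X - 1)) := by
    have := (ZMod.natCast_eq_natCast_iff _ _ _).mpr h1
    push_cast at this
    exact this
  have hq0 : ((Fintype.card F : ℕ) : ZMod r) ≠ 0 := by
    rw [Ne, ZMod.natCast_eq_zero_iff]
    exact hrq
  have h4 : finrank F W = finrank F ↥(W ⊓ LinearMap.ker (X - 1)) +
      (finrank F W - finrank F ↥(W ⊓ LinearMap.ker (X - 1))) := by omega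
  rw [h4, pow_add] at h3
  have h5 := mul_left_cancel₀ (pow_ne_zero _ hq0) (h3.trans (mul_one _).symm)
  exact h5

omit [Fintype F] in
theorem one_le_finrank_of_mem {S : Submodule F V} {w : V} (hw : w ∈ S) (h0 : w ≠ 0) :
    1 ≤ finrank F S :=
  Module.finrank_pos_iff_exists_ne_zero.mpr ⟨⟨w, hw⟩, fun h => h0 (congrArg Subtype.val h)⟩

/-- An element of prime order `r` with `ord_r(q) ≥ dim V - 1` does not commute with a nontrivial
unipotent element (`dim V ≥ 3`). -/
theorem not_commute_unipotent {p : ℕ} [Fact p.Prime] [CharP F p] {r : ℕ} [Fact r.Prime]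
    (hrq : ¬ r ∣ Fintype.card F) (X U : Module.End F V) (hXU : Commute X U) (hX : X ^ r = 1)
    (hX1 : X ≠ 1) (hU : U ^ p = 1) (hU1 : U ≠ 1) (hdim : 3 ≤ finrank F V)
    (he : finrank F V - 1 ≤ orderOf ((Fintype.card F : ℕ) : ZMod r)) : False := by
  classical
  haveI : Nontrivial V := Module.nontrivial_of_finrank_pos (R := F) (by omega)
  haveI : CharP (Module.End F V) p :=
    charP_of_injective_algebraMap (algebraMap F (Module.End F V)).injective p
  obtain ⟨N, hN⟩ : ∃ N, N = U - 1 := ⟨_, rfl⟩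
  have hNp : N ^ p = 0 := by
    rw [hN, sub_pow_char_of_commute p (Commute.one_right U), hU, one_pow, sub_self]
  have hN0 : N ≠ 0 := by rw [hN]; exact sub_ne_zero.mpr hU1
  have hXN : Commute X N := by rw [hN]; exact hXU.sub_right (Commute.one_right X)
  obtain ⟨e, hedef⟩ : ∃ e, e = orderOf ((Fintype.card F : ℕ) : ZMod r) := ⟨_, rfl⟩
  rw [← hedef] at he
  obtain ⟨C, hC⟩ : ∃ C, C = LinearMap.ker (X - 1) := ⟨_, rfl⟩
  have hCne : C ≠ ⊤ := by
    intro h
    apply hX1
    ext v
    have hv : v ∈ C := by rw [h]; trivial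
    rw [hC, LinearMap.mem_ker, LinearMap.sub_apply, sub_eq_zero] at hv
    rw [hv]
  have key : ∀ W : Submodule F V, (∀ w ∈ W, X w ∈ W) →
      W ≤ C ∨ e + finrank F ↥(W ⊓ C) ≤ finrank F W := by
    intro W hW
    have h1 := orderOf_dvd_finrank_sub hrq X hX W hW
    rw [← hedef, ← hC] at h1
    have hle : finrank F ↥(W ⊓ C) ≤ finrank F W := Submodule.finrank_mono inf_le_left
    by_cases h0 : finrank F W - finrank F ↥(W ⊓ C) = 0
    · left
      have : W ⊓ C = W := Submodule.eq_of_le_of_finrank_eq inf_le_left (by omega)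
      exact inf_eq_left.mp this
    · right
      have := Nat.le_of_dvd (Nat.pos_of_ne_zero h0) h1
      omega
  have hc : finrank F C ≤ 1 := by
    rcases key ⊤ (fun w _ => trivial) with h | h
    · exact absurd (top_le_iff.mp h) hCne
    · rw [top_inf_eq, finrank_top] at h
      omega
  obtain ⟨K, hK⟩ : ∃ K, K = LinearMap.ker N := ⟨_, rfl⟩
  obtain ⟨I, hI⟩ : ∃ I, I = LinearMap.range N := ⟨_, rfl⟩
  have hrn : finrank F I + finrank F K = finrank F V := by
    rw [hK, hI]
    exact LinearMap.finrank_range_add_finrank_ker N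
  have hcomm : ∀ v, N (X v) = X (N v) := by
    intro v
    rw [← Module.End.mul_apply, ← hXN.eq, Module.End.mul_apply]
  have hKinv : ∀ w ∈ K, X w ∈ K := by
    intro w hw
    rw [hK, LinearMap.mem_ker] at hw ⊢
    rw [hcomm, hw, map_zero]
  have hIinv : ∀ w ∈ I, X w ∈ I := by
    intro w hw
    rw [hI] at hw ⊢
    obtain ⟨v, rfl⟩ := hw
    exact ⟨X v, hcomm v⟩
  obtain ⟨w, hwK, hwI, hw0⟩ : ∃ w, w ∈ K ∧ w ∈ I ∧ w ≠ 0 := by
    have hex : ∃ k, N ^ k = 0 := ⟨p, hNp⟩
    obtain ⟨k, hkdef⟩ : ∃ k, k = Nat.find hex := ⟨_, rfl⟩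
    have hk : N ^ k = 0 := by rw [hkdef]; exact Nat.find_spec hex
    have hk2 : 2 ≤ k := by
      by_contra hlt
      push Not at hlt
      interval_cases k
      · rw [pow_zero] at hk
        exact one_ne_zero hk
      · rw [pow_one] at hk
        exact hN0 hk
    have hk1 : N ^ (k - 1) ≠ 0 := by
      have := Nat.find_min hex (m := k - 1) (by omega)
      exact this
    obtain ⟨v, hv⟩ : ∃ v, (N ^ (k - 1)) v ≠ 0 := by
      by_contra h
      push Not at h
      exact hk1 (LinearMap.ext h)
    refine ⟨(N ^ (k - 1)) v, ?_, ?_, hv⟩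
    · rw [hK, LinearMap.mem_ker, ← Module.End.mul_apply, ← pow_succ',
        show k - 1 + 1 = k by omega, hk]
      rfl
    · rw [hI]
      refine ⟨(N ^ (k - 2)) v, ?_⟩
      rw [← Module.End.mul_apply, ← pow_succ', show k - 2 + 1 = k - 1 by omega]
  have hK0 : 1 ≤ finrank F K := one_le_finrank_of_mem hwK hw0
  have hI0 : 1 ≤ finrank F I := one_le_finrank_of_mem hwI hw0
  rcases key K hKinv with hKC | hKe
  · have hk1 : finrank F K ≤ 1 := le_trans (Submodule.finrank_mono hKC) hc
    rcases key I hIinv with hIC | hIe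
    · have := Submodule.finrank_mono hIC
      omega
    · have hwIC : w ∈ I ⊓ C := ⟨hwI, hKC hwK⟩
      have := one_le_finrank_of_mem hwIC hw0
      omega
  · rcases key I hIinv with hIC | hIe
    · have hwKC : w ∈ K ⊓ C := ⟨hwK, hIC hwI⟩
      have := one_le_finrank_of_mem hwKC hw0
      omega
    · omega

end

end Cfsg.Agent.Helper12
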