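import Mathlib

/-!
# Cross-characteristic set-up

Base change of a matrix representation to the algebraic closure (as `End`-valued hom), and the
existence of a nontrivial additive character of a finite field `F` with values in the algebraic
closure of a field of different characteristic.
-/

set_option autoImplicit false

namespace Cfsg.Agent.Helper12
namespace CrossChar

/-- Base change of a matrix representation to an extension field, as endomorphisms. -/
noncomputable def repEnd' {G : Type*} [Group G] {K L : Type*} [Field K] [Field L] [Algebra K L]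
    {d : ℕ} (ρ : G →* GL (Fin d) K) : G →* Module.End L (Fin d → L) where
  toFun g := Matrix.toLin' (((ρ g : GL (Fin d) K) : Matrix (Fin d) (Fin d) K).map (algebraMap K L))
  map_one' := by
    rw [map_one, Units.val_one, Matrix.map_one _ (map_zero _) (map_one _), Matrix.toLin'_one]
    rfl
  map_mul' a b := by
    rw [map_mul, Units.val_mul, Matrix.map_mul, Matrix.toLin'_mul]
    rfl

theorem repEnd'_ker {G : Type*} [Group G] {K L : Type*} [Field K] [Field L] [Algebra K L] {d : ℕ}
    (ρ : G →* GL (Fin d) K) : (repEnd' (L := L) ρ).ker ≤ ρ.ker := by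
  intro g hg
  rw [MonoidHom.mem_ker] at hg ⊢
  have h1 : Matrix.toLin' (((ρ g : GL (Fin d) K) : Matrix (Fin d) (Fin d) K).map (algebraMap K L)) =
      Matrix.toLin' (1 : Matrix (Fin d) (Fin d) L) := by
    rw [Matrix.toLin'_one]
    exact hg
  have h2 := Matrix.toLin'.injective h1
  have h3 : ((ρ g : GL (Fin d) K) : Matrix (Fin d) (Fin d) K).map (algebraMap K L) =
      (1 : Matrix (Fin d) (Fin d) K).map (algebraMap K L) := by
    rw [h2, Matrix.map_one _ (map_zero _) (map_one _)]
  have h4 := Matrix.map_injective (algebraMap K L).injective h3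
  exact Units.ext h4

/-- In cross characteristic there is a nontrivial additive character into the algebraic closure,
and the order of `F` is invertible there. -/
theorem exists_addChar {F : Type*} [Field F] [Fintype F] {K : Type*} [Field K]
    (hK : ringChar K ≠ ringChar F) :
    (∃ ψ : AddChar F (AlgebraicClosure K), ψ 1 ≠ 1) ∧
      (Fintype.card F : AlgebraicClosure K) ≠ 0 := by
  classical
  obtain ⟨p, hp⟩ : ∃ p, p = ringChar F := ⟨_, rfl⟩
  haveI : CharP F p := by rw [hp]; exact ringChar.charP F
  have hpprime : p.Prime := CharP.char_is_prime F p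
  obtain ⟨k, -, hk⟩ := FiniteField.card F p
  have hpK : (p : K) ≠ 0 := by
    intro h0
    have h1 : ringChar K ∣ p := ringChar.dvd h0
    rcases (Nat.dvd_prime hpprime).mp h1 with h | h
    · exact CharP.ringChar_ne_one h
    · exact hK (h.trans hp)
  have hpL : (p : AlgebraicClosure K) ≠ 0 := by
    intro h0
    apply hpK
    apply (algebraMap K (AlgebraicClosure K)).injective
    rw [map_natCast, h0, map_zero]
  have hqL : (Fintype.card F : AlgebraicClosure K) ≠ 0 := by
    rw [hk]
    push_cast
    exact pow_ne_zero _ hpL
  refine ⟨?_, hqL⟩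
  have hexp : Monoid.exponent (Multiplicative F) ∣ Fintype.card F := by
    have := Group.exponent_dvd_nat_card (G := Multiplicative F)
    rwa [Nat.card_eq_fintype_card, Fintype.card_multiplicative] at this
  have : NeZero ((Monoid.exponent (Multiplicative F) : ℕ) : AlgebraicClosure K) := by
    constructor
    intro h0
    obtain ⟨m, hm⟩ := hexp
    apply hqL
    rw [hm]
    push_cast
    rw [h0, zero_mul]
  have : HasEnoughRootsOfUnity (AlgebraicClosure K) (Monoid.exponent (Multiplicative F)) :=
    IsSepClosed.hasEnoughRootsOfUnity _ _
  have h1ne : (Multiplicative.ofAdd (1 : F)) ≠ 1 := by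
    intro h
    have : (1 : F) = 0 := h
    exact one_ne_zero this
  obtain ⟨φ, hφ⟩ := CommGroup.exists_apply_ne_one_of_hasEnoughRootsOfUnity (Multiplicative F)
    (AlgebraicClosure K) h1ne
  refine ⟨AddChar.toMonoidHomEquiv.symm ((Units.coeHom (AlgebraicClosure K)).comp φ), ?_⟩
  intro h
  apply hφ
  apply Units.ext
  exact h

end CrossChar
end Cfsg.Agent.Helper12
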