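import Mathlib
import Cfsg.Agent.Lib.Helper11.D4TDefs

/-!
# S2376 piece EVSIG (helper11's skeleton; proof by helper12): the twisted Frobenius on the torus `T(L)`
-/

set_option autoImplicit false

namespace Cfsg.Agent.Helper11.D4T

open Cfsg Cfsg.Lie Cfsg.Agent.Lead.Chev Cfsg.Agent.Lead.Tw Cfsg.Agent.Helper6.ChevC

section L

variable {L : Type*} [Field L]

namespace EVSIG

/-- the diagonal entry of a `Tmat` -/
theorem ev_eq (h : GL chevD4.Idx L) (c : ℕ → L)
    (hh : (h : Matrix chevD4.Idx chevD4.Idx L) = Tmat chevD4 c) (v : ℕ) (hv : v < chevD4.nroots) :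
    ev h v = chi chevD4 c v := by
  unfold ev
  rw [dif_pos hv, hh]
  unfold Tmat
  rw [Matrix.diagonal_apply_eq]
  rfl

/-- the permutation of the roots of the twisting datum is the table `rhoT` -/
theorem rho_eq (f : L ≃+* L) : ∀ v < 24, (TL f).ρ v = rhoT.getD v 0 := by
  show ∀ v < 24, GD4a.gp.π v = rhoT.getD v 0
  decide +kernel

/-- the twisting datum is semilinear in the parameter -/
theorem c_mul (f : L ≃+* L) (r : ℕ) (a t : L) : (TL f).c r (a * t) = f a * (TL f).c r t := by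
  show ((GD4a.gp.ε r : ℤ) : L) * f (a * t) = f a * (((GD4a.gp.ε r : ℤ) : L) * f t)
  rw [map_mul]
  ring

end EVSIG

theorem sigma_mem_diagonal (f : L ≃+* L) (h : GL chevD4.Idx L) (hh : h ∈ chevD4.diagonalSubgroup L) :
    (TL f).σ h ∈ chevD4.diagonalSubgroup L :=
  Twist.map_mem_diagonal (d4F L) (TL f) h hh

theorem ev_sigma (f : L ≃+* L) (h : GL chevD4.Idx L) (hh : h ∈ chevD4.diagonalSubgroup L) (v : ℕ)
    (hv : v < 24) : ev ((TL f).σ h) (rhoT.getD v 0) = f (ev h v) := by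
  have hF := d4F L
  have hnr : chevD4.nroots = 24 := by decide
  have hv' : v < chevD4.nroots := by rw [hnr]; exact hv
  have hσh := sigma_mem_diagonal f h hh
  obtain ⟨c, hc, hhc⟩ := exists_Tmat_of_mem chevD4 hF.hall h hh
  obtain ⟨c', hc', hhc'⟩ := exists_Tmat_of_mem chevD4 hF.hall ((TL f).σ h) hσh
  have hgG := hF.diagonal_le_group hh
  have key : ∀ s, chevD4.IsNegRoot s →
      chi chevD4 c' ((TL f).ρ s) = f (chi chevD4 c s) := by
    intro s hs
    have hxG := xGL_mem_group chevD4 hF.xadd s (1 : L)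
    have e1 := hF.Tmat_conj_xGL h c hc hhc s hs.1 1
    have e2 := congrArg (TL f).σ e1
    rw [(TL f).map_mul _ _ (mul_mem hgG hxG) (inv_mem hgG), (TL f).map_mul _ _ hgG hxG,
      Twist.map_inv hF (TL f) _ hgG, (TL f).map_x s hs.1, (TL f).map_x s hs.1,
      hF.Tmat_conj_xGL ((TL f).σ h) c' hc' hhc' ((TL f).ρ s) ((TL f).ρ_lt s hs.1),
      EVSIG.c_mul f s] at e2
    have e3 := xGL_neg_inj hF _ (Twist.ρ_negRoot hF (TL f) s hs) _ _ e2
    exact mul_right_cancel₀ ((TL f).c_ne s hs.1 1 one_ne_zero) e3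
  have main : chi chevD4 c' ((TL f).ρ v) = f (chi chevD4 c v) := by
    rcases hF.sign.pos_or_neg v hv' with hp | hn
    · have h1 := key _ (hF.sign.neg_of_pos v hp)
      rw [(TL f).ρ_neg v hv', chi_neg chevD4 hF.cartan_neg _ _ ((TL f).ρ_lt v hv'),
        chi_neg chevD4 hF.cartan_neg _ _ hv', map_inv₀, inv_inj] at h1
      exact h1
    · exact key v hn
  rw [← EVSIG.rho_eq f v hv, EVSIG.ev_eq _ _ hhc' _ ((TL f).ρ_lt v hv'), EVSIG.ev_eq _ _ hhc v hv']
  exact main

end L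

end Cfsg.Agent.Helper11.D4T
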