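import Mathlib
import Cfsg.Prelude.Def_Transfer
import Cfsg.Prelude.Def_Solvable
import Cfsg.Agent.Lib.Helper9.PCoreSub
import Cfsg.Agent.Lib.Helper7.Fitting
import Cfsg.Agent.Lib.Helper21.PGroupFrattini
import Cfsg.Agent.Lib.Helper21.HallCount
import Cfsg.Agent.Lib.Helper13.A4Recog
import Cfsg.Agent.Lib.Helper12.PByCyclic4

/-!
# A group of order 320 with extraspecial `O₂` of minus type (helper12), part 1: setting
-/

set_option autoImplicit false

namespace Cfsg.Agent.Helper12.E320

open Cfsg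

variable {G : Type*} [Group G]

/-- The abstract setting. -/
structure Setting (H : Subgroup G) (z : G) : Prop where
  normal : H.Normal
  card : Nat.card H = 32
  cardG : Nat.card G = 320
  zH : z ∈ H
  z1 : z ≠ 1
  zz : z * z = 1
  zc : ∀ h ∈ H, h * z = z * h
  sq : ∀ h ∈ H, h * h = 1 ∨ h * h = z
  comm : ∀ a ∈ H, ∀ b ∈ H, a * b = b * a ∨ a * b = b * a * z
  cent : ∀ h ∈ H, (∀ k ∈ H, h * k = k * h) → h = 1 ∨ h = z
  o2 : ∀ M : Subgroup G, M.Normal → IsPGroup 2 M → M ≤ H
  fit : ∀ M : Subgroup G, M.Normal → Group.IsNilpotent M → M ≤ H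

theorem card_mul_relIndex_of_le {A K : Subgroup G} (h : A ≤ K) :
    Nat.card A * A.relIndex K = Nat.card K := by
  rw [Subgroup.relIndex, ← Nat.card_congr (Subgroup.subgroupOfEquivOfLe h).toEquiv]
  exact Subgroup.card_mul_index _

/-- The setting holds under the hypotheses of the statement. -/
theorem exists_setting [Finite G] (hG : Nat.card G = 320)
    (hHF : Cfsg.pCore 2 G = Cfsg.fittingSubgroup G)
    (hex : Cfsg.IsExtraspecial 2 ↥(Cfsg.pCore 2 G)) (h32 : Nat.card ↥(Cfsg.pCore 2 G) = 32) :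
    ∃ z : G, Setting (Cfsg.pCore 2 G) z := by
  have hF : Fact (Nat.Prime 2) := ⟨Nat.prime_two⟩
  obtain ⟨⟨hp, hfr, hco⟩, hc2⟩ := hex
  have hchar : (Cfsg.pCore 2 G).Characteristic := Cfsg.Agent.Helper9.pCore_characteristic 2
  have hnormal : (Cfsg.pCore 2 G).Normal := Subgroup.normal_of_characteristic _
  -- the central involution
  have hfinH : Finite ↥(Cfsg.pCore 2 G) := inferInstance
  obtain ⟨z', hz'c, hz'1⟩ : ∃ z' : ↥(Cfsg.pCore 2 G), z' ∈ Subgroup.center ↥(Cfsg.pCore 2 G) ∧
      z' ≠ 1 := by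
    by_contra hcon
    push Not at hcon
    have : Subgroup.center ↥(Cfsg.pCore 2 G) = ⊥ := by
      rw [eq_bot_iff]
      intro x hx
      rw [Subgroup.mem_bot]
      exact hcon x hx
    rw [this, Subgroup.card_bot] at hc2
    omega
  have hz'2 : z' * z' = 1 := by
    have h1 : (⟨z', hz'c⟩ : Subgroup.center ↥(Cfsg.pCore 2 G)) ^ 2 = 1 := by
      have h0 := pow_card_eq_one' (G := Subgroup.center ↥(Cfsg.pCore 2 G)) (x := ⟨z', hz'c⟩)
      rw [hc2] at h0
      exact h0
    have h2 := congrArg Subtype.val h1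
    rw [← pow_two]
    simpa using h2
  have hcenter : ∀ x : ↥(Cfsg.pCore 2 G), x ∈ Subgroup.center ↥(Cfsg.pCore 2 G) →
      x = 1 ∨ x = z' := by
    intro x hx
    have hle : Subgroup.zpowers z' ≤ Subgroup.center ↥(Cfsg.pCore 2 G) := by
      rw [Subgroup.zpowers_le]; exact hz'c
    have ho : orderOf z' = 2 := orderOf_eq_prime (by rw [pow_two]; exact hz'2) hz'1
    have heq : Subgroup.zpowers z' = Subgroup.center ↥(Cfsg.pCore 2 G) := by
      apply Subgroup.eq_of_le_of_card_ge hle
      rw [Nat.card_zpowers, ho, hc2]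
    rw [← heq] at hx
    obtain ⟨k, rfl⟩ := Subgroup.mem_zpowers_iff.1 hx
    rcases Int.even_or_odd' k with ⟨m, hm | hm⟩
    · left
      rw [hm, zpow_mul, zpow_two, hz'2, one_zpow]
    · right
      rw [hm, zpow_add, zpow_mul, zpow_two, hz'2, one_zpow, one_mul, zpow_one]
  refine ⟨(z' : G), ⟨hnormal, h32, hG, z'.2, ?_, ?_, ?_, ?_, ?_, ?_, ?_, ?_⟩⟩
  · intro h
    exact hz'1 (Subtype.ext h)
  · exact congrArg Subtype.val hz'2
  · intro h hh
    have := Subgroup.mem_center_iff.1 hz'c ⟨h, hh⟩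
    exact congrArg Subtype.val this
  · intro h hh
    have h1 : (⟨h, hh⟩ : ↥(Cfsg.pCore 2 G)) ^ 2 ∈ frattini ↥(Cfsg.pCore 2 G) :=
      Cfsg.Agent.Helper21.pow_mem_frattini_of_isPGroup hp _
    rw [hfr] at h1
    rcases hcenter _ h1 with h2 | h2
    · left
      have := congrArg Subtype.val h2
      rw [← pow_two]
      simpa using this
    · right
      have := congrArg Subtype.val h2
      rw [← pow_two]
      simpa using this
  · intro a ha b hb
    have h1 : (⟨a, ha⟩ * ⟨b, hb⟩ * (⟨a, ha⟩ : ↥(Cfsg.pCore 2 G))⁻¹ *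
        (⟨b, hb⟩ : ↥(Cfsg.pCore 2 G))⁻¹) ∈ commutator ↥(Cfsg.pCore 2 G) := by
      have := Subgroup.commutator_mem_commutator
        (Subgroup.mem_top (⟨a, ha⟩ : ↥(Cfsg.pCore 2 G)))
        (Subgroup.mem_top (⟨b, hb⟩ : ↥(Cfsg.pCore 2 G)))
      rw [commutatorElement_def] at this
      rw [commutator_def]
      exact this
    rw [hco] at h1
    rcases hcenter _ h1 with h2 | h2
    · left
      have := congrArg Subtype.val h2
      simp only [Subgroup.coe_mul, Subgroup.coe_inv, Subgroup.coe_one] at this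
      calc a * b = (a * b * a⁻¹ * b⁻¹) * (b * a) := by group
        _ = b * a := by rw [this, one_mul]
    · right
      have := congrArg Subtype.val h2
      simp only [Subgroup.coe_mul, Subgroup.coe_inv] at this
      have hzc : (z' : G) * (b * a) = (b * a) * (z' : G) := by
        have h3 := Subgroup.mem_center_iff.1 hz'c (⟨b, hb⟩ * ⟨a, ha⟩)
        exact (congrArg Subtype.val h3).symm
      calc a * b = (a * b * a⁻¹ * b⁻¹) * (b * a) := by group
        _ = b * a * (z' : G) := by rw [this, hzc]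
  · intro h hh hcomm
    have h1 : (⟨h, hh⟩ : ↥(Cfsg.pCore 2 G)) ∈ Subgroup.center ↥(Cfsg.pCore 2 G) := by
      rw [Subgroup.mem_center_iff]
      intro k
      apply Subtype.ext
      exact (hcomm k k.2).symm
    rcases hcenter _ h1 with h2 | h2
    · left; exact congrArg Subtype.val h2
    · right; exact congrArg Subtype.val h2
  · intro M hM hM2
    exact Cfsg.Agent.Helper9.le_pCore' hM hM2
  · intro M hM hMn
    rw [hHF]
    exact Cfsg.Agent.Helper7.le_fittingSubgroup M hMn

end Cfsg.Agent.Helper12.E320
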