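import Mathlib
import Cfsg.Agent.Lib.Helper12.E320a

/-!
# A group of order 320 with extraspecial `O₂` of minus type (helper12), part 2
-/

set_option autoImplicit false

namespace Cfsg.Agent.Helper12.E320

open Cfsg Cfsg.Agent.Helper13.A4Recog

variable {G : Type*} [Group G] {H : Subgroup G} {z : G}

theorem Setting.conj_mem (S : Setting H z) (g : G) {h : G} (hh : h ∈ H) : g * h * g⁻¹ ∈ H :=
  S.normal.conj_mem h hh g

theorem Setting.zG (S : Setting H z) (g : G) : g * z * g⁻¹ = z := by
  have h1 : g * z * g⁻¹ ∈ H := S.conj_mem g S.zH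
  rcases S.cent _ h1 (by
    intro k hk
    have h2 : g⁻¹ * k * g ∈ H := by
      have := S.conj_mem g⁻¹ hk
      rwa [inv_inv] at this
    have h3 := S.zc _ h2
    calc g * z * g⁻¹ * k = g * (z * (g⁻¹ * k * g)) * g⁻¹ := by group
      _ = g * ((g⁻¹ * k * g) * z) * g⁻¹ := by rw [h3]
      _ = k * (g * z * g⁻¹) := by group) with h | h
  · exfalso
    apply S.z1
    have : z = g⁻¹ * (g * z * g⁻¹) * g := by group
    rw [this, h]; group
  · exact h

theorem Setting.zinv (S : Setting H z) : z⁻¹ = z := inv_eq_of_mul_eq_one_right S.zz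

/-- the elements fixing `h` modulo `⟨z⟩` -/
def Setting.Stab (S : Setting H z) (h : G) : Subgroup G where
  carrier := {x | x * h * x⁻¹ = h ∨ x * h * x⁻¹ = h * z}
  one_mem' := Or.inl (by group)
  mul_mem' := by
    intro x y hx hy
    have e : x * y * h * (x * y)⁻¹ = x * (y * h * y⁻¹) * x⁻¹ := by group
    have ez : x * (h * z) * x⁻¹ = (x * h * x⁻¹) * (x * z * x⁻¹) := by group
    rcases hy with hy | hy <;> rcases hx with hx | hx
    · left; rw [e, hy, hx]
    · right; rw [e, hy, hx]
    · right; rw [e, hy, ez, hx, S.zG]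
    · left; rw [e, hy, ez, hx, S.zG, mul_assoc, S.zz, mul_one]
  inv_mem' := by
    intro x hx
    rcases hx with hx | hx
    · left
      rw [inv_inv]
      have h0 : h = x⁻¹ * (x * h * x⁻¹) * x := by group
      rw [hx] at h0
      exact h0.symm
    · right
      have h1 : x⁻¹ * z * x = z := by
        have := S.zG x⁻¹
        rwa [inv_inv] at this
      have h2 : h = (x⁻¹ * h * x) * z := by
        calc h = x⁻¹ * (x * h * x⁻¹) * x := by group
          _ = x⁻¹ * (h * z) * x := by rw [hx]
          _ = (x⁻¹ * h * x) * (x⁻¹ * z * x) := by group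
          _ = (x⁻¹ * h * x) * z := by rw [h1]
      rw [inv_inv]
      have h3 : (x⁻¹ * h * x) * z * z = x⁻¹ * h * x := by
        rw [mul_assoc (x⁻¹ * h * x) z z, S.zz, mul_one]
      rw [← h3, ← h2]

theorem Setting.mem_Stab (S : Setting H z) (h x : G) :
    x ∈ S.Stab h ↔ (x * h * x⁻¹ = h ∨ x * h * x⁻¹ = h * z) := Iff.rfl

theorem Setting.le_Stab (S : Setting H z) {h : G} (hh : h ∈ H) : H ≤ S.Stab h := by
  intro v hv
  rw [S.mem_Stab]
  rcases S.comm v hv h hh with h1 | h1
  · left; rw [h1]; group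
  · right
    rw [h1]
    have := S.zG v
    calc h * v * z * v⁻¹ = h * (v * z * v⁻¹) := by group
      _ = h * z := by rw [this]

section finite

variable [Finite G]

theorem Setting.exists_five (S : Setting H z) : ∃ f : G, orderOf f = 5 := by
  have : Fact (Nat.Prime 5) := ⟨by norm_num⟩
  apply exists_prime_orderOf_dvd_card' 5
  rw [S.cardG]; norm_num

theorem Setting.isPGroup (S : Setting H z) : IsPGroup 2 H :=
  IsPGroup.of_card (n := 5) (by rw [S.card]; norm_num)

theorem Setting.five_not_mem (S : Setting H z) {f : G} (hf : orderOf f = 5) (k : ℤ)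
    (hk : f ^ k ∈ H) : f ^ k = 1 := by
  have h1 : orderOf (f ^ k) ∣ 32 := by
    have := Subgroup.orderOf_dvd_natCard H hk
    rwa [S.card] at this
  have h2 : orderOf (f ^ k) ∣ 5 := by
    rw [← hf]
    apply orderOf_dvd_of_pow_eq_one
    rw [← zpow_natCast, ← zpow_mul, mul_comm, zpow_mul, zpow_natCast, pow_orderOf_eq_one,
      one_zpow]
  have h3 : orderOf (f ^ k) ∣ Nat.gcd 32 5 := Nat.dvd_gcd h1 h2
  have h4 : Nat.gcd 32 5 = 1 := by norm_num
  rw [h4, Nat.dvd_one, orderOf_eq_one_iff] at h3
  exact h3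

/-- an element of order five does not centralize `H` -/
theorem Setting.not_centralizes (S : Setting H z) {f : G} (hf : orderOf f = 5) :
    ¬ ∀ h ∈ H, f * h * f⁻¹ = h := by
  intro hcen
  have hF5 : Fact (Nat.Prime 5) := ⟨by norm_num⟩
  have hZ5 : IsPGroup 5 (Subgroup.zpowers f) :=
    IsPGroup.of_card (n := 1) (by rw [Nat.card_zpowers, hf, pow_one])
  obtain ⟨P, hP⟩ := hZ5.exists_le_sylow
  obtain ⟨k, hk⟩ := IsPGroup.iff_card.1 P.2
  have hk1 : k = 1 := by
    have h1 : 5 ^ k ∣ 320 := by
      rw [← hk, ← S.cardG]; exact Subgroup.card_subgroup_dvd_card _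
    have h2 : 5 ∣ 5 ^ k := by
      rw [← hk]
      have := Subgroup.card_dvd_of_le hP
      rwa [Nat.card_zpowers, hf] at this
    have h3 : k ≠ 0 := by
      rintro rfl
      norm_num at h2
    have h4 : k < 2 := by
      by_contra hcon
      have : 5 ^ 2 ∣ 5 ^ k := pow_dvd_pow 5 (by omega)
      have h5 : 25 ∣ 320 := dvd_trans (by simpa using this) h1
      norm_num at h5
    omega
  have hPeq : (P : Subgroup G) = Subgroup.zpowers f := by
    symm
    apply Subgroup.eq_of_le_of_card_ge hP
    rw [hk, hk1, Nat.card_zpowers, hf, pow_one]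
  -- `H` and `f` normalize `P`
  have hHN : H ≤ Subgroup.normalizer ((P : Subgroup G) : Set G) := by
    intro h hh
    apply Cfsg.Agent.Helper12.PBC.mem_normalizer_of_conj_mem
    intro x hx
    rw [hPeq] at hx ⊢
    obtain ⟨i, rfl⟩ := Subgroup.mem_zpowers_iff.1 hx
    have h1 : h * f * h⁻¹ = f := by
      have h0 := hcen h hh
      rw [mul_inv_eq_iff_eq_mul] at h0
      rw [mul_inv_eq_iff_eq_mul]
      exact h0.symm
    have h2 : h * f ^ i * h⁻¹ = (h * f * h⁻¹) ^ i := by
      have := (MulAut.conj h).toMonoidHom.map_zpow f i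
      simpa [MulAut.conj_apply] using this
    rw [h2, h1]
    exact Subgroup.zpow_mem _ (Subgroup.mem_zpowers f) i
  have hfN : Subgroup.zpowers f ≤ Subgroup.normalizer ((P : Subgroup G) : Set G) := by
    rw [← hPeq]; exact Subgroup.le_normalizer
  have h160 : 160 ∣ Nat.card (Subgroup.normalizer ((P : Subgroup G) : Set G)) := by
    have h1 := Subgroup.card_dvd_of_le hHN
    have h2 := Subgroup.card_dvd_of_le hfN
    rw [S.card] at h1
    rw [Nat.card_zpowers, hf] at h2
    have : Nat.Coprime 32 5 := by norm_num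
    exact this.mul_dvd_of_dvd_of_dvd h1 h2
  have hidx := Subgroup.card_mul_index (Subgroup.normalizer ((P : Subgroup G) : Set G))
  rw [S.cardG] at hidx
  have hmod := card_sylow_modEq_one 5 G
  rw [Sylow.card_eq_index_normalizer P] at hmod
  obtain ⟨c, hc⟩ := h160
  rw [hc] at hidx
  have hidx1 : (Subgroup.normalizer ((P : Subgroup G) : Set G)).index = 1 := by
    have h1 : c * (Subgroup.normalizer ((P : Subgroup G) : Set G)).index = 2 := by
      have : 160 * (c * (Subgroup.normalizer ((P : Subgroup G) : Set G)).index) = 160 * 2 := by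
        rw [← mul_assoc, hidx]
      exact Nat.eq_of_mul_eq_mul_left (by norm_num) this
    have h2 : (Subgroup.normalizer ((P : Subgroup G) : Set G)).index ∣ 2 := ⟨c, by rw [← h1, mul_comm]⟩
    rcases (Nat.dvd_prime Nat.prime_two).1 h2 with h3 | h3
    · exact h3
    · exfalso
      have h4 : (Subgroup.normalizer ((P : Subgroup G) : Set G)).index ≡ 1 [MOD 5] := hmod
      rw [h3] at h4
      unfold Nat.ModEq at h4
      norm_num at h4
  have hPn : (P : Subgroup G).Normal := by
    rw [← Subgroup.normalizer_eq_top_iff]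
    exact Subgroup.index_eq_one.1 hidx1
  have hle := S.fit (P : Subgroup G) hPn P.2.isNilpotent
  have hfH : f ∈ H := hle (hP (Subgroup.mem_zpowers f))
  have h5 := S.five_not_mem hf 1 (by rw [zpow_one]; exact hfH)
  rw [zpow_one] at h5
  rw [h5, orderOf_one] at hf
  omega

/-- the centralizer in `H` of an element of order five is `⟨z⟩` -/
theorem Setting.cent_five (S : Setting H z) {f : G} (hf : orderOf f = 5) {h : G} (hh : h ∈ H)
    (hfh : f * h * f⁻¹ = h) : h = 1 ∨ h = z := by
  have hF5 : Fact (Nat.Prime 5) := ⟨by norm_num⟩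
  have hZ5 : IsPGroup 5 (Subgroup.zpowers f) :=
    IsPGroup.of_card (n := 1) (by rw [Nat.card_zpowers, hf, pow_one])
  have hnorm : Subgroup.zpowers f ≤ Subgroup.normalizer (H : Set G) := by
    have : Subgroup.normalizer (H : Set G) = ⊤ := Subgroup.normalizer_eq_top_iff.2 S.normal
    rw [this]; exact le_top
  have hmod := Cfsg.Agent.Helper21.card_modEq_card_inf_centralizer (Subgroup.zpowers f) H hZ5 hnorm
  rw [S.card] at hmod
  obtain ⟨C, hC⟩ : ∃ C : Subgroup G, C = H ⊓ Subgroup.centralizer ((Subgroup.zpowers f : Subgroup G) : Set G) :=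
    ⟨_, rfl⟩
  rw [← hC] at hmod
  have hCH : C ≤ H := by rw [hC]; exact inf_le_left
  have hdvd : Nat.card C ∣ 2 ^ 5 := by
    have := Subgroup.card_dvd_of_le hCH
    rwa [S.card] at this
  obtain ⟨i, hi5, hi⟩ := (Nat.dvd_prime_pow Nat.prime_two).1 hdvd
  -- membership in `C`
  have hmemC : ∀ x ∈ H, f * x * f⁻¹ = x → x ∈ C := by
    intro x hx hfx
    rw [hC]
    refine Subgroup.mem_inf.2 ⟨hx, ?_⟩
    rw [Subgroup.mem_centralizer_iff]
    intro y hy
    obtain ⟨k, rfl⟩ := Subgroup.mem_zpowers_iff.1 hy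
    have h1 : f * x = x * f := by
      have h0 := hfx
      rw [mul_inv_eq_iff_eq_mul] at h0
      exact h0
    have : Commute f x := h1
    exact (this.zpow_left k).eq
  have hcard2 : Nat.card C = 2 := by
    rw [hi] at hmod ⊢
    unfold Nat.ModEq at hmod
    interval_cases i
    · norm_num at hmod
    · norm_num
    · norm_num at hmod
    · norm_num at hmod
    · norm_num at hmod
    · exfalso
      apply S.not_centralizes hf
      intro x hx
      have h1 : C = H := by
        apply Subgroup.eq_of_le_of_card_ge hCH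
        rw [S.card, hi]
        norm_num
      have h2 : x ∈ C := by rw [h1]; exact hx
      rw [hC] at h2
      have h3 := Subgroup.mem_centralizer_iff.1 h2.2 f (Subgroup.mem_zpowers f)
      rw [mul_inv_eq_iff_eq_mul]
      exact h3
  have hzC : z ∈ C := hmemC z S.zH (S.zG f)
  have ho : orderOf z = 2 := orderOf_eq_prime (by rw [pow_two]; exact S.zz) S.z1
  have heq : Subgroup.zpowers z = C := by
    apply Subgroup.eq_of_le_of_card_ge
    · rw [Subgroup.zpowers_le]; exact hzC
    · rw [Nat.card_zpowers, ho, hcard2]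
  have hhC : h ∈ C := hmemC h hh hfh
  rw [← heq] at hhC
  obtain ⟨k, rfl⟩ := Subgroup.mem_zpowers_iff.1 hhC
  rcases Int.even_or_odd' k with ⟨m, hm | hm⟩
  · left
    rw [hm, zpow_mul, zpow_two, S.zz, one_zpow]
  · right
    rw [hm, zpow_add, zpow_mul, zpow_two, S.zz, one_zpow, one_mul, zpow_one]

end finite

end Cfsg.Agent.Helper12.E320
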