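import Mathlib
import Cfsg.Agent.Lib.Helper12.E320b

/-!
# A group of order 320 with extraspecial `O₂` of minus type (helper12), part 3
-/

set_option autoImplicit false

namespace Cfsg.Agent.Helper12.E320

open Cfsg Cfsg.Agent.Helper13.A4Recog

variable {G : Type*} [Group G] {H : Subgroup G} {z : G}

/-- the elements of `H` fixed by `x` modulo `⟨z⟩` -/
def Setting.A (S : Setting H z) (x : G) : Subgroup G where
  carrier := {h | h ∈ H ∧ (x * h * x⁻¹ = h ∨ x * h * x⁻¹ = h * z)}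
  one_mem' := ⟨H.one_mem, Or.inl (by group)⟩
  mul_mem' := by
    rintro a b ⟨ha, ha'⟩ ⟨hb, hb'⟩
    refine ⟨H.mul_mem ha hb, ?_⟩
    have e : x * (a * b) * x⁻¹ = (x * a * x⁻¹) * (x * b * x⁻¹) := by group
    have hzb : z * b = b * z := (S.zc b hb).symm
    rcases ha' with ha' | ha' <;> rcases hb' with hb' | hb'
    · left; rw [e, ha', hb']
    · right; rw [e, ha', hb', mul_assoc]
    · right
      rw [e, ha', hb', mul_assoc a z b, hzb, ← mul_assoc]
    · left
      rw [e, ha', hb']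
      calc a * z * (b * z) = a * (z * b) * z := by group
        _ = a * (b * z) * z := by rw [hzb]
        _ = a * b * (z * z) := by group
        _ = a * b := by rw [S.zz, mul_one]
  inv_mem' := by
    rintro a ⟨ha, ha'⟩
    refine ⟨H.inv_mem ha, ?_⟩
    have e : x * a⁻¹ * x⁻¹ = (x * a * x⁻¹)⁻¹ := by group
    rcases ha' with ha' | ha'
    · left; rw [e, ha']
    · right
      rw [e, ha', mul_inv_rev, S.zinv]
      exact (S.zc a⁻¹ (H.inv_mem ha)).symm

theorem Setting.mem_A (S : Setting H z) (x h : G) :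
    h ∈ S.A x ↔ h ∈ H ∧ (x * h * x⁻¹ = h ∨ x * h * x⁻¹ = h * z) := Iff.rfl

theorem Setting.A_le (S : Setting H z) (x : G) : S.A x ≤ H := fun _ hh => hh.1

section finite

variable [Finite G]

theorem Setting.five_fix (S : Setting H z) {y : G} (hy : orderOf y = 5) {h : G} (hh : h ∈ H)
    (hyh : y ∈ S.Stab h) : h = 1 ∨ h = z := by
  rcases (S.mem_Stab h y).1 hyh with h1 | h1
  · exact S.cent_five hy hh h1
  · exfalso
    have h5 : y ^ 5 = 1 := by rw [← hy]; exact pow_orderOf_eq_one y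
    have h2 : y * y * h * (y * y)⁻¹ = h := by
      calc y * y * h * (y * y)⁻¹ = y * (y * h * y⁻¹) * y⁻¹ := by group
        _ = y * (h * z) * y⁻¹ := by rw [h1]
        _ = (y * h * y⁻¹) * (y * z * y⁻¹) := by group
        _ = h * z * z := by rw [h1, S.zG]
        _ = h := by rw [mul_assoc, S.zz, mul_one]
    have h4 : (y * y) * (y * y) * h * ((y * y) * (y * y))⁻¹ = h := by
      calc (y * y) * (y * y) * h * ((y * y) * (y * y))⁻¹
          = (y * y) * ((y * y) * h * (y * y)⁻¹) * (y * y)⁻¹ := by group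
        _ = h := by rw [h2, h2]
    have h5' : y * ((y * y) * (y * y)) * h * (y * ((y * y) * (y * y)))⁻¹ = h * z := by
      calc y * ((y * y) * (y * y)) * h * (y * ((y * y) * (y * y)))⁻¹
          = y * ((y * y) * (y * y) * h * ((y * y) * (y * y))⁻¹) * y⁻¹ := by group
        _ = h * z := by rw [h4, h1]
    have e5 : y * ((y * y) * (y * y)) = 1 := by
      rw [← h5, pow_succ, pow_succ, pow_succ, pow_succ, pow_one]; group
    rw [e5, one_mul, inv_one, mul_one] at h5'
    apply S.z1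
    have h6 : h * z = h * 1 := by rw [mul_one]; exact h5'.symm
    exact mul_left_cancel h6

omit [Finite G] in
theorem Setting.mem_normalizer (S : Setting H z) (x : G) :
    x ∈ Subgroup.normalizer (H : Set G) := by
  have : Subgroup.normalizer (H : Set G) = ⊤ := Subgroup.normalizer_eq_top_iff.2 S.normal
  rw [this]; exact Subgroup.mem_top x

/-- the commutator of `T` and `f` lies in `H ⟨f⟩` -/
theorem Setting.comm_decomp (S : Setting H z) {f T : G} (hf : orderOf f = 5) (hT : T * T = 1) :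
    ∃ i : ℤ, ∃ v ∈ H, T * (f * T * f⁻¹) = f ^ i * v := by
  have hnorm : Subgroup.zpowers f ≤ Subgroup.normalizer (H : Set G) := by
    rw [Subgroup.zpowers_le]; exact S.mem_normalizer f
  have hcard : Nat.card (Subgroup.zpowers f ⊔ H : Subgroup G) = 160 := by
    rw [card_sup_of_le_normalizer _ _ hnorm (by rw [Nat.card_zpowers, hf, S.card]; norm_num),
      Nat.card_zpowers, hf, S.card]
  have hidx : (Subgroup.zpowers f ⊔ H : Subgroup G).index = 2 := by
    have h1 := Subgroup.card_mul_index (Subgroup.zpowers f ⊔ H : Subgroup G)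
    rw [hcard, S.cardG] at h1
    omega
  have hFn : (Subgroup.zpowers f ⊔ H : Subgroup G).Normal := Subgroup.normal_of_index_eq_two hidx
  have hfF : f ∈ (Subgroup.zpowers f ⊔ H : Subgroup G) :=
    (le_sup_left : Subgroup.zpowers f ≤ _) (Subgroup.mem_zpowers f)
  have hTinv : T⁻¹ = T := inv_eq_of_mul_eq_one_right hT
  have hg : T * (f * T * f⁻¹) ∈ (H ⊔ Subgroup.zpowers f : Subgroup G) := by
    rw [sup_comm]
    have h1 : T * f * T⁻¹ ∈ (Subgroup.zpowers f ⊔ H : Subgroup G) := hFn.conj_mem f hfF T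
    have h2 := Subgroup.mul_mem _ h1 (Subgroup.inv_mem _ hfF)
    have e : T * (f * T * f⁻¹) = T * f * T⁻¹ * f⁻¹ := by rw [hTinv]; group
    rw [e]; exact h2
  exact Cfsg.Agent.Helper12.PBC.exists_zpow_mul (S.mem_normalizer f) hg

/-- the commutator of `T` and `f` does not lie in `H` -/
theorem Setting.comm_not_mem (S : Setting H z) {f T : G} (hf : orderOf f = 5) (hT : T * T = 1)
    (hTH : T ∉ H) : T * (f * T * f⁻¹) ∉ H := by
  intro hg
  have hF2 : Fact (Nat.Prime 2) := ⟨Nat.prime_two⟩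
  have hTinv : T⁻¹ = T := inv_eq_of_mul_eq_one_right hT
  have hnormal : H.Normal := S.normal
  have hZ2 : IsPGroup 2 (Subgroup.zpowers T) := by
    intro x
    refine ⟨1, ?_⟩
    obtain ⟨x, hx⟩ := x
    obtain ⟨k, rfl⟩ := Subgroup.mem_zpowers_iff.1 hx
    apply Subtype.ext
    simp only [pow_one, Subgroup.coe_pow, Subgroup.coe_one]
    rw [← zpow_natCast, ← zpow_mul, mul_comm, zpow_mul, zpow_natCast, pow_two, hT, one_zpow]
  have hM2 : IsPGroup 2 (Subgroup.zpowers T ⊔ H : Subgroup G) :=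
    IsPGroup.to_sup_of_normal_right hZ2 S.isPGroup
  obtain ⟨M, hM⟩ : ∃ M : Subgroup G, M = Subgroup.zpowers T ⊔ H := ⟨_, rfl⟩
  rw [← hM] at hM2
  have hHM : H ≤ M := by rw [hM]; exact le_sup_right
  have hTM : T ∈ M := by
    rw [hM]; exact (le_sup_left : Subgroup.zpowers T ≤ _) (Subgroup.mem_zpowers T)
  -- `f` normalizes `M`
  have hfM : ∀ x ∈ M, f * x * f⁻¹ ∈ M := by
    have hle : M ≤ M.comap (MulAut.conj f).toMonoidHom := by
      rw [hM]
      apply sup_le
      · rw [Subgroup.zpowers_le, Subgroup.mem_comap]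
        show f * T * f⁻¹ ∈ _
        have e : f * T * f⁻¹ = T * (T * (f * T * f⁻¹)) := by
          rw [← mul_assoc T T, hT, one_mul]
        rw [e, ← hM]
        exact M.mul_mem hTM (hHM hg)
      · intro h hh
        rw [Subgroup.mem_comap]
        show f * h * f⁻¹ ∈ _
        rw [← hM]
        exact hHM (S.conj_mem f hh)
    intro x hx
    exact hle hx
  have hfN : f ∈ Subgroup.normalizer (M : Set G) :=
    Cfsg.Agent.Helper12.PBC.mem_normalizer_of_conj_mem M hfM
  -- orders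
  obtain ⟨k, hk⟩ := IsPGroup.iff_card.1 hM2
  have hk6 : 6 ≤ k := by
    by_contra hcon
    have h1 : Nat.card M ≤ 32 := by
      rw [hk]
      calc 2 ^ k ≤ 2 ^ 5 := Nat.pow_le_pow_right (by norm_num) (by omega)
        _ = 32 := by norm_num
    have h2 : H = M := by
      apply Subgroup.eq_of_le_of_card_ge hHM
      rw [S.card]; exact h1
    apply hTH
    rw [h2]; exact hTM
  have h64 : 64 ∣ Nat.card (Subgroup.normalizer (M : Set G)) := by
    have h1 : Nat.card M ∣ Nat.card (Subgroup.normalizer (M : Set G)) :=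
      Subgroup.card_dvd_of_le Subgroup.le_normalizer
    rw [hk] at h1
    have h2 : (2 : ℕ) ^ 6 ∣ 2 ^ k := pow_dvd_pow 2 hk6
    exact dvd_trans (by simpa using h2) h1
  have h5 : 5 ∣ Nat.card (Subgroup.normalizer (M : Set G)) := by
    have h1 : Subgroup.zpowers f ≤ Subgroup.normalizer (M : Set G) := by
      rw [Subgroup.zpowers_le]; exact hfN
    have h2 := Subgroup.card_dvd_of_le h1
    rwa [Nat.card_zpowers, hf] at h2
  have h320 : 320 ∣ Nat.card (Subgroup.normalizer (M : Set G)) := by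
    have : Nat.Coprime 64 5 := by norm_num
    exact this.mul_dvd_of_dvd_of_dvd h64 h5
  have htop : Subgroup.normalizer (M : Set G) = ⊤ := by
    apply (Subgroup.card_eq_iff_eq_top _).1
    apply le_antisymm (Subgroup.card_le_card_group _)
    rw [S.cardG]
    exact Nat.le_of_dvd Nat.card_pos h320
  have hMn : M.Normal := Subgroup.normalizer_eq_top_iff.1 htop
  exact hTH (S.o2 M hMn hM2 hTM)

/-- `A(T)` has order at most `8` -/
theorem Setting.card_A_le (S : Setting H z) {f T : G} (hf : orderOf f = 5) (hT : T * T = 1)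
    (hTH : T ∉ H) : Nat.card (S.A T) ≤ 8 := by
  have hTinv : T⁻¹ = T := inv_eq_of_mul_eq_one_right hT
  obtain ⟨i, v, hv, hg⟩ := S.comm_decomp hf hT
  have hgH := S.comm_not_mem hf hT hTH
  -- the intersection
  have hAB : ∀ h ∈ S.A T ⊓ S.A (f * T * f⁻¹), h = 1 ∨ h = z := by
    intro h hh
    obtain ⟨⟨hhH, h1⟩, ⟨_, h2⟩⟩ := hh
    have h3 : T * (f * T * f⁻¹) ∈ S.Stab h := (S.Stab h).mul_mem h1 h2
    have h4 : f ^ i ∈ S.Stab h := by
      have e : f ^ i = T * (f * T * f⁻¹) * v⁻¹ := by rw [hg]; group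
      rw [e]
      exact (S.Stab h).mul_mem h3 ((S.Stab h).inv_mem (S.le_Stab hhH hv))
    have h5 : f ^ i ≠ 1 := by
      intro h5
      apply hgH
      rw [hg, h5, one_mul]; exact hv
    have h6 : orderOf (f ^ i) = 5 := by
      have hF5 : Fact (Nat.Prime 5) := ⟨by norm_num⟩
      apply orderOf_eq_prime _ h5
      rw [← zpow_natCast, ← zpow_mul, mul_comm, zpow_mul, zpow_natCast, ← hf,
        pow_orderOf_eq_one, one_zpow]
    exact S.five_fix h6 hhH h4
  have hc : Nat.card (S.A T ⊓ S.A (f * T * f⁻¹) : Subgroup G) ≤ 2 := by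
    have hle : S.A T ⊓ S.A (f * T * f⁻¹) ≤ Subgroup.zpowers z := by
      intro h hh
      rcases hAB h hh with rfl | rfl
      · exact Subgroup.one_mem _
      · exact Subgroup.mem_zpowers _
    have ho : orderOf z = 2 := orderOf_eq_prime (by rw [pow_two]; exact S.zz) S.z1
    calc Nat.card (S.A T ⊓ S.A (f * T * f⁻¹) : Subgroup G)
        ≤ Nat.card (Subgroup.zpowers z) := Subgroup.card_le_of_le hle
      _ = 2 := by rw [Nat.card_zpowers, ho]
  -- conjugation
  have hab : Nat.card (S.A T) ≤ Nat.card (S.A (f * T * f⁻¹)) := by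
    have hmem : ∀ a ∈ S.A T, f * a * f⁻¹ ∈ S.A (f * T * f⁻¹) := by
      rintro a ⟨ha, ha'⟩
      refine ⟨S.conj_mem f ha, ?_⟩
      have e : f * T * f⁻¹ * (f * a * f⁻¹) * (f * T * f⁻¹)⁻¹ = f * (T * a * T⁻¹) * f⁻¹ := by group
      rcases ha' with ha' | ha'
      · left; rw [e, ha']
      · right
        rw [e, ha']
        calc f * (a * z) * f⁻¹ = f * a * f⁻¹ * (f * z * f⁻¹) := by group
          _ = f * a * f⁻¹ * z := by rw [S.zG]
    apply Nat.card_le_card_of_injective
      (fun a : S.A T => (⟨f * a * f⁻¹, hmem a a.2⟩ : S.A (f * T * f⁻¹)))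
    intro a b hab
    have h1 : f * (a : G) * f⁻¹ = f * (b : G) * f⁻¹ := congrArg Subtype.val hab
    apply Subtype.ext
    exact mul_left_cancel (mul_right_cancel h1)
  have h1 := card_mul_relIndex_of_le (S.A_le T)
  have h2 := card_mul_relIndex_of_le (S.A_le (f * T * f⁻¹))
  have h3 := card_mul_relIndex_of_le
    (le_trans inf_le_left (S.A_le T) : S.A T ⊓ S.A (f * T * f⁻¹) ≤ H)
  have h4 : (S.A T ⊓ S.A (f * T * f⁻¹)).relIndex H ≤
      (S.A T).relIndex H * (S.A (f * T * f⁻¹)).relIndex H := Subgroup.relIndex_inf_le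
  rw [S.card] at h1 h2 h3
  obtain ⟨a, ha⟩ : ∃ a, a = Nat.card (S.A T) := ⟨_, rfl⟩
  obtain ⟨b, hb⟩ : ∃ b, b = Nat.card (S.A (f * T * f⁻¹)) := ⟨_, rfl⟩
  obtain ⟨c, hc'⟩ : ∃ c, c = Nat.card (S.A T ⊓ S.A (f * T * f⁻¹) : Subgroup G) := ⟨_, rfl⟩
  obtain ⟨ra, hra⟩ : ∃ a, a = (S.A T).relIndex H := ⟨_, rfl⟩
  obtain ⟨rb, hrb⟩ : ∃ b, b = (S.A (f * T * f⁻¹)).relIndex H := ⟨_, rfl⟩
  obtain ⟨rc, hrc⟩ : ∃ c, c = (S.A T ⊓ S.A (f * T * f⁻¹)).relIndex H := ⟨_, rfl⟩
  rw [← ha, ← hra] at h1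
  rw [← hb, ← hrb] at h2
  rw [← hc', ← hrc] at h3
  rw [← hrc, ← hra, ← hrb] at h4
  rw [← hc'] at hc
  rw [← ha, ← hb] at hab
  rw [← ha]
  have h5 : 16 ≤ rc := by nlinarith
  have h6 : a * b * rc ≤ 1024 := by
    calc a * b * rc ≤ a * b * (ra * rb) := Nat.mul_le_mul_left _ h4
      _ = (a * ra) * (b * rb) := by ring
      _ = 1024 := by rw [h1, h2]
  by_contra hcon
  have h7 : 9 ≤ a := by omega
  have h8 : 81 ≤ a * b := by nlinarith
  nlinarith

end finite

end Cfsg.Agent.Helper12.E320
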