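import Mathlib
import Cfsg.Agent.Lib.Helper12.E320c
import Cfsg.Agent.Lib.Helper13.KleinCount

/-!
# A group of order 320 with extraspecial `O₂` of minus type (helper12), part 4
-/

set_option autoImplicit false

namespace Cfsg.Agent.Helper12.E320

open Cfsg Cfsg.Agent.Helper13.KleinCount

variable {G : Type*} [Group G] {H : Subgroup G} {z : G}

theorem isElementaryAbelian_closure {s : Set G} (hs : ∀ x ∈ s, ∀ y ∈ s, x * y = y * x)
    (h2 : ∀ x ∈ s, x * x = 1) : IsElementaryAbelian 2 (Subgroup.closure s) := by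
  have hc : IsMulCommutative (Subgroup.closure s) := Subgroup.isMulCommutative_closure hs
  refine ⟨hc, ?_⟩
  intro a ha
  induction ha using Subgroup.closure_induction with
  | mem x hx => rw [pow_two]; exact h2 x hx
  | one => exact one_pow 2
  | mul x y hx hy ihx ihy =>
    have hxy : x * y = y * x := by
      have := mul_comm' (⟨x, hx⟩ : Subgroup.closure s) ⟨y, hy⟩
      exact congrArg Subtype.val this
    have hcm : Commute x y := hxy
    rw [hcm.mul_pow, ihx, ihy, one_mul]
  | inv x hx ihx => rw [inv_pow, ihx, inv_one]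

/-- the commutator map of `T` -/
def delta (T h : G) : G := h⁻¹ * (T * h * T⁻¹)

theorem Setting.no_eight (S : Setting H z) [Finite G]
    (hminus : ∀ A : Subgroup G, A ≤ H → IsElementaryAbelian 2 A → Nat.card A ≤ 4)
    {T : G} (hT : T * T = 1) (hA : ∀ h ∈ S.A T, T * h * T⁻¹ = h)
    (hc : Nat.card (S.A T) ≤ 8) : False := by
  have hTinv : T⁻¹ = T := inv_eq_of_mul_eq_one_right hT
  have dH : ∀ h ∈ H, delta T h ∈ H := fun h hh =>
    H.mul_mem (H.inv_mem hh) (S.conj_mem T hh)
  have dinv : ∀ h, T * delta T h * T⁻¹ = (delta T h)⁻¹ := by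
    intro h
    unfold delta
    have e1 : T * (h⁻¹ * (T * h * T⁻¹)) * T⁻¹ = T * h⁻¹ * T * h * (T⁻¹ * T⁻¹) := by group
    have e2 : (h⁻¹ * (T * h * T⁻¹))⁻¹ = T * h⁻¹ * T⁻¹ * h := by group
    rw [e1, e2, hTinv, hT, mul_one]
  have dA : ∀ h ∈ H, delta T h ∈ S.A T := by
    intro h hh
    refine ⟨dH h hh, ?_⟩
    rw [dinv]
    rcases S.sq _ (dH h hh) with h1 | h1
    · left; exact inv_eq_of_mul_eq_one_right h1
    · right
      apply inv_eq_of_mul_eq_one_right
      rw [← mul_assoc, h1, S.zz]
  have dsq : ∀ h ∈ H, delta T h * delta T h = 1 := by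
    intro h hh
    have h1 := hA _ (dA h hh)
    rw [dinv] at h1
    have h2 : delta T h * (delta T h)⁻¹ = 1 := mul_inv_cancel _
    rw [h1] at h2
    exact h2
  have dmul : ∀ h ∈ H, ∀ k ∈ H, delta T (h * k) = delta T h * delta T k ∨
      delta T (h * k) = delta T h * delta T k * z := by
    intro h hh k hk
    have e : delta T (h * k) = k⁻¹ * delta T h * k * delta T k := by unfold delta; group
    rcases S.comm _ (dH h hh) k hk with h1 | h1
    · left
      have h2 : k⁻¹ * delta T h * k = delta T h := by
        rw [mul_assoc, h1, ← mul_assoc, inv_mul_cancel, one_mul]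
      rw [e, h2]
    · right
      have h2 : k⁻¹ * delta T h * k = delta T h * z := by
        rw [mul_assoc, h1, ← mul_assoc, ← mul_assoc, inv_mul_cancel, one_mul]
      rw [e, h2, mul_assoc (delta T h) z (delta T k), (S.zc _ (dH k hk)).symm, ← mul_assoc]
  have dcomm : ∀ h ∈ H, ∀ k ∈ H, delta T h * delta T k = delta T k * delta T h := by
    intro h hh k hk
    have h1 := dsq (h * k) (H.mul_mem hh hk)
    have ha := dsq h hh
    have hb := dsq k hk
    have hd : delta T h * delta T k ∈ H := H.mul_mem (dH h hh) (dH k hk)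
    have h2 : (delta T h * delta T k) * (delta T h * delta T k) = 1 := by
      rcases dmul h hh k hk with h3 | h3
      · rw [h3] at h1; exact h1
      · rw [h3] at h1
        obtain ⟨d, hd'⟩ : ∃ d, d = delta T h * delta T k := ⟨_, rfl⟩
        rw [← hd'] at h1 hd ⊢
        have hz := S.zc _ hd
        calc d * d = d * d * (z * z) := by rw [S.zz, mul_one]
          _ = d * (d * z) * z := by group
          _ = d * (z * d) * z := by rw [hz]
          _ = (d * z) * (d * z) := by group
          _ = 1 := h1
    have e1 : (delta T h * delta T k)⁻¹ = delta T h * delta T k := inv_eq_of_mul_eq_one_right h2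
    have e2 : (delta T h)⁻¹ = delta T h := inv_eq_of_mul_eq_one_right ha
    have e3 : (delta T k)⁻¹ = delta T k := inv_eq_of_mul_eq_one_right hb
    rw [mul_inv_rev, e2, e3] at e1
    exact e1.symm
  obtain ⟨a, haH, haA⟩ : ∃ a ∈ H, a ∉ S.A T := by
    by_contra hcon
    push Not at hcon
    have h1 : H ≤ S.A T := hcon
    have h2 := Subgroup.card_le_of_le h1
    rw [S.card] at h2
    omega
  have dne : ∀ b ∈ H, b ∉ S.A T → delta T b ≠ 1 ∧ delta T b ≠ z := by
    intro b hb hbA
    constructor
    · intro h1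
      apply hbA
      refine ⟨hb, Or.inl ?_⟩
      unfold delta at h1
      exact (inv_mul_eq_one.1 h1).symm
    · intro h1
      apply hbA
      refine ⟨hb, Or.inr ?_⟩
      unfold delta at h1
      rw [inv_mul_eq_iff_eq_mul] at h1
      exact h1
  have key : ∀ b ∈ H, b ∉ S.A T → delta T b = delta T a ∨ delta T b = z * delta T a := by
    intro b hb hbA
    obtain ⟨hb1, hbz⟩ := dne b hb hbA
    obtain ⟨ha1, haz⟩ := dne a haH haA
    have hE : IsElementaryAbelian 2
        (Subgroup.closure ({z, delta T a, delta T b} : Set G)) := by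
      apply isElementaryAbelian_closure
      · intro x hx y hy
        simp only [Set.mem_insert_iff, Set.mem_singleton_iff] at hx hy
        rcases hx with rfl | rfl | rfl <;> rcases hy with rfl | rfl | rfl
        · rfl
        · exact (S.zc _ (dH a haH)).symm
        · exact (S.zc _ (dH b hb)).symm
        · exact S.zc _ (dH a haH)
        · rfl
        · exact dcomm a haH b hb
        · exact S.zc _ (dH b hb)
        · exact dcomm b hb a haH
        · rfl
      · intro x hx
        simp only [Set.mem_insert_iff, Set.mem_singleton_iff] at hx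
        rcases hx with rfl | rfl | rfl
        · exact S.zz
        · exact dsq a haH
        · exact dsq b hb
    have hEH : Subgroup.closure ({z, delta T a, delta T b} : Set G) ≤ H := by
      rw [Subgroup.closure_le]
      intro x hx
      simp only [Set.mem_insert_iff, Set.mem_singleton_iff] at hx
      rcases hx with rfl | rfl | rfl
      · exact S.zH
      · exact dH a haH
      · exact dH b hb
    have hE4 := hminus _ hEH hE
    have hzd : z * delta T a = delta T a * z := (S.zc _ (dH a haH)).symm
    have hK4 := card_kleinOf S.zz (dsq a haH) hzd S.z1 ha1 (Ne.symm haz)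
    have hKE : kleinOf z (delta T a) S.zz (dsq a haH) hzd ≤
        Subgroup.closure ({z, delta T a, delta T b} : Set G) := by
      intro x hx
      rcases mem_kleinOf.1 hx with rfl | rfl | rfl | rfl
      · exact Subgroup.one_mem _
      · exact Subgroup.subset_closure (by simp)
      · exact Subgroup.subset_closure (by simp)
      · exact Subgroup.mul_mem _ (Subgroup.subset_closure (by simp))
          (Subgroup.subset_closure (by simp))
    have hKeq : kleinOf z (delta T a) S.zz (dsq a haH) hzd =
        Subgroup.closure ({z, delta T a, delta T b} : Set G) :=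
      Subgroup.eq_of_le_of_card_ge hKE (by rw [hK4]; exact hE4)
    have hbE : delta T b ∈ Subgroup.closure ({z, delta T a, delta T b} : Set G) :=
      Subgroup.subset_closure (by simp)
    rw [← hKeq] at hbE
    rcases mem_kleinOf.1 hbE with h1 | h1 | h1 | h1
    · exact absurd h1 hb1
    · exact absurd h1 hbz
    · left; exact h1
    · right; exact h1
  have key2 : ∀ b ∈ H, b ∉ S.A T → b * a⁻¹ ∈ S.A T := by
    intro b hb hbA
    refine ⟨H.mul_mem hb (H.inv_mem haH), ?_⟩
    have eb : T * b * T⁻¹ = b * delta T b := by unfold delta; group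
    have ea : T * a * T⁻¹ = a * delta T a := by unfold delta; group
    have e : T * (b * a⁻¹) * T⁻¹ = (T * b * T⁻¹) * (T * a * T⁻¹)⁻¹ := by group
    rw [e, eb, ea]
    rcases key b hb hbA with h1 | h1
    · left; rw [h1]; group
    · right
      rw [h1]
      have hza : z * a⁻¹ = a⁻¹ * z := (S.zc _ (H.inv_mem haH)).symm
      calc b * (z * delta T a) * (a * delta T a)⁻¹ = b * (z * a⁻¹) := by group
        _ = b * (a⁻¹ * z) := by rw [hza]
        _ = b * a⁻¹ * z := by group
  have hrel : (S.A T).relIndex H ∣ 2 := by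
    rw [Subgroup.relIndex_dvd_two_iff]
    refine ⟨a⁻¹, H.inv_mem haH, ?_⟩
    intro b hb
    by_cases hbA : b ∈ S.A T
    · right; exact hbA
    · left; exact key2 b hb hbA
  have h1 := card_mul_relIndex_of_le (S.A_le T)
  rw [S.card] at h1
  have h2 : (S.A T).relIndex H ≤ 2 := Nat.le_of_dvd (by norm_num) hrel
  nlinarith

theorem Setting.main (S : Setting H z) [Finite G]
    (hminus : ∀ A : Subgroup G, A ≤ H → IsElementaryAbelian 2 A → Nat.card A ≤ 4)
    (T : G) (hT : orderOf T = 2) (hTH : T ∉ H)
    (V : Subgroup G) (hV : V ≤ H ⊓ Subgroup.centralizer ({T} : Set G)) (hV4 : Nat.card V = 4)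
    (hVe : IsElementaryAbelian 2 V) :
    Nat.card ↥(H ⊓ Subgroup.centralizer ({T} : Set G)) = 4 ∧
      IsElementaryAbelian 2 (H ⊓ Subgroup.centralizer ({T} : Set G)) := by
  have hTT : T * T = 1 := by rw [← pow_two, ← hT]; exact pow_orderOf_eq_one T
  have hTinv : T⁻¹ = T := inv_eq_of_mul_eq_one_right hTT
  obtain ⟨f, hf⟩ := S.exists_five
  have hA8 := S.card_A_le hf hTT hTH
  obtain ⟨D, hD⟩ : ∃ D, D = H ⊓ Subgroup.centralizer ({T} : Set G) := ⟨_, rfl⟩
  rw [← hD] at hV ⊢
  have hmemD : ∀ h, h ∈ D → h ∈ H ∧ T * h * T⁻¹ = h := by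
    intro h hh
    rw [hD, Subgroup.mem_inf, Subgroup.mem_centralizer_iff] at hh
    refine ⟨hh.1, ?_⟩
    have := hh.2 T (Set.mem_singleton T)
    rw [mul_inv_eq_iff_eq_mul]
    exact this
  have hDA : D ≤ S.A T := fun h hh => ⟨(hmemD h hh).1, Or.inl (hmemD h hh).2⟩
  have hDH : D ≤ H := by rw [hD]; exact inf_le_left
  have hD8 : Nat.card D ≤ 8 := le_trans (Subgroup.card_le_of_le hDA) hA8
  have h4D : 4 ∣ Nat.card D := by rw [← hV4]; exact Subgroup.card_dvd_of_le hV
  have hD32 : Nat.card D ∣ 2 ^ 5 := by
    have := Subgroup.card_dvd_of_le hDH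
    rwa [S.card] at this
  obtain ⟨i, hi5, hi⟩ := (Nat.dvd_prime_pow Nat.prime_two).1 hD32
  have hcases : Nat.card D = 4 ∨ Nat.card D = 8 := by
    rw [hi] at hD8 h4D ⊢
    interval_cases i
    · norm_num at h4D
    · norm_num at h4D
    · norm_num
    · norm_num
    · norm_num at hD8
    · norm_num at hD8
  rcases hcases with h4 | h8
  · have hVD : V = D := Subgroup.eq_of_le_of_card_ge hV (by rw [h4, hV4])
    rw [← hVD]
    exact ⟨hV4, hVe⟩
  · exfalso
    have hAD : D = S.A T := Subgroup.eq_of_le_of_card_ge hDA (by rw [h8]; exact hA8)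
    apply S.no_eight hminus hTT _ hA8
    intro h hh
    rw [← hAD] at hh
    exact (hmemD h hh).2

end Cfsg.Agent.Helper12.E320
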