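import Mathlib
import Cfsg.Agent.S0256

set_option autoImplicit false

/-! The automorphism group of an elementary abelian 2-group of order at most 16 embeds in
`GL (Fin 4) (ZMod 2)`, which embeds in the alternating group of degree 8. -/

namespace Cfsg.Agent.Helper12.EA

open Matrix

section linear

variable {M : Type*} [AddCommGroup M] [Module (ZMod 2) M]

abbrev U4 : Type := Fin 4 → ZMod 2

/-- transport of a linear automorphism of `M` to the standard space of dimension 4 -/
def transport {M' : Type*} [AddCommGroup M'] [Module (ZMod 2) M']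
    (e : (M × M') ≃ₗ[ZMod 2] U4) (g : M ≃ₗ[ZMod 2] M) : U4 ≃ₗ[ZMod 2] U4 :=
  (e.symm.trans (g.prodCongr (LinearEquiv.refl (ZMod 2) M'))).trans e

theorem transport_apply {M' : Type*} [AddCommGroup M'] [Module (ZMod 2) M']
    (e : (M × M') ≃ₗ[ZMod 2] U4) (g : M ≃ₗ[ZMod 2] M) (u : U4) :
    transport e g u = e (g (e.symm u).1, (e.symm u).2) := rfl

theorem exists_embedding_of_module [Finite M] (hcard : Nat.card M ≤ 16) :
    ∃ f : (M ≃ₗ[ZMod 2] M) →* (U4 ≃ₗ[ZMod 2] U4), Function.Injective f := by
  haveI : Fintype M := Fintype.ofFinite M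
  have hr : Module.finrank (ZMod 2) M ≤ 4 := by
    have h1 : Fintype.card M = Fintype.card (ZMod 2) ^ Module.finrank (ZMod 2) M :=
      Module.card_eq_pow_finrank
    rw [ZMod.card, ← Nat.card_eq_fintype_card] at h1
    rw [h1] at hcard
    by_contra hlt
    push_neg at hlt
    have : 2 ^ 5 ≤ 2 ^ Module.finrank (ZMod 2) M := Nat.pow_le_pow_right (by norm_num) hlt
    omega
  set r := Module.finrank (ZMod 2) M with hrdef
  have hfin : Module.finrank (ZMod 2) (M × (Fin (4 - r) → ZMod 2)) = Module.finrank (ZMod 2) U4 := by
    rw [Module.finrank_prod, Module.finrank_fin_fun, Module.finrank_fin_fun]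
    omega
  let e : (M × (Fin (4 - r) → ZMod 2)) ≃ₗ[ZMod 2] U4 := LinearEquiv.ofFinrankEq _ _ hfin
  refine ⟨{ toFun := fun φ => transport e φ
            map_one' := ?_
            map_mul' := ?_ }, ?_⟩
  · apply LinearEquiv.ext
    intro u
    rw [transport_apply]
    show e ((e.symm u).1, (e.symm u).2) = u
    exact e.apply_symm_apply u
  · intro φ ψ
    apply LinearEquiv.ext
    intro u
    show transport e (φ * ψ) u = transport e φ (transport e ψ u)
    rw [transport_apply, transport_apply, transport_apply, LinearEquiv.symm_apply_apply]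
    rfl
  · intro φ ψ h
    apply LinearEquiv.ext
    intro m
    have h1 := LinearEquiv.congr_fun h (e (m, 0))
    change transport e φ (e (m, 0)) = transport e ψ (e (m, 0)) at h1
    rw [transport_apply, transport_apply, LinearEquiv.symm_apply_apply] at h1
    have h2 := e.injective h1
    exact congrArg Prod.fst h2

end linear

/-- The automorphism group of an elementary abelian 2-group of order at most 16 embeds in
`GL (Fin 4) (ZMod 2)`. -/
theorem exists_embedding_GL4 {V : Type*} [Group V] [Finite V] (hcomm : ∀ a b : V, a * b = b * a)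
    (hexp : ∀ a : V, a ^ 2 = 1) (hcard : Nat.card V ≤ 16) :
    ∃ f : MulAut V →* GL (Fin 4) (ZMod 2), Function.Injective f := by
  letI : CommGroup V := { (inferInstance : Group V) with mul_comm := hcomm }
  have h2 : ∀ x : Additive V, 2 • x = 0 := by
    intro x
    show Additive.ofMul (x.toMul ^ 2) = 0
    rw [hexp]
    rfl
  letI : Module (ZMod 2) (Additive V) := AddCommGroup.zmodModule h2
  have hcard' : Nat.card (Additive V) ≤ 16 := hcard
  obtain ⟨f, hf⟩ := exists_embedding_of_module (M := Additive V) hcard'
  let toLin : MulAut V →* (Additive V ≃ₗ[ZMod 2] Additive V) :=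
    { toFun := fun φ =>
        { toFun := fun m => Additive.ofMul (φ m.toMul)
          invFun := fun m => Additive.ofMul (φ.symm m.toMul)
          left_inv := fun m => by simp
          right_inv := fun m => by simp
          map_add' := fun a b => by
            show Additive.ofMul (φ (a.toMul * b.toMul)) = _
            rw [map_mul]; rfl
          map_smul' := fun c m => by
            let g : Additive V →+ Additive V :=
              { toFun := fun m => Additive.ofMul (φ m.toMul)
                map_zero' := by show Additive.ofMul (φ 1) = 0; rw [map_one]; rfl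
                map_add' := fun a b => by
                  show Additive.ofMul (φ (a.toMul * b.toMul)) = _
                  rw [map_mul]; rfl }
            exact (AddMonoidHom.toZModLinearMap 2 g).map_smul c m }
      map_one' := by
        apply LinearEquiv.ext
        intro m
        rfl
      map_mul' := fun φ ψ => by
        apply LinearEquiv.ext
        intro m
        rfl }
  have htoLin : Function.Injective toLin := by
    intro φ ψ h
    apply MulEquiv.ext
    intro v
    have := LinearEquiv.congr_fun h (Additive.ofMul v)
    exact this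
  let e1 : (U4 ≃ₗ[ZMod 2] U4) ≃* GL (Fin 4) (ZMod 2) :=
    ((LinearMap.GeneralLinearGroup.generalLinearEquiv (ZMod 2) U4).symm).trans
      (Matrix.GeneralLinearGroup.toLin (n := Fin 4) (R := ZMod 2)).symm
  refine ⟨(e1.toMonoidHom.comp f).comp toLin, ?_⟩
  intro φ ψ h
  apply htoLin
  apply hf
  exact e1.injective h

/-- `GL (Fin 4) (ZMod 2)` embeds in the alternating group of degree 8. -/
theorem exists_embedding_A8 :
    ∃ g : GL (Fin 4) (ZMod 2) →* ↥(alternatingGroup (Fin 8)), Function.Injective g := by
  obtain ⟨e⟩ := Cfsg.Agent.S0256.result (F := ZMod 2) (by simp)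
  have hdet : ∀ A : GL (Fin 4) (ZMod 2), (A : Matrix (Fin 4) (Fin 4) (ZMod 2)).det = 1 := by
    intro A
    have hu : ∀ u : (ZMod 2)ˣ, (u : ZMod 2) = 1 := by decide
    have := hu (Matrix.GeneralLinearGroup.det A)
    exact this
  let toSL : GL (Fin 4) (ZMod 2) →* Matrix.SpecialLinearGroup (Fin 4) (ZMod 2) :=
    { toFun := fun A => ⟨(A : Matrix (Fin 4) (Fin 4) (ZMod 2)), hdet A⟩
      map_one' := rfl
      map_mul' := fun _ _ => rfl }
  have htoSL : Function.Injective toSL := by
    intro A B h
    apply Units.ext
    exact congrArg Subtype.val h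
  have hcenter : Subgroup.center (Matrix.SpecialLinearGroup (Fin 4) (ZMod 2)) = ⊥ := by
    rw [eq_bot_iff]
    intro A hA
    rw [Matrix.SpecialLinearGroup.mem_center_iff] at hA
    obtain ⟨r, -, hr⟩ := hA
    rw [Subgroup.mem_bot]
    apply Subtype.ext
    rw [← hr]
    have h01 : ∀ r : ZMod 2, r = 0 ∨ r = 1 := by decide
    have h01 := h01 r
    rcases h01 with rfl | rfl
    · exfalso
      have hd := A.2
      rw [← hr] at hd
      simp at hd
    · simp
  let q : Matrix.SpecialLinearGroup (Fin 4) (ZMod 2) →*
      Matrix.ProjectiveSpecialLinearGroup (Fin 4) (ZMod 2) :=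
    QuotientGroup.mk' _
  have hq : Function.Injective q := by
    rw [injective_iff_map_eq_one]
    intro A hA
    have : A ∈ Subgroup.center (Matrix.SpecialLinearGroup (Fin 4) (ZMod 2)) :=
      (QuotientGroup.eq_one_iff A).1 hA
    rw [hcenter, Subgroup.mem_bot] at this
    exact this
  refine ⟨(e.toMonoidHom.comp q).comp toSL, ?_⟩
  intro A B h
  apply htoSL
  apply hq
  exact e.injective h

end Cfsg.Agent.Helper12.EA
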