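import Mathlib
import Cfsg.Agent.Lib.Helper19.F4INCONJCore
import Cfsg.Agent.Lib.Helper12.F4ISURJ

/-!
# S2369 (`²F₄(q)`: elements commuting with an involution): definitions and the decidable tables

The reduced chains of the twisted Weyl group (dihedral of order `16`) of `²F₄`, and the tables used to locate the
centralizers of the two involution representatives `U4 f 0 1` (central in `U¹`) and `U5 f 1` inside the two maximal
parabolic subgroups.
-/

set_option autoImplicit false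
set_option linter.unusedSectionVars false
set_option linter.unusedSimpArgs false
set_option linter.unusedVariables false

namespace Cfsg.Agent.Helper12.F4C

open Cfsg Cfsg.Lie Cfsg.Agent.Lead.Chev Cfsg.Agent.Lead.Tw Cfsg.Agent.Helper11.F4I

/-- the `17` reduced chains over `F4.S = [[0, 3], [1, 2, 1, 2]]` -/
def f4Chains : List (List (List ℕ)) :=
  [[],
   [[0, 3]],
   [[1, 2, 1, 2]],
   [[0, 3], [1, 2, 1, 2]],
   [[1, 2, 1, 2], [0, 3]],
   [[0, 3], [1, 2, 1, 2], [0, 3]],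
   [[1, 2, 1, 2], [0, 3], [1, 2, 1, 2]],
   [[0, 3], [1, 2, 1, 2], [0, 3], [1, 2, 1, 2]],
   [[1, 2, 1, 2], [0, 3], [1, 2, 1, 2], [0, 3]],
   [[0, 3], [1, 2, 1, 2], [0, 3], [1, 2, 1, 2], [0, 3]],
   [[1, 2, 1, 2], [0, 3], [1, 2, 1, 2], [0, 3], [1, 2, 1, 2]],
   [[0, 3], [1, 2, 1, 2], [0, 3], [1, 2, 1, 2], [0, 3], [1, 2, 1, 2]],
   [[1, 2, 1, 2], [0, 3], [1, 2, 1, 2], [0, 3], [1, 2, 1, 2], [0, 3]],
   [[0, 3], [1, 2, 1, 2], [0, 3], [1, 2, 1, 2], [0, 3], [1, 2, 1, 2], [0, 3]],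
   [[1, 2, 1, 2], [0, 3], [1, 2, 1, 2], [0, 3], [1, 2, 1, 2], [0, 3], [1, 2, 1, 2]],
   [[0, 3], [1, 2, 1, 2], [0, 3], [1, 2, 1, 2], [0, 3], [1, 2, 1, 2], [0, 3], [1, 2, 1, 2]],
   [[1, 2, 1, 2], [0, 3], [1, 2, 1, 2], [0, 3], [1, 2, 1, 2], [0, 3], [1, 2, 1, 2], [0, 3]]]

/-- the auxiliary words `w'` of the tables -/
def auxW : List (List ℕ) :=
  [[], [0, 3], [1, 2, 1, 2], [0, 3, 1, 2, 1, 2], [1, 2, 1, 2, 0, 3], [0, 3, 1, 2, 1, 2, 0, 3],
   [1, 2, 1, 2, 0, 3, 1, 2, 1, 2], [0, 3, 1, 2, 1, 2, 0, 3, 1, 2, 1, 2], [1, 2, 1, 2, 0, 3, 1, 2, 1, 2, 0, 3]]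

/-- the pair of roots `r, r'` is mapped by `w` to two positive or to two negative roots -/
def SameSign (w : List ℕ) (r r' : ℕ) : Prop :=
  (chevF4.IsPosRoot (reflWord chevF4 w r) ∧ chevF4.IsPosRoot (reflWord chevF4 w r')) ∨
    (chevF4.IsNegRoot (reflWord chevF4 w r) ∧ chevF4.IsNegRoot (reflWord chevF4 w r'))

instance (w : List ℕ) (r r' : ℕ) : Decidable (SameSign w r r') := by unfold SameSign; infer_instance

/-- TABLE Z: a chain is `[]`, `[[1, 2, 1, 2]]`, or some auxiliary word `w'` keeps the roots `44, 47` positive while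
`w' ++ wordOf l` makes them negative -/
theorem ztab : ∀ l ∈ f4Chains, l = [] ∨ l = [[1, 2, 1, 2]] ∨ ∃ w' ∈ auxW, (∀ i ∈ w', i < chevF4.rank) ∧
    chevF4.IsPosRoot (reflWord chevF4 w' 44) ∧ chevF4.IsPosRoot (reflWord chevF4 w' 47) ∧
    chevF4.IsNegRoot (reflWord chevF4 (w' ++ wordOf l) 44) ∧
    chevF4.IsNegRoot (reflWord chevF4 (w' ++ wordOf l) 47) := by
  decide +kernel

/-- TABLE Y: a chain is `[]`, `[[0, 3]]`, or some auxiliary word `w'` keeps the roots `44, 47, 39, 45, 40, 46` positive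
while `w' ++ wordOf l` makes `39, 45` negative (and treats the pairs `44, 47` and `40, 46` uniformly) -/
theorem ytab : ∀ l ∈ f4Chains, l = [] ∨ l = [[0, 3]] ∨ ∃ w' ∈ auxW, (∀ i ∈ w', i < chevF4.rank) ∧
    (∀ r ∈ [44, 47, 39, 45, 40, 46], chevF4.IsPosRoot (reflWord chevF4 w' r)) ∧
    chevF4.IsNegRoot (reflWord chevF4 (w' ++ wordOf l) 39) ∧
    chevF4.IsNegRoot (reflWord chevF4 (w' ++ wordOf l) 45) ∧
    SameSign (w' ++ wordOf l) 44 47 ∧ SameSign (w' ++ wordOf l) 40 46 := by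
  decide +kernel

/-- the step of the enumeration of the reduced chains -/
theorem chain_step : ∀ l ∈ f4Chains, ∀ v ∈ F4.S,
    (∀ k ∈ v, k < chevF4.rank → chevF4.IsPosRoot (reflWord chevF4 (wordOf l) (chevF4.simple k))) →
    (v :: l) ∈ f4Chains := by
  decide +kernel

/-- PIECE CHAINS: every reduced chain over `F4.S` is in the list -/
theorem chain_mem_all (l : List (List ℕ)) (hl : ∀ v ∈ l, v ∈ F4.S) (hred : RedChain chevF4 l) : l ∈ f4Chains := by
  induction l with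
  | nil => decide
  | cons v l ih =>
    obtain ⟨hk, hr⟩ := hred
    have hl' : l ∈ f4Chains := ih (fun x hx => hl x (List.mem_cons_of_mem _ hx)) hr
    exact chain_step l hl' v (hl v List.mem_cons_self) (fun k hkv hkr => hk k hkv hkr)

end Cfsg.Agent.Helper12.F4C
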