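import Mathlib
import Cfsg.Agent.Lib.Helper11.F4IE7

/-!
# S2184 piece REDE: an involution `NF 0 0 0 t3 t4 u4 t5 t6 u6 t7 0 0` is conjugate to a central element of `U4` / `U6`
or to an element of `U7` / `U5`
-/

set_option autoImplicit false
set_option linter.unusedSectionVars false
set_option linter.unusedSimpArgs false
set_option linter.unusedVariables false
set_option maxHeartbeats 1000000

namespace Cfsg.Agent.Helper11.F4I

open Cfsg Cfsg.Lie Cfsg.Agent.Lead.Chev Cfsg.Agent.Lead.Tw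

variable {K : Type*} [Field K] [Fintype K] [CharP K 2] {m : ℕ} (hK : Fintype.card K = 2 ^ (2 * m + 1))
  (hperf : ∀ x : K, ∃ y : K, y ^ 2 = x) (f : K ≃+* K) (hf : ∀ t, f t = t ^ (2 ^ m))
include hK hperf hf

omit hperf in
/-- the involution relations force `t4 = t6 = 0` -/
theorem rede_t46 (t3 t4 t6 t7 : K) (hu4 : f t3 * f t6 + t4 * f t4 = 0) (ht5 : t4 * t6 = 0)
    (hu6 : f t4 * f t7 + t6 * f t6 = 0) : t4 = 0 ∧ t6 = 0 := by
  rcases mul_eq_zero.1 ht5 with h4 | h6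
  · subst h4
    simp only [map_zero, zero_mul, zero_add, mul_zero, add_zero] at hu6
    exact ⟨rfl, mul_f_eq_zero hK f hf hu6⟩
  · subst h6
    simp only [map_zero, zero_mul, zero_add, mul_zero, add_zero] at hu4
    exact ⟨mul_f_eq_zero hK f hf hu4, rfl⟩

/-- the case `t3 ≠ 0`, `t7 = 0` -/
theorem rede_t3 (t3 u4 t5 u6 : K) (h3 : t3 ≠ 0) :
    CJ (2 ^ m) (NF f 0 0 0 t3 0 u4 t5 0 u6 0 0 0) (U7 f t3) := by
  have k := na_Z hK hperf f hf 0 t3 u4 t5 u6 0 0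
  refine (k.trans (CJ.of_eq ?_)).trans (red_E7 hK hperf f hf 0 u6 t5 u4 t3 h3)
  apply NF_congr f
  all_goals simp only [map_zero, mul_zero, zero_mul, add_zero, zero_add, ne_eq, OfNat.ofNat_ne_zero,
    not_false_eq_true, zero_pow]

/-- the case `t3 = t7 = 0`, `t5 ≠ 0` -/
theorem rede_t5 (u4 t5 u6 : K) (h5 : t5 ≠ 0) :
    CJ (2 ^ m) (NF f 0 0 0 0 0 u4 t5 0 u6 0 0 0) (U5 f t5) := by
  have hff := hff hK f hf
  have hff' := hff' hK f hf
  have hf5 : f t5 ≠ 0 := (map_ne_zero f).2 h5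
  -- E5: kill u4 by U2(s, 0), f s * f t5 = u4
  have k1 : CJ (2 ^ m) (NF f 0 0 0 0 0 u4 t5 0 u6 0 0 0) (NF f 0 0 0 0 0 0 t5 0 u6 0 0 0) := by
    refine (step_2 hK hperf f hf 0 0 0 0 0 u4 t5 0 u6 0 0 0 ((f u4) ^ 2 / t5) 0).trans (CJ.of_eq ?_)
    apply NF_congr f
    all_goals simp only [map_zero, mul_zero, zero_mul, add_zero, zero_add, ne_eq, OfNat.ofNat_ne_zero,
      not_false_eq_true, zero_pow, map_div₀, hff']
    · field_simp
      grind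
  -- E6: kill u6 by U8(s, 0), f s * f t5 = u6
  have k2 : CJ (2 ^ m) (NF f 0 0 0 0 0 0 t5 0 u6 0 0 0) (NF f 0 0 0 0 0 0 t5 0 0 0 0 0) := by
    refine (step_8 hK hperf f hf 0 0 0 0 0 0 t5 0 u6 0 0 0 ((f u6) ^ 2 / t5) 0).trans (CJ.of_eq ?_)
    apply NF_congr f
    all_goals simp only [map_zero, mul_zero, zero_mul, add_zero, zero_add, ne_eq, OfNat.ofNat_ne_zero,
      not_false_eq_true, zero_pow, map_div₀, hff']
    · field_simp
      grind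
  rw [NF_U5] at k2
  exact k1.trans k2

/-- the case `t3 = t5 = t7 = 0`, `u6 ≠ 0` -/
theorem rede_u6 (u4 u6 : K) (h6 : u6 ≠ 0) :
    CJ (2 ^ m) (NF f 0 0 0 0 0 u4 0 0 u6 0 0 0) (U6 f 0 u6) := by
  have hff := hff hK f hf
  have hff' := hff' hK f hf
  -- E7: kill u4 by U1(s), f s * u6 = u4
  have k1 : CJ (2 ^ m) (NF f 0 0 0 0 0 u4 0 0 u6 0 0 0) (NF f 0 0 0 0 0 0 0 0 u6 0 0 0) := by
    refine (step_1 hK hperf f hf 0 0 0 0 0 u4 0 0 u6 0 0 0 ((f (u4 / u6)) ^ 2)).trans (CJ.of_eq ?_)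
    apply NF_congr f
    all_goals simp only [map_zero, mul_zero, zero_mul, add_zero, zero_add, ne_eq, OfNat.ofNat_ne_zero,
      not_false_eq_true, zero_pow, hff']
    · field_simp
      grind
  rw [NF_U6] at k1
  exact k1

theorem red_E (t3 t4 u4 t5 t6 u6 t7 : K) (hne : NF f 0 0 0 t3 t4 u4 t5 t6 u6 t7 0 0 ≠ 1)
    (hinv : NF f 0 0 0 t3 t4 u4 t5 t6 u6 t7 0 0 * NF f 0 0 0 t3 t4 u4 t5 t6 u6 t7 0 0 = 1) :
    (∃ c : K, c ≠ 0 ∧ (CJ (2 ^ m) (NF f 0 0 0 t3 t4 u4 t5 t6 u6 t7 0 0) (U4 f 0 c) ∨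
      CJ (2 ^ m) (NF f 0 0 0 t3 t4 u4 t5 t6 u6 t7 0 0) (U6 f 0 c))) ∨
    (∃ t : K, t ≠ 0 ∧ (CJ (2 ^ m) (NF f 0 0 0 t3 t4 u4 t5 t6 u6 t7 0 0) (U7 f t) ∨
      CJ (2 ^ m) (NF f 0 0 0 t3 t4 u4 t5 t6 u6 t7 0 0) (U5 f t))) := by
  have hff := hff hK f hf
  have hfacts := invol_facts f hff 0 0 0 t3 t4 u4 t5 t6 u6 t7 0 0 hinv
  simp only [map_zero, mul_zero, zero_mul, add_zero, zero_add, ne_eq, OfNat.ofNat_ne_zero,
    not_false_eq_true, zero_pow, true_and, and_true] at hfacts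
  obtain ⟨hu4, ht5, hu6⟩ := hfacts
  obtain ⟨h4, h6⟩ := rede_t46 hK f hf t3 t4 t6 t7 hu4 ht5 hu6
  subst h4 h6
  clear hu4 ht5 hu6
  by_cases h7 : t7 = 0
  · subst h7
    by_cases h3 : t3 = 0
    · subst h3
      by_cases h5 : t5 = 0
      · subst h5
        left
        by_cases h6 : u6 = 0
        · subst h6
          refine ⟨u4, ?_, Or.inl ?_⟩
          · rintro rfl
            exact hne (NF_zero f)
          · rw [NF_U4]
            exact CJ.refl _ _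
        · exact ⟨u6, h6, Or.inr (rede_u6 hK hperf f hf u4 u6 h6)⟩
      · right
        exact ⟨t5, h5, Or.inr (rede_t5 hK hperf f hf u4 t5 u6 h5)⟩
    · right
      exact ⟨t3, h3, Or.inl (rede_t3 hK hperf f hf t3 u4 t5 u6 h3)⟩
  · right
    exact ⟨t7, h7, Or.inl (red_E7 hK hperf f hf t3 u4 t5 u6 t7 h7)⟩

end Cfsg.Agent.Helper11.F4I
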