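import Mathlib

/-!
# Subalgebras of matrix algebras that are fields: normalising implies centralising (helper12)
-/

set_option autoImplicit false

open Matrix

namespace Cfsg.Agent.Helper12
namespace FieldSub

section general
variable {F : Type*} [Field F] {n : ℕ}

/-- a non-zero element of a subalgebra with inverses kills no non-zero vector -/
theorem mulVec_eq_zero {L : Subalgebra F (Matrix (Fin n) (Fin n) F)}
    (hinv : ∀ x ∈ L, x ≠ 0 → ∃ y ∈ L, x * y = 1) {x : Matrix (Fin n) (Fin n) F} (hx : x ∈ L)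
    (hx0 : x ≠ 0) {v : Fin n → F} (hv : x *ᵥ v = 0) : v = 0 := by
  obtain ⟨y, -, hy⟩ := hinv x hx hx0
  have hyx : y * x = 1 := mul_eq_one_comm.1 hy
  have : (y * x) *ᵥ v = 0 := by rw [← Matrix.mulVec_mulVec, hv, Matrix.mulVec_zero]
  rwa [hyx, Matrix.one_mulVec] at this

/-- if `1 + N` conjugates `k` into `L` and some non-zero vector is killed by `N` and by `N * k`
then `N` commutes with `k` -/
theorem commute_of_normalize {L : Subalgebra F (Matrix (Fin n) (Fin n) F)}
    (hinv : ∀ x ∈ L, x ≠ 0 → ∃ y ∈ L, x * y = 1)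
    (N g' : Matrix (Fin n) (Fin n) F) (hg : g' * (1 + N) = 1)
    {k : Matrix (Fin n) (Fin n) F} (hk : k ∈ L) (hk' : (1 + N) * k * g' ∈ L)
    (hv : ∃ v : Fin n → F, v ≠ 0 ∧ N *ᵥ v = 0 ∧ N *ᵥ (k *ᵥ v) = 0) : N * k = k * N := by
  obtain ⟨k', hk'def⟩ : ∃ k', k' = (1 + N) * k * g' := ⟨_, rfl⟩
  rw [← hk'def] at hk'
  have h1 : k' * (1 + N) = (1 + N) * k := by
    rw [hk'def, mul_assoc, hg, mul_one]
  obtain ⟨v, hv0, hNv, hNkv⟩ := hv
  have h2 : (k' - k) *ᵥ v = 0 := by
    have e1 : (k' * (1 + N)) *ᵥ v = ((1 + N) * k) *ᵥ v := by rw [h1]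
    rw [← Matrix.mulVec_mulVec, ← Matrix.mulVec_mulVec, Matrix.add_mulVec, Matrix.add_mulVec,
      Matrix.one_mulVec, Matrix.one_mulVec, hNv, hNkv, add_zero, add_zero] at e1
    rw [Matrix.sub_mulVec, e1, sub_self]
  have h3 : k' = k := by
    by_contra hne
    exact hv0 (mulVec_eq_zero hinv (L.sub_mem hk' hk) (sub_ne_zero.2 hne) h2)
  rw [h3] at h1
  have h4 : k + k * N = k + N * k := by
    rw [mul_add, mul_one, add_mul, one_mul] at h1
    exact h1
  exact (add_left_cancel h4).symm

/-- two linear functionals on a space of dimension at least three have a common non-zero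
vector in their kernels -/
theorem exists_ne_zero_of_two {k V : Type*} [Field k] [AddCommGroup V] [Module k V]
    [FiniteDimensional k V] (f g : V →ₗ[k] k) (h : 3 ≤ Module.finrank k V) :
    ∃ v : V, v ≠ 0 ∧ f v = 0 ∧ g v = 0 := by
  have h1 : Module.finrank k (k × k) < Module.finrank k V := by
    rw [Module.finrank_prod, Module.finrank_self]
    omega
  have h2 := LinearMap.ker_ne_bot_of_finrank_lt (f := f.prod g) h1
  obtain ⟨v, hv, hv0⟩ := (Submodule.ne_bot_iff _).1 h2
  rw [LinearMap.mem_ker, LinearMap.prod_apply] at hv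
  have hv' : (f v, g v) = (0, 0) := hv
  rw [Prod.mk.injEq] at hv'
  exact ⟨v, hv0, hv'.1, hv'.2⟩

/-- a field of matrices normalised by all transvections consists of scalar matrices -/
theorem scalar_of_transvections_normalize (hn : 3 ≤ n)
    {L : Subalgebra F (Matrix (Fin n) (Fin n) F)}
    (hinv : ∀ x ∈ L, x ≠ 0 → ∃ y ∈ L, x * y = 1)
    (h : ∀ i j : Fin n, i ≠ j → ∀ k ∈ L, transvection i j 1 * k * transvection i j (-1) ∈ L)
    {x : Matrix (Fin n) (Fin n) F} (hx : x ∈ L) : ∃ c : F, x = c • (1 : Matrix (Fin n) (Fin n) F) := by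
  have hcomm : ∀ i j : Fin n, i ≠ j → Commute (Matrix.single i j (1 : F)) x := by
    intro i j hij
    apply commute_of_normalize hinv (Matrix.single i j (1 : F)) (transvection i j (-1)) ?_ hx
      (h i j hij x hx)
    · -- a common kernel vector
      obtain ⟨f, hf⟩ : ∃ f : (Fin n → F) →ₗ[F] F, ∀ v, f v = v j :=
        ⟨LinearMap.proj j, fun v => rfl⟩
      obtain ⟨g, hg⟩ : ∃ g : (Fin n → F) →ₗ[F] F, ∀ v, g v = (x *ᵥ v) j :=
        ⟨(LinearMap.proj j).comp (Matrix.toLin' x), fun v => rfl⟩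
      obtain ⟨v, hv0, hfv, hgv⟩ := exists_ne_zero_of_two f g (by
        rw [Module.finrank_fin_fun]; exact hn)
      rw [hf] at hfv
      rw [hg] at hgv
      refine ⟨v, hv0, ?_, ?_⟩
      · ext a
        rw [Matrix.single_mulVec]
        simp [hfv]
      · ext a
        rw [Matrix.single_mulVec]
        simp [hgv]
    · have := transvection_mul_transvection_same i j hij (-1 : F) 1
      rw [neg_add_cancel, transvection_zero] at this
      exact this
  have h2 := Matrix.mem_range_scalar_of_commute_single (M := x) (fun i j hij => hcomm i j hij)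
  obtain ⟨c, hc⟩ := h2
  refine ⟨c, ?_⟩
  rw [← hc, Matrix.smul_one_eq_diagonal]
  rfl

end general

end FieldSub
end Cfsg.Agent.Helper12
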