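import Mathlib
import Cfsg.Agent.Lib.Helper12.FieldSubalg

/-!
# Fields of matrices over a finite field: Frobenius-semilinear nilpotent maps, generators,
fixed subfields (helper12)
-/

set_option autoImplicit false
set_option linter.style.haveILetI false

open Matrix

namespace Cfsg.Agent.Helper12
namespace FieldSub

section field
variable {F : Type*} [Field F] {n : ℕ}

theorem ext_mulVec {A B : Matrix (Fin n) (Fin n) F} (h : ∀ v : Fin n → F, A *ᵥ v = B *ᵥ v) :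
    A = B := by
  ext i j
  have := congrFun (h (Pi.single j 1)) i
  rwa [Matrix.mulVec_single_one, Matrix.mulVec_single_one] at this

theorem isField_of (hn : 0 < n) (K : Subalgebra F (Matrix (Fin n) (Fin n) F))
    (hcomm : ∀ x ∈ K, ∀ y ∈ K, x * y = y * x)
    (hinv : ∀ x ∈ K, x ≠ 0 → ∃ y ∈ K, x * y = 1) : IsField ↥K where
  exists_pair_ne := by
    haveI : Nonempty (Fin n) := ⟨⟨0, hn⟩⟩
    refine ⟨0, 1, fun h => ?_⟩
    have h1 : ((0 : ↥K) : Matrix (Fin n) (Fin n) F) = ((1 : ↥K) : Matrix (Fin n) (Fin n) F) := by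
      rw [h]
    exact zero_ne_one h1
  mul_comm := fun a b => Subtype.ext (hcomm a.1 a.2 b.1 b.2)
  mul_inv_cancel := fun {a} ha => by
    obtain ⟨y, hy, h⟩ := hinv a.1 a.2 (fun h0 => ha (Subtype.ext h0))
    exact ⟨⟨y, hy⟩, Subtype.ext h⟩

/-- if `F ^ n` is generated by one vector over `K` then `n ≤ dim K` -/
theorem le_finrank_of_cyclic (K : Subalgebra F (Matrix (Fin n) (Fin n) F)) (v : Fin n → F)
    (h : ∀ w : Fin n → F, ∃ x ∈ K, x *ᵥ v = w) : n ≤ Module.finrank F ↥K := by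
  obtain ⟨T, hT⟩ : ∃ T : ↥K →ₗ[F] (Fin n → F), ∀ x : ↥K, T x = (x : Matrix (Fin n) (Fin n) F) *ᵥ v :=
    ⟨{ toFun := fun x => (x : Matrix (Fin n) (Fin n) F) *ᵥ v
       map_add' := fun x y => by
        show ((x + y : ↥K) : Matrix (Fin n) (Fin n) F) *ᵥ v = _
        rw [Subalgebra.coe_add, Matrix.add_mulVec]
       map_smul' := fun c x => by
        show ((c • x : ↥K) : Matrix (Fin n) (Fin n) F) *ᵥ v = _
        rw [Subalgebra.coe_smul, Matrix.smul_mulVec]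
        rfl }, fun x => rfl⟩
  have hsurj : LinearMap.range T = ⊤ := by
    rw [LinearMap.range_eq_top]
    intro w
    obtain ⟨x, hx, hxw⟩ := h w
    exact ⟨⟨x, hx⟩, by rw [hT]; exact hxw⟩
  have h1 := LinearMap.finrank_range_le T
  rw [hsurj, finrank_top, Module.finrank_fin_fun] at h1
  exact h1

variable [Fintype F]

/-- the rank-one Frobenius-semilinear nilpotent map -/
theorem exists_semilinear_nilpotent (hn : 0 < n) (K : Subalgebra F (Matrix (Fin n) (Fin n) F))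
    (hcomm : ∀ x ∈ K, ∀ y ∈ K, x * y = y * x)
    (hinv : ∀ x ∈ K, x ≠ 0 → ∃ y ∈ K, x * y = 1)
    (hdim : Module.finrank F ↥K < n)
    (p : ℕ) [Fact p.Prime] [CharP F p] (Q : ℕ) (hQ : ∃ e : ℕ, 0 < e ∧ Q = Fintype.card F ^ e) :
    ∃ (N : Matrix (Fin n) (Fin n) F) (w : Fin n → F), w ≠ 0 ∧ N *ᵥ w = 0 ∧
      (∃ u : Fin n → F, N *ᵥ u = w) ∧ N * N = 0 ∧ ∀ k ∈ K, N * k = k ^ Q * N := by
  classical
  haveI : Nonempty (Fin n) := ⟨⟨0, hn⟩⟩
  obtain ⟨e, he0, hQe⟩ := hQ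
  obtain ⟨f, -, hf⟩ := FiniteField.card F p
  have hQp : Q = p ^ ((f : ℕ) * e) := by rw [hQe, hf, pow_mul]
  have hQ0 : Q ≠ 0 := by
    rw [hQp]
    exact pow_ne_zero _ (Fact.out : p.Prime).ne_zero
  have hcQ : ∀ c : F, c ^ Q = c := fun c => by rw [hQe]; exact FiniteField.pow_card_pow e c
  letI : Field ↥K := (isField_of hn K hcomm hinv).toField
  letI : Module ↥K (Fin n → F) := Module.compHom (Fin n → F)
    (((Matrix.toLinAlgEquiv' : Matrix (Fin n) (Fin n) F ≃ₐ[F] _).toAlgHom.comp K.val).toRingHom :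
      ↥K →+* Module.End F (Fin n → F))
  have hsmul : ∀ (k : ↥K) (v : Fin n → F), k • v = (k : Matrix (Fin n) (Fin n) F) *ᵥ v :=
    fun k v => rfl
  haveI : Module.Finite ↥K (Fin n → F) := Module.Finite.of_finite
  -- the dimension over `K` is at least two
  have hd : 2 ≤ Module.finrank ↥K (Fin n → F) := by
    by_contra hlt
    have h1 : Module.finrank ↥K (Fin n → F) ≤ 1 := by omega
    obtain ⟨v, hv⟩ := finrank_le_one_iff.1 h1
    have h2 := le_finrank_of_cyclic K v (fun w => by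
      obtain ⟨c, hc⟩ := hv w
      exact ⟨c.1, c.2, by rw [← hsmul]; exact hc⟩)
    omega
  obtain ⟨d, hd'⟩ : ∃ d, d = Module.finrank ↥K (Fin n → F) := ⟨_, rfl⟩
  obtain ⟨b⟩ : Nonempty (Module.Basis (Fin d) ↥K (Fin n → F)) := by
    rw [hd']
    exact ⟨Module.finBasis ↥K (Fin n → F)⟩
  rw [← hd'] at hd
  obtain ⟨i0, i1, h01⟩ : ∃ i0 i1 : Fin d, i0 ≠ i1 :=
    ⟨⟨0, by omega⟩, ⟨1, by omega⟩, by simp [Fin.ext_iff]⟩
  -- the map
  obtain ⟨Nf, hNf⟩ : ∃ Nf : (Fin n → F) → (Fin n → F), ∀ v, Nf v =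
      ((b.repr v i0 : ↥K) : Matrix (Fin n) (Fin n) F) ^ Q *ᵥ b i1 := ⟨_, fun v => rfl⟩
  have hsemi : ∀ (k : ↥K) (v : Fin n → F),
      Nf (k • v) = (k : Matrix (Fin n) (Fin n) F) ^ Q *ᵥ Nf v := by
    intro k v
    rw [hNf, hNf, map_smul, Finsupp.smul_apply, smul_eq_mul, Matrix.mulVec_mulVec]
    have h1 : ((k * b.repr v i0 : ↥K) : Matrix (Fin n) (Fin n) F) =
        (k : Matrix (Fin n) (Fin n) F) * (b.repr v i0 : ↥K) := rfl
    rw [h1, (show Commute (k : Matrix (Fin n) (Fin n) F) (b.repr v i0 : ↥K) from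
      hcomm _ k.2 _ (b.repr v i0).2).mul_pow]
  have hadd : ∀ v w : Fin n → F, Nf (v + w) = Nf v + Nf w := by
    intro v w
    rw [hNf, hNf, hNf, map_add, Finsupp.add_apply, ← Matrix.add_mulVec]
    have h1 : ((b.repr v i0 + b.repr w i0 : ↥K) : Matrix (Fin n) (Fin n) F) =
        (b.repr v i0 : ↥K) + (b.repr w i0 : ↥K) := rfl
    rw [h1, hQp, add_pow_char_pow_of_commute p _ (show Commute
      ((b.repr v i0 : ↥K) : Matrix (Fin n) (Fin n) F) (b.repr w i0 : ↥K) from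
      hcomm _ (b.repr v i0).2 _ (b.repr w i0).2)]
  have halg : ∀ (c : F) (v : Fin n → F), c • v = (algebraMap F ↥K c) • v := by
    intro c v
    rw [hsmul]
    have h1 : ((algebraMap F ↥K c : ↥K) : Matrix (Fin n) (Fin n) F) =
        c • (1 : Matrix (Fin n) (Fin n) F) := by
      rw [Subalgebra.coe_algebraMap, Algebra.algebraMap_eq_smul_one]
    rw [h1, Matrix.smul_mulVec, Matrix.one_mulVec]
  have hhom : ∀ (c : F) (v : Fin n → F), Nf (c • v) = c • Nf v := by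
    intro c v
    rw [halg, hsemi]
    have h1 : ((algebraMap F ↥K c : ↥K) : Matrix (Fin n) (Fin n) F) =
        c • (1 : Matrix (Fin n) (Fin n) F) := by
      rw [Subalgebra.coe_algebraMap, Algebra.algebraMap_eq_smul_one]
    rw [h1, smul_pow, one_pow, hcQ, Matrix.smul_mulVec, Matrix.one_mulVec]
  obtain ⟨Nl, hNl⟩ : ∃ Nl : (Fin n → F) →ₗ[F] (Fin n → F), ∀ v, Nl v = Nf v :=
    ⟨{ toFun := Nf, map_add' := hadd, map_smul' := hhom }, fun v => rfl⟩
  obtain ⟨N, hNdef⟩ : ∃ N : Matrix (Fin n) (Fin n) F, N = LinearMap.toMatrix' Nl := ⟨_, rfl⟩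
  have hN : ∀ v, N *ᵥ v = Nf v := by
    intro v
    rw [hNdef, ← Matrix.toLin'_apply, Matrix.toLin'_toMatrix', hNl]
  have hb0 : Nf (b i0) = b i1 := by
    rw [hNf, b.repr_self, Finsupp.single_eq_same]
    have h1 : ((1 : ↥K) : Matrix (Fin n) (Fin n) F) = 1 := rfl
    rw [h1, one_pow, Matrix.one_mulVec]
  have hb1 : Nf (b i1) = 0 := by
    rw [hNf, b.repr_self, Finsupp.single_eq_of_ne h01]
    have h1 : ((0 : ↥K) : Matrix (Fin n) (Fin n) F) = 0 := rfl
    rw [h1, zero_pow hQ0, Matrix.zero_mulVec]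
  have hNN : ∀ v, Nf (Nf v) = 0 := by
    intro v
    have h1 : Nf v = ((b.repr v i0) ^ Q : ↥K) • b i1 := by
      rw [hNf, hsmul]
      rfl
    rw [h1, hsemi, hb1, Matrix.mulVec_zero]
  refine ⟨N, b i1, b.ne_zero i1, by rw [hN, hb1], ⟨b i0, by rw [hN, hb0]⟩, ?_, ?_⟩
  · apply ext_mulVec
    intro v
    rw [← Matrix.mulVec_mulVec, hN, hN, hNN, Matrix.zero_mulVec]
  · intro k hk
    apply ext_mulVec
    intro v
    rw [← Matrix.mulVec_mulVec, ← Matrix.mulVec_mulVec, hN, hN]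
    exact hsemi ⟨k, hk⟩ v


/-- a generator of the multiplicative group of a field of matrices -/
theorem exists_generator (hn : 0 < n) (K : Subalgebra F (Matrix (Fin n) (Fin n) F))
    (hcomm : ∀ x ∈ K, ∀ y ∈ K, x * y = y * x)
    (hinv : ∀ x ∈ K, x ≠ 0 → ∃ y ∈ K, x * y = 1) :
    ∃ z ∈ K, ∀ j : ℕ, z ^ j = 1 ↔ (Fintype.card F ^ Module.finrank F ↥K - 1) ∣ j := by
  classical
  have hcard : Nat.card ↥K = Fintype.card F ^ Module.finrank F ↥K := by
    rw [Module.natCard_eq_pow_finrank (K := F) (V := ↥K), Nat.card_eq_fintype_card]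
  letI : Field ↥K := (isField_of hn K hcomm hinv).toField
  obtain ⟨ζ, hζ⟩ := IsCyclic.exists_generator (α := (↥K)ˣ)
  have hord : orderOf ζ = Fintype.card F ^ Module.finrank F ↥K - 1 := by
    rw [orderOf_eq_card_of_forall_mem_zpowers hζ, Nat.card_units, hcard]
  refine ⟨((ζ : ↥K) : Matrix (Fin n) (Fin n) F), (ζ : ↥K).2, fun j => ?_⟩
  rw [← hord, orderOf_dvd_iff_pow_eq_one]
  constructor
  · intro h
    apply Units.ext
    apply Subtype.ext
    rw [Units.val_pow_eq_pow_val, Units.val_one]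
    exact h
  · intro h
    have h1 := congrArg (fun u : (↥K)ˣ => ((u : ↥K) : Matrix (Fin n) (Fin n) F)) h
    simp only [Units.val_pow_eq_pow_val, Units.val_one] at h1
    exact h1


/-- the subalgebra of the elements of `K` fixed by `x ↦ x ^ Q` -/
theorem exists_fixed_subalgebra (hn : 0 < n) (K : Subalgebra F (Matrix (Fin n) (Fin n) F))
    (hcomm : ∀ x ∈ K, ∀ y ∈ K, x * y = y * x)
    (p : ℕ) [Fact p.Prime] [CharP F p] (Q : ℕ) (hQ : ∃ e : ℕ, 0 < e ∧ Q = Fintype.card F ^ e) :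
    ∃ K' : Subalgebra F (Matrix (Fin n) (Fin n) F), ∀ x, x ∈ K' ↔ x ∈ K ∧ x ^ Q = x := by
  classical
  haveI : Nonempty (Fin n) := ⟨⟨0, hn⟩⟩
  obtain ⟨e, he0, hQe⟩ := hQ
  obtain ⟨f, -, hf⟩ := FiniteField.card F p
  have hQp : Q = p ^ ((f : ℕ) * e) := by rw [hQe, hf, pow_mul]
  have hQ0 : Q ≠ 0 := by
    rw [hQp]
    exact pow_ne_zero _ (Fact.out : p.Prime).ne_zero
  have hcQ : ∀ c : F, c ^ Q = c := fun c => by rw [hQe]; exact FiniteField.pow_card_pow e c
  refine ⟨{ carrier := {x | x ∈ K ∧ x ^ Q = x}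
            mul_mem' := ?_
            one_mem' := ⟨K.one_mem, one_pow _⟩
            add_mem' := ?_
            zero_mem' := ⟨K.zero_mem, zero_pow hQ0⟩
            algebraMap_mem' := ?_ }, fun x => Iff.rfl⟩
  · rintro a b ⟨ha, ha'⟩ ⟨hb, hb'⟩
    refine ⟨K.mul_mem ha hb, ?_⟩
    rw [(show Commute a b from hcomm a ha b hb).mul_pow, ha', hb']
  · rintro a b ⟨ha, ha'⟩ ⟨hb, hb'⟩
    refine ⟨K.add_mem ha hb, ?_⟩
    rw [hQp, add_pow_char_pow_of_commute p _ (show Commute a b from hcomm a ha b hb), ← hQp,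
      ha', hb']
  · intro c
    refine ⟨K.algebraMap_mem c, ?_⟩
    rw [Algebra.algebraMap_eq_smul_one, smul_pow, one_pow, hcQ]

/-- a unipotent matrix `1 + N`, `N * N = 0`, has determinant one in positive characteristic -/
theorem det_one_add_of_sq_zero (p : ℕ) [Fact p.Prime] [CharP F p] (hn : 0 < n)
    (N : Matrix (Fin n) (Fin n) F) (hN : N * N = 0) : (1 + N).det = 1 := by
  haveI : Nonempty (Fin n) := ⟨⟨0, hn⟩⟩
  have hp2 : 2 ≤ p := (Fact.out : p.Prime).two_le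
  have hNp : N ^ p = 0 := by
    obtain ⟨t, ht⟩ : ∃ t, p = 2 + t := ⟨p - 2, by omega⟩
    rw [ht, pow_add, pow_two, hN, zero_mul]
  have h1 : (1 + N) ^ p = 1 := by
    rw [add_pow_char_of_commute p (Commute.one_left N), one_pow, hNp, add_zero]
  have h2 : (1 + N).det ^ p = 1 := by rw [← Matrix.det_pow, h1, Matrix.det_one]
  apply frobenius_inj F p
  rw [frobenius_def, frobenius_def, h2, one_pow]

end field

end FieldSub
end Cfsg.Agent.Helper12
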