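import Mathlib

set_option autoImplicit false

namespace Cfsg.Agent.Helper12

open Equiv Equiv.Perm

/-- The symmetric group on a finite type embeds in the alternating group of degree `n`
as soon as `n` is at least twice the cardinality (by acting diagonally on two copies). -/
theorem exists_injective_hom_alt (α : Type*) [Fintype α] [DecidableEq α] (n : ℕ)
    (h : 2 * Fintype.card α ≤ n) :
    ∃ φ : Perm α →* alternatingGroup (Fin n), Function.Injective φ := by
  classical
  have hcard : Fintype.card (α ⊕ α) ≤ Fintype.card (Fin n) := by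
    simp only [Fintype.card_sum, Fintype.card_fin]; omega
  obtain ⟨ι⟩ := Function.Embedding.nonempty_of_card_le hcard
  let diag : Perm α →* Perm α × Perm α := MonoidHom.prod (MonoidHom.id _) (MonoidHom.id _)
  let ψ : Perm α →* Perm (Fin n) := (viaEmbeddingHom ι).comp ((sumCongrHom α α).comp diag)
  have hψ : ∀ σ, ψ σ ∈ alternatingGroup (Fin n) := by
    intro σ
    rw [mem_alternatingGroup]
    have e1 : ψ σ = viaEmbedding (Equiv.Perm.sumCongr σ σ) ι := rfl
    rw [e1, viaEmbedding, sign_extendDomain, sign_sumCongr, Int.units_mul_self]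
  have hinj : Function.Injective ψ := by
    refine (viaEmbeddingHom_injective ι).comp (sumCongrHom_injective.comp ?_)
    intro a b hab
    exact congrArg Prod.fst hab
  refine ⟨ψ.codRestrict _ hψ, ?_⟩
  intro a b hab
  apply hinj
  exact congrArg Subtype.val hab

/-- Residual finiteness of the free group in explicit form: a non-trivial element acts
non-trivially in a representation by permutations of a finite set. -/
theorem exists_perm_rep (w : FreeGroup ℕ) (hw : w ≠ 1) :
    ∃ (P : Finset (FreeGroup ℕ)) (f : ℕ → Perm P), FreeGroup.lift f w ≠ 1 := by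
  classical
  set L := w.toWord with hL
  set P : Finset (FreeGroup ℕ) :=
    (Finset.range (L.length + 1)).image (fun i => FreeGroup.mk (L.drop i)) with hP
  have hext : ∀ x : ℕ, ∃ e : Perm P, ∀ g : P, FreeGroup.of x * g.1 ∈ P →
      (e g : FreeGroup ℕ) = FreeGroup.of x * g.1 := by
    intro x
    obtain ⟨e, he⟩ := Finset.exists_equiv_extend_of_card_eq (α := P) (β := FreeGroup ℕ) (t := P)
      (by simp) (s := Finset.univ.filter (fun g : P => FreeGroup.of x * g.1 ∈ P))
      (f := fun g => FreeGroup.of x * g.1)
      (by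
        intro y hy
        simp only [Finset.mem_image, Finset.mem_filter, Finset.mem_univ, true_and] at hy
        obtain ⟨g, hg, rfl⟩ := hy
        exact hg)
      (by
        intro a _ b _ hab
        exact Subtype.ext (mul_left_cancel hab))
    exact ⟨e, fun g hg => he g (by simp [hg])⟩
  choose f hf using hext
  refine ⟨P, f, ?_⟩
  have key : ∀ (L' : List (ℕ × Bool)) (g : FreeGroup ℕ),
      (∀ i ≤ L'.length, FreeGroup.mk (L'.drop i) * g ∈ P) → ∀ hg : g ∈ P,
      ((FreeGroup.lift f (FreeGroup.mk L')) ⟨g, hg⟩ : FreeGroup ℕ) = FreeGroup.mk L' * g := by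
    intro L'
    induction L' with
    | nil =>
      intro g _ hg
      simp [← FreeGroup.one_eq_mk]
    | cons l L'' ih =>
      intro g hcond hg
      have hcond' : ∀ i ≤ L''.length, FreeGroup.mk (L''.drop i) * g ∈ P := by
        intro i hi
        have := hcond (i + 1) (by simpa using hi)
        simpa using this
      have ih' := ih g hcond' hg
      have hh : FreeGroup.mk L'' * g ∈ P := by simpa using hcond' 0 (Nat.zero_le _)
      have htop : FreeGroup.mk (l :: L'') * g ∈ P := by simpa using hcond 0 (Nat.zero_le _)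
      have hsplit : FreeGroup.mk (l :: L'') = FreeGroup.mk [l] * FreeGroup.mk L'' := by
        rw [FreeGroup.mul_mk]; rfl
      have hpt : (FreeGroup.lift f (FreeGroup.mk L'')) ⟨g, hg⟩ = ⟨FreeGroup.mk L'' * g, hh⟩ :=
        Subtype.ext ih'
      rw [hsplit, map_mul, Perm.mul_apply, hpt]
      obtain ⟨x, b⟩ := l
      cases b with
      | true =>
        have e1 : FreeGroup.mk [(x, true)] = FreeGroup.of x := rfl
        rw [e1, FreeGroup.lift_apply_of]
        have hmem : FreeGroup.of x * (FreeGroup.mk L'' * g) ∈ P := by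
          rw [← mul_assoc, ← e1, ← hsplit]; exact htop
        rw [hf x ⟨_, hh⟩ hmem, mul_assoc]
      | false =>
        have e1 : FreeGroup.mk [(x, false)] = (FreeGroup.of x)⁻¹ := rfl
        rw [e1, map_inv, FreeGroup.lift_apply_of]
        have hmem : (FreeGroup.of x)⁻¹ * (FreeGroup.mk L'' * g) ∈ P := by
          rw [← mul_assoc, ← e1, ← hsplit]; exact htop
        have hback : FreeGroup.of x * ((FreeGroup.of x)⁻¹ * (FreeGroup.mk L'' * g)) ∈ P := by
          rw [mul_inv_cancel_left]; exact hh
        have h2 := hf x ⟨_, hmem⟩ hback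
        have h3 : f x ⟨_, hmem⟩ = ⟨FreeGroup.mk L'' * g, hh⟩ := by
          apply Subtype.ext
          rw [h2]
          simp
        have h4 : (f x)⁻¹ ⟨FreeGroup.mk L'' * g, hh⟩ = ⟨_, hmem⟩ := by
          rw [Perm.inv_eq_iff_eq, h3]
        rw [h4, mul_assoc]
  have h1P : (1 : FreeGroup ℕ) ∈ P := by
    rw [hP, Finset.mem_image]
    exact ⟨L.length, by simp, by simp [FreeGroup.one_eq_mk]⟩
  have hcondL : ∀ i ≤ L.length, FreeGroup.mk (L.drop i) * 1 ∈ P := by
    intro i hi
    rw [mul_one, hP, Finset.mem_image]
    exact ⟨i, by simpa [Nat.lt_succ_iff] using hi, rfl⟩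
  have hmain := key L 1 hcondL h1P
  rw [hL, FreeGroup.mk_toWord, mul_one] at hmain
  intro hcontra
  rw [hcontra] at hmain
  exact hw (by simpa using hmain.symm)

end Cfsg.Agent.Helper12
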