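import Mathlib

/-! generated data: a fixed-point-free matrix group of order 48 over `ZMod 13` (helper12) -/

set_option autoImplicit false

namespace Cfsg.Agent.Helper12
namespace Frob13

/-- a generator -/
def A : Matrix (Fin 4) (Fin 4) (ZMod 13) := !![0, 6, 0, 0; 3, 0, 0, 0; 0, 0, 0, 9; 0, 0, 11, 0]

/-- a generator -/
def B : Matrix (Fin 4) (Fin 4) (ZMod 13) := !![3, 0, 3, 0; 0, 3, 0, 3; 2, 0, 11, 0; 0, 2, 0, 11]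

/-- the list of all elements -/
def T : Fin 48 → Matrix (Fin 4) (Fin 4) (ZMod 13) := ![
  !![1, 0, 0, 0; 0, 1, 0, 0; 0, 0, 1, 0; 0, 0, 0, 1],
  !![0, 6, 0, 0; 3, 0, 0, 0; 0, 0, 0, 9; 0, 0, 11, 0],
  !![3, 0, 3, 0; 0, 3, 0, 3; 2, 0, 11, 0; 0, 2, 0, 11],
  !![5, 0, 0, 0; 0, 5, 0, 0; 0, 0, 8, 0; 0, 0, 0, 8],
  !![0, 5, 0, 1; 9, 0, 7, 0; 0, 12, 0, 8; 6, 0, 4, 0],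
  !![0, 5, 0, 5; 9, 0, 9, 0; 0, 5, 0, 8; 9, 0, 4, 0],
  !![2, 0, 3, 0; 0, 2, 0, 3; 2, 0, 10, 0; 0, 2, 0, 10],
  !![0, 4, 0, 0; 2, 0, 0, 0; 0, 0, 0, 7; 0, 0, 10, 0],
  !![2, 0, 11, 0; 0, 2, 0, 11; 10, 0, 10, 0; 0, 10, 0, 10],
  !![0, 12, 0, 1; 6, 0, 7, 0; 0, 12, 0, 12; 6, 0, 6, 0],
  !![2, 0, 2, 0; 0, 2, 0, 2; 3, 0, 10, 0; 0, 3, 0, 10],
  !![0, 12, 0, 5; 6, 0, 9, 0; 0, 5, 0, 12; 9, 0, 6, 0],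
  !![12, 0, 0, 0; 0, 12, 0, 0; 0, 0, 12, 0; 0, 0, 0, 12],
  !![0, 12, 0, 8; 6, 0, 4, 0; 0, 8, 0, 12; 4, 0, 6, 0],
  !![10, 0, 11, 0; 0, 10, 0, 11; 10, 0, 2, 0; 0, 10, 0, 2],
  !![10, 0, 3, 0; 0, 10, 0, 3; 2, 0, 2, 0; 0, 2, 0, 2],
  !![0, 7, 0, 0; 10, 0, 0, 0; 0, 0, 0, 4; 0, 0, 2, 0],
  !![0, 12, 0, 12; 6, 0, 6, 0; 0, 1, 0, 12; 7, 0, 6, 0],
  !![2, 0, 10, 0; 0, 2, 0, 10; 11, 0, 10, 0; 0, 11, 0, 10],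
  !![10, 0, 2, 0; 0, 10, 0, 2; 3, 0, 2, 0; 0, 3, 0, 2],
  !![10, 0, 10, 0; 0, 10, 0, 10; 11, 0, 2, 0; 0, 11, 0, 2],
  !![0, 8, 0, 8; 4, 0, 4, 0; 0, 8, 0, 5; 4, 0, 9, 0],
  !![0, 8, 0, 1; 4, 0, 7, 0; 0, 12, 0, 5; 6, 0, 9, 0],
  !![8, 0, 0, 0; 0, 8, 0, 0; 0, 0, 5, 0; 0, 0, 0, 5],
  !![0, 8, 0, 5; 4, 0, 9, 0; 0, 5, 0, 5; 9, 0, 9, 0],
  !![0, 8, 0, 12; 4, 0, 6, 0; 0, 1, 0, 5; 7, 0, 9, 0],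
  !![0, 0, 0, 7; 0, 0, 10, 0; 0, 9, 0, 0; 11, 0, 0, 0],
  !![0, 0, 8, 0; 0, 0, 0, 8; 8, 0, 0, 0; 0, 8, 0, 0],
  !![0, 0, 12, 0; 0, 0, 0, 12; 1, 0, 0, 0; 0, 1, 0, 0],
  !![11, 0, 10, 0; 0, 11, 0, 10; 11, 0, 3, 0; 0, 11, 0, 3],
  !![11, 0, 11, 0; 0, 11, 0, 11; 10, 0, 3, 0; 0, 10, 0, 3],
  !![0, 9, 0, 0; 11, 0, 0, 0; 0, 0, 0, 6; 0, 0, 3, 0],
  !![11, 0, 3, 0; 0, 11, 0, 3; 2, 0, 3, 0; 0, 2, 0, 3],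
  !![11, 0, 2, 0; 0, 11, 0, 2; 3, 0, 3, 0; 0, 3, 0, 3],
  !![0, 0, 0, 4; 0, 0, 2, 0; 0, 6, 0, 0; 3, 0, 0, 0],
  !![0, 1, 0, 12; 7, 0, 6, 0; 0, 1, 0, 1; 7, 0, 7, 0],
  !![0, 1, 0, 8; 7, 0, 4, 0; 0, 8, 0, 1; 4, 0, 7, 0],
  !![0, 0, 0, 9; 0, 0, 11, 0; 0, 7, 0, 0; 10, 0, 0, 0],
  !![3, 0, 10, 0; 0, 3, 0, 10; 11, 0, 11, 0; 0, 11, 0, 11],
  !![0, 1, 0, 1; 7, 0, 7, 0; 0, 12, 0, 1; 6, 0, 7, 0],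
  !![0, 1, 0, 5; 7, 0, 9, 0; 0, 5, 0, 1; 9, 0, 7, 0],
  !![0, 0, 5, 0; 0, 0, 0, 5; 5, 0, 0, 0; 0, 5, 0, 0],
  !![3, 0, 2, 0; 0, 3, 0, 2; 3, 0, 11, 0; 0, 3, 0, 11],
  !![0, 5, 0, 12; 9, 0, 6, 0; 0, 1, 0, 8; 7, 0, 4, 0],
  !![3, 0, 11, 0; 0, 3, 0, 11; 10, 0, 11, 0; 0, 10, 0, 11],
  !![0, 0, 1, 0; 0, 0, 0, 1; 12, 0, 0, 0; 0, 12, 0, 0],
  !![0, 5, 0, 8; 9, 0, 4, 0; 0, 8, 0, 8; 4, 0, 4, 0],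
  !![0, 0, 0, 6; 0, 0, 3, 0; 0, 4, 0, 0; 2, 0, 0, 0]]

/-- multiplication table for the generator -/
def fA : Fin 48 → Fin 48 := ![1, 3, 5, 7, 6, 10, 11, 12, 9, 15, 17, 19, 16, 14, 22, 24, 23, 20, 13, 25, 21, 30, 32, 31, 33, 29, 27, 37, 26, 36, 39, 0, 40, 35, 28, 38, 44, 45, 46, 2, 42, 34, 43, 18, 4, 47, 8, 41]

/-- multiplication table for the generator -/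
def fB : Fin 48 → Fin 48 := ![2, 4, 6, 8, 9, 7, 12, 13, 14, 16, 18, 17, 20, 21, 23, 19, 25, 26, 27, 28, 29, 31, 24, 33, 34, 35, 36, 30, 38, 0, 32, 40, 41, 42, 43, 1, 39, 22, 44, 47, 5, 10, 3, 46, 45, 15, 37, 11]

end Frob13
end Cfsg.Agent.Helper12
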