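import Mathlib

/-!
# Spectra of Frobenius groups `V ⋊ K` with `K ≤ GL_n(p)` acting without fixed points (helper12)
-/

set_option autoImplicit false

namespace Cfsg.Agent.Helper12
namespace FrobSpec

open Matrix

section action
variable {n : ℕ} {R : Type} [CommRing R]

/-- the action of `GL_n(R)` on the column space, multiplicatively -/
def actEquiv (k : GL (Fin n) R) : MulAut (Multiplicative (Fin n → R)) where
  toFun v := Multiplicative.ofAdd ((k : Matrix (Fin n) (Fin n) R) *ᵥ Multiplicative.toAdd v)
  invFun v := Multiplicative.ofAdd (((k⁻¹ : GL (Fin n) R) : Matrix (Fin n) (Fin n) R) *ᵥ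
    Multiplicative.toAdd v)
  left_inv v := by
    show Multiplicative.ofAdd (((k⁻¹ : GL (Fin n) R) : Matrix (Fin n) (Fin n) R) *ᵥ
      ((k : Matrix (Fin n) (Fin n) R) *ᵥ Multiplicative.toAdd v)) = v
    rw [Matrix.mulVec_mulVec, ← Units.val_mul, inv_mul_cancel, Units.val_one, Matrix.one_mulVec]
    rfl
  right_inv v := by
    show Multiplicative.ofAdd ((k : Matrix (Fin n) (Fin n) R) *ᵥ
      (((k⁻¹ : GL (Fin n) R) : Matrix (Fin n) (Fin n) R) *ᵥ Multiplicative.toAdd v)) = v
    rw [Matrix.mulVec_mulVec, ← Units.val_mul, mul_inv_cancel, Units.val_one, Matrix.one_mulVec]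
    rfl
  map_mul' v w := by
    show Multiplicative.ofAdd ((k : Matrix (Fin n) (Fin n) R) *ᵥ
      (Multiplicative.toAdd v + Multiplicative.toAdd w)) = _
    rw [Matrix.mulVec_add]
    rfl

theorem actEquiv_apply (k : GL (Fin n) R) (v : Multiplicative (Fin n → R)) :
    actEquiv k v =
      Multiplicative.ofAdd ((k : Matrix (Fin n) (Fin n) R) *ᵥ Multiplicative.toAdd v) := rfl

/-- the action as a homomorphism -/
def actHom (n : ℕ) (R : Type) [CommRing R] : GL (Fin n) R →* MulAut (Multiplicative (Fin n → R)) where
  toFun := actEquiv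
  map_one' := by
    ext v
    rw [actEquiv_apply, Units.val_one, Matrix.one_mulVec]
    rfl
  map_mul' k l := by
    ext v
    rw [MulAut.mul_apply, actEquiv_apply, actEquiv_apply, actEquiv_apply, Units.val_mul,
      ← Matrix.mulVec_mulVec]
    rfl

end action

section main
variable {p : ℕ} [Fact p.Prime] {n : ℕ}

/-- the Frobenius group -/
abbrev Frob (K : Subgroup (GL (Fin n) (ZMod p))) : Type :=
  SemidirectProduct (Multiplicative (Fin n → ZMod p)) K ((actHom n (ZMod p)).comp K.subtype)

variable (K : Subgroup (GL (Fin n) (ZMod p)))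

theorem orderOf_inl (v : Multiplicative (Fin n → ZMod p)) :
    orderOf (SemidirectProduct.inl v : Frob K) = 1 ∨
      orderOf (SemidirectProduct.inl v : Frob K) = p := by
  have hp : p.Prime := Fact.out
  have h1 : (SemidirectProduct.inl v : Frob K) ^ p = 1 := by
    rw [← map_pow]
    have : v ^ p = 1 := by
      apply Multiplicative.toAdd.injective
      rw [toAdd_pow, toAdd_one]
      funext i
      rw [Pi.smul_apply, Pi.zero_apply, nsmul_eq_mul, CharP.cast_eq_zero, zero_mul]
    rw [this, map_one]
  have h2 := orderOf_dvd_of_pow_eq_one h1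
  rcases (Nat.dvd_prime hp).1 h2 with h | h
  · exact Or.inl h
  · exact Or.inr h

/-- elements with a fixed-point-free `K`-part are conjugate to their `K`-part -/
theorem orderOf_eq_of_fpf (x : Frob K)
    (hfpf : ∀ v : Fin n → ZMod p,
      ((x.right : GL (Fin n) (ZMod p)) : Matrix (Fin n) (Fin n) (ZMod p)) *ᵥ v = v → v = 0) :
    orderOf x = orderOf x.right := by
  obtain ⟨M, hM⟩ : ∃ M : Matrix (Fin n) (Fin n) (ZMod p),
      M = ((x.right : GL (Fin n) (ZMod p)) : Matrix (Fin n) (Fin n) (ZMod p)) := ⟨_, rfl⟩
  rw [← hM] at hfpf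
  -- `w ↦ w - M w` is injective, hence surjective
  have hinj : Function.Injective (fun w : Fin n → ZMod p => w - M *ᵥ w) := by
    intro w w' hww
    have h1 : M *ᵥ (w - w') = w - w' := by
      rw [Matrix.mulVec_sub]
      have h2 : w - M *ᵥ w = w' - M *ᵥ w' := hww
      have h3 : M *ᵥ w - M *ᵥ w' = (w - w') - ((w - M *ᵥ w) - (w' - M *ᵥ w')) := by abel
      rw [h3, h2, sub_self, sub_zero]
    exact sub_eq_zero.1 (hfpf _ h1)
  obtain ⟨w, hw⟩ := Finite.surjective_of_injective hinj (-(Multiplicative.toAdd x.left))
  have hw' : w + Multiplicative.toAdd x.left - M *ᵥ w = 0 := by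
    have : w - M *ᵥ w = -(Multiplicative.toAdd x.left) := hw
    have e : w + Multiplicative.toAdd x.left - M *ᵥ w =
        (w - M *ᵥ w) + Multiplicative.toAdd x.left := by abel
    rw [e, this, neg_add_cancel]
  -- conjugate by `w`
  have hconj : SemiconjBy (SemidirectProduct.inl (Multiplicative.ofAdd w) : Frob K) x
      (SemidirectProduct.inr x.right) := by
    unfold SemiconjBy
    ext
    · rw [SemidirectProduct.mul_left, SemidirectProduct.mul_left, SemidirectProduct.left_inl,
        SemidirectProduct.right_inl, SemidirectProduct.left_inr, SemidirectProduct.right_inr,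
        map_one, MulAut.one_apply, one_mul]
      rename_i i
      show (w + Multiplicative.toAdd x.left) i =
        ((((x.right : GL (Fin n) (ZMod p)) :
          Matrix (Fin n) (Fin n) (ZMod p)) *ᵥ w)) i
      rw [← hM]
      exact congrFun (sub_eq_zero.1 hw') i
    · rw [SemidirectProduct.mul_right, SemidirectProduct.mul_right, SemidirectProduct.right_inl,
        SemidirectProduct.right_inr, one_mul, mul_one]
  rw [hconj.orderOf_eq, orderOf_injective _ SemidirectProduct.inr_injective]

/-- the spectrum of the Frobenius group -/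
theorem range_orderOf (hn : 0 < n)
    (hfpf : ∀ k ∈ K, k ≠ 1 → ∀ v : Fin n → ZMod p,
      (k : Matrix (Fin n) (Fin n) (ZMod p)) *ᵥ v = v → v = 0) :
    Set.range (orderOf : Frob K → ℕ) = Set.range (orderOf : K → ℕ) ∪ {p} := by
  have hp : p.Prime := Fact.out
  ext m
  constructor
  · rintro ⟨x, rfl⟩
    by_cases hx : x.right = 1
    · have hx' : x = SemidirectProduct.inl x.left := by
        ext
        · rfl
        · rw [hx]
          rfl
      rw [hx']
      rcases orderOf_inl K x.left with h | h
      · left
        exact ⟨1, by rw [orderOf_one, h]⟩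
      · right
        exact h
    · left
      refine ⟨x.right, ?_⟩
      rw [orderOf_eq_of_fpf K x]
      apply hfpf _ x.right.2
      intro h
      apply hx
      exact Subtype.ext h
  · rintro (⟨k, rfl⟩ | h)
    · exact ⟨SemidirectProduct.inr k, orderOf_injective _ SemidirectProduct.inr_injective k⟩
    · rw [Set.mem_singleton_iff] at h
      rw [h]
      obtain ⟨v, hv⟩ : ∃ v : Multiplicative (Fin n → ZMod p), v ≠ 1 :=
        ⟨Multiplicative.ofAdd (fun _ => 1), by
          intro h1
          have h2 := congrFun (congrArg Multiplicative.toAdd h1) ⟨0, hn⟩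
          exact one_ne_zero h2⟩
      refine ⟨SemidirectProduct.inl v, ?_⟩
      rcases orderOf_inl K v with h1 | h1
      · rw [orderOf_eq_one_iff] at h1
        have := SemidirectProduct.inl_injective (h1.trans (map_one _).symm)
        exact absurd this hv
      · exact h1

theorem isSolvable_frob [hK : Group.IsSolvable K] : Group.IsSolvable (Frob K) := by
  apply Group.isSolvable_of_ker_le_range (SemidirectProduct.inl : _ →* Frob K)
    (SemidirectProduct.rightHom : Frob K →* K)
  rw [SemidirectProduct.range_inl_eq_ker_rightHom]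

/-- packaged existence statement -/
theorem exists_group (hn : 0 < n) [hK : Group.IsSolvable K]
    (hfpf : ∀ k ∈ K, k ≠ 1 → ∀ v : Fin n → ZMod p,
      (k : Matrix (Fin n) (Fin n) (ZMod p)) *ᵥ v = v → v = 0) :
    ∃ (H : Type) (_ : Group H) (_ : Fintype H), Group.IsSolvable H ∧
      Set.range (orderOf : H → ℕ) = Set.range (orderOf : K → ℕ) ∪ {p} := by
  have : Finite (Frob K) := Finite.of_equiv _ SemidirectProduct.equivProd.symm
  exact ⟨Frob K, inferInstance, Fintype.ofFinite _, isSolvable_frob K, range_orderOf K hn hfpf⟩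

end main

end FrobSpec
end Cfsg.Agent.Helper12
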