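import Mathlib
import Cfsg.Agent.Lib.Helper12.FrobSpec
import Cfsg.Agent.S0144

/-!
# Frobenius groups from an explicit table of a fixed-point-free matrix group (helper12)
-/

set_option autoImplicit false

namespace Cfsg.Agent.Helper12
namespace FrobSpec

open Matrix

section cert
variable {p : ℕ} [Fact p.Prime] {n : ℕ}

/-- a certificate that `M` is the identity or is fixed-point-free of controlled order -/
def Cert (L : List ℕ) (M : Matrix (Fin n) (Fin n) (ZMod p)) : Prop :=
  M = 1 ∨ (∃ j ∈ L, M ^ j = -1) ∨ 1 + M + M ^ 2 = 0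

instance (L : List ℕ) (M : Matrix (Fin n) (Fin n) (ZMod p)) : Decidable (Cert L M) := by
  unfold Cert
  infer_instance

theorem mulVec_pow_fixed {M : Matrix (Fin n) (Fin n) (ZMod p)} {v : Fin n → ZMod p}
    (h : M *ᵥ v = v) (j : ℕ) : (M ^ j) *ᵥ v = v := by
  induction j with
  | zero => rw [pow_zero, Matrix.one_mulVec]
  | succ j ih => rw [pow_succ, ← Matrix.mulVec_mulVec, h, ih]

theorem natCast_ne_zero_of_prime {r : ℕ} (hr : r.Prime) (hpr : p ≠ r) : ((r : ℕ) : ZMod p) ≠ 0 := by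
  have hp : p.Prime := Fact.out
  intro h
  rw [ZMod.natCast_eq_zero_iff] at h
  exact hpr ((Nat.prime_dvd_prime_iff_eq hp hr).1 h)

theorem Cert.fpf (hp2 : p ≠ 2) (hp3 : p ≠ 3) {L : List ℕ} {M : Matrix (Fin n) (Fin n) (ZMod p)}
    (hc : Cert L M) (hM : M ≠ 1) (v : Fin n → ZMod p) (hv : M *ᵥ v = v) : v = 0 := by
  rcases hc with h | ⟨j, -, hj⟩ | h
  · exact absurd h hM
  · have h1 := mulVec_pow_fixed hv j
    rw [hj, Matrix.neg_mulVec, Matrix.one_mulVec] at h1
    funext i
    have hi : -(v i) = v i := congrFun h1 i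
    have h2 : ((2 : ℕ) : ZMod p) ≠ 0 := natCast_ne_zero_of_prime Nat.prime_two hp2
    have h3 : ((2 : ℕ) : ZMod p) * v i = 0 := by
      push_cast
      linear_combination -hi
    exact (mul_eq_zero.1 h3).resolve_left h2
  · have h1 := mulVec_pow_fixed hv 2
    have h0 : (1 + M + M ^ 2) *ᵥ v = 0 := by rw [h, Matrix.zero_mulVec]
    rw [Matrix.add_mulVec, Matrix.add_mulVec, Matrix.one_mulVec, hv, h1] at h0
    funext i
    have hi : v i + v i + v i = 0 := congrFun h0 i
    have h2 : ((3 : ℕ) : ZMod p) ≠ 0 := natCast_ne_zero_of_prime Nat.prime_three hp3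
    have h3 : ((3 : ℕ) : ZMod p) * v i = 0 := by
      push_cast
      linear_combination hi
    exact (mul_eq_zero.1 h3).resolve_left h2

theorem Cert.orderOf_dvd {L : List ℕ} {M : Matrix (Fin n) (Fin n) (ZMod p)} (hc : Cert L M) :
    orderOf M ∣ 3 ∨ ∃ j ∈ L, orderOf M ∣ 2 * j := by
  rcases hc with h | ⟨j, hjL, hj⟩ | h
  · left
    rw [h, orderOf_one]
    exact one_dvd _
  · right
    refine ⟨j, hjL, orderOf_dvd_of_pow_eq_one ?_⟩
    rw [mul_comm, pow_mul, hj, neg_one_sq]
  · left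
    apply orderOf_dvd_of_pow_eq_one
    have h1 : M ^ 3 - 1 = (M - 1) * (1 + M + M ^ 2) := by noncomm_ring
    rw [h, mul_zero] at h1
    exact sub_eq_zero.1 h1

/-- a table closed under left multiplication by generators contains the generated subgroup -/
theorem closure_table {N : ℕ} (gens : Set (GL (Fin n) (ZMod p)))
    (T : Fin N → Matrix (Fin n) (Fin n) (ZMod p)) (h1 : ∃ i, T i = 1)
    (hgen : ∀ s ∈ gens, ∀ i, ∃ j, (s : Matrix (Fin n) (Fin n) (ZMod p)) * T i = T j) :
    ∀ k ∈ Subgroup.closure gens, ∃ i, (k : Matrix (Fin n) (Fin n) (ZMod p)) = T i := by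
  have key : ∀ k ∈ Subgroup.closure gens, ∀ i, ∃ j,
      (k : Matrix (Fin n) (Fin n) (ZMod p)) * T i = T j := by
    intro k hk
    induction hk using Subgroup.closure_induction with
    | mem s hs => exact hgen s hs
    | one =>
      intro i
      exact ⟨i, by rw [Units.val_one, one_mul]⟩
    | mul a b _ _ iha ihb =>
      intro i
      obtain ⟨j, hj⟩ := ihb i
      obtain ⟨l, hl⟩ := iha j
      exact ⟨l, by rw [Units.val_mul, mul_assoc, hj, hl]⟩
    | inv a _ iha =>
      have hpow : ∀ m : ℕ, ∀ i, ∃ j,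
          ((a ^ m : GL (Fin n) (ZMod p)) : Matrix (Fin n) (Fin n) (ZMod p)) * T i = T j := by
        intro m
        induction m with
        | zero =>
          intro i
          exact ⟨i, by rw [pow_zero, Units.val_one, one_mul]⟩
        | succ m ih =>
          intro i
          obtain ⟨j, hj⟩ := iha i
          obtain ⟨l, hl⟩ := ih j
          exact ⟨l, by rw [pow_succ, Units.val_mul, mul_assoc, hj, hl]⟩
      have hinv : a⁻¹ = a ^ (orderOf a - 1) := by
        have hpos := orderOf_pos a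
        apply inv_eq_of_mul_eq_one_right
        rw [← pow_succ', Nat.sub_add_cancel hpos, pow_orderOf_eq_one]
      rw [hinv]
      exact hpow _
  intro k hk
  obtain ⟨i, hi⟩ := h1
  obtain ⟨j, hj⟩ := key k hk i
  exact ⟨j, by rw [← hj, hi, mul_one]⟩

/-- a finite group all of whose element orders are `{2,3}`-numbers is solvable -/
theorem isSolvable_of_two_three {G : Type} [Group G] [Finite G]
    (h : ∀ g : G, ∀ r : ℕ, r.Prime → r ∣ orderOf g → r = 2 ∨ r = 3) : Group.IsSolvable G := by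
  have hc0 : Nat.card G ≠ 0 := Nat.card_pos.ne'
  have hprime : ∀ r : ℕ, r.Prime → r ∣ Nat.card G → r = 2 ∨ r = 3 := by
    intro r hr hdvd
    haveI : Fact r.Prime := ⟨hr⟩
    obtain ⟨g, hg⟩ := exists_prime_orderOf_dvd_card' r hdvd
    exact h g r hr (by rw [hg])
  obtain ⟨a, m, hm2, hm⟩ := Nat.exists_eq_pow_mul_and_not_dvd hc0 2 (by norm_num)
  have hm0 : m ≠ 0 := by
    rintro rfl
    rw [mul_zero] at hm
    exact hc0 hm
  obtain ⟨b, m', hm3, hm'⟩ := Nat.exists_eq_pow_mul_and_not_dvd hm0 3 (by norm_num)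
  have hm1 : m' = 1 := by
    by_contra hne
    obtain ⟨r, hr, hrd⟩ := Nat.exists_prime_and_dvd hne
    have hrm : r ∣ m := by
      rw [hm']
      exact dvd_mul_of_dvd_right hrd _
    have hrG : r ∣ Nat.card G := by
      rw [hm]
      exact dvd_mul_of_dvd_right hrm _
    rcases hprime r hr hrG with rfl | rfl
    · exact hm2 hrm
    · exact hm3 hrd
  rw [hm1, mul_one] at hm'
  rw [hm'] at hm
  exact Cfsg.Agent.S0144.result 2 3 a b Nat.prime_two Nat.prime_three hm

/-- the Frobenius group attached to a table -/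
theorem exists_frob_of_table (hp2 : p ≠ 2) (hp3 : p ≠ 3) (hn : 0 < n) {N : ℕ}
    (gens : Set (GL (Fin n) (ZMod p)))
    (T : Fin N → Matrix (Fin n) (Fin n) (ZMod p)) (L : List ℕ) (h1 : ∃ i, T i = 1)
    (hgen : ∀ s ∈ gens, ∀ i, ∃ j, (s : Matrix (Fin n) (Fin n) (ZMod p)) * T i = T j)
    (hcert : ∀ i, Cert L (T i))
    (hL : ∀ j ∈ L, ∀ r : ℕ, r.Prime → r ∣ 2 * j → r = 2 ∨ r = 3) :
    (∀ k : Subgroup.closure gens, orderOf k ∣ 3 ∨ ∃ j ∈ L, orderOf k ∣ 2 * j) ∧
    ∃ (H : Type) (_ : Group H) (_ : Fintype H), Group.IsSolvable H ∧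
      Set.range (orderOf : H → ℕ) =
        Set.range (orderOf : Subgroup.closure gens → ℕ) ∪ {p} := by
  have htab := closure_table gens T h1 hgen
  have hord : ∀ k : Subgroup.closure gens, orderOf k ∣ 3 ∨ ∃ j ∈ L, orderOf k ∣ 2 * j := by
    intro k
    obtain ⟨i, hi⟩ := htab k.1 k.2
    have h2 := (hcert i).orderOf_dvd
    rw [← hi, orderOf_units, Subgroup.orderOf_coe] at h2
    exact h2
  refine ⟨hord, ?_⟩
  haveI : Group.IsSolvable (Subgroup.closure gens) := by
    apply isSolvable_of_two_three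
    intro g r hr hdvd
    rcases hord g with h3 | ⟨j, hjL, hj⟩
    · right
      exact (Nat.prime_dvd_prime_iff_eq hr Nat.prime_three).1 (hdvd.trans h3)
    · exact hL j hjL r hr (hdvd.trans hj)
  apply exists_group (Subgroup.closure gens) hn
  intro k hk hk1 v hv
  obtain ⟨i, hi⟩ := htab k hk
  apply (hcert i).fpf hp2 hp3 _ v
  · rw [← hi]
    exact hv
  · rw [← hi]
    intro h
    apply hk1
    exact Units.ext h

end cert

end FrobSpec
end Cfsg.Agent.Helper12
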