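import Mathlib
import Cfsg.Agent.Lib.Helper12.FrobTable
import Cfsg.Agent.Lib.Helper12.Frob13Data

/-! checks on the generated data for `13^4 : 2O` (helper12) -/

set_option autoImplicit false

namespace Cfsg.Agent.Helper12
namespace Frob13

open Matrix

instance fact13 : Fact (Nat.Prime 13) := ⟨by norm_num⟩

theorem T_zero : T 0 = 1 := by decide

set_option maxRecDepth 100000 in
theorem tabA : ∀ i, A * T i = T (fA i) := by decide

set_option maxRecDepth 100000 in
theorem tabB : ∀ i, B * T i = T (fB i) := by decide

set_option maxRecDepth 100000 in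
theorem certT : ∀ i, FrobSpec.Cert [1, 2, 3, 4] (T i) := by decide

theorem A_pow : A ^ 8 = 1 := by decide
theorem A_pow' : A ^ 4 ≠ 1 := by decide
theorem B_pow : B ^ 6 = 1 := by decide
theorem B_pow2 : B ^ 2 ≠ 1 := by decide
theorem B_pow3 : B ^ 3 ≠ 1 := by decide

end Frob13
end Cfsg.Agent.Helper12
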