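import Mathlib

/-! generated data: a fixed-point-free matrix group of order 24 over `ZMod 7` (helper12) -/

set_option autoImplicit false

namespace Cfsg.Agent.Helper12
namespace Frob7

/-- a generator -/
def Z : Matrix (Fin 4) (Fin 4) (ZMod 7) := !![2, 0, 0, 0; 0, 2, 0, 0; 0, 0, 4, 0; 0, 0, 0, 4]

/-- a generator -/
def G : Matrix (Fin 4) (Fin 4) (ZMod 7) := !![0, 0, 0, 6; 0, 0, 1, 0; 1, 0, 0, 0; 0, 1, 0, 0]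

/-- the list of all elements -/
def T : Fin 24 → Matrix (Fin 4) (Fin 4) (ZMod 7) := ![
  !![1, 0, 0, 0; 0, 1, 0, 0; 0, 0, 1, 0; 0, 0, 0, 1],
  !![2, 0, 0, 0; 0, 2, 0, 0; 0, 0, 4, 0; 0, 0, 0, 4],
  !![0, 0, 0, 6; 0, 0, 1, 0; 1, 0, 0, 0; 0, 1, 0, 0],
  !![4, 0, 0, 0; 0, 4, 0, 0; 0, 0, 2, 0; 0, 0, 0, 2],
  !![0, 0, 0, 3; 0, 0, 4, 0; 2, 0, 0, 0; 0, 2, 0, 0],
  !![0, 0, 0, 5; 0, 0, 2, 0; 4, 0, 0, 0; 0, 4, 0, 0],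
  !![0, 6, 0, 0; 1, 0, 0, 0; 0, 0, 0, 6; 0, 0, 1, 0],
  !![0, 5, 0, 0; 2, 0, 0, 0; 0, 0, 0, 3; 0, 0, 4, 0],
  !![0, 3, 0, 0; 4, 0, 0, 0; 0, 0, 0, 5; 0, 0, 2, 0],
  !![0, 0, 6, 0; 0, 0, 0, 6; 0, 6, 0, 0; 1, 0, 0, 0],
  !![0, 0, 3, 0; 0, 0, 0, 3; 0, 5, 0, 0; 2, 0, 0, 0],
  !![0, 0, 5, 0; 0, 0, 0, 5; 0, 3, 0, 0; 4, 0, 0, 0],
  !![6, 0, 0, 0; 0, 6, 0, 0; 0, 0, 6, 0; 0, 0, 0, 6],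
  !![5, 0, 0, 0; 0, 5, 0, 0; 0, 0, 3, 0; 0, 0, 0, 3],
  !![3, 0, 0, 0; 0, 3, 0, 0; 0, 0, 5, 0; 0, 0, 0, 5],
  !![0, 0, 0, 1; 0, 0, 6, 0; 6, 0, 0, 0; 0, 6, 0, 0],
  !![0, 0, 0, 4; 0, 0, 3, 0; 5, 0, 0, 0; 0, 5, 0, 0],
  !![0, 0, 0, 2; 0, 0, 5, 0; 3, 0, 0, 0; 0, 3, 0, 0],
  !![0, 1, 0, 0; 6, 0, 0, 0; 0, 0, 0, 1; 0, 0, 6, 0],
  !![0, 2, 0, 0; 5, 0, 0, 0; 0, 0, 0, 4; 0, 0, 3, 0],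
  !![0, 4, 0, 0; 3, 0, 0, 0; 0, 0, 0, 2; 0, 0, 5, 0],
  !![0, 0, 1, 0; 0, 0, 0, 1; 0, 1, 0, 0; 6, 0, 0, 0],
  !![0, 0, 4, 0; 0, 0, 0, 4; 0, 2, 0, 0; 5, 0, 0, 0],
  !![0, 0, 2, 0; 0, 0, 0, 2; 0, 4, 0, 0; 3, 0, 0, 0]]

/-- multiplication table for the generator -/
def fZ : Fin 24 → Fin 24 := ![1, 3, 5, 0, 2, 4, 7, 8, 6, 11, 9, 10, 13, 14, 12, 17, 15, 16, 19, 20, 18, 23, 21, 22]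

/-- multiplication table for the generator -/
def fG : Fin 24 → Fin 24 := ![2, 4, 6, 5, 7, 8, 9, 10, 11, 12, 13, 14, 15, 16, 17, 18, 19, 20, 21, 22, 23, 0, 1, 3]

end Frob7
end Cfsg.Agent.Helper12
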