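import Mathlib
import Cfsg.Agent.Lib.Helper12.FrobTable
import Cfsg.Agent.Lib.Helper12.Frob7Data

/-! checks on the generated data for `7^4 : (Z3 : Z8)` (helper12) -/

set_option autoImplicit false

namespace Cfsg.Agent.Helper12
namespace Frob7

open Matrix

instance fact7 : Fact (Nat.Prime 7) := ⟨by norm_num⟩

theorem T_zero : T 0 = 1 := by decide

set_option maxRecDepth 100000 in
theorem tabZ : ∀ i, Z * T i = T (fZ i) := by decide

set_option maxRecDepth 100000 in
theorem tabG : ∀ i, G * T i = T (fG i) := by decide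

set_option maxRecDepth 100000 in
theorem certT : ∀ i, FrobSpec.Cert [1, 2, 3, 4, 6] (T i) := by decide

theorem Z_pow : Z ^ 3 = 1 := by decide
theorem G_pow : G ^ 8 = 1 := by decide
theorem G_pow' : G ^ 4 ≠ 1 := by decide
theorem GGZ_pow : (G * G * Z) ^ 12 = 1 := by decide
theorem GGZ_pow4 : (G * G * Z) ^ 4 ≠ 1 := by decide
theorem GGZ_pow6 : (G * G * Z) ^ 6 ≠ 1 := by decide

end Frob7
end Cfsg.Agent.Helper12
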