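import Mathlib

/-!
# Spectrum of `PSL_3(q)`: the polynomial part (helper12)

For a monic cubic `f` over a finite field with constant term `-1` we find `j` in the list of
maximal element orders and a scalar `λ` with `f ∣ X ^ j - λ`.
-/

set_option autoImplicit false

open Polynomial Module

namespace Cfsg.Agent.Helper12
namespace PSL3Spec

section rootsOfUnity
variable {F : Type*} [Field F] [Fintype F] {K : Type*} [Field K] [Algebra F K]

/-- elements of an extension killed by `q - 1` lie in `F` -/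
theorem exists_algebraMap_eq_of_pow_card_sub_one {μ : K} (h : μ ^ (Fintype.card F - 1) = 1) :
    ∃ c : F, algebraMap F K c = μ := by
  classical
  have hq : 1 < Fintype.card F := Fintype.one_lt_card
  have hn : 0 < Fintype.card F - 1 := by omega
  have hinj : Function.Injective (fun u : Fˣ => algebraMap F K (u : F)) := by
    intro u v huv
    exact Units.ext ((algebraMap F K).injective huv)
  have hsub : (Finset.univ : Finset Fˣ).image (fun u : Fˣ => algebraMap F K (u : F)) ⊆
      nthRootsFinset (Fintype.card F - 1) (1 : K) := by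
    intro x hx
    rw [Finset.mem_image] at hx
    obtain ⟨u, -, rfl⟩ := hx
    rw [mem_nthRootsFinset hn, ← map_pow, FiniteField.pow_card_sub_one_eq_one (u : F) u.ne_zero,
      map_one]
  have hcard : (nthRootsFinset (Fintype.card F - 1) (1 : K)).card ≤
      ((Finset.univ : Finset Fˣ).image (fun u : Fˣ => algebraMap F K (u : F))).card := by
    rw [Finset.card_image_of_injective _ hinj, Finset.card_univ, Fintype.card_units]
    unfold nthRootsFinset
    exact (Multiset.toFinset_card_le _).trans (card_nthRoots _ _)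
  have heq := Finset.eq_of_subset_of_card_le hsub hcard
  have hμ : μ ∈ nthRootsFinset (Fintype.card F - 1) (1 : K) := (mem_nthRootsFinset hn 1).2 h
  rw [← heq, Finset.mem_image] at hμ
  obtain ⟨u, -, hu⟩ := hμ
  exact ⟨u, hu⟩

end rootsOfUnity

section norm
variable {F : Type*} [Field F] [Fintype F]

/-- the norm of the root of an irreducible monic polynomial over a finite field -/
theorem root_pow_sum {f : F[X]} (hf : Irreducible f) (hmon : f.Monic) :
    AdjoinRoot.root f ^ (∑ i ∈ Finset.range f.natDegree, Fintype.card F ^ i) =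
      algebraMap F (AdjoinRoot f) ((-1) ^ f.natDegree * f.coeff 0) := by
  haveI : Fact (Irreducible f) := ⟨hf⟩
  haveI : FiniteDimensional F (AdjoinRoot f) := (AdjoinRoot.powerBasis hf.ne_zero).finite
  haveI : Finite (AdjoinRoot f) := Module.finite_of_finite F
  have h1 := FiniteField.algebraMap_norm_eq_pow_sum F (AdjoinRoot f) (AdjoinRoot.root f)
  have h2 := Algebra.PowerBasis.norm_gen_eq_coeff_zero_minpoly (AdjoinRoot.powerBasis hf.ne_zero)
  rw [AdjoinRoot.powerBasis_gen, AdjoinRoot.powerBasis_dim, AdjoinRoot.minpoly_root hf.ne_zero,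
    hmon.leadingCoeff, inv_one, map_one, mul_one] at h2
  rw [h2] at h1
  rw [h1, (AdjoinRoot.powerBasis hf.ne_zero).finrank, AdjoinRoot.powerBasis_dim,
    Nat.card_eq_fintype_card]

theorem card_adjoinRoot {f : F[X]} (hf : Irreducible f) :
    ∀ x : AdjoinRoot f, x ≠ 0 → x ^ (Fintype.card F ^ f.natDegree - 1) = 1 := by
  haveI : Fact (Irreducible f) := ⟨hf⟩
  haveI : FiniteDimensional F (AdjoinRoot f) := (AdjoinRoot.powerBasis hf.ne_zero).finite
  haveI : Finite (AdjoinRoot f) := Module.finite_of_finite F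
  haveI : Fintype (AdjoinRoot f) := Fintype.ofFinite _
  have h1 : Fintype.card (AdjoinRoot f) = Fintype.card F ^ f.natDegree := by
    rw [Module.card_eq_pow_finrank (K := F) (V := AdjoinRoot f),
      (AdjoinRoot.powerBasis hf.ne_zero).finrank, AdjoinRoot.powerBasis_dim]
  intro x hx
  rw [← h1]
  exact FiniteField.pow_card_sub_one_eq_one x hx

end norm

/-- the list of maximal element orders of `PSL_3(q)` -/
def Allowed (p q j : ℕ) : Prop :=
  j ∣ (q ^ 2 + q + 1) / Nat.gcd 3 (q - 1) ∨ j ∣ (q ^ 2 - 1) / Nat.gcd 3 (q - 1) ∨ j ∣ q - 1 ∨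
    j ∣ p * (q - 1) / Nat.gcd 3 (q - 1) ∨ (p = 2 ∧ j ∣ 4)

section arith

theorem gcd_dvd_sq_add {q : ℕ} (hq : 1 ≤ q) : Nat.gcd 3 (q - 1) ∣ q ^ 2 + q + 1 := by
  have h1 : q ^ 2 + q + 1 = (q - 1) * (q + 2) + 3 := by
    obtain ⟨t, rfl⟩ : ∃ t, q = t + 1 := ⟨q - 1, by omega⟩
    simp only [Nat.add_sub_cancel]
    ring
  rw [h1]
  exact dvd_add ((Nat.gcd_dvd_right 3 (q - 1)).mul_right _) (Nat.gcd_dvd_left 3 (q - 1))

theorem gcd_dvd_sq_sub {q : ℕ} (hq : 1 ≤ q) : Nat.gcd 3 (q - 1) ∣ q ^ 2 - 1 := by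
  have h1 : q ^ 2 - 1 = (q - 1) * (q + 1) := by
    obtain ⟨t, rfl⟩ : ∃ t, q = t + 1 := ⟨q - 1, by omega⟩
    simp only [Nat.add_sub_cancel]
    have : (t + 1) ^ 2 = t * (t + 1 + 1) + 1 := by ring
    rw [this, Nat.add_sub_cancel]
  rw [h1]
  exact (Nat.gcd_dvd_right 3 (q - 1)).mul_right _

end arith

section cases
variable {F : Type*} [Field F] [Fintype F]

/-- a `d`-th root of unity in an extension, `d ∣ q - 1`, lies in `F` -/
theorem exists_algebraMap_of_pow_gcd {K : Type*} [Field K] [Algebra F K] {μ : K}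
    (h : μ ^ Nat.gcd 3 (Fintype.card F - 1) = 1) : ∃ c : F, algebraMap F K c = μ := by
  apply exists_algebraMap_eq_of_pow_card_sub_one
  obtain ⟨e, he⟩ := Nat.gcd_dvd_right 3 (Fintype.card F - 1)
  rw [he, pow_mul, h, one_pow]

theorem pow_card_sub_one_of_pow_gcd {K : Type*} [Monoid K] {μ : K}
    (h : μ ^ Nat.gcd 3 (Fintype.card F - 1) = 1) : μ ^ (Fintype.card F - 1) = 1 := by
  obtain ⟨e, he⟩ := Nat.gcd_dvd_right 3 (Fintype.card F - 1)
  have h1 : μ ^ (Fintype.card F - 1) = (μ ^ Nat.gcd 3 (Fintype.card F - 1)) ^ e := by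
    rw [← pow_mul, ← he]
  rw [h1, h, one_pow]

theorem pow_three_of_pow_gcd {K : Type*} [Monoid K] {μ : K}
    (h : μ ^ Nat.gcd 3 (Fintype.card F - 1) = 1) : μ ^ 3 = 1 := by
  obtain ⟨e, he⟩ := Nat.gcd_dvd_left 3 (Fintype.card F - 1)
  conv_lhs => rw [he]
  rw [pow_mul, h, one_pow]

/-- irreducible cubics -/
theorem case_irreducible {f : F[X]} (hf : Irreducible f) (hmon : f.Monic) (hdeg : f.natDegree = 3)
    (h0 : f.coeff 0 = -1) :
    ∃ c : F, f ∣ X ^ ((Fintype.card F ^ 2 + Fintype.card F + 1) /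
      Nat.gcd 3 (Fintype.card F - 1)) - C c := by
  have hq : 1 ≤ Fintype.card F := Fintype.card_pos
  have h1 := root_pow_sum hf hmon
  rw [hdeg, h0] at h1
  have h2 : ∑ i ∈ Finset.range 3, Fintype.card F ^ i =
      Fintype.card F ^ 2 + Fintype.card F + 1 := by
    rw [Finset.sum_range_succ, Finset.sum_range_succ, Finset.sum_range_one]
    ring
  rw [h2] at h1
  have h3 : ((-1 : F) ^ 3 * -1) = 1 := by norm_num
  rw [h3, map_one] at h1
  obtain ⟨j, hj⟩ := gcd_dvd_sq_add hq
  have hjdef : (Fintype.card F ^ 2 + Fintype.card F + 1) / Nat.gcd 3 (Fintype.card F - 1) = j := by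
    rw [hj]
    exact Nat.mul_div_cancel_left j (Nat.gcd_pos_of_pos_left _ (by norm_num))
  rw [hjdef]
  have h4 : (AdjoinRoot.root f ^ j) ^ Nat.gcd 3 (Fintype.card F - 1) = 1 := by
    rw [← pow_mul, mul_comm, ← hj, h1]
  haveI : Fact (Irreducible f) := ⟨hf⟩
  obtain ⟨c, hc⟩ := exists_algebraMap_of_pow_gcd (F := F) h4
  refine ⟨c, ?_⟩
  rw [← AdjoinRoot.mk_eq_zero, map_sub, map_pow, AdjoinRoot.mk_X, AdjoinRoot.mk_C,
    ← AdjoinRoot.algebraMap_eq, hc, sub_self]

/-- a linear factor times an irreducible quadratic -/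
theorem case_quadratic (a : F) {h : F[X]} (hh : Irreducible h) (hmon : h.Monic)
    (hdeg : h.natDegree = 2) (h0 : a * h.coeff 0 = 1) :
    ∃ c : F, (X - C a) * h ∣ X ^ ((Fintype.card F ^ 2 - 1) /
      Nat.gcd 3 (Fintype.card F - 1)) - C c := by
  have hq : 1 < Fintype.card F := Fintype.one_lt_card
  haveI : Fact (Irreducible h) := ⟨hh⟩
  have h1 := root_pow_sum hh hmon
  rw [hdeg] at h1
  have h2 : ∑ i ∈ Finset.range 2, Fintype.card F ^ i = Fintype.card F + 1 := by
    rw [Finset.sum_range_succ, Finset.sum_range_one]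
    ring
  rw [h2] at h1
  have h3 : ((-1 : F) ^ 2 * h.coeff 0) = h.coeff 0 := by ring
  rw [h3] at h1
  have hcoeff0 : h.coeff 0 ≠ 0 := by
    intro h'
    rw [h', mul_zero] at h0
    exact zero_ne_one h0
  have hβ0 : AdjoinRoot.root h ≠ 0 := by
    intro h'
    rw [h', zero_pow (by omega)] at h1
    exact hcoeff0 ((map_eq_zero _).1 h1.symm)
  have h4 := card_adjoinRoot hh _ hβ0
  rw [hdeg] at h4
  obtain ⟨j, hj⟩ := gcd_dvd_sq_sub hq.le
  have hjdef : (Fintype.card F ^ 2 - 1) / Nat.gcd 3 (Fintype.card F - 1) = j := by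
    rw [hj]
    exact Nat.mul_div_cancel_left j (Nat.gcd_pos_of_pos_left _ (by norm_num))
  rw [hjdef]
  have h5 : (AdjoinRoot.root h ^ j) ^ Nat.gcd 3 (Fintype.card F - 1) = 1 := by
    rw [← pow_mul, mul_comm, ← hj, h4]
  obtain ⟨c, hc⟩ := exists_algebraMap_of_pow_gcd (F := F) h5
  have hμ3 : (AdjoinRoot.root h ^ j) ^ 3 = 1 := pow_three_of_pow_gcd (F := F) h5
  have hμq : (AdjoinRoot.root h ^ j) ^ (Fintype.card F - 1) = 1 := by
    obtain ⟨e, he⟩ := Nat.gcd_dvd_right 3 (Fintype.card F - 1)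
    rw [he, pow_mul, h5, one_pow]
  -- `a ^ j = c`
  have haj : a ^ j = c := by
    apply (algebraMap F (AdjoinRoot h)).injective
    rw [hc]
    have e1 : algebraMap F (AdjoinRoot h) (h.coeff 0) ^ j = (AdjoinRoot.root h ^ j) ^ 2 := by
      rw [← h1, ← pow_mul, mul_comm, pow_mul]
      have : Fintype.card F + 1 = (Fintype.card F - 1) + 2 := by omega
      rw [this, pow_add, hμq, one_mul]
    have e2 : algebraMap F (AdjoinRoot h) (a ^ j) * (AdjoinRoot.root h ^ j) ^ 2 = 1 := by
      rw [← e1, ← map_pow, ← map_mul, ← mul_pow, h0, one_pow, map_one]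
    have e3 : AdjoinRoot.root h ^ j * (AdjoinRoot.root h ^ j) ^ 2 = 1 := by
      rw [← pow_succ', hμ3]
    have hunit : (AdjoinRoot.root h ^ j) ^ 2 ≠ 0 := pow_ne_zero _ (pow_ne_zero _ hβ0)
    exact mul_right_cancel₀ hunit (e2.trans e3.symm)
  refine ⟨c, ?_⟩
  apply IsCoprime.mul_dvd
  · apply IsCoprime.symm
    rw [hh.coprime_iff_not_dvd]
    intro hdvd
    have := natDegree_le_of_dvd hdvd (X_sub_C_ne_zero a)
    rw [hdeg, natDegree_X_sub_C] at this
    omega
  · rw [dvd_iff_isRoot, IsRoot.def, eval_sub, eval_pow, eval_X, eval_C, haj, sub_self]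
  · rw [← AdjoinRoot.mk_eq_zero, map_sub, map_pow, AdjoinRoot.mk_X, AdjoinRoot.mk_C,
      ← AdjoinRoot.algebraMap_eq, hc, sub_self]

end cases

section split
variable {F : Type*} [Field F] [Fintype F] (p : ℕ) [Fact p.Prime] [CharP F p]

theorem X_sub_C_dvd_X_pow_sub_C (a : F) (j : ℕ) : X - C a ∣ X ^ j - C (a ^ j) := by
  rw [dvd_iff_isRoot, IsRoot.def, eval_sub, eval_pow, eval_X, eval_C, sub_self]

theorem X_sub_C_dvd_iff (a c : F) (j : ℕ) : X - C a ∣ X ^ j - C c ↔ a ^ j = c := by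
  rw [dvd_iff_isRoot, IsRoot.def, eval_sub, eval_pow, eval_X, eval_C, sub_eq_zero]

/-- `(X - a) ^ p ∣ X ^ (p e) - a ^ (p e)` in characteristic `p` -/
theorem X_sub_C_pow_char_dvd (a : F) (e : ℕ) : (X - C a) ^ p ∣ X ^ (p * e) - C (a ^ (p * e)) := by
  have h1 : (X : F[X]) ^ (p * e) - C (a ^ (p * e)) = (X ^ e - C (a ^ e)) ^ p := by
    rw [sub_pow_char, ← pow_mul, ← map_pow, ← pow_mul, mul_comm e p]
  rw [h1]
  exact pow_dvd_pow_of_dvd (X_sub_C_dvd_X_pow_sub_C a e) p

theorem coprime_X_sub_C {a c : F} (hac : a ≠ c) : IsCoprime (X - C a) (X - C c) :=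
  isCoprime_X_sub_C_of_isUnit_sub (sub_ne_zero.2 hac).isUnit

/-- three distinct roots -/
theorem case_distinct {a b c : F} (hab : a ≠ b) (hac : a ≠ c) (hbc : b ≠ c) (habc : a * b * c = 1) :
    (X - C a) * (X - C b) * (X - C c) ∣ X ^ (Fintype.card F - 1) - C (1 : F) := by
  have ha : a ≠ 0 := by rintro rfl; simp at habc
  have hb : b ≠ 0 := by rintro rfl; simp at habc
  have hc : c ≠ 0 := by rintro rfl; simp at habc
  apply IsCoprime.mul_dvd
  · exact IsCoprime.mul_left (coprime_X_sub_C hac) (coprime_X_sub_C hbc)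
  · apply IsCoprime.mul_dvd (coprime_X_sub_C hab)
    · rw [X_sub_C_dvd_iff]
      exact FiniteField.pow_card_sub_one_eq_one a ha
    · rw [X_sub_C_dvd_iff]
      exact FiniteField.pow_card_sub_one_eq_one b hb
  · rw [X_sub_C_dvd_iff]
    exact FiniteField.pow_card_sub_one_eq_one c hc

/-- a double root -/
theorem case_double {a c : F} (hac : a ≠ c) (haac : a * a * c = 1) :
    ∃ l : F, (X - C a) ^ 2 * (X - C c) ∣
      X ^ (p * (Fintype.card F - 1) / Nat.gcd 3 (Fintype.card F - 1)) - C l := by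
  have hp : p.Prime := Fact.out
  have ha : a ≠ 0 := by rintro rfl; simp at haac
  obtain ⟨d, hd⟩ : ∃ d, d = Nat.gcd 3 (Fintype.card F - 1) := ⟨_, rfl⟩
  rw [← hd]
  obtain ⟨e, he⟩ : d ∣ Fintype.card F - 1 := hd ▸ Nat.gcd_dvd_right 3 (Fintype.card F - 1)
  obtain ⟨t, ht⟩ : d ∣ 3 := hd ▸ Nat.gcd_dvd_left 3 (Fintype.card F - 1)
  have hdpos : 0 < d := hd ▸ Nat.gcd_pos_of_pos_left _ (by norm_num)
  have hj : p * (Fintype.card F - 1) / d = p * e := by
    rw [Nat.mul_div_assoc p ⟨e, he⟩]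
    congr 1
    rw [he]
    exact Nat.mul_div_cancel_left e hdpos
  rw [hj]
  refine ⟨a ^ (p * e), ?_⟩
  apply IsCoprime.mul_dvd
  · exact IsCoprime.pow_left (coprime_X_sub_C hac)
  · exact (pow_dvd_pow (X - C a) hp.two_le).trans (X_sub_C_pow_char_dvd p a e)
  · rw [X_sub_C_dvd_iff]
    -- `a ^ (3 p e) = 1`
    have h3 : a ^ (3 * (p * e)) = 1 := by
      have : 3 * (p * e) = (Fintype.card F - 1) * (t * p) := by
        conv_lhs => rw [ht]
        rw [he]
        ring
      rw [this, pow_mul, FiniteField.pow_card_sub_one_eq_one a ha, one_pow]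
    have h4 : (a * a * c) ^ (p * e) = 1 := by rw [haac, one_pow]
    rw [mul_pow, mul_pow] at h4
    have h5 : a ^ (p * e) * a ^ (p * e) * a ^ (p * e) = 1 := by
      rw [← pow_add, ← pow_add, ← h3]
      congr 1
      ring
    have h6 : a ^ (p * e) * a ^ (p * e) ≠ 0 := mul_ne_zero (pow_ne_zero _ ha) (pow_ne_zero _ ha)
    exact mul_left_cancel₀ h6 (h4.trans h5.symm)

/-- a triple root -/
theorem case_triple (a : F) :
    ∃ (j : ℕ) (l : F), (X - C a) ^ 3 ∣ X ^ j - C l ∧ (j = p ∨ (p = 2 ∧ j = 4)) := by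
  have hp : p.Prime := Fact.out
  by_cases hp2 : p = 2
  · refine ⟨4, a ^ 4, ?_, Or.inr ⟨hp2, rfl⟩⟩
    have h1 := X_sub_C_pow_char_dvd p a 2
    rw [hp2] at h1
    have h2 : (X - C a) ^ 2 ∣ (X : F[X]) ^ 2 - C (a ^ 2) := by
      have := X_sub_C_pow_char_dvd p a 1
      rwa [hp2, mul_one] at this
    -- `(X - a)^4 = X^4 - a^4`
    have h3 : (X : F[X]) ^ 4 - C (a ^ 4) = (X ^ 2 - C (a ^ 2)) ^ 2 := by
      have := sub_pow_char (R := F[X]) (X ^ 2) (C (a ^ 2)) (p := p)
      rw [hp2] at this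
      rw [this, ← pow_mul, ← map_pow, ← pow_mul]
    rw [h3]
    have h4 : ((X - C a) ^ 2) ^ 2 ∣ ((X : F[X]) ^ 2 - C (a ^ 2)) ^ 2 := pow_dvd_pow_of_dvd h2 2
    refine dvd_trans ?_ h4
    rw [← pow_mul]
    exact pow_dvd_pow _ (by norm_num)
  · refine ⟨p, a ^ p, ?_, Or.inl rfl⟩
    have h1 := X_sub_C_pow_char_dvd p a 1
    rw [mul_one] at h1
    refine dvd_trans (pow_dvd_pow _ ?_) h1
    have := hp.two_le
    omega

/-- three linear factors -/
theorem case_split {a b c : F} (habc : a * b * c = 1) :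
    ∃ (j : ℕ) (l : F), (X - C a) * (X - C b) * (X - C c) ∣ X ^ j - C l ∧
      Allowed p (Fintype.card F) j := by
  have hp : p.Prime := Fact.out
  have hdq := Nat.gcd_dvd_right 3 (Fintype.card F - 1)
  by_cases hab : a = b
  · subst hab
    by_cases hac : a = c
    · subst hac
      obtain ⟨j, l, hdvd, hj⟩ := case_triple p a
      refine ⟨j, l, ?_, ?_⟩
      · have : (X - C a) * (X - C a) * (X - C a) = (X - C a) ^ 3 := by ring
        rw [this]
        exact hdvd
      · rcases hj with rfl | ⟨h2, rfl⟩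
        · right; right; right; left
          rw [Nat.mul_div_assoc _ hdq]
          exact dvd_mul_right _ _
        · right; right; right; right
          exact ⟨h2, dvd_rfl⟩
    · obtain ⟨l, hl⟩ := case_double p hac habc
      refine ⟨_, l, ?_, Or.inr (Or.inr (Or.inr (Or.inl dvd_rfl)))⟩
      have : (X - C a) * (X - C a) * (X - C c) = (X - C a) ^ 2 * (X - C c) := by ring
      rw [this]
      exact hl
  · by_cases hbc : b = c
    · subst hbc
      obtain ⟨l, hl⟩ := case_double p (Ne.symm hab) (by rw [← habc]; ring)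
      refine ⟨_, l, ?_, Or.inr (Or.inr (Or.inr (Or.inl dvd_rfl)))⟩
      have : (X - C a) * (X - C b) * (X - C b) = (X - C b) ^ 2 * (X - C a) := by ring
      rw [this]
      exact hl
    · by_cases hac : a = c
      · subst hac
        obtain ⟨l, hl⟩ := case_double p hab (by rw [← habc]; ring)
        refine ⟨_, l, ?_, Or.inr (Or.inr (Or.inr (Or.inl dvd_rfl)))⟩
        have : (X - C a) * (X - C b) * (X - C a) = (X - C a) ^ 2 * (X - C b) := by ring
        rw [this]
        exact hl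
      · exact ⟨_, 1, case_distinct hab hac hbc habc, Or.inr (Or.inr (Or.inl dvd_rfl))⟩

/-- the polynomial lemma -/
theorem exists_dvd_X_pow_sub_C {f : F[X]} (hmon : f.Monic) (hdeg : f.natDegree = 3)
    (h0 : f.coeff 0 = -1) :
    ∃ (j : ℕ) (l : F), f ∣ X ^ j - C l ∧ Allowed p (Fintype.card F) j := by
  by_cases hroot : ∃ a, f.IsRoot a
  · obtain ⟨a, ha⟩ := hroot
    obtain ⟨h, hh⟩ : ∃ h, (X - C a) * h = f := ⟨_, mul_divByMonic_eq_iff_isRoot.2 ha⟩
    have hhmon : h.Monic := (monic_X_sub_C a).of_mul_monic_left (hh ▸ hmon)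
    have hhdeg : h.natDegree = 2 := by
      have := (monic_X_sub_C a).natDegree_mul hhmon
      rw [hh, hdeg, natDegree_X_sub_C] at this
      omega
    have hh0 : a * h.coeff 0 = 1 := by
      have := mul_coeff_zero (X - C a) h
      rw [hh, h0, coeff_sub, coeff_X_zero, coeff_C_zero, zero_sub] at this
      linear_combination this
    by_cases hroot2 : ∃ b, h.IsRoot b
    · obtain ⟨b, hb⟩ := hroot2
      obtain ⟨h', hh'⟩ : ∃ h', (X - C b) * h' = h := ⟨_, mul_divByMonic_eq_iff_isRoot.2 hb⟩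
      have hh'mon : h'.Monic := (monic_X_sub_C b).of_mul_monic_left (hh' ▸ hhmon)
      have hh'deg : h'.natDegree = 1 := by
        have := (monic_X_sub_C b).natDegree_mul hh'mon
        rw [hh', hhdeg, natDegree_X_sub_C] at this
        omega
      have hh'eq : h' = X - C (-h'.coeff 0) := by
        conv_lhs => rw [hh'mon.eq_X_add_C hh'deg]
        rw [map_neg, sub_neg_eq_add]
      obtain ⟨c, hc⟩ : ∃ c, c = -h'.coeff 0 := ⟨_, rfl⟩
      rw [← hc] at hh'eq
      have hfeq : f = (X - C a) * (X - C b) * (X - C c) := by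
        rw [← hh, ← hh', hh'eq, mul_assoc]
      have habc : a * b * c = 1 := by
        have := mul_coeff_zero (X - C b) h'
        rw [hh', hh'eq, coeff_sub, coeff_X_zero, coeff_C_zero, zero_sub, coeff_sub, coeff_X_zero,
          coeff_C_zero, zero_sub] at this
        rw [this] at hh0
        linear_combination hh0
      rw [hfeq]
      exact case_split p habc
    · push Not at hroot2
      have hirr : Irreducible h := irreducible_of_degree_le_three_of_not_isRoot
        (by rw [hhdeg]; decide) hroot2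
      obtain ⟨c, hc⟩ := case_quadratic a hirr hhmon hhdeg hh0
      rw [← hh]
      exact ⟨_, c, hc, Or.inr (Or.inl dvd_rfl)⟩
  · push Not at hroot
    have hirr : Irreducible f := irreducible_of_degree_le_three_of_not_isRoot
      (by rw [hdeg]; decide) hroot
    obtain ⟨c, hc⟩ := case_irreducible hirr hmon hdeg h0
    exact ⟨_, c, hc, Or.inl dvd_rfl⟩

end split

end PSL3Spec
end Cfsg.Agent.Helper12
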