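import Mathlib

/-!
# The diagonal torus `(Fˣ)^k → SL_{k+1}(F)` and homocyclic subgroups of `SL_n(q)`
-/

set_option autoImplicit false

namespace Cfsg.Agent.Helper12

section

variable {F : Type*} [Field F]

/-- the diagonal entries `(t_0, …, t_{k-1}, (∏ t)⁻¹)` -/
def diagEntries (k : ℕ) (t : Fin k → Fˣ) : Fin (k + 1) → F :=
  Fin.snoc (α := fun _ => F) (fun i => ((t i : Fˣ) : F)) (((∏ i, t i)⁻¹ : Fˣ) : F)

theorem diagEntries_castSucc (k : ℕ) (t : Fin k → Fˣ) (i : Fin k) :
    diagEntries k t (Fin.castSucc i) = ((t i : Fˣ) : F) := by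
  unfold diagEntries
  rw [Fin.snoc_castSucc]

theorem diagEntries_last (k : ℕ) (t : Fin k → Fˣ) :
    diagEntries k t (Fin.last k) = (((∏ i, t i)⁻¹ : Fˣ) : F) := by
  unfold diagEntries
  rw [Fin.snoc_last]

theorem prod_diagEntries (k : ℕ) (t : Fin k → Fˣ) : ∏ i, diagEntries k t i = 1 := by
  rw [Fin.prod_univ_castSucc]
  simp only [diagEntries_castSucc, diagEntries_last]
  rw [← Units.coe_prod, ← Units.val_mul, mul_inv_cancel, Units.val_one]

theorem diagEntries_one (k : ℕ) : diagEntries (F := F) k 1 = 1 := by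
  funext i
  refine Fin.lastCases ?_ (fun i => ?_) i
  · rw [diagEntries_last]
    simp
  · rw [diagEntries_castSucc]
    simp

theorem diagEntries_mul (k : ℕ) (t t' : Fin k → Fˣ) :
    diagEntries k (t * t') = fun i => diagEntries k t i * diagEntries k t' i := by
  funext i
  refine Fin.lastCases ?_ (fun i => ?_) i
  · simp only [diagEntries_last]
    rw [← Units.val_mul]
    congr 1
    simp only [Pi.mul_apply]
    rw [Finset.prod_mul_distrib, mul_inv]
  · simp only [diagEntries_castSucc]
    rw [Pi.mul_apply, Units.val_mul]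

/-- The diagonal torus of `SL_{k+1}`. -/
def diagTorusSL (k : ℕ) : (Fin k → Fˣ) →* Matrix.SpecialLinearGroup (Fin (k + 1)) F where
  toFun t := ⟨Matrix.diagonal (diagEntries k t), by rw [Matrix.det_diagonal, prod_diagEntries]⟩
  map_one' := by
    apply Subtype.ext
    show Matrix.diagonal (diagEntries k 1) = 1
    rw [diagEntries_one]
    exact Matrix.diagonal_one
  map_mul' t t' := by
    apply Subtype.ext
    show Matrix.diagonal (diagEntries k (t * t')) =
      Matrix.diagonal (diagEntries k t) * Matrix.diagonal (diagEntries k t')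
    rw [Matrix.diagonal_mul_diagonal, diagEntries_mul]

theorem diagTorusSL_injective (k : ℕ) : Function.Injective (diagTorusSL (F := F) k) := by
  intro t t' h
  funext i
  have h1 : Matrix.diagonal (diagEntries k t) = Matrix.diagonal (diagEntries k t') :=
    congrArg Subtype.val h
  have h2 := congrFun (Matrix.diagonal_injective h1) (Fin.castSucc i)
  rw [diagEntries_castSucc, diagEntries_castSucc] at h2
  exact Units.ext h2

/-- For `t ∣ q - 1`, `SL_{k+1}(q)` has a subgroup isomorphic to `(Z/t)^k`. -/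
theorem exists_homocyclic_subgroup_SL_diag [Fintype F] (k t : ℕ) (ht : t ∣ Fintype.card F - 1) :
    ∃ H : Subgroup (Matrix.SpecialLinearGroup (Fin (k + 1)) F),
      Nonempty (H ≃* (Fin k → Multiplicative (ZMod t))) := by
  classical
  have hcardu : Nat.card Fˣ = Fintype.card F - 1 := by
    rw [Nat.card_eq_fintype_card, Fintype.card_units]
  obtain ⟨g₀, hg₀⟩ := IsCyclic.exists_ofOrder_eq_natCard (α := Fˣ)
  rw [hcardu] at hg₀
  have hpos : 0 < Fintype.card F - 1 := by
    have : 1 < Fintype.card F := Fintype.one_lt_card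
    omega
  obtain ⟨c, hc⟩ := ht
  have hc0 : c ≠ 0 := by
    rintro rfl
    rw [mul_zero] at hc
    omega
  obtain ⟨g, hg⟩ : ∃ g : Fˣ, orderOf g = t := by
    refine ⟨g₀ ^ c, ?_⟩
    rw [orderOf_pow_of_dvd hc0 (by rw [hg₀, hc]; exact dvd_mul_left c t), hg₀, hc,
      Nat.mul_div_cancel _ (Nat.pos_of_ne_zero hc0)]
  let incl : (Fin k → Subgroup.zpowers g) →* (Fin k → Fˣ) :=
    { toFun := fun c i => (c i : Fˣ)
      map_one' := rfl
      map_mul' := fun _ _ => rfl }
  have hincl : Function.Injective incl := by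
    intro a b h
    funext i
    exact Subtype.ext (congrFun h i)
  have hΦ : Function.Injective ((diagTorusSL (F := F) k).comp incl) :=
    (diagTorusSL_injective k).comp hincl
  have hcard : Nat.card (Subgroup.zpowers g) = Nat.card (Multiplicative (ZMod t)) := by
    rw [Nat.card_zpowers, hg, Nat.card_congr Multiplicative.toAdd, Nat.card_zmod]
  exact ⟨((diagTorusSL (F := F) k).comp incl).range, ⟨(MonoidHom.ofInjective hΦ).symm.trans
    (MulEquiv.piCongrRight (fun _ => mulEquivOfCyclicCardEq hcard))⟩⟩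

end

end Cfsg.Agent.Helper12
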