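import Mathlib
import Cfsg.Agent.Lib.Helper12.SLDiag

/-!
# Elements of order `r * p` in `PSL_n(q)` when `r ∣ q - 1`: a diagonal element times a transvection
-/

set_option autoImplicit false
open Module
namespace Cfsg.Agent.Helper12
namespace PSLAdj

variable {F : Type*} [Field F]

/-- the torus parameter `(l, l, 1, …, 1)` -/
def tPar (m : ℕ) (l : Fˣ) : Fin (m + 2) → Fˣ := fun i => if (i : ℕ) ≤ 1 then l else 1

theorem prod_tPar (m : ℕ) (l : Fˣ) : ∏ i, tPar m l i = l ^ 2 := by
  rw [Fin.prod_univ_succ, Fin.prod_univ_succ]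
  have h : ∀ i : Fin m, tPar m l i.succ.succ = 1 := by
    intro i
    unfold tPar
    rw [if_neg]
    simp
  simp only [h, Finset.prod_const_one, mul_one]
  unfold tPar
  simp [pow_two]

theorem tPar_pow (m : ℕ) (l : Fˣ) (j : ℕ) : (tPar m l) ^ j = tPar m (l ^ j) := by
  funext i
  unfold tPar
  rw [Pi.pow_apply]
  split_ifs <;> simp

theorem tPar_one (m : ℕ) : tPar (F := F) m 1 = 1 := by
  funext i
  unfold tPar
  simp

/-- the diagonal element `diag(l, l, 1, …, 1, l⁻²)` -/
def dSL (m : ℕ) (l : Fˣ) : Matrix.SpecialLinearGroup (Fin (m + 3)) F := diagTorusSL (m + 2) (tPar m l)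

theorem dSL_pow (m : ℕ) (l : Fˣ) (j : ℕ) : dSL m l ^ j = dSL m (l ^ j) := by
  unfold dSL
  rw [← map_pow, tPar_pow]

theorem dSL_one (m : ℕ) : dSL (F := F) m 1 = 1 := by
  unfold dSL
  rw [tPar_one, map_one]

theorem dSL_coe (m : ℕ) (l : Fˣ) :
    (dSL m l : Matrix (Fin (m + 3)) (Fin (m + 3)) F) =
      Matrix.diagonal (diagEntries (m + 2) (tPar m l)) := rfl

theorem dEntry_zero (m : ℕ) (l : Fˣ) : diagEntries (m + 2) (tPar m l) 0 = (l : F) := by
  have h : (0 : Fin (m + 3)) = Fin.castSucc (0 : Fin (m + 2)) := rfl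
  rw [h, diagEntries_castSucc]
  unfold tPar
  simp

theorem dEntry_one (m : ℕ) (l : Fˣ) : diagEntries (m + 2) (tPar m l) 1 = (l : F) := by
  have h : (1 : Fin (m + 3)) = Fin.castSucc (1 : Fin (m + 2)) := rfl
  rw [h, diagEntries_castSucc]
  unfold tPar
  simp

theorem dEntry_last (m : ℕ) (l : Fˣ) :
    diagEntries (m + 2) (tPar m l) (Fin.last (m + 2)) = ((l ^ 2)⁻¹ : Fˣ) := by
  rw [diagEntries_last, prod_tPar]

theorem dEntry_two (m : ℕ) (l : Fˣ) :
    diagEntries (m + 3) (tPar (m + 1) l) (Fin.castSucc 2) = 1 := by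
  rw [diagEntries_castSucc]
  unfold tPar
  have h : ((2 : Fin (m + 1 + 2)) : ℕ) = 2 := Fin.val_two
  rw [if_neg (by rw [h]; norm_num), Units.val_one]

/-- the transvection `1 + E₀₁` -/
def uSL (m : ℕ) : Matrix.SpecialLinearGroup (Fin (m + 3)) F :=
  ⟨Matrix.transvection 0 1 1, Matrix.det_transvection_of_ne _ _ Fin.zero_ne_one _⟩

theorem uSL_pow (m j : ℕ) :
    ((uSL (F := F) m ^ j : Matrix.SpecialLinearGroup (Fin (m + 3)) F) :
      Matrix (Fin (m + 3)) (Fin (m + 3)) F) = Matrix.transvection 0 1 (j : F) := by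
  induction j with
  | zero => simp [Matrix.transvection_zero]
  | succ j ih =>
    rw [pow_succ, Matrix.SpecialLinearGroup.coe_mul, ih]
    show Matrix.transvection 0 1 (j : F) * Matrix.transvection 0 1 1 = _
    rw [Matrix.transvection_mul_transvection_same _ _ Fin.zero_ne_one]
    push_cast
    rfl

theorem uSL_pow_char (m : ℕ) (p : ℕ) [CharP F p] : uSL (F := F) m ^ p = 1 := by
  apply Subtype.ext
  rw [uSL_pow, CharP.cast_eq_zero, Matrix.transvection_zero]
  rfl

theorem uSL_not_mem_center (m : ℕ) :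
    uSL (F := F) m ∉ Subgroup.center (Matrix.SpecialLinearGroup (Fin (m + 3)) F) := by
  intro h
  obtain ⟨c, -, hc⟩ := Matrix.SpecialLinearGroup.mem_center_iff.mp h
  have h1 := congrFun (congrFun hc 0) 1
  have h2 : (uSL (F := F) m : Matrix (Fin (m + 3)) (Fin (m + 3)) F) 0 1 = 1 := by
    show Matrix.transvection 0 1 (1 : F) 0 1 = 1
    simp [Matrix.transvection]
  rw [h2, Matrix.scalar_apply, Matrix.diagonal_apply_ne _ Fin.zero_ne_one] at h1
  exact zero_ne_one h1

theorem commute_dSL_uSL (m : ℕ) (l : Fˣ) : Commute (dSL m l) (uSL (F := F) m) := by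
  unfold Commute SemiconjBy
  apply Subtype.ext
  rw [Matrix.SpecialLinearGroup.coe_mul, Matrix.SpecialLinearGroup.coe_mul, dSL_coe]
  show Matrix.diagonal _ * Matrix.transvection 0 1 (1 : F) =
    Matrix.transvection 0 1 (1 : F) * Matrix.diagonal _
  unfold Matrix.transvection
  rw [Matrix.mul_add, Matrix.add_mul, Matrix.mul_one, Matrix.one_mul]
  congr 1
  ext i j
  rw [Matrix.diagonal_mul, Matrix.mul_diagonal, Matrix.single_apply]
  split_ifs with h
  · obtain ⟨rfl, rfl⟩ := h
    rw [dEntry_zero, dEntry_one, mul_one, one_mul]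
  · rw [mul_zero, zero_mul]

/-- a diagonal torus element in the centre has all entries equal -/
theorem diagEntries_eq_of_mem_center (k : ℕ) (t : Fin k → Fˣ)
    (h : diagTorusSL (F := F) k t ∈ Subgroup.center (Matrix.SpecialLinearGroup (Fin (k + 1)) F))
    (i j : Fin (k + 1)) : diagEntries k t i = diagEntries k t j := by
  obtain ⟨c, -, hc⟩ := Matrix.SpecialLinearGroup.mem_center_iff.mp h
  have h1 : Matrix.diagonal (fun _ : Fin (k + 1) => c) = Matrix.diagonal (diagEntries k t) := by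
    rw [← Matrix.scalar_apply]
    exact hc
  have h2 := Matrix.diagonal_injective h1
  rw [← congrFun h2 i, ← congrFun h2 j]

theorem mem_center_of_diagEntries_eq (k : ℕ) (t : Fin k → Fˣ) (c : F)
    (h : ∀ i, diagEntries k t i = c) :
    diagTorusSL (F := F) k t ∈ Subgroup.center (Matrix.SpecialLinearGroup (Fin (k + 1)) F) := by
  rw [Matrix.SpecialLinearGroup.mem_center_iff]
  have h1 : (diagTorusSL (F := F) k t : Matrix (Fin (k + 1)) (Fin (k + 1)) F) =
      Matrix.scalar (Fin (k + 1)) c := by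
    show Matrix.diagonal (diagEntries k t) = _
    rw [Matrix.scalar_apply]
    congr 1
    funext i
    exact h i
  refine ⟨c, ?_, h1.symm⟩
  have h2 : (Matrix.scalar (Fin (k + 1)) c).det = 1 := by
    rw [← h1]
    exact (diagTorusSL (F := F) k t).2
  rw [Matrix.scalar_apply, Matrix.det_diagonal, Finset.prod_const, Finset.card_univ] at h2
  exact h2

theorem orderOf_mk_eq_prime {G : Type*} [Group G] (Z : Subgroup G) [Z.Normal] {s : ℕ}
    [Fact s.Prime] (g : G) (h1 : g ^ s ∈ Z) (h2 : g ∉ Z) : orderOf (g : G ⧸ Z) = s := by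
  apply orderOf_eq_prime
  · rw [← QuotientGroup.mk_pow]
    exact (QuotientGroup.eq_one_iff _).mpr h1
  · intro h
    exact h2 ((QuotientGroup.eq_one_iff g).mp h)

theorem cube_eq_one_of_mem_center (m : ℕ) (l : Fˣ)
    (h : dSL m l ∈ Subgroup.center (Matrix.SpecialLinearGroup (Fin (m + 3)) F)) : l ^ 3 = 1 := by
  have h1 := diagEntries_eq_of_mem_center (m + 2) (tPar m l) h 0 (Fin.last (m + 2))
  rw [dEntry_zero, dEntry_last] at h1
  have h2 : l = (l ^ 2)⁻¹ := Units.ext h1
  calc l ^ 3 = l * l ^ 2 := by rw [pow_succ' l 2]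
    _ = (l ^ 2)⁻¹ * l ^ 2 := by rw [← h2]
    _ = 1 := inv_mul_cancel _

theorem eq_one_of_mem_center (m : ℕ) (l : Fˣ)
    (h : dSL (m + 1) l ∈ Subgroup.center (Matrix.SpecialLinearGroup (Fin (m + 1 + 3)) F)) :
    l = 1 := by
  have h1 := diagEntries_eq_of_mem_center (m + 1 + 2) (tPar (m + 1) l) h 0 (Fin.castSucc 2)
  rw [dEntry_zero, dEntry_two] at h1
  exact Units.ext h1

variable [Fintype F]

theorem exists_unit_orderOf {t : ℕ} (ht : t ∣ Fintype.card F - 1) : ∃ l : Fˣ, orderOf l = t := by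
  classical
  have hcardu : Nat.card Fˣ = Fintype.card F - 1 := by
    rw [Nat.card_eq_fintype_card, Fintype.card_units]
  obtain ⟨g₀, hg₀⟩ := IsCyclic.exists_ofOrder_eq_natCard (α := Fˣ)
  rw [hcardu] at hg₀
  have hpos : 0 < Fintype.card F - 1 := by
    have : 1 < Fintype.card F := Fintype.one_lt_card
    omega
  obtain ⟨c, hc⟩ := ht
  have hc0 : c ≠ 0 := by
    rintro rfl
    rw [mul_zero] at hc
    omega
  refine ⟨g₀ ^ c, ?_⟩
  rw [orderOf_pow_of_dvd hc0 (by rw [hg₀, hc]; exact dvd_mul_left c t), hg₀, hc,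
    Nat.mul_div_cancel _ (Nat.pos_of_ne_zero hc0)]

/-- The case `ord_r(q) = 1`: `r ∣ q - 1`, `n ≥ 3`, outside the exceptional case. -/
theorem exists_elt_of_dvd_sub_one (p : ℕ) [Fact p.Prime] [CharP F p] {n : ℕ} (hn : 3 ≤ n) {r : ℕ}
    (hr : r.Prime) (hrp : r ≠ p) (hr1 : r ∣ Fintype.card F - 1)
    (hexc : ¬ (n = 3 ∧ r = 3 ∧ ¬ 9 ∣ Fintype.card F - 1)) :
    ∃ y : Matrix.ProjectiveSpecialLinearGroup (Fin n) F, orderOf y = r * p := by
  classical
  have hp : p.Prime := Fact.out
  haveI : Fact r.Prime := ⟨hr⟩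
  obtain ⟨m, rfl⟩ : ∃ m, n = m + 3 := ⟨n - 3, by omega⟩
  -- the semisimple part
  obtain ⟨l, hl1, hl2⟩ : ∃ l : Fˣ,
      dSL m l ^ r ∈ Subgroup.center (Matrix.SpecialLinearGroup (Fin (m + 3)) F) ∧
      dSL m l ∉ Subgroup.center (Matrix.SpecialLinearGroup (Fin (m + 3)) F) := by
    by_cases hcase : m = 0 ∧ r = 3
    · obtain ⟨rfl, rfl⟩ := hcase
      have h9 : 9 ∣ Fintype.card F - 1 := by
        by_contra h
        exact hexc ⟨rfl, rfl, h⟩
      obtain ⟨l, hl⟩ := exists_unit_orderOf (F := F) h9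
      have hl9 : l ^ 9 = 1 := by rw [← hl]; exact pow_orderOf_eq_one l
      refine ⟨l, ?_, ?_⟩
      · rw [dSL_pow]
        apply mem_center_of_diagEntries_eq (0 + 2) (tPar 0 (l ^ 3)) ((l ^ 3 : Fˣ) : F)
        intro i
        fin_cases i
        · exact dEntry_zero 0 (l ^ 3)
        · exact dEntry_one 0 (l ^ 3)
        · have h1 := dEntry_last (F := F) 0 (l ^ 3)
          have h2 : ((l ^ 3) ^ 2)⁻¹ = l ^ 3 := by
            rw [inv_eq_iff_eq_inv, eq_inv_iff_mul_eq_one, ← pow_mul, ← pow_add]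
            exact hl9
          rw [h2] at h1
          exact h1
      · intro h
        have h3 := cube_eq_one_of_mem_center 0 l h
        have h4 := orderOf_dvd_of_pow_eq_one h3
        rw [hl] at h4
        omega
    · obtain ⟨l, hl⟩ := exists_unit_orderOf (F := F) hr1
      have hlr : l ^ r = 1 := by rw [← hl]; exact pow_orderOf_eq_one l
      refine ⟨l, ?_, ?_⟩
      · rw [dSL_pow, hlr, dSL_one]
        exact Subgroup.one_mem _
      · intro h
        rcases Nat.eq_zero_or_pos m with hm | hm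
        · have h3 := cube_eq_one_of_mem_center m l h
          have h4 := orderOf_dvd_of_pow_eq_one h3
          rw [hl] at h4
          have h5 := (Nat.prime_dvd_prime_iff_eq hr Nat.prime_three).mp h4
          exact hcase ⟨hm, h5⟩
        · obtain ⟨m', rfl⟩ : ∃ m', m = m' + 1 := ⟨m - 1, by omega⟩
          have h3 := eq_one_of_mem_center m' l h
          rw [h3, orderOf_one] at hl
          exact hr.one_lt.ne hl
  -- the unipotent part
  have hu1 : uSL (F := F) m ^ p ∈ Subgroup.center (Matrix.SpecialLinearGroup (Fin (m + 3)) F) := by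
    rw [uSL_pow_char m p]
    exact Subgroup.one_mem _
  have ha := orderOf_mk_eq_prime (Subgroup.center (Matrix.SpecialLinearGroup (Fin (m + 3)) F))
    (dSL m l) hl1 hl2
  have hb := orderOf_mk_eq_prime (Subgroup.center (Matrix.SpecialLinearGroup (Fin (m + 3)) F))
    (uSL (F := F) m) hu1 (uSL_not_mem_center m)
  have hcomm : Commute
      ((dSL m l : Matrix.SpecialLinearGroup (Fin (m + 3)) F) :
        Matrix.ProjectiveSpecialLinearGroup (Fin (m + 3)) F)
      ((uSL (F := F) m : Matrix.SpecialLinearGroup (Fin (m + 3)) F) :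
        Matrix.ProjectiveSpecialLinearGroup (Fin (m + 3)) F) := by
    have := (commute_dSL_uSL m l).map
      (QuotientGroup.mk' (Subgroup.center (Matrix.SpecialLinearGroup (Fin (m + 3)) F)))
    exact this
  refine ⟨_, (hcomm.orderOf_mul_eq_mul_orderOf_of_coprime ?_).trans ?_⟩
  · rw [ha, hb]
    exact (Nat.coprime_primes hr hp).mpr hrp
  · rw [ha, hb]

end PSLAdj
end Cfsg.Agent.Helper12
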