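import Mathlib

/-!
# Linear algebra for the exceptional case `n = 3 = r` of the prime graph of `PSL_n(q)`

An element `X` of `SL_3(F)` with `X^3` scalar commuting with a nonzero nilpotent endomorphism is
scalar, provided `F` has no element of order `9`.
-/

set_option autoImplicit false

open Module

namespace Cfsg.Agent.Helper12
namespace PSLAdj

variable {F : Type*} [Field F] {V : Type*} [AddCommGroup V] [Module F V]

/-- An endomorphism of a one-dimensional space is a scalar. -/
theorem exists_eq_smul_of_finrank_eq_one (h1 : finrank F V = 1) (f : Module.End F V) :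
    ∃ c : F, f = c • (1 : Module.End F V) := by
  obtain ⟨e, -, he⟩ := finrank_eq_one_iff'.mp h1
  obtain ⟨c, hc⟩ := he (f e)
  refine ⟨c, ?_⟩
  ext x
  obtain ⟨a, rfl⟩ := he x
  rw [map_smul, ← hc, LinearMap.smul_apply, Module.End.one_apply, smul_comm]

/-- An invariant line gives an eigenvector. -/
theorem exists_eigenvector_of_line (X : Module.End F V) (ℓ : Submodule F V)
    (hℓ : finrank F ℓ = 1) (hX : ∀ w ∈ ℓ, X w ∈ ℓ) : ∃ w : V, w ≠ 0 ∧ ∃ c : F, X w = c • w := by
  obtain ⟨e, he0, he⟩ := finrank_eq_one_iff'.mp hℓ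
  refine ⟨e.1, fun h => he0 (Subtype.ext h), ?_⟩
  obtain ⟨c, hc⟩ := he ⟨X e.1, hX e.1 e.2⟩
  exact ⟨c, (congrArg Subtype.val hc).symm⟩

theorem ker_ne_bot_of_nilpotent [Nontrivial V] (N : Module.End F V) {m : ℕ} (hN : N ^ m = 0) :
    LinearMap.ker N ≠ ⊥ := by
  intro h
  have hinj : Function.Injective N := LinearMap.ker_eq_bot.mp h
  have hinj' : Function.Injective (N ^ m) := by
    rw [Module.End.coe_pow]
    exact hinj.iterate m
  obtain ⟨v, hv⟩ := exists_ne (0 : V)
  apply hv
  apply hinj'
  rw [hN, map_zero]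
  rfl

/-- A nilpotent endomorphism has no nonzero eigenvalue-eigenvector pair. -/
theorem eq_zero_of_nilpotent_eigen (N : Module.End F V) {m : ℕ} (hN : N ^ m = 0) {u : V} {a : F}
    (hu : u ≠ 0) (h : N u = a • u) : a = 0 := by
  have h1 : ∀ j : ℕ, (N ^ j) u = a ^ j • u := by
    intro j
    induction j with
    | zero => simp
    | succ j ih =>
      rw [pow_succ', Module.End.mul_apply, ih, map_smul, h, smul_smul, pow_succ]
  have h2 := h1 m
  rw [hN, LinearMap.zero_apply] at h2
  have h3 := (smul_eq_zero.mp h2.symm).resolve_right hu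
  exact pow_eq_zero_iff (M₀ := F) (n := m) (by
    rintro rfl
    rw [pow_zero] at h3
    exact one_ne_zero h3) |>.mp h3

variable [FiniteDimensional F V]

/-- Step 1: the scalar `X^3` is `1`. -/
theorem cube_scalar_eq_one (hdim : finrank F V = 3) (X N : Module.End F V) (hXN : Commute X N)
    {m : ℕ} (hN : N ^ m = 0) (hN0 : N ≠ 0) (hdet : LinearMap.det X = 1) (z : F)
    (hX3 : X ^ 3 = z • (1 : Module.End F V)) (h9 : ∀ c : F, c ^ 9 = 1 → c ^ 3 = 1) : z = 1 := by
  haveI : Nontrivial V := Module.nontrivial_of_finrank_pos (R := F) (by omega)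
  have hz3 : z ^ 3 = 1 := by
    have h1 := congrArg LinearMap.det hX3
    rw [map_pow, hdet, one_pow, LinearMap.det_smul, hdim, map_one, mul_one] at h1
    exact h1.symm
  have hker : LinearMap.ker N ≠ ⊥ := ker_ne_bot_of_nilpotent N hN
  have hrange : LinearMap.range N ≠ ⊥ := by
    rw [Ne, LinearMap.range_eq_bot]
    exact hN0
  have hsum := LinearMap.finrank_range_add_finrank_ker N
  rw [hdim] at hsum
  have hk1 : 1 ≤ finrank F (LinearMap.ker N) := by
    rw [Nat.one_le_iff_ne_zero, Ne, Submodule.finrank_eq_zero]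
    exact hker
  have hr1 : 1 ≤ finrank F (LinearMap.range N) := by
    rw [Nat.one_le_iff_ne_zero, Ne, Submodule.finrank_eq_zero]
    exact hrange
  have hline : ∃ ℓ : Submodule F V, finrank F ℓ = 1 ∧ ∀ w ∈ ℓ, X w ∈ ℓ := by
    by_cases hk : finrank F (LinearMap.ker N) = 1
    · refine ⟨LinearMap.ker N, hk, ?_⟩
      intro w hw
      rw [LinearMap.mem_ker] at hw ⊢
      have h1 : N (X w) = X (N w) := by
        rw [← Module.End.mul_apply, ← Module.End.mul_apply, hXN.eq]
      rw [h1, hw, map_zero]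
    · refine ⟨LinearMap.range N, by omega, ?_⟩
      rintro w ⟨v, rfl⟩
      refine ⟨X v, ?_⟩
      rw [← Module.End.mul_apply, ← Module.End.mul_apply, hXN.eq]
  obtain ⟨ℓ, hℓ1, hℓX⟩ := hline
  obtain ⟨w, hw0, c, hc⟩ := exists_eigenvector_of_line X ℓ hℓ1 hℓX
  have h3 : (X ^ 3) w = c ^ 3 • w := by
    rw [pow_succ, pow_succ, pow_one, Module.End.mul_apply, Module.End.mul_apply, hc, map_smul, hc,
      map_smul, map_smul, hc, smul_smul, smul_smul]
    congr 1
    ring
  rw [hX3, LinearMap.smul_apply, Module.End.one_apply] at h3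
  have h4 : (z - c ^ 3) • w = 0 := by rw [sub_smul, h3, sub_self]
  have h5 : z = c ^ 3 := sub_eq_zero.mp ((smul_eq_zero.mp h4).resolve_right hw0)
  have h6 : c ^ 9 = 1 := by
    have : c ^ 9 = (c ^ 3) ^ 3 := by ring
    rw [this, ← h5, hz3]
  rw [h5, h9 c h6]

omit [FiniteDimensional F V] in
theorem eigen_of_cube (X : Module.End F V) (hX3 : X ^ 3 = 1) (c : F) (hc : c ^ 3 = 1) (v : V) :
    X (v + c ^ 2 • X v + c • X (X v)) = c • (v + c ^ 2 • X v + c • X (X v)) := by
  have h3 : X (X (X v)) = v := by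
    have := congrArg (fun f : Module.End F V => f v) hX3
    simpa [pow_succ, Module.End.mul_apply] using this
  rw [map_add, map_add, map_smul, map_smul, h3, smul_add, smul_add, smul_smul, smul_smul]
  have h1 : c * c ^ 2 = 1 := by rw [← hc]; ring
  rw [h1, one_smul, ← pow_two]
  abel

/-- If `Y^3 = 1`, `det Y = 1` and `Y` fixes a plane pointwise in dimension `3`, then `Y = 1`. -/
theorem eq_one_of_fix_plane (hdim : finrank F V = 3) (h3 : (3 : F) ≠ 0) (Y : Module.End F V)
    (hdet : LinearMap.det Y = 1) (hY3 : Y ^ 3 = 1)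
    (hW : 2 ≤ finrank F (LinearMap.ker (Y - 1))) : Y = 1 := by
  obtain ⟨W, hWdef⟩ : ∃ W, W = LinearMap.ker (Y - 1) := ⟨_, rfl⟩
  rw [← hWdef] at hW
  have hWmem : ∀ w, w ∈ W ↔ Y w = w := by
    intro w
    rw [hWdef, LinearMap.mem_ker, LinearMap.sub_apply, Module.End.one_apply, sub_eq_zero]
  have hYW : W ≤ W.comap Y := by
    intro w hw
    rw [Submodule.mem_comap, hWmem, (hWmem w).mp hw]
    exact (hWmem w).mp hw
  have hd := LinearMap.det_eq_det_mul_det W Y hYW
  have hres : Y.restrict hYW = 1 := by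
    ext w
    show Y w.1 = w.1
    exact (hWmem w.1).mp w.2
  rw [hdet, hres, map_one, one_mul] at hd
  have hq := Submodule.finrank_quotient_add_finrank W
  rw [hdim] at hq
  -- the square of `Y - 1` vanishes
  have hsq : ∀ v, Y v - v ∈ W := by
    intro v
    by_cases h0 : finrank F (V ⧸ W) = 0
    · have hle : finrank F W ≤ finrank F V := Submodule.finrank_le W
      have : W = ⊤ := Submodule.eq_top_of_finrank_eq (by omega)
      rw [this]
      trivial
    · have h1 : finrank F (V ⧸ W) = 1 := by omega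
      obtain ⟨μ, hμ⟩ := exists_eq_smul_of_finrank_eq_one h1 (W.mapQ W Y hYW)
      rw [hμ, LinearMap.det_smul, h1, pow_one, map_one, mul_one] at hd
      rw [← hd, one_smul] at hμ
      have h2 := congrArg (fun f : Module.End F (V ⧸ W) => f (W.mkQ v)) hμ
      simp only [Submodule.mapQ_apply, Submodule.mkQ_apply, Module.End.one_apply] at h2
      rw [← sub_eq_zero, ← Submodule.Quotient.mk_sub, Submodule.Quotient.mk_eq_zero] at h2
      exact h2
  -- conclude
  ext v
  have h1 : Y (Y v - v) = Y v - v := (hWmem _).mp (hsq v)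
  have h2 : Y (Y v) = (2 : F) • Y v - v := by
    rw [map_sub] at h1
    rw [two_smul]
    rw [sub_eq_iff_eq_add] at h1
    rw [h1]
    abel
  have h3' : Y (Y (Y v)) = v := by
    have := congrArg (fun f : Module.End F V => f v) hY3
    simpa [pow_succ, Module.End.mul_apply] using this
  rw [h2, map_sub, map_smul, h2] at h3'
  have h4 : (3 : F) • (Y v - v) = 0 := by
    rw [smul_sub]
    rw [sub_eq_zero]
    calc (3 : F) • Y v = ((2 : F) • ((2 : F) • Y v - v) - Y v) + (2 : F) • v + ((3 : F) • Y v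
          - (2 : F) • ((2 : F) • Y v - v) + Y v - (2 : F) • v) := by abel
      _ = v + (2 : F) • v + ((3 : F) • Y v - (2 : F) • ((2 : F) • Y v - v) + Y v
          - (2 : F) • v) := by rw [h3']
      _ = (3 : F) • v := by module
  rcases smul_eq_zero.mp h4 with h | h
  · exact absurd h h3
  · rw [Module.End.one_apply]
    exact sub_eq_zero.mp h

/-- Step 2: `X^3 = 1`, `det X = 1`, commuting with a nonzero nilpotent, forces `X` scalar. -/
theorem scalar_of_cube_eq_one (hdim : finrank F V = 3) (h3 : (3 : F) ≠ 0) (ω : F)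
    (hω : ω ^ 2 + ω + 1 = 0) (X N : Module.End F V) (hXN : Commute X N) {m : ℕ} (hN : N ^ m = 0)
    (hN0 : N ≠ 0) (hdet : LinearMap.det X = 1) (hX3 : X ^ 3 = 1) :
    ∃ c : F, X = c • (1 : Module.End F V) := by
  have hω3 : ω ^ 3 = 1 := by linear_combination (ω - 1) * hω
  obtain ⟨v, hv⟩ : ∃ v, N v ≠ 0 := by
    by_contra h
    push Not at h
    exact hN0 (LinearMap.ext h)
  obtain ⟨u, hu⟩ : ∃ u : F → V, u = fun c => v + c ^ 2 • X v + c • X (X v) := ⟨_, rfl⟩
  have hsum : u 1 + u ω + u (ω ^ 2) = (3 : F) • v := by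
    rw [hu]
    simp only
    have h4 : (ω ^ 2) ^ 2 = ω := by linear_combination ω * hω3
    rw [h4, one_pow, one_smul, one_smul]
    have e1 : X v + ω ^ 2 • X v + ω • X v = 0 := by
      rw [← one_smul F (X v), smul_smul, smul_smul, ← add_smul, ← add_smul, mul_one, mul_one]
      have : (1 : F) + ω ^ 2 + ω = 0 := by linear_combination hω
      rw [this, zero_smul]
    have e2 : X (X v) + ω • X (X v) + ω ^ 2 • X (X v) = 0 := by
      rw [← one_smul F (X (X v)), smul_smul, smul_smul, ← add_smul, ← add_smul, mul_one, mul_one]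
      have : (1 : F) + ω + ω ^ 2 = 0 := by linear_combination hω
      rw [this, zero_smul]
    calc v + X v + X (X v) + (v + ω ^ 2 • X v + ω • X (X v)) + (v + ω • X v + ω ^ 2 • X (X v))
        = (v + v + v) + (X v + ω ^ 2 • X v + ω • X v) +
          (X (X v) + ω • X (X v) + ω ^ 2 • X (X v)) := by abel
      _ = (3 : F) • v := by
        rw [e1, e2, add_zero, add_zero]
        module
  obtain ⟨c, hc3, hNu⟩ : ∃ c : F, c ^ 3 = 1 ∧ N (u c) ≠ 0 := by
    by_contra hcon
    push Not at hcon
    apply hv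
    have h1 := congrArg N hsum
    rw [map_add, map_add, hcon 1 (one_pow 3), hcon ω hω3,
      hcon (ω ^ 2) (by rw [← pow_mul, mul_comm, pow_mul, hω3, one_pow]), map_smul, add_zero,
      add_zero] at h1
    exact (smul_eq_zero.mp h1.symm).resolve_left h3
  have hXu : X (u c) = c • u c := by
    rw [hu]
    exact eigen_of_cube X hX3 c hc3 v
  have hu0 : u c ≠ 0 := by
    intro h
    rw [h, map_zero] at hNu
    exact hNu rfl
  have hcc : c ^ 2 * c = 1 := by rw [← hc3]; ring
  obtain ⟨Y, hY⟩ : ∃ Y : Module.End F V, Y = c ^ 2 • X := ⟨_, rfl⟩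
  have hYu : Y (u c) = u c := by
    rw [hY, LinearMap.smul_apply, hXu, smul_smul, hcc, one_smul]
  have hYN : Commute Y N := by
    rw [hY]
    exact hXN.smul_left _
  have hYNu : Y (N (u c)) = N (u c) := by
    rw [← Module.End.mul_apply, hYN.eq, Module.End.mul_apply, hYu]
  have hY3 : Y ^ 3 = 1 := by
    rw [hY, smul_pow, hX3, ← pow_mul, mul_comm, pow_mul, hc3, one_pow, one_smul]
  have hYdet : LinearMap.det Y = 1 := by
    rw [hY, LinearMap.det_smul, hdim, hdet, mul_one, ← pow_mul, mul_comm, pow_mul, hc3, one_pow]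
  have hli : LinearIndependent F ![u c, N (u c)] := by
    rw [LinearIndependent.pair_iff' hu0]
    intro a ha
    have ha0 := eq_zero_of_nilpotent_eigen N hN hu0 ha.symm
    rw [ha0, zero_smul] at ha
    exact hNu ha.symm
  have hW : 2 ≤ finrank F (LinearMap.ker (Y - 1)) := by
    have hmem : ∀ i, ![u c, N (u c)] i ∈ LinearMap.ker (Y - 1) := by
      intro i
      fin_cases i
      · show u c ∈ _
        rw [LinearMap.mem_ker, LinearMap.sub_apply, Module.End.one_apply, hYu, sub_self]
      · show N (u c) ∈ _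
        rw [LinearMap.mem_ker, LinearMap.sub_apply, Module.End.one_apply, hYNu, sub_self]
    have hli' : LinearIndependent F
        (fun i => (⟨![u c, N (u c)] i, hmem i⟩ : LinearMap.ker (Y - 1))) := by
      apply LinearIndependent.of_comp (LinearMap.ker (Y - 1)).subtype
      exact hli
    have := hli'.fintype_card_le_finrank
    simpa using this
  have hY1 := eq_one_of_fix_plane hdim h3 Y hYdet hY3 hW
  refine ⟨c, ?_⟩
  have h5 : c • Y = X := by
    rw [hY, smul_smul, mul_comm, hcc, one_smul]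
  rw [← h5, hY1]

/-- **The exceptional case**: in dimension `3`, an endomorphism of determinant `1` whose cube is
scalar and which commutes with a nonzero nilpotent endomorphism is scalar, if `F` has a primitive
cube root of unity but no element of order `9`. -/
theorem scalar_of_cube_scalar (hdim : finrank F V = 3) (h3 : (3 : F) ≠ 0) (ω : F)
    (hω : ω ^ 2 + ω + 1 = 0) (h9 : ∀ c : F, c ^ 9 = 1 → c ^ 3 = 1)
    (X N : Module.End F V) (hXN : Commute X N) {m : ℕ} (hN : N ^ m = 0)
    (hN0 : N ≠ 0) (hdet : LinearMap.det X = 1) (z : F) (hX3 : X ^ 3 = z • (1 : Module.End F V)) :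
    ∃ c : F, X = c • (1 : Module.End F V) := by
  have hz := cube_scalar_eq_one hdim X N hXN hN hN0 hdet z hX3 h9
  rw [hz, one_smul] at hX3
  exact scalar_of_cube_eq_one hdim h3 ω hω X N hXN hN hN0 hdet hX3

end PSLAdj
end Cfsg.Agent.Helper12
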