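import Mathlib
import Cfsg.Agent.Lib.Helper12.AlgUnitsEmbed
import Cfsg.Agent.Lib.Helper12.CentralLift
import Cfsg.Agent.Lib.Helper2.CardSL

/-!
# Element orders in `PSL_n(q)` from elements of `GL_n(q)` of order prime to `q - 1`,
and elements of prescribed order in extension fields
-/

set_option autoImplicit false

namespace Cfsg.Agent.Helper12

open Module

section

variable {F : Type*} [Field F] [Fintype F]

/-- central elements of `SL_n(F)` are killed by `q - 1` -/
theorem center_pow_card_sub_one {n : ℕ} (hn : 1 ≤ n)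
    (c : Matrix.SpecialLinearGroup (Fin n) F)
    (hc : c ∈ Subgroup.center (Matrix.SpecialLinearGroup (Fin n) F)) :
    c ^ (Fintype.card F - 1) = 1 := by
  rw [Matrix.SpecialLinearGroup.mem_center_iff] at hc
  obtain ⟨ζ, hζ, hc⟩ := hc
  have hζ0 : ζ ≠ 0 := by
    rintro rfl
    rw [Fintype.card_fin, zero_pow (by omega)] at hζ
    exact zero_ne_one hζ
  apply Subtype.ext
  rw [Matrix.SpecialLinearGroup.coe_pow, ← hc, ← map_pow, FiniteField.pow_card_sub_one_eq_one ζ hζ0,
    map_one]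
  rfl

/-- An element of `GL_n(q)` of order `N` prime to `q - 1` gives an element of order `N` of
`PSL_n(q)`. -/
theorem exists_orderOf_PSL_of_GL {n : ℕ} (hn : 1 ≤ n) {N : ℕ}
    (hN : Nat.Coprime N (Fintype.card F - 1)) (g : GL (Fin n) F) (hg : orderOf g = N) :
    ∃ y : Matrix.ProjectiveSpecialLinearGroup (Fin n) F, orderOf y = N := by
  classical
  have hdet : Matrix.GeneralLinearGroup.det g = 1 := by
    have h1 : (Matrix.GeneralLinearGroup.det g) ^ N = 1 := by
      rw [← map_pow, ← hg, pow_orderOf_eq_one, map_one]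
    have h2 : (Matrix.GeneralLinearGroup.det g) ^ (Fintype.card F - 1) = 1 := by
      rw [← Fintype.card_units]
      exact pow_card_eq_one
    have h3 : orderOf (Matrix.GeneralLinearGroup.det g) ∣ Nat.gcd N (Fintype.card F - 1) :=
      Nat.dvd_gcd (orderOf_dvd_of_pow_eq_one h1) (orderOf_dvd_of_pow_eq_one h2)
    rw [hN, Nat.dvd_one, orderOf_eq_one_iff] at h3
    exact h3
  have hdet' : (g : Matrix (Fin n) (Fin n) F).det = 1 := by
    have := congrArg Units.val hdet
    simpa using this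
  obtain ⟨x, hx⟩ : ∃ x : Matrix.SpecialLinearGroup (Fin n) F,
      Matrix.SpecialLinearGroup.toGL x = g := ⟨⟨g.1, hdet'⟩, Units.ext rfl⟩
  have hox : orderOf x = N := by
    rw [← orderOf_injective _ Matrix.SpecialLinearGroup.toGL_injective x, hx, hg]
  refine ⟨(x : Matrix.ProjectiveSpecialLinearGroup (Fin n) F), ?_⟩
  apply Nat.dvd_antisymm
  · apply orderOf_dvd_of_pow_eq_one
    rw [← QuotientGroup.mk_pow, ← hox, pow_orderOf_eq_one]
    rfl
  · obtain ⟨t, ht⟩ : ∃ t, t = orderOf (x : Matrix.ProjectiveSpecialLinearGroup (Fin n) F) :=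
      ⟨_, rfl⟩
    rw [← ht]
    have h1 : x ^ t ∈ Subgroup.center (Matrix.SpecialLinearGroup (Fin n) F) := by
      rw [← QuotientGroup.eq_one_iff, QuotientGroup.mk_pow, ht, pow_orderOf_eq_one]
    have h2 := center_pow_card_sub_one hn _ h1
    rw [← pow_mul] at h2
    have h3 : N ∣ t * (Fintype.card F - 1) := by
      rw [← hox]
      exact orderOf_dvd_of_pow_eq_one h2
    exact hN.dvd_of_dvd_mul_right h3

/-- Units of prescribed order in the degree-`d` extension. -/
theorem exists_orderOf_units_extension (p : ℕ) [Fact p.Prime] [CharP F p] (d : ℕ) [NeZero d]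
    {t : ℕ} (ht : t ∣ Fintype.card F ^ d - 1) :
    ∃ z : (FiniteField.Extension F p d)ˣ, orderOf z = t := by
  have hcard : Nat.card (FiniteField.Extension F p d)ˣ = Fintype.card F ^ d - 1 := by
    rw [Nat.card_units, FiniteField.natCard_extension, Nat.card_eq_fintype_card]
  obtain ⟨g, hg⟩ := IsCyclic.exists_ofOrder_eq_natCard (α := (FiniteField.Extension F p d)ˣ)
  rw [hcard] at hg
  have hpos : 0 < Fintype.card F ^ d - 1 := by
    have h1 : 1 < Fintype.card F := Fintype.one_lt_card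
    have h2 : 1 < Fintype.card F ^ d := Nat.one_lt_pow (NeZero.ne d) h1
    omega
  obtain ⟨c, hc⟩ := ht
  have hc0 : c ≠ 0 := by
    rintro rfl
    rw [mul_zero] at hc
    omega
  have ht0 : t ≠ 0 := by
    rintro rfl
    rw [zero_mul] at hc
    omega
  refine ⟨g ^ c, ?_⟩
  rw [orderOf_pow_of_dvd hc0 (by rw [hg, hc]; exact dvd_mul_left c t), hg, hc,
    Nat.mul_div_cancel _ (Nat.pos_of_ne_zero hc0)]

theorem pow_sub_pow_eq_mul (q d i : ℕ) (hi : i ≤ d) :
    q ^ d - q ^ i = q ^ i * (q ^ (d - i) - 1) := by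
  rw [Nat.mul_sub, mul_one, ← pow_add]
  congr 2
  omega

omit [Field F] [Fintype F] in
/-- `r ∣ q ^ ord_r(q) - 1`. -/
theorem dvd_pow_orderOf_sub_one {q r : ℕ} (hq : 1 ≤ q) :
    r ∣ q ^ orderOf ((q : ℕ) : ZMod r) - 1 := by
  rw [← ZMod.natCast_eq_zero_iff, Nat.cast_sub (Nat.one_le_pow _ _ hq), Nat.cast_pow,
    Nat.cast_one, pow_orderOf_eq_one, sub_self]

omit [Field F] [Fintype F] in
theorem orderOf_dvd_of_dvd_pow_sub_one {q r j : ℕ} (hq : 1 ≤ q) (h : r ∣ q ^ j - 1) :
    orderOf ((q : ℕ) : ZMod r) ∣ j := by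
  rw [orderOf_dvd_iff_pow_eq_one]
  rw [← ZMod.natCast_eq_zero_iff, Nat.cast_sub (Nat.one_le_pow _ _ hq), Nat.cast_pow,
    Nat.cast_one, sub_eq_zero] at h
  exact h

omit [Field F] [Fintype F] in
theorem not_dvd_sub_one_of_two_le_orderOf {q r : ℕ} (hq : 1 ≤ q)
    (h2 : 2 ≤ orderOf ((q : ℕ) : ZMod r)) : ¬ r ∣ q - 1 := by
  intro h
  have h0 : r ∣ q ^ 1 - 1 := by rwa [pow_one]
  have h1 := orderOf_dvd_of_dvd_pow_sub_one (r := r) (j := 1) hq h0
  have := Nat.le_of_dvd one_pos h1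
  omega

/-- `|SL_n(q)| (q - 1) = ∏ (q^n - q^i)`. -/
theorem card_SL_mul {n : ℕ} (hn : 1 ≤ n) :
    Nat.card (Matrix.SpecialLinearGroup (Fin n) F) * (Fintype.card F - 1) =
      ∏ i : Fin n, (Fintype.card F ^ n - Fintype.card F ^ (i : ℕ)) := by
  classical
  have : Nonempty (Fin n) := ⟨⟨0, by omega⟩⟩
  rw [← Matrix.card_GL_field, Cfsg.Agent.Helper2.card_GL_eq_card_SL_mul,
    Cfsg.Agent.Helper2.card_units_field]

/-- A prime `r ∤ q` dividing `|PSL_n(q)|` has `ord_r(q) ≤ n`. -/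
theorem orderOf_zmod_le_of_dvd_card_PSL {n : ℕ} (hn : 1 ≤ n) {r : ℕ} (hr : r.Prime)
    (hrq : ¬ r ∣ Fintype.card F)
    (h : r ∣ Nat.card (Matrix.ProjectiveSpecialLinearGroup (Fin n) F)) :
    orderOf ((Fintype.card F : ℕ) : ZMod r) ≤ n := by
  classical
  have hq1 : 1 < Fintype.card F := Fintype.one_lt_card
  have h1 : r ∣ Nat.card (Matrix.SpecialLinearGroup (Fin n) F) :=
    dvd_trans h (Subgroup.card_quotient_dvd_card _)
  have h2 : r ∣ ∏ i : Fin n, (Fintype.card F ^ n - Fintype.card F ^ (i : ℕ)) := by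
    rw [← card_SL_mul hn]
    exact Dvd.dvd.mul_right h1 _
  rw [Prime.dvd_finsetProd_iff hr.prime] at h2
  obtain ⟨i, -, hi⟩ := h2
  rw [pow_sub_pow_eq_mul _ n i (le_of_lt i.2)] at hi
  rcases (Nat.Prime.dvd_mul hr).mp hi with h3 | h3
  · exact absurd (hr.dvd_of_dvd_pow h3) hrq
  · have h4 := orderOf_dvd_of_dvd_pow_sub_one (by omega) h3
    have h5 := Nat.le_of_dvd (by have := i.2; omega) h4
    omega

/-- Commuting elements of `PSL_n(q)` of orders prime to `q - 1` lift to commuting endomorphisms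
of the same orders. -/
theorem exists_commuting_end_of_PSL {n : ℕ} (hn : 1 ≤ n) {r s : ℕ} (hr : 1 < r) (hs : 1 < s)
    (hr1 : Nat.Coprime r (Fintype.card F - 1)) (hs1 : Nat.Coprime s (Fintype.card F - 1))
    (a b : Matrix.ProjectiveSpecialLinearGroup (Fin n) F) (ha : orderOf a = r)
    (hb : orderOf b = s) (hab : Commute a b) :
    ∃ X Y : Module.End F (Fin n → F), Commute X Y ∧ X ^ r = 1 ∧ Y ^ s = 1 ∧ X ≠ 1 ∧ Y ≠ 1 := by
  classical
  have hZ : ∀ c ∈ Subgroup.center (Matrix.SpecialLinearGroup (Fin n) F),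
      c ^ (Fintype.card F - 1) = 1 := fun c hc => center_pow_card_sub_one hn c hc
  obtain ⟨x, hx1, hx2⟩ := exists_lift_pow_eq_one
    (Subgroup.center (Matrix.SpecialLinearGroup (Fin n) F)) hZ hr hr1 a
    (by rw [← ha]; exact pow_orderOf_eq_one a)
  obtain ⟨y, hy1, hy2⟩ := exists_lift_pow_eq_one
    (Subgroup.center (Matrix.SpecialLinearGroup (Fin n) F)) hZ hs hs1 b
    (by rw [← hb]; exact pow_orderOf_eq_one b)
  have hxy : Commute x y := by
    apply commute_of_commute_mk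
      (Subgroup.center (Matrix.SpecialLinearGroup (Fin n) F)) le_rfl hZ hr1 hx2
    rw [hx1, hy1]
    exact hab
  have hx_ne : x ≠ 1 := by
    rintro rfl
    have h1 : a = 1 := by rw [← hx1]; rfl
    rw [h1, orderOf_one] at ha
    omega
  have hy_ne : y ≠ 1 := by
    rintro rfl
    have h1 : b = 1 := by rw [← hy1]; rfl
    rw [h1, orderOf_one] at hb
    omega
  obtain ⟨T, hT⟩ : ∃ T : Matrix (Fin n) (Fin n) F ≃ₐ[F] Module.End F (Fin n → F),
      T = Matrix.toLinAlgEquiv' := ⟨_, rfl⟩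
  refine ⟨T x.1, T y.1, ?_, ?_, ?_, ?_, ?_⟩
  · have h1 : Commute x.1 y.1 := by
      have := hxy.eq
      unfold Commute SemiconjBy
      rw [← Matrix.SpecialLinearGroup.coe_mul, ← Matrix.SpecialLinearGroup.coe_mul, this]
    exact h1.map T
  · rw [← map_pow, ← Matrix.SpecialLinearGroup.coe_pow, hx2, Matrix.SpecialLinearGroup.coe_one,
      map_one]
  · rw [← map_pow, ← Matrix.SpecialLinearGroup.coe_pow, hy2, Matrix.SpecialLinearGroup.coe_one,
      map_one]
  · intro h
    apply hx_ne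
    apply Subtype.ext
    rw [← map_one T] at h
    exact T.injective h
  · intro h
    apply hy_ne
    apply Subtype.ext
    rw [← map_one T] at h
    exact T.injective h

end

end Cfsg.Agent.Helper12
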