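import Mathlib
import Cfsg.Agent.Lib.Helper12.PSLOrder
import Cfsg.Agent.Lib.Helper12.CommUnip
import Cfsg.Agent.Lib.Helper12.PSL2Orders
import Cfsg.Agent.Lib.Helper12.PSLAdjLin

/-!
# Non-adjacency of `r` and `p` in the prime graph of `PSL_n(q)`
-/

set_option autoImplicit false

open Module

namespace Cfsg.Agent.Helper12
namespace PSLAdj

variable {F : Type*} [Field F] [Fintype F]

theorem char_dvd_card (p : ℕ) [Fact p.Prime] [CharP F p] : p ∣ Fintype.card F := by
  obtain ⟨e, -, he⟩ := FiniteField.card F p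
  rw [he]
  exact dvd_pow_self p e.ne_zero

theorem char_coprime_card_sub_one (p : ℕ) [Fact p.Prime] [CharP F p] :
    Nat.Coprime p (Fintype.card F - 1) := by
  have hp : p.Prime := Fact.out
  rw [Nat.Prime.coprime_iff_not_dvd hp]
  intro h
  have h1 := char_dvd_card (F := F) p
  have hq : 1 < Fintype.card F := Fintype.one_lt_card
  have h2 : p ∣ Fintype.card F - (Fintype.card F - 1) := Nat.dvd_sub h1 h
  have h3 : Fintype.card F - (Fintype.card F - 1) = 1 := by omega
  rw [h3, Nat.dvd_one] at h2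
  exact hp.one_lt.ne' h2

theorem not_dvd_card_of_ne (p : ℕ) [Fact p.Prime] [CharP F p] {r : ℕ} (hr : r.Prime) (hrp : r ≠ p) :
    ¬ r ∣ Fintype.card F := by
  have hp : p.Prime := Fact.out
  obtain ⟨e, -, he⟩ := FiniteField.card F p
  rw [he]
  intro h
  exact hrp ((Nat.prime_dvd_prime_iff_eq hr hp).mp (hr.dvd_of_dvd_pow h))

/-- the two commuting powers of an element of order `r * p` -/
theorem orderOf_pow_pair {G : Type*} [Group G] {r p : ℕ} (hr : 0 < r) (hp : 0 < p) (y : G)
    (hy : orderOf y = r * p) : orderOf (y ^ p) = r ∧ orderOf (y ^ r) = p := by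
  constructor
  · rw [orderOf_pow_of_dvd hp.ne' (by rw [hy]; exact dvd_mul_left p r), hy,
      Nat.mul_div_cancel _ hp]
  · rw [orderOf_pow_of_dvd hr.ne' (by rw [hy]; exact dvd_mul_right r p), hy,
      Nat.mul_div_cancel_left _ hr]

/-- General case: `ord_r(q) ≥ n - 1`, `n ≥ 3`. -/
theorem no_elt_general (p : ℕ) [Fact p.Prime] [CharP F p] {n : ℕ} (hn : 3 ≤ n) {r : ℕ}
    (hr : r.Prime) (hrp : r ≠ p)
    (hk : n - 1 ≤ orderOf ((Fintype.card F : ℕ) : ZMod r))
    (y : Matrix.ProjectiveSpecialLinearGroup (Fin n) F) : orderOf y ≠ r * p := by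
  intro hy
  have hp : p.Prime := Fact.out
  haveI : Fact r.Prime := ⟨hr⟩
  obtain ⟨ha, hb⟩ := orderOf_pow_pair hr.pos hp.pos y hy
  have hcomm : Commute (y ^ p) (y ^ r) := (Commute.refl y).pow_pow p r
  have hq1 : 1 ≤ Fintype.card F := Fintype.card_pos
  have hr1 : Nat.Coprime r (Fintype.card F - 1) := by
    rw [Nat.Prime.coprime_iff_not_dvd hr]
    exact not_dvd_sub_one_of_two_le_orderOf hq1 (by omega)
  obtain ⟨X, Y, hXY, hX, hY, hX1, hY1⟩ := exists_commuting_end_of_PSL (by omega) hr.one_lt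
    hp.one_lt hr1 (char_coprime_card_sub_one p) _ _ ha hb hcomm
  exact not_commute_unipotent (not_dvd_card_of_ne p hr hrp) X Y hXY hX hX1 hY hY1
    (by rw [Module.finrank_fin_fun]; exact hn) (by rw [Module.finrank_fin_fun]; exact hk)

/-- The case `n = 2`. -/
theorem no_elt_two (p : ℕ) [Fact p.Prime] [CharP F p] {r : ℕ} (hr : r.Prime)
    (y : Matrix.ProjectiveSpecialLinearGroup (Fin 2) F) : orderOf y ≠ r * p := by
  intro hy
  have hp : p.Prime := Fact.out
  have hq : 1 < Fintype.card F := Fintype.one_lt_card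
  have hpq := char_dvd_card (F := F) p
  rcases psl_orderOf_dvd p y with h | h | h
  · rw [hy] at h
    have h1 : r * p ≤ p := Nat.le_of_dvd hp.pos h
    have h2 : 2 * p ≤ r * p := Nat.mul_le_mul_right p hr.two_le
    have := hp.pos
    omega
  · rw [hy] at h
    have h1 : p ∣ Fintype.card F - 1 :=
      dvd_trans (dvd_trans (dvd_mul_left p r) h) (Nat.div_dvd_of_dvd (Nat.gcd_dvd_right _ _))
    have h2 : p ∣ Fintype.card F - (Fintype.card F - 1) := Nat.dvd_sub hpq h1
    have h3 : Fintype.card F - (Fintype.card F - 1) = 1 := by omega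
    rw [h3, Nat.dvd_one] at h2
    exact hp.one_lt.ne' h2
  · rw [hy] at h
    have hg : Nat.gcd 2 (Fintype.card F - 1) ∣ Fintype.card F + 1 := by
      rw [← gcd_two_add_one_eq _ (by omega)]
      exact Nat.gcd_dvd_right _ _
    have h1 : p ∣ Fintype.card F + 1 :=
      dvd_trans (dvd_trans (dvd_mul_left p r) h) (Nat.div_dvd_of_dvd hg)
    have h2 : p ∣ Fintype.card F + 1 - Fintype.card F := Nat.dvd_sub h1 hpq
    have h3 : Fintype.card F + 1 - Fintype.card F = 1 := by omega
    rw [h3, Nat.dvd_one] at h2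
    exact hp.one_lt.ne' h2

theorem exists_cube_root_unity (h3 : 3 ∣ Fintype.card F - 1) : ∃ ω : F, ω ^ 2 + ω + 1 = 0 := by
  classical
  haveI : Fact (Nat.Prime 3) := ⟨Nat.prime_three⟩
  have hcard : Nat.card Fˣ = Fintype.card F - 1 := by
    rw [Nat.card_eq_fintype_card, Fintype.card_units]
  obtain ⟨x, hx⟩ := exists_prime_orderOf_dvd_card' (G := Fˣ) 3 (by rw [hcard]; exact h3)
  refine ⟨(x : F), ?_⟩
  have h1 : (x : F) ^ 3 = 1 := by
    rw [← Units.val_pow_eq_pow_val, ← hx, pow_orderOf_eq_one, Units.val_one]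
  have h2 : (x : F) ≠ 1 := by
    intro h
    have : x = 1 := Units.ext h
    rw [this, orderOf_one] at hx
    omega
  have h3' : ((x : F) - 1) * ((x : F) ^ 2 + (x : F) + 1) = 0 := by linear_combination h1
  exact (mul_eq_zero.mp h3').resolve_left (sub_ne_zero.mpr h2)

theorem cube_eq_one_of_pow_nine (h9 : ¬ 9 ∣ Fintype.card F - 1) (c : F) (hc : c ^ 9 = 1) :
    c ^ 3 = 1 := by
  have hc0 : c ≠ 0 := by
    rintro rfl
    rw [zero_pow (by norm_num)] at hc
    exact zero_ne_one hc
  have h1 : orderOf c ∣ 9 := orderOf_dvd_of_pow_eq_one hc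
  have h2 : orderOf c ∣ Fintype.card F - 1 :=
    orderOf_dvd_of_pow_eq_one (FiniteField.pow_card_sub_one_eq_one c hc0)
  have h3 : orderOf c ∣ 3 := by
    have h4 : orderOf c ∣ 3 ^ 2 := by norm_num; exact h1
    obtain ⟨j, hj, hjd⟩ := (Nat.dvd_prime_pow Nat.prime_three).mp h4
    interval_cases j
    · rw [hjd]; norm_num
    · rw [hjd]; norm_num
    · exfalso
      apply h9
      rw [hjd] at h2
      norm_num at h2
      exact h2
  exact orderOf_dvd_iff_pow_eq_one.mp h3

/-- The exceptional case `n = 3 = r` with `(q - 1)_3 = 3`. -/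
theorem no_elt_exc (p : ℕ) [Fact p.Prime] [CharP F p] (h3p : 3 ≠ p)
    (h3 : 3 ∣ Fintype.card F - 1) (h9 : ¬ 9 ∣ Fintype.card F - 1)
    (y : Matrix.ProjectiveSpecialLinearGroup (Fin 3) F) : orderOf y ≠ 3 * p := by
  classical
  intro hy
  have hp : p.Prime := Fact.out
  obtain ⟨ha, hb⟩ := orderOf_pow_pair (by norm_num) hp.pos y hy
  have hZ : ∀ c ∈ Subgroup.center (Matrix.SpecialLinearGroup (Fin 3) F),
      c ^ (Fintype.card F - 1) = 1 := fun c hc => center_pow_card_sub_one (by norm_num) c hc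
  obtain ⟨u, hu1, hu2⟩ := exists_lift_pow_eq_one
    (Subgroup.center (Matrix.SpecialLinearGroup (Fin 3) F)) hZ hp.one_lt
    (char_coprime_card_sub_one p) (y ^ 3) (by rw [← hb]; exact pow_orderOf_eq_one _)
  obtain ⟨x, hx⟩ := QuotientGroup.mk_surjective (y ^ p)
  have hux : Commute u x := by
    apply commute_of_commute_mk
      (Subgroup.center (Matrix.SpecialLinearGroup (Fin 3) F)) le_rfl hZ
      (char_coprime_card_sub_one p) hu2
    rw [hu1, hx]
    exact (Commute.refl y).pow_pow 3 p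
  have hu_ne : u ≠ 1 := by
    rintro rfl
    have h1 : y ^ 3 = 1 := by rw [← hu1]; rfl
    rw [h1, orderOf_one] at hb
    exact hp.one_lt.ne hb
  have hx_nc : x ∉ Subgroup.center (Matrix.SpecialLinearGroup (Fin 3) F) := by
    intro hc
    have h1 : y ^ p = 1 := by
      rw [← hx]
      exact (QuotientGroup.eq_one_iff x).mpr hc
    rw [h1, orderOf_one] at ha
    omega
  have hx3 : x ^ 3 ∈ Subgroup.center (Matrix.SpecialLinearGroup (Fin 3) F) := by
    rw [← QuotientGroup.eq_one_iff, QuotientGroup.mk_pow, hx]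
    have := pow_orderOf_eq_one (y ^ p)
    rwa [ha] at this
  obtain ⟨z, -, hzx⟩ := Matrix.SpecialLinearGroup.mem_center_iff.mp hx3
  obtain ⟨T, hT⟩ : ∃ T : Matrix (Fin 3) (Fin 3) F ≃ₐ[F] Module.End F (Fin 3 → F),
      T = Matrix.toLinAlgEquiv' := ⟨_, rfl⟩
  have hTdet : ∀ M : Matrix (Fin 3) (Fin 3) F, LinearMap.det (T M) = M.det := by
    intro M
    rw [hT]
    exact LinearMap.det_toLin' M
  have hscal : ∀ c : F, T (Matrix.scalar (Fin 3) c) = c • (1 : Module.End F (Fin 3 → F)) := by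
    intro c
    rw [Matrix.scalar_apply, ← Matrix.smul_one_eq_diagonal, map_smul, map_one]
  haveI : CharP (Module.End F (Fin 3 → F)) p :=
    charP_of_injective_algebraMap (algebraMap F (Module.End F (Fin 3 → F))).injective p
  have hXN : Commute (T x.1) (T u.1 - 1) := by
    have h1 : Commute x.1 u.1 := by
      have := hux.symm.eq
      unfold Commute SemiconjBy
      rw [← Matrix.SpecialLinearGroup.coe_mul, ← Matrix.SpecialLinearGroup.coe_mul, this]
    exact (h1.map T).sub_right (Commute.one_right _)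
  have hUp : (T u.1) ^ p = 1 := by
    rw [← map_pow, ← Matrix.SpecialLinearGroup.coe_pow, hu2, Matrix.SpecialLinearGroup.coe_one,
      map_one]
  have hNp : (T u.1 - 1) ^ p = 0 := by
    rw [sub_pow_char_of_commute p (Commute.one_right (T u.1)), hUp, one_pow, sub_self]
  have hN0 : T u.1 - 1 ≠ 0 := by
    intro h
    apply hu_ne
    apply Subtype.ext
    have h1 : T u.1 = T 1 := by rw [map_one]; exact sub_eq_zero.mp h
    exact T.injective h1
  have hX3 : (T x.1) ^ 3 = z • (1 : Module.End F (Fin 3 → F)) := by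
    rw [← map_pow, ← Matrix.SpecialLinearGroup.coe_pow, ← hzx, hscal]
  have h3F : (3 : F) ≠ 0 := by
    intro h
    have h1 : ((3 : ℕ) : F) = 0 := by exact_mod_cast h
    rw [CharP.cast_eq_zero_iff F p 3] at h1
    exact h3p ((Nat.prime_dvd_prime_iff_eq hp Nat.prime_three).mp h1).symm
  obtain ⟨ω, hω⟩ := exists_cube_root_unity h3
  obtain ⟨c, hc⟩ := scalar_of_cube_scalar (V := Fin 3 → F) (by rw [Module.finrank_fin_fun]) h3F ω
    hω (cube_eq_one_of_pow_nine h9) (T x.1) (T u.1 - 1) hXN hNp hN0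
    (by rw [hTdet]; exact x.2) z hX3
  apply hx_nc
  rw [Matrix.SpecialLinearGroup.mem_center_iff]
  have hxc : Matrix.scalar (Fin 3) c = x.1 := by
    apply T.injective
    rw [hscal, hc]
  refine ⟨c, ?_, hxc⟩
  have hd : (Matrix.scalar (Fin 3) c).det = 1 := by rw [hxc]; exact x.2
  rw [Matrix.scalar_apply, Matrix.det_diagonal, Finset.prod_const, Finset.card_univ] at hd
  exact hd

end PSLAdj
end Cfsg.Agent.Helper12
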