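import Mathlib
import Cfsg.Agent.Lib.Helper12.PSL3SpecPoly
import Cfsg.Agent.Lib.Helper12.PSLOrder
import Cfsg.Agent.Lib.Helper12.PSLAdjDiag
import Cfsg.Agent.Lib.Helper12.PSLAdjNo

/-!
# Spectrum of `PSL_3(q)`: elements of `PSL_n` from matrices and endomorphisms (helper12)
-/

set_option autoImplicit false

open Polynomial Module

namespace Cfsg.Agent.Helper12
namespace PSL3Spec

section general
variable {F : Type*} [Field F]

/-- a matrix of determinant one gives an element of `PSL_n` whose powers are trivial exactly when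
the powers of the matrix are scalar -/
theorem exists_PSL_of_matrix {n : ℕ} (M : Matrix (Fin n) (Fin n) F) (hdet : M.det = 1) :
    ∃ y : Matrix.ProjectiveSpecialLinearGroup (Fin n) F,
      ∀ j : ℕ, y ^ j = 1 ↔ ∃ c : F, M ^ j = c • (1 : Matrix (Fin n) (Fin n) F) := by
  obtain ⟨G, hG⟩ : ∃ G : Matrix.SpecialLinearGroup (Fin n) F,
      (G : Matrix (Fin n) (Fin n) F) = M := ⟨⟨M, hdet⟩, rfl⟩
  refine ⟨QuotientGroup.mk G, ?_⟩
  intro j
  rw [← QuotientGroup.mk_pow]
  have h0 : (QuotientGroup.mk (G ^ j) : Matrix.ProjectiveSpecialLinearGroup (Fin n) F) = 1 ↔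
      G ^ j ∈ Subgroup.center (Matrix.SpecialLinearGroup (Fin n) F) := QuotientGroup.eq_one_iff _
  rw [h0, Matrix.SpecialLinearGroup.mem_center_iff]
  have hcoe : ((G ^ j : Matrix.SpecialLinearGroup (Fin n) F) : Matrix (Fin n) (Fin n) F) =
      M ^ j := by
    rw [Matrix.SpecialLinearGroup.coe_pow, hG]
  rw [hcoe]
  constructor
  · rintro ⟨r, -, hr⟩
    refine ⟨r, ?_⟩
    rw [← hr, Matrix.scalar_apply, Matrix.smul_one_eq_diagonal]
  · rintro ⟨c, hc⟩
    refine ⟨c, ?_, ?_⟩
    · have h1 : (M ^ j).det = 1 := by rw [Matrix.det_pow, hdet, one_pow]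
      rw [hc, Matrix.det_smul, Matrix.det_one, mul_one] at h1
      exact h1
    · rw [hc, Matrix.scalar_apply, Matrix.smul_one_eq_diagonal]

/-- the same for an endomorphism of determinant one of an `n`-dimensional space -/
theorem exists_PSL_of_end {V : Type*} [AddCommGroup V] [Module F V] [FiniteDimensional F V]
    {n : ℕ} (hfin : finrank F V = n) (T : Module.End F V) (hdet : LinearMap.det T = 1) :
    ∃ y : Matrix.ProjectiveSpecialLinearGroup (Fin n) F,
      ∀ j : ℕ, y ^ j = 1 ↔ ∃ c : F, T ^ j = c • (1 : Module.End F V) := by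
  classical
  obtain ⟨b⟩ : Nonempty (Basis (Fin n) F V) := ⟨Module.finBasisOfFinrankEq F V hfin⟩
  have hdet' : (LinearMap.toMatrixAlgEquiv b T).det = 1 := by
    have := LinearMap.det_toMatrix b T
    rw [hdet] at this
    exact this
  obtain ⟨y, hy⟩ := exists_PSL_of_matrix (LinearMap.toMatrixAlgEquiv b T) hdet'
  refine ⟨y, fun j => ?_⟩
  rw [hy j]
  constructor
  · rintro ⟨c, hc⟩
    refine ⟨c, ?_⟩
    apply (LinearMap.toMatrixAlgEquiv b).injective
    rw [map_pow, hc, map_smul, map_one]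
  · rintro ⟨c, hc⟩
    refine ⟨c, ?_⟩
    rw [← map_pow, hc, map_smul, map_one]

/-- the order of an element whose trivial powers are the multiples of `N` -/
theorem orderOf_eq_of_pow_iff {G : Type*} [Monoid G] (y : G) (N : ℕ)
    (h : ∀ j : ℕ, y ^ j = 1 ↔ N ∣ j) : orderOf y = N :=
  Nat.dvd_antisymm (orderOf_dvd_of_pow_eq_one ((h N).2 dvd_rfl))
    ((h _).1 (pow_orderOf_eq_one y))

end general

section arith2

theorem div_gcd_dvd_of_dvd_mul {a b j : ℕ} (ha : 0 < a) (h : a ∣ b * j) :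
    a / Nat.gcd a b ∣ j := by
  have hg : 0 < Nat.gcd a b := Nat.gcd_pos_of_pos_left b ha
  have hcop := Nat.coprime_div_gcd_div_gcd hg
  obtain ⟨a', ha'⟩ := Nat.gcd_dvd_left a b
  obtain ⟨b', hb'⟩ := Nat.gcd_dvd_right a b
  have e1 : a / Nat.gcd a b = a' := Nat.div_eq_of_eq_mul_right hg ha'
  have e2 : b / Nat.gcd a b = b' := Nat.div_eq_of_eq_mul_right hg hb'
  rw [e1, e2] at hcop
  rw [e1]
  have h2 : Nat.gcd a b * a' ∣ Nat.gcd a b * (b' * j) := by
    have : Nat.gcd a b * (b' * j) = b * j := by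
      conv_rhs => rw [hb']
      ring
    rw [this, ← ha']
    exact h
  exact hcop.dvd_of_dvd_mul_left ((Nat.mul_dvd_mul_iff_left hg).1 h2)

theorem gcd_sq_add_sub_one {q : ℕ} (hq : 1 ≤ q) :
    Nat.gcd (q ^ 2 + q + 1) (q - 1) = Nat.gcd 3 (q - 1) := by
  have h1 : q ^ 2 + q + 1 = (q - 1) * (q + 2) + 3 := by
    obtain ⟨t, rfl⟩ : ∃ t, q = t + 1 := ⟨q - 1, by omega⟩
    simp only [Nat.add_sub_cancel]
    ring
  rw [h1]
  exact Nat.gcd_mul_left_add_left _ _ _

theorem gcd_sq_sub_add_two {q : ℕ} (hq : 2 ≤ q) :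
    Nat.gcd (q ^ 2 - 1) (q + 2) = Nat.gcd 3 (q - 1) := by
  have h1 : q ^ 2 - 1 = (q + 2) * (q - 2) + 3 := by
    obtain ⟨t, rfl⟩ : ∃ t, q = t + 2 := ⟨q - 2, by omega⟩
    simp only [Nat.add_sub_cancel]
    have : (t + 2) ^ 2 = (t + 2 + 2) * t + 3 + 1 := by ring
    rw [this, Nat.add_sub_cancel]
  rw [h1, Nat.gcd_mul_left_add_left]
  have h2 : q + 2 = (q - 1) + 3 := by omega
  rw [h2, Nat.gcd_add_self_right]

end arith2

section lmul
variable {F : Type*} [Field F] {K : Type*} [CommRing K] [Algebra F K]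

theorem lmul_pow_eq_smul_iff (x : K) (j : ℕ) (c : F) :
    (Algebra.lmul F K x) ^ j = c • (1 : Module.End F K) ↔ x ^ j = algebraMap F K c := by
  rw [← map_pow]
  have e : ∀ a v : K, Algebra.lmul F K a v = a * v := fun a v => rfl
  constructor
  · intro h
    have h1 := LinearMap.congr_fun h (1 : K)
    rw [e, mul_one, LinearMap.smul_apply, Module.End.one_apply,
      Algebra.smul_def, mul_one] at h1
    exact h1
  · intro h
    apply LinearMap.ext
    intro v
    rw [e, LinearMap.smul_apply, Module.End.one_apply, h, Algebra.smul_def]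

end lmul

section singer
variable {F : Type*} [Field F] [Fintype F]

theorem sub_one_mul_sq_add (q : ℕ) (hq : 1 ≤ q) : (q - 1) * (q ^ 2 + q + 1) = q ^ 3 - 1 := by
  obtain ⟨t, rfl⟩ : ∃ t, q = t + 1 := ⟨q - 1, by omega⟩
  simp only [Nat.add_sub_cancel]
  have : (t + 1) ^ 3 = t * ((t + 1) ^ 2 + (t + 1) + 1) + 1 := by ring
  rw [this, Nat.add_sub_cancel]

/-- the Singer cycle of `PSL_3(q)` -/
theorem exists_singer (p : ℕ) [Fact p.Prime] [CharP F p] :
    ∃ y : Matrix.ProjectiveSpecialLinearGroup (Fin 3) F,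
      orderOf y = (Fintype.card F ^ 2 + Fintype.card F + 1) / Nat.gcd 3 (Fintype.card F - 1) := by
  classical
  have hq : 1 < Fintype.card F := Fintype.one_lt_card
  haveI : NeZero 3 := ⟨by norm_num⟩
  obtain ⟨M, hM⟩ : ∃ M, M = Fintype.card F ^ 2 + Fintype.card F + 1 := ⟨_, rfl⟩
  have hMpos : 0 < M := by rw [hM]; omega
  have hMdvd : M ∣ Fintype.card F ^ 3 - 1 := by
    rw [hM, ← sub_one_mul_sq_add _ hq.le]
    exact dvd_mul_left _ _
  obtain ⟨z, hz⟩ := exists_orderOf_units_extension (F := F) p 3 hMdvd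
  haveI : Finite (FiniteField.Extension F p 3) := Module.finite_of_finite F
  have hfin : finrank F (FiniteField.Extension F p 3) = 3 := FiniteField.finrank_extension F p 3
  have hzM : (z : FiniteField.Extension F p 3) ^ M = 1 := by
    rw [← Units.val_pow_eq_pow_val, ← hz, pow_orderOf_eq_one, Units.val_one]
  -- the determinant
  have hdet : LinearMap.det (Algebra.lmul F (FiniteField.Extension F p 3)
      (z : FiniteField.Extension F p 3)) = 1 := by
    rw [← Algebra.norm_apply]
    apply (algebraMap F (FiniteField.Extension F p 3)).injective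
    rw [FiniteField.algebraMap_norm_eq_pow_sum, hfin, map_one, Nat.card_eq_fintype_card]
    have h2 : ∑ i ∈ Finset.range 3, Fintype.card F ^ i = M := by
      rw [Finset.sum_range_succ, Finset.sum_range_succ, Finset.sum_range_one, hM]
      ring
    rw [h2, hzM]
  obtain ⟨y, hy⟩ := exists_PSL_of_end hfin _ hdet
  refine ⟨y, ?_⟩
  rw [← hM]
  apply orderOf_eq_of_pow_iff
  intro j
  rw [hy j]
  have hdM : Nat.gcd 3 (Fintype.card F - 1) ∣ M := hM ▸ gcd_dvd_sq_add hq.le
  constructor
  · rintro ⟨c, hc⟩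
    rw [lmul_pow_eq_smul_iff] at hc
    have hc0 : c ≠ 0 := by
      rintro rfl
      rw [map_zero] at hc
      exact (pow_ne_zero j z.ne_zero) hc
    have h1 : (z : FiniteField.Extension F p 3) ^ ((Fintype.card F - 1) * j) = 1 := by
      rw [mul_comm, pow_mul, hc, ← map_pow, FiniteField.pow_card_sub_one_eq_one c hc0, map_one]
    have h2 : z ^ ((Fintype.card F - 1) * j) = 1 := by
      apply Units.ext
      rw [Units.val_pow_eq_pow_val, h1, Units.val_one]
    have h3 : M ∣ (Fintype.card F - 1) * j := hz ▸ orderOf_dvd_of_pow_eq_one h2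
    have h4 := div_gcd_dvd_of_dvd_mul hMpos h3
    rw [hM, gcd_sq_add_sub_one hq.le, ← hM] at h4
    exact h4
  · rintro ⟨i, rfl⟩
    have h1 : ((z : FiniteField.Extension F p 3) ^ (M / Nat.gcd 3 (Fintype.card F - 1))) ^
        Nat.gcd 3 (Fintype.card F - 1) = 1 := by
      rw [← pow_mul, Nat.div_mul_cancel hdM, hzM]
    obtain ⟨c₀, hc₀⟩ := exists_algebraMap_of_pow_gcd (F := F) h1
    refine ⟨c₀ ^ i, ?_⟩
    rw [lmul_pow_eq_smul_iff, pow_mul, ← hc₀, map_pow]

end singer

section prodmap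
variable {F : Type*} [Field F] {V W : Type*} [AddCommGroup V] [Module F V] [AddCommGroup W]
  [Module F W]

theorem prodMap_pow' (A : Module.End F V) (B : Module.End F W) (j : ℕ) :
    (A.prodMap B) ^ j = (A ^ j).prodMap (B ^ j) := by
  induction j with
  | zero =>
    apply LinearMap.ext
    rintro ⟨x, y⟩
    rfl
  | succ j ih =>
    rw [pow_succ, ih, pow_succ, pow_succ]
    apply LinearMap.ext
    rintro ⟨x, y⟩
    rfl

theorem prodMap_eq_smul_iff (A : Module.End F V) (B : Module.End F W) (c : F) :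
    A.prodMap B = c • (1 : Module.End F (V × W)) ↔
      A = c • (1 : Module.End F V) ∧ B = c • (1 : Module.End F W) := by
  constructor
  · intro h
    constructor
    · apply LinearMap.ext
      intro v
      have h1 := congrArg Prod.fst (LinearMap.congr_fun h (v, 0))
      exact h1
    · apply LinearMap.ext
      intro w
      have h1 := congrArg Prod.snd (LinearMap.congr_fun h (0, w))
      exact h1
  · rintro ⟨hA, hB⟩
    apply LinearMap.ext
    rintro ⟨x, y⟩
    rw [hA, hB]
    rfl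

theorem smul_one_pow_eq_iff (a c : F) (j : ℕ) :
    (a • (1 : Module.End F F)) ^ j = c • (1 : Module.End F F) ↔ a ^ j = c := by
  rw [_root_.smul_pow, one_pow]
  constructor
  · intro h
    have h1 := LinearMap.congr_fun h (1 : F)
    rw [LinearMap.smul_apply, LinearMap.smul_apply, Module.End.one_apply, smul_eq_mul, mul_one,
      smul_eq_mul, mul_one] at h1
    exact h1
  · intro h
    rw [h]

end prodmap

section torus2
variable {F : Type*} [Field F] [Fintype F]

/-- the torus of order `(q ^ 2 - 1) / d` of `PSL_3(q)` -/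
theorem exists_torus2 (p : ℕ) [Fact p.Prime] [CharP F p] :
    ∃ y : Matrix.ProjectiveSpecialLinearGroup (Fin 3) F,
      orderOf y = (Fintype.card F ^ 2 - 1) / Nat.gcd 3 (Fintype.card F - 1) := by
  classical
  have hq : 1 < Fintype.card F := Fintype.one_lt_card
  haveI : NeZero 2 := ⟨by norm_num⟩
  obtain ⟨M, hM⟩ : ∃ M, M = Fintype.card F ^ 2 - 1 := ⟨_, rfl⟩
  have hMpos : 0 < M := by
    rw [hM]
    have : 1 < Fintype.card F ^ 2 := Nat.one_lt_pow (by norm_num) hq
    omega
  obtain ⟨z, hz⟩ := exists_orderOf_units_extension (F := F) p 2 (dvd_refl _)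
  rw [← hM] at hz
  haveI : Finite (FiniteField.Extension F p 2) := Module.finite_of_finite F
  have hfin : finrank F (FiniteField.Extension F p 2) = 2 := FiniteField.finrank_extension F p 2
  have hzM : (z : FiniteField.Extension F p 2) ^ M = 1 := by
    rw [← Units.val_pow_eq_pow_val, ← hz, pow_orderOf_eq_one, Units.val_one]
  obtain ⟨ν, hνdef⟩ : ∃ ν, ν = Algebra.norm F (z : FiniteField.Extension F p 2) := ⟨_, rfl⟩
  have hν : algebraMap F (FiniteField.Extension F p 2) ν =
      (z : FiniteField.Extension F p 2) ^ (Fintype.card F + 1) := by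
    rw [hνdef, FiniteField.algebraMap_norm_eq_pow_sum, hfin, Nat.card_eq_fintype_card,
      Finset.sum_range_succ, Finset.sum_range_one]
    congr 1
    ring
  have hν0 : ν ≠ 0 := by
    rintro rfl
    rw [map_zero] at hν
    exact (pow_ne_zero _ z.ne_zero) hν.symm
  -- the endomorphism
  have hfin3 : finrank F (FiniteField.Extension F p 2 × F) = 3 := by
    rw [Module.finrank_prod, hfin, Module.finrank_self]
  have hdet : LinearMap.det ((Algebra.lmul F (FiniteField.Extension F p 2)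
      (z : FiniteField.Extension F p 2)).prodMap (ν⁻¹ • (1 : Module.End F F))) = 1 := by
    rw [LinearMap.det_prodMap, ← Algebra.norm_apply, ← hνdef, LinearMap.det_smul,
      Module.finrank_self, pow_one]
    have : LinearMap.det (1 : Module.End F F) = 1 := LinearMap.det_id
    rw [this, mul_one, mul_inv_cancel₀ hν0]
  obtain ⟨y, hy⟩ := exists_PSL_of_end hfin3 _ hdet
  refine ⟨y, ?_⟩
  rw [← hM]
  apply orderOf_eq_of_pow_iff
  intro j
  rw [hy j]
  have hdM : Nat.gcd 3 (Fintype.card F - 1) ∣ M := hM ▸ gcd_dvd_sq_sub hq.le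
  have key : ∀ c : F, ((Algebra.lmul F (FiniteField.Extension F p 2)
      (z : FiniteField.Extension F p 2)).prodMap (ν⁻¹ • (1 : Module.End F F))) ^ j =
      c • (1 : Module.End F (FiniteField.Extension F p 2 × F)) ↔
      (z : FiniteField.Extension F p 2) ^ j = algebraMap F _ c ∧ ν⁻¹ ^ j = c := by
    intro c
    rw [prodMap_pow', prodMap_eq_smul_iff, lmul_pow_eq_smul_iff, smul_one_pow_eq_iff]
  constructor
  · rintro ⟨c, hc⟩
    rw [key] at hc
    obtain ⟨hc1, hc2⟩ := hc
    have h1 : (z : FiniteField.Extension F p 2) ^ ((Fintype.card F + 2) * j) = 1 := by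
      have e1 : (Fintype.card F + 2) * j = (Fintype.card F + 1) * j + j := by ring
      rw [e1, pow_add, pow_mul, ← hν, hc1, ← map_pow, ← map_mul, ← hc2, ← mul_pow,
        mul_inv_cancel₀ hν0, one_pow, map_one]
    have h2 : z ^ ((Fintype.card F + 2) * j) = 1 := by
      apply Units.ext
      rw [Units.val_pow_eq_pow_val, h1, Units.val_one]
    have h3 : M ∣ (Fintype.card F + 2) * j := hz ▸ orderOf_dvd_of_pow_eq_one h2
    have h4 := div_gcd_dvd_of_dvd_mul hMpos h3
    rw [hM, gcd_sq_sub_add_two hq, ← hM] at h4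
    exact h4
  · rintro ⟨i, rfl⟩
    have h1 : ((z : FiniteField.Extension F p 2) ^ (M / Nat.gcd 3 (Fintype.card F - 1))) ^
        Nat.gcd 3 (Fintype.card F - 1) = 1 := by
      rw [← pow_mul, Nat.div_mul_cancel hdM, hzM]
    obtain ⟨c₀, hc₀⟩ := exists_algebraMap_of_pow_gcd (F := F) h1
    have hμ3 := pow_three_of_pow_gcd (F := F) h1
    have hμq : ((z : FiniteField.Extension F p 2) ^ (M / Nat.gcd 3 (Fintype.card F - 1))) ^
        (Fintype.card F - 1) = 1 := pow_card_sub_one_of_pow_gcd (F := F) h1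
    have hc₀0 : c₀ ≠ 0 := by
      rintro rfl
      rw [map_zero] at hc₀
      exact (pow_ne_zero _ z.ne_zero) hc₀.symm
    -- `ν⁻¹ ^ j₀ = c₀`
    have hνj : ν⁻¹ ^ (M / Nat.gcd 3 (Fintype.card F - 1)) = c₀ := by
      apply (algebraMap F (FiniteField.Extension F p 2)).injective
      rw [hc₀]
      have e1 : algebraMap F (FiniteField.Extension F p 2) ν ^
          (M / Nat.gcd 3 (Fintype.card F - 1)) =
          ((z : FiniteField.Extension F p 2) ^ (M / Nat.gcd 3 (Fintype.card F - 1))) ^ 2 := by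
        rw [hν, ← pow_mul, mul_comm, pow_mul]
        have : Fintype.card F + 1 = (Fintype.card F - 1) + 2 := by omega
        rw [this, pow_add, hμq, one_mul]
      have e2 : algebraMap F (FiniteField.Extension F p 2)
          (ν⁻¹ ^ (M / Nat.gcd 3 (Fintype.card F - 1))) *
          ((z : FiniteField.Extension F p 2) ^ (M / Nat.gcd 3 (Fintype.card F - 1))) ^ 2 = 1 := by
        rw [← e1, ← map_pow, ← map_mul, ← mul_pow, inv_mul_cancel₀ hν0, one_pow, map_one]
      have e3 : (z : FiniteField.Extension F p 2) ^ (M / Nat.gcd 3 (Fintype.card F - 1)) *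
          ((z : FiniteField.Extension F p 2) ^ (M / Nat.gcd 3 (Fintype.card F - 1))) ^ 2 = 1 := by
        rw [← pow_succ', hμ3]
      have hunit : ((z : FiniteField.Extension F p 2) ^
          (M / Nat.gcd 3 (Fintype.card F - 1))) ^ 2 ≠ 0 :=
        pow_ne_zero _ (pow_ne_zero _ z.ne_zero)
      exact mul_right_cancel₀ hunit (e2.trans e3.symm)
    refine ⟨c₀ ^ i, ?_⟩
    rw [key]
    constructor
    · rw [pow_mul, ← hc₀, map_pow]
    · rw [pow_mul, hνj]

end torus2

section explicit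
variable {F : Type*} [Field F] [Fintype F]

open Cfsg.Agent.Helper12.PSLAdj

/-- the split torus element of order `q - 1` -/
theorem exists_split_torus :
    ∃ y : Matrix.ProjectiveSpecialLinearGroup (Fin 3) F, orderOf y = Fintype.card F - 1 := by
  classical
  obtain ⟨l, hl⟩ := exists_unit_orderOf (F := F) (dvd_refl (Fintype.card F - 1))
  have hdet : (Matrix.diagonal ![(l : F), (l : F)⁻¹, 1]).det = 1 := by
    rw [Matrix.det_diagonal, Fin.prod_univ_three]
    simp
  obtain ⟨y, hy⟩ := exists_PSL_of_matrix _ hdet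
  refine ⟨y, ?_⟩
  apply orderOf_eq_of_pow_iff
  intro j
  rw [hy j, ← hl, orderOf_dvd_iff_pow_eq_one]
  constructor
  · rintro ⟨c, hc⟩
    rw [Matrix.diagonal_pow, Matrix.smul_one_eq_diagonal] at hc
    have h1 := Matrix.diagonal_injective hc
    have h2 := congrFun h1 2
    have h0 := congrFun h1 0
    simp only [Pi.pow_apply, Matrix.cons_val_zero, Matrix.cons_val_two, Matrix.tail_cons,
      Matrix.head_cons, one_pow] at h2 h0
    apply Units.ext
    rw [Units.val_pow_eq_pow_val, h0, ← h2, Units.val_one]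
  · intro h
    refine ⟨1, ?_⟩
    have h1 : (l : F) ^ j = 1 := by
      rw [← Units.val_pow_eq_pow_val, h, Units.val_one]
    rw [Matrix.diagonal_pow, Matrix.smul_one_eq_diagonal]
    congr 1
    funext i
    fin_cases i
    · simpa using h1
    · simp [inv_pow, h1]
    · simp

/-- the element of order `p (q - 1) / d` -/
theorem exists_mixed (p : ℕ) [Fact p.Prime] [CharP F p] :
    ∃ y : Matrix.ProjectiveSpecialLinearGroup (Fin 3) F,
      orderOf y = p * (Fintype.card F - 1) / Nat.gcd 3 (Fintype.card F - 1) := by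
  classical
  have hp : p.Prime := Fact.out
  have hq : 1 < Fintype.card F := Fintype.one_lt_card
  obtain ⟨l, hl⟩ := exists_unit_orderOf (F := F) (dvd_refl (Fintype.card F - 1))
  obtain ⟨a, ha⟩ : ∃ a : F, a = (l : F) := ⟨_, rfl⟩
  have ha0 : a ≠ 0 := ha ▸ l.ne_zero
  have haj : ∀ j : ℕ, a ^ j = 1 ↔ Fintype.card F - 1 ∣ j := by
    intro j
    rw [← hl, orderOf_dvd_iff_pow_eq_one, ha]
    constructor
    · intro h
      apply Units.ext
      rw [Units.val_pow_eq_pow_val, h, Units.val_one]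
    · intro h
      rw [← Units.val_pow_eq_pow_val, h, Units.val_one]
  have hdet : (!![a, a, 0; 0, a, 0; 0, 0, (a ^ 2)⁻¹] : Matrix (Fin 3) (Fin 3) F).det = 1 := by
    rw [Matrix.det_fin_three]
    simp
    field_simp
  have hpow : ∀ j : ℕ, (!![a, a, 0; 0, a, 0; 0, 0, (a ^ 2)⁻¹] : Matrix (Fin 3) (Fin 3) F) ^ j =
      !![a ^ j, (j : F) * a ^ j, 0; 0, a ^ j, 0; 0, 0, ((a ^ 2)⁻¹) ^ j] := by
    intro j
    induction j with
    | zero =>
      rw [pow_zero, Matrix.one_fin_three]
      simp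
    | succ j ih =>
      rw [pow_succ, ih, Matrix.mul_fin_three]
      congr 1
      ext i k
      fin_cases i <;> fin_cases k <;> simp <;> ring
  have haux : ∀ j : ℕ, (a ^ j) ^ 2 * (a ^ 2)⁻¹ ^ j = 1 := by
    intro j
    have e0 : (a ^ 2)⁻¹ ^ j = ((a ^ j) ^ 2)⁻¹ := by
      rw [inv_pow, ← pow_mul, ← pow_mul, mul_comm]
    rw [e0]
    exact mul_inv_cancel₀ (pow_ne_zero _ (pow_ne_zero _ ha0))
  obtain ⟨y, hy⟩ := exists_PSL_of_matrix _ hdet
  refine ⟨y, ?_⟩
  obtain ⟨d, hd⟩ : ∃ d, d = Nat.gcd 3 (Fintype.card F - 1) := ⟨_, rfl⟩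
  rw [← hd]
  obtain ⟨e, he⟩ : d ∣ Fintype.card F - 1 := hd ▸ Nat.gcd_dvd_right 3 (Fintype.card F - 1)
  obtain ⟨t, ht⟩ : d ∣ 3 := hd ▸ Nat.gcd_dvd_left 3 (Fintype.card F - 1)
  have hdpos : 0 < d := hd ▸ Nat.gcd_pos_of_pos_left _ (by norm_num)
  have hN : p * (Fintype.card F - 1) / d = p * e := by
    rw [Nat.mul_div_assoc p ⟨e, he⟩]
    congr 1
    exact Nat.div_eq_of_eq_mul_right hdpos he
  rw [hN]
  have hpe : Nat.Coprime p e := by
    have h1 : Nat.Coprime p (Fintype.card F - 1) := char_coprime_card_sub_one p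
    rw [he] at h1
    exact Nat.Coprime.coprime_mul_left_right h1
  apply orderOf_eq_of_pow_iff
  intro j
  rw [hy j]
  have hediv : e ∣ j ↔ Fintype.card F - 1 ∣ 3 * j := by
    constructor
    · rintro ⟨i, rfl⟩
      refine ⟨t * i, ?_⟩
      rw [ht, he]
      ring
    · intro h
      have h1 := div_gcd_dvd_of_dvd_mul (by omega : 0 < Fintype.card F - 1) h
      rw [Nat.gcd_comm, ← hd] at h1
      rwa [Nat.div_eq_of_eq_mul_right hdpos he] at h1
  constructor
  · rintro ⟨c, hc⟩
    rw [hpow j, Matrix.smul_one_eq_diagonal] at hc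
    have h01 := congrFun (congrFun hc 0) 1
    have h00 := congrFun (congrFun hc 0) 0
    have h22 := congrFun (congrFun hc 2) 2
    simp at h01 h00 h22
    have hpj : p ∣ j := by
      rcases h01 with h | h
      · exact (CharP.cast_eq_zero_iff F p j).1 h
      · exact absurd h.1 ha0
    have h3 : a ^ (3 * j) = 1 := by
      have e1 : (a ^ j) ^ 2 * (a ^ 2)⁻¹ ^ j = 1 := haux j
      rw [inv_pow, h22, ← h00] at e1
      rw [mul_comm 3 j, pow_mul]
      rw [← e1]
      ring
    have hej : e ∣ j := hediv.2 ((haj _).1 h3)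
    exact hpe.mul_dvd_of_dvd_of_dvd hpj hej
  · intro h
    have hpj : p ∣ j := (dvd_mul_right p e).trans h
    have hej : e ∣ j := (dvd_mul_left e p).trans h
    have h3 : a ^ (3 * j) = 1 := (haj _).2 (hediv.1 hej)
    refine ⟨a ^ j, ?_⟩
    rw [hpow j, Matrix.smul_one_eq_diagonal]
    have hj0 : (j : F) = 0 := (CharP.cast_eq_zero_iff F p j).2 hpj
    have h22 : (a ^ 2)⁻¹ ^ j = a ^ j := by
      have e1 : (a ^ j) ^ 2 * (a ^ 2)⁻¹ ^ j = 1 := haux j
      have e2 : (a ^ j) ^ 2 * a ^ j = 1 := by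
        rw [← h3, mul_comm 3 j, pow_mul]
        ring
      exact mul_left_cancel₀ (pow_ne_zero 2 (pow_ne_zero j ha0)) (e1.trans e2.symm)
    ext i k
    fin_cases i <;> fin_cases k <;> simp [hj0, h22]

/-- the regular unipotent element of order 4 in characteristic 2 -/
theorem exists_four [CharP F 2] :
    ∃ y : Matrix.ProjectiveSpecialLinearGroup (Fin 3) F, orderOf y = 4 := by
  classical
  have h2 : (2 : F) = 0 := by
    have := CharP.cast_eq_zero F 2
    exact_mod_cast this
  have hdet : (!![1, 1, 0; 0, 1, 1; 0, 0, 1] : Matrix (Fin 3) (Fin 3) F).det = 1 := by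
    rw [Matrix.det_fin_three]
    simp
  have hsq : (!![1, 1, 0; 0, 1, 1; 0, 0, 1] : Matrix (Fin 3) (Fin 3) F) ^ 2 =
      !![1, 0, 1; 0, 1, 0; 0, 0, 1] := by
    rw [pow_two, Matrix.mul_fin_three]
    ext i k
    fin_cases i <;> fin_cases k <;> simp [h2, one_add_one_eq_two]
  have hfour : (!![1, 1, 0; 0, 1, 1; 0, 0, 1] : Matrix (Fin 3) (Fin 3) F) ^ 4 = 1 := by
    have : (4 : ℕ) = 2 * 2 := rfl
    rw [this, pow_mul, hsq, pow_two, Matrix.mul_fin_three, Matrix.one_fin_three]
    ext i k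
    fin_cases i <;> fin_cases k <;> simp [h2, one_add_one_eq_two]
  obtain ⟨y, hy⟩ := exists_PSL_of_matrix _ hdet
  refine ⟨y, ?_⟩
  haveI : Fact (Nat.Prime 2) := ⟨Nat.prime_two⟩
  have := orderOf_eq_prime_pow (x := y) (p := 2) (n := 1) ?_ ?_
  · simpa using this
  · rw [pow_one, hy 2, hsq]
    rintro ⟨c, hc⟩
    rw [Matrix.smul_one_eq_diagonal] at hc
    have h02 := congrFun (congrFun hc 0) 2
    simp at h02
  · have : (2 : ℕ) ^ (1 + 1) = 4 := rfl
    rw [this, hy 4, hfour]
    exact ⟨1, (one_smul _ _).symm⟩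

end explicit

end PSL3Spec
end Cfsg.Agent.Helper12
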