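import Mathlib
import Cfsg.Agent.Lib.Helper12.PSL3SpecPoly
import Cfsg.Agent.Lib.Helper12.PSL3SpecExist

/-!
# The spectrum of `PSL_3(q)`: assembling
-/

set_option autoImplicit false

open Polynomial Module

namespace Cfsg.Agent.Helper12
namespace PSL3Spec

theorem Allowed.mono {p q j m : ℕ} (h : Allowed p q j) (hm : m ∣ j) : Allowed p q m := by
  rcases h with h | h | h | h | ⟨h2, h⟩
  · exact Or.inl (hm.trans h)
  · exact Or.inr (Or.inl (hm.trans h))
  · exact Or.inr (Or.inr (Or.inl (hm.trans h)))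
  · exact Or.inr (Or.inr (Or.inr (Or.inl (hm.trans h))))
  · exact Or.inr (Or.inr (Or.inr (Or.inr ⟨h2, hm.trans h⟩)))

/-- divisors of element orders are element orders -/
theorem exists_orderOf_of_dvd {G : Type*} [Group G] [Finite G] (y : G) {m : ℕ}
    (h : m ∣ orderOf y) : ∃ z : G, orderOf z = m := by
  have hN : 0 < orderOf y := orderOf_pos y
  obtain ⟨k, hk⟩ := h
  have hm0 : 0 < m := Nat.pos_of_ne_zero (by rintro rfl; omega)
  have hk0 : k ≠ 0 := by rintro rfl; omega
  refine ⟨y ^ k, ?_⟩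
  rw [orderOf_pow_of_dvd hk0 ⟨m, by rw [hk, mul_comm]⟩, hk]
  exact Nat.mul_div_cancel _ (Nat.pos_of_ne_zero hk0)

section sub
variable {F : Type*} [Field F] [Fintype F]

theorem mk_pow_eq_one_iff {n : ℕ} (G : Matrix.SpecialLinearGroup (Fin n) F) (j : ℕ) :
    (QuotientGroup.mk G : Matrix.ProjectiveSpecialLinearGroup (Fin n) F) ^ j = 1 ↔
      ∃ c : F, (G : Matrix (Fin n) (Fin n) F) ^ j = c • (1 : Matrix (Fin n) (Fin n) F) := by
  rw [← QuotientGroup.mk_pow]
  have h0 : (QuotientGroup.mk (G ^ j) : Matrix.ProjectiveSpecialLinearGroup (Fin n) F) = 1 ↔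
      G ^ j ∈ Subgroup.center (Matrix.SpecialLinearGroup (Fin n) F) := QuotientGroup.eq_one_iff _
  rw [h0, Matrix.SpecialLinearGroup.mem_center_iff, Matrix.SpecialLinearGroup.coe_pow]
  constructor
  · rintro ⟨r, -, hr⟩
    refine ⟨r, ?_⟩
    rw [← hr, Matrix.scalar_apply, Matrix.smul_one_eq_diagonal]
  · rintro ⟨c, hc⟩
    refine ⟨c, ?_, ?_⟩
    · have h1 : ((G : Matrix (Fin n) (Fin n) F) ^ j).det = 1 := by
        rw [Matrix.det_pow, G.det_coe, one_pow]
      rw [hc, Matrix.det_smul, Matrix.det_one, mul_one] at h1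
      simpa using h1
    · rw [hc, Matrix.scalar_apply, Matrix.smul_one_eq_diagonal]

/-- every element order of `PSL_3(q)` is allowed -/
theorem allowed_orderOf (p : ℕ) [Fact p.Prime] [CharP F p]
    (y : Matrix.ProjectiveSpecialLinearGroup (Fin 3) F) :
    Allowed p (Fintype.card F) (orderOf y) := by
  classical
  obtain ⟨g, rfl⟩ := QuotientGroup.mk_surjective y
  have hmon : (g : Matrix (Fin 3) (Fin 3) F).charpoly.Monic := Matrix.charpoly_monic _
  have hdeg : (g : Matrix (Fin 3) (Fin 3) F).charpoly.natDegree = 3 := by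
    rw [Matrix.charpoly_natDegree_eq_dim, Fintype.card_fin]
  have h0 : (g : Matrix (Fin 3) (Fin 3) F).charpoly.coeff 0 = -1 := by
    have h1 := Matrix.det_eq_sign_charpoly_coeff (g : Matrix (Fin 3) (Fin 3) F)
    rw [g.det_coe, Fintype.card_fin] at h1
    linear_combination h1
  obtain ⟨j, l, ⟨k, hk⟩, hall⟩ := exists_dvd_X_pow_sub_C p hmon hdeg h0
  refine hall.mono (orderOf_dvd_of_pow_eq_one ?_)
  rw [mk_pow_eq_one_iff]
  refine ⟨l, ?_⟩
  have h1 := congrArg (aeval (g : Matrix (Fin 3) (Fin 3) F)) hk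
  rw [map_mul, Matrix.aeval_self_charpoly, zero_mul, map_sub, map_pow, aeval_X, aeval_C,
    sub_eq_zero] at h1
  rw [h1, Algebra.algebraMap_eq_smul_one]

/-- every allowed number is an element order of `PSL_3(q)` -/
theorem exists_orderOf_of_allowed (p : ℕ) [Fact p.Prime] [CharP F p] {m : ℕ}
    (h : Allowed p (Fintype.card F) m) :
    ∃ y : Matrix.ProjectiveSpecialLinearGroup (Fin 3) F, orderOf y = m := by
  classical
  rcases h with h | h | h | h | ⟨h2, h⟩
  · obtain ⟨y, hy⟩ := exists_singer (F := F) p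
    exact exists_orderOf_of_dvd y (hy ▸ h)
  · obtain ⟨y, hy⟩ := exists_torus2 (F := F) p
    exact exists_orderOf_of_dvd y (hy ▸ h)
  · obtain ⟨y, hy⟩ := exists_split_torus (F := F)
    exact exists_orderOf_of_dvd y (hy ▸ h)
  · obtain ⟨y, hy⟩ := exists_mixed (F := F) p
    exact exists_orderOf_of_dvd y (hy ▸ h)
  · subst h2
    obtain ⟨y, hy⟩ := exists_four (F := F)
    exact exists_orderOf_of_dvd y (hy ▸ h)

end sub

end PSL3Spec
end Cfsg.Agent.Helper12
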