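import Mathlib
import Cfsg.Agent.Lib.Helper12.PSL3SpecMain

/-!
# Abstract Frobenius-type semidirect products `V ⋊ K` with fixed-point-free action (helper12)
-/

set_option autoImplicit false

namespace Cfsg.Agent.Helper12
namespace FrobAbs

section abs
variable {V K : Type} [CommGroup V] [Group K] (φ : K →* MulAut V)

theorem orderOf_inl (p : ℕ) [Fact p.Prime] (hV : ∀ v : V, v ^ p = 1) (v : V) :
    orderOf (SemidirectProduct.inl v : V ⋊[φ] K) = 1 ∨
      orderOf (SemidirectProduct.inl v : V ⋊[φ] K) = p := by
  have hp : p.Prime := Fact.out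
  have h1 : (SemidirectProduct.inl v : V ⋊[φ] K) ^ p = 1 := by
    rw [← map_pow, hV v, map_one]
  have h2 := orderOf_dvd_of_pow_eq_one h1
  rcases (Nat.dvd_prime hp).1 h2 with h | h
  · exact Or.inl h
  · exact Or.inr h

/-- elements with a fixed-point-free `K`-part are conjugate to their `K`-part -/
theorem orderOf_eq_of_fpf [Finite V] (x : V ⋊[φ] K)
    (hfpf : ∀ v : V, φ x.right v = v → v = 1) :
    orderOf x = orderOf x.right := by
  have hinj : Function.Injective (fun w : V => w * (φ x.right w)⁻¹) := by
    intro w w' hww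
    have h2 : w * (φ x.right w)⁻¹ = w' * (φ x.right w')⁻¹ := hww
    have h1 : φ x.right (w * w'⁻¹) = w * w'⁻¹ := by
      rw [map_mul, map_inv]
      have h3 : φ x.right w * (φ x.right w')⁻¹ =
          (w * w'⁻¹) * ((w * (φ x.right w)⁻¹)⁻¹ * (w' * (φ x.right w')⁻¹)) := by
        rw [mul_inv, inv_inv]
        have : ∀ a b c d : V, c * d⁻¹ = (a * b⁻¹) * ((a⁻¹ * c) * (b * d⁻¹)) := by
          intro a b c d
          rw [mul_mul_mul_comm a⁻¹ c b d⁻¹, ← mul_assoc, mul_mul_mul_comm a b⁻¹ a⁻¹ b,
            mul_inv_cancel, inv_mul_cancel, one_mul, one_mul]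
        exact this w w' (φ x.right w) (φ x.right w')
      rw [h3, h2, inv_mul_cancel, mul_one]
    have h4 := hfpf _ h1
    exact mul_inv_eq_one.1 h4
  obtain ⟨w, hw⟩ := Finite.surjective_of_injective hinj (x.left)⁻¹
  have hw' : w * x.left = φ x.right w := by
    have h1 : w * (φ x.right w)⁻¹ = (x.left)⁻¹ := hw
    have h2 : w * x.left = (w * (φ x.right w)⁻¹) * x.left * φ x.right w := by
      rw [mul_assoc w, mul_assoc w, mul_comm (φ x.right w)⁻¹, mul_assoc, inv_mul_cancel, mul_one]
    rw [h2, h1, inv_mul_cancel, one_mul]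
  have hconj : SemiconjBy (SemidirectProduct.inl w : V ⋊[φ] K) x
      (SemidirectProduct.inr x.right) := by
    unfold SemiconjBy
    ext
    · rw [SemidirectProduct.mul_left, SemidirectProduct.mul_left, SemidirectProduct.left_inl,
        SemidirectProduct.right_inl, SemidirectProduct.left_inr, SemidirectProduct.right_inr,
        map_one, MulAut.one_apply, one_mul]
      exact hw'
    · rw [SemidirectProduct.mul_right, SemidirectProduct.mul_right, SemidirectProduct.right_inl,
        SemidirectProduct.right_inr, one_mul, mul_one]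
  rw [hconj.orderOf_eq, orderOf_injective _ SemidirectProduct.inr_injective]

/-- the spectrum of the Frobenius group -/
theorem range_orderOf [Finite V] [Nontrivial V] (p : ℕ) [Fact p.Prime] (hV : ∀ v : V, v ^ p = 1)
    (hfpf : ∀ k : K, k ≠ 1 → ∀ v : V, φ k v = v → v = 1) :
    Set.range (orderOf : V ⋊[φ] K → ℕ) = Set.range (orderOf : K → ℕ) ∪ {p} := by
  have hp : p.Prime := Fact.out
  ext m
  constructor
  · rintro ⟨x, rfl⟩
    by_cases hx : x.right = 1
    · have hx' : x = SemidirectProduct.inl x.left := by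
        ext
        · rfl
        · rw [hx]
          rfl
      rw [hx']
      rcases orderOf_inl φ p hV x.left with h | h
      · left
        exact ⟨1, by rw [orderOf_one, h]⟩
      · right
        exact h
    · left
      exact ⟨x.right, (orderOf_eq_of_fpf φ x (hfpf _ hx)).symm⟩
  · rintro (⟨k, rfl⟩ | h)
    · exact ⟨SemidirectProduct.inr k, orderOf_injective _ SemidirectProduct.inr_injective k⟩
    · rw [Set.mem_singleton_iff] at h
      rw [h]
      obtain ⟨v, hv⟩ := exists_ne (1 : V)
      refine ⟨SemidirectProduct.inl v, ?_⟩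
      rcases orderOf_inl φ p hV v with h1 | h1
      · rw [orderOf_eq_one_iff] at h1
        have := SemidirectProduct.inl_injective (h1.trans (map_one _).symm)
        exact absurd this hv
      · exact h1

theorem isSolvable_sdp [hK : Group.IsSolvable K] : Group.IsSolvable (V ⋊[φ] K) := by
  apply Group.isSolvable_of_ker_le_range (SemidirectProduct.inl : V →* V ⋊[φ] K)
    (SemidirectProduct.rightHom : V ⋊[φ] K →* K)
  rw [SemidirectProduct.range_inl_eq_ker_rightHom]

end abs

section field
variable {E : Type} [Field E]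

/-- multiplication by a unit on the additive group of a field, multiplicatively -/
def mulAutOfUnit (k : Eˣ) : MulAut (Multiplicative E) where
  toFun v := Multiplicative.ofAdd ((k : E) * Multiplicative.toAdd v)
  invFun v := Multiplicative.ofAdd (((k⁻¹ : Eˣ) : E) * Multiplicative.toAdd v)
  left_inv v := by
    show Multiplicative.ofAdd (((k⁻¹ : Eˣ) : E) * ((k : E) * Multiplicative.toAdd v)) = v
    rw [← mul_assoc, ← Units.val_mul, inv_mul_cancel, Units.val_one, one_mul]
    rfl
  right_inv v := by
    show Multiplicative.ofAdd ((k : E) * (((k⁻¹ : Eˣ) : E) * Multiplicative.toAdd v)) = v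
    rw [← mul_assoc, ← Units.val_mul, mul_inv_cancel, Units.val_one, one_mul]
    rfl
  map_mul' v w := by
    show Multiplicative.ofAdd ((k : E) * (Multiplicative.toAdd v + Multiplicative.toAdd w)) = _
    rw [mul_add]
    rfl

theorem mulAutOfUnit_apply (k : Eˣ) (v : Multiplicative E) :
    mulAutOfUnit k v = Multiplicative.ofAdd ((k : E) * Multiplicative.toAdd v) := rfl

/-- the action of a subgroup of the unit group -/
def unitAct (K : Subgroup Eˣ) : K →* MulAut (Multiplicative E) where
  toFun k := mulAutOfUnit (k : Eˣ)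
  map_one' := by
    ext v
    rw [mulAutOfUnit_apply, Subgroup.coe_one, Units.val_one, one_mul]
    rfl
  map_mul' k l := by
    ext v
    rw [MulAut.mul_apply, mulAutOfUnit_apply, mulAutOfUnit_apply, mulAutOfUnit_apply,
      Subgroup.coe_mul, Units.val_mul, mul_assoc]
    rfl

/-- the affine Frobenius group attached to a unit `u` of a finite field: its spectrum -/
theorem exists_affine [Finite E] (p : ℕ) [Fact p.Prime] [CharP E p] (u : Eˣ) :
    ∃ (H : Type) (_ : Group H) (_ : Finite H), Group.IsSolvable H ∧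
      Set.range (orderOf : H → ℕ) = {m : ℕ | m ∣ orderOf u} ∪ {p} := by
  obtain ⟨K, hK⟩ : ∃ K : Subgroup Eˣ, K = Subgroup.zpowers u := ⟨_, rfl⟩
  have hfin : Finite (Multiplicative E ⋊[unitAct K] K) :=
    Finite.of_equiv _ SemidirectProduct.equivProd.symm
  have hsolv : Group.IsSolvable K := by
    rw [hK]
    infer_instance
  refine ⟨Multiplicative E ⋊[unitAct K] K, inferInstance, hfin, isSolvable_sdp _, ?_⟩
  have hV : ∀ v : Multiplicative E, v ^ p = 1 := by
    intro v
    apply Multiplicative.toAdd.injective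
    rw [toAdd_pow, toAdd_one, nsmul_eq_mul, CharP.cast_eq_zero, zero_mul]
  have hfpf : ∀ k : K, k ≠ 1 → ∀ v : Multiplicative E, unitAct K k v = v → v = 1 := by
    intro k hk v hv
    have h1 : ((k : Eˣ) : E) * Multiplicative.toAdd v = Multiplicative.toAdd v :=
      congrArg Multiplicative.toAdd hv
    have h2 : (((k : Eˣ) : E) - 1) * Multiplicative.toAdd v = 0 := by
      rw [sub_mul, one_mul, h1, sub_self]
    rcases mul_eq_zero.1 h2 with h3 | h3
    · exfalso
      apply hk
      apply Subtype.ext
      apply Units.ext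
      rw [Subgroup.coe_one, Units.val_one]
      exact sub_eq_zero.1 h3
    · exact Multiplicative.toAdd.injective h3
  rw [range_orderOf (unitAct K) p hV hfpf]
  congr 1
  ext m
  constructor
  · rintro ⟨k, rfl⟩
    rw [← Subgroup.orderOf_coe]
    apply orderOf_dvd_of_mem_zpowers
    rw [← hK]
    exact k.2
  · intro hm
    have hu : u ∈ K := by
      rw [hK]
      exact Subgroup.mem_zpowers u
    have h1 : orderOf (⟨u, hu⟩ : K) = orderOf u := by
      rw [← Subgroup.orderOf_coe]
    have hm' : m ∣ orderOf (⟨u, hu⟩ : K) := by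
      rw [h1]
      exact hm
    exact PSL3Spec.exists_orderOf_of_dvd _ hm'

end field

/-- the spectrum of a direct product -/
theorem range_orderOf_prod {G H : Type*} [Group G] [Group H] :
    Set.range (orderOf : G × H → ℕ) =
      {m : ℕ | ∃ a ∈ Set.range (orderOf : G → ℕ), ∃ b ∈ Set.range (orderOf : H → ℕ),
        m = Nat.lcm a b} := by
  ext m
  constructor
  · rintro ⟨x, rfl⟩
    exact ⟨_, ⟨x.1, rfl⟩, _, ⟨x.2, rfl⟩, Prod.orderOf x⟩
  · rintro ⟨a, ⟨g, rfl⟩, b, ⟨h, rfl⟩, rfl⟩
    exact ⟨(g, h), Prod.orderOf (g, h)⟩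

end FrobAbs
end Cfsg.Agent.Helper12
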