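import Mathlib
import Cfsg.Agent.Lib.Helper13.G2IDefs
import Cfsg.Agent.Lib.Helper13.G2I_BASE1A
import Cfsg.Agent.Lib.Helper13.G2I_BASE1B
import Cfsg.Agent.Lib.Helper18.G2I_BASE2A
import Cfsg.Agent.Lib.Helper22.G2I_SL2B
import Cfsg.Agent.Lib.Helper28.G2I_TORAL
import Cfsg.Agent.Lib.Helper2.G2I_TNORM
import Cfsg.Agent.Lib.Helper2.G2I_TK
import Cfsg.Agent.Lib.Helper17.G2I_TYPE1
import Cfsg.Agent.Lib.Helper18.G2I_CENT

/-!
# S4278 / S4279 farm-out (helper13): PIECE B2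
-/

set_option autoImplicit false

namespace Cfsg.Agent.Helper13.G2I

open Cfsg Cfsg.Lie Cfsg.Agent.Lead.Chev Cfsg.Agent.Helper11.G2T Cfsg.Agent.Helper6.SL2Hom
  Cfsg.Agent.Helper6.ChevL Matrix

variable {F : Type*} [Field F]

/-- `z ∈ L_long ≤ K` -/
theorem b2_zI_mem_KK : zI F ∈ KK F := by
  have h : zI F ∈ LL F := ⟨-1, phiL_neg_one⟩
  exact (le_sup_left : LL F ≤ KK F) h

/-- `z` commutes with `m` -/
theorem b2_zI_comm_mI : zI F * mI F = mI F * zI F := by
  unfold mI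
  have e1 : zI F * phiL F (nS F) = phiL F (nS F) * zI F := by
    rw [← phiL_neg_one, ← map_mul, ← map_mul]
    congr 1
    simp
  have e2 : zI F * phiS F (nS F) = phiS F (nS F) * zI F := by
    rw [← phiS_neg_one, ← map_mul, ← map_mul]
    congr 1
    simp
  calc zI F * (phiL F (nS F) * phiS F (nS F)) = (zI F * phiL F (nS F)) * phiS F (nS F) := by group
    _ = phiL F (nS F) * (zI F * phiS F (nS F)) := by rw [e1]; group
    _ = phiL F (nS F) * phiS F (nS F) * zI F := by rw [e2]; group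

/-- `z'` commutes with `m` -/
theorem b2_zP_conj_mI : zP F * mI F * (zP F)⁻¹ = mI F := by
  have e : zP F * mI F * (zP F)⁻¹ =
      (zP F * phiL F (nS F) * (zP F)⁻¹) * (zP F * phiS F (nS F) * (zP F)⁻¹) := by
    unfold mI
    group
  rw [e, zP_phiL, zP_phiS, sconj_nS]
  have n1 : (-nS F : SpecialLinearGroup (Fin 2) F) = (-1) * nS F := by simp
  rw [n1, map_mul, map_mul, phiL_neg_one, phiS_neg_one]
  have e2 : zI F * phiS F (nS F) = phiS F (nS F) * zI F := by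
    rw [← phiS_neg_one, ← map_mul, ← map_mul]
    congr 1
    simp
  calc zI F * phiL F (nS F) * (zI F * phiS F (nS F))
      = zI F * phiL F (nS F) * (phiS F (nS F) * zI F) := by rw [e2]
    _ = zI F * (phiL F (nS F) * phiS F (nS F)) * zI F := by group
    _ = zI F * mI F * zI F := rfl
    _ = mI F * (zI F * zI F) := by rw [b2_zI_comm_mI]; group
    _ = mI F := by rw [zI_sq, mul_one]

theorem b2 [Fintype F] (h2 : (2 : F) ≠ 0) (hi : ¬ IsSquare (-1 : F)) :
    ∃ g ∈ GG F, ∃ e ∈ KK F, e * e = 1 ∧ e ≠ 1 ∧ e ≠ zI F ∧ g * e * g⁻¹ ∈ CC F ∧ g * e * g⁻¹ ∉ KK F := by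
  obtain ⟨hg1, hζT, hζev⟩ := g1_facts (F := F) h2
  set g1 := nWordGL chevG2 (g2F F).xadd [1, 0] with hg1def
  have hg1G : g1 ∈ GG F := nWordGL_mem_group chevG2 (g2F F).xadd _
  set ζ := g1 * zI F * g1⁻¹ with hζdef
  have hζK : ζ ∉ KK F := by
    intro h
    have := (TT_mem_KK_iff h2 ζ hζT).1 h
    rw [hζev] at this
    exact hi this
  set y := g1 * mI F * g1⁻¹ with hydef
  have hmG : mI F ∈ GG F := KK_le_GG mI_mem
  have hyG : y ∈ GG F := mul_mem (mul_mem hg1G hmG) (inv_mem hg1G)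
  have hycomm : y * zI F = zI F * y := by
    have hm : mI F * zP F = zP F * mI F := by
      calc mI F * zP F = (zP F * mI F * (zP F)⁻¹) * zP F := by rw [b2_zP_conj_mI]
        _ = zP F * mI F := by group
    calc y * zI F = g1 * mI F * g1⁻¹ * (g1 * zP F * g1⁻¹) := by rw [hg1]
      _ = g1 * (mI F * zP F) * g1⁻¹ := by group
      _ = g1 * (zP F * mI F) * g1⁻¹ := by rw [hm]
      _ = (g1 * zP F * g1⁻¹) * (g1 * mI F * g1⁻¹) := by group
      _ = zI F * y := by rw [hg1]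
  have hyC : y ∈ CC F := (mem_CC_iff_comm h2 y hyG).2 hycomm
  have hζC : ζ ∈ CC F := (le_sup_right : TT F ≤ CC F) hζT
  obtain ⟨hm1, hmz, hzm1, hzmz⟩ := mI_ne (F := F) h2
  by_cases hyK : y ∈ KK F
  · -- then `ζ y = g₁ (z m) g₁⁻¹` is outside `K`
    refine ⟨g1, hg1G, zI F * mI F, mul_mem b2_zI_mem_KK mI_mem, ?_, hzm1, hzmz, ?_, ?_⟩
    · calc zI F * mI F * (zI F * mI F) = zI F * (mI F * zI F) * mI F := by group
        _ = zI F * (zI F * mI F) * mI F := by rw [b2_zI_comm_mI]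
        _ = (zI F * zI F) * (mI F * mI F) := by group
        _ = 1 := by rw [zI_sq, mI_sq, mul_one]
    · have e : g1 * (zI F * mI F) * g1⁻¹ = ζ * y := by rw [hζdef, hydef]; group
      rw [e]
      exact mul_mem hζC hyC
    · have e : g1 * (zI F * mI F) * g1⁻¹ = ζ * y := by rw [hζdef, hydef]; group
      rw [e]
      intro h
      apply hζK
      have : ζ = ζ * y * y⁻¹ := by group
      rw [this]
      exact mul_mem h (inv_mem hyK)
  · exact ⟨g1, hg1G, mI F, mI_mem, mI_sq, hm1, hmz, hyC, hyK⟩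

end Cfsg.Agent.Helper13.G2I
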