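import Mathlib
import Cfsg.Agent.Lib.Helper12.PSLOrder

/-!
# Homocyclic subgroups of `GL_n(q)` from Singer-type tori
-/

set_option autoImplicit false

namespace Cfsg.Agent.Helper12

open Module

section

variable {F : Type*} [Field F] [Fintype F]

/-- For `t ∣ q^d - 1` and `m d ≤ n`, `GL_n(q)` has a subgroup isomorphic to `(Z/t)^m`. -/
theorem exists_homocyclic_subgroup_GL (p : ℕ) [Fact p.Prime] [CharP F p] (n d m t : ℕ) [NeZero d]
    (hmd : m * d ≤ n) (ht : t ∣ Fintype.card F ^ d - 1) :
    ∃ H : Subgroup (GL (Fin n) F), Nonempty (H ≃* (Fin m → Multiplicative (ZMod t))) := by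
  classical
  obtain ⟨g, hg⟩ := exists_orderOf_units_extension (F := F) p d ht
  have hfin : finrank F (Fin m → FiniteField.Extension F p d) ≤ n := by
    rw [Module.finrank_pi_fintype]
    simp only [FiniteField.finrank_extension, Finset.sum_const, Finset.card_univ,
      Fintype.card_fin, smul_eq_mul]
    exact hmd
  obtain ⟨f, hf⟩ := exists_units_embedding (Fin m → FiniteField.Extension F p d) hfin
  let incl : (Fin m → Subgroup.zpowers g) →* (Fin m → (FiniteField.Extension F p d)ˣ) :=
    { toFun := fun c i => (c i : (FiniteField.Extension F p d)ˣ)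
      map_one' := rfl
      map_mul' := fun _ _ => rfl }
  have hincl : Function.Injective incl := by
    intro a b h
    funext i
    exact Subtype.ext (congrFun h i)
  let Φ : (Fin m → Subgroup.zpowers g) →* GL (Fin n) F :=
    f.comp ((MulEquiv.piUnits (M := fun _ : Fin m => FiniteField.Extension F p d)).symm.toMonoidHom.comp
      incl)
  have hΦ : Function.Injective Φ :=
    hf.comp ((MulEquiv.piUnits (M := fun _ : Fin m => FiniteField.Extension F p d)).symm.injective.comp
      hincl)
  have hcard : Nat.card (Subgroup.zpowers g) = Nat.card (Multiplicative (ZMod t)) := by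
    rw [Nat.card_zpowers, hg, Nat.card_congr Multiplicative.toAdd, Nat.card_zmod]
  refine ⟨Φ.range, ⟨(MonoidHom.ofInjective hΦ).symm.trans
    (MulEquiv.piCongrRight (fun _ => mulEquivOfCyclicCardEq hcard))⟩⟩

end

end Cfsg.Agent.Helper12
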