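import Mathlib
import Cfsg.Agent.Lib.Helper12.PSLOrder
import Cfsg.Agent.Lib.Helper15.Zsigmondy

/-!
# The `r`-part of `|GL_n(q)|` for a prime `r > n`, `r ∤ q`
-/

set_option autoImplicit false

namespace Cfsg.Agent.Helper12

open Cfsg.Agent.Helper15.Zsig

theorem factorization_pow_sub_one {q r : ℕ} (hr : r.Prime) (hq : 1 < q)
    (j : ℕ) (hj0 : 0 < j) (hjr : j < r) :
    (q ^ j - 1).factorization r =
      if orderOf ((q : ℕ) : ZMod r) ∣ j then
        (q ^ orderOf ((q : ℕ) : ZMod r) - 1).factorization r else 0 := by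
  haveI := Fact.mk hr
  obtain ⟨d, hd⟩ : ∃ d, d = orderOf ((q : ℕ) : ZMod r) := ⟨_, rfl⟩
  rw [← hd]
  split_ifs with h
  · obtain ⟨t, rfl⟩ := h
    have ht0 : 0 < t := by
      rcases Nat.eq_zero_or_pos t with h0 | h0
      · rw [h0, mul_zero] at hj0
        omega
      · exact h0
    have hd0 : 0 < d := by
      rcases Nat.eq_zero_or_pos d with h0 | h0
      · rw [h0, zero_mul] at hj0
        omega
      · exact h0
    have hqd : 1 ≤ q ^ d := Nat.one_le_pow _ _ (by omega)
    have h1 : q ^ (d * t) - 1 = (∑ i ∈ Finset.range t, (q ^ d) ^ i) * (q ^ d - 1) := by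
      have := geom_sum_mul_add (q ^ d - 1) t
      rw [Nat.sub_add_cancel hqd] at this
      rw [pow_mul]
      omega
    have hsum0 : (∑ i ∈ Finset.range t, (q ^ d) ^ i) ≠ 0 := by
      have h2 : (q ^ d) ^ 0 ≤ ∑ i ∈ Finset.range t, (q ^ d) ^ i :=
        Finset.single_le_sum (f := fun i => (q ^ d) ^ i) (fun _ _ => Nat.zero_le _)
          (Finset.mem_range.mpr ht0)
      rw [pow_zero] at h2
      omega
    have hqd1 : q ^ d - 1 ≠ 0 := by
      have : 1 < q ^ d := Nat.one_lt_pow (by omega) hq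
      omega
    rw [h1, Nat.factorization_mul hsum0 hqd1, Finsupp.add_apply,
      Nat.factorization_eq_zero_of_not_dvd, zero_add]
    intro hdiv
    have h3 : ((∑ i ∈ Finset.range t, (q ^ d) ^ i : ℕ) : ZMod r) = 0 :=
      (ZMod.natCast_eq_zero_iff _ _).mpr hdiv
    push_cast at h3
    rw [hd, pow_orderOf_eq_one] at h3
    simp only [one_pow, Finset.sum_const, Finset.card_range, nsmul_eq_mul, mul_one] at h3
    rw [ZMod.natCast_eq_zero_iff] at h3
    have h4 := Nat.le_of_dvd ht0 h3
    have h5 : t ≤ d * t := Nat.le_mul_of_pos_left t hd0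
    omega
  · apply Nat.factorization_eq_zero_of_not_dvd
    intro hdiv
    apply h
    rw [hd]
    exact orderOf_dvd_of_dvd_pow_sub_one (by omega) hdiv

theorem factorization_card_GL {q r n : ℕ} (hr : r.Prime) (hq : 1 < q) (hrq : ¬ r ∣ q)
    (hnr : n < r) :
    (∏ i : Fin n, (q ^ n - q ^ (i : ℕ))).factorization r =
      (n / orderOf ((q : ℕ) : ZMod r)) *
        (q ^ orderOf ((q : ℕ) : ZMod r) - 1).factorization r := by
  obtain ⟨g, hg⟩ : ∃ g : ℕ → ℕ, g = fun j => (q ^ j - 1).factorization r := ⟨_, rfl⟩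
  have hne : ∀ i ∈ (Finset.univ : Finset (Fin n)), q ^ n - q ^ (i : ℕ) ≠ 0 := by
    intro i _
    have : q ^ (i : ℕ) < q ^ n := Nat.pow_lt_pow_right hq i.2
    omega
  rw [Nat.factorization_prod hne, Finsupp.finset_sum_apply]
  have h1 : ∀ i : Fin n, (q ^ n - q ^ (i : ℕ)).factorization r = g (n - (i : ℕ)) := by
    intro i
    have hi : (i : ℕ) < n := i.2
    rw [pow_sub_pow_eq_mul q n i (le_of_lt hi), Nat.factorization_mul, Finsupp.add_apply,
      Nat.factorization_eq_zero_of_not_dvd, zero_add, hg]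
    · intro h
      exact hrq (hr.dvd_of_dvd_pow h)
    · exact pow_ne_zero _ (by omega)
    · have : 1 < q ^ (n - (i : ℕ)) := Nat.one_lt_pow (by omega) hq
      omega
  simp only [h1]
  rw [Fin.sum_univ_eq_sum_range (fun i => g (n - i)) n]
  have h2 : ∑ i ∈ Finset.range n, g (n - i) = ∑ j ∈ Finset.range n, g (j + 1) := by
    rw [← Finset.sum_range_reflect (fun j => g (j + 1)) n]
    refine Finset.sum_congr rfl fun j hj => ?_
    have := Finset.mem_range.mp hj
    congr 1
    omega
  rw [h2]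
  have h3 : ∀ j ∈ Finset.range n, g (j + 1) =
      if orderOf ((q : ℕ) : ZMod r) ∣ j + 1 then
        (q ^ orderOf ((q : ℕ) : ZMod r) - 1).factorization r else 0 := by
    intro j hj
    have := Finset.mem_range.mp hj
    rw [hg]
    exact factorization_pow_sub_one hr hq (j + 1) (by omega) (by omega)
  rw [Finset.sum_congr rfl h3, ← Finset.sum_filter, Finset.sum_const, Nat.card_multiples,
    smul_eq_mul]

theorem factorization_pow_orderOf_sub_one {q r : ℕ} (hr : r.Prime) (hq : 1 < q)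
    (hd0 : 0 < orderOf ((q : ℕ) : ZMod r)) :
    (q ^ orderOf ((q : ℕ) : ZMod r) - 1).factorization r =
      (cycN (orderOf ((q : ℕ) : ZMod r)) q).factorization r := by
  obtain ⟨d, hd⟩ : ∃ d, d = orderOf ((q : ℕ) : ZMod r) := ⟨_, rfl⟩
  rw [← hd] at hd0 ⊢
  rw [← prod_cycN hd0 hq, Nat.factorization_prod (fun c _ => (cycN_pos hq).ne'),
    Finsupp.finset_sum_apply, Finset.sum_eq_single d]
  · intro c hc hcd
    apply Nat.factorization_eq_zero_of_not_dvd
    intro hdiv
    apply hcd
    have hcpos : 0 < c := Nat.pos_of_mem_divisors hc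
    have h1 : r ∣ q ^ c - 1 := dvd_trans hdiv (cycN_dvd hcpos hq)
    have h2 : d ∣ c := by
      rw [hd]
      exact orderOf_dvd_of_dvd_pow_sub_one (by omega) h1
    exact Nat.dvd_antisymm (Nat.dvd_of_mem_divisors hc) h2
  · intro h
    exact absurd (Nat.mem_divisors_self d hd0.ne') h

end Cfsg.Agent.Helper12
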