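import Mathlib
import Cfsg.Agent.Lib.Helper8.HTDefs

/-!
# S3371, piece HTNOE (helper12 for helper8)

Two commuting elements `a, b` of exponent `p ≠ q`: some `b` or `a * b ^ k` has a non-zero fixed
vector.
-/

set_option autoImplicit false

namespace Cfsg.Agent.Helper8.HT

variable {q : ℕ} [Fact q.Prime] {V : Type*} [AddCommGroup V] [Module (ZMod q) V] [Finite V]
  {G : Type*} [Group G] [Finite G] (ρ : G →* (V ≃ₗ[ZMod q] V))

/-- reindexing a `p`-periodic sum along multiplication by a number prime to `p` -/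
theorem htnoe_sum_reindex {M : Type*} [AddCommMonoid M] {p : ℕ} (hp : p.Prime) (f : ℕ → M)
    (hf : ∀ n, f n = f (n % p)) {i : ℕ} (hi : ¬ p ∣ i) :
    ∑ k ∈ Finset.range p, f (k * i) = ∑ k ∈ Finset.range p, f k := by
  have hcop : Nat.Coprime p i := (Nat.Prime.coprime_iff_not_dvd hp).2 hi
  have hinj : Set.InjOn (fun k => (k * i) % p) (Finset.range p : Set ℕ) := by
    intro k hk k' hk' h
    simp only [Finset.coe_range, Set.mem_Iio] at hk hk'
    have h1 : k * i ≡ k' * i [MOD p] := h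
    have h2 : k ≡ k' [MOD p] := Nat.ModEq.cancel_right_of_coprime hcop h1
    exact Nat.ModEq.eq_of_lt_of_lt h2 hk hk'
  have hmaps : ∀ k ∈ Finset.range p, (k * i) % p ∈ Finset.range p :=
    fun k _ => Finset.mem_range.2 (Nat.mod_lt _ hp.pos)
  rw [Finset.sum_congr rfl (fun k _ => hf (k * i))]
  exact Finset.sum_nbij (fun k => (k * i) % p) hmaps hinj
    (Finset.surjOn_of_injOn_of_card_le _ hmaps hinj le_rfl) (fun _ _ => rfl)

/-- the sum over the powers of an element of exponent `p` is a fixed vector -/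
theorem htnoe_fix_sum {p : ℕ} (g : G) (hg : g ^ p = 1) (v : V) :
    ρ g (∑ i ∈ Finset.range p, ρ (g ^ i) v) = ∑ i ∈ Finset.range p, ρ (g ^ i) v := by
  rw [map_sum]
  have hstep : ∀ i, ρ g (ρ (g ^ i) v) = ρ (g ^ (i + 1)) v := by
    intro i
    rw [pow_succ', map_mul]
    rfl
  simp_rw [hstep]
  have h1 := Finset.sum_range_succ (fun i => ρ (g ^ i) v) p
  have h2 := Finset.sum_range_succ' (fun i => ρ (g ^ i) v) p
  rw [h1] at h2
  simp only [hg, pow_zero] at h2
  exact (add_right_cancel h2).symm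

/-- `p • v = 0` forces `v = 0` in a `ZMod q`-module, `p ≠ q` primes -/
theorem htnoe_nsmul_eq_zero {p : ℕ} [Fact p.Prime] (hpq : p ≠ q) {v : V} (h : p • v = 0) :
    v = 0 := by
  have hp : p.Prime := Fact.out
  have hq : q.Prime := Fact.out
  have hne : (p : ZMod q) ≠ 0 := by
    rw [Ne, ZMod.natCast_eq_zero_iff]
    intro hdvd
    exact hpq ((Nat.prime_dvd_prime_iff_eq hq hp).1 hdvd).symm
  rw [← Nat.cast_smul_eq_nsmul (ZMod q)] at h
  exact (smul_eq_zero.1 h).resolve_left hne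

/-- PIECE HTNOE. Two commuting elements of exponent `p ≠ q`: some `b` or `a * b ^ k` has a non-zero
fixed vector. -/
theorem exists_fix_of_rank_two [Nontrivial V] {p : ℕ} [Fact p.Prime] (hpq : p ≠ q) {a b : G}
    (hab : a * b = b * a) (ha : a ^ p = 1) (hb : b ^ p = 1) :
    (∃ v : V, v ≠ 0 ∧ ρ b v = v) ∨ ∃ k : ℕ, ∃ v : V, v ≠ 0 ∧ ρ (a * b ^ k) v = v := by
  by_contra hcon
  push_neg at hcon
  obtain ⟨hb0, hab0⟩ := hcon
  have hp : p.Prime := Fact.out
  have hTb : ∀ v : V, ∑ j ∈ Finset.range p, ρ (b ^ j) v = 0 := by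
    intro v
    by_contra hne
    exact hb0 _ hne (htnoe_fix_sum ρ b hb v)
  have hcomm : Commute a b := hab
  have hTab : ∀ k : ℕ, ∀ v : V, ∑ i ∈ Finset.range p, ρ ((a * b ^ k) ^ i) v = 0 := by
    intro k v
    by_contra hne
    have hpow : (a * b ^ k) ^ p = 1 := by
      rw [(hcomm.pow_right k).mul_pow, ha, ← pow_mul, mul_comm k p, pow_mul, hb, one_pow, one_mul]
    exact hab0 k _ hne (htnoe_fix_sum ρ _ hpow v)
  obtain ⟨v, hv⟩ := exists_ne (0 : V)
  apply hv
  have hsum : ∑ k ∈ Finset.range p, ∑ i ∈ Finset.range p, ρ ((a * b ^ k) ^ i) v = 0 :=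
    Finset.sum_eq_zero (fun k _ => hTab k v)
  rw [Finset.sum_comm] at hsum
  have hterm : ∀ i ∈ Finset.range p, ∑ k ∈ Finset.range p, ρ ((a * b ^ k) ^ i) v =
      if i = 0 then p • v else 0 := by
    intro i hi
    have hrew : ∀ k, ρ ((a * b ^ k) ^ i) v = ρ (a ^ i) (ρ (b ^ (k * i)) v) := by
      intro k
      rw [(hcomm.pow_right k).mul_pow, ← pow_mul, map_mul]
      rfl
    simp_rw [hrew]
    rw [← map_sum]
    split_ifs with h0
    · subst h0
      simp
    · have hi' : ¬ p ∣ i :=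
        Nat.not_dvd_of_pos_of_lt (Nat.pos_of_ne_zero h0) (Finset.mem_range.1 hi)
      rw [htnoe_sum_reindex hp (fun n => ρ (b ^ n) v)
        (fun n => by rw [pow_eq_pow_mod n hb]) hi', hTb, map_zero]
  rw [Finset.sum_congr rfl hterm, Finset.sum_ite_eq' (Finset.range p) 0 (fun _ => p • v),
    if_pos (Finset.mem_range.2 hp.pos)] at hsum
  exact htnoe_nsmul_eq_zero hpq hsum

end Cfsg.Agent.Helper8.HT
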