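import Mathlib
import Cfsg.Agent.Lib.Helper8.HTDefs
import Cfsg.Agent.Lib.Helper12.HTNOE

/-!
# S3371, piece HTIND (helper12 for helper8)

The fixed spaces of `a * z ^ k` (`k < p`) are independent when `z` is fixed-point-free.
-/

set_option autoImplicit false

namespace Cfsg.Agent.Helper8.HT

variable {q : ℕ} [Fact q.Prime] {V : Type*} [AddCommGroup V] [Module (ZMod q) V] [Finite V]
  {G : Type*} [Group G] [Finite G] (ρ : G →* (V ≃ₗ[ZMod q] V))

/-- PIECE HTIND. The fixed spaces of `a * z ^ k` (`k < p`) are independent when `z` is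
fixed-point-free. -/
theorem indep_fix {p : ℕ} [Fact p.Prime] (hpq : p ≠ q) {a z : G} (haz : a * z = z * a)
    (ha : a ^ p = 1) (hz : z ^ p = 1) (hfpf : ∀ v : V, v ≠ 0 → ρ z v ≠ v)
    (v : ℕ → V) (hv : ∀ k < p, ρ (a * z ^ k) (v k) = v k)
    (hsum : ∑ k ∈ Finset.range p, v k = 0) : ∀ k < p, v k = 0 := by
  intro m hm
  have hp : p.Prime := Fact.out
  have hcomm : Commute a z := haz
  have hTz : ∀ w : V, ∑ j ∈ Finset.range p, ρ (z ^ j) w = 0 := by
    intro w
    by_contra hne
    exact hfpf _ hne (htnoe_fix_sum ρ z hz w)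
  have hfixpow : ∀ k < p, ∀ i : ℕ, ρ ((a * z ^ k) ^ i) (v k) = v k := by
    intro k hk i
    induction i with
    | zero => simp
    | succ i ih => rw [pow_succ, map_mul, LinearEquiv.mul_apply, hv k hk, ih]
  have hkey : ∀ k ∈ Finset.range p, ∑ i ∈ Finset.range p, ρ ((a * z ^ m) ^ i) (v k) =
      if k = m then p • v m else 0 := by
    intro k hk
    have hk' := Finset.mem_range.1 hk
    have hdecomp : a * z ^ m = (a * z ^ k) * z ^ (m + p - k) := by
      rw [mul_assoc, ← pow_add]
      have hkm : k + (m + p - k) = m + p := by omega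
      rw [hkm, pow_add, hz, mul_one]
    have hc2 : Commute (a * z ^ k) (z ^ (m + p - k)) :=
      (hcomm.pow_right _).mul_left (Commute.pow_pow_self z k _)
    have hrew : ∀ i, ρ ((a * z ^ m) ^ i) (v k) = ρ (z ^ (i * (m + p - k))) (v k) := by
      intro i
      rw [hdecomp, hc2.mul_pow, (hc2.pow_pow i i).eq, map_mul, LinearEquiv.mul_apply,
        hfixpow k hk' i, ← pow_mul, mul_comm]
    simp_rw [hrew]
    split_ifs with hkm
    · subst hkm
      have hone : ∀ i, z ^ (i * (k + p - k)) = 1 := by
        intro i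
        have : k + p - k = p := by omega
        rw [this, mul_comm, pow_mul, hz, one_pow]
      have hone' : ∀ i ∈ Finset.range p, ρ (z ^ (i * (k + p - k))) (v k) = v k := by
        intro i _
        rw [hone i, map_one]
        rfl
      rw [Finset.sum_congr rfl hone', Finset.sum_const, Finset.card_range]
    · have hndvd : ¬ p ∣ (m + p - k) := by
        by_cases hle : k ≤ m
        · have he : m + p - k = (m - k) + p := by omega
          rw [he]
          intro hdvd
          have h1 : p ∣ m - k := (Nat.dvd_add_iff_left (dvd_refl p)).2 hdvd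
          have h2 : m - k = 0 := Nat.eq_zero_of_dvd_of_lt h1 (by omega)
          omega
        · exact Nat.not_dvd_of_pos_of_lt (by omega) (by omega)
      rw [htnoe_sum_reindex hp (fun n => ρ (z ^ n) (v k))
        (fun n => by rw [pow_eq_pow_mod n hz]) hndvd, hTz]
  have h0 : ∑ i ∈ Finset.range p, ρ ((a * z ^ m) ^ i) (∑ k ∈ Finset.range p, v k) = 0 := by
    rw [hsum]
    simp
  simp_rw [map_sum] at h0
  rw [Finset.sum_comm, Finset.sum_congr rfl hkey,
    Finset.sum_ite_eq' (Finset.range p) m (fun _ => p • v m),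
    if_pos (Finset.mem_range.2 hm)] at h0
  exact htnoe_nsmul_eq_zero hpq h0

end Cfsg.Agent.Helper8.HT
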