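import Mathlib
import Cfsg.Agent.Lib.Helper16.Center
import Cfsg.Agent.Lib.Helper19.PGroupBasic

/-!
# S3371, piece HTNE (helper12 for helper8)

The elements of a normal elementary abelian subgroup of order `p ^ 2` of a `p`-group.
-/

set_option autoImplicit false

namespace Cfsg.Agent.Helper8.HT

/-- a subgroup `U` of order `p ^ 2` containing the central subgroup `Z` of order `p`: conjugation
acts trivially on `U` modulo `Z` -/
theorem htne_conj_mod {P : Type*} [Group P] [Finite P] {p : ℕ} [Fact p.Prime]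
    (hP : IsPGroup p P) (U : Subgroup P) [U.Normal] (hU : Nat.card U = p ^ 2)
    {z : P} (hzU : z ∈ U) (hzc : z ∈ Subgroup.center P) (hzo : orderOf z = p)
    {u : P} (huU : u ∈ U) (s : P) : u⁻¹ * (s * u * s⁻¹) ∈ Subgroup.zpowers z := by
  have hp : p.Prime := Fact.out
  haveI hZn : (Subgroup.zpowers z).Normal := by
    constructor
    intro n hn g
    obtain ⟨k, rfl⟩ := hn
    have hc : z ^ k ∈ Subgroup.center P := Subgroup.zpow_mem _ hzc k
    have h1 : g * z ^ k = z ^ k * g := (Subgroup.mem_center_iff.1 hc g)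
    rw [h1, mul_assoc, mul_inv_cancel, mul_one]
    exact ⟨k, rfl⟩
  have hZcard : Nat.card (Subgroup.zpowers z) = p := by rw [Nat.card_zpowers, hzo]
  have hZU : Subgroup.zpowers z ≤ U := Subgroup.zpowers_le.2 hzU
  have hQ : IsPGroup p (P ⧸ Subgroup.zpowers z) := hP.to_quotient _
  have hsurj : Function.Surjective (QuotientGroup.mk' (Subgroup.zpowers z)) :=
    QuotientGroup.mk'_surjective (Subgroup.zpowers z)
  have hUn : U.Normal := inferInstance
  haveI hUbn : (U.map (QuotientGroup.mk' (Subgroup.zpowers z))).Normal :=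
    Subgroup.Normal.map hUn (QuotientGroup.mk' (Subgroup.zpowers z)) hsurj
  have hker : (QuotientGroup.mk' (Subgroup.zpowers z)).ker ≤ U := by
    rw [QuotientGroup.ker_mk']
    exact hZU
  have hidx : (U.map (QuotientGroup.mk' (Subgroup.zpowers z))).index = U.index :=
    Subgroup.index_map_eq U hsurj hker
  have hcard : Nat.card (U.map (QuotientGroup.mk' (Subgroup.zpowers z))) = p := by
    have h1 := Subgroup.card_eq_card_quotient_mul_card_subgroup (Subgroup.zpowers z)
    have h2 := Subgroup.card_mul_index (U.map (QuotientGroup.mk' (Subgroup.zpowers z)))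
    have h3 := Subgroup.card_mul_index U
    rw [hidx] at h2
    rw [hZcard] at h1
    rw [hU] at h3
    have hn : 0 < U.index := Nat.pos_of_ne_zero Subgroup.index_ne_zero_of_finite
    have h4 : Nat.card (U.map (QuotientGroup.mk' (Subgroup.zpowers z))) * (U.index * p) =
        p * (U.index * p) := by
      calc Nat.card (U.map (QuotientGroup.mk' (Subgroup.zpowers z))) * (U.index * p)
          = (Nat.card (U.map (QuotientGroup.mk' (Subgroup.zpowers z))) * U.index) * p := by ring
        _ = Nat.card P := by rw [h2, h1]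
        _ = p ^ 2 * U.index := h3.symm
        _ = p * (U.index * p) := by ring
    exact Nat.eq_of_mul_eq_mul_right (Nat.mul_pos hn hp.pos) h4
  have hcen := Cfsg.Agent.Helper19.normal_card_prime_le_center hQ
    (U.map (QuotientGroup.mk' (Subgroup.zpowers z))) hcard
  have hmem : (QuotientGroup.mk' (Subgroup.zpowers z)) u ∈
      Subgroup.center (P ⧸ Subgroup.zpowers z) :=
    hcen (Subgroup.mem_map_of_mem _ huU)
  have hcomm := Subgroup.mem_center_iff.1 hmem ((QuotientGroup.mk' (Subgroup.zpowers z)) s)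
  have heq : (QuotientGroup.mk' (Subgroup.zpowers z)) u =
      (QuotientGroup.mk' (Subgroup.zpowers z)) (s * u * s⁻¹) := by
    rw [map_mul, map_mul, hcomm, map_inv, mul_assoc, mul_inv_cancel, mul_one]
  exact QuotientGroup.eq.1 heq

/-- PIECE HTNE. The elements of a normal elementary abelian subgroup of order `p ^ 2` of a
`p`-group. (Pure group theory.) -/
theorem normal_rank_two_elements {P : Type*} [Group P] [Finite P] {p : ℕ} [Fact p.Prime]
    (hP : IsPGroup p P) (U : Subgroup P) [U.Normal] (hU : Nat.card U = p ^ 2)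
    (hUe : ∀ u ∈ U, u ^ p = 1) :
    ∃ z u : P, z ∈ U ∧ u ∈ U ∧ z ∈ Subgroup.center P ∧ orderOf z = p ∧ orderOf u = p ∧
      u ∉ Subgroup.zpowers z ∧ ∀ s : P, ∃ j : ℕ, s * u * s⁻¹ = u * z ^ j := by
  have hp : p.Prime := Fact.out
  have hUne : U ≠ ⊥ := by
    intro h
    rw [h, Subgroup.card_bot] at hU
    have h2 : 1 < p ^ 2 := Nat.one_lt_pow (by norm_num) hp.one_lt
    omega
  obtain ⟨z, hzU, hzc, hz1⟩ :=
    Cfsg.Agent.Helper16.exists_mem_center_of_normal_ne_bot' hP U hUne
  have hzo : orderOf z = p := orderOf_eq_prime (hUe z hzU) hz1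
  have hZcard : Nat.card (Subgroup.zpowers z) = p := by rw [Nat.card_zpowers, hzo]
  have hex : ∃ u ∈ U, u ∉ Subgroup.zpowers z := by
    by_contra hcon
    push_neg at hcon
    have hle : U ≤ Subgroup.zpowers z := hcon
    have hc := Subgroup.card_le_of_le hle
    rw [hU, hZcard] at hc
    have h2 : p < p ^ 2 := by
      calc p = p ^ 1 := (pow_one p).symm
        _ < p ^ 2 := Nat.pow_lt_pow_right hp.one_lt (by norm_num)
    omega
  obtain ⟨u, huU, huZ⟩ := hex
  have hu1 : u ≠ 1 := fun h => huZ (h ▸ Subgroup.one_mem _)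
  have huo : orderOf u = p := orderOf_eq_prime (hUe u huU) hu1
  refine ⟨z, u, hzU, huU, hzc, hzo, huo, huZ, ?_⟩
  intro s
  have hmem := htne_conj_mod hP U hU hzU hzc hzo huU s
  rw [← mem_powers_iff_mem_zpowers, Submonoid.mem_powers_iff] at hmem
  obtain ⟨j, hj⟩ := hmem
  refine ⟨j, ?_⟩
  rw [hj, mul_inv_cancel_left]

end Cfsg.Agent.Helper8.HT
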