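import Mathlib
import Cfsg.Prelude.Def_Blocks
import Cfsg.Agent.Lib.Helper24.CharLinear
import Cfsg.Agent.Lib.Helper24.CharComplete
import Cfsg.Agent.Lib.Helper18.GaloisConj
import Cfsg.Agent.Lib.Helper16.ITODefs
import Cfsg.Agent.Lib.Helper12.ITOPDVD

/-!
# S4707 piece GALY (helper12)

Galois conjugates of exceptional characters are exceptional.
-/

set_option autoImplicit false
set_option linter.unusedSectionVars false
set_option linter.unusedVariables false

namespace Cfsg.Agent.Helper16.ITO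

open scoped ComplexConjugate
open Cfsg Cfsg.Agent.Helper24

universe u v

variable {G : Type u} [Group G] [Fintype G]

variable (p : ℕ) [Fact p.Prime] (P : Subgroup G)

variable {p} {P}

/-- PIECE GALY: Galois conjugates of exceptional characters are exceptional. -/
theorem galois_mem (D : B0Data p P) (hp : 3 < p) (hcard : Nat.card P = p) {k : ℕ}
    (hk : Nat.Coprime (Nat.card G) k) {ζ : IrrCharacter G} (hζ : ζ ∈ D.Y) :
    (⟨fun g => (ζ : G → ℂ) (g ^ k), Cfsg.Agent.Helper18.isIrrCharacter_comp_pow ζ.2 hk⟩ :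
      IrrCharacter G) ∈ D.Y := by
  classical
  by_contra hY
  set ζk : IrrCharacter G :=
    ⟨fun g => (ζ : G → ℂ) (g ^ k), Cfsg.Agent.Helper18.isIrrCharacter_comp_pow ζ.2 hk⟩ with hζk
  have hdeg : (ζk : G → ℂ) 1 = (p : ℂ) - 2 := by
    have h1 : (ζk : G → ℂ) 1 = (ζ : G → ℂ) ((1 : G) ^ k) := rfl
    rw [h1, one_pow]
    exact D.degY ζ hζ
  have hp3 : ((p : ℕ) : ℂ) = (((p - 2 : ℕ) : ℕ) : ℂ) + 2 := by
    rw [Nat.cast_sub (by omega : 2 ≤ p)]
    push_cast
    ring
  by_cases h1 : ζk = principalChar G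
  · -- degree `1` against `p - 2`
    have h2 : (ζk : G → ℂ) 1 = 1 := by rw [h1]; rfl
    rw [hdeg] at h2
    have h3 : ((p : ℕ) : ℂ) = ((3 : ℕ) : ℂ) := by
      push_cast
      linear_combination h2
    have h4 : p = 3 := by exact_mod_cast h3
    omega
  by_cases h2 : ζk = D.χa
  · have h3 : (ζk : G → ℂ) 1 = (p : ℂ) - 1 := by rw [h2]; exact D.degχa
    rw [hdeg] at h3
    have h4 : (2 : ℂ) = 1 := by linear_combination -h3
    norm_num at h4
  · -- vanishing on `P ∖ 1`: degree divisible by `p`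
    have h3 := D.valD ζk h1 h2 hY
    obtain ⟨m, hm⟩ := dvd_degree_of_vanish p P hcard (isCharacter_of_isIrrCharacter ζk.2) h3
    rw [hdeg] at hm
    have h4 : ((p - 2 : ℕ) : ℂ) = ((p * m : ℕ) : ℂ) := by
      rw [← hm, Nat.cast_sub (by omega : 2 ≤ p)]
      push_cast
      ring
    have h5 : p - 2 = p * m := by exact_mod_cast h4
    rcases Nat.eq_zero_or_pos m with hm0 | hm0
    · subst hm0
      omega
    · have : p ≤ p * m := Nat.le_mul_of_pos_right p hm0
      omega

end Cfsg.Agent.Helper16.ITO
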