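import Mathlib
import Cfsg.Prelude.Def_Blocks
import Cfsg.Agent.Lib.Helper24.CharLinear
import Cfsg.Agent.Lib.Helper24.CharComplete
import Cfsg.Agent.Lib.Helper16.ITODefs
import Cfsg.Agent.Lib.Helper12.BR996WT

/-!
# S4707 piece SYLQ (helper12)

If `f` (a character of degree `p - 2`) vanishes on the nontrivial elements of odd order prime to
`p`, then every Sylow `q`-subgroup (`q` odd, `q ≠ p`) has order dividing `p - 2`.
-/

set_option autoImplicit false
set_option linter.unusedSectionVars false
set_option linter.unusedVariables false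

namespace Cfsg.Agent.Helper16.ITO

open scoped ComplexConjugate
open Cfsg Cfsg.Agent.Helper24

universe u v

variable {G : Type u} [Group G] [Fintype G]

variable (p : ℕ) [Fact p.Prime] (P : Subgroup G)

variable {p} {P}

/-- PIECE SYLQ. -/
theorem card_sylow_dvd (hp : 3 < p) {f : G → ℂ} (hf : IsCharacter G f) (hdeg : f 1 = (p : ℂ) - 2)
    (hodd : ∀ g : G, Odd (orderOf g) → ¬ p ∣ orderOf g → g ≠ 1 → f g = 0)
    (q : ℕ) [Fact q.Prime] (hq2 : q ≠ 2) (hqp : q ≠ p) (Q : Sylow q G) :
    Nat.card (Q : Subgroup G) ∣ p - 2 := by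
  classical
  letI : Fintype (IrrCharacter G) := irrFintype
  have hqprime : q.Prime := Fact.out
  have hpprime : p.Prime := Fact.out
  obtain ⟨a, ha⟩ := Cfsg.Agent.Helper10.BR996.Aw_nat (Q : Subgroup G) hf
  -- the sum over `Q` is `f 1`
  have hsum : Cfsg.Agent.Helper10.BR996.psum (Q : Subgroup G) f = f 1 := by
    unfold Cfsg.Agent.Helper10.BR996.psum
    rw [Finset.sum_eq_single (1 : G)]
    · rw [if_pos (Q : Subgroup G).one_mem]
    · intro z _ hz1
      split_ifs with hz
      · -- `z ∈ Q` has order a power of `q`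
        obtain ⟨k, hk⟩ := (Q.2 ⟨z, hz⟩)
        have hord : orderOf z ∣ q ^ k := by
          apply orderOf_dvd_of_pow_eq_one
          have := congrArg Subtype.val hk
          simpa using this
        obtain ⟨j, _, hj⟩ := (Nat.dvd_prime_pow hqprime).1 hord
        apply hodd z
        · rw [hj]
          exact Odd.pow (hqprime.odd_of_ne_two hq2)
        · rw [hj]
          intro hdvd
          have := hpprime.dvd_of_dvd_pow hdvd
          exact hqp ((Nat.prime_dvd_prime_iff_eq hpprime hqprime).1 this).symm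
        · exact hz1
      · rfl
    · intro h
      exact absurd (Finset.mem_univ _) h
  unfold Cfsg.Agent.Helper10.BR996.Aw at ha
  rw [hsum, hdeg] at ha
  have hQ0 : (Nat.card (Q : Subgroup G) : ℂ) ≠ 0 := by
    have : Nat.card (Q : Subgroup G) ≠ 0 := Nat.card_pos.ne'
    exact_mod_cast this
  have h3 : ((p - 2 : ℕ) : ℂ) = ((Nat.card (Q : Subgroup G) * a : ℕ) : ℂ) := by
    rw [Nat.cast_sub (by omega : 2 ≤ p)]
    push_cast
    rw [← ha, ← mul_assoc, mul_inv_cancel₀ hQ0, one_mul]
  have h4 : p - 2 = Nat.card (Q : Subgroup G) * a := by exact_mod_cast h3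
  exact ⟨a, h4⟩

end Cfsg.Agent.Helper16.ITO
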