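import Mathlib
import Cfsg.Agent.Lib.Helper18.InvC2Defs

/-!
# INVN part C2, piece RW: soundness of the collection process (pure group theory)
-/

set_option autoImplicit false
set_option linter.unusedSectionVars false
set_option linter.unusedVariables false

namespace Cfsg.Agent.Helper13.InvN

open Cfsg Cfsg.Lie Cfsg.Agent.Lead.Chev

section Abstract

variable {G : Type*} [Group G] (x : ℕ → G) (add : ℕ → ℕ → Option ℕ)

theorem rw_evw_nil : evw x [] = 1 := by
  simp [evw]

theorem rw_evw_cons (a : ℕ) (w : List ℕ) : evw x (a :: w) = x a * evw x w := by
  simp [evw]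

theorem rw_evw_append (w w' : List ℕ) : evw x (w ++ w') = evw x w * evw x w' := by
  simp [evw]

theorem evw_rwStep (hsq : ∀ i, x i * x i = 1)
    (hcomm : ∀ i j, i < j → x j * x i = x i * x j * evw x (add i j).toList)
    (w w' : List ℕ) (h : rwStep add w = some w') : evw x w' = evw x w := by
  induction w generalizing w' with
  | nil => simp [rwStep] at h
  | cons a t ih =>
    cases t with
    | nil => simp [rwStep] at h
    | cons b t =>
      rw [rwStep] at h
      by_cases hab : a = b
      · rw [if_pos hab] at h
        have h' : t = w' := by simpa using h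
        subst h' hab
        rw [rw_evw_cons, rw_evw_cons, ← mul_assoc, hsq, one_mul]
      · rw [if_neg hab] at h
        by_cases hba : b < a
        · rw [if_pos hba] at h
          have h' : b :: a :: ((add b a).toList ++ t) = w' := by simpa using h
          subst h'
          rw [rw_evw_cons, rw_evw_cons, rw_evw_append, rw_evw_cons, rw_evw_cons, ← mul_assoc,
            ← mul_assoc, ← mul_assoc, ← hcomm b a hba]
        · rw [if_neg hba] at h
          rw [Option.map_eq_some_iff] at h
          obtain ⟨w'', hw'', rfl⟩ := h
          rw [rw_evw_cons, rw_evw_cons x a (b :: t), ih w'' hw'']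

theorem evw_rwNorm (hsq : ∀ i, x i * x i = 1)
    (hcomm : ∀ i j, i < j → x j * x i = x i * x j * evw x (add i j).toList)
    (n : ℕ) (w : List ℕ) : evw x (rwNorm add n w) = evw x w := by
  induction n generalizing w with
  | zero => rfl
  | succ n ih =>
    rw [rwNorm]
    cases h : rwStep add w with
    | none => rfl
    | some w' =>
      simp only
      rw [ih w', evw_rwStep x add hsq hcomm w w' h]

end Abstract

end Cfsg.Agent.Helper13.InvN
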