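import Mathlib
import Cfsg.Agent.Lib.Helper18.InvC2Defs
import Cfsg.Agent.Lib.Helper19.InvC2MOVE
import Cfsg.Agent.Lib.Helper25.InvC2COMM

/-!
# INVN part C2, piece UP (core): the fusion inside a bigger product, with the fusion identity as a hypothesis
-/

set_option autoImplicit false
set_option linter.unusedSectionVars false
set_option linter.unusedVariables false

namespace Cfsg.Agent.Helper13.InvN

open Cfsg Cfsg.Lie Cfsg.Agent.Lead.Chev

variable {F : Type*} [Field F] [CharP F 2] {D : ChevalleyDatum} (hF : ChevFacts D F)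
include hF

/-- two products of root elements commute when the factors do -/
theorem up_commute_xprod (L L' : List ℕ)
    (h : ∀ a ∈ L, ∀ b ∈ L', Commute (xGL D hF.xadd a 1) (xGL D hF.xadd b 1)) :
    Commute (xprod hF L) (xprod hF L') := by
  unfold xprod
  apply Commute.list_prod_right
  intro y hy
  rw [List.mem_map] at hy
  obtain ⟨b, hb, rfl⟩ := hy
  apply Commute.list_prod_left
  intro z hz
  rw [List.mem_map] at hz
  obtain ⟨a, ha, rfl⟩ := hz
  exact h a ha b hb

/-- the roots of the conjugating element of a checked fusion datum are roots -/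
theorem up_gs_lt (FD : FuseData) (h : fuseChk D FD = true) : ∀ g ∈ FD.gs, g < D.nroots := by
  intro g hg
  unfold fuseChk at h
  simp only [Bool.and_eq_true, List.all_eq_true, decide_eq_true_eq] at h
  obtain ⟨⟨⟨⟨⟨h1, _⟩, h3⟩, _⟩, _⟩, _⟩ := h
  unfold FuseData.gs at hg
  rw [List.mem_map] at hg
  obtain ⟨i, hi, rfl⟩ := hg
  have hi' := h3 i hi
  apply h1
  unfold FuseData.rt
  rw [List.getD_eq_getElem _ _ hi']
  exact List.getElem_mem hi'

theorem up_core (FD : FuseData) (h : fuseChk D FD = true)
    (hfuse : xprod hF FD.gs * xprod hF FD.q * (xprod hF FD.gs)⁻¹ = xprod hF FD.q')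
    (rest : List ℕ)
    (hrest : ∀ r ∈ rest, r < D.nroots ∧ ∀ g ∈ FD.gs, evenComm D g r = true) :
    CJ D F (xprod hF (FD.q ++ rest)) (xprod hF (FD.q' ++ rest)) := by
  refine ⟨xprod hF FD.gs, xprod_mem_group hF _, ?_⟩
  have hc : Commute (xprod hF FD.gs) (xprod hF rest) := by
    apply up_commute_xprod
    intro a ha b hb
    exact (comm_of_evenComm hF a b (up_gs_lt hF FD h a ha) (hrest b hb).1
      ((hrest b hb).2 a ha) 1 1).symm
  rw [xprod_append, xprod_append, ← hfuse]
  have hc' : (xprod hF FD.gs)⁻¹ * xprod hF rest = xprod hF rest * (xprod hF FD.gs)⁻¹ :=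
    hc.inv_left.eq
  rw [mul_assoc (xprod hF FD.gs * xprod hF FD.q), hc']
  simp only [mul_assoc]

end Cfsg.Agent.Helper13.InvN
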