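import Mathlib
import Cfsg.Agent.Lib.Helper12.InvC2UPCore
import Cfsg.Agent.Lib.Helper22.InvC2FUSE

/-!
# INVN part C2, piece UP: the fusion inside a bigger product
-/

set_option autoImplicit false
set_option linter.unusedSectionVars false
set_option linter.unusedVariables false

namespace Cfsg.Agent.Helper13.InvN

open Cfsg Cfsg.Lie Cfsg.Agent.Lead.Chev

variable {F : Type*} [Field F] [CharP F 2] {D : ChevalleyDatum} (hF : ChevFacts D F)
include hF

theorem cj_up (FD : FuseData) (h : fuseChk D FD = true) (rest : List ℕ)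
    (hrest : ∀ r ∈ rest, r < D.nroots ∧ ∀ g ∈ FD.gs, evenComm D g r = true) :
    CJ D F (xprod hF (FD.q ++ rest)) (xprod hF (FD.q' ++ rest)) :=
  up_core hF FD h (fuse_sound hF FD h) rest hrest

end Cfsg.Agent.Helper13.InvN
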