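import Mathlib
import Cfsg.Prelude.Def_Characters
import Cfsg.Agent.Lib.Helper24.CharAlgebra
import Cfsg.Agent.Lib.Helper24.CharOrtho

/-!
# A family of nonzero characters whose sum has norm equal to the size of the family
consists of pairwise distinct irreducible characters.
-/

set_option autoImplicit false

namespace Cfsg.Agent.Helper12

open Cfsg Cfsg.Agent.Helper24

universe u

theorem irr_of_sum_norm {G : Type u} [Group G] [Fintype G] {ι : Type*} [Fintype ι]
    (φ : ι → G → ℂ) (hφ : ∀ i, IsCharacter G (φ i)) (hne : ∀ i, φ i ≠ 0)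
    (hnorm : classInner (∑ i, φ i) (∑ i, φ i) = (Fintype.card ι : ℂ)) :
    (∀ i, IsIrrCharacter G (φ i)) ∧ Function.Injective φ := by
  classical
  letI : Fintype (IrrCharacter G) := irrFintype
  have hex : ∀ i j, ∃ n : ℕ, classInner (φ i) (φ j) = n := fun i j =>
    classInner_char_nat (hφ i) (hφ j)
  choose n hn using hex
  have hdiag : ∀ i, 1 ≤ n i i := by
    intro i
    rcases Nat.eq_zero_or_pos (n i i) with h0 | h0
    · exfalso
      apply hne i
      apply classInner_self_eq_zero
      rw [hn, h0]
      simp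
    · exact h0
  have hsum : ∑ i, ∑ j, n i j = ∑ _i : ι, 1 := by
    have h1 : ((∑ i, ∑ j, n i j : ℕ) : ℂ) = ((∑ _i : ι, 1 : ℕ) : ℂ) := by
      rw [Finset.sum_const, Finset.card_univ, smul_eq_mul, mul_one, ← hnorm,
        classInner_sum_left]
      push_cast
      refine Finset.sum_congr rfl fun i _ => ?_
      rw [classInner_sum_right]
      refine Finset.sum_congr rfl fun j _ => ?_
      rw [hn]
    exact_mod_cast h1
  have hrow : ∀ i, 1 ≤ ∑ j, n i j := fun i =>
    le_trans (hdiag i) (Finset.single_le_sum (f := fun j => n i j) (fun _ _ => Nat.zero_le _)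
      (Finset.mem_univ i))
  have hrow1 : ∀ i, ∑ j, n i j = 1 := by
    intro i
    have := (Finset.sum_eq_sum_iff_of_le (s := Finset.univ) (f := fun _ : ι => 1)
      (g := fun i => ∑ j, n i j) (fun i _ => hrow i)).mp hsum.symm i (Finset.mem_univ i)
    exact this.symm
  have hd1 : ∀ i, n i i = 1 := by
    intro i
    have h1 := hrow1 i
    have h2 : n i i ≤ ∑ j, n i j :=
      Finset.single_le_sum (f := fun j => n i j) (fun _ _ => Nat.zero_le _) (Finset.mem_univ i)
    have := hdiag i
    omega
  have hoff : ∀ i j, i ≠ j → n i j = 0 := by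
    intro i j hij
    have h1 := hrow1 i
    have h2 := Finset.add_sum_erase Finset.univ (fun j => n i j) (Finset.mem_univ i)
    have h3 : n i j ≤ ∑ x ∈ Finset.univ.erase i, n i x :=
      Finset.single_le_sum (f := fun j => n i j) (fun _ _ => Nat.zero_le _)
        (Finset.mem_erase.mpr ⟨hij.symm, Finset.mem_univ j⟩)
    have h4 := hd1 i
    omega
  refine ⟨fun i => isIrrCharacter_of_classInner_self_eq_one (hφ i) ?_, ?_⟩
  · rw [hn, hd1]
    simp
  · intro i j hij
    by_contra hne'
    have h1 : classInner (φ i) (φ j) = 0 := by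
      rw [hn, hoff i j hne']
      simp
    rw [← hij, hn, hd1] at h1
    simp at h1

end Cfsg.Agent.Helper12
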