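import Mathlib

/-!
# The Kronecker-module representation of `C_p^3 ⋊ C_2`

On `V₊ ⊕ V₋` with `dim V₊ = m`, `dim V₋ = m + 1` we consider the maps `B1` (inclusion) and
`B2` (shift) from `V₊` to `V₋`.  A matrix commuting with the involution `diag(1, -1)` and the two
unipotent matrices `1 + B1`, `1 + B2` is a scalar.
-/

set_option autoImplicit false

namespace Cfsg.Agent.Helper12.KronRep

open Matrix

variable (F : Type*) [Field F] (m : ℕ)

/-- inclusion `V₊ → V₋`. -/
def B1 : Matrix (Fin (m + 1)) (Fin m) F := Matrix.of fun i j => if i = Fin.castSucc j then 1 else 0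

/-- shift `V₊ → V₋`. -/
def B2 : Matrix (Fin (m + 1)) (Fin m) F := Matrix.of fun i j => if i = Fin.succ j then 1 else 0

/-- a corner matrix unit. -/
def B3 : Matrix (Fin (m + 1)) (Fin m) F :=
  Matrix.of fun i j => if i = Fin.last m ∧ (j : ℕ) = 0 then 1 else 0

variable {F m}

theorem mul_B1 (S : Matrix (Fin (m + 1)) (Fin (m + 1)) F) (i : Fin (m + 1)) (j : Fin m) :
    (S * B1 F m) i j = S i (Fin.castSucc j) := by
  simp [Matrix.mul_apply, B1]

theorem mul_B2 (S : Matrix (Fin (m + 1)) (Fin (m + 1)) F) (i : Fin (m + 1)) (j : Fin m) :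
    (S * B2 F m) i j = S i (Fin.succ j) := by
  simp [Matrix.mul_apply, B2]

theorem B1_mul_castSucc (P : Matrix (Fin m) (Fin m) F) (i j : Fin m) :
    (B1 F m * P) (Fin.castSucc i) j = P i j := by
  simp [Matrix.mul_apply, B1, Fin.castSucc_inj]

theorem B1_mul_last (P : Matrix (Fin m) (Fin m) F) (j : Fin m) :
    (B1 F m * P) (Fin.last m) j = 0 := by
  simp only [Matrix.mul_apply, B1, Matrix.of_apply]
  apply Finset.sum_eq_zero
  intro k _
  rw [if_neg (Fin.castSucc_lt_last k).ne', zero_mul]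

theorem B2_mul_succ (P : Matrix (Fin m) (Fin m) F) (i j : Fin m) :
    (B2 F m * P) (Fin.succ i) j = P i j := by
  simp [Matrix.mul_apply, B2, Fin.succ_inj]

theorem B2_mul_zero (P : Matrix (Fin m) (Fin m) F) (j : Fin m) :
    (B2 F m * P) 0 j = 0 := by
  simp only [Matrix.mul_apply, B2, Matrix.of_apply]
  apply Finset.sum_eq_zero
  intro k _
  rw [if_neg (Fin.succ_ne_zero k).symm, zero_mul]

/-- The Toeplitz argument: `B1 P = S B1` and `B2 P = S B2` force `P` and `S` to be the same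
scalar. -/
theorem scalar_of_intertwine (hm : 1 ≤ m) (P : Matrix (Fin m) (Fin m) F)
    (S : Matrix (Fin (m + 1)) (Fin (m + 1)) F)
    (h1 : B1 F m * P = S * B1 F m) (h2 : B2 F m * P = S * B2 F m) :
    ∃ a : F, P = a • (1 : Matrix (Fin m) (Fin m) F) ∧
      S = a • (1 : Matrix (Fin (m + 1)) (Fin (m + 1)) F) := by
  have E1 : ∀ i j (hi : i < m) (hj : j < m),
      S ⟨i, by omega⟩ ⟨j, by omega⟩ = P ⟨i, hi⟩ ⟨j, hj⟩ := by
    intro i j hi hj
    have := congrFun (congrFun h1 (Fin.castSucc ⟨i, hi⟩)) ⟨j, hj⟩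
    rw [B1_mul_castSucc, mul_B1] at this
    exact this.symm
  have E2 : ∀ j (hj : j < m), S ⟨m, by omega⟩ ⟨j, by omega⟩ = 0 := by
    intro j hj
    have := congrFun (congrFun h1 (Fin.last m)) ⟨j, hj⟩
    rw [B1_mul_last, mul_B1] at this
    exact this.symm
  have E3 : ∀ j (hj : j < m), S ⟨0, by omega⟩ ⟨j + 1, by omega⟩ = 0 := by
    intro j hj
    have := congrFun (congrFun h2 0) ⟨j, hj⟩
    rw [B2_mul_zero, mul_B2] at this
    exact this.symm
  have E4 : ∀ i j (hi : i < m) (hj : j < m),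
      S ⟨i + 1, by omega⟩ ⟨j + 1, by omega⟩ = P ⟨i, hi⟩ ⟨j, hj⟩ := by
    intro i j hi hj
    have := congrFun (congrFun h2 (Fin.succ ⟨i, hi⟩)) ⟨j, hj⟩
    rw [B2_mul_succ, mul_B2] at this
    exact this.symm
  -- shifting along diagonals
  have hshift : ∀ i j (hi : i + 1 < m) (hj : j + 1 < m),
      P ⟨i + 1, hi⟩ ⟨j + 1, hj⟩ = P ⟨i, by omega⟩ ⟨j, by omega⟩ := by
    intro i j hi hj
    rw [← E1 (i + 1) (j + 1) hi hj, E4 i j (by omega) (by omega)]
  -- above the diagonal
  have hup : ∀ i j (hi : i < m) (hj : j < m), i < j → P ⟨i, hi⟩ ⟨j, hj⟩ = 0 := by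
    intro i
    induction i with
    | zero =>
      intro j hi hj hij
      obtain ⟨j', rfl⟩ : ∃ j', j = j' + 1 := ⟨j - 1, by omega⟩
      rw [← E1 0 (j' + 1) hi hj]
      exact E3 j' (by omega)
    | succ i ih =>
      intro j hi hj hij
      obtain ⟨j', rfl⟩ : ∃ j', j = j' + 1 := ⟨j - 1, by omega⟩
      rw [hshift i j' hi hj]
      exact ih j' (by omega) (by omega) (by omega)
  -- below the diagonal: induct on the distance to the last row
  have hdown : ∀ d i j (hi : i < m) (hj : j < m), i + d + 1 = m → j < i → P ⟨i, hi⟩ ⟨j, hj⟩ = 0 := by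
    intro d
    induction d with
    | zero =>
      intro i j hi hj hd hji
      rw [← E4 i j hi hj]
      have : (⟨i + 1, by omega⟩ : Fin (m + 1)) = ⟨m, by omega⟩ := Fin.ext (by simpa using hd)
      rw [this]
      exact E2 (j + 1) (by omega)
    | succ d ih =>
      intro i j hi hj hd hji
      rw [← hshift i j (by omega) (by omega)]
      exact ih (i + 1) (j + 1) (by omega) (by omega) (by omega) (by omega)
  have hdiag : ∀ i (hi : i < m), P ⟨i, hi⟩ ⟨i, hi⟩ = P ⟨0, by omega⟩ ⟨0, by omega⟩ := by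
    intro i
    induction i with
    | zero => intro hi; rfl
    | succ i ih =>
      intro hi
      rw [hshift i i hi hi]
      exact ih (by omega)
  refine ⟨P ⟨0, by omega⟩ ⟨0, by omega⟩, ?_, ?_⟩
  · ext ⟨i, hi⟩ ⟨j, hj⟩
    rw [Matrix.smul_apply, Matrix.one_apply, smul_eq_mul]
    rcases lt_trichotomy i j with h | h | h
    · rw [hup i j hi hj h, if_neg (by simp [Fin.ext_iff]; omega), mul_zero]
    · subst h
      rw [hdiag i hi, if_pos rfl, mul_one]
    · obtain ⟨d, hd⟩ : ∃ d, i + d + 1 = m := ⟨m - 1 - i, by omega⟩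
      rw [hdown d i j hi hj hd h, if_neg (by simp [Fin.ext_iff]; omega), mul_zero]
  · ext ⟨i, hi⟩ ⟨j, hj⟩
    rw [Matrix.smul_apply, Matrix.one_apply, smul_eq_mul]
    by_cases hjm : j < m
    · by_cases him : i < m
      · rw [E1 i j him hjm]
        rcases lt_trichotomy i j with h | h | h
        · rw [hup i j him hjm h, if_neg (by simp [Fin.ext_iff]; omega), mul_zero]
        · subst h
          rw [hdiag i him, if_pos rfl, mul_one]
        · obtain ⟨d, hd⟩ : ∃ d, i + d + 1 = m := ⟨m - 1 - i, by omega⟩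
          rw [hdown d i j him hjm hd h, if_neg (by simp [Fin.ext_iff]; omega), mul_zero]
      · have him' : i = m := by omega
        subst him'
        rw [E2 j hjm, if_neg (by simp [Fin.ext_iff]; omega), mul_zero]
    · have hjm' : j = m := by omega
      subst hjm'
      rcases Nat.eq_zero_or_pos i with h0 | h0
      · subst h0
        obtain ⟨j', hj'⟩ : ∃ j', j = j' + 1 := ⟨j - 1, by omega⟩
        have : (⟨j, hj⟩ : Fin (j + 1)) = ⟨j' + 1, by omega⟩ := Fin.ext hj'
        rw [this, E3 j' (by omega), if_neg (by simp [Fin.ext_iff]), mul_zero]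
      · obtain ⟨i', hi'⟩ : ∃ i', i = i' + 1 := ⟨i - 1, by omega⟩
        obtain ⟨j', hj'⟩ : ∃ j', j = j' + 1 := ⟨j - 1, by omega⟩
        have e1 : (⟨i, hi⟩ : Fin (j + 1)) = ⟨i' + 1, by omega⟩ := Fin.ext hi'
        have e2 : (⟨j, hj⟩ : Fin (j + 1)) = ⟨j' + 1, by omega⟩ := Fin.ext hj'
        rw [e1, e2, E4 i' j' (by omega) (by omega)]
        by_cases hij : i' = j'
        · subst hij
          rw [hdiag i' (by omega), if_pos rfl, mul_one]
        · rw [hup i' j' (by omega) (by omega) (by omega), if_neg (by simp [Fin.ext_iff]; omega),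
            mul_zero]

end Cfsg.Agent.Helper12.KronRep
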