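import Mathlib
import Cfsg.Agent.Lib.Helper12.KronRep

/-!
# Block matrices for the Kronecker-module representation
-/

set_option autoImplicit false

namespace Cfsg.Agent.Helper12.KronRep

open Matrix

variable {F : Type*} [Field F] {m : ℕ}

/-- the index type. -/
abbrev Idx (m : ℕ) := Fin m ⊕ Fin (m + 1)

/-- the linear combination of the three maps. -/
def Bv (m : ℕ) (v : Fin 3 → F) : Matrix (Fin (m + 1)) (Fin m) F :=
  v 0 • B1 F m + v 1 • B2 F m + v 2 • B3 F m

/-- unipotent block matrix. -/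
def U (m : ℕ) (v : Fin 3 → F) : Matrix (Idx m) (Idx m) F := fromBlocks 1 0 (Bv m v) 1

/-- diagonal block matrix. -/
def T (m : ℕ) (u : F) : Matrix (Idx m) (Idx m) F := fromBlocks 1 0 0 (u • 1)

theorem Bv_add (v w : Fin 3 → F) : Bv m (v + w) = Bv m v + Bv m w := by
  simp only [Bv, Pi.add_apply, add_smul]
  abel

theorem Bv_zero : Bv m (0 : Fin 3 → F) = 0 := by
  simp [Bv]

theorem Bv_smul (c : F) (v : Fin 3 → F) : Bv m (c • v) = c • Bv m v := by
  simp only [Bv, Pi.smul_apply, smul_eq_mul, smul_add, smul_smul]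

theorem U_mul (v w : Fin 3 → F) : U m v * U m w = U m (v + w) := by
  simp only [U, fromBlocks_multiply, Bv_add]
  simp [add_comm]

theorem U_zero : U m (0 : Fin 3 → F) = 1 := by
  simp [U, Bv_zero]

theorem T_mul (u u' : F) : T m u * T m u' = T m (u * u') := by
  simp only [T, fromBlocks_multiply]
  simp [smul_smul, mul_comm]

theorem T_one : T m (1 : F) = 1 := by
  simp [T]

theorem det_U (v : Fin 3 → F) : (U m v).det = 1 := by
  simp [U, det_fromBlocks_zero₁₂]

theorem det_T (u : F) : (T m u).det = u ^ (m + 1) := by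
  simp [T, det_fromBlocks_zero₁₂]

theorem T_mul_U (u : F) (v : Fin 3 → F) : T m u * U m v = U m (u • v) * T m u := by
  simp only [T, U, fromBlocks_multiply, Bv_smul]
  simp

theorem U_pow (v : Fin 3 → F) (k : ℕ) : U m v ^ k = U m (k • v) := by
  induction k with
  | zero => simp [U_zero]
  | succ k ih => rw [pow_succ, ih, U_mul, succ_nsmul]

theorem trace_T (u : F) : (T m u).trace = (m : F) + u * ((m : F) + 1) := by
  simp [T, Matrix.trace, Fintype.sum_sum_type, mul_comm]

theorem U_mul_T (v : Fin 3 → F) (u : F) :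
    U m v * T m u = fromBlocks 1 0 (Bv m v) (u • 1) := by
  simp only [T, U, fromBlocks_multiply]
  simp

theorem Bv_eq_zero (hm : 2 ≤ m) (v : Fin 3 → F) (h : Bv m v = 0) : v = 0 := by
  have e0 := congrFun (congrFun h ⟨0, by omega⟩) ⟨0, by omega⟩
  have e1 := congrFun (congrFun h ⟨1, by omega⟩) ⟨0, by omega⟩
  have e2 := congrFun (congrFun h ⟨m, by omega⟩) ⟨0, by omega⟩
  simp only [Bv, B1, B2, B3, Matrix.add_apply, Matrix.smul_apply, Matrix.of_apply, smul_eq_mul,
    Matrix.zero_apply, Fin.ext_iff, Fin.val_castSucc, Fin.val_succ, Fin.val_last] at e0 e1 e2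
  have n1 : ¬ (0 = m) := by omega
  have n2 : ¬ (1 = m) := by omega
  have n3 : ¬ (m = 0) := by omega
  have n4 : ¬ (m = 0 + 1) := by omega
  have h0 : v 0 = 0 := by
    simpa [n1] using e0
  have h1 : v 1 = 0 := by
    simpa [n2] using e1
  have h2 : v 2 = 0 := by
    simpa [n3, n4] using e2
  funext k
  fin_cases k
  · exact h0
  · exact h1
  · exact h2

/-- if `U v * T u` is a scalar then it is the identity. -/
theorem eq_of_scalar (hm : 2 ≤ m) (v : Fin 3 → F) (u r : F)
    (h : U m v * T m u = r • (1 : Matrix (Idx m) (Idx m) F)) : v = 0 ∧ u = 1 := by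
  rw [U_mul_T, ← fromBlocks_one, fromBlocks_smul, fromBlocks_inj] at h
  obtain ⟨h11, -, h21, h22⟩ := h
  have hr : r = 1 := by
    have := congrFun (congrFun h11 ⟨0, by omega⟩) ⟨0, by omega⟩
    simpa using this.symm
  refine ⟨Bv_eq_zero hm v (by simpa using h21), ?_⟩
  have := congrFun (congrFun h22 0) 0
  simpa [hr] using this

/-- Matrices commuting with `T (-1)`, `U e₀`, `U e₁` are scalar. -/
theorem scalar_of_commute (hm : 1 ≤ m) (h2 : (2 : F) ≠ 0) (g : Matrix (Idx m) (Idx m) F)
    (hT : T m (-1) * g = g * T m (-1))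
    (h0 : U m (Pi.single 0 1) * g = g * U m (Pi.single 0 1))
    (h1 : U m (Pi.single 1 1) * g = g * U m (Pi.single 1 1)) :
    ∃ a : F, g = a • (1 : Matrix (Idx m) (Idx m) F) := by
  obtain ⟨P, Q, R, S, rfl⟩ : ∃ P Q R S, g = fromBlocks P Q R S :=
    ⟨_, _, _, _, (fromBlocks_toBlocks g).symm⟩
  simp only [T, fromBlocks_multiply, fromBlocks_inj] at hT
  obtain ⟨-, hQ, hR, -⟩ := hT
  have hQ0 : Q = 0 := by
    have : (2 : F) • Q = 0 := by
      rw [two_smul]
      have h : Q = -Q := by simpa using hQ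
      exact add_eq_zero_iff_eq_neg.mpr h
    rcases smul_eq_zero.mp this with h | h
    · exact absurd h h2
    · exact h
  have hR0 : R = 0 := by
    have : (2 : F) • R = 0 := by
      rw [two_smul]
      have h : -R = R := by simpa using hR
      exact add_eq_zero_iff_neg_eq.mpr h
    rcases smul_eq_zero.mp this with h | h
    · exact absurd h h2
    · exact h
  subst hQ0 hR0
  have hB0 : Bv m (Pi.single 0 1 : Fin 3 → F) = B1 F m := by
    simp [Bv]
  have hB1 : Bv m (Pi.single 1 1 : Fin 3 → F) = B2 F m := by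
    simp [Bv]
  simp only [U, fromBlocks_multiply, fromBlocks_inj, hB0] at h0
  simp only [U, fromBlocks_multiply, fromBlocks_inj, hB1] at h1
  obtain ⟨-, -, e0, -⟩ := h0
  obtain ⟨-, -, e1, -⟩ := h1
  obtain ⟨a, hP, hS⟩ := scalar_of_intertwine hm P S (by simpa using e0) (by simpa using e1)
  refine ⟨a, ?_⟩
  rw [hP, hS, ← fromBlocks_one, fromBlocks_smul]
  simp

theorem pow_smul_comm {n : Type*} [Fintype n] [DecidableEq n] (A g : Matrix n n F) (c : F)
    (h : A * g = c • (g * A)) (k : ℕ) : A ^ k * g = c ^ k • (g * A ^ k) := by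
  induction k with
  | zero => simp
  | succ k ih =>
    rw [pow_succ, Matrix.mul_assoc, h, Matrix.mul_smul, ← Matrix.mul_assoc, ih, Matrix.smul_mul,
      smul_smul, Matrix.mul_assoc, ← pow_succ, ← pow_succ']

theorem eq_one_of_smul_self {n : Type*} [Fintype n] [DecidableEq n] [Nonempty n]
    (g : Matrix n n F) (hg : g.det = 1) (c : F) (h : g = c • g) : c = 1 := by
  have hu : IsUnit g.det := by rw [hg]; exact isUnit_one
  have h1 : (1 : Matrix n n F) = c • (1 : Matrix n n F) := by
    have := congrArg (fun x => x * g⁻¹) h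
    simp only [Matrix.smul_mul, Matrix.mul_nonsing_inv g hu] at this
    exact this
  obtain ⟨i⟩ := ‹Nonempty n›
  have := congrFun (congrFun h1 i) i
  simpa using this.symm

end Cfsg.Agent.Helper12.KronRep
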