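import Mathlib
import Cfsg.Agent.Lib.Helper12.KronRep2

/-!
# Projective commutant of the Kronecker-module representation over `ZMod p`
-/

set_option autoImplicit false

namespace Cfsg.Agent.Helper12.KronRep

open Matrix

variable {m : ℕ}

theorem scalar_of_proj_commute (p : ℕ) [Fact p.Prime] (hp : p ≠ 2) (hm : 1 ≤ m)
    (g : Matrix (Idx m) (Idx m) (ZMod p)) (hg : g.det = 1)
    (hU : ∀ v : Fin 3 → ZMod p, ∃ c : ZMod p, U m v * g = c • (g * U m v))
    (hT : ∃ c : ZMod p, T m (-1) * g = c • (g * T m (-1))) :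
    ∃ a : ZMod p, g = a • (1 : Matrix (Idx m) (Idx m) (ZMod p)) := by
  have h2 : (2 : ZMod p) ≠ 0 := by
    intro h
    have h' : ((2 : ℕ) : ZMod p) = 0 := by exact_mod_cast h
    rw [ZMod.natCast_eq_zero_iff] at h'
    have := (Nat.prime_dvd_prime_iff_eq (Fact.out : p.Prime) Nat.prime_two).mp h'
    exact hp this
  have hu : IsUnit g.det := by rw [hg]; exact isUnit_one
  have hUc : ∀ v : Fin 3 → ZMod p, U m v * g = g * U m v := by
    intro v
    obtain ⟨c, hc⟩ := hU v
    have h1 := pow_smul_comm (U m v) g c hc p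
    have hz : (p • v : Fin 3 → ZMod p) = 0 := by
      funext k
      simp
    rw [U_pow, hz, U_zero, Matrix.one_mul, Matrix.mul_one, ZMod.pow_card] at h1
    have hc1 : c = 1 := eq_one_of_smul_self g hg c h1
    rw [hc, hc1, one_smul]
  have hTc : T m (-1 : ZMod p) * g = g * T m (-1) := by
    obtain ⟨c, hc⟩ := hT
    have h1 := pow_smul_comm (T m (-1)) g c hc 2
    have hT2 : T m (-1 : ZMod p) ^ 2 = 1 := by
      rw [pow_two, T_mul]
      simp [T_one]
    rw [hT2, Matrix.one_mul, Matrix.mul_one] at h1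
    have hc2 : c ^ 2 = 1 := eq_one_of_smul_self g hg _ h1
    have hc' : (c - 1) * (c + 1) = 0 := by linear_combination hc2
    rcases mul_eq_zero.mp hc' with h | h
    · rw [hc, sub_eq_zero.mp h, one_smul]
    · exfalso
      have hcm : c = -1 := eq_neg_of_add_eq_zero_left h
      rw [hcm] at hc
      have h3 : g⁻¹ * (T m (-1) * g) = -T m (-1) := by
        rw [hc, Matrix.mul_smul, ← Matrix.mul_assoc, Matrix.nonsing_inv_mul g hu, Matrix.one_mul,
          neg_smul, one_smul]
      have h4 : (g⁻¹ * (T m (-1) * g)).trace = (T m (-1 : ZMod p)).trace := by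
        rw [Matrix.trace_mul_comm, Matrix.mul_assoc, Matrix.mul_nonsing_inv g hu, Matrix.mul_one]
      rw [h3, Matrix.trace_neg, trace_T] at h4
      have h5 : (2 : ZMod p) * 1 = 0 := by linear_combination h4
      rw [mul_one] at h5
      exact h2 h5
  exact scalar_of_commute hm h2 g hTc (hUc _) (hUc _)

end Cfsg.Agent.Helper12.KronRep
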