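import Mathlib

/-!
# S2916 sub-piece C4B-CAP (helper12, for helper26): `P0 ∩ C(u) = K`
-/

set_option autoImplicit false

namespace Cfsg.Agent.Helper26.L33

open Cfsg

universe u

section SubPieces

variable {G : Type u} [Group G] [Finite G]

/-- C4B-CAP : `P0 ∩ C(u) = K`.  (`P0 ⊓ C(u)` has order dividing `gcd(27,18) = 9` and contains `K`.) -/
theorem c4b_cap {u : G} (K P0 : Subgroup G) (h9 : Nat.card K = 9) (hP : Nat.card P0 = 27) (hKP : K ≤ P0)
    (hKC : K ≤ Subgroup.centralizer ({u} : Set G))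
    (hC : Nat.card (Subgroup.centralizer ({u} : Set G)) = 18) :
    ∀ x ∈ P0, x * u = u * x → x ∈ K := by
  intro x hxP hxu
  have hd1 : Nat.card ↥(P0 ⊓ Subgroup.centralizer ({u} : Set G)) ∣ 27 := by
    rw [← hP]
    exact Subgroup.card_dvd_of_le inf_le_left
  have hd2 : Nat.card ↥(P0 ⊓ Subgroup.centralizer ({u} : Set G)) ∣ 18 := by
    rw [← hC]
    exact Subgroup.card_dvd_of_le inf_le_right
  have hd : Nat.card ↥(P0 ⊓ Subgroup.centralizer ({u} : Set G)) ∣ 9 := by
    have := Nat.dvd_gcd hd1 hd2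
    simpa using this
  have hle : K ≤ P0 ⊓ Subgroup.centralizer ({u} : Set G) := le_inf hKP hKC
  have hge : Nat.card ↥(P0 ⊓ Subgroup.centralizer ({u} : Set G)) ≤ Nat.card ↥K := by
    rw [h9]
    exact Nat.le_of_dvd (by norm_num) hd
  have heq : K = P0 ⊓ Subgroup.centralizer ({u} : Set G) := Subgroup.eq_of_le_of_card_ge hle hge
  rw [heq]
  exact ⟨hxP, Subgroup.mem_centralizer_singleton_iff.mpr hxu⟩

end SubPieces

end Cfsg.Agent.Helper26.L33
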