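import Mathlib
import Cfsg.Agent.Lib.Helper18.LevDefs

/-!
# S2522 (Lev) PIECE LEV-TRANSV (helper12): a transvection of determinant one on a space of
dimension at least three is a product of two regular unipotent maps.

Basis-free core `transv_core`: `S` regular nilpotent, `E * S = 0 = S * E`, `E * E = 0`; then
`1 + E = (1 + S) * C` with `C - 1 = E + T`, `T = (-S) * (1 + S)⁻¹`, and `(E + T) ^ k = T ^ k`
for `k ≥ 2`.  The shift `S` comes from an adapted basis (`transv_exists_basis`).
-/

set_option autoImplicit false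

namespace Cfsg.Agent.Helper18.Lev

open Module

universe u v

variable {K : Type u} [Field K] {V : Type v} [AddCommGroup V] [Module K V]

/-- a basis with prescribed first vector -/
theorem transv_exists_basis_first {W : Type*} [AddCommGroup W] [Module K W]
    [FiniteDimensional K W] (m : ℕ) (hW : finrank K W = m + 1) (u : W) (hu : u ≠ 0) :
    ∃ c : Basis (Fin (m + 1)) K W, c 0 = u := by
  obtain ⟨Q, hQ⟩ := Submodule.exists_isCompl (Submodule.span K {u})
  have hfr : finrank K Q = m := by
    have h1 := Submodule.finrank_add_eq_of_isCompl hQ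
    rw [finrank_span_singleton hu, hW] at h1
    omega
  let cQ : Basis (Fin m) K Q := finBasisOfFinrankEq K Q hfr
  refine ⟨Basis.mkFinCons u cQ ?_ ?_, ?_⟩
  · intro a x hx h
    have hmem : a • u ∈ Q := by
      have h2 : a • u = -x := eq_neg_of_add_eq_zero_left h
      rw [h2]; exact Q.neg_mem hx
    have h0 : a • u = 0 :=
      (Submodule.disjoint_def.mp hQ.disjoint) (a • u)
        (Submodule.smul_mem _ _ (Submodule.mem_span_singleton_self u)) hmem
    rcases smul_eq_zero.mp h0 with h | h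
    · exact h
    · exact absurd h hu
  · intro z
    have hz : z ∈ Submodule.span K {u} ⊔ Q := by rw [hQ.sup_eq_top]; trivial
    obtain ⟨y, hy, q, hq, rfl⟩ := Submodule.mem_sup.mp hz
    obtain ⟨a, rfl⟩ := Submodule.mem_span_singleton.mp hy
    refine ⟨-a, ?_⟩
    have : a • u + q + -a • u = q := by rw [neg_smul]; abel
    rw [this]; exact hq
  · simp

/-- the adapted basis: `b 0 = w`, `b last = u0`, all `b i` with `i ≠ 0` in `ker ψ` -/
theorem transv_exists_basis [FiniteDimensional K V] (m : ℕ) (hV : finrank K V = m + 2)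
    (ψ : V →ₗ[K] K) (w u0 : V) (hw : ψ w = 1) (hu : u0 ≠ 0) (hψu : ψ u0 = 0) :
    ∃ b : Basis (Fin (m + 2)) K V, b 0 = w ∧ b (Fin.last (m + 1)) = u0 ∧
      ∀ i, i ≠ 0 → ψ (b i) = 0 := by
  have hψ : ψ ≠ 0 := by rintro rfl; simp at hw
  have hH : finrank K (LinearMap.ker ψ) = m + 1 := by
    have := Module.Dual.finrank_ker_add_one_of_ne_zero hψ
    omega
  obtain ⟨c₀, hc₀⟩ := transv_exists_basis_first (K := K) m hH
    (⟨u0, hψu⟩ : LinearMap.ker ψ) (by simpa [Subtype.ext_iff] using hu)
  let c : Basis (Fin (m + 1)) K (LinearMap.ker ψ) := c₀.reindex Fin.revPerm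
  have hli : ∀ (a : K), ∀ x ∈ LinearMap.ker ψ, a • w + x = 0 → a = 0 := by
    intro a x hx h
    have := congrArg ψ h
    simpa [hw, LinearMap.mem_ker.mp hx] using this
  have hsp : ∀ z : V, ∃ a : K, z + a • w ∈ LinearMap.ker ψ := by
    intro z
    refine ⟨-ψ z, ?_⟩
    simp [LinearMap.mem_ker, hw]
  refine ⟨Basis.mkFinCons w c hli hsp, ?_, ?_, ?_⟩
  · simp
  · rw [Basis.coe_mkFinCons]
    have : Fin.last (m + 1) = Fin.succ (Fin.last m) := rfl
    rw [this, Fin.cons_succ]
    simp [c, hc₀]
  · intro i hi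
    obtain ⟨j, rfl⟩ := Fin.exists_succ_eq.mpr hi
    rw [Basis.coe_mkFinCons, Fin.cons_succ]
    exact LinearMap.mem_ker.mp (c j).2

/-- the shift along a basis: `b i ↦ b (i + 1)`, the last one to zero -/
noncomputable def transv_shift {n : ℕ} (b : Basis (Fin n) K V) : V →ₗ[K] V :=
  b.constr K (fun i => if h : i.val + 1 < n then b ⟨i.val + 1, h⟩ else 0)

theorem transv_shift_apply {n : ℕ} (b : Basis (Fin n) K V) (i : Fin n) :
    transv_shift b (b i) = if h : i.val + 1 < n then b ⟨i.val + 1, h⟩ else 0 := by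
  rw [transv_shift, Basis.constr_basis]

theorem transv_shift_pow_apply {n : ℕ} (b : Basis (Fin n) K V) (k : ℕ) (i : Fin n) :
    ((transv_shift b) ^ k) (b i) = if h : i.val + k < n then b ⟨i.val + k, h⟩ else 0 := by
  induction k with
  | zero => simp
  | succ k ih =>
    rw [pow_succ', Module.End.mul_apply, ih]
    by_cases h1 : i.val + k < n
    · rw [dif_pos h1, transv_shift_apply]
      by_cases h2 : i.val + (k + 1) < n
      · rw [dif_pos h2, dif_pos (by simpa [add_assoc] using h2)]
        congr 1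
      · rw [dif_neg h2, dif_neg (by simpa [add_assoc] using h2)]
    · rw [dif_neg h1, dif_neg (by omega), map_zero]

theorem transv_neg_pow_eq_zero_iff (S : Module.End K V) (k : ℕ) : (-S) ^ k = 0 ↔ S ^ k = 0 := by
  rw [neg_pow]
  exact ((isUnit_one.neg).pow k).mul_right_eq_zero

theorem transv_add_pow (E T : Module.End K V) (hET : E * T = 0) (hTE : T * E = 0)
    (hEE : E * E = 0) (k : ℕ) (hk : 2 ≤ k) : (E + T) ^ k = T ^ k := by
  induction k, hk using Nat.le_induction with
  | base =>
    rw [pow_two, pow_two, add_mul, mul_add, mul_add, hET, hTE, hEE]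
    simp
  | succ k hk ih =>
    rw [pow_succ', ih, add_mul, ← pow_succ']
    obtain ⟨j, rfl⟩ : ∃ j, k = j + 1 := ⟨k - 1, by omega⟩
    rw [pow_succ', ← mul_assoc, hET, zero_mul, zero_add]

/-- the basis-free core -/
theorem transv_core (n : ℕ) (hn : 3 ≤ n) (S E : Module.End K V) (hSn : S ^ n = 0)
    (hS1 : S ^ (n - 1) ≠ 0) (hES : E * S = 0) (hSE : S * E = 0) (hEE : E * E = 0) :
    ∃ B C : V →ₗ[K] V, (1 + E : Module.End K V) = B ∘ₗ C ∧ RegU n B ∧ RegU n C := by
  classical
  set B' : Module.End K V := ∑ i ∈ Finset.range n, (-S) ^ i with hB'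
  have h1 : (1 + S) * B' = 1 := by
    have := mul_neg_geom_sum (-S) n
    rw [sub_neg_eq_add, (transv_neg_pow_eq_zero_iff S n).mpr hSn, sub_zero] at this
    exact this
  have h2 : B' * (1 + S) = 1 := by
    have := geom_sum_mul_neg (-S) n
    rw [sub_neg_eq_add, (transv_neg_pow_eq_zero_iff S n).mpr hSn, sub_zero] at this
    exact this
  have hSB : S * B' = 1 - B' := by
    rw [add_mul, one_mul] at h1
    rw [← h1]; abel
  have hBS : B' * S = 1 - B' := by
    rw [mul_add, mul_one] at h2
    rw [← h2]; abel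
  have hcomm : Commute (-S) B' := by
    show -S * B' = B' * -S
    rw [neg_mul, mul_neg, hSB, hBS]
  have hunit : IsUnit B' := ⟨⟨B', 1 + S, h2, h1⟩, rfl⟩
  set T : Module.End K V := (-S) * B' with hT
  have hET : E * T = 0 := by rw [hT, ← mul_assoc, mul_neg, hES, neg_zero, zero_mul]
  have hTE : T * E = 0 := by
    rw [hT, hcomm.eq, mul_assoc, neg_mul, hSE, neg_zero, mul_zero]
  have hB'E : B' * E = E := by
    have : B' = 1 - B' * S := by rw [hBS]; abel
    rw [this, sub_mul, one_mul, mul_assoc, hSE, mul_zero, sub_zero]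
  have hC : B' * (1 + E) - 1 = E + T := by
    rw [mul_add, mul_one, hB'E, hT, neg_mul, hSB]; abel
  have hTpow : ∀ k, T ^ k = (-S) ^ k * B' ^ k := fun k => hcomm.mul_pow k
  refine ⟨1 + S, B' * (1 + E), ?_, ⟨?_, ?_⟩, ⟨?_, ?_⟩⟩
  · show (1 + E : Module.End K V) = (1 + S) * (B' * (1 + E))
    rw [← mul_assoc, h1, one_mul]
  · show ((1 + S : Module.End K V) - 1) ^ n = 0
    rw [add_sub_cancel_left]; exact hSn
  · show ((1 + S : Module.End K V) - 1) ^ (n - 1) ≠ 0
    rw [add_sub_cancel_left]; exact hS1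
  · show ((B' * (1 + E) : Module.End K V) - 1) ^ n = 0
    rw [hC, transv_add_pow E T hET hTE hEE n (by omega), hTpow,
      (transv_neg_pow_eq_zero_iff S n).mpr hSn, zero_mul]
  · show ((B' * (1 + E) : Module.End K V) - 1) ^ (n - 1) ≠ 0
    rw [hC, transv_add_pow E T hET hTE hEE (n - 1) (by omega), hTpow]
    intro h
    rw [(hunit.pow (n - 1)).mul_left_eq_zero, transv_neg_pow_eq_zero_iff] at h
    exact hS1 h

/-- PIECE LEV-TRANSV. -/
theorem transvection_case [FiniteDimensional K V] (hn : 3 ≤ finrank K V) (g : V →ₗ[K] V)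
    (hdet : LinearMap.det g = 1) (hr : finrank K (LinearMap.range (g - LinearMap.id)) = 1) :
    ∃ B C : V →ₗ[K] V, g = B ∘ₗ C ∧ RegU (finrank K V) B ∧ RegU (finrank K V) C := by
  set N : V →ₗ[K] V := g - LinearMap.id with hN
  have e : ↥(LinearMap.range N) ≃ₗ[K] K :=
    LinearEquiv.ofFinrankEq _ _ (by rw [hr, finrank_self])
  set ψ : V →ₗ[K] K := e.toLinearMap ∘ₗ N.rangeRestrict with hψdef
  set u0 : V := ((e.symm 1 : LinearMap.range N) : V) with hu0def
  have hNv : ∀ v, N v = ψ v • u0 := by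
    intro v
    have h1 : (N.rangeRestrict v : LinearMap.range N) = e.symm (e (N.rangeRestrict v)) :=
      (e.symm_apply_apply _).symm
    have h2 : e.symm (e (N.rangeRestrict v)) = (e (N.rangeRestrict v)) • e.symm 1 := by
      rw [← map_smul, smul_eq_mul, mul_one]
    have h3 := congrArg (Subtype.val) (h1.trans h2)
    have h4 : N v = e (N.rangeRestrict v) • ((e.symm 1 : LinearMap.range N) : V) := by
      simpa using h3
    exact h4
  have hg : g = LinearMap.transvection ψ u0 := by
    ext v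
    rw [LinearMap.transvection.apply, ← hNv, hN]
    simp
  have hψu : ψ u0 = 0 := by
    have := LinearMap.transvection.det ψ u0
    rw [← hg, hdet] at this
    have h2 : (1 : K) + ψ u0 = 1 + 0 := by rw [← this, add_zero]
    exact add_left_cancel h2
  have hu0 : u0 ≠ 0 := by
    intro h
    have h1 : (e.symm 1 : LinearMap.range N) = 0 := Subtype.ext h
    have h2 : (1 : K) = 0 := by
      have := congrArg e h1
      simp at this
    exact one_ne_zero h2
  obtain ⟨w, hw⟩ : ∃ w, ψ w = 1 := by
    obtain ⟨y, hy⟩ := e.surjective 1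
    obtain ⟨w, hw⟩ := N.surjective_rangeRestrict y
    exact ⟨w, by rw [hψdef, LinearMap.comp_apply, hw]; exact hy⟩
  obtain ⟨m, hm⟩ : ∃ m, finrank K V = m + 2 := ⟨finrank K V - 2, by omega⟩
  obtain ⟨b, hb0, hbl, hbψ⟩ := transv_exists_basis m hm ψ w u0 hw hu0 hψu
  have hSn : (transv_shift b) ^ (m + 2) = 0 := by
    apply b.ext
    intro i
    rw [transv_shift_pow_apply, dif_neg (by omega)]
    simp
  have hS1 : (transv_shift b) ^ (m + 2 - 1) ≠ 0 := by
    intro h
    have h1 := transv_shift_pow_apply b (m + 2 - 1) 0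
    rw [h, dif_pos (by simp)] at h1
    exact b.ne_zero _ h1.symm
  have hSE : (transv_shift b) * N = 0 := by
    ext v
    rw [Module.End.mul_apply, hNv, map_smul, ← hbl, transv_shift_apply, dif_neg (by simp)]
    simp
  have hES : N * (transv_shift b) = 0 := by
    apply b.ext
    intro i
    rw [Module.End.mul_apply, hNv, transv_shift_apply]
    by_cases h : i.val + 1 < m + 2
    · rw [dif_pos h, hbψ _ (fun h0 => absurd (congrArg Fin.val h0) (Nat.succ_ne_zero _))]
      simp
    · rw [dif_neg h]; simp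
  have hEE : N * N = 0 := by
    ext v
    rw [Module.End.mul_apply, hNv (N v), hNv v, map_smul, hψu]
    simp
  obtain ⟨B, C, h1, h2, h3⟩ :=
    transv_core (m + 2) (by omega) (transv_shift b) N hSn hS1 hES hSE hEE
  refine ⟨B, C, ?_, ?_, ?_⟩
  · rw [← h1, hN]
    show g = LinearMap.id + (g - LinearMap.id)
    abel
  · rw [hm]; exact h2
  · rw [hm]; exact h3

end Cfsg.Agent.Helper18.Lev
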