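import Mathlib

/-!
# Arithmetic for the smallest degree of `SL_n(q)`
-/

set_option autoImplicit false

namespace Cfsg.Agent.Helper12.LSL

/-- the boundary case `d = bound - 1` contradicts the integrality of the central character -/
theorem arith_main1 (q Np d I a : ℕ) (hq : 2 ≤ q) (hN : q + 1 ≤ Np) (hd : d + 1 = q * Np)
    (hI : I = (q - 1) * (q * Np + 1) * Np)
    (hdiv : (d : ℤ) ∣ (I : ℤ) * ((d : ℤ) - (q : ℤ) ^ a)) : False := by
  have h1 : (d : ℤ) ∣ (I : ℤ) * (q : ℤ) ^ a := by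
    have h2 : (I : ℤ) * (q : ℤ) ^ a = (I : ℤ) * (d : ℤ) - (I : ℤ) * ((d : ℤ) - (q : ℤ) ^ a) := by ring
    rw [h2]
    exact dvd_sub (Dvd.intro_left _ rfl) hdiv
  have h3 : d ∣ I * q ^ a := by exact_mod_cast h1
  have hcop : Nat.Coprime d q := by
    have h4 : Nat.Coprime d (d + 1) := by simp
    rw [hd] at h4
    exact Nat.Coprime.coprime_mul_right_right h4
  have hcopN : Nat.Coprime d Np := by
    have h4 : Nat.Coprime d (d + 1) := by simp
    rw [hd] at h4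
    exact Nat.Coprime.coprime_mul_left_right h4
  have h5 : d ∣ I := (Nat.Coprime.pow_right a hcop).dvd_of_dvd_mul_right h3
  rw [hI] at h5
  have h6 : d ∣ (q - 1) * (q * Np + 1) := hcopN.dvd_of_dvd_mul_right h5
  have h7 : (q - 1) * (q * Np + 1) = (q - 1) * d + 2 * (q - 1) := by
    rw [← hd]
    ring
  rw [h7] at h6
  have h8 : d ∣ 2 * (q - 1) := (Nat.dvd_add_right (Dvd.intro_left _ rfl)).1 h6
  have h9 : d ≤ 2 * (q - 1) := Nat.le_of_dvd (by omega) h8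
  have h10 : q * (q + 1) ≤ q * Np := Nat.mul_le_mul_left q hN
  have h11 : 2 * (q - 1) ≤ 2 * q := by omega
  have h12 : 2 * q ≤ q * q := Nat.mul_le_mul_right q hq
  have h13 : q * (q + 1) = q * q + q := by ring
  omega

/-- the second boundary case for `n = 3` -/
theorem arith_main2 (q d I : ℕ) (hq : 3 ≤ q) (hq4 : q ≠ 4) (hq10 : q ≠ 10)
    (hd : d + 2 = q ^ 2 + q) (hI : I = (q - 1) * (q * (q + 1) + 1) * (q + 1))
    (hdiv : (d : ℤ) ∣ (I : ℤ) * ((d : ℤ) - (q : ℤ) ^ 2)) : False := by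
  have h1 : (d : ℤ) ∣ (I : ℤ) * (q : ℤ) ^ 2 := by
    have h2 : (I : ℤ) * (q : ℤ) ^ 2 = (I : ℤ) * (d : ℤ) - (I : ℤ) * ((d : ℤ) - (q : ℤ) ^ 2) := by ring
    rw [h2]
    exact dvd_sub (Dvd.intro_left _ rfl) hdiv
  have hdz : (d : ℤ) = ((q : ℤ) - 1) * ((q : ℤ) + 2) := by
    have : (d : ℤ) + 2 = (q : ℤ) ^ 2 + q := by exact_mod_cast hd
    linarith [this]
  have hIz : (I : ℤ) = ((q : ℤ) - 1) * ((q : ℤ) * (q + 1) + 1) * (q + 1) := by
    rw [hI]
    have : 1 ≤ q := by omega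
    push_cast [Nat.cast_sub this]
    ring
  rw [hdz, hIz] at h1
  have hq1 : ((q : ℤ) - 1) ≠ 0 := by
    have : (3 : ℤ) ≤ q := by exact_mod_cast hq
    omega
  have h3 : ((q : ℤ) - 1) * ((q : ℤ) + 2) ∣
      ((q : ℤ) - 1) * ((((q : ℤ) * (q + 1) + 1) * (q + 1)) * (q : ℤ) ^ 2) := by
    have : ((q : ℤ) - 1) * ((q : ℤ) * (q + 1) + 1) * (q + 1) * (q : ℤ) ^ 2 =
        ((q : ℤ) - 1) * ((((q : ℤ) * (q + 1) + 1) * (q + 1)) * (q : ℤ) ^ 2) := by ring
    rw [← this]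
    exact h1
  have h4 : ((q : ℤ) + 2) ∣ (((q : ℤ) * (q + 1) + 1) * (q + 1)) * (q : ℤ) ^ 2 :=
    (mul_dvd_mul_iff_left hq1).1 h3
  have h5 : (((q : ℤ) * (q + 1) + 1) * (q + 1)) * (q : ℤ) ^ 2 =
      ((q : ℤ) + 2) * ((q : ℤ) ^ 4 + 2 * (q : ℤ) ^ 2 - 3 * q + 6) - 12 := by ring
  rw [h5] at h4
  have h6 : ((q : ℤ) + 2) ∣ 12 := by
    have := dvd_sub (Dvd.intro _ rfl : ((q : ℤ) + 2) ∣ ((q : ℤ) + 2) *
      ((q : ℤ) ^ 4 + 2 * (q : ℤ) ^ 2 - 3 * q + 6)) h4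
    simpa using this
  have h7 : (q : ℤ) + 2 ≤ 12 := Int.le_of_dvd (by norm_num) h6
  have h8 : q ≤ 10 := by omega
  interval_cases q <;> simp_all

theorem not_isPrimePow_ten : ¬ IsPrimePow 10 := by
  intro hpp
  rw [isPrimePow_nat_iff] at hpp
  obtain ⟨p, a, hp, hapos, ha⟩ := hpp
  have hp10 : p ∣ 10 := by
    rw [← ha]
    exact dvd_pow_self p hapos.ne'
  have hple : p ≤ 10 := Nat.le_of_dvd (by norm_num) hp10
  have h2a : 2 ^ a ≤ p ^ a := Nat.pow_le_pow_left hp.two_le _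
  have ha4 : a < 4 := by
    by_contra hge
    push Not at hge
    have : 2 ^ 4 ≤ 2 ^ a := Nat.pow_le_pow_right (by norm_num) hge
    omega
  have hcases : p = 2 ∨ p = 5 := by
    interval_cases p <;> first | (left; rfl) | (right; rfl) | (exfalso; revert hp10; decide) |
      (exfalso; revert hp; decide)
  rcases hcases with rfl | rfl
  · interval_cases a <;> omega
  · interval_cases a <;> omega

end Cfsg.Agent.Helper12.LSL
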