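import Mathlib
import Cfsg.Agent.Lib.Helper13.Transv

/-!
# Transitivity of `SL ι F` on independent families of vectors, and the action on nonzero vectors
-/

set_option autoImplicit false

namespace Cfsg.Agent.Helper12

open Module

section LinAlg

variable {F V : Type*} [Field F] [AddCommGroup V] [Module F V] [FiniteDimensional F V]

/-- Two linearly independent families of fewer than `dim V` vectors are matched by an
endomorphism of determinant one. -/
theorem exists_det_one_map {κ : Type*} [Fintype κ] (v w : κ → V)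
    (hv : LinearIndependent F v) (hw : LinearIndependent F w)
    (hdim : Fintype.card κ < finrank F V) :
    ∃ T : V →ₗ[F] V, LinearMap.det T = 1 ∧ ∀ i, T (v i) = w i := by
  classical
  obtain ⟨A, hAdef⟩ : ∃ A, A = Submodule.span F (Set.range v) := ⟨_, rfl⟩
  obtain ⟨B, hBdef⟩ : ∃ B, B = Submodule.span F (Set.range w) := ⟨_, rfl⟩
  obtain ⟨A', hA'⟩ := Submodule.exists_isCompl A
  obtain ⟨B', hB'⟩ := Submodule.exists_isCompl B
  have hA : finrank F A = Fintype.card κ := by rw [hAdef]; exact finrank_span_eq_card hv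
  have hB : finrank F B = Fintype.card κ := by rw [hBdef]; exact finrank_span_eq_card hw
  have h1 := Submodule.finrank_add_eq_of_isCompl hA'
  have h2 := Submodule.finrank_add_eq_of_isCompl hB'
  have h3 : finrank F A' = finrank F B' := by omega
  subst hAdef hBdef
  let eA : Submodule.span F (Set.range v) ≃ₗ[F] Submodule.span F (Set.range w) :=
    (Basis.span hv).equiv (Basis.span hw) (Equiv.refl _)
  let eB : A' ≃ₗ[F] B' := LinearEquiv.ofFinrankEq _ _ h3
  obtain ⟨T, hT1, -⟩ := Cfsg.Agent.Helper13.exists_glue _ A' _ B' hA' hB' eA eB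
  have hTv : ∀ i, T (v i) = w i := by
    intro i
    have hmem : v i ∈ Submodule.span F (Set.range v) := Submodule.subset_span ⟨i, rfl⟩
    have h4 := hT1 ⟨v i, hmem⟩
    have h5 : eA ⟨v i, hmem⟩ = ⟨w i, Submodule.subset_span ⟨i, rfl⟩⟩ := by
      have h6 := Basis.equiv_apply (Basis.span hv) i (Basis.span hw) (Equiv.refl _)
      rw [Basis.span_apply, Equiv.refl_apply, Basis.span_apply] at h6
      exact h6
    rw [h5] at h4
    exact h4
  have hd : IsUnit (LinearMap.det (T : V →ₗ[F] V)) := LinearEquiv.isUnit_det' T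
  obtain ⟨d, hddef⟩ : ∃ d, d = LinearMap.det (T : V →ₗ[F] V) := ⟨_, rfl⟩
  rw [← hddef] at hd
  have hd0 : d ≠ 0 := hd.ne_zero
  have hBne : Submodule.span F (Set.range w) ≠ ⊤ := by
    intro h
    rw [h, finrank_top] at hB
    omega
  obtain ⟨z, hz⟩ : ∃ z, z ∉ Submodule.span F (Set.range w) := by
    by_contra hcon
    push_neg at hcon
    exact hBne (eq_top_iff.mpr fun x _ => hcon x)
  obtain ⟨ψ, hψz, hψB⟩ := Submodule.exists_le_ker_of_notMem hz
  refine ⟨(LinearMap.transvection (((d⁻¹ - 1) / ψ z) • ψ) z) ∘ₗ (T : V →ₗ[F] V), ?_, ?_⟩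
  · rw [LinearMap.det_comp, LinearMap.transvection.det, ← hddef, LinearMap.smul_apply,
      smul_eq_mul]
    field_simp
    ring
  · intro i
    rw [LinearMap.comp_apply, LinearEquiv.coe_coe, hTv, LinearMap.transvection.apply]
    have h0 : ψ (w i) = 0 := hψB (Submodule.subset_span ⟨i, rfl⟩)
    rw [LinearMap.smul_apply, h0, smul_zero, zero_smul, add_zero]

end LinAlg

section SL

variable {F : Type*} [Field F] {ι : Type*} [Fintype ι] [DecidableEq ι]

/-- `SL ι F` is transitive on linearly independent families of fewer than `|ι|` vectors. -/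
theorem exists_SL_smul_eq {κ : Type*} [Fintype κ] (v w : κ → (ι → F))
    (hv : LinearIndependent F v) (hw : LinearIndependent F w)
    (hdim : Fintype.card κ < Fintype.card ι) :
    ∃ g : Matrix.SpecialLinearGroup ι F, ∀ i, g • v i = w i := by
  obtain ⟨T, hT1, hT2⟩ := exists_det_one_map v w hv hw (by
    rw [Module.finrank_fintype_fun_eq_card]; exact hdim)
  have hdet : (LinearMap.toMatrix' T).det = 1 := by rw [LinearMap.det_toMatrix']; exact hT1
  obtain ⟨g, hg⟩ : ∃ g : Matrix.SpecialLinearGroup ι F, g.1 = LinearMap.toMatrix' T :=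
    ⟨⟨LinearMap.toMatrix' T, hdet⟩, rfl⟩
  refine ⟨g, fun i => ?_⟩
  rw [Matrix.SpecialLinearGroup.smul_def, Matrix.smul_eq_mulVec, hg,
    LinearMap.toMatrix'_mulVec, hT2]

end SL

end Cfsg.Agent.Helper12
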