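import Mathlib
import Cfsg.Agent.Lib.Helper12.SLVecTrans

/-!
# A lower bound for the degree of cross-characteristic representations of `SL ι F`, `|ι| ≥ 3`

The root-type subgroup `{x φ}` attached to a basis vector, its normalizing action, weight spaces.
-/

set_option autoImplicit false

namespace Cfsg.Agent.Helper12

open Module
open scoped Matrix

section XPhi

variable {F : Type*} [Field F] {ι : Type*} [Fintype ι] [DecidableEq ι]

/-- `SL ι F` acts faithfully on vectors. -/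
theorem SL_ext_smul {g h : Matrix.SpecialLinearGroup ι F} (H : ∀ v : ι → F, g • v = h • v) :
    g = h := by
  apply Subtype.ext
  ext i j
  have h1 := congrFun (H (Pi.single j 1)) i
  rw [Matrix.SpecialLinearGroup.smul_def, Matrix.SpecialLinearGroup.smul_def,
    Matrix.smul_eq_mulVec, Matrix.smul_eq_mulVec, Matrix.mulVec_single_one,
    Matrix.mulVec_single_one] at h1
  exact h1

/-- The hyperplane of vectors with vanishing `i₀`-coordinate. -/
def Phi (F : Type*) [Field F] {ι : Type*} (i₀ : ι) : Submodule F (ι → F) :=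
  LinearMap.ker (LinearMap.proj i₀ : (ι → F) →ₗ[F] F)

omit [Fintype ι] [DecidableEq ι] in
theorem mem_Phi_iff {i₀ : ι} {φ : ι → F} : φ ∈ Phi F i₀ ↔ φ i₀ = 0 := by
  unfold Phi
  rw [LinearMap.mem_ker, LinearMap.proj_apply]

omit [Fintype ι] [DecidableEq ι] in
theorem Phi_apply (i₀ : ι) (φ : Phi F i₀) : φ.1 i₀ = 0 := mem_Phi_iff.mp φ.2

theorem Phi_dotProduct_single (i₀ : ι) (φ : Phi F i₀) :
    φ.1 ⬝ᵥ (Pi.single i₀ 1 : ι → F) = 0 := by
  rw [dotProduct_single, mul_one, Phi_apply]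

/-- The elementary element `1 + e_{i₀} φᵀ`. -/
def xPhi (i₀ : ι) (φ : Phi F i₀) : Matrix.SpecialLinearGroup ι F :=
  ⟨1 + Matrix.vecMulVec (Pi.single i₀ 1) φ.1, by
    rw [Matrix.vecMulVec_eq Unit, Matrix.det_one_add_replicateCol_mul_replicateRow,
      Phi_dotProduct_single, add_zero]⟩

theorem xPhi_smul (i₀ : ι) (φ : Phi F i₀) (v : ι → F) :
    xPhi i₀ φ • v = v + (φ.1 ⬝ᵥ v) • (Pi.single i₀ 1 : ι → F) := by
  rw [Matrix.SpecialLinearGroup.smul_def, Matrix.smul_eq_mulVec]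
  show (1 + Matrix.vecMulVec (Pi.single i₀ 1) φ.1) *ᵥ v = _
  rw [Matrix.add_mulVec, Matrix.one_mulVec, Matrix.vecMulVec_mulVec, op_smul_eq_smul]

theorem xPhi_zero (i₀ : ι) : xPhi i₀ (0 : Phi F i₀) = 1 := by
  apply SL_ext_smul
  intro v
  rw [xPhi_smul, one_smul]
  simp

theorem xPhi_add (i₀ : ι) (φ φ' : Phi F i₀) : xPhi i₀ (φ + φ') = xPhi i₀ φ * xPhi i₀ φ' := by
  apply SL_ext_smul
  intro v
  rw [mul_smul, xPhi_smul, xPhi_smul, xPhi_smul, dotProduct_add, dotProduct_smul,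
    Phi_dotProduct_single, smul_zero, add_zero, Submodule.coe_add, add_dotProduct, add_smul]
  abel

theorem xPhi_commute (i₀ : ι) (φ φ' : Phi F i₀) : Commute (xPhi i₀ φ) (xPhi i₀ φ') := by
  unfold Commute SemiconjBy
  rw [← xPhi_add, ← xPhi_add, add_comm]

theorem xPhi_ne_one (i₀ : ι) {φ : Phi F i₀} (hφ : φ ≠ 0) : xPhi i₀ φ ≠ 1 := by
  intro h
  apply hφ
  apply Subtype.ext
  funext j
  have h1 := congrArg (fun g : Matrix.SpecialLinearGroup ι F => g • (Pi.single j 1 : ι → F)) h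
  simp only [xPhi_smul, one_smul] at h1
  have h2 := congrFun h1 i₀
  simpa using h2

/-- Conjugation of `x φ` by an element fixing `e_{i₀}`. -/
theorem exists_conj_xPhi (i₀ : ι) (g : Matrix.SpecialLinearGroup ι F)
    (hg : g • (Pi.single i₀ 1 : ι → F) = Pi.single i₀ 1) (φ : Phi F i₀) :
    ∃ φ' : Phi F i₀, g⁻¹ * xPhi i₀ φ * g = xPhi i₀ φ' ∧
      ∀ b : ι → F, φ'.1 ⬝ᵥ b = φ.1 ⬝ᵥ (g • b) := by
  have hdot : ∀ b : ι → F, (Matrix.vecMul φ.1 g.1) ⬝ᵥ b = φ.1 ⬝ᵥ (g • b) := by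
    intro b
    rw [Matrix.SpecialLinearGroup.smul_def, Matrix.smul_eq_mulVec, Matrix.dotProduct_mulVec]
  have hmem : Matrix.vecMul φ.1 g.1 ∈ Phi F i₀ := by
    rw [mem_Phi_iff]
    have := hdot (Pi.single i₀ 1)
    rw [hg, Phi_dotProduct_single, dotProduct_single, mul_one] at this
    exact this
  refine ⟨⟨_, hmem⟩, ?_, hdot⟩
  apply SL_ext_smul
  intro v
  have hginv : g⁻¹ • (Pi.single i₀ 1 : ι → F) = Pi.single i₀ 1 := by
    rw [inv_smul_eq_iff, hg]
  rw [mul_smul, mul_smul, xPhi_smul, xPhi_smul, smul_add, inv_smul_smul, smul_comm, hginv, hdot]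

/-- Every value is attained by pairing a nonzero element of the hyperplane with the hyperplane. -/
theorem exists_Phi_dot_eq (i₀ : ι) {c : Phi F i₀} (hc : c ≠ 0) (t : F) :
    ∃ φ : Phi F i₀, φ.1 ⬝ᵥ c.1 = t := by
  obtain ⟨j, hj⟩ : ∃ j, c.1 j ≠ 0 := by
    by_contra hcon
    push_neg at hcon
    apply hc
    apply Subtype.ext
    funext j
    exact hcon j
  have hji : j ≠ i₀ := by
    rintro rfl
    exact hj (Phi_apply _ c)
  have hmem : (t / c.1 j) • (Pi.single j 1 : ι → F) ∈ Phi F i₀ := by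
    rw [mem_Phi_iff]
    simp [hji.symm]
  refine ⟨⟨_, hmem⟩, ?_⟩
  show ((t / c.1 j) • (Pi.single j 1 : ι → F)) ⬝ᵥ c.1 = t
  rw [smul_dotProduct, single_dotProduct, one_mul, smul_eq_mul, div_mul_cancel₀ _ hj]

theorem exists_Phi_ne_zero (hι : 1 < Fintype.card ι) (i₀ : ι) : ∃ φ : Phi F i₀, φ ≠ 0 := by
  obtain ⟨j, hj⟩ := Fintype.exists_ne_of_one_lt_card hι i₀
  have hmem : (Pi.single j 1 : ι → F) ∈ Phi F i₀ := by
    rw [mem_Phi_iff]
    simp [hj.symm]
  refine ⟨⟨_, hmem⟩, ?_⟩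
  intro h
  have := congrFun (congrArg Subtype.val h) j
  simp at this

theorem xPhi_not_mem_center (i₀ : ι) {φ : Phi F i₀} (hφ : φ ≠ 0) :
    xPhi i₀ φ ∉ Subgroup.center (Matrix.SpecialLinearGroup ι F) := by
  intro hmem
  rw [Matrix.SpecialLinearGroup.mem_center_iff] at hmem
  obtain ⟨r, -, hr⟩ := hmem
  apply hφ
  apply Subtype.ext
  funext j
  by_cases hj : j = i₀
  · rw [hj, Phi_apply]
    rfl
  · have h1 := congrFun (congrFun hr i₀) j
    have h2 : (xPhi i₀ φ).1 i₀ j = φ.1 j := by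
      show (1 + Matrix.vecMulVec (Pi.single i₀ 1) φ.1) i₀ j = φ.1 j
      rw [Matrix.add_apply, Matrix.vecMulVec_apply, Matrix.one_apply_ne (Ne.symm hj)]
      simp
    rw [h2] at h1
    rw [← h1]
    simp [Matrix.scalar_apply, Ne.symm hj]

end XPhi

section Core

variable {F : Type*} [Field F] [Fintype F] {ι : Type*} [Fintype ι] [DecidableEq ι]
variable {L : Type*} [Field L] {V : Type*} [AddCommGroup V] [Module L V]

/-- The weight space of the root-type subgroup `{x φ}` for the character `φ ↦ ψ (φ ⬝ b)`. -/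
def wtSpace (R : Matrix.SpecialLinearGroup ι F →* Module.End L V) (ψ : AddChar F L) (i₀ : ι)
    (b : ι → F) : Submodule L V :=
  ⨅ φ : Phi F i₀, Module.End.eigenspace (R (xPhi i₀ φ)) (ψ (φ.1 ⬝ᵥ b))

omit [Fintype F] in
theorem mem_wtSpace_iff {R : Matrix.SpecialLinearGroup ι F →* Module.End L V} {ψ : AddChar F L}
    {i₀ : ι} {b : ι → F} {v : V} :
    v ∈ wtSpace R ψ i₀ b ↔ ∀ φ : Phi F i₀, R (xPhi i₀ φ) v = ψ (φ.1 ⬝ᵥ b) • v := by
  unfold wtSpace
  rw [Submodule.mem_iInf]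
  simp only [Module.End.mem_eigenspace_iff]

omit [Fintype F] in
theorem map_wtSpace {R : Matrix.SpecialLinearGroup ι F →* Module.End L V} {ψ : AddChar F L}
    {i₀ : ι} {b : ι → F} (g : Matrix.SpecialLinearGroup ι F)
    (hg : g • (Pi.single i₀ 1 : ι → F) = Pi.single i₀ 1) {v : V}
    (hv : v ∈ wtSpace R ψ i₀ b) : R g v ∈ wtSpace R ψ i₀ (g • b) := by
  rw [mem_wtSpace_iff] at hv ⊢
  intro φ
  obtain ⟨φ', h1, h2⟩ := exists_conj_xPhi i₀ g hg φ
  have h3 : xPhi i₀ φ * g = g * xPhi i₀ φ' := by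
    rw [← h1]
    group
  calc R (xPhi i₀ φ) (R g v) = (R (xPhi i₀ φ * g)) v := by rw [map_mul]; rfl
    _ = R (g * xPhi i₀ φ') v := by rw [h3]
    _ = R g (R (xPhi i₀ φ') v) := by rw [map_mul]; rfl
    _ = R g (ψ (φ'.1 ⬝ᵥ b) • v) := by rw [hv φ']
    _ = ψ (φ.1 ⬝ᵥ (g • b)) • R g v := by rw [map_smul, h2]

omit [Fintype F] in
theorem psi_ne_zero (ψ : AddChar F L) (a : F) : ψ a ≠ 0 := by
  intro h
  have h1 : ψ a * ψ (-a) = 1 := by
    rw [← AddChar.map_add_eq_mul, add_neg_cancel, AddChar.map_zero_eq_one]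
  rw [h, zero_mul] at h1
  exact zero_ne_one h1

omit [Fintype F] in
theorem psi_dot_injective (ψ : AddChar F L) (hψ : ∃ t, ψ t ≠ 1) (i₀ : ι) :
    Function.Injective (fun b : Phi F i₀ => fun φ : Phi F i₀ => ψ (φ.1 ⬝ᵥ b.1)) := by
  intro b b' h
  by_contra hne
  have hc : b - b' ≠ 0 := sub_ne_zero.mpr hne
  obtain ⟨t, ht⟩ := hψ
  obtain ⟨φ, hφ⟩ := exists_Phi_dot_eq i₀ hc t
  have h1 := congrFun h φ
  simp only at h1
  have h2 : φ.1 ⬝ᵥ b.1 = φ.1 ⬝ᵥ b'.1 + t := by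
    rw [← hφ, Submodule.coe_sub, dotProduct_sub]
    ring
  rw [h2, AddChar.map_add_eq_mul] at h1
  have h3 := psi_ne_zero ψ (φ.1 ⬝ᵥ b'.1)
  apply ht
  have h4 : ψ (φ.1 ⬝ᵥ b'.1) * ψ t = ψ (φ.1 ⬝ᵥ b'.1) * 1 := by rw [h1, mul_one]
  exact mul_left_cancel₀ h3 h4

omit [Fintype F] in
theorem iSupIndep_wtSpace (R : Matrix.SpecialLinearGroup ι F →* Module.End L V) (ψ : AddChar F L)
    (hψ : ∃ t, ψ t ≠ 1) (i₀ : ι) :
    iSupIndep (fun b : Phi F i₀ => wtSpace R ψ i₀ b.1) := by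
  have hcomm : ∀ φ φ' : Phi F i₀, Commute (R (xPhi i₀ φ)) (R (xPhi i₀ φ')) := fun φ φ' =>
    (xPhi_commute i₀ φ φ').map R
  have h := Module.End.independent_iInf_maxGenEigenspace_of_forall_mapsTo
    (fun φ : Phi F i₀ => R (xPhi i₀ φ))
    (fun i j μ => Module.End.mapsTo_maxGenEigenspace_of_comm (hcomm j i) μ)
  have h2 := h.comp (psi_dot_injective ψ hψ i₀)
  refine h2.mono ?_
  intro b
  show wtSpace R ψ i₀ b.1 ≤ ⨅ φ : Phi F i₀, (R (xPhi i₀ φ)).maxGenEigenspace (ψ (φ.1 ⬝ᵥ b.1))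
  unfold wtSpace
  exact iInf_mono fun φ => Module.End.eigenspace_le_maxGenEigenspace

/-- Orthogonality: a nontrivial character sums to zero over the hyperplane. -/
theorem sum_psi_dot_eq_zero {i₀ : ι} [Fintype (Phi F i₀)] (ψ : AddChar F L) (hψ : ∃ t, ψ t ≠ 1)
    {φ : Phi F i₀} (hφ : φ ≠ 0) : ∑ b : Phi F i₀, ψ (φ.1 ⬝ᵥ b.1) = 0 := by
  obtain ⟨t, ht⟩ := hψ
  obtain ⟨b₁, hb₁⟩ := exists_Phi_dot_eq i₀ hφ t
  rw [dotProduct_comm] at hb₁
  have h1 : ∑ b : Phi F i₀, ψ (φ.1 ⬝ᵥ b.1) = ψ t * ∑ b : Phi F i₀, ψ (φ.1 ⬝ᵥ b.1) := by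
    rw [Finset.mul_sum, ← Equiv.sum_comp (Equiv.addLeft b₁)]
    refine Finset.sum_congr rfl fun b _ => ?_
    rw [Equiv.coe_addLeft, Submodule.coe_add, dotProduct_add, hb₁, AddChar.map_add_eq_mul]
  have h2 : (1 - ψ t) * ∑ b : Phi F i₀, ψ (φ.1 ⬝ᵥ b.1) = 0 := by
    rw [sub_mul, one_mul, ← h1, sub_self]
  rcases mul_eq_zero.mp h2 with h | h
  · exact absurd (sub_eq_zero.mp h).symm ht
  · exact h

/-- The unnormalized projection onto a weight space. -/
noncomputable def wtProj (R : Matrix.SpecialLinearGroup ι F →* Module.End L V) (ψ : AddChar F L)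
    (i₀ : ι) [Fintype (Phi F i₀)] (b : Phi F i₀) : Module.End L V :=
  ∑ φ : Phi F i₀, ψ (-(φ.1 ⬝ᵥ b.1)) • R (xPhi i₀ φ)

theorem wtProj_mem (R : Matrix.SpecialLinearGroup ι F →* Module.End L V) (ψ : AddChar F L)
    (i₀ : ι) [Fintype (Phi F i₀)] (b : Phi F i₀) (v : V) :
    wtProj R ψ i₀ b v ∈ wtSpace R ψ i₀ b.1 := by
  rw [mem_wtSpace_iff]
  intro φ'
  unfold wtProj
  rw [LinearMap.sum_apply, map_sum, Finset.smul_sum,
    ← Equiv.sum_comp (Equiv.addLeft φ')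
      (fun φ => ψ (φ'.1 ⬝ᵥ b.1) • ((ψ (-(φ.1 ⬝ᵥ b.1)) • R (xPhi i₀ φ)) v))]
  refine Finset.sum_congr rfl fun φ _ => ?_
  rw [LinearMap.smul_apply, LinearMap.smul_apply, map_smul, Equiv.coe_addLeft, xPhi_add, map_mul,
    Module.End.mul_apply, smul_smul]
  congr 1
  rw [← AddChar.map_add_eq_mul]
  congr 1
  rw [Submodule.coe_add, add_dotProduct]
  ring

theorem sum_wtProj (R : Matrix.SpecialLinearGroup ι F →* Module.End L V) (ψ : AddChar F L)
    (hψ : ∃ t, ψ t ≠ 1) (i₀ : ι) [Fintype (Phi F i₀)] :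
    ∑ b : Phi F i₀, wtProj R ψ i₀ b =
      (Fintype.card (Phi F i₀) : L) • (1 : Module.End L V) := by
  unfold wtProj
  rw [Finset.sum_comm]
  simp_rw [← Finset.sum_smul]
  rw [Finset.sum_eq_single (0 : Phi F i₀)]
  · simp [xPhi_zero]
  · intro φ _ hφ
    have h0 : ∑ b : Phi F i₀, ψ (-(φ.1 ⬝ᵥ b.1)) = 0 := by
      have := sum_psi_dot_eq_zero ψ hψ (neg_ne_zero.mpr hφ)
      simpa [neg_dotProduct] using this
    rw [h0, zero_smul]
  · intro h
    exact absurd (Finset.mem_univ _) h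

theorem card_Phi (i₀ : ι) [Fintype (Phi F i₀)] :
    Fintype.card (Phi F i₀) = Fintype.card F ^ (Fintype.card ι - 1) := by
  rw [Module.card_eq_pow_finrank (K := F) (V := Phi F i₀)]
  congr 1
  have h1 := LinearMap.finrank_range_add_finrank_ker (LinearMap.proj i₀ : (ι → F) →ₗ[F] F)
  have h2 : LinearMap.range (LinearMap.proj i₀ : (ι → F) →ₗ[F] F) = ⊤ :=
    LinearMap.range_eq_top.mpr (LinearMap.proj_surjective i₀)
  rw [h2, finrank_top, Module.finrank_self, Module.finrank_fintype_fun_eq_card] at h1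
  unfold Phi
  omega

theorem exists_wtSpace_ne_bot (hι : 1 < Fintype.card ι)
    (R : Matrix.SpecialLinearGroup ι F →* Module.End L V)
    (hker : R.ker ≤ Subgroup.center (Matrix.SpecialLinearGroup ι F)) (ψ : AddChar F L)
    (hψ : ∃ t, ψ t ≠ 1) (hq : (Fintype.card F : L) ≠ 0) (i₀ : ι) :
    ∃ b : Phi F i₀, b ≠ 0 ∧ wtSpace R ψ i₀ b.1 ≠ ⊥ := by
  classical
  letI : Fintype (Phi F i₀) := Fintype.ofFinite _
  by_contra hcon
  push_neg at hcon
  have hE : ∀ b : Phi F i₀, b ≠ 0 → wtProj R ψ i₀ b = 0 := by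
    intro b hb
    ext v
    have := wtProj_mem R ψ i₀ b v
    rw [hcon b hb, Submodule.mem_bot] at this
    rw [this]
    rfl
  have hsum := sum_wtProj R ψ hψ i₀
  rw [Finset.sum_eq_single (0 : Phi F i₀) (fun b _ hb => hE b hb)
    (fun h => absurd (Finset.mem_univ _) h)] at hsum
  have hcard : (Fintype.card (Phi F i₀) : L) ≠ 0 := by
    rw [card_Phi]
    push_cast
    exact pow_ne_zero _ hq
  have hall : ∀ v : V, v ∈ wtSpace R ψ i₀ (0 : Phi F i₀).1 := by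
    intro v
    have h1 := wtProj_mem R ψ i₀ 0 v
    rw [hsum] at h1
    have h2 : ((Fintype.card (Phi F i₀) : L) • (1 : Module.End L V)) v =
        (Fintype.card (Phi F i₀) : L) • v := by
      rw [LinearMap.smul_apply]
      rfl
    rw [h2] at h1
    have := Submodule.smul_mem _ ((Fintype.card (Phi F i₀) : L))⁻¹ h1
    rwa [smul_smul, inv_mul_cancel₀ hcard, one_smul] at this
  obtain ⟨φ, hφ⟩ := exists_Phi_ne_zero (F := F) hι i₀
  apply xPhi_not_mem_center i₀ hφ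
  apply hker
  rw [MonoidHom.mem_ker]
  ext v
  have := mem_wtSpace_iff.mp (hall v) φ
  rw [this]
  simp

/-- **Core bound**: a representation of `SL ι F` (`|ι| ≥ 3`) with central kernel over a field
admitting a nontrivial additive character of `F` has dimension at least `q^(|ι|-1) - 1`. -/
theorem sl_min_degree_core [FiniteDimensional L V] (hι : 2 < Fintype.card ι)
    (R : Matrix.SpecialLinearGroup ι F →* Module.End L V)
    (hker : R.ker ≤ Subgroup.center (Matrix.SpecialLinearGroup ι F)) (ψ : AddChar F L)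
    (hψ : ∃ t, ψ t ≠ 1) (hq : (Fintype.card F : L) ≠ 0) :
    Fintype.card F ^ (Fintype.card ι - 1) - 1 ≤ finrank L V := by
  classical
  obtain ⟨i₀⟩ : Nonempty ι := Fintype.card_pos_iff.mp (by omega)
  letI : Fintype (Phi F i₀) := Fintype.ofFinite _
  obtain ⟨b₀, hb₀, hW₀⟩ := exists_wtSpace_ne_bot (by omega) R hker ψ hψ hq i₀
  have he0 : (Pi.single i₀ 1 : ι → F) ≠ 0 := by
    intro h
    have := congrFun h i₀
    simp at this
  have hli : ∀ b : Phi F i₀, b ≠ 0 →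
      LinearIndependent F ![(Pi.single i₀ 1 : ι → F), b.1] := by
    intro b hb
    rw [LinearIndependent.pair_iff' he0]
    intro a ha
    apply hb
    have h1 := congrFun ha i₀
    rw [Phi_apply, Pi.smul_apply, Pi.single_eq_same, smul_eq_mul, mul_one] at h1
    apply Subtype.ext
    rw [← ha, h1, zero_smul]
    rfl
  have hall : ∀ b : Phi F i₀, b ≠ 0 → wtSpace R ψ i₀ b.1 ≠ ⊥ := by
    intro b hb
    obtain ⟨g, hg⟩ := exists_SL_smul_eq _ _ (hli b₀ hb₀) (hli b hb) (by simpa using hι)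
    have hg0 : g • (Pi.single i₀ 1 : ι → F) = Pi.single i₀ 1 := by simpa using hg 0
    have hg1 : g • b₀.1 = b.1 := by simpa using hg 1
    obtain ⟨v, hv, hv0⟩ := Submodule.exists_mem_ne_zero_of_ne_bot hW₀
    have hmem := map_wtSpace g hg0 hv
    rw [hg1] at hmem
    intro hbot
    rw [hbot, Submodule.mem_bot] at hmem
    apply hv0
    have h3 : R g⁻¹ (R g v) = v := by
      rw [← Module.End.mul_apply, ← map_mul, inv_mul_cancel, map_one]
      rfl
    rw [hmem, map_zero] at h3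
    exact h3.symm
  have hind := iSupIndep_wtSpace R ψ hψ i₀
  letI : Fintype {b : Phi F i₀ // wtSpace R ψ i₀ b.1 ≠ ⊥} := Fintype.ofFinite _
  have hle := hind.subtype_ne_bot_le_finrank
  have h4 : Fintype.card {b : Phi F i₀ // b ≠ 0} ≤
      Fintype.card {b : Phi F i₀ // wtSpace R ψ i₀ b.1 ≠ ⊥} :=
    Fintype.card_le_of_injective (fun b => ⟨b.1, hall b.1 b.2⟩) (fun a b h => by
      apply Subtype.ext
      exact congrArg (fun x : {b : Phi F i₀ // wtSpace R ψ i₀ b.1 ≠ ⊥} => x.1) h)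
  have h5 : Fintype.card {b : Phi F i₀ // b ≠ 0} = Fintype.card (Phi F i₀) - 1 := by
    rw [Fintype.card_subtype_compl, Fintype.card_subtype_eq]
  rw [card_Phi] at h5
  omega

end Core

end Cfsg.Agent.Helper12
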