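import Mathlib
import Cfsg.Agent.Lib.Helper12.SLMinDeg
import Cfsg.Agent.Lib.Helper12.SLGen

/-!
# The smallest degree of a nontrivial complex representation of `SL ι F`: definitions

`xPhi i₀ φ = 1 + e_{i₀} φᵀ` (row group, from `SLMinDeg`), `yPhi i₀ b = 1 + b e_{i₀}ᵀ` (column group),
the Levi type subgroup `Lp` fixing `e_{i₀}` and the `i₀`-th coordinate, and its action on the
hyperplane `Phi F i₀` and on the nonzero vectors of that hyperplane.
-/

set_option autoImplicit false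

namespace Cfsg.Agent.Helper12.LSL

open Matrix Cfsg.Agent.Helper12

variable {F : Type*} [Field F] {ι : Type*} [Fintype ι] [DecidableEq ι]

/-- the column group element `1 + b e_{i₀}ᵀ` -/
def yPhi (i₀ : ι) (b : Phi F i₀) : Matrix.SpecialLinearGroup ι F :=
  ⟨1 + vecMulVec b.1 (Pi.single i₀ 1), by
    rw [vecMulVec_eq Unit, det_one_add_replicateCol_mul_replicateRow, single_dotProduct, one_mul,
      Phi_apply, add_zero]⟩

theorem yPhi_smul (i₀ : ι) (b : Phi F i₀) (v : ι → F) : yPhi i₀ b • v = v + v i₀ • b.1 := by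
  rw [Matrix.SpecialLinearGroup.smul_def, smul_eq_mulVec]
  show (1 + vecMulVec b.1 (Pi.single i₀ 1)) *ᵥ v = _
  rw [add_mulVec, one_mulVec, vecMulVec_mulVec, op_smul_eq_smul, single_dotProduct, one_mul]

theorem yPhi_zero (i₀ : ι) : yPhi i₀ (0 : Phi F i₀) = 1 := by
  apply SL_ext_smul
  intro v
  rw [yPhi_smul, one_smul]
  simp

theorem yPhi_add (i₀ : ι) (b b' : Phi F i₀) : yPhi i₀ (b + b') = yPhi i₀ b * yPhi i₀ b' := by
  apply SL_ext_smul
  intro v
  rw [mul_smul, yPhi_smul, yPhi_smul, yPhi_smul, Pi.add_apply, Pi.smul_apply, Phi_apply, smul_zero,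
    add_zero, Submodule.coe_add, smul_add]
  abel

/-- the subgroup fixing `e_{i₀}` and the `i₀`-th coordinate functional -/
def Lp (F : Type*) [Field F] {ι : Type*} [Fintype ι] [DecidableEq ι] (i₀ : ι) :
    Subgroup (Matrix.SpecialLinearGroup ι F) where
  carrier := {g | g • (Pi.single i₀ 1 : ι → F) = Pi.single i₀ 1 ∧ ∀ v : ι → F, (g • v) i₀ = v i₀}
  mul_mem' := by
    rintro g h ⟨hg1, hg2⟩ ⟨hh1, hh2⟩
    refine ⟨?_, fun v => ?_⟩
    · rw [mul_smul, hh1, hg1]
    · rw [mul_smul, hg2, hh2]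
  one_mem' := ⟨one_smul _ _, fun v => by rw [one_smul]⟩
  inv_mem' := by
    rintro g ⟨hg1, hg2⟩
    refine ⟨?_, fun v => ?_⟩
    · rw [inv_smul_eq_iff, hg1]
    · have := hg2 (g⁻¹ • v)
      rw [smul_inv_smul] at this
      exact this.symm

theorem mem_Lp_iff {i₀ : ι} {g : Matrix.SpecialLinearGroup ι F} :
    g ∈ Lp F i₀ ↔ g • (Pi.single i₀ 1 : ι → F) = Pi.single i₀ 1 ∧
      ∀ v : ι → F, (g • v) i₀ = v i₀ := Iff.rfl

theorem Lp_smul_mem {i₀ : ι} {g : Matrix.SpecialLinearGroup ι F} (hg : g ∈ Lp F i₀) {b : ι → F}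
    (hb : b ∈ Phi F i₀) : g • b ∈ Phi F i₀ := by
  rw [mem_Phi_iff] at hb ⊢
  rw [hg.2, hb]

/-- the action of `Lp` on the hyperplane -/
instance instMulActionPhi (i₀ : ι) : MulAction (Lp F i₀) (Phi F i₀) where
  smul l b := ⟨l.1 • b.1, Lp_smul_mem l.2 b.2⟩
  one_smul b := Subtype.ext (one_smul _ _)
  mul_smul l l' b := Subtype.ext (mul_smul _ _ _)

theorem Lp_smul_val (i₀ : ι) (l : Lp F i₀) (b : Phi F i₀) : (l • b).1 = l.1 • b.1 := rfl

theorem Lp_smul_add (i₀ : ι) (l : Lp F i₀) (b b' : Phi F i₀) : l • (b + b') = l • b + l • b' := by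
  apply Subtype.ext
  rw [Lp_smul_val, Submodule.coe_add, Submodule.coe_add, Lp_smul_val, Lp_smul_val]
  simp only [Matrix.SpecialLinearGroup.smul_def, smul_eq_mulVec, mulVec_add]

theorem Lp_smul_zero (i₀ : ι) (l : Lp F i₀) : l • (0 : Phi F i₀) = 0 := by
  apply Subtype.ext
  rw [Lp_smul_val]
  simp only [Matrix.SpecialLinearGroup.smul_def, smul_eq_mulVec, Submodule.coe_zero, mulVec_zero]

theorem Lp_smul_eq_zero_iff (i₀ : ι) (l : Lp F i₀) (b : Phi F i₀) : l • b = 0 ↔ b = 0 := by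
  constructor
  · intro h
    have := congrArg (fun x => l⁻¹ • x) h
    simp only [inv_smul_smul] at this
    rw [this, Lp_smul_zero]
  · rintro rfl
    exact Lp_smul_zero i₀ l

/-- the nonzero vectors of the hyperplane -/
abbrev NZ (F : Type*) [Field F] {ι : Type*} (i₀ : ι) : Type _ := {b : Phi F i₀ // b ≠ 0}

instance instMulActionNZ (i₀ : ι) : MulAction (Lp F i₀) (NZ F i₀) where
  smul l b := ⟨l • b.1, fun h => b.2 ((Lp_smul_eq_zero_iff i₀ l b.1).1 h)⟩
  one_smul b := Subtype.ext (one_smul _ _)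
  mul_smul l l' b := Subtype.ext (mul_smul _ _ _)

theorem NZ_smul_val (i₀ : ι) (l : Lp F i₀) (b : NZ F i₀) : (l • b).1 = l • b.1 := rfl

/-- conjugation of the column group by `Lp` -/
theorem Lp_conj_yPhi (i₀ : ι) (l : Lp F i₀) (b : Phi F i₀) :
    l.1 * yPhi i₀ b * l.1⁻¹ = yPhi i₀ (l • b) := by
  apply SL_ext_smul
  intro v
  have h2 : (l.1⁻¹ • v) i₀ = v i₀ := ((Lp F i₀).inv_mem l.2).2 v
  rw [mul_smul, mul_smul, yPhi_smul, yPhi_smul, h2, Lp_smul_val]
  simp only [Matrix.SpecialLinearGroup.smul_def, smul_eq_mulVec, mulVec_add, mulVec_smul]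
  congr 1
  rw [← smul_eq_mulVec, ← smul_eq_mulVec, ← Matrix.SpecialLinearGroup.smul_def,
    ← Matrix.SpecialLinearGroup.smul_def, smul_inv_smul]

/-- conjugation of the row group by `Lp` -/
theorem Lp_conj_xPhi (i₀ : ι) (l : Lp F i₀) (φ : Phi F i₀) :
    ∃ φ' : Phi F i₀, l.1⁻¹ * xPhi i₀ φ * l.1 = xPhi i₀ φ' ∧
      ∀ b : Phi F i₀, φ'.1 ⬝ᵥ b.1 = φ.1 ⬝ᵥ (l • b).1 := by
  obtain ⟨φ', h1, h2⟩ := exists_conj_xPhi i₀ l.1 l.2.1 φ
  exact ⟨φ', h1, fun b => h2 b.1⟩

/-- elementary transvections in the row group -/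
theorem transvection_eq_xPhi {i₀ j : ι} (h : i₀ ≠ j) (c : F) :
    ∃ φ : Phi F i₀, Matrix.SpecialLinearGroup.transvection h c = xPhi i₀ φ ∧
      φ.1 = c • (Pi.single j 1 : ι → F) := by
  have hmem : c • (Pi.single j 1 : ι → F) ∈ Phi F i₀ := by
    rw [mem_Phi_iff, Pi.smul_apply, Pi.single_eq_of_ne h, smul_zero]
  refine ⟨⟨_, hmem⟩, ?_, rfl⟩
  apply Subtype.ext
  show (Matrix.SpecialLinearGroup.transvection h c).1 = 1 + vecMulVec (Pi.single i₀ 1) (c • Pi.single j 1)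
  rw [Matrix.SpecialLinearGroup.transvection_coe]
  congr 1
  ext a b
  simp only [single_apply, vecMulVec_apply, Pi.smul_apply, Pi.single_apply, smul_eq_mul]
  by_cases h1 : i₀ = a <;> by_cases h2 : j = b <;> simp [h1, h2, eq_comm]

/-- elementary transvections in the column group -/
theorem transvection_eq_yPhi {i i₀ : ι} (h : i ≠ i₀) (c : F) :
    ∃ b : Phi F i₀, Matrix.SpecialLinearGroup.transvection h c = yPhi i₀ b ∧
      b.1 = c • (Pi.single i 1 : ι → F) := by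
  have hmem : c • (Pi.single i 1 : ι → F) ∈ Phi F i₀ := by
    rw [mem_Phi_iff, Pi.smul_apply, Pi.single_eq_of_ne h.symm, smul_zero]
  refine ⟨⟨_, hmem⟩, ?_, rfl⟩
  apply Subtype.ext
  show (Matrix.SpecialLinearGroup.transvection h c).1 = 1 + vecMulVec (c • Pi.single i 1) (Pi.single i₀ 1)
  rw [Matrix.SpecialLinearGroup.transvection_coe]
  congr 1
  ext a b
  simp only [single_apply, vecMulVec_apply, Pi.smul_apply, Pi.single_apply, smul_eq_mul]
  by_cases h1 : i = a <;> by_cases h2 : i₀ = b <;> simp [h1, h2, eq_comm]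

theorem transvection_smul {i j : ι} (h : i ≠ j) (c : F) (v : ι → F) :
    Matrix.SpecialLinearGroup.transvection h c • v = v + (c * v j) • (Pi.single i 1 : ι → F) := by
  rw [Matrix.SpecialLinearGroup.smul_def, smul_eq_mulVec, Matrix.SpecialLinearGroup.transvection_coe]
  funext a
  rw [add_mulVec, one_mulVec, Pi.add_apply, Pi.add_apply, Pi.smul_apply, smul_eq_mul]
  congr 1
  simp only [mulVec, dotProduct, single_apply, Pi.single_apply]
  by_cases h1 : i = a
  · subst h1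
    simp
  · have : ¬ a = i := fun h' => h1 h'.symm
    simp [h1, this]

/-- elementary transvections in `Lp` -/
theorem transvection_mem_Lp {i₀ i j : ι} (h : i ≠ j) (hi : i ≠ i₀) (hj : j ≠ i₀) (c : F) :
    Matrix.SpecialLinearGroup.transvection h c ∈ Lp F i₀ := by
  refine ⟨?_, fun v => ?_⟩
  · rw [transvection_smul, Pi.single_eq_of_ne hj, mul_zero, zero_smul, add_zero]
  · rw [transvection_smul, Pi.add_apply, Pi.smul_apply, Pi.single_eq_of_ne hi.symm, smul_zero,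
      add_zero]

end Cfsg.Agent.Helper12.LSL
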