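import Mathlib
import Cfsg.Agent.Lib.Helper12.LSLDefs

/-!
# The number of weights fixed by an elementary transvection of `Lp`
-/

set_option autoImplicit false

namespace Cfsg.Agent.Helper12.LSL

open Matrix Cfsg.Agent.Helper12 Module

variable {F : Type*} [Field F] [Fintype F] {ι : Type*} [Fintype ι] [DecidableEq ι]

/-- the vectors vanishing at two coordinates -/
def Phi2 (F : Type*) [Field F] {ι : Type*} (i₀ k : ι) : Submodule F (ι → F) :=
  LinearMap.ker ((LinearMap.proj i₀ : (ι → F) →ₗ[F] F).prod (LinearMap.proj k))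

omit [Fintype F] [Fintype ι] [DecidableEq ι] in
theorem mem_Phi2_iff {i₀ k : ι} {b : ι → F} : b ∈ Phi2 F i₀ k ↔ b i₀ = 0 ∧ b k = 0 := by
  unfold Phi2
  rw [LinearMap.mem_ker, LinearMap.prod_apply]
  simp

theorem card_Phi2 {i₀ k : ι} (h : k ≠ i₀) [Fintype (Phi2 F i₀ k)] :
    Fintype.card (Phi2 F i₀ k) = Fintype.card F ^ (Fintype.card ι - 2) := by
  rw [Module.card_eq_pow_finrank (K := F) (V := Phi2 F i₀ k)]
  congr 1
  have h1 := LinearMap.finrank_range_add_finrank_ker
    ((LinearMap.proj i₀ : (ι → F) →ₗ[F] F).prod (LinearMap.proj k))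
  have h2 : LinearMap.range ((LinearMap.proj i₀ : (ι → F) →ₗ[F] F).prod (LinearMap.proj k)) = ⊤ := by
    rw [LinearMap.range_eq_top]
    rintro ⟨a, b⟩
    refine ⟨a • Pi.single i₀ 1 + b • Pi.single k 1, ?_⟩
    rw [LinearMap.prod_apply]
    simp [h, h.symm]
  rw [h2, finrank_top, Module.finrank_prod, Module.finrank_self,
    Module.finrank_fintype_fun_eq_card] at h1
  unfold Phi2
  omega

/-- the number of nonzero weights fixed by an elementary transvection of `Lp` -/
theorem card_fixed_transvection {i₀ j k : ι} (hjk : j ≠ k) (hj : j ≠ i₀) (hk : k ≠ i₀)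
    [Fintype (Phi F i₀)] [DecidableEq (Phi F i₀)] (t : F) (ht : t ≠ 0) :
    (Finset.univ.filter (fun b : Phi F i₀ => b ≠ 0 ∧
      (⟨Matrix.SpecialLinearGroup.transvection hjk t, transvection_mem_Lp hjk hj hk t⟩ : Lp F i₀) • b
        = b)).card = Fintype.card F ^ (Fintype.card ι - 2) - 1 := by
  classical
  let _ : Fintype (Phi2 F i₀ k) := Fintype.ofFinite _
  rw [← card_Phi2 (F := F) hk]
  have hiff : ∀ b : Phi F i₀,
      ((⟨Matrix.SpecialLinearGroup.transvection hjk t, transvection_mem_Lp hjk hj hk t⟩ : Lp F i₀) • b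
        = b) ↔ b.1 k = 0 := by
    intro b
    rw [Subtype.ext_iff, Lp_smul_val]
    show Matrix.SpecialLinearGroup.transvection hjk t • b.1 = b.1 ↔ _
    rw [transvection_smul]
    constructor
    · intro h
      have h1 := congrFun h j
      rw [Pi.add_apply, Pi.smul_apply, Pi.single_eq_same, smul_eq_mul, mul_one] at h1
      have h2 : t * b.1 k = 0 := by
        have := add_left_cancel (a := b.1 j) (b := t * b.1 k) (c := 0) (by rw [add_zero]; exact h1)
        exact this
      rcases mul_eq_zero.1 h2 with h3 | h3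
      · exact absurd h3 ht
      · exact h3
    · intro h
      rw [h, mul_zero, zero_smul, add_zero]
  have hcard : (Finset.univ.filter (fun b : Phi F i₀ => b.1 k = 0)).card =
      Fintype.card (Phi2 F i₀ k) := by
    rw [← Fintype.card_subtype]
    refine Fintype.card_congr
      { toFun := fun b => ⟨b.1.1, mem_Phi2_iff.2 ⟨Phi_apply i₀ b.1, b.2⟩⟩
        invFun := fun b => ⟨⟨b.1, mem_Phi_iff.2 (mem_Phi2_iff.1 b.2).1⟩, (mem_Phi2_iff.1 b.2).2⟩
        left_inv := fun b => rfl
        right_inv := fun b => rfl }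
  rw [← hcard]
  have hsub : Finset.univ.filter (fun b : Phi F i₀ => b ≠ 0 ∧
      (⟨Matrix.SpecialLinearGroup.transvection hjk t, transvection_mem_Lp hjk hj hk t⟩ : Lp F i₀) • b
        = b) = (Finset.univ.filter (fun b : Phi F i₀ => b.1 k = 0)).erase 0 := by
    ext b
    simp only [Finset.mem_filter, Finset.mem_univ, true_and, Finset.mem_erase, hiff]
  rw [hsub, Finset.card_erase_of_mem]
  simp

end Cfsg.Agent.Helper12.LSL
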