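import Mathlib
import Cfsg.Agent.Lib.Helper12.LSLDefs

/-!
# Projection calculus for the weight spaces of the row group
-/

set_option autoImplicit false

namespace Cfsg.Agent.Helper12.LSL

open Matrix Cfsg.Agent.Helper12 Module

variable {F : Type*} [Field F] [Fintype F] {ι : Type*} [Fintype ι] [DecidableEq ι]
variable {V : Type*} [AddCommGroup V] [Module ℂ V]

/-- the sum of a nontrivial character over the first variable vanishes -/
theorem sum_psi_dot_eq_zero' {i₀ : ι} [Fintype (Phi F i₀)] (ψ : AddChar F ℂ) (hψ : ∃ t, ψ t ≠ 1)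
    {b : Phi F i₀} (hb : b ≠ 0) : ∑ φ : Phi F i₀, ψ (φ.1 ⬝ᵥ b.1) = 0 := by
  have := sum_psi_dot_eq_zero ψ hψ hb
  simpa [dotProduct_comm] using this

variable (R : Matrix.SpecialLinearGroup ι F →* Module.End ℂ V) (ψ : AddChar F ℂ) (i₀ : ι)
  [Fintype (Phi F i₀)]

theorem wtProj_apply (b : Phi F i₀) (v : V) :
    wtProj R ψ i₀ b v = ∑ φ : Phi F i₀, ψ (-(φ.1 ⬝ᵥ b.1)) • R (xPhi i₀ φ) v := by
  unfold wtProj
  rw [LinearMap.sum_apply]
  rfl

theorem wtProj_of_mem (hψ : ∃ t, ψ t ≠ 1) [DecidableEq (Phi F i₀)] (b b' : Phi F i₀) {v : V}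
    (hv : v ∈ wtSpace R ψ i₀ b'.1) :
    wtProj R ψ i₀ b v = if b = b' then (Fintype.card (Phi F i₀) : ℂ) • v else 0 := by
  rw [wtProj_apply]
  rw [mem_wtSpace_iff] at hv
  have h1 : ∀ φ : Phi F i₀, ψ (-(φ.1 ⬝ᵥ b.1)) • R (xPhi i₀ φ) v =
      ψ (φ.1 ⬝ᵥ (b' - b).1) • v := by
    intro φ
    rw [hv φ, smul_smul, ← AddChar.map_add_eq_mul]
    congr 2
    rw [Submodule.coe_sub, dotProduct_sub]
    ring
  simp only [h1]
  rw [← Finset.sum_smul]
  by_cases h : b = b'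
  · subst h
    rw [if_pos rfl]
    congr 1
    simp
  · rw [if_neg h, sum_psi_dot_eq_zero' ψ hψ (sub_ne_zero.mpr (Ne.symm h)), zero_smul]

/-- the normalized projection onto a weight space -/
noncomputable def pr (b : Phi F i₀) : Module.End ℂ V :=
  ((Fintype.card (Phi F i₀) : ℂ)⁻¹) • wtProj R ψ i₀ b

omit [Fintype F] in
theorem card_Phi_ne_zero : (Fintype.card (Phi F i₀) : ℂ) ≠ 0 :=
  Nat.cast_ne_zero.2 Fintype.card_ne_zero

theorem pr_mem (b : Phi F i₀) (v : V) : pr R ψ i₀ b v ∈ wtSpace R ψ i₀ b.1 := by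
  unfold pr
  rw [LinearMap.smul_apply]
  exact Submodule.smul_mem _ _ (wtProj_mem R ψ i₀ b v)

theorem pr_of_mem (hψ : ∃ t, ψ t ≠ 1) [DecidableEq (Phi F i₀)] (b b' : Phi F i₀) {v : V}
    (hv : v ∈ wtSpace R ψ i₀ b'.1) : pr R ψ i₀ b v = if b = b' then v else 0 := by
  unfold pr
  rw [LinearMap.smul_apply, wtProj_of_mem R ψ i₀ hψ b b' hv]
  by_cases h : b = b'
  · rw [if_pos h, if_pos h, smul_smul, inv_mul_cancel₀ (card_Phi_ne_zero i₀), one_smul]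
  · rw [if_neg h, if_neg h, smul_zero]

theorem sum_pr (hψ : ∃ t, ψ t ≠ 1) : ∑ b : Phi F i₀, pr R ψ i₀ b = 1 := by
  unfold pr
  rw [← Finset.smul_sum, sum_wtProj R ψ hψ i₀, smul_smul, inv_mul_cancel₀ (card_Phi_ne_zero i₀),
    one_smul]

theorem sum_pr_apply (hψ : ∃ t, ψ t ≠ 1) (v : V) : ∑ b : Phi F i₀, pr R ψ i₀ b v = v := by
  have := congrArg (fun f : Module.End ℂ V => f v) (sum_pr R ψ i₀ hψ)
  simpa [LinearMap.sum_apply] using this

theorem pr_mul_pr (hψ : ∃ t, ψ t ≠ 1) [DecidableEq (Phi F i₀)] (b b' : Phi F i₀) :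
    pr R ψ i₀ b * pr R ψ i₀ b' = if b = b' then pr R ψ i₀ b else 0 := by
  apply LinearMap.ext
  intro v
  rw [Module.End.mul_apply, pr_of_mem R ψ i₀ hψ b b' (pr_mem R ψ i₀ b' v)]
  by_cases h : b = b'
  · rw [if_pos h, if_pos h, h]
  · rw [if_neg h, if_neg h]
    rfl

theorem isProj_pr (hψ : ∃ t, ψ t ≠ 1) (b : Phi F i₀) :
    LinearMap.IsProj (wtSpace R ψ i₀ b.1) (pr R ψ i₀ b) := by
  classical
  refine ⟨fun v => pr_mem R ψ i₀ b v, fun v hv => ?_⟩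
  rw [pr_of_mem R ψ i₀ hψ b b hv, if_pos rfl]

theorem trace_pr [FiniteDimensional ℂ V] (hψ : ∃ t, ψ t ≠ 1) (b : Phi F i₀) :
    LinearMap.trace ℂ V (pr R ψ i₀ b) = (finrank ℂ (wtSpace R ψ i₀ b.1) : ℂ) :=
  (isProj_pr R ψ i₀ hψ b).trace

theorem trace_wtProj (b : Phi F i₀) :
    LinearMap.trace ℂ V (wtProj R ψ i₀ b) =
      ∑ φ : Phi F i₀, ψ (-(φ.1 ⬝ᵥ b.1)) * LinearMap.trace ℂ V (R (xPhi i₀ φ)) := by
  unfold wtProj
  rw [map_sum]
  refine Finset.sum_congr rfl fun φ _ => ?_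
  rw [map_smul, smul_eq_mul]

/-- the weight spaces span -/
theorem eq_zero_of_pr_eq_zero (hψ : ∃ t, ψ t ≠ 1) {v : V} (h : ∀ b : Phi F i₀, pr R ψ i₀ b v = 0) :
    v = 0 := by
  rw [← sum_pr_apply R ψ i₀ hψ v]
  exact Finset.sum_eq_zero fun b _ => h b

/-- the action of `Lp` permutes the weight spaces -/
theorem Lp_map_wtSpace (l : Lp F i₀) {b : Phi F i₀} {v : V} (hv : v ∈ wtSpace R ψ i₀ b.1) :
    R l.1 v ∈ wtSpace R ψ i₀ (l • b).1 := by
  rw [Lp_smul_val]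
  exact map_wtSpace l.1 l.2.1 hv

theorem Lp_mul_pr (hψ : ∃ t, ψ t ≠ 1) (l : Lp F i₀) (b : Phi F i₀) :
    R l.1 * pr R ψ i₀ b = pr R ψ i₀ (l • b) * R l.1 := by
  classical
  apply LinearMap.ext
  intro v
  rw [Module.End.mul_apply, Module.End.mul_apply]
  conv_rhs => rw [← sum_pr_apply R ψ i₀ hψ v, map_sum, map_sum]
  have h1 : ∀ b' : Phi F i₀, pr R ψ i₀ (l • b) (R l.1 (pr R ψ i₀ b' v)) =
      if b' = b then R l.1 (pr R ψ i₀ b v) else 0 := by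
    intro b'
    rw [pr_of_mem R ψ i₀ hψ (l • b) (l • b') (Lp_map_wtSpace R ψ i₀ l (pr_mem R ψ i₀ b' v))]
    by_cases h : b' = b
    · subst h
      rw [if_pos rfl, if_pos rfl]
    · rw [if_neg h, if_neg]
      intro h'
      exact h ((MulAction.injective l h').symm)
  simp only [h1]
  rw [Finset.sum_ite_eq' Finset.univ b, if_pos (Finset.mem_univ _)]

end Cfsg.Agent.Helper12.LSL
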