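import Mathlib
import Cfsg.Agent.Lib.Helper12.LSLProj
import Cfsg.Agent.Lib.Helper2.RepWeights

/-!
# Traces and dimensions of weight spaces
-/

set_option autoImplicit false

namespace Cfsg.Agent.Helper12.LSL

open Matrix Cfsg.Agent.Helper12 Module

variable {F : Type*} [Field F] [Fintype F] {ι : Type*} [Fintype ι] [DecidableEq ι]
variable {V : Type*} [AddCommGroup V] [Module ℂ V] [FiniteDimensional ℂ V]
variable (R : Matrix.SpecialLinearGroup ι F →* Module.End ℂ V) (ψ : AddChar F ℂ) (i₀ : ι)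
  [Fintype (Phi F i₀)]

/-- the dimensions of the weight spaces in terms of the trace of a transvection -/
theorem card_mul_finrank_wtSpace [DecidableEq (Phi F i₀)] (hψ : ∃ t, ψ t ≠ 1) (τ : ℂ)
    (hτ : ∀ φ : Phi F i₀, φ ≠ 0 → LinearMap.trace ℂ V (R (xPhi i₀ φ)) = τ) (b : Phi F i₀) :
    (Fintype.card (Phi F i₀) : ℂ) * (finrank ℂ (wtSpace R ψ i₀ b.1) : ℂ) =
      (finrank ℂ V : ℂ) + τ * ((if b = 0 then (Fintype.card (Phi F i₀) : ℂ) else 0) - 1) := by
  have h1 : LinearMap.trace ℂ V (wtProj R ψ i₀ b) =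
      (Fintype.card (Phi F i₀) : ℂ) * (finrank ℂ (wtSpace R ψ i₀ b.1) : ℂ) := by
    rw [← trace_pr R ψ i₀ hψ b]
    unfold pr
    rw [map_smul, smul_eq_mul, ← mul_assoc, mul_inv_cancel₀ (card_Phi_ne_zero i₀), one_mul]
  rw [← h1, trace_wtProj]
  have h2 : ∀ φ : Phi F i₀, ψ (-(φ.1 ⬝ᵥ b.1)) * LinearMap.trace ℂ V (R (xPhi i₀ φ)) =
      (if φ = 0 then ((finrank ℂ V : ℂ) - τ) else 0) + τ * ψ ((-φ).1 ⬝ᵥ b.1) := by
    intro φ
    by_cases hφ : φ = 0
    · subst hφ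
      rw [if_pos rfl, xPhi_zero, map_one]
      have : LinearMap.trace ℂ V (1 : Module.End ℂ V) = (finrank ℂ V : ℂ) := LinearMap.trace_one ℂ V
      rw [this]
      simp
    · rw [if_neg hφ, hτ φ hφ, zero_add, mul_comm]
      congr 2
      rw [Submodule.coe_neg, neg_dotProduct]
  simp only [h2]
  have h3 : ∑ φ : Phi F i₀, ψ ((-φ).1 ⬝ᵥ b.1) = ∑ φ : Phi F i₀, ψ (φ.1 ⬝ᵥ b.1) :=
    Equiv.sum_comp (Equiv.neg (Phi F i₀)) (fun φ : Phi F i₀ => ψ (φ.1 ⬝ᵥ b.1))
  rw [Finset.sum_add_distrib, Finset.sum_ite_eq' Finset.univ (0 : Phi F i₀),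
    if_pos (Finset.mem_univ _), ← Finset.mul_sum, h3]
  by_cases hb : b = 0
  · subst hb
    rw [if_pos rfl]
    simp
    ring
  · rw [if_neg hb, sum_psi_dot_eq_zero' ψ hψ hb]
    ring

/-- the numerical data: `d = c + (Q - 1) m` and `τ = c - m` -/
theorem finrank_data (hψ : ∃ t, ψ t ≠ 1) (τ : ℂ)
    (hτ : ∀ φ : Phi F i₀, φ ≠ 0 → LinearMap.trace ℂ V (R (xPhi i₀ φ)) = τ) (b₁ : Phi F i₀)
    (hb₁ : b₁ ≠ 0) :
    (∀ b : Phi F i₀, b ≠ 0 →
      finrank ℂ (wtSpace R ψ i₀ b.1) = finrank ℂ (wtSpace R ψ i₀ b₁.1)) ∧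
    τ = (finrank ℂ (wtSpace R ψ i₀ (0 : Phi F i₀).1) : ℂ) - (finrank ℂ (wtSpace R ψ i₀ b₁.1) : ℂ) ∧
    finrank ℂ V = finrank ℂ (wtSpace R ψ i₀ (0 : Phi F i₀).1) +
      (Fintype.card (Phi F i₀) - 1) * finrank ℂ (wtSpace R ψ i₀ b₁.1) := by
  classical
  have hQ := card_Phi_ne_zero (F := F) i₀
  have h0 := card_mul_finrank_wtSpace R ψ i₀ hψ τ hτ 0
  rw [if_pos rfl] at h0
  have h1 := card_mul_finrank_wtSpace R ψ i₀ hψ τ hτ b₁
  rw [if_neg hb₁] at h1
  have hτ' : τ = (finrank ℂ (wtSpace R ψ i₀ (0 : Phi F i₀).1) : ℂ) -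
      (finrank ℂ (wtSpace R ψ i₀ b₁.1) : ℂ) := by
    have : (Fintype.card (Phi F i₀) : ℂ) * τ = (Fintype.card (Phi F i₀) : ℂ) *
        ((finrank ℂ (wtSpace R ψ i₀ (0 : Phi F i₀).1) : ℂ) -
          (finrank ℂ (wtSpace R ψ i₀ b₁.1) : ℂ)) := by
      rw [mul_sub, h0, h1]
      ring
    exact mul_left_cancel₀ hQ this
  refine ⟨?_, hτ', ?_⟩
  · intro b hb
    have h2 := card_mul_finrank_wtSpace R ψ i₀ hψ τ hτ b
    rw [if_neg hb, ← h1] at h2
    have := mul_left_cancel₀ hQ h2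
    exact_mod_cast this
  · have hpos : 1 ≤ Fintype.card (Phi F i₀) := Fintype.card_pos
    have : (finrank ℂ V : ℂ) = ((finrank ℂ (wtSpace R ψ i₀ (0 : Phi F i₀).1) +
        (Fintype.card (Phi F i₀) - 1) * finrank ℂ (wtSpace R ψ i₀ b₁.1) : ℕ) : ℂ) := by
      rw [Nat.cast_add, Nat.cast_mul, Nat.cast_sub hpos, Nat.cast_one]
      have h3 : (finrank ℂ V : ℂ) = (Fintype.card (Phi F i₀) : ℂ) *
          (finrank ℂ (wtSpace R ψ i₀ b₁.1) : ℂ) + τ := by
        rw [h1]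
        ring
      rw [h3, hτ']
      ring
    exact_mod_cast this

end Cfsg.Agent.Helper12.LSL

namespace Cfsg.Agent.Helper12.LSL

open Matrix Cfsg.Agent.Helper12 Module

section Avg

variable {A V : Type*} [AddCommGroup A] [Fintype A] [AddCommGroup V] [Module ℂ V]
  [FiniteDimensional ℂ V]

open Cfsg.Agent.Helper2.RepWt in
/-- the dimension of the fixed space is the average of the traces -/
theorem card_mul_finrank_fixed (T : A → V →ₗ[ℂ] V) (hT0 : T 0 = 1)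
    (hTadd : ∀ a b, T (a + b) = T a * T b) :
    (Fintype.card A : ℂ) * (finrank ℂ (wt T (1 : AddChar A ℂ)) : ℂ) =
      ∑ a, LinearMap.trace ℂ V (T a) := by
  classical
  have hproj : LinearMap.IsProj (wt T (1 : AddChar A ℂ)) (proj T (1 : AddChar A ℂ)) := by
    refine ⟨fun v => proj_mem T hTadd 1 v, fun v hv => ?_⟩
    rw [proj_of_mem T hv, if_pos rfl]
  have h1 := hproj.trace
  rw [← h1]
  unfold proj
  rw [map_smul, smul_eq_mul, ← mul_assoc, mul_inv_cancel₀ card_ne_zero', one_mul, map_sum]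
  refine Finset.sum_congr rfl fun a _ => ?_
  rw [map_smul, AddChar.one_apply, one_smul]

open Cfsg.Agent.Helper2.RepWt in
theorem mem_wt_one_iff (T : A → V →ₗ[ℂ] V) (v : V) :
    v ∈ wt T (1 : AddChar A ℂ) ↔ ∀ a, T a v = v := by
  rw [mem_wt]
  simp only [AddChar.one_apply, one_smul]

open Cfsg.Agent.Helper2.RepWt in
/-- the averaging operator is idempotent -/
theorem isIdempotentElem_proj_one (T : A → V →ₗ[ℂ] V) (hTadd : ∀ a b, T (a + b) = T a * T b) :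
    IsIdempotentElem (proj T (1 : AddChar A ℂ)) := by
  classical
  apply LinearMap.ext
  intro v
  rw [Module.End.mul_apply, proj_of_mem T (proj_mem T hTadd 1 v), if_pos rfl]

end Avg

variable {F : Type*} [Field F] [Fintype F] {ι : Type*} [Fintype ι] [DecidableEq ι]
variable {V : Type*} [AddCommGroup V] [Module ℂ V] [FiniteDimensional ℂ V]
variable (R : Matrix.SpecialLinearGroup ι F →* Module.End ℂ V) (ψ : AddChar F ℂ) (i₀ : ι)
  [Fintype (Phi F i₀)]

/-- the stabiliser in `Lp` of a nonzero weight acts trivially on its weight space -/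
def Triv : Prop :=
  ∀ (l : Lp F i₀) (b : Phi F i₀), b ≠ 0 → l • b = b → ∀ w ∈ wtSpace R ψ i₀ b.1, R l.1 w = w

/-- the fixed space of the column group -/
def fixY : Submodule ℂ V :=
  Cfsg.Agent.Helper2.RepWt.wt (fun b : Phi F i₀ => R (yPhi i₀ b)) (1 : AddChar (Phi F i₀) ℂ)

omit [Fintype F] in
theorem mem_fixY_iff (v : V) : v ∈ fixY R i₀ ↔ ∀ b : Phi F i₀, R (yPhi i₀ b) v = v :=
  mem_wt_one_iff _ v

/-- the dimension of the fixed space of the column group -/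
theorem finrank_fixY (hψ : ∃ t, ψ t ≠ 1) (τ : ℂ)
    (hτ : ∀ φ : Phi F i₀, φ ≠ 0 → LinearMap.trace ℂ V (R (xPhi i₀ φ)) = τ)
    (hτ' : ∀ b : Phi F i₀, b ≠ 0 → LinearMap.trace ℂ V (R (yPhi i₀ b)) = τ) :
    finrank ℂ (fixY R i₀) = finrank ℂ (wtSpace R ψ i₀ (0 : Phi F i₀).1) := by
  classical
  have h1 := card_mul_finrank_fixed (fun b : Phi F i₀ => R (yPhi i₀ b))
    (by show R (yPhi i₀ 0) = 1; rw [yPhi_zero, map_one])
    (by intro a b; show R (yPhi i₀ (a + b)) = R (yPhi i₀ a) * R (yPhi i₀ b); rw [yPhi_add, map_mul])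
  have h2 : ∑ b : Phi F i₀, LinearMap.trace ℂ V (R (yPhi i₀ b)) =
      (finrank ℂ V : ℂ) + τ * ((Fintype.card (Phi F i₀) : ℂ) - 1) := by
    have h3 : ∀ b : Phi F i₀, LinearMap.trace ℂ V (R (yPhi i₀ b)) =
        (if b = 0 then ((finrank ℂ V : ℂ) - τ) else 0) + τ := by
      intro b
      by_cases hb : b = 0
      · subst hb
        rw [if_pos rfl, yPhi_zero, map_one]
        have : LinearMap.trace ℂ V (1 : Module.End ℂ V) = (finrank ℂ V : ℂ) :=
          LinearMap.trace_one ℂ V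
        rw [this]
        ring
      · rw [if_neg hb, hτ' b hb, zero_add]
    simp only [h3]
    rw [Finset.sum_add_distrib, Finset.sum_ite_eq' Finset.univ (0 : Phi F i₀),
      if_pos (Finset.mem_univ _), Finset.sum_const, Finset.card_univ, nsmul_eq_mul]
    ring
  have h0 := card_mul_finrank_wtSpace R ψ i₀ hψ τ hτ 0
  rw [if_pos rfl] at h0
  have h4 : (Fintype.card (Phi F i₀) : ℂ) * (finrank ℂ (fixY R i₀) : ℂ) =
      (Fintype.card (Phi F i₀) : ℂ) * (finrank ℂ (wtSpace R ψ i₀ (0 : Phi F i₀).1) : ℂ) := by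
    rw [h0, ← h2, ← h1]
    rfl
  have := mul_left_cancel₀ (card_Phi_ne_zero (F := F) i₀) h4
  exact_mod_cast this

/-- the trace of an element of `Lp` -/
theorem trace_Lp [DecidableEq (Phi F i₀)] (hψ : ∃ t, ψ t ≠ 1)
    (hm : ∀ b : Phi F i₀, b ≠ 0 → finrank ℂ (wtSpace R ψ i₀ b.1) = 1)
    (htriv : Triv R ψ i₀) (l : Lp F i₀) :
    LinearMap.trace ℂ V (R l.1) = LinearMap.trace ℂ V (R l.1 * pr R ψ i₀ 0) +
      ((Finset.univ.filter (fun b : Phi F i₀ => b ≠ 0 ∧ l • b = b)).card : ℂ) := by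
  have h1 : R l.1 = ∑ b : Phi F i₀, R l.1 * pr R ψ i₀ b := by
    rw [← Finset.mul_sum, sum_pr R ψ i₀ hψ, mul_one]
  have h2 : ∀ b : Phi F i₀, b ≠ 0 → LinearMap.trace ℂ V (R l.1 * pr R ψ i₀ b) =
      if l • b = b then 1 else 0 := by
    intro b hb
    by_cases hlb : l • b = b
    · rw [if_pos hlb]
      have h3 : R l.1 * pr R ψ i₀ b = pr R ψ i₀ b := by
        apply LinearMap.ext
        intro v
        rw [Module.End.mul_apply]
        exact htriv l b hb hlb _ (pr_mem R ψ i₀ b v)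
      rw [h3, trace_pr R ψ i₀ hψ b, hm b hb, Nat.cast_one]
    · rw [if_neg hlb]
      have h3 : R l.1 * pr R ψ i₀ b = pr R ψ i₀ (l • b) * (R l.1 * pr R ψ i₀ b) := by
        have h4 : pr R ψ i₀ b = pr R ψ i₀ b * pr R ψ i₀ b := by
          rw [pr_mul_pr R ψ i₀ hψ, if_pos rfl]
        conv_lhs => rw [h4, ← mul_assoc, Lp_mul_pr R ψ i₀ hψ l b, mul_assoc]
      rw [h3, LinearMap.trace_mul_comm, mul_assoc, pr_mul_pr R ψ i₀ hψ, if_neg (Ne.symm hlb),
        mul_zero, map_zero]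
  conv_lhs => rw [h1]
  rw [map_sum, ← Finset.add_sum_erase Finset.univ _ (Finset.mem_univ (0 : Phi F i₀))]
  congr 1
  rw [Finset.card_filter, Nat.cast_sum]
  rw [← Finset.add_sum_erase Finset.univ _ (Finset.mem_univ (0 : Phi F i₀))]
  rw [if_neg (fun h => h.1 rfl), Nat.cast_zero, zero_add]
  refine Finset.sum_congr rfl fun b hb => ?_
  have hb0 : b ≠ 0 := Finset.ne_of_mem_erase hb
  rw [h2 b hb0]
  by_cases hlb : l • b = b
  · rw [if_pos hlb, if_pos ⟨hb0, hlb⟩, Nat.cast_one]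
  · rw [if_neg hlb, if_neg (fun h => hlb h.2), Nat.cast_zero]

end Cfsg.Agent.Helper12.LSL

namespace Cfsg.Agent.Helper12.LSL

open Matrix Cfsg.Agent.Helper12 Module

variable {F : Type*} [Field F] [Fintype F] {ι : Type*} [Fintype ι] [DecidableEq ι]
variable {V : Type*} [AddCommGroup V] [Module ℂ V] [FiniteDimensional ℂ V]
variable (R : Matrix.SpecialLinearGroup ι F →* Module.End ℂ V) (ψ : AddChar F ℂ) (i₀ : ι)
  [Fintype (Phi F i₀)]

open Cfsg.Agent.Helper2.RepWt in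
/-- averaging over a one parameter subgroup of `Lp` inside the zero weight space -/
theorem exists_nat_of_one_param [DecidableEq (Phi F i₀)] (hψ : ∃ t, ψ t ≠ 1)
    (hm : ∀ b : Phi F i₀, b ≠ 0 → finrank ℂ (wtSpace R ψ i₀ b.1) = 1)
    (htriv : Triv R ψ i₀) (u : F → Lp F i₀) (hu0 : u 0 = 1) (hadd : ∀ s t, u (s + t) = u s * u t)
    (τ : ℂ) (hτ : ∀ t : F, t ≠ 0 → LinearMap.trace ℂ V (R (u t).1) = τ) (fx : ℕ)
    (hfx : ∀ t : F, t ≠ 0 →
      (Finset.univ.filter (fun b : Phi F i₀ => b ≠ 0 ∧ u t • b = b)).card = fx) :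
    ∃ k : ℕ, (Fintype.card F : ℂ) * (k : ℂ) =
      (finrank ℂ (wtSpace R ψ i₀ (0 : Phi F i₀).1) : ℂ) +
        ((Fintype.card F : ℂ) - 1) * (τ - (fx : ℂ)) := by
  classical
  obtain ⟨T, hT⟩ : ∃ T : F → V →ₗ[ℂ] V, T = fun t => R (u t).1 := ⟨_, rfl⟩
  have hT0 : T 0 = 1 := by
    rw [hT]
    show R (u 0).1 = 1
    rw [hu0]
    exact map_one R
  have hTadd : ∀ a b, T (a + b) = T a * T b := by
    intro a b
    rw [hT]
    show R (u (a + b)).1 = R (u a).1 * R (u b).1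
    rw [hadd, ← map_mul]
    rfl
  have hcomm : ∀ t, Commute (T t) (pr R ψ i₀ 0) := by
    intro t
    rw [hT]
    show R (u t).1 * pr R ψ i₀ 0 = pr R ψ i₀ 0 * R (u t).1
    have := Lp_mul_pr R ψ i₀ hψ (u t) 0
    rw [Lp_smul_zero] at this
    exact this
  have hcomm2 : Commute (proj T (1 : AddChar F ℂ)) (pr R ψ i₀ 0) := by
    unfold proj
    apply Commute.smul_left
    apply Commute.sum_left
    intro t _
    exact (hcomm t).smul_left _
  have hidem : IsIdempotentElem (proj T (1 : AddChar F ℂ) * pr R ψ i₀ 0) := by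
    apply IsIdempotentElem.mul_of_commute hcomm2 (isIdempotentElem_proj_one T hTadd)
    show pr R ψ i₀ 0 * pr R ψ i₀ 0 = pr R ψ i₀ 0
    rw [pr_mul_pr R ψ i₀ hψ, if_pos rfl]
  have htr := (LinearMap.IsIdempotentElem.isProj_range _ hidem).trace
  refine ⟨finrank ℂ (LinearMap.range (proj T (1 : AddChar F ℂ) * pr R ψ i₀ 0)), ?_⟩
  rw [← htr]
  unfold proj
  rw [smul_mul_assoc, map_smul, smul_eq_mul, ← mul_assoc, mul_inv_cancel₀ card_ne_zero', one_mul,
    Finset.sum_mul, map_sum]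
  have h1 : ∀ t : F, LinearMap.trace ℂ V (((1 : AddChar F ℂ) (-t) • T t) * pr R ψ i₀ 0) =
      (if t = 0 then ((finrank ℂ (wtSpace R ψ i₀ (0 : Phi F i₀).1) : ℂ) - (τ - (fx : ℂ))) else 0) +
        (τ - (fx : ℂ)) := by
    intro t
    rw [AddChar.one_apply, one_smul]
    by_cases ht : t = 0
    · subst ht
      rw [if_pos rfl, hT0, one_mul, trace_pr R ψ i₀ hψ]
      ring
    · rw [if_neg ht, zero_add]
      have h2 := trace_Lp R ψ i₀ hψ hm htriv (u t)
      rw [hτ t ht, hfx t ht] at h2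
      rw [hT]
      show LinearMap.trace ℂ V (R (u t).1 * pr R ψ i₀ 0) = _
      rw [h2]
      ring
  simp only [h1]
  rw [Finset.sum_add_distrib, Finset.sum_ite_eq' Finset.univ (0 : F), if_pos (Finset.mem_univ _),
    Finset.sum_const, Finset.card_univ, nsmul_eq_mul]
  ring

end Cfsg.Agent.Helper12.LSL
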