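import Mathlib
import Cfsg.Agent.Lib.Helper12.LSLTrace
import Cfsg.Agent.Lib.Helper13.LSLCONJ
import Cfsg.Agent.Lib.Helper20.LSLPERM
import Cfsg.Agent.Lib.Helper20.LSLGEOM
import Cfsg.Agent.Lib.Helper19.LSLGEN
import Cfsg.Agent.Lib.Helper7.LSLCLASS
import Cfsg.Agent.Lib.Helper6.LSLSTAB

/-!
# The structure of the restriction to the row group and `Lp`, and the embedding of the fixed space of
the column group into the permutation module
-/

set_option autoImplicit false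

namespace Cfsg.Agent.Helper12.LSL

open Matrix Cfsg.Agent.Helper12 Module

variable {F : Type*} [Field F] [Fintype F] {ι : Type*} [Fintype ι] [DecidableEq ι]
variable {V : Type*} [AddCommGroup V] [Module ℂ V] [FiniteDimensional ℂ V]
variable (R : Matrix.SpecialLinearGroup ι F →* Module.End ℂ V) (ψ : AddChar F ℂ) (i₀ : ι)
  [Fintype (Phi F i₀)]

omit [Fintype F] [Fintype (Phi F i₀)] in
theorem Lp_smul_smul (l : Lp F i₀) (a : F) (b : Phi F i₀) : l • (a • b) = a • (l • b) := by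
  apply Subtype.ext
  rw [Lp_smul_val, Submodule.coe_smul, Submodule.coe_smul, Lp_smul_val]
  simp only [Matrix.SpecialLinearGroup.smul_def, smul_eq_mulVec, mulVec_smul]

omit [Fintype F] [FiniteDimensional ℂ V] in
theorem R_inv_apply (g : Matrix.SpecialLinearGroup ι F) (v : V) : R g⁻¹ (R g v) = v := by
  rw [← Module.End.mul_apply, ← map_mul, inv_mul_cancel, map_one, Module.End.one_apply]

omit [Fintype F] [FiniteDimensional ℂ V] in
theorem R_apply_inv (g : Matrix.SpecialLinearGroup ι F) (v : V) : R g (R g⁻¹ v) = v := by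
  rw [← Module.End.mul_apply, ← map_mul, mul_inv_cancel, map_one, Module.End.one_apply]

/-- the basis weight `e_{i₁}` -/
def bOne (F : Type*) [Field F] {ι : Type*} [DecidableEq ι] {i₀ i₁ : ι} (h01 : i₀ ≠ i₁) : NZ F i₀ :=
  ⟨⟨Pi.single i₁ 1, by rw [mem_Phi_iff, Pi.single_eq_of_ne h01]⟩, by
    intro h
    have := congrFun (congrArg Subtype.val h) i₁
    simp at this⟩

omit [Fintype F] [Fintype ι] in
theorem bOne_val {i₀ i₁ : ι} (h01 : i₀ ≠ i₁) : (bOne F h01).1.1 = Pi.single i₁ 1 := rfl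

/-- from the stabiliser statement for one weight to all weights -/
theorem triv_of_stab (hι : 3 ≤ Fintype.card ι) {i₁ : ι} (h01 : i₀ ≠ i₁)
    (hstab : ∀ g : Matrix.SpecialLinearGroup ι F, g • (Pi.single i₀ 1 : ι → F) = Pi.single i₀ 1 →
      g • (Pi.single i₁ 1 : ι → F) = Pi.single i₁ 1 →
      ∀ w ∈ wtSpace R ψ i₀ (Pi.single i₁ 1), R g w = w) : Triv R ψ i₀ := by
  intro l b hb hlb w hw
  obtain ⟨l₁, hl₁⟩ := Lp_transitive hι i₀ (bOne F h01) ⟨b, hb⟩
  have hl₁' : l₁ • (bOne F h01).1 = b := congrArg Subtype.val hl₁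
  have hg1 : (l₁⁻¹ * l * l₁) • (bOne F h01).1 = (bOne F h01).1 := by
    rw [mul_smul, mul_smul, hl₁', hlb, ← hl₁', inv_smul_smul]
  have hg1' : (l₁⁻¹ * l * l₁).1 • (Pi.single i₁ 1 : ι → F) = Pi.single i₁ 1 := by
    have := congrArg Subtype.val hg1
    rw [Lp_smul_val, bOne_val] at this
    exact this
  have hw₁ : R l₁⁻¹.1 w ∈ wtSpace R ψ i₀ (Pi.single i₁ 1) := by
    have := Lp_map_wtSpace R ψ i₀ l₁⁻¹ hw
    rw [← hl₁', inv_smul_smul] at this
    exact this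
  have h1 := hstab (l₁⁻¹ * l * l₁).1 (l₁⁻¹ * l * l₁).2.1 hg1' _ hw₁
  have h2 : (l₁⁻¹ * l * l₁).1 = l₁.1⁻¹ * l.1 * l₁.1 := rfl
  have h3 : (l₁⁻¹).1 = l₁.1⁻¹ := rfl
  rw [h2, h3, map_mul, map_mul, Module.End.mul_apply, Module.End.mul_apply, R_apply_inv] at h1
  have h4 := congrArg (R l₁.1) h1
  rwa [R_apply_inv, R_apply_inv] at h4

/-- the permutation basis of the nonzero weight spaces -/
theorem exists_family (hι : 3 ≤ Fintype.card ι) {i₁ : ι} (h01 : i₀ ≠ i₁)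
    (hm : ∀ b : Phi F i₀, b ≠ 0 → finrank ℂ (wtSpace R ψ i₀ b.1) = 1)
    (htriv : Triv R ψ i₀) :
    ∃ w : NZ F i₀ → V, (∀ b, w b ∈ wtSpace R ψ i₀ b.1.1) ∧ (∀ b, w b ≠ 0) ∧
      ∀ (l : Lp F i₀) (b : NZ F i₀), R l.1 (w b) = w (l • b) := by
  obtain ⟨w₁, hw₁⟩ : ∃ w₁ : wtSpace R ψ i₀ (bOne F h01).1.1, w₁ ≠ 0 := by
    have := hm (bOne F h01).1 (bOne F h01).2
    have hpos : 0 < finrank ℂ (wtSpace R ψ i₀ (bOne F h01).1.1) := by omega
    rw [Module.finrank_pos_iff_exists_ne_zero] at hpos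
    exact hpos
  have hw₁0 : w₁.1 ≠ 0 := fun h => hw₁ (Subtype.ext h)
  choose lb hlb using fun b : NZ F i₀ => Lp_transitive hι i₀ (bOne F h01) b
  have hlb' : ∀ b : NZ F i₀, lb b • (bOne F h01).1 = b.1 := fun b => congrArg Subtype.val (hlb b)
  refine ⟨fun b => R (lb b).1 w₁.1, ?_, ?_, ?_⟩
  · intro b
    have := Lp_map_wtSpace R ψ i₀ (lb b) w₁.2
    rwa [hlb'] at this
  · intro b h
    apply hw₁0
    have := congrArg (R (lb b).1⁻¹) h
    rwa [R_inv_apply, map_zero] at this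
  · intro l b
    have hg : ((lb (l • b))⁻¹ * l * lb b) • (bOne F h01).1 = (bOne F h01).1 := by
      rw [mul_smul, mul_smul, hlb', ← NZ_smul_val, ← hlb' (l • b), inv_smul_smul]
    have h1 := htriv _ _ (bOne F h01).2 hg w₁.1 w₁.2
    have h2 : ((lb (l • b))⁻¹ * l * lb b).1 = (lb (l • b)).1⁻¹ * l.1 * (lb b).1 := rfl
    rw [h2, map_mul, map_mul, Module.End.mul_apply, Module.End.mul_apply] at h1
    have h3 := congrArg (R (lb (l • b)).1) h1
    rwa [R_apply_inv] at h3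

end Cfsg.Agent.Helper12.LSL
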