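import Mathlib
import Cfsg.Agent.Lib.Helper12.LSLStruct

/-!
# The embedding of the fixed space of the column group into the permutation module
-/

set_option autoImplicit false

namespace Cfsg.Agent.Helper12.LSL

open Matrix Cfsg.Agent.Helper12 Module

variable {F : Type*} [Field F] [Fintype F] {ι : Type*} [Fintype ι] [DecidableEq ι]
variable {V : Type*} [AddCommGroup V] [Module ℂ V] [FiniteDimensional ℂ V]
variable (R : Matrix.SpecialLinearGroup ι F →* Module.End ℂ V) (ψ : AddChar F ℂ) (i₀ : ι)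
  [Fintype (Phi F i₀)] [Fintype (NZ F i₀)]

/-- the parametrisation of the sum of the nonzero weight spaces -/
noncomputable def Lam (w : NZ F i₀ → V) : (NZ F i₀ → ℂ) →ₗ[ℂ] V := Fintype.linearCombination ℂ w

omit [Fintype F] [Fintype ι] [DecidableEq ι] [FiniteDimensional ℂ V] [Fintype (Phi F i₀)] in
theorem Lam_apply (w : NZ F i₀ → V) (f : NZ F i₀ → ℂ) : Lam i₀ w f = ∑ b, f b • w b := by
  unfold Lam
  rw [Fintype.linearCombination_apply]

theorem pr_Lam (hψ : ∃ t, ψ t ≠ 1) (w : NZ F i₀ → V) (hw : ∀ b, w b ∈ wtSpace R ψ i₀ b.1.1)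
    (f : NZ F i₀ → ℂ) (b₀ : NZ F i₀) : pr R ψ i₀ b₀.1 (Lam i₀ w f) = f b₀ • w b₀ := by
  classical
  rw [Lam_apply, map_sum]
  have h1 : ∀ b : NZ F i₀, pr R ψ i₀ b₀.1 (f b • w b) = if b = b₀ then f b₀ • w b₀ else 0 := by
    intro b
    rw [map_smul, pr_of_mem R ψ i₀ hψ b₀.1 b.1 (hw b)]
    by_cases h : b = b₀
    · subst h
      rw [if_pos rfl, if_pos rfl]
    · rw [if_neg h, if_neg (fun h' => h (Subtype.ext h'.symm)), smul_zero]
  simp only [h1]
  rw [Finset.sum_ite_eq' Finset.univ b₀, if_pos (Finset.mem_univ _)]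

theorem pr_zero_Lam (hψ : ∃ t, ψ t ≠ 1) (w : NZ F i₀ → V) (hw : ∀ b, w b ∈ wtSpace R ψ i₀ b.1.1)
    (f : NZ F i₀ → ℂ) : pr R ψ i₀ 0 (Lam i₀ w f) = 0 := by
  classical
  rw [Lam_apply, map_sum]
  apply Finset.sum_eq_zero
  intro b _
  rw [map_smul, pr_of_mem R ψ i₀ hψ 0 b.1 (hw b), if_neg (Ne.symm b.2), smul_zero]

theorem Lam_injective (hψ : ∃ t, ψ t ≠ 1) (w : NZ F i₀ → V)
    (hw : ∀ b, w b ∈ wtSpace R ψ i₀ b.1.1) (hw0 : ∀ b, w b ≠ 0) :
    Function.Injective (Lam i₀ w) := by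
  rw [← LinearMap.ker_eq_bot, LinearMap.ker_eq_bot']
  intro f hf
  funext b
  have h1 := pr_Lam R ψ i₀ hψ w hw f b
  rw [hf, map_zero] at h1
  rcases smul_eq_zero.1 h1.symm with h | h
  · exact h
  · exact absurd h (hw0 b)

omit [Fintype F] [FiniteDimensional ℂ V] [Fintype (Phi F i₀)] in
theorem R_Lam (w : NZ F i₀ → V) (l : Lp F i₀)
    (hwl : ∀ b : NZ F i₀, R l.1 (w b) = w (l • b)) (f : NZ F i₀ → ℂ) :
    R l.1 (Lam i₀ w f) = Lam i₀ w (fun b => f (l⁻¹ • b)) := by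
  rw [Lam_apply, Lam_apply, map_sum]
  rw [← Equiv.sum_comp (MulAction.toPerm l) (fun b => f (l⁻¹ • b) • w b)]
  refine Finset.sum_congr rfl fun b _ => ?_
  rw [map_smul, hwl, MulAction.toPerm_apply, inv_smul_smul]

theorem exists_Lam_eq (hψ : ∃ t, ψ t ≠ 1) (w : NZ F i₀ → V)
    (hw : ∀ b, w b ∈ wtSpace R ψ i₀ b.1.1) (hw0 : ∀ b, w b ≠ 0)
    (hm : ∀ b : Phi F i₀, b ≠ 0 → finrank ℂ (wtSpace R ψ i₀ b.1) = 1) (v : V)
    (hv : pr R ψ i₀ 0 v = 0) : ∃ f, Lam i₀ w f = v := by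
  classical
  have h1 : ∀ b : NZ F i₀, ∃ c : ℂ, c • w b = pr R ψ i₀ b.1 v := by
    intro b
    have h2 := (finrank_eq_one_iff_of_nonzero' (⟨w b, hw b⟩ : wtSpace R ψ i₀ b.1.1)
      (fun h => hw0 b (congrArg Subtype.val h))).1 (hm b.1 b.2) ⟨_, pr_mem R ψ i₀ b.1 v⟩
    obtain ⟨c, hc⟩ := h2
    exact ⟨c, congrArg Subtype.val hc⟩
  choose f hf using h1
  refine ⟨f, ?_⟩
  rw [Lam_apply]
  simp only [hf]
  conv_rhs => rw [← sum_pr_apply R ψ i₀ hψ v]
  rw [← Finset.add_sum_erase Finset.univ _ (Finset.mem_univ (0 : Phi F i₀)), hv, zero_add]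
  refine Finset.sum_bij' (fun b _ => b.1) (fun b hb => ⟨b, Finset.ne_of_mem_erase hb⟩) ?_ ?_ ?_ ?_ ?_
  · intro b _
    exact Finset.mem_erase.2 ⟨b.2, Finset.mem_univ _⟩
  · intro b _
    exact Finset.mem_univ _
  · intro b _
    rfl
  · intro b _
    rfl
  · intro b _
    rfl

end Cfsg.Agent.Helper12.LSL

namespace Cfsg.Agent.Helper12.LSL

open Matrix Cfsg.Agent.Helper12 Module

variable {F : Type*} [Field F] [Fintype F] {ι : Type*} [Fintype ι] [DecidableEq ι]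
variable {V : Type*} [AddCommGroup V] [Module ℂ V] [FiniteDimensional ℂ V]
variable (R : Matrix.SpecialLinearGroup ι F →* Module.End ℂ V) (ψ : AddChar F ℂ) (i₀ : ι)
  [Fintype (Phi F i₀)] [Fintype (NZ F i₀)]

/-- the zero weight space is the fixed space of the row group -/
theorem mem_wtSpace_zero_iff (v : V) :
    v ∈ wtSpace R ψ i₀ (0 : Phi F i₀).1 ↔ ∀ φ : Phi F i₀, R (xPhi i₀ φ) v = v := by
  rw [mem_wtSpace_iff]
  simp only [Submodule.coe_zero, dotProduct_zero, AddChar.map_zero_eq_one, one_smul]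

/-- `Lp` preserves the fixed space of the column group -/
theorem Lp_map_fixY (l : Lp F i₀) {v : V} (hv : v ∈ fixY R i₀) : R l.1 v ∈ fixY R i₀ := by
  rw [mem_fixY_iff] at hv ⊢
  intro b
  have h1 := Lp_conj_yPhi i₀ l⁻¹ b
  have h2 : (l⁻¹).1 = l.1⁻¹ := rfl
  rw [h2, inv_inv] at h1
  have h3 : yPhi i₀ b * l.1 = l.1 * yPhi i₀ (l⁻¹ • b) := by
    rw [← h1]
    group
  rw [← Module.End.mul_apply, ← map_mul, h3, map_mul, Module.End.mul_apply, hv]

/-- the dimension of the fixed space of the column group is at most one or at least the number of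
points of the hyperplane minus one -/
theorem finrank_fixY_bound (hι : 4 ≤ Fintype.card ι) (hψ : ∃ t, ψ t ≠ 1)
    (hm : ∀ b : Phi F i₀, b ≠ 0 → finrank ℂ (wtSpace R ψ i₀ b.1) = 1)
    (w : NZ F i₀ → V) (hw : ∀ b, w b ∈ wtSpace R ψ i₀ b.1.1) (hw0 : ∀ b, w b ≠ 0)
    (hwl : ∀ (l : Lp F i₀) (b : NZ F i₀), R l.1 (w b) = w (l • b))
    (hfix0 : ∀ v : V, (∀ φ : Phi F i₀, R (xPhi i₀ φ) v = v) →
      (∀ b : Phi F i₀, R (yPhi i₀ b) v = v) → v = 0) :
    finrank ℂ (fixY R i₀) ≤ 1 ∨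
      Nat.card (Projectivization F (Phi F i₀)) ≤ finrank ℂ (fixY R i₀) + 1 := by
  classical
  obtain ⟨D, hD⟩ : ∃ D : V →ₗ[ℂ] V, D = 1 - pr R ψ i₀ 0 := ⟨_, rfl⟩
  have hDapp : ∀ v, D v = v - pr R ψ i₀ 0 v := by
    intro v
    rw [hD, LinearMap.sub_apply, Module.End.one_apply]
  have hprD : ∀ v, pr R ψ i₀ 0 (D v) = 0 := by
    intro v
    rw [hDapp, map_sub, pr_of_mem R ψ i₀ hψ 0 0 (pr_mem R ψ i₀ 0 v), if_pos rfl, sub_self]
  have hDinj : ∀ y ∈ fixY R i₀, D y = 0 → y = 0 := by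
    intro y hy h0
    rw [hDapp, sub_eq_zero] at h0
    apply hfix0
    · rw [← mem_wtSpace_zero_iff R ψ i₀, h0]
      exact pr_mem R ψ i₀ 0 y
    · exact (mem_fixY_iff R i₀ y).1 hy
  have hDl : ∀ (l : Lp F i₀) (v : V), R l.1 (D v) = D (R l.1 v) := by
    intro l v
    rw [hDapp, hDapp, map_sub]
    congr 1
    have := Lp_mul_pr R ψ i₀ hψ l 0
    rw [Lp_smul_zero] at this
    have h2 := congrArg (fun f : Module.End ℂ V => f v) this
    exact h2
  obtain ⟨M, hM⟩ : ∃ M : Submodule ℂ V, M = Submodule.map D (fixY R i₀) := ⟨_, rfl⟩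
  have hMle : M ≤ LinearMap.range (Lam i₀ w) := by
    intro v hv
    rw [hM] at hv
    obtain ⟨y, -, rfl⟩ := hv
    obtain ⟨f, hf⟩ := exists_Lam_eq R ψ i₀ hψ w hw hw0 hm (D y) (hprD y)
    exact ⟨f, hf⟩
  have hfin1 : finrank ℂ M = finrank ℂ (fixY R i₀) := by
    have hinj : Function.Injective (D.domRestrict (fixY R i₀)) := by
      rw [← LinearMap.ker_eq_bot, LinearMap.ker_eq_bot']
      intro y hy
      apply Subtype.ext
      exact hDinj y.1 y.2 hy
    have := LinearMap.finrank_range_of_inj hinj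
    rw [LinearMap.range_domRestrict] at this
    rw [hM]
    exact this
  obtain ⟨Y, hY⟩ : ∃ Y : Submodule ℂ (NZ F i₀ → ℂ), Y = Submodule.comap (Lam i₀ w) M := ⟨_, rfl⟩
  have hLinj := Lam_injective R ψ i₀ hψ w hw hw0
  have hfin2 : finrank ℂ Y = finrank ℂ M := by
    have h1 : Submodule.map (Lam i₀ w) Y = M := by
      rw [hY]
      exact Submodule.map_comap_eq_of_le hMle
    rw [← h1]
    exact (LinearEquiv.finrank_eq (Submodule.equivMapOfInjective (Lam i₀ w) hLinj Y))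
  have hYinv : ∀ (l : Lp F i₀), ∀ f ∈ Y, (fun x => f (l⁻¹ • x)) ∈ Y := by
    intro l f hf
    rw [hY, Submodule.mem_comap, hM] at hf ⊢
    obtain ⟨y, hy, hyf⟩ := hf
    refine ⟨R l.1 y, Lp_map_fixY R i₀ l hy, ?_⟩
    rw [← R_Lam R i₀ w l (hwl l) f, ← hyf, hDl]
  -- the projection to the points
  obtain ⟨π, hπdef⟩ : ∃ π : NZ F i₀ → Projectivization F (Phi F i₀),
      π = fun b => Projectivization.mk F b.1 b.2 := ⟨_, rfl⟩
  have hπiff : ∀ x y : NZ F i₀, π x = π y ↔ ∃ a : F, a • y.1 = x.1 := by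
    intro x y
    rw [hπdef]
    exact Projectivization.mk_eq_mk_iff' F x.1 y.1 x.2 y.2
  have hπsurj : Function.Surjective π := by
    intro p
    induction p using Projectivization.ind with
    | h v hv => exact ⟨⟨v, hv⟩, by rw [hπdef]⟩
  have h := perm_submodule_bound (Γ := Lp F i₀) π hπsurj
    (fun x y => Lp_transitive (by omega) i₀ x y) ?_ ?_ ?_ Y hYinv
  · rcases h with h | h
    · left
      rw [← hfin1, ← hfin2]
      have hle : Y ≤ Submodule.span ℂ {(fun _ => 1 : NZ F i₀ → ℂ)} := by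
        intro f hf
        rw [Submodule.mem_span_singleton]
        by_cases hne : Nonempty (NZ F i₀)
        · obtain ⟨x₀⟩ := hne
          refine ⟨f x₀, ?_⟩
          funext x
          rw [Pi.smul_apply, smul_eq_mul, mul_one]
          exact h f hf x₀ x
        · refine ⟨0, ?_⟩
          funext x
          exact absurd ⟨x⟩ hne
      calc finrank ℂ Y ≤ finrank ℂ (Submodule.span ℂ {(fun _ => 1 : NZ F i₀ → ℂ)}) :=
            Submodule.finrank_mono hle
        _ ≤ 1 := by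
            have := finrank_span_le_card (R := ℂ) ({(fun _ => 1 : NZ F i₀ → ℂ)} : Set (NZ F i₀ → ℂ))
            simpa using this
    · right
      rw [← hfin1, ← hfin2]
      exact h
  · -- the stabiliser fixes the line pointwise
    intro γ x y hxy hγx
    obtain ⟨a, ha⟩ := (hπiff x y).1 hxy
    have ha0 : a ≠ 0 := by
      rintro rfl
      rw [zero_smul] at ha
      exact x.2 ha.symm
    apply Subtype.ext
    have h1 : γ • x.1 = x.1 := congrArg Subtype.val hγx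
    rw [← ha, Lp_smul_smul] at h1
    rw [NZ_smul_val]
    have h2 := congrArg (fun z => a⁻¹ • z) h1
    simp only [smul_smul, inv_mul_cancel₀ ha0, one_smul] at h2
    exact h2
  · intro γ x y hxy
    rw [hπiff] at hxy ⊢
    obtain ⟨a, ha⟩ := hxy
    refine ⟨a, ?_⟩
    rw [NZ_smul_val, NZ_smul_val, ← ha, Lp_smul_smul]
  · intro x y y' hy hy'
    apply Lp_two_point hι i₀ x y y'
    · intro c hc
      apply hy
      rw [hπiff]
      have hc0 : c ≠ 0 := by
        rintro rfl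
        rw [zero_smul] at hc
        exact y.2 (Subtype.ext hc)
      refine ⟨c, ?_⟩
      apply Subtype.ext
      rw [Submodule.coe_smul, hc]
    · intro c hc
      apply hy'
      rw [hπiff]
      have hc0 : c ≠ 0 := by
        rintro rfl
        rw [zero_smul] at hc
        exact y'.2 (Subtype.ext hc)
      refine ⟨c, ?_⟩
      apply Subtype.ext
      rw [Submodule.coe_smul, hc]

end Cfsg.Agent.Helper12.LSL
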