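import Mathlib
import Cfsg.Agent.Lib.Helper12.SLVecTrans

/-!
# The action of `SL ι F` on nonzero vectors: transitivity, rank, and the line stabilizer
-/

set_option autoImplicit false

namespace Cfsg.Agent.Helper12

open Module

/-- Counting orbits by a separating surjective invariant. -/
theorem card_orbits_of_invariant {G X T : Type*} [Group G] [MulAction G X] (f : X → T)
    (hinv : ∀ (g : G) (x : X), f (g • x) = f x)
    (hsep : ∀ x y, f x = f y → ∃ g : G, g • x = y)
    (hsurj : Function.Surjective f) :
    Nat.card (MulAction.orbitRel.Quotient G X) = Nat.card T := by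
  let fq : MulAction.orbitRel.Quotient G X → T := Quotient.lift f (by
    rintro x y ⟨g, rfl⟩
    exact hinv g y)
  apply Nat.card_congr
  refine Equiv.ofBijective fq ⟨?_, ?_⟩
  · intro a b
    induction a using Quotient.inductionOn with
    | h x =>
      induction b using Quotient.inductionOn with
      | h y =>
        intro h
        obtain ⟨g, hg⟩ := hsep x y h
        apply Quotient.sound
        refine ⟨g⁻¹, ?_⟩
        show g⁻¹ • y = x
        rw [← hg, inv_smul_smul]
  · intro t
    obtain ⟨x, hx⟩ := hsurj t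
    exact ⟨Quotient.mk'' x, hx⟩

section NZ

variable {F : Type*} [Field F] {ι : Type*} [Fintype ι] [DecidableEq ι]

/-- The nonzero vectors. -/
structure NZ (ι F : Type*) [Zero F] where
  /-- the underlying vector -/
  val : ι → F
  /-- it is not zero -/
  ne : val ≠ 0

theorem NZ.ext {ι F : Type*} [Zero F] {v w : NZ ι F} (h : v.1 = w.1) : v = w := by
  cases v; cases w; cases h; rfl

instance nzFinite {ι F : Type*} [Zero F] [Finite ι] [Finite F] : Finite (NZ ι F) :=
  Finite.of_injective NZ.val (fun _ _ h => NZ.ext h)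

theorem smul_ne_zero_of_ne_zero (g : Matrix.SpecialLinearGroup ι F) {v : ι → F} (hv : v ≠ 0) :
    g • v ≠ 0 := by
  intro h
  apply hv
  have := congrArg (fun x => g⁻¹ • x) h
  simpa using this

instance nzAction : MulAction (Matrix.SpecialLinearGroup ι F) (NZ ι F) where
  smul g v := ⟨g • v.1, smul_ne_zero_of_ne_zero g v.2⟩
  one_smul v := NZ.ext (one_smul _ v.1)
  mul_smul g h v := NZ.ext (mul_smul g h v.1)

theorem nz_smul_val (g : Matrix.SpecialLinearGroup ι F) (v : NZ ι F) : (g • v).1 = g • v.1 := rfl

/-- The fixed points of `g` on nonzero vectors, in matrix language. -/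
def fixedByEquiv (g : Matrix.SpecialLinearGroup ι F) :
    MulAction.fixedBy (NZ ι F) g ≃
      {v : ι → F // v ≠ 0 ∧ (g : Matrix ι ι F).mulVec v = v} where
  toFun v := ⟨v.1.1, v.1.2, by
    have h := v.2
    rw [MulAction.mem_fixedBy] at h
    have h2 := congrArg NZ.val h
    rw [nz_smul_val, Matrix.SpecialLinearGroup.smul_def, Matrix.smul_eq_mulVec] at h2
    exact h2⟩
  invFun v := ⟨⟨v.1, v.2.1⟩, by
    rw [MulAction.mem_fixedBy]
    apply NZ.ext
    rw [nz_smul_val, Matrix.SpecialLinearGroup.smul_def, Matrix.smul_eq_mulVec]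
    exact v.2.2⟩
  left_inv v := rfl
  right_inv v := rfl

/-- The standard basis vector as a nonzero vector. -/
def e0 (i₀ : ι) : NZ ι F := ⟨Pi.single i₀ 1, by
  intro h
  have := congrFun h i₀
  simp at this⟩

theorem e0_val (i₀ : ι) : (e0 i₀ : NZ ι F).1 = Pi.single i₀ 1 := rfl

theorem isPretransitive_nz (hι : 1 < Fintype.card ι) :
    MulAction.IsPretransitive (Matrix.SpecialLinearGroup ι F) (NZ ι F) := by
  constructor
  intro v w
  obtain ⟨g, hg⟩ := exists_SL_smul_eq (κ := Unit) (fun _ => v.1) (fun _ => w.1)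
    (linearIndependent_unique_iff.mpr v.2) (linearIndependent_unique_iff.mpr w.2)
    (by simpa using hι)
  exact ⟨g, NZ.ext (hg ())⟩

theorem smul_single_eq_iff {i₀ : ι} {a b : F} :
    a • (Pi.single i₀ (1 : F) : ι → F) = b • Pi.single i₀ 1 ↔ a = b := by
  constructor
  · intro h
    have := congrFun h i₀
    simpa using this
  · rintro rfl; rfl

/-- The stabilizer of a nonzero vector has exactly `|F|` orbits on nonzero vectors. -/
theorem card_orbits_stabilizer_nz (hι : 2 < Fintype.card ι) (i₀ : ι) :
    Nat.card (MulAction.orbitRel.Quotient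
      (MulAction.stabilizer (Matrix.SpecialLinearGroup ι F) (e0 i₀ : NZ ι F)) (NZ ι F)) =
      Nat.card F := by
  classical
  obtain ⟨u, hu⟩ : ∃ u : ι → F, u = Pi.single i₀ 1 := ⟨_, rfl⟩
  have hu0 : u ≠ 0 := by rw [hu]; exact (e0 i₀ : NZ ι F).2
  have hui : u i₀ = 1 := by rw [hu]; simp
  have hstab : ∀ h : MulAction.stabilizer (Matrix.SpecialLinearGroup ι F) (e0 i₀ : NZ ι F),
      (h : Matrix.SpecialLinearGroup ι F) • u = u := by
    intro h
    have := congrArg NZ.val (MulAction.mem_stabilizer_iff.mp h.2)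
    rw [nz_smul_val, e0_val, ← hu] at this
    exact this
  let f : NZ ι F → F := fun v => if (∃ a : F, v.1 = a • u) then v.1 i₀ else 0
  have hf1 : ∀ (v : NZ ι F) (a : F), v.1 = a • u → f v = a := by
    intro v a h
    have : ∃ a : F, v.1 = a • u := ⟨a, h⟩
    simp only [f, this, if_true]
    rw [h, Pi.smul_apply, hui, smul_eq_mul, mul_one]
  have hf0 : ∀ (v : NZ ι F), (¬ ∃ a : F, v.1 = a • u) → f v = 0 := by
    intro v h
    simp only [f, h, if_false]
  have hne : ∀ (v : NZ ι F) (a : F), v.1 = a • u → a ≠ 0 := by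
    rintro v a h rfl
    apply v.2
    rw [h, zero_smul]
  apply card_orbits_of_invariant f
  · intro h v
    have hsm : ((h • v : NZ ι F)).1 = (h : Matrix.SpecialLinearGroup ι F) • v.1 := rfl
    by_cases hv : ∃ a : F, v.1 = a • u
    · obtain ⟨a, ha⟩ := hv
      rw [hf1 v a ha]
      apply hf1
      rw [hsm, ha, smul_comm, hstab]
    · rw [hf0 v hv]
      apply hf0
      rintro ⟨a, ha⟩
      apply hv
      refine ⟨a, ?_⟩
      rw [hsm] at ha
      have h2 := congrArg (fun x => (h : Matrix.SpecialLinearGroup ι F)⁻¹ • x) ha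
      simp only [inv_smul_smul] at h2
      rw [h2, smul_comm]
      congr 1
      rw [inv_smul_eq_iff, hstab]
  · intro v w hvw
    by_cases hv : ∃ a : F, v.1 = a • u
    · obtain ⟨a, ha⟩ := hv
      by_cases hw : ∃ b : F, w.1 = b • u
      · obtain ⟨b, hb⟩ := hw
        rw [hf1 v a ha, hf1 w b hb] at hvw
        refine ⟨1, ?_⟩
        rw [one_smul]
        apply NZ.ext
        rw [ha, hb, hvw]
      · exfalso
        rw [hf1 v a ha, hf0 w hw] at hvw
        exact hne v a ha hvw
    · by_cases hw : ∃ b : F, w.1 = b • u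
      · exfalso
        obtain ⟨b, hb⟩ := hw
        rw [hf0 v hv, hf1 w b hb] at hvw
        exact hne w b hb hvw.symm
      · have h1 : LinearIndependent F ![u, v.1] := by
          rw [LinearIndependent.pair_iff' hu0]
          intro a ha
          exact hv ⟨a, ha.symm⟩
        have h2 : LinearIndependent F ![u, w.1] := by
          rw [LinearIndependent.pair_iff' hu0]
          intro a ha
          exact hw ⟨a, ha.symm⟩
        obtain ⟨g, hg⟩ := exists_SL_smul_eq _ _ h1 h2 (by simpa using hι)
        have hg0 : g • u = u := by simpa using hg 0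
        have hg1 : g • v.1 = w.1 := by simpa using hg 1
        have hgmem : g ∈ MulAction.stabilizer (Matrix.SpecialLinearGroup ι F) (e0 i₀ : NZ ι F) := by
          rw [MulAction.mem_stabilizer_iff]
          apply NZ.ext
          rw [nz_smul_val, e0_val, ← hu]
          exact hg0
        exact ⟨⟨g, hgmem⟩, NZ.ext hg1⟩
  · intro t
    by_cases ht : t = 0
    · obtain ⟨i₁, hi₁⟩ := Fintype.exists_ne_of_one_lt_card (by omega : 1 < Fintype.card ι) i₀
      refine ⟨(e0 i₁ : NZ ι F), ?_⟩
      rw [ht]
      apply hf0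
      rintro ⟨a, ha⟩
      have := congrFun ha i₁
      rw [e0_val, hu] at this
      simp [hi₁] at this
    · refine ⟨⟨t • u, ?_⟩, hf1 _ t rfl⟩
      intro h
      have := congrFun h i₀
      rw [Pi.smul_apply, hui] at this
      simp at this
      exact ht this

end NZ

end Cfsg.Agent.Helper12
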