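import Mathlib
import Cfsg.Agent.Lib.Helper12.SLVecPerm
import Cfsg.Agent.Lib.Helper12.IrrSumNorm
import Cfsg.Agent.Lib.Helper12.GL2Irr2
import Cfsg.Agent.Lib.Helper18.PermCharOrbits
import Cfsg.Agent.Lib.Helper8.Constituent
import Cfsg.Agent.Lib.Helper24.CharInduced
import Cfsg.Agent.Lib.Helper24.CharLinear

/-!
# The permutation character of `SL ι F` on nonzero vectors (`|ι| ≥ 3`)
-/

set_option autoImplicit false

namespace Cfsg.Agent.Helper12

open Cfsg Cfsg.Agent.Helper24

section LineStab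

variable {F : Type*} [Field F] {ι : Type*} [Fintype ι] [DecidableEq ι]

/-- The `(i₀, i₀)` entry, which is the eigenvalue on the line for elements of the line stabilizer. -/
def lam (i₀ : ι) (g : Matrix.SpecialLinearGroup ι F) : F :=
  (g • (Pi.single i₀ 1 : ι → F)) i₀

/-- The stabilizer of the line spanned by a standard basis vector. -/
def lineStab (i₀ : ι) : Subgroup (Matrix.SpecialLinearGroup ι F) where
  carrier := {g | ∃ a : F, g • (Pi.single i₀ 1 : ι → F) = a • Pi.single i₀ 1}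
  one_mem' := ⟨1, by rw [one_smul, one_smul]⟩
  mul_mem' := by
    rintro g h ⟨a, ha⟩ ⟨b, hb⟩
    exact ⟨b * a, by rw [mul_smul, hb, smul_comm, ha, smul_smul]⟩
  inv_mem' := by
    rintro g ⟨a, ha⟩
    have ha0 : a ≠ 0 := by
      rintro rfl
      rw [zero_smul] at ha
      exact smul_ne_zero_of_ne_zero g (e0 i₀ : NZ ι F).2 ha
    refine ⟨a⁻¹, ?_⟩
    rw [inv_smul_eq_iff, smul_comm, ha, smul_smul, inv_mul_cancel₀ ha0, one_smul]

theorem mem_lineStab_iff {i₀ : ι} {g : Matrix.SpecialLinearGroup ι F} :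
    g ∈ lineStab i₀ ↔ ∃ a : F, g • (Pi.single i₀ 1 : ι → F) = a • Pi.single i₀ 1 := Iff.rfl

theorem lam_eq_of_smul {i₀ : ι} {g : Matrix.SpecialLinearGroup ι F} {a : F}
    (h : g • (Pi.single i₀ 1 : ι → F) = a • Pi.single i₀ 1) : lam i₀ g = a := by
  unfold lam
  rw [h]
  simp

theorem lineStab_smul {i₀ : ι} {g : Matrix.SpecialLinearGroup ι F} (hg : g ∈ lineStab i₀) :
    g • (Pi.single i₀ 1 : ι → F) = lam i₀ g • Pi.single i₀ 1 := by
  obtain ⟨a, ha⟩ := hg
  rw [lam_eq_of_smul ha, ha]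

theorem lam_ne_zero {i₀ : ι} {g : Matrix.SpecialLinearGroup ι F} (hg : g ∈ lineStab i₀) :
    lam i₀ g ≠ 0 := by
  intro h
  have := lineStab_smul hg
  rw [h, zero_smul] at this
  exact smul_ne_zero_of_ne_zero g (e0 i₀ : NZ ι F).2 this

theorem lam_one (i₀ : ι) : lam i₀ (1 : Matrix.SpecialLinearGroup ι F) = 1 := by
  apply lam_eq_of_smul
  rw [one_smul, one_smul]

theorem lam_mul {i₀ : ι} (g : Matrix.SpecialLinearGroup ι F) {h : Matrix.SpecialLinearGroup ι F}
    (hh : h ∈ lineStab i₀) : lam i₀ (g * h) = lam i₀ g * lam i₀ h := by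
  have h1 : (g * h) • (Pi.single i₀ 1 : ι → F) =
      lam i₀ h • (g • (Pi.single i₀ 1 : ι → F)) := by
    rw [mul_smul, lineStab_smul hh, smul_comm]
  show ((g * h) • (Pi.single i₀ 1 : ι → F)) i₀ = _
  rw [h1, Pi.smul_apply, smul_eq_mul, mul_comm]
  rfl

/-- The eigenvalue homomorphism of the line stabilizer. -/
def lamHom (i₀ : ι) : lineStab (F := F) i₀ →* Fˣ where
  toFun p := Units.mk0 (lam i₀ p.1) (lam_ne_zero p.2)
  map_one' := Units.ext (lam_one i₀)
  map_mul' p q := Units.ext (lam_mul p.1 q.2)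

theorem lamHom_val (i₀ : ι) (p : lineStab (F := F) i₀) :
    ((lamHom i₀ p : Fˣ) : F) = lam i₀ p.1 := rfl

theorem mem_stabilizer_e0_iff {i₀ : ι} {g : Matrix.SpecialLinearGroup ι F} :
    g ∈ MulAction.stabilizer (Matrix.SpecialLinearGroup ι F) (e0 i₀ : NZ ι F) ↔
      g • (Pi.single i₀ 1 : ι → F) = Pi.single i₀ 1 := by
  rw [MulAction.mem_stabilizer_iff]
  constructor
  · intro h
    exact congrArg NZ.val h
  · intro h
    exact NZ.ext h

theorem mem_stabilizer_e0_iff' {i₀ : ι} {g : Matrix.SpecialLinearGroup ι F} :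
    g ∈ MulAction.stabilizer (Matrix.SpecialLinearGroup ι F) (e0 i₀ : NZ ι F) ↔
      g ∈ lineStab i₀ ∧ lam i₀ g = 1 := by
  rw [mem_stabilizer_e0_iff]
  constructor
  · intro h
    have h' : g • (Pi.single i₀ 1 : ι → F) = (1 : F) • Pi.single i₀ 1 := by rw [h, one_smul]
    exact ⟨⟨1, h'⟩, lam_eq_of_smul h'⟩
  · rintro ⟨h1, h2⟩
    rw [lineStab_smul h1, h2, one_smul]

theorem lineStab_ne_top (hι : 1 < Fintype.card ι) (i₀ : ι) : lineStab (F := F) i₀ ≠ ⊤ := by
  intro htop
  obtain ⟨i₁, hi₁⟩ := Fintype.exists_ne_of_one_lt_card hι i₀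
  haveI := isPretransitive_nz (F := F) hι
  obtain ⟨g, hg⟩ := MulAction.exists_smul_eq (Matrix.SpecialLinearGroup ι F)
    (e0 i₀ : NZ ι F) (e0 i₁ : NZ ι F)
  have hg' : g • (Pi.single i₀ 1 : ι → F) = Pi.single i₁ 1 := congrArg NZ.val hg
  have hmem : g ∈ lineStab (F := F) i₀ := by rw [htop]; trivial
  obtain ⟨a, ha⟩ := hmem
  rw [hg'] at ha
  have := congrFun ha i₁
  simp [hi₁] at this

theorem card_lineStab [Fintype F] (hι : 1 < Fintype.card ι) (i₀ : ι) :
    Nat.card (lineStab (F := F) i₀) = (Fintype.card F - 1) *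
      Nat.card (MulAction.stabilizer (Matrix.SpecialLinearGroup ι F) (e0 i₀ : NZ ι F)) := by
  classical
  have hsurj : Function.Surjective (lamHom (F := F) i₀) := by
    intro a
    haveI := isPretransitive_nz (F := F) hι
    have hne : (a : F) • (Pi.single i₀ 1 : ι → F) ≠ 0 := by
      intro h
      have := congrFun h i₀
      simp at this
    obtain ⟨g, hg⟩ := MulAction.exists_smul_eq (Matrix.SpecialLinearGroup ι F)
      (e0 i₀ : NZ ι F) ⟨(a : F) • Pi.single i₀ 1, hne⟩
    have hg' : g • (Pi.single i₀ 1 : ι → F) = (a : F) • Pi.single i₀ 1 := congrArg NZ.val hg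
    exact ⟨⟨g, ⟨a, hg'⟩⟩, Units.ext (lam_eq_of_smul hg')⟩
  have hker : (lamHom (F := F) i₀).ker =
      (MulAction.stabilizer (Matrix.SpecialLinearGroup ι F) (e0 i₀ : NZ ι F)).subgroupOf
        (lineStab i₀) := by
    ext p
    rw [MonoidHom.mem_ker, Subgroup.mem_subgroupOf, mem_stabilizer_e0_iff']
    constructor
    · intro h
      exact ⟨p.2, congrArg Units.val h⟩
    · rintro ⟨-, h⟩
      exact Units.ext h
  have hle : MulAction.stabilizer (Matrix.SpecialLinearGroup ι F) (e0 i₀ : NZ ι F) ≤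
      lineStab i₀ := fun g hg => (mem_stabilizer_e0_iff'.mp hg).1
  have h1 := Subgroup.card_mul_index (lamHom (F := F) i₀).ker
  rw [Subgroup.index_ker, MonoidHom.range_eq_top.mpr hsurj, Subgroup.card_top,
    Nat.card_eq_fintype_card (α := Fˣ), Fintype.card_units, hker,
    Nat.card_congr (Subgroup.subgroupOfEquivOfLe hle).toEquiv] at h1
  rw [← h1, mul_comm]

end LineStab

section Chars

variable {F : Type*} [Field F] [Fintype F] [DecidableEq F] {ι : Type*} [Fintype ι] [DecidableEq ι]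

/-- The linear character of the line stabilizer attached to a multiplicative character. -/
noncomputable def lineChar (i₀ : ι) (μ : MulChar F ℂ) : lineStab (F := F) i₀ → ℂ :=
  fun p => μ (lam i₀ p.1)

theorem isIrrCharacter_lineChar (i₀ : ι) (μ : MulChar F ℂ) :
    IsIrrCharacter (lineStab (F := F) i₀) (lineChar i₀ μ) := by
  have h := isIrrCharacter_of_monoidHom (μ.toUnitHom.comp (lamHom (F := F) i₀))
  have h2 : lineChar i₀ μ =
      fun p => (((μ.toUnitHom.comp (lamHom (F := F) i₀)) p : ℂˣ) : ℂ) := by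
    funext p
    rw [MonoidHom.comp_apply, MulChar.coe_toUnitHom, lamHom_val]
    rfl
  rw [h2]
  exact h

theorem lineChar_one_apply (i₀ : ι) (p : lineStab (F := F) i₀) :
    lineChar i₀ (1 : MulChar F ℂ) p = 1 := by
  unfold lineChar
  exact MulChar.one_apply (IsUnit.mk0 _ (lam_ne_zero p.2))

theorem sum_indFun_lineChar [Fintype (MulChar F ℂ)] (hι : 1 < Fintype.card ι) (i₀ : ι)
    (g : Matrix.SpecialLinearGroup ι F) :
    ∑ μ : MulChar F ℂ, indFun (lineStab i₀) (lineChar i₀ μ) g =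
      indFun (MulAction.stabilizer (Matrix.SpecialLinearGroup ι F) (e0 i₀ : NZ ι F))
        (fun _ => (1 : ℂ)) g := by
  have key : ∀ y : Matrix.SpecialLinearGroup ι F,
      ∑ μ : MulChar F ℂ, extendByZero (lineStab i₀) (lineChar i₀ μ) y =
        ((Fintype.card F : ℂ) - 1) *
          extendByZero (MulAction.stabilizer (Matrix.SpecialLinearGroup ι F) (e0 i₀ : NZ ι F))
            (fun _ => (1 : ℂ)) y := by
    intro y
    by_cases hy : y ∈ MulAction.stabilizer (Matrix.SpecialLinearGroup ι F) (e0 i₀ : NZ ι F)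
    · obtain ⟨hyP, hy1⟩ := mem_stabilizer_e0_iff'.mp hy
      rw [extendByZero_of_mem _ _ hy, mul_one]
      have : ∀ μ : MulChar F ℂ, extendByZero (lineStab i₀) (lineChar i₀ μ) y = 1 := by
        intro μ
        rw [extendByZero_of_mem _ _ hyP]
        show μ (lam i₀ y) = 1
        rw [hy1, map_one]
      simp only [this, Finset.sum_const, Finset.card_univ, nsmul_eq_mul, mul_one]
      rw [card_mulChar, Nat.cast_sub Fintype.card_pos, Nat.cast_one]
    · rw [extendByZero_of_not_mem _ _ hy, mul_zero]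
      by_cases hyP : y ∈ lineStab (F := F) i₀
      · have hne : lam i₀ y ≠ 1 := fun h => hy (mem_stabilizer_e0_iff'.mpr ⟨hyP, h⟩)
        have : ∀ μ : MulChar F ℂ, extendByZero (lineStab i₀) (lineChar i₀ μ) y =
            μ (lam i₀ y) := by
          intro μ
          rw [extendByZero_of_mem _ _ hyP]
          rfl
        simp only [this]
        exact sum_mulChar_apply_eq_zero hne
      · have : ∀ μ : MulChar F ℂ, extendByZero (lineStab i₀) (lineChar i₀ μ) y = 0 := by
          intro μ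
          rw [extendByZero_of_not_mem _ _ hyP]
        simp only [this, Finset.sum_const_zero]
  simp only [indFun_apply]
  rw [← Finset.mul_sum, Finset.sum_comm]
  simp only [key]
  rw [← Finset.mul_sum, card_lineStab hι i₀]
  have hq : ((Fintype.card F : ℂ) - 1) ≠ 0 := by
    have h2 : 1 < Fintype.card F := Fintype.one_lt_card
    have : ((Fintype.card F - 1 : ℕ) : ℂ) ≠ 0 := by
      have : Fintype.card F - 1 ≠ 0 := by omega
      exact_mod_cast this
    rwa [Nat.cast_sub Fintype.card_pos, Nat.cast_one] at this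
  have hH : (Nat.card (MulAction.stabilizer (Matrix.SpecialLinearGroup ι F)
      (e0 i₀ : NZ ι F)) : ℂ) ≠ 0 := by
    have : Nat.card (MulAction.stabilizer (Matrix.SpecialLinearGroup ι F)
      (e0 i₀ : NZ ι F)) ≠ 0 := Nat.card_pos.ne'
    exact_mod_cast this
  rw [Nat.cast_mul, Nat.cast_sub Fintype.card_pos, Nat.cast_one]
  field_simp

end Chars

end Cfsg.Agent.Helper12
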