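import Mathlib
import Cfsg.Agent.Lib.Helper12.SLVecChar

/-!
# An irreducible representation of `SL ι F` of degree `(q ^ n - q) / (q - 1)` (`n = |ι| ≥ 3`)

The permutation character on the lines minus the trivial character.
-/

set_option autoImplicit false

namespace Cfsg.Agent.Helper12.LSL

open Cfsg Cfsg.Agent.Helper24 Cfsg.Agent.Helper12

variable {F : Type*} [Field F] [Fintype F] [DecidableEq F] {ι : Type*} [Fintype ι] [DecidableEq ι]

/-- The permutation character on lines minus the trivial character is irreducible. -/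
theorem isIrrCharacter_lines_sub_one (hι : 2 < Fintype.card ι) (i₀ : ι) :
    IsIrrCharacter (Matrix.SpecialLinearGroup ι F)
      (indFun (lineStab i₀) (lineChar i₀ (1 : MulChar F ℂ)) - (fun _ => (1 : ℂ))) := by
  classical
  letI : Fintype (MulChar F ℂ) := Fintype.ofFinite _
  have hι1 : 1 < Fintype.card ι := by omega
  haveI := isPretransitive_nz (F := F) (ι := ι) hι1
  obtain ⟨ψ, hψ⟩ : ∃ ψ : MulChar F ℂ → Matrix.SpecialLinearGroup ι F → ℂ,
      ψ = fun μ => indFun (lineStab i₀) (lineChar i₀ μ) := ⟨_, rfl⟩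
  have hψchar : ∀ μ, IsCharacter (Matrix.SpecialLinearGroup ι F) (ψ μ) := by
    intro μ
    rw [hψ]
    exact isCharacter_indFun _ (isCharacter_of_isIrrCharacter (isIrrCharacter_lineChar i₀ μ))
  have hπ : Cfsg.Agent.Helper18.permChar (Matrix.SpecialLinearGroup ι F) (NZ ι F) =
      ∑ μ, ψ μ := by
    funext g
    rw [Finset.sum_apply, hψ]
    simp only
    rw [sum_indFun_lineChar hι1 i₀ g]
    exact congrFun (Cfsg.Agent.S0190.result (NZ ι F) (e0 i₀ : NZ ι F)) g
  have hnorm : classInner (Cfsg.Agent.Helper18.permChar (Matrix.SpecialLinearGroup ι F) (NZ ι F))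
      (Cfsg.Agent.Helper18.permChar (Matrix.SpecialLinearGroup ι F) (NZ ι F)) =
      (Fintype.card F : ℂ) := by
    rw [Cfsg.Agent.Helper18.inner_permChar_self (e0 i₀ : NZ ι F),
      card_orbits_stabilizer_nz hι i₀, Nat.card_eq_fintype_card]
  have hone : IsIrrCharacter (Matrix.SpecialLinearGroup ι F) (fun _ => (1 : ℂ)) :=
    isIrrCharacter_one
  have h11 : classInner (ψ 1) (fun _ => (1 : ℂ)) ≠ 0 := by
    rw [hψ]
    simp only
    rw [frobenius_reciprocity (lineStab i₀) _
      (isClassFunction_of_isCharacter (isCharacter_of_isIrrCharacter hone))]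
    unfold classInner
    simp only [lineChar_one_apply, map_one, mul_one, Finset.sum_const, Finset.card_univ,
      nsmul_eq_mul]
    rw [← Nat.card_eq_fintype_card]
    have : (Nat.card (lineStab (F := F) i₀) : ℂ) ≠ 0 := by
      have : Nat.card (lineStab (F := F) i₀) ≠ 0 := Nat.card_pos.ne'
      exact_mod_cast this
    rw [inv_mul_cancel₀ this]
    exact one_ne_zero
  have hindex : (lineStab (F := F) i₀).index ≠ 1 := by
    rw [Ne, Subgroup.index_eq_one]
    exact lineStab_ne_top hι1 i₀
  have hindex0 : (lineStab (F := F) i₀).index ≠ 0 := Subgroup.index_ne_zero_of_finite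
  have hψ1 : ∀ μ, ψ μ 1 = ((lineStab (F := F) i₀).index : ℂ) := by
    intro μ
    rw [hψ]
    simp only
    rw [indFun_one]
    have : lineChar i₀ μ (1 : lineStab (F := F) i₀) = 1 := by
      show μ (lam i₀ (1 : Matrix.SpecialLinearGroup ι F)) = 1
      rw [lam_one, map_one]
    rw [this, mul_one]
  obtain ⟨Φ, hΦ⟩ : ∃ Φ : Option (MulChar F ℂ) → Matrix.SpecialLinearGroup ι F → ℂ,
      Φ = fun o => match o with
        | none => fun _ => (1 : ℂ)
        | some μ => if μ = 1 then ψ 1 - (fun _ => (1 : ℂ)) else ψ μ := ⟨_, rfl⟩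
  have hΦnone : Φ none = fun _ => (1 : ℂ) := by rw [hΦ]
  have hΦsome : ∀ μ, Φ (some μ) = if μ = 1 then ψ 1 - (fun _ => (1 : ℂ)) else ψ μ := by
    intro μ
    rw [hΦ]
  have hΦchar : ∀ o, IsCharacter (Matrix.SpecialLinearGroup ι F) (Φ o) := by
    intro o
    cases o with
    | none =>
      rw [hΦnone]
      exact isCharacter_of_isIrrCharacter hone
    | some μ =>
      rw [hΦsome]
      by_cases hμ : μ = 1
      · rw [if_pos hμ]
        exact Cfsg.Agent.Helper8.isCharacter_sub_constituent (hψchar 1) hone h11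
      · rw [if_neg hμ]
        exact hψchar μ
  have hΦne : ∀ o, Φ o ≠ 0 := by
    intro o h0
    have h1 := congrFun h0 1
    cases o with
    | none =>
      rw [hΦnone] at h1
      simp at h1
    | some μ =>
      rw [hΦsome] at h1
      by_cases hμ : μ = 1
      · rw [if_pos hμ, Pi.sub_apply, hψ1, Pi.zero_apply, sub_eq_zero] at h1
        apply hindex
        exact_mod_cast h1
      · rw [if_neg hμ, hψ1, Pi.zero_apply] at h1
        apply hindex0
        exact_mod_cast h1
  have hΦsum : ∑ o, Φ o =
      Cfsg.Agent.Helper18.permChar (Matrix.SpecialLinearGroup ι F) (NZ ι F) := by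
    rw [Fintype.sum_option, hΦnone, hπ]
    have : ∀ μ, Φ (some μ) = ψ μ - (if μ = 1 then
        (fun _ : Matrix.SpecialLinearGroup ι F => (1 : ℂ)) else 0) := by
      intro μ
      rw [hΦsome]
      by_cases hμ : μ = 1
      · rw [if_pos hμ, if_pos hμ, hμ]
      · rw [if_neg hμ, if_neg hμ, sub_zero]
    simp only [this]
    rw [Finset.sum_sub_distrib, Finset.sum_ite_eq' Finset.univ (1 : MulChar F ℂ),
      if_pos (Finset.mem_univ _)]
    abel
  have hcard : (Fintype.card (Option (MulChar F ℂ)) : ℂ) = (Fintype.card F : ℂ) := by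
    rw [Fintype.card_option, card_mulChar]
    have : 1 ≤ Fintype.card F := Fintype.card_pos
    have h2 : Fintype.card F - 1 + 1 = Fintype.card F := by omega
    rw [h2]
  obtain ⟨hirr, -⟩ := irr_of_sum_norm Φ hΦchar hΦne (by rw [hΦsum, hnorm, hcard])
  have h := hirr (some 1)
  rw [hΦsome, if_pos rfl, hψ] at h
  exact h

/-- The number of nonzero vectors. -/
theorem card_NZ : Nat.card (NZ ι F) = Fintype.card F ^ Fintype.card ι - 1 := by
  classical
  have e : NZ ι F ≃ {v : ι → F // v ≠ 0} :=
    { toFun := fun v => ⟨v.1, v.2⟩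
      invFun := fun v => ⟨v.1, v.2⟩
      left_inv := fun _ => rfl
      right_inv := fun _ => rfl }
  rw [Nat.card_congr e, Nat.card_eq_fintype_card, Fintype.card_subtype_compl,
    Fintype.card_subtype_eq, Fintype.card_fun]

/-- The number of lines. -/
theorem index_lineStab_mul (hι : 1 < Fintype.card ι) (i₀ : ι) :
    (lineStab (F := F) i₀).index * (Fintype.card F - 1) =
      Fintype.card F ^ Fintype.card ι - 1 := by
  classical
  haveI := isPretransitive_nz (F := F) (ι := ι) hι
  have h1 := Subgroup.card_mul_index (lineStab (F := F) i₀)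
  have h2 := Subgroup.card_mul_index
    (MulAction.stabilizer (Matrix.SpecialLinearGroup ι F) (e0 i₀ : NZ ι F))
  rw [MulAction.index_stabilizer_of_transitive, card_NZ] at h2
  rw [card_lineStab hι i₀, ← h2] at h1
  have hpos : 0 < Nat.card
      (MulAction.stabilizer (Matrix.SpecialLinearGroup ι F) (e0 i₀ : NZ ι F)) := Nat.card_pos
  apply Nat.eq_of_mul_eq_mul_left hpos
  rw [← h1]
  ring

theorem exists_irr_rep (hι : 2 < Fintype.card ι) :
    ∃ ρ : Representation ℂ (Matrix.SpecialLinearGroup ι F)
      (Fin ((Fintype.card F ^ Fintype.card ι - Fintype.card F) / (Fintype.card F - 1)) → ℂ),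
      ρ.IsIrreducible := by
  classical
  obtain ⟨i₀⟩ : Nonempty ι := Fintype.card_pos_iff.mp (by omega)
  obtain ⟨k, ρ, hρ, hχ⟩ := isIrrCharacter_lines_sub_one (F := F) hι i₀
  have hidx := index_lineStab_mul (F := F) (by omega : 1 < Fintype.card ι) i₀
  have hq : 2 ≤ Fintype.card F := Fintype.one_lt_card
  have h1 := congrFun hχ 1
  rw [Representation.char_one, Pi.sub_apply, indFun_one] at h1
  have h2 : lineChar i₀ (1 : MulChar F ℂ) (1 : lineStab (F := F) i₀) = 1 :=
    lineChar_one_apply i₀ 1
  rw [h2, mul_one, Module.finrank_fin_fun] at h1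
  have hindex0 : (lineStab (F := F) i₀).index ≠ 0 := Subgroup.index_ne_zero_of_finite
  have h3 : k + 1 = (lineStab (F := F) i₀).index := by
    have : ((k + 1 : ℕ) : ℂ) = ((lineStab (F := F) i₀).index : ℂ) := by
      push_cast
      rw [h1]
      ring
    exact_mod_cast this
  have hqn : Fintype.card F ≤ Fintype.card F ^ Fintype.card ι := by
    calc Fintype.card F = Fintype.card F ^ 1 := (pow_one _).symm
      _ ≤ Fintype.card F ^ Fintype.card ι := Nat.pow_le_pow_right (by omega) (by omega)
  have h4 : (Fintype.card F ^ Fintype.card ι - Fintype.card F) / (Fintype.card F - 1) = k := by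
    apply Nat.div_eq_of_eq_mul_left (by omega)
    rw [← h3] at hidx
    have : (k + 1) * (Fintype.card F - 1) = k * (Fintype.card F - 1) + (Fintype.card F - 1) := by
      ring
    omega
  rw [h4]
  exact ⟨ρ, hρ⟩

end Cfsg.Agent.Helper12.LSL
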