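import Mathlib
import Cfsg.Agent.Lib.Helper12.LSLEmbed
import Cfsg.Agent.Lib.Helper24.CharIntegral
import Cfsg.Agent.Lib.Helper12.LSLArith
import Cfsg.Agent.Lib.Helper12.LSLCount

/-!
# The lower bound for the degrees of the nontrivial irreducible representations of `SL ι F`
-/

set_option autoImplicit false

namespace Cfsg.Agent.Helper12.LSL

open Matrix Cfsg.Agent.Helper12 Module

section general

variable {G : Type*} [Group G] {V : Type*} [AddCommGroup V] [Module ℂ V]

theorem trace_eq_of_isConj (R : G →* Module.End ℂ V) {g h : G} (hc : IsConj g h) :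
    LinearMap.trace ℂ V (R g) = LinearMap.trace ℂ V (R h) := by
  obtain ⟨x, hx⟩ := isConj_iff.1 hc
  have h1 : R (x * g * x⁻¹) = R x * R g * R x⁻¹ := by rw [map_mul, map_mul]
  rw [← hx, h1, LinearMap.trace_mul_comm, ← mul_assoc, ← map_mul, inv_mul_cancel,
    map_one, one_mul]

/-- an irreducible representation of degree at least two is not trivial -/
theorem exists_ne_one_of_irr (k : ℕ) (hk : 2 ≤ k)
    (ρ : Representation ℂ G (Fin k → ℂ)) (hirr : ρ.IsIrreducible) : ∃ g, ρ g ≠ 1 := by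
  by_contra hcon
  push Not at hcon
  have h0 := @eq_bot_or_eq_top (Subrepresentation ρ) _ _ hirr
    ⟨Submodule.span ℂ {(Pi.single (⟨0, by omega⟩ : Fin k) (1 : ℂ) : Fin k → ℂ)}, by
      intro g v hv
      rw [hcon g]
      exact hv⟩
  rcases h0 with h0 | h0
  · have h1 := congrArg Subrepresentation.toSubmodule h0
    have h2 : Submodule.span ℂ {(Pi.single (⟨0, by omega⟩ : Fin k) (1 : ℂ) : Fin k → ℂ)} = ⊥ := h1
    rw [Submodule.span_singleton_eq_bot] at h2
    have h3 := congrFun h2 ⟨0, by omega⟩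
    rw [Pi.single_eq_same] at h3
    exact one_ne_zero h3
  · have h1 := congrArg Subrepresentation.toSubmodule h0
    have h2 : Submodule.span ℂ {(Pi.single (⟨0, by omega⟩ : Fin k) (1 : ℂ) : Fin k → ℂ)} = ⊤ := h1
    have h3 : (Pi.single (⟨1, by omega⟩ : Fin k) (1 : ℂ) : Fin k → ℂ) ∈
        Submodule.span ℂ {(Pi.single (⟨0, by omega⟩ : Fin k) (1 : ℂ) : Fin k → ℂ)} := by
      rw [h2]
      exact Submodule.mem_top
    obtain ⟨c, hc⟩ := Submodule.mem_span_singleton.1 h3
    have h4 := congrFun hc ⟨1, by omega⟩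
    rw [Pi.smul_apply, Pi.single_eq_same, Pi.single_eq_of_ne (by
      intro h
      exact absurd (congrArg Fin.val h) (by norm_num)), smul_zero] at h4
    exact zero_ne_one h4

/-- an irreducible representation of degree at least two has no nonzero fixed vector -/
theorem eq_zero_of_fixed (k : ℕ) (hk : 2 ≤ k)
    (ρ : Representation ℂ G (Fin k → ℂ)) (hirr : ρ.IsIrreducible) (v : Fin k → ℂ)
    (hv : ∀ g, ρ g v = v) : v = 0 := by
  have h0 := @eq_bot_or_eq_top (Subrepresentation ρ) _ _ hirr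
    ⟨Submodule.span ℂ {v}, by
      intro g x hx
      obtain ⟨c, rfl⟩ := Submodule.mem_span_singleton.1 hx
      rw [map_smul, hv g]
      exact Submodule.smul_mem _ _ (Submodule.mem_span_singleton_self v)⟩
  rcases h0 with h0 | h0
  · have h1 := congrArg Subrepresentation.toSubmodule h0
    have h2 : Submodule.span ℂ {v} = ⊥ := h1
    rwa [Submodule.span_singleton_eq_bot] at h2
  · exfalso
    have h1 := congrArg Subrepresentation.toSubmodule h0
    have h2 : Submodule.span ℂ {v} = ⊤ := h1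
    have h3 : finrank ℂ (Submodule.span ℂ {v}) = k := by
      rw [h2, finrank_top, Module.finrank_fin_fun]
    have h4 := finrank_span_le_card (R := ℂ) ({v} : Set (Fin k → ℂ))
    simp at h4
    omega

end general

end Cfsg.Agent.Helper12.LSL

namespace Cfsg.Agent.Helper12.LSL

open Matrix Cfsg.Agent.Helper12 Module

section SL

variable {F : Type*} [Field F] {ι : Type*} [Fintype ι] [DecidableEq ι]
variable {V : Type*} [AddCommGroup V] [Module ℂ V]

theorem single_ne_zero' (i : ι) : (Pi.single i 1 : ι → F) ≠ 0 := by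
  intro h
  have := congrFun h i
  simp at this

theorem Phi_val_ne_zero {i₀ : ι} {φ : Phi F i₀} (h : φ ≠ 0) : φ.1 ≠ 0 :=
  fun h' => h (Subtype.ext h')

/-- all nontrivial elements of all row and column groups are conjugate -/
theorem isConj_xPhi_xPhi (hι : 3 ≤ Fintype.card ι) (i₀ j₀ : ι) {φ : Phi F i₀} {φ' : Phi F j₀}
    (hφ : φ ≠ 0) (hφ' : φ' ≠ 0) : IsConj (xPhi i₀ φ) (xPhi j₀ φ') :=
  isConj_of_vecMulVec hι _ _ (Pi.single i₀ 1) φ.1 (Pi.single j₀ 1) φ'.1 (single_ne_zero' i₀)
    (Phi_val_ne_zero hφ) (Phi_dotProduct_single i₀ φ) (single_ne_zero' j₀) (Phi_val_ne_zero hφ')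
    (Phi_dotProduct_single j₀ φ') rfl rfl

theorem isConj_xPhi_yPhi (hι : 3 ≤ Fintype.card ι) (i₀ : ι) {φ b : Phi F i₀}
    (hφ : φ ≠ 0) (hb : b ≠ 0) : IsConj (xPhi i₀ φ) (yPhi i₀ b) :=
  isConj_of_vecMulVec hι _ _ (Pi.single i₀ 1) φ.1 b.1 (Pi.single i₀ 1) (single_ne_zero' i₀)
    (Phi_val_ne_zero hφ) (Phi_dotProduct_single i₀ φ) (Phi_val_ne_zero hb) (single_ne_zero' i₀)
    (by rw [single_dotProduct, one_mul, Phi_apply]) rfl rfl

theorem isConj_xPhi_transvection (hι : 3 ≤ Fintype.card ι) (i₀ : ι) {φ : Phi F i₀}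
    (hφ : φ ≠ 0) {j k : ι} (hjk : j ≠ k) {t : F} (ht : t ≠ 0) :
    IsConj (xPhi i₀ φ) (Matrix.SpecialLinearGroup.transvection hjk t) := by
  obtain ⟨φ', h1, h2⟩ := transvection_eq_xPhi (F := F) hjk t
  rw [h1]
  apply isConj_xPhi_xPhi hι i₀ j hφ
  intro h0
  have := congrFun (congrArg Subtype.val h0) k
  rw [h2] at this
  simp at this
  exact ht this

variable [Fintype F] [FiniteDimensional ℂ V]
  (R : Matrix.SpecialLinearGroup ι F →* Module.End ℂ V) (ψ : AddChar F ℂ) (i₀ : ι)
  [Fintype (Phi F i₀)]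

/-- if the nonzero weight spaces vanish, the representation is trivial -/
theorem trivial_of_wtSpace_eq_bot (hι : 3 ≤ Fintype.card ι) (hψ : ∃ t, ψ t ≠ 1)
    (h0 : ∀ b : Phi F i₀, b ≠ 0 → finrank ℂ (wtSpace R ψ i₀ b.1) = 0) (g : Matrix.SpecialLinearGroup ι F) :
    R g = 1 := by
  classical
  obtain ⟨i₁, h01⟩ : ∃ i₁, i₀ ≠ i₁ := by
    have : 1 < Fintype.card ι := by omega
    obtain ⟨j, hj⟩ := Fintype.exists_ne_of_one_lt_card this i₀
    exact ⟨j, hj.symm⟩
  have hx : ∀ φ : Phi F i₀, R (xPhi i₀ φ) = 1 := by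
    intro φ
    apply LinearMap.ext
    intro v
    have hv : v = pr R ψ i₀ 0 v := by
      conv_lhs => rw [← sum_pr_apply R ψ i₀ hψ v]
      rw [Finset.sum_eq_single (0 : Phi F i₀)]
      · intro b _ hb
        have h1 := pr_mem R ψ i₀ b v
        have h2 : wtSpace R ψ i₀ b.1 = ⊥ := Submodule.finrank_eq_zero.1 (h0 b hb)
        rw [h2, Submodule.mem_bot] at h1
        exact h1
      · intro h
        exact absurd (Finset.mem_univ _) h
    have h3 := (mem_wtSpace_zero_iff R ψ i₀ v).1 (by rw [hv]; exact pr_mem R ψ i₀ 0 v) φ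
    rw [h3, Module.End.one_apply]
  have hnt : Nontrivial ι := Fintype.one_lt_card_iff_nontrivial.1 (by omega)
  have htop : R.ker = ⊤ := by
    apply eq_top_of_forall_transvection
    intro i j hij c
    by_cases hc : c = 0
    · subst hc
      have : Matrix.SpecialLinearGroup.transvection hij (0 : F) = 1 := by
        apply Subtype.ext
        rw [Matrix.SpecialLinearGroup.transvection_coe]
        simp
      rw [this]
      exact one_mem _
    · obtain ⟨x, hx'⟩ := isConj_iff.1 (isConj_xPhi_transvection (F := F) (by omega) i₀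
        (bOne F h01).2 hij hc)
      rw [← hx']
      apply (MonoidHom.normal_ker R).conj_mem
      rw [MonoidHom.mem_ker]
      exact hx _
  have : g ∈ R.ker := by rw [htop]; trivial
  exact MonoidHom.mem_ker.1 this

end SL

end Cfsg.Agent.Helper12.LSL

namespace Cfsg.Agent.Helper12.LSL

open Matrix Cfsg.Agent.Helper12 Module

/-- integrality of the central character, for an integral character value -/
theorem dvd_of_centralChar {G : Type*} [Group G] [Fintype G] (k : ℕ) (hk : 0 < k)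
    (ρ : Representation ℂ G (Fin k → ℂ)) (hirr : ρ.IsIrreducible) (t : G) (c : ℤ)
    (hc : ρ.character t = (c : ℂ)) :
    (k : ℤ) ∣ ((Subgroup.centralizer ({t} : Set G)).index : ℤ) * c := by
  have hχ : Cfsg.IsIrrCharacter G ρ.character := ⟨k, ρ, hirr, rfl⟩
  have h := Cfsg.Agent.Helper24.isIntegral_centralChar hχ t
  have h1 : ρ.character 1 = (k : ℂ) := by
    rw [Representation.char_one, Module.finrank_fin_fun]
  unfold Cfsg.centralChar at h
  rw [h1, hc] at h
  have hk0 : (k : ℚ) ≠ 0 := by exact_mod_cast hk.ne'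
  have h2 : (((Subgroup.centralizer ({t} : Set G)).index : ℂ) * (c : ℂ) / (k : ℂ)) =
      algebraMap ℚ ℂ ((((Subgroup.centralizer ({t} : Set G)).index : ℚ) * (c : ℚ)) / (k : ℚ)) := by
    simp
  rw [h2, isIntegral_algebraMap_iff (algebraMap ℚ ℂ).injective] at h
  obtain ⟨m, hm⟩ := IsIntegrallyClosed.isIntegral_iff.mp h
  have h3 : (m : ℚ) * k = ((Subgroup.centralizer ({t} : Set G)).index : ℚ) * (c : ℚ) := by
    have : (algebraMap ℤ ℚ m) = (m : ℚ) := rfl
    rw [this] at hm
    rw [hm]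
    field_simp
  have h4 : (m * (k : ℤ)) = ((Subgroup.centralizer ({t} : Set G)).index : ℤ) * c := by
    exact_mod_cast h3
  exact ⟨m, by rw [← h4]; ring⟩

end Cfsg.Agent.Helper12.LSL

namespace Cfsg.Agent.Helper12.LSL

open Matrix Cfsg.Agent.Helper12 Module

section Bound

variable {F : Type*} [Field F] [Fintype F] {ι : Type*} [Fintype ι] [DecidableEq ι]

/-- the one parameter subgroup of `Lp` attached to two indices -/
def uOne {i₀ j k : ι} (hjk : j ≠ k) (hj : j ≠ i₀) (hk : k ≠ i₀) (t : F) : Lp F i₀ :=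
  ⟨Matrix.SpecialLinearGroup.transvection hjk t, transvection_mem_Lp hjk hj hk t⟩

omit [Fintype F] in
theorem uOne_zero {i₀ j k : ι} (hjk : j ≠ k) (hj : j ≠ i₀) (hk : k ≠ i₀) :
    uOne (F := F) hjk hj hk 0 = 1 := by
  apply Subtype.ext
  exact Matrix.SpecialLinearGroup.transvection_coeff_zero hjk

omit [Fintype F] in
theorem uOne_add {i₀ j k : ι} (hjk : j ≠ k) (hj : j ≠ i₀) (hk : k ≠ i₀) (s t : F) :
    uOne hjk hj hk (s + t) = uOne hjk hj hk s * uOne hjk hj hk t := by
  apply Subtype.ext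
  apply Subtype.ext
  show Matrix.transvection j k (s + t) = Matrix.transvection j k s * Matrix.transvection j k t
  rw [Matrix.transvection_mul_transvection_same j k hjk]

/-- the numerical data of the hyperplane -/
theorem numbers (hι : 3 ≤ Fintype.card ι) (i₀ : ι) [Fintype (Phi F i₀)] :
    ∃ Np : ℕ, Np = Nat.card (Projectivization F (Phi F i₀)) ∧
      Fintype.card (Phi F i₀) = Fintype.card F ^ (Fintype.card ι - 1) ∧
      Fintype.card (Phi F i₀) = Np * (Fintype.card F - 1) + 1 ∧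
      Fintype.card F + 1 ≤ Np ∧
      (Fintype.card ι = 3 → Np = Fintype.card F + 1) ∧
      (Fintype.card F ^ Fintype.card ι - Fintype.card F) / (Fintype.card F - 1) =
        Fintype.card F * Np := by
  have hq : 2 ≤ Fintype.card F := Fintype.one_lt_card
  have hQ := card_Phi (F := F) i₀
  have h1 := Projectivization.card F (Phi F i₀)
  rw [Nat.card_eq_fintype_card (α := Phi F i₀), Nat.card_eq_fintype_card (α := F)] at h1
  have hQpos : 1 ≤ Fintype.card (Phi F i₀) := Fintype.card_pos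
  refine ⟨_, rfl, hQ, by omega, ?_, ?_, ?_⟩
  · -- Np ≥ q + 1
    obtain ⟨n', hn'⟩ : ∃ n', Fintype.card ι - 1 = n' + 2 := ⟨Fintype.card ι - 3, by omega⟩
    rw [hQ, hn'] at h1
    by_contra hlt
    push Not at hlt
    have h2 : Nat.card (Projectivization F (Phi F i₀)) ≤ Fintype.card F := by omega
    have h3 : Fintype.card F ^ 2 ≤ Fintype.card F ^ (n' + 2) :=
      Nat.pow_le_pow_right (by omega) (by omega)
    have h4 : Nat.card (Projectivization F (Phi F i₀)) * (Fintype.card F - 1) ≤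
        Fintype.card F * (Fintype.card F - 1) := Nat.mul_le_mul_right _ h2
    obtain ⟨q', hq'⟩ : ∃ q', Fintype.card F = q' + 2 := ⟨Fintype.card F - 2, by omega⟩
    rw [hq'] at h3 h4 h1
    have h5 : (q' + 2) * (q' + 2 - 1) = (q' + 2) ^ 2 - (q' + 2) := by
      have : q' + 2 - 1 = q' + 1 := by omega
      rw [this]
      have h6 : (q' + 2) ^ 2 = (q' + 2) * (q' + 1) + (q' + 2) := by ring
      omega
    rw [h5] at h4
    have h7 : q' + 2 ≤ (q' + 2) ^ 2 := by nlinarith
    omega
  · intro h3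
    rw [hQ, h3] at h1
    obtain ⟨q', hq'⟩ : ∃ q', Fintype.card F = q' + 2 := ⟨Fintype.card F - 2, by omega⟩
    rw [hq'] at h1 ⊢
    have h5 : (q' + 2) ^ (3 - 1) - 1 = (q' + 2 + 1) * (q' + 2 - 1) := by
      have : q' + 2 - 1 = q' + 1 := by omega
      rw [this]
      have h6 : (q' + 2) ^ (3 - 1) = (q' + 2 + 1) * (q' + 1) + 1 := by ring
      omega
    rw [h5] at h1
    exact (Nat.eq_of_mul_eq_mul_right (by omega) h1).symm
  · obtain ⟨n', hn'⟩ : ∃ n', Fintype.card ι = n' + 1 := ⟨Fintype.card ι - 1, by omega⟩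
    have hn'' : Fintype.card ι - 1 = n' := by omega
    rw [hQ, hn''] at h1
    rw [hn', pow_succ]
    have h2 : Fintype.card F ^ n' * Fintype.card F - Fintype.card F =
        Fintype.card F * Nat.card (Projectivization F (Phi F i₀)) * (Fintype.card F - 1) := by
      have h3 : 1 ≤ Fintype.card F ^ n' := Nat.one_le_pow _ _ (by omega)
      have h4 : Fintype.card F ^ n' = Nat.card (Projectivization F (Phi F i₀)) *
          (Fintype.card F - 1) + 1 := by omega
      rw [h4]
      have : (Nat.card (Projectivization F (Phi F i₀)) * (Fintype.card F - 1) + 1) * Fintype.card F =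
          Fintype.card F * Nat.card (Projectivization F (Phi F i₀)) * (Fintype.card F - 1) +
            Fintype.card F := by ring
      rw [this, Nat.add_sub_cancel]
    rw [h2, Nat.mul_div_cancel _ (by omega)]

end Bound

end Cfsg.Agent.Helper12.LSL

namespace Cfsg.Agent.Helper12.LSL

open Matrix Cfsg.Agent.Helper12 Module

section Final

variable {F : Type*} [Field F] [Fintype F] {ι : Type*} [Fintype ι] [DecidableEq ι]

/-- a fixed vector of the row and the column group is fixed by everything -/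
theorem fixed_of_xPhi_yPhi {V : Type*} [AddCommGroup V] [Module ℂ V]
    (R : Matrix.SpecialLinearGroup ι F →* Module.End ℂ V) (i₀ : ι) (v : V)
    (hx : ∀ φ : Phi F i₀, R (xPhi i₀ φ) v = v) (hy : ∀ b : Phi F i₀, R (yPhi i₀ b) v = v)
    (g : Matrix.SpecialLinearGroup ι F) : R g v = v := by
  obtain ⟨S, hS⟩ : ∃ S : Subgroup (Matrix.SpecialLinearGroup ι F), ∀ g, g ∈ S ↔ R g v = v := by
    refine ⟨{ carrier := {g | R g v = v}
              mul_mem' := ?_
              one_mem' := ?_
              inv_mem' := ?_ }, fun g => Iff.rfl⟩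
    · intro a b ha hb
      show R (a * b) v = v
      rw [map_mul, Module.End.mul_apply, hb, ha]
    · show R 1 v = v
      rw [map_one, Module.End.one_apply]
    · intro a ha
      show R a⁻¹ v = v
      have h1 : R a v = v := ha
      have := R_inv_apply R a v
      rwa [h1] at this
  have htop : S = ⊤ := eq_top_of_xPhi_yPhi i₀ S (fun φ => (hS _).2 (hx φ)) (fun b => (hS _).2 (hy b))
  exact (hS g).1 (by rw [htop]; trivial)

/-- **The lower bound** -/
theorem sl_lower_bound (hι : 3 ≤ Fintype.card ι)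
    (hex : (Fintype.card ι, Fintype.card F) ≠ (3, 2) ∧ (Fintype.card ι, Fintype.card F) ≠ (3, 4) ∧
      (Fintype.card ι, Fintype.card F) ≠ (4, 2) ∧ (Fintype.card ι, Fintype.card F) ≠ (4, 3))
    (k : ℕ) (ρ : Representation ℂ (Matrix.SpecialLinearGroup ι F) (Fin k → ℂ))
    (hirr : ρ.IsIrreducible) (hk : 2 ≤ k) :
    (Fintype.card F ^ Fintype.card ι - Fintype.card F) / (Fintype.card F - 1) ≤ k := by
  classical
  by_contra hlt
  push Not at hlt
  have hq : 2 ≤ Fintype.card F := Fintype.one_lt_card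
  obtain ⟨i₀, i₁, i₂, h01, h02, h12⟩ : ∃ i₀ i₁ i₂ : ι, i₀ ≠ i₁ ∧ i₀ ≠ i₂ ∧ i₁ ≠ i₂ := by
    have h2 : 2 < Fintype.card ι := by omega
    obtain ⟨a, b, c, hab, hac, hbc⟩ := Fintype.two_lt_card_iff.1 h2
    exact ⟨a, b, c, hab, hac, hbc⟩
  letI : Fintype (Phi F i₀) := Fintype.ofFinite _
  letI : Fintype (NZ F i₀) := Fintype.ofFinite _
  obtain ⟨ψ, hψ1⟩ := (AddChar.exists_apply_ne_zero (α := F) (a := 1)).2 one_ne_zero
  have hψ : ∃ t, ψ t ≠ 1 := ⟨1, hψ1⟩
  obtain ⟨b₁, hb₁⟩ : ∃ b₁ : NZ F i₀, b₁ = bOne F h01 := ⟨_, rfl⟩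
  obtain ⟨τ, hτdef⟩ : ∃ τ : ℂ, τ = LinearMap.trace ℂ _ (ρ (xPhi i₀ b₁.1)) := ⟨_, rfl⟩
  have hτ : ∀ φ : Phi F i₀, φ ≠ 0 → LinearMap.trace ℂ _ (ρ (xPhi i₀ φ)) = τ := by
    intro φ hφ
    rw [hτdef]
    exact trace_eq_of_isConj ρ (isConj_xPhi_xPhi hι i₀ i₀ hφ b₁.2)
  have hτ' : ∀ b : Phi F i₀, b ≠ 0 → LinearMap.trace ℂ _ (ρ (yPhi i₀ b)) = τ := by
    intro b hb
    rw [hτdef]
    exact (trace_eq_of_isConj ρ (isConj_xPhi_yPhi hι i₀ b₁.2 hb)).symm
  obtain ⟨hmeq, hτeq, hdeq⟩ := finrank_data ρ ψ i₀ hψ τ hτ b₁.1 b₁.2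
  obtain ⟨c, hc⟩ : ∃ c : ℕ, c = finrank ℂ (wtSpace ρ ψ i₀ (0 : Phi F i₀).1) := ⟨_, rfl⟩
  obtain ⟨m, hm⟩ : ∃ m : ℕ, m = finrank ℂ (wtSpace ρ ψ i₀ b₁.1.1) := ⟨_, rfl⟩
  rw [← hc, ← hm] at hτeq hdeq
  rw [Module.finrank_fin_fun] at hdeq
  obtain ⟨Np, hNp, hQ, hQN, hNq, hN3, hB⟩ := numbers (F := F) hι i₀
  rw [hB] at hlt
  -- m ≠ 0
  have hm0 : m ≠ 0 := by
    intro h0
    obtain ⟨g, hg⟩ := exists_ne_one_of_irr k hk ρ hirr
    apply hg
    apply trivial_of_wtSpace_eq_bot ρ ψ i₀ hι hψ
    intro b hb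
    rw [hmeq b hb, ← hm, h0]
  -- m = 1
  have hm1 : m = 1 := by
    by_contra hne
    have h2 : 2 ≤ m := by omega
    have h3 : (Fintype.card (Phi F i₀) - 1) * 2 ≤ (Fintype.card (Phi F i₀) - 1) * m :=
      Nat.mul_le_mul_left _ h2
    have h4 : Fintype.card (Phi F i₀) - 1 = Np * (Fintype.card F - 1) := by omega
    rw [h4] at h3 hdeq
    have h5 : Fintype.card F * Np ≤ Np * (Fintype.card F - 1) * 2 := by
      obtain ⟨q', hq'⟩ : ∃ q', Fintype.card F = q' + 2 := ⟨Fintype.card F - 2, by omega⟩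
      rw [hq']
      have : q' + 2 - 1 = q' + 1 := by omega
      rw [this]
      nlinarith
    omega
  subst hm1
  have hm' : ∀ b : Phi F i₀, b ≠ 0 → finrank ℂ (wtSpace ρ ψ i₀ b.1) = 1 := by
    intro b hb
    rw [hmeq b hb, ← hm]
  have hdim : finrank ℂ (wtSpace ρ ψ i₀ (Pi.single i₁ 1)) = 1 := by
    have := hm' b₁.1 b₁.2
    rw [hb₁, bOne_val] at this
    exact this
  have htriv : Triv ρ ψ i₀ := triv_of_stab ρ ψ i₀ hι h01
    (fun g hg0 hg1 w hw => stab_trivial_on_wt hι hex ρ ψ i₀ i₁ h01 hdim g hg0 hg1 w hw)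
  obtain ⟨w, hw, hw0, hwl⟩ := exists_family ρ ψ i₀ hι h01 hm' htriv
  -- the one parameter subgroup
  have hτu : ∀ t : F, t ≠ 0 →
      LinearMap.trace ℂ _ (ρ (uOne h12 h01.symm h02.symm t).1) = τ := by
    intro t ht
    rw [hτdef]
    exact (trace_eq_of_isConj ρ (isConj_xPhi_transvection hι i₀ b₁.2 h12 ht)).symm
  obtain ⟨k₂, hk₂⟩ := exists_nat_of_one_param ρ ψ i₀ hψ hm' htriv (uOne h12 h01.symm h02.symm)
    (uOne_zero h12 h01.symm h02.symm) (uOne_add h12 h01.symm h02.symm) τ hτu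
    (Fintype.card F ^ (Fintype.card ι - 2) - 1)
    (fun t ht => card_fixed_transvection h12 h01.symm h02.symm t ht)
  rw [← hc, hτeq] at hk₂
  have hpow : 1 ≤ Fintype.card F ^ (Fintype.card ι - 2) := Nat.one_le_pow _ _ (by omega)
  have hk₂' : Fintype.card F * k₂ + (Fintype.card F - 1) * Fintype.card F ^ (Fintype.card ι - 2) =
      Fintype.card F * c := by
    have h1 : ((Fintype.card F * k₂ + (Fintype.card F - 1) *
        Fintype.card F ^ (Fintype.card ι - 2) : ℕ) : ℂ) = ((Fintype.card F * c : ℕ) : ℂ) := by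
      push_cast [Nat.cast_sub hpow, Nat.cast_sub (show 1 ≤ Fintype.card F by omega)] at hk₂ ⊢
      rw [hk₂]
      ring
    exact_mod_cast h1
  -- c ≥ (q - 1) q^(n - 3)
  have hclow : (Fintype.card F - 1) * Fintype.card F ^ (Fintype.card ι - 3) ≤ c := by
    have h1 : Fintype.card F ^ (Fintype.card ι - 2) =
        Fintype.card F * Fintype.card F ^ (Fintype.card ι - 3) := by
      rw [← pow_succ']
      congr 1
      omega
    rw [h1] at hk₂'
    have h2 : Fintype.card F * ((Fintype.card F - 1) * Fintype.card F ^ (Fintype.card ι - 3)) ≤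
        Fintype.card F * c := by
      rw [← hk₂']
      have : (Fintype.card F - 1) * (Fintype.card F * Fintype.card F ^ (Fintype.card ι - 3)) =
          Fintype.card F * ((Fintype.card F - 1) * Fintype.card F ^ (Fintype.card ι - 3)) := by ring
      omega
    exact Nat.le_of_mul_le_mul_left h2 (by omega)
  -- the character value
  have hchar : ρ.character (xPhi i₀ b₁.1) = (((c : ℤ) - 1 : ℤ) : ℂ) := by
    show LinearMap.trace ℂ _ (ρ (xPhi i₀ b₁.1)) = _
    rw [← hτdef, hτeq]
    push_cast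
    ring
  have hdvd := dvd_of_centralChar k (by omega) ρ hirr (xPhi i₀ b₁.1) ((c : ℤ) - 1) hchar
  have hidx := index_centralizer_xPhi (F := F) hι i₀ b₁.1 b₁.2
  obtain ⟨I, hI⟩ : ∃ I : ℕ, I = (Subgroup.centralizer
    ({xPhi i₀ b₁.1} : Set (Matrix.SpecialLinearGroup ι F))).index := ⟨_, rfl⟩
  rw [← hI] at hdvd hidx
  have hIeq : I = (Fintype.card F - 1) * (Fintype.card F * Np + 1) * Np := by
    have h1 : Fintype.card F ^ (Fintype.card ι - 1) - 1 = Np * (Fintype.card F - 1) := by
      rw [← hQ]; omega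
    have h2 : Fintype.card F ^ Fintype.card ι - 1 =
        (Fintype.card F * Np + 1) * (Fintype.card F - 1) := by
      have h3 : Fintype.card F ^ Fintype.card ι =
          Fintype.card F * Fintype.card F ^ (Fintype.card ι - 1) := by
        rw [← pow_succ']
        congr 1
        omega
      rw [h3, ← hQ, hQN]
      obtain ⟨q', hq'⟩ : ∃ q', Fintype.card F = q' + 2 := ⟨Fintype.card F - 2, by omega⟩
      rw [hq']
      have : q' + 2 - 1 = q' + 1 := by omega
      rw [this]
      have h4 : (q' + 2) * (Np * (q' + 1) + 1) = ((q' + 2) * Np + 1) * (q' + 1) + 1 := by ring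
      rw [h4, Nat.add_sub_cancel]
    rw [h1, h2] at hidx
    have h5 : I * (Fintype.card F - 1) =
        ((Fintype.card F - 1) * (Fintype.card F * Np + 1) * Np) * (Fintype.card F - 1) := by
      rw [hidx]
      ring
    exact Nat.eq_of_mul_eq_mul_right (by omega) h5
  have hcast : ((c : ℤ) - 1) = (k : ℤ) - (Fintype.card F : ℤ) ^ (Fintype.card ι - 1) := by
    have h1 : (k : ℤ) = (c : ℤ) + ((Fintype.card (Phi F i₀) : ℤ) - 1) := by
      have hpos : 1 ≤ Fintype.card (Phi F i₀) := Fintype.card_pos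
      have : k = c + (Fintype.card (Phi F i₀) - 1) := by rw [hdeq, mul_one]
      rw [this]
      push_cast [Nat.cast_sub hpos]
      ring
    rw [h1, hQ]
    push_cast
    ring
  rw [hcast] at hdvd
  have hkc : k = c + Np * (Fintype.card F - 1) := by
    rw [hdeq, mul_one]
    omega
  by_cases hn4 : 4 ≤ Fintype.card ι
  · -- the case n ≥ 4
    have hfix0 : ∀ v : Fin k → ℂ, (∀ φ : Phi F i₀, ρ (xPhi i₀ φ) v = v) →
        (∀ b : Phi F i₀, ρ (yPhi i₀ b) v = v) → v = 0 := by
      intro v hx hy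
      exact eq_zero_of_fixed k hk ρ hirr v (fixed_of_xPhi_yPhi ρ i₀ v hx hy)
    have hfb := finrank_fixY_bound ρ ψ i₀ hn4 hψ hm' w hw hw0 hwl hfix0
    rw [finrank_fixY ρ ψ i₀ hψ τ hτ hτ', ← hc, ← hNp] at hfb
    have hc2 : 2 ≤ c := by
      have h1 : Fintype.card F ≤ Fintype.card F ^ (Fintype.card ι - 3) := by
        calc Fintype.card F = Fintype.card F ^ 1 := (pow_one _).symm
          _ ≤ Fintype.card F ^ (Fintype.card ι - 3) := Nat.pow_le_pow_right (by omega) (by omega)
      have h2 : 1 * Fintype.card F ≤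
          (Fintype.card F - 1) * Fintype.card F ^ (Fintype.card ι - 3) :=
        Nat.mul_le_mul (by omega) h1
      omega
    have hNc : Np ≤ c + 1 := by
      rcases hfb with h | h
      · omega
      · exact h
    have hkd : k + 1 = Fintype.card F * Np := by
      obtain ⟨q', hq'⟩ : ∃ q', Fintype.card F = q' + 2 := ⟨Fintype.card F - 2, by omega⟩
      rw [hq'] at hkc hlt ⊢
      have : q' + 2 - 1 = q' + 1 := by omega
      rw [this] at hkc
      have h1 : (q' + 2) * Np = Np * (q' + 1) + Np := by ring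
      omega
    exact arith_main1 (Fintype.card F) Np k I (Fintype.card ι - 1) hq hNq hkd hIeq hdvd
  · -- the case n = 3
    have hn3 : Fintype.card ι = 3 := by omega
    have hNp3 := hN3 hn3
    rw [hn3] at hclow
    simp only [Nat.sub_self, pow_zero, mul_one] at hclow
    have hqne2 : Fintype.card F ≠ 2 := by
      intro h
      exact hex.1 (by rw [hn3, h])
    have hqne4 : Fintype.card F ≠ 4 := by
      intro h
      exact hex.2.1 (by rw [hn3, h])
    have hqne10 : Fintype.card F ≠ 10 := by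
      intro h
      have hpp := Fintype.isPrimePow_card_of_field (α := F)
      rw [h] at hpp
      exact not_isPrimePow_ten hpp
    rw [hNp3] at hkc hlt hIeq
    obtain ⟨q', hq'⟩ : ∃ q', Fintype.card F = q' + 2 := ⟨Fintype.card F - 2, by omega⟩
    have hcle : c ≤ Fintype.card F := by
      rw [hq'] at hkc hlt ⊢
      have : q' + 2 - 1 = q' + 1 := by omega
      rw [this] at hkc
      have h1 : (q' + 2) * (q' + 2 + 1) = (q' + 2 + 1) * (q' + 1) + (q' + 2 + 1) := by ring
      omega
    rcases Nat.lt_or_ge c (Fintype.card F) with hclt | hcge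
    · -- c = q - 1
      have hceq : c = Fintype.card F - 1 := by omega
      have hkd : k + 2 = Fintype.card F ^ 2 + Fintype.card F := by
        rw [hkc, hceq, hq']
        have : q' + 2 - 1 = q' + 1 := by omega
        rw [this]
        ring
      have hdvd' : (k : ℤ) ∣ (I : ℤ) * ((k : ℤ) - (Fintype.card F : ℤ) ^ 2) := by
        have : Fintype.card ι - 1 = 2 := by omega
        rw [this] at hdvd
        exact hdvd
      exact arith_main2 (Fintype.card F) k I (by omega) hqne4 hqne10 hkd hIeq hdvd'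
    · -- c = q
      have hceq : c = Fintype.card F := by omega
      have hkd : k + 1 = Fintype.card F * (Fintype.card F + 1) := by
        rw [hkc, hceq, hq']
        have : q' + 2 - 1 = q' + 1 := by omega
        rw [this]
        ring
      exact arith_main1 (Fintype.card F) (Fintype.card F + 1) k I (Fintype.card ι - 1) hq
        (le_refl _) hkd hIeq hdvd

end Final

end Cfsg.Agent.Helper12.LSL
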