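import Mathlib
import Cfsg.Agent.S2352
import Cfsg.Agent.S2353

/-!
# Laws in the classical groups: abstract part (helper12)

`Big w X` says that some substitution of elements of `X` into the word `w` is not central.
-/

set_option autoImplicit false

namespace Cfsg.Agent.Helper12
namespace LawFin

/-- some value of the word `w` in `X` is not central -/
def Big (w : FreeGroup ℕ) (X : Type*) [Group X] : Prop :=
  ∃ f : ℕ → X, FreeGroup.lift f w ∉ Subgroup.center X

theorem lift_comp {H X : Type*} [Group H] [Group X] (φ : H →* X) (f : ℕ → H) (w : FreeGroup ℕ) :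
    FreeGroup.lift (fun i => φ (f i)) w = φ (FreeGroup.lift f w) := by
  have hcomp : FreeGroup.lift (fun i => φ (f i)) = φ.comp (FreeGroup.lift f) := by
    apply FreeGroup.ext_hom
    intro i
    simp
  rw [hcomp, MonoidHom.comp_apply]

theorem Big.of_injective {w : FreeGroup ℕ} {H X : Type*} [Group H] [Group X] (φ : H →* X)
    (hφ : Function.Injective φ) (h : Big w H) : Big w X := by
  obtain ⟨f, hf⟩ := h
  refine ⟨fun i => φ (f i), ?_⟩
  rw [lift_comp]
  intro hc
  apply hf
  rw [Subgroup.mem_center_iff] at hc ⊢
  intro g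
  apply hφ
  rw [map_mul, map_mul]
  exact hc (φ g)

theorem Big.of_mulEquiv {w : FreeGroup ℕ} {H X : Type*} [Group H] [Group X] (e : H ≃* X)
    (h : Big w H) : Big w X :=
  Big.of_injective e.toMonoidHom e.injective h

/-- a word with a non-central value is not a law of the central quotient -/
theorem Big.not_law_quotient {w : FreeGroup ℕ} {X : Type*} [Group X] (h : Big w X) :
    ¬ ∀ f : ℕ → X ⧸ Subgroup.center X, FreeGroup.lift f w = 1 := by
  obtain ⟨f, hf⟩ := h
  intro hlaw
  have h1 := hlaw (fun i => QuotientGroup.mk' (Subgroup.center X) (f i))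
  rw [lift_comp] at h1
  exact hf ((QuotientGroup.eq_one_iff _).1 h1)

/-- laws pass along isomorphisms -/
theorem law_of_mulEquiv {w : FreeGroup ℕ} {G Y : Type*} [Group G] [Group Y] (e : G ≃* Y)
    (h : ∀ f : ℕ → G, FreeGroup.lift f w = 1) (f : ℕ → Y) : FreeGroup.lift f w = 1 := by
  have h1 := h (fun i => e.symm (f i))
  have h2 := lift_comp e.symm.toMonoidHom f w
  have h3 : FreeGroup.lift (fun i => e.symm (f i)) w = e.symm (FreeGroup.lift f w) := h2
  rw [h3] at h1
  have := congrArg e h1
  rwa [MulEquiv.apply_symm_apply, map_one] at this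

/-- a word with a non-central value in `X` is not a law in a group isomorphic to the central
quotient of `X` -/
theorem Big.not_law {w : FreeGroup ℕ} {X G : Type*} [Group X] [Group G] (h : Big w X)
    (e : G ≃* X ⧸ Subgroup.center X) : ¬ ∀ f : ℕ → G, FreeGroup.lift f w = 1 :=
  fun hl => h.not_law_quotient (law_of_mulEquiv e hl)

/-- injective maps of perfect groups land in the commutator subgroup -/
theorem Big.of_perfect {w : FreeGroup ℕ} {H O : Type*} [Group H] [Group O] (φ : H →* O)
    (hφ : Function.Injective φ) (hH : commutator H = ⊤) (h : Big w H) :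
    Big w (commutator O) := by
  have hmem : ∀ x : H, φ x ∈ commutator O := by
    intro x
    have hx : x ∈ commutator H := by rw [hH]; exact Subgroup.mem_top x
    have h1 : φ x ∈ (commutator H).map φ := Subgroup.mem_map_of_mem φ hx
    rw [commutator_def, Subgroup.map_commutator] at h1
    exact Subgroup.commutator_mono le_top le_top h1
  refine Big.of_injective (φ.codRestrict (commutator O) hmem) ?_ h
  intro a b hab
  apply hφ
  have := congrArg Subtype.val hab
  exact this

/-- large alternating groups -/
theorem big_alt (w : FreeGroup ℕ) (hw : w ≠ 1) :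
    ∃ n0 : ℕ, 5 ≤ n0 ∧ ∀ n : ℕ, n0 ≤ n → Big w (alternatingGroup (Fin n)) := by
  obtain ⟨N, hN⟩ := Cfsg.Agent.S2352.result w hw
  refine ⟨max N 5, le_max_right _ _, fun n hn => ?_⟩
  obtain ⟨f, hf⟩ := hN n (le_trans (le_max_left _ _) hn)
  refine ⟨f, ?_⟩
  have h4 : 4 ≤ Nat.card (Fin n) := by
    rw [Nat.card_eq_fintype_card, Fintype.card_fin]
    have := le_trans (le_max_right N 5) hn
    omega
  rw [alternatingGroup.center_eq_bot h4, Subgroup.mem_bot]
  exact hf

end LawFin
end Cfsg.Agent.Helper12
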