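import Mathlib
import Cfsg.Agent.Lib.Helper12.LawBigA

/-!
# Laws in the classical groups: subgroups of `SL_2` (helper12)
-/

set_option autoImplicit false

open Polynomial

namespace Cfsg.Agent.Helper12
namespace LawFin

open Cfsg.Agent.S2353

section sl2

variable {F : Type*} [Field F]

/-- evaluation of polynomial matrices -/
noncomputable def evalSL (t : F) :
    Matrix.SpecialLinearGroup (Fin 2) F[X] →* Matrix.SpecialLinearGroup (Fin 2) F :=
  Matrix.SpecialLinearGroup.map (evalRingHom t)

theorem evalSL_apply (t : F) (M : Matrix.SpecialLinearGroup (Fin 2) F[X]) (i j : Fin 2) :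
    ((evalSL t M : Matrix.SpecialLinearGroup (Fin 2) F) : Matrix (Fin 2) (Fin 2) F) i j =
      eval t ((M : Matrix (Fin 2) (Fin 2) F[X]) i j) := rfl

/-- the generators, evaluated -/
noncomputable def genAt (t : F) (i : ℕ) : Matrix.SpecialLinearGroup (Fin 2) F :=
  evalSL t (gen F i)

theorem genAt_coe (t : F) (i : ℕ) :
    ((genAt t i : Matrix.SpecialLinearGroup (Fin 2) F) : Matrix (Fin 2) (Fin 2) F) =
      !![1 + t ^ (i + 1) * t ^ (i + 1), t ^ (i + 1); t ^ (i + 1), 1] := by
  ext a b
  unfold genAt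
  rw [evalSL_apply, gen_coe]
  fin_cases a <;> fin_cases b <;> simp [fp]

/-- an elementary matrix -/
def x1 (F : Type*) [Field F] : Matrix.SpecialLinearGroup (Fin 2) F :=
  ⟨!![1, 1; 0, 1], by rw [Matrix.det_fin_two_of]; ring⟩

theorem x1_coe : ((x1 F : Matrix.SpecialLinearGroup (Fin 2) F) : Matrix (Fin 2) (Fin 2) F) =
    !![1, 1; 0, 1] := rfl

theorem entry_eq_zero_of_commute_x1 (M : Matrix.SpecialLinearGroup (Fin 2) F)
    (h : M * x1 F = x1 F * M) : (M : Matrix (Fin 2) (Fin 2) F) 1 0 = 0 := by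
  have h1 := congrArg (fun A : Matrix.SpecialLinearGroup (Fin 2) F =>
    (A : Matrix (Fin 2) (Fin 2) F) 0 0) h
  simp only [Matrix.SpecialLinearGroup.coe_mul, x1_coe, Matrix.mul_apply, Fin.sum_univ_two,
    Matrix.of_apply, Matrix.cons_val', Matrix.cons_val_zero, Matrix.cons_val_one,
    Matrix.cons_val_fin_one] at h1
  linear_combination -h1

/-- the basic criterion for subgroups of `SL_2` -/
theorem big_sub (w : FreeGroup ℕ) (hw : w ≠ 1) (H : Subgroup (Matrix.SpecialLinearGroup (Fin 2) F))
    (S : Finset F) (hS : bound w.toWord < S.card) (hgen : ∀ t ∈ S, ∀ i, genAt t i ∈ H)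
    (hx : x1 F ∈ H) : Big w H := by
  classical
  have hne : w.toWord ≠ [] := fun h => hw (FreeGroup.toWord_eq_nil_iff.1 h)
  have h1 := colL_snd_ne_zero (F := F) w.toWord FreeGroup.isReduced_toWord hne
  have h2 := (natDegree_colL (F := F) w.toWord).2
  obtain ⟨t, htS, ht⟩ : ∃ t ∈ S, eval t (colL F w.toWord).2 ≠ 0 := by
    by_contra hcon
    push Not at hcon
    have hsub : S ⊆ (colL F w.toWord).2.roots.toFinset := by
      intro t ht
      rw [Multiset.mem_toFinset, mem_roots h1]
      exact hcon t ht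
    have hc1 := Finset.card_le_card hsub
    have hc2 := Multiset.toFinset_card_le (colL F w.toWord).2.roots
    have hc3 := Polynomial.card_roots' (colL F w.toWord).2
    omega
  refine ⟨fun i => ⟨genAt t i, hgen t htS i⟩, ?_⟩
  intro hc
  rw [Subgroup.mem_center_iff] at hc
  have h3 := hc ⟨x1 F, hx⟩
  have h4 := congrArg (Subgroup.subtype H) h3
  rw [map_mul, map_mul] at h4
  have h5 : H.subtype (FreeGroup.lift (fun i => (⟨genAt t i, hgen t htS i⟩ : H)) w) =
      evalSL t (FreeGroup.lift (gen F) w) := by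
    rw [← lift_comp, ← lift_comp]
    rfl
  rw [h5] at h4
  have h6 := entry_eq_zero_of_commute_x1 _ h4.symm
  rw [evalSL_apply] at h6
  have hcol := col_lift (F := F) w
  apply ht
  rw [← hcol]
  exact h6

end sl2

/-- `SL_2` over large finite fields -/
theorem big_sl2 (w : FreeGroup ℕ) (hw : w ≠ 1) :
    ∃ q0 : ℕ, 4 ≤ q0 ∧ ∀ (K : Type) [Field K] [Fintype K], q0 ≤ Fintype.card K →
      Big w (Matrix.SpecialLinearGroup (Fin 2) K) := by
  refine ⟨max (bound w.toWord + 1) 4, le_max_right _ _, ?_⟩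
  intro K _ _ hK
  have h1 : Big w (⊤ : Subgroup (Matrix.SpecialLinearGroup (Fin 2) K)) := by
    apply big_sub w hw ⊤ Finset.univ
    · rw [Finset.card_univ]
      have := le_trans (le_max_left _ _) hK
      omega
    · intro t _ i
      exact Subgroup.mem_top _
    · exact Subgroup.mem_top _
  exact Big.of_mulEquiv Subgroup.topEquiv h1

end LawFin
end Cfsg.Agent.Helper12
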