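import Mathlib
import Cfsg.Prelude.Def_Classical

/-!
# Laws in the classical groups: matrix homomorphisms (helper12)
-/

set_option autoImplicit false

namespace Cfsg.Agent.Helper12
namespace LawFin

open Matrix

section blocks

variable (F : Type*) [Field F] (κ κ' : Type*) [Fintype κ] [Fintype κ'] [DecidableEq κ]
  [DecidableEq κ']

/-- extension by the identity on the right -/
def extL : Matrix κ κ F →* Matrix (κ ⊕ κ') (κ ⊕ κ') F where
  toFun A := Matrix.fromBlocks A 0 0 1
  map_one' := Matrix.fromBlocks_one
  map_mul' A B := by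
    rw [Matrix.fromBlocks_multiply]
    simp

/-- extension by the identity on the left -/
def extR : Matrix κ' κ' F →* Matrix (κ ⊕ κ') (κ ⊕ κ') F where
  toFun A := Matrix.fromBlocks 1 0 0 A
  map_one' := Matrix.fromBlocks_one
  map_mul' A B := by
    rw [Matrix.fromBlocks_multiply]
    simp

theorem extL_apply (A : Matrix κ κ F) : extL F κ κ' A = Matrix.fromBlocks A 0 0 1 := rfl

theorem extR_apply (A : Matrix κ' κ' F) : extR F κ κ' A = Matrix.fromBlocks 1 0 0 A := rfl

theorem extL_injective : Function.Injective (extL F κ κ') := by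
  intro A B h
  rw [extL_apply, extL_apply, Matrix.fromBlocks_inj] at h
  exact h.1

theorem extR_injective : Function.Injective (extR F κ κ') := by
  intro A B h
  rw [extR_apply, extR_apply, Matrix.fromBlocks_inj] at h
  exact h.2.2.2

theorem det_extL (A : Matrix κ κ F) : (extL F κ κ' A).det = A.det := by
  rw [extL_apply, Matrix.det_fromBlocks_zero₂₁, Matrix.det_one, mul_one]

theorem det_extR (A : Matrix κ' κ' F) : (extR F κ κ' A).det = A.det := by
  rw [extR_apply, Matrix.det_fromBlocks_zero₂₁, Matrix.det_one, one_mul]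

variable {κ κ'}

/-- reindexing -/
def reindexHom (e : κ ≃ κ') : Matrix κ κ F →* Matrix κ' κ' F :=
  (Matrix.reindexRingEquiv F e).toMulEquiv.toMonoidHom

theorem reindexHom_apply (e : κ ≃ κ') (A : Matrix κ κ F) :
    reindexHom F e A = Matrix.reindex e e A := rfl

theorem reindexHom_injective (e : κ ≃ κ') : Function.Injective (reindexHom F e) :=
  (Matrix.reindexRingEquiv F e).injective

theorem det_reindexHom (e : κ ≃ κ') (A : Matrix κ κ F) : (reindexHom F e A).det = A.det := by
  rw [reindexHom_apply, Matrix.det_reindex_self]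

end blocks

section hyp

variable (F : Type*) [Field F] (κ : Type*) [Fintype κ] [DecidableEq κ]

/-- the hyperbolic doubling `g ↦ diag (g, g⁻ᵀ)` -/
def hypHom : GL κ F →* Matrix (κ ⊕ κ) (κ ⊕ κ) F where
  toFun g := Matrix.fromBlocks (g : Matrix κ κ F) 0 0 ((g⁻¹ : GL κ F) : Matrix κ κ F)ᵀ
  map_one' := by
    simp [Matrix.fromBlocks_one]
  map_mul' g h := by
    rw [Matrix.fromBlocks_multiply]
    simp [Matrix.transpose_mul]

theorem hypHom_apply (g : GL κ F) :
    hypHom F κ g = Matrix.fromBlocks (g : Matrix κ κ F) 0 0 ((g⁻¹ : GL κ F) : Matrix κ κ F)ᵀ :=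
  rfl

theorem hypHom_injective : Function.Injective (hypHom F κ) := by
  intro g h hgh
  rw [hypHom_apply, hypHom_apply, Matrix.fromBlocks_inj] at hgh
  exact Units.ext hgh.1

end hyp

section tosl

variable {F : Type*} [Field F] {H : Type*} [Group H] {n : ℕ}

/-- a matrix representation of determinant one as a map to `SL_n` -/
def toSL (ρ : H →* Matrix (Fin n) (Fin n) F) (hdet : ∀ h, (ρ h).det = 1) :
    H →* Matrix.SpecialLinearGroup (Fin n) F where
  toFun h := ⟨ρ h, hdet h⟩
  map_one' := Subtype.ext (map_one ρ)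
  map_mul' a b := Subtype.ext (map_mul ρ a b)

theorem toSL_coe (ρ : H →* Matrix (Fin n) (Fin n) F) (hdet : ∀ h, (ρ h).det = 1) (h : H) :
    ((toSL ρ hdet h : Matrix.SpecialLinearGroup (Fin n) F) : Matrix (Fin n) (Fin n) F) = ρ h := rfl

theorem toSL_injective (ρ : H →* Matrix (Fin n) (Fin n) F) (hdet : ∀ h, (ρ h).det = 1)
    (hρ : Function.Injective ρ) : Function.Injective (toSL ρ hdet) := by
  intro a b hab
  apply hρ
  have := congrArg (fun x : Matrix.SpecialLinearGroup (Fin n) F =>
    (x : Matrix (Fin n) (Fin n) F)) hab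
  exact this

theorem toHomUnits_injective {ι : Type*} [Fintype ι] [DecidableEq ι] (ρ : H →* Matrix ι ι F)
    (hρ : Function.Injective ρ) : Function.Injective ρ.toHomUnits := by
  intro a b hab
  apply hρ
  have := congrArg (fun x : (Matrix ι ι F)ˣ => (x : Matrix ι ι F)) hab
  exact this

end tosl

section perm

variable (F : Type*) [Field F] {ι : Type*} [Fintype ι] [DecidableEq ι]

theorem permMatrixHom_injective :
    Function.Injective (Matrix.permMatrixHom (n := ι) (R := F)) := by
  intro σ τ h
  have h1 : σ⁻¹ = τ⁻¹ := by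
    ext i
    have h2 := congrFun (congrFun h i) (σ⁻¹ i)
    rw [Matrix.permMatrixHom_apply, Matrix.permMatrixHom_apply] at h2
    unfold Equiv.Perm.permMatrix at h2
    rw [PEquiv.toMatrix_apply, PEquiv.toMatrix_apply] at h2
    simp only [Equiv.toPEquiv_apply, Option.mem_def, Option.some.injEq, if_true] at h2
    by_contra hne
    rw [if_neg (fun h' => hne h'.symm)] at h2
    exact one_ne_zero h2
  exact inv_injective h1

/-- the alternating group as permutation matrices -/
def altMat (n : ℕ) : alternatingGroup (Fin n) →* Matrix (Fin n) (Fin n) F :=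
  (Matrix.permMatrixHom (n := Fin n) (R := F)).comp (alternatingGroup (Fin n)).subtype

theorem altMat_apply (n : ℕ) (σ : alternatingGroup (Fin n)) :
    altMat F n σ = ((σ : Equiv.Perm (Fin n))⁻¹).permMatrix F := rfl

theorem altMat_injective (n : ℕ) : Function.Injective (altMat F n) := by
  intro a b h
  exact Subtype.ext (permMatrixHom_injective F h)

theorem det_altMat (n : ℕ) (σ : alternatingGroup (Fin n)) : (altMat F n σ).det = 1 := by
  rw [altMat_apply, Matrix.det_permutation, map_inv]
  have := σ.2
  rw [Equiv.Perm.mem_alternatingGroup] at this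
  rw [this]
  simp

end perm

section sl2

variable (F : Type*) [Field F]

/-- `SL_2` in the upper left corner -/
def sl2Mat (k : ℕ) : Matrix.SpecialLinearGroup (Fin 2) F →*
    Matrix (Fin (2 + k)) (Fin (2 + k)) F :=
  (reindexHom F finSumFinEquiv).comp ((extL F (Fin 2) (Fin k)).comp (Cfsg.slToMat 2 F))

theorem slToMat_apply (n : ℕ) (g : Matrix.SpecialLinearGroup (Fin n) F) :
    Cfsg.slToMat n F g = (g : Matrix (Fin n) (Fin n) F) := rfl

theorem slToMat_injective (n : ℕ) : Function.Injective (Cfsg.slToMat n F) := by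
  intro a b h
  exact Subtype.ext h

theorem sl2Mat_injective (k : ℕ) : Function.Injective (sl2Mat F k) := by
  unfold sl2Mat
  rw [MonoidHom.coe_comp, MonoidHom.coe_comp]
  exact (reindexHom_injective F _).comp ((extL_injective F _ _).comp (slToMat_injective F 2))

theorem det_sl2Mat (k : ℕ) (g : Matrix.SpecialLinearGroup (Fin 2) F) :
    (sl2Mat F k g).det = 1 := by
  unfold sl2Mat
  rw [MonoidHom.comp_apply, MonoidHom.comp_apply, det_reindexHom, det_extL, slToMat_apply]
  exact g.2

end sl2

end LawFin
end Cfsg.Agent.Helper12
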