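import Mathlib
import Cfsg.Agent.Lib.Helper12.LawBigB
import Cfsg.Agent.Lib.Helper12.LawMatA

/-!
# Laws in the classical groups: linear, symplectic and orthogonal groups (helper12)
-/

set_option autoImplicit false

namespace Cfsg.Agent.Helper12
namespace LawFin

open Matrix

section linear

variable {w : FreeGroup ℕ} (F : Type*) [Field F]

theorem big_SL_of_alt (n : ℕ) (h : Big w (alternatingGroup (Fin n))) :
    Big w (Matrix.SpecialLinearGroup (Fin n) F) :=
  Big.of_injective (toSL (altMat F n) (det_altMat F n))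
    (toSL_injective _ _ (altMat_injective F n)) h

theorem big_SL_of_sl2 (k : ℕ) (h : Big w (Matrix.SpecialLinearGroup (Fin 2) F)) :
    Big w (Matrix.SpecialLinearGroup (Fin (2 + k)) F) :=
  Big.of_injective (toSL (sl2Mat F k) (det_sl2Mat F k))
    (toSL_injective _ _ (sl2Mat_injective F k)) h

/-- the alternating group in `GL_n` -/
def altGL (n : ℕ) : alternatingGroup (Fin n) →* GL (Fin n) F := (altMat F n).toHomUnits

theorem altGL_injective (n : ℕ) : Function.Injective (altGL F n) :=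
  toHomUnits_injective _ (altMat_injective F n)

/-- `SL_2` in `GL_n` -/
def sl2GL (k : ℕ) : Matrix.SpecialLinearGroup (Fin 2) F →* GL (Fin (2 + k)) F :=
  (sl2Mat F k).toHomUnits

theorem sl2GL_injective (k : ℕ) : Function.Injective (sl2GL F k) :=
  toHomUnits_injective _ (sl2Mat_injective F k)

theorem big_GL_of_alt (n : ℕ) (h : Big w (alternatingGroup (Fin n))) : Big w (GL (Fin n) F) :=
  Big.of_injective (altGL F n) (altGL_injective F n) h

theorem big_GL_of_sl2 (k : ℕ) (h : Big w (Matrix.SpecialLinearGroup (Fin 2) F)) :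
    Big w (GL (Fin (2 + k)) F) :=
  Big.of_injective (sl2GL F k) (sl2GL_injective F k) h

end linear

section symplectic

variable {w : FreeGroup ℕ} (F : Type*) [Field F] (κ : Type*) [Fintype κ] [DecidableEq κ]

theorem hypHom_mem_symplectic (g : GL κ F) : hypHom F κ g ∈ Matrix.symplecticGroup κ F := by
  rw [SymplecticGroup.mem_iff, hypHom_apply, Matrix.J, Matrix.fromBlocks_transpose,
    Matrix.fromBlocks_multiply, Matrix.fromBlocks_multiply]
  have h1 : (g : Matrix κ κ F) * ((g⁻¹ : GL κ F) : Matrix κ κ F) = 1 := by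
    rw [← Units.val_mul, mul_inv_cancel, Units.val_one]
  have h2 : ((g⁻¹ : GL κ F) : Matrix κ κ F)ᵀ * (g : Matrix κ κ F)ᵀ = 1 := by
    rw [← Matrix.transpose_mul, h1, Matrix.transpose_one]
  simp only [Matrix.mul_zero, Matrix.zero_mul, zero_add, add_zero, Matrix.mul_one, Matrix.mul_neg,
    Matrix.neg_mul, Matrix.transpose_transpose, Matrix.transpose_zero, h1, h2, neg_zero]

/-- `GL_m` in `Sp_2m` -/
def hypSp : GL κ F →* Matrix.symplecticGroup κ F :=
  (hypHom F κ).codRestrict (Matrix.symplecticGroup κ F) (hypHom_mem_symplectic F κ)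

theorem hypSp_injective : Function.Injective (hypSp F κ) := by
  intro a b hab
  apply hypHom_injective F κ
  exact congrArg Subtype.val hab

theorem big_Sp_of_GL (h : Big w (GL κ F)) : Big w (Matrix.symplecticGroup κ F) :=
  Big.of_injective (hypSp F κ) (hypSp_injective F κ) h

end symplectic

section orthogonal

variable {w : FreeGroup ℕ} {F : Type*} [Field F]

/-- a representation by isometries as a map to the isometry group -/
def toIso {H : Type*} [Group H] {ι : Type} [Fintype ι] [DecidableEq ι] (Q : (ι → F) → F)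
    (ρ : H →* Matrix ι ι F) (hQ : ∀ h v, Q (ρ h *ᵥ v) = Q v) : H →* Cfsg.isometryGroup F Q :=
  ρ.toHomUnits.codRestrict (Cfsg.isometryGroup F Q) (fun h u _ => hQ h u)

theorem toIso_injective {H : Type*} [Group H] {ι : Type} [Fintype ι] [DecidableEq ι]
    (Q : (ι → F) → F) (ρ : H →* Matrix ι ι F) (hQ : ∀ h v, Q (ρ h *ᵥ v) = Q v)
    (hρ : Function.Injective ρ) : Function.Injective (toIso Q ρ hQ) := by
  intro a b hab
  apply toHomUnits_injective ρ hρ
  exact congrArg Subtype.val hab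

/-- perfect groups of isometries give non-central values in `Ω` -/
theorem big_Omega {H : Type*} [Group H] {ι : Type} [Fintype ι] [DecidableEq ι] (Q : (ι → F) → F)
    (ρ : H →* Matrix ι ι F) (hQ : ∀ h v, Q (ρ h *ᵥ v) = Q v)
    (hρ : Function.Injective ρ) (hH : commutator H = ⊤) (h : Big w H) :
    Big w (Cfsg.Omega F Q) :=
  Big.of_perfect (toIso Q ρ hQ) (toIso_injective Q ρ hQ hρ) hH h

/-- block sums of isometries -/
theorem pres_fromBlocks {α β : Type*} [Fintype α] [Fintype β] [DecidableEq α] [DecidableEq β]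
    {Q1 : (α → F) → F} {Q2 : (β → F) → F} {Q : (α ⊕ β → F) → F}
    (hQ : ∀ v, Q v = Q1 (v ∘ Sum.inl) + Q2 (v ∘ Sum.inr)) {A : Matrix α α F} {B : Matrix β β F}
    (hA : ∀ v, Q1 (A *ᵥ v) = Q1 v) (hB : ∀ v, Q2 (B *ᵥ v) = Q2 v) (v : α ⊕ β → F) :
    Q (Matrix.fromBlocks A 0 0 B *ᵥ v) = Q v := by
  rw [hQ, hQ v, Matrix.fromBlocks_mulVec]
  have h1 : (Sum.elim (A *ᵥ (v ∘ Sum.inl) + (0 : Matrix α β F) *ᵥ (v ∘ Sum.inr))
      ((0 : Matrix β α F) *ᵥ (v ∘ Sum.inl) + B *ᵥ (v ∘ Sum.inr))) ∘ Sum.inl =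
      A *ᵥ (v ∘ Sum.inl) := by
    funext i
    simp
  have h2 : (Sum.elim (A *ᵥ (v ∘ Sum.inl) + (0 : Matrix α β F) *ᵥ (v ∘ Sum.inr))
      ((0 : Matrix β α F) *ᵥ (v ∘ Sum.inl) + B *ᵥ (v ∘ Sum.inr))) ∘ Sum.inr =
      B *ᵥ (v ∘ Sum.inr) := by
    funext i
    simp
  rw [h1, h2, hA, hB]

/-- the hyperbolic form -/
theorem quadFormPlus_eq (m : ℕ) (v : Fin m ⊕ Fin m → F) :
    Cfsg.quadFormPlus m F v = (v ∘ Sum.inl) ⬝ᵥ (v ∘ Sum.inr) := rfl

theorem pres_hyp (m : ℕ) (g : GL (Fin m) F) (v : Fin m ⊕ Fin m → F) :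
    Cfsg.quadFormPlus m F (hypHom F (Fin m) g *ᵥ v) = Cfsg.quadFormPlus m F v := by
  rw [quadFormPlus_eq, quadFormPlus_eq, hypHom_apply, Matrix.fromBlocks_mulVec]
  have h1 : (Sum.elim ((g : Matrix (Fin m) (Fin m) F) *ᵥ (v ∘ Sum.inl) +
      (0 : Matrix (Fin m) (Fin m) F) *ᵥ (v ∘ Sum.inr))
      ((0 : Matrix (Fin m) (Fin m) F) *ᵥ (v ∘ Sum.inl) +
        ((g⁻¹ : GL (Fin m) F) : Matrix (Fin m) (Fin m) F)ᵀ *ᵥ (v ∘ Sum.inr))) ∘ Sum.inl =
      (g : Matrix (Fin m) (Fin m) F) *ᵥ (v ∘ Sum.inl) := by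
    funext i
    simp
  have h2 : (Sum.elim ((g : Matrix (Fin m) (Fin m) F) *ᵥ (v ∘ Sum.inl) +
      (0 : Matrix (Fin m) (Fin m) F) *ᵥ (v ∘ Sum.inr))
      ((0 : Matrix (Fin m) (Fin m) F) *ᵥ (v ∘ Sum.inl) +
        ((g⁻¹ : GL (Fin m) F) : Matrix (Fin m) (Fin m) F)ᵀ *ᵥ (v ∘ Sum.inr))) ∘ Sum.inr =
      ((g⁻¹ : GL (Fin m) F) : Matrix (Fin m) (Fin m) F)ᵀ *ᵥ (v ∘ Sum.inr) := by
    funext i
    simp
  rw [h1, h2, Matrix.mulVec_transpose, dotProduct_comm, Matrix.dotProduct_mulVec,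
    Matrix.vecMul_vecMul, ← Units.val_mul, inv_mul_cancel, Units.val_one, Matrix.vecMul_one,
    dotProduct_comm]

end orthogonal

end LawFin
end Cfsg.Agent.Helper12
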