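import Mathlib
import Cfsg.Agent.Lib.Helper12.LawFamA

/-!
# Laws in the classical groups: the three orthogonal families (helper12)
-/

set_option autoImplicit false

namespace Cfsg.Agent.Helper12
namespace LawFin

open Matrix

section orthogonal

variable {w : FreeGroup ℕ} {F : Type*} [Field F] {H : Type*} [Group H]

theorem big_OmegaPlus (m : ℕ) (φ : H →* GL (Fin m) F) (hφ : Function.Injective φ)
    (hH : commutator H = ⊤) (h : Big w H) : Big w (Cfsg.Omega F (Cfsg.quadFormPlus m F)) := by
  refine big_Omega (Cfsg.quadFormPlus m F) ((hypHom F (Fin m)).comp φ) ?_ ?_ hH h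
  · intro x v
    exact pres_hyp m (φ x) v
  · rw [MonoidHom.coe_comp]
    exact (hypHom_injective F (Fin m)).comp hφ

theorem big_OmegaOdd (m : ℕ) (φ : H →* GL (Fin m) F) (hφ : Function.Injective φ)
    (hH : commutator H = ⊤) (h : Big w H) : Big w (Cfsg.Omega F (Cfsg.quadFormOdd m F)) := by
  refine big_Omega (Cfsg.quadFormOdd m F)
    ((extR F Unit (Fin m ⊕ Fin m)).comp ((hypHom F (Fin m)).comp φ)) ?_ ?_ hH h
  · intro x v
    rw [MonoidHom.comp_apply, MonoidHom.comp_apply, extR_apply]
    refine pres_fromBlocks (Q1 := fun u : Unit → F => u () ^ 2)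
      (Q2 := Cfsg.quadFormPlus m F) (fun v => rfl) ?_ (pres_hyp m (φ x)) v
    intro u
    rw [Matrix.one_mulVec]
  · rw [MonoidHom.coe_comp, MonoidHom.coe_comp]
    exact (extR_injective F _ _).comp ((hypHom_injective F (Fin m)).comp hφ)

theorem big_OmegaMinus (m : ℕ) (a b : F) (φ : H →* GL (Fin m) F) (hφ : Function.Injective φ)
    (hH : commutator H = ⊤) (h : Big w H) :
    Big w (Cfsg.Omega F (Cfsg.quadFormMinus m F a b)) := by
  refine big_Omega (Cfsg.quadFormMinus m F a b)
    ((extL F (Fin m ⊕ Fin m) (Fin 2)).comp ((hypHom F (Fin m)).comp φ)) ?_ ?_ hH h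
  · intro x v
    rw [MonoidHom.comp_apply, MonoidHom.comp_apply, extL_apply]
    refine pres_fromBlocks (Q1 := Cfsg.quadFormPlus m F)
      (Q2 := fun u : Fin 2 → F => u 0 ^ 2 + a * u 0 * u 1 + b * u 1 ^ 2) (fun v => rfl)
      (pres_hyp m (φ x)) ?_ v
    intro u
    rw [Matrix.one_mulVec]
  · rw [MonoidHom.coe_comp, MonoidHom.coe_comp]
    exact (extL_injective F _ _).comp ((hypHom_injective F (Fin m)).comp hφ)

end orthogonal

end LawFin
end Cfsg.Agent.Helper12
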