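import Mathlib
import Cfsg.Agent.Lib.Helper12.LawFamA
import Cfsg.Agent.Lib.Helper11.Unitary

/-!
# Laws in the classical groups: the unitary groups (helper12)
-/

set_option autoImplicit false

namespace Cfsg.Agent.Helper12
namespace LawFin

open Matrix Cfsg.Agent.Helper11.Herm

section conj

variable {F : Type*} [Field F] {κ : Type*} [Fintype κ] [DecidableEq κ]

/-- conjugation by an invertible matrix -/
def conjHom (P Q : Matrix κ κ F) (hPQ : P * Q = 1) (hQP : Q * P = 1) :
    Matrix κ κ F →* Matrix κ κ F where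
  toFun A := P * A * Q
  map_one' := by rw [Matrix.mul_one, hPQ]
  map_mul' A B := by
    have : P * A * Q * (P * B * Q) = P * A * (Q * P) * B * Q := by
      simp only [Matrix.mul_assoc]
    rw [this, hQP, Matrix.mul_one, Matrix.mul_assoc P A B]

theorem conjHom_apply (P Q : Matrix κ κ F) (hPQ : P * Q = 1) (hQP : Q * P = 1)
    (A : Matrix κ κ F) : conjHom P Q hPQ hQP A = P * A * Q := rfl

theorem conjHom_injective (P Q : Matrix κ κ F) (hPQ : P * Q = 1) (hQP : Q * P = 1) :
    Function.Injective (conjHom P Q hPQ hQP) := by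
  intro A B h
  rw [conjHom_apply, conjHom_apply] at h
  have h1 : Q * (P * A * Q) * P = Q * (P * B * Q) * P := by rw [h]
  have h2 : ∀ C : Matrix κ κ F, Q * (P * C * Q) * P = (Q * P) * C * (Q * P) := by
    intro C
    simp only [Matrix.mul_assoc]
  rw [h2, h2, hQP, Matrix.one_mul, Matrix.mul_one, Matrix.one_mul, Matrix.mul_one] at h1
  exact h1

theorem det_conjHom (P Q : Matrix κ κ F) (hPQ : P * Q = 1) (hQP : Q * P = 1)
    (A : Matrix κ κ F) : (conjHom P Q hPQ hQP A).det = A.det := by
  rw [conjHom_apply, Matrix.det_mul, Matrix.det_mul]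
  have h1 : P.det * Q.det = 1 := by rw [← Matrix.det_mul, hPQ, Matrix.det_one]
  calc P.det * A.det * Q.det = (P.det * Q.det) * A.det := by ring
    _ = A.det := by rw [h1, one_mul]

end conj

section isU

variable {F : Type*} [Field F] (σ : F →+* F)

theorem isU_extL {κ κ' : Type*} [Fintype κ] [Fintype κ'] [DecidableEq κ] [DecidableEq κ']
    (A : Matrix κ κ F) (hA : IsU σ A) : IsU σ (extL F κ κ' A) := by
  unfold IsU at hA ⊢
  rw [extL_apply, Matrix.fromBlocks_transpose, Matrix.fromBlocks_map, Matrix.fromBlocks_multiply]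
  simp only [Matrix.transpose_one, Matrix.transpose_zero, Matrix.map_zero _ (map_zero σ),
    Matrix.map_one _ (map_zero σ) (map_one σ), Matrix.mul_one, Matrix.zero_mul, Matrix.mul_zero,
    add_zero, zero_add, hA]
  exact Matrix.fromBlocks_one

theorem isU_reindexHom {κ κ' : Type*} [Fintype κ] [Fintype κ'] [DecidableEq κ] [DecidableEq κ']
    (e : κ ≃ κ') (A : Matrix κ κ F) (hA : IsU σ A) : IsU σ (reindexHom F e A) := by
  unfold IsU at hA ⊢
  rw [reindexHom_apply, Matrix.reindex_apply, Matrix.transpose_submatrix, ← Matrix.submatrix_map,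
    Matrix.submatrix_mul_equiv, hA, Matrix.submatrix_one_equiv]

/-- the form `J` on the plane -/
def J2 (F : Type*) [Field F] : Matrix (Fin 2) (Fin 2) F := !![0, 1; -1, 0]

theorem transpose_mul_J2_mul (g : Matrix (Fin 2) (Fin 2) F) (hg : g.det = 1) :
    gᵀ * J2 F * g = J2 F := by
  rw [Matrix.det_fin_two] at hg
  unfold J2
  ext i j
  fin_cases i <;> fin_cases j
  · simp [Matrix.mul_apply, Fin.sum_univ_two]
    ring
  · simp [Matrix.mul_apply, Fin.sum_univ_two]
    linear_combination hg
  · simp [Matrix.mul_apply, Fin.sum_univ_two]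
    linear_combination -hg
  · simp [Matrix.mul_apply, Fin.sum_univ_two]
    ring

/-- the main computation: conjugates of `SL_2` over the fixed field are unitary -/
theorem isU_conj (P Q : Matrix (Fin 2) (Fin 2) F) (hPQ : P * Q = 1) (θ : F)
    (hP : Pᵀ * P.map σ = θ • J2 F) (g : Matrix (Fin 2) (Fin 2) F) (hdet : g.det = 1)
    (hg : g.map σ = g) : IsU σ (P * g * Q) := by
  unfold IsU
  have hR : P.map σ * Q.map σ = 1 := by
    rw [← Matrix.map_mul, hPQ, Matrix.map_one _ (map_zero σ) (map_one σ)]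
  have h1 : (P * g * Q).map σ = P.map σ * g * Q.map σ := by
    rw [Matrix.map_mul, Matrix.map_mul, hg]
  rw [h1, Matrix.transpose_mul, Matrix.transpose_mul]
  have h2 : Qᵀ * (gᵀ * Pᵀ) * (P.map σ * g * Q.map σ) =
      Qᵀ * (gᵀ * (Pᵀ * P.map σ) * g) * Q.map σ := by
    simp only [Matrix.mul_assoc]
  rw [h2, hP, Matrix.mul_smul, Matrix.smul_mul, transpose_mul_J2_mul g hdet, ← hP]
  have h3 : Qᵀ * (Pᵀ * P.map σ) * Q.map σ = (Qᵀ * Pᵀ) * (P.map σ * Q.map σ) := by
    simp only [Matrix.mul_assoc]
  rw [h3, hR, ← Matrix.transpose_mul, hPQ, Matrix.transpose_one, Matrix.mul_one]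

end isU

end LawFin
end Cfsg.Agent.Helper12
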