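import Mathlib
import Cfsg.Agent.Lib.Helper12.LawFamU

/-!
# Laws in the classical groups: the unitary groups, second part (helper12)
-/

set_option autoImplicit false

namespace Cfsg.Agent.Helper12
namespace LawFin

open Matrix Cfsg.Agent.Helper11.Herm Cfsg.Agent.S2353

section field

variable {F : Type*} [Field F] [Fintype F] {q : ℕ}

theorem exists_not_fixed (hF : Fintype.card F = q ^ 2) : ∃ ω : F, ω ^ q ≠ ω := by
  by_contra hcon
  push Not at hcon
  have hq := two_le_q hF
  have h1 := card_fixed_ne_zero hF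
  have h2 := card_units_eq hF
  have hinj : Function.Injective (fun u : Fˣ => (⟨(u : F), u.ne_zero, hcon _⟩ :
      {c : F // c ≠ 0 ∧ c ^ q = c})) := by
    intro a b hab
    apply Units.ext
    exact congrArg (fun x : {c : F // c ≠ 0 ∧ c ^ q = c} => (x : F)) hab
  have h3 := Nat.card_le_card_of_injective _ hinj
  rw [h1, h2] at h3
  have : q < q ^ 2 := by nlinarith
  omega

/-- the change of basis to a hyperbolic pair -/
theorem exists_P (hF : Fintype.card F = q ^ 2) (σ : F →+* F) (hσ : ∀ x, σ x = x ^ q) :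
    ∃ (P Q : Matrix (Fin 2) (Fin 2) F) (θ : F), P * Q = 1 ∧ Q * P = 1 ∧
      Pᵀ * P.map σ = θ • J2 F := by
  obtain ⟨ω, hω⟩ := exists_not_fixed hF
  have hneg : (-1 : F) ^ q = -1 := by rw [neg_pow_q hF, one_pow]
  obtain ⟨μ, hμ0, hμ⟩ := exists_norm_eq hF (-1 : F) (neg_ne_zero.2 one_ne_zero) hneg
  rw [← hσ] at hμ hω
  have hσσ : σ (σ ω) = ω := frob_frob hF σ hσ ω
  have hdet : (!![1, ω; μ, μ * σ ω] : Matrix (Fin 2) (Fin 2) F).det ≠ 0 := by
    rw [Matrix.det_fin_two_of]
    have : 1 * (μ * σ ω) - ω * μ = μ * (σ ω - ω) := by ring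
    rw [this]
    exact mul_ne_zero hμ0 (sub_ne_zero.2 hω)
  have hunit : IsUnit (!![1, ω; μ, μ * σ ω] : Matrix (Fin 2) (Fin 2) F).det :=
    isUnit_iff_ne_zero.2 hdet
  refine ⟨!![1, ω; μ, μ * σ ω], (!![1, ω; μ, μ * σ ω] : Matrix (Fin 2) (Fin 2) F)⁻¹, σ ω - ω,
    Matrix.mul_nonsing_inv _ hunit, Matrix.nonsing_inv_mul _ hunit, ?_⟩
  unfold J2
  ext i j
  fin_cases i <;> fin_cases j
  · simp [Matrix.mul_apply, Fin.sum_univ_two]
    linear_combination hμ
  · simp [Matrix.mul_apply, Fin.sum_univ_two]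
    rw [hσσ]
    linear_combination ω * hμ
  · simp [Matrix.mul_apply, Fin.sum_univ_two]
    linear_combination (σ ω) * hμ
  · simp [Matrix.mul_apply, Fin.sum_univ_two]
    rw [hσσ]
    linear_combination (ω * σ ω) * hμ

end field

section fix

variable {F : Type*} [Field F] (σ : F →+* F)

/-- the matrices over the fixed field -/
def fixSL : Subgroup (Matrix.SpecialLinearGroup (Fin 2) F) :=
  (Matrix.SpecialLinearGroup.map σ).eqLocus (MonoidHom.id _)

theorem mem_fixSL_iff (g : Matrix.SpecialLinearGroup (Fin 2) F) :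
    g ∈ fixSL σ ↔ (g : Matrix (Fin 2) (Fin 2) F).map σ = (g : Matrix (Fin 2) (Fin 2) F) := by
  unfold fixSL
  change Matrix.SpecialLinearGroup.map σ g = g ↔ _
  constructor
  · intro h
    have := congrArg (fun x : Matrix.SpecialLinearGroup (Fin 2) F =>
      (x : Matrix (Fin 2) (Fin 2) F)) h
    exact this
  · intro h
    exact Subtype.ext h

theorem genAt_mem_fixSL (t : F) (ht : σ t = t) (i : ℕ) : genAt t i ∈ fixSL σ := by
  rw [mem_fixSL_iff, genAt_coe]
  ext a b
  fin_cases a <;> fin_cases b <;> simp [ht]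

theorem x1_mem_fixSL : x1 F ∈ fixSL σ := by
  rw [mem_fixSL_iff, x1_coe]
  ext a b
  fin_cases a <;> fin_cases b <;> simp

end fix

section big

variable {F : Type*} [Field F] [Fintype F] {q : ℕ}

theorem big_fixSL (hF : Fintype.card F = q ^ 2) (σ : F →+* F) (hσ : ∀ x, σ x = x ^ q)
    (w : FreeGroup ℕ) (hw : w ≠ 1) (hq : bound w.toWord + 2 ≤ q) : Big w (fixSL σ) := by
  classical
  refine big_sub w hw (fixSL σ) (Finset.univ.filter (fun c : F => c ≠ 0 ∧ c ^ q = c)) ?_ ?_
    (x1_mem_fixSL σ)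
  · have h1 := card_fixed_ne_zero hF
    rw [Nat.card_eq_fintype_card, Fintype.card_subtype] at h1
    rw [h1]
    omega
  · intro t ht i
    rw [Finset.mem_filter] at ht
    exact genAt_mem_fixSL σ t (by rw [hσ]; exact ht.2.2) i

end big

end LawFin
end Cfsg.Agent.Helper12
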