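import Mathlib
import Cfsg.Agent.Lib.Helper12.LawFamV

/-!
# Laws in the classical groups: the unitary groups, third part (helper12)
-/

set_option autoImplicit false

namespace Cfsg.Agent.Helper12
namespace LawFin

open Matrix Cfsg.Agent.Helper11.Herm Cfsg.Agent.S2353

section su

variable {F : Type*} [Field F]

/-- the representation of `SL_2` on a hyperbolic plane inside the standard unitary space -/
def rhoU (P Q : Matrix (Fin 2) (Fin 2) F) (hPQ : P * Q = 1) (hQP : Q * P = 1) (k : ℕ) :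
    Matrix.SpecialLinearGroup (Fin 2) F →* Matrix (Fin (2 + k)) (Fin (2 + k)) F :=
  (reindexHom F finSumFinEquiv).comp ((extL F (Fin 2) (Fin k)).comp
    ((conjHom P Q hPQ hQP).comp (Cfsg.slToMat 2 F)))

theorem rhoU_apply (P Q : Matrix (Fin 2) (Fin 2) F) (hPQ : P * Q = 1) (hQP : Q * P = 1) (k : ℕ)
    (g : Matrix.SpecialLinearGroup (Fin 2) F) :
    rhoU P Q hPQ hQP k g = reindexHom F finSumFinEquiv (extL F (Fin 2) (Fin k)
      (P * (g : Matrix (Fin 2) (Fin 2) F) * Q)) := rfl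

theorem rhoU_injective (P Q : Matrix (Fin 2) (Fin 2) F) (hPQ : P * Q = 1) (hQP : Q * P = 1)
    (k : ℕ) : Function.Injective (rhoU P Q hPQ hQP k) := by
  unfold rhoU
  rw [MonoidHom.coe_comp, MonoidHom.coe_comp, MonoidHom.coe_comp]
  exact (reindexHom_injective F _).comp ((extL_injective F _ _).comp
    ((conjHom_injective P Q hPQ hQP).comp (slToMat_injective F 2)))

theorem det_rhoU (P Q : Matrix (Fin 2) (Fin 2) F) (hPQ : P * Q = 1) (hQP : Q * P = 1) (k : ℕ)
    (g : Matrix.SpecialLinearGroup (Fin 2) F) : (rhoU P Q hPQ hQP k g).det = 1 := by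
  rw [rhoU_apply, det_reindexHom, det_extL, ← conjHom_apply P Q hPQ hQP, det_conjHom]
  exact g.2

theorem isU_rhoU (σ : F →+* F) (P Q : Matrix (Fin 2) (Fin 2) F) (hPQ : P * Q = 1)
    (hQP : Q * P = 1) (θ : F) (hP : Pᵀ * P.map σ = θ • J2 F) (k : ℕ)
    (g : Matrix.SpecialLinearGroup (Fin 2) F) (hg : g ∈ fixSL σ) :
    IsU σ (rhoU P Q hPQ hQP k g) := by
  rw [rhoU_apply]
  apply isU_reindexHom
  apply isU_extL
  exact isU_conj σ P Q hPQ θ hP _ g.2 ((mem_fixSL_iff σ g).1 hg)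

variable [Fintype F] {q : ℕ}

theorem big_SU (hF : Fintype.card F = q ^ 2) (k : ℕ) (w : FreeGroup ℕ) (hw : w ≠ 1)
    (hq : bound w.toWord + 2 ≤ q) : Big w (Cfsg.SU (2 + k) F q) := by
  obtain ⟨σ, hσ⟩ := exists_frob hF
  obtain ⟨P, Q, θ, hPQ, hQP, hP⟩ := exists_P hF σ hσ
  let ψ : Matrix.SpecialLinearGroup (Fin 2) F →* Matrix.SpecialLinearGroup (Fin (2 + k)) F :=
    toSL (rhoU P Q hPQ hQP k) (det_rhoU P Q hPQ hQP k)
  have hψ : Function.Injective ψ := toSL_injective _ _ (rhoU_injective P Q hPQ hQP k)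
  have hmem : ∀ g : fixSL σ, (ψ.comp (fixSL σ).subtype) g ∈ Cfsg.SU (2 + k) F q := by
    intro g u v
    rw [hermForm_eq_hdot σ hσ, hermForm_eq_hdot σ hσ]
    exact IsU.hdot_mulVec σ (isU_rhoU σ P Q hPQ hQP θ hP k g.1 g.2) u v
  refine Big.of_injective ((ψ.comp (fixSL σ).subtype).codRestrict (Cfsg.SU (2 + k) F q) hmem) ?_
    (big_fixSL hF σ hσ w hw hq)
  intro a b hab
  apply Subtype.ext
  apply hψ
  exact congrArg Subtype.val hab

end su

end LawFin
end Cfsg.Agent.Helper12
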