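import Mathlib
import Cfsg.Agent.Lib.Helper12.LawFamW
import Cfsg.Agent.Lib.Helper12.LawFamB

/-!
# Laws in the classical groups: remaining pieces (helper12)
-/

set_option autoImplicit false

namespace Cfsg.Agent.Helper12
namespace LawFin

open Matrix Cfsg.Agent.Helper11.Herm Cfsg.Agent.S2353

section sualt

variable {w : FreeGroup ℕ} {F : Type*} [Field F]

theorem big_SU_of_alt (n q : ℕ) (h : Big w (alternatingGroup (Fin n))) :
    Big w (Cfsg.SU n F q) := by
  have hmem : ∀ g : alternatingGroup (Fin n),
      toSL (altMat F n) (det_altMat F n) g ∈ Cfsg.SU n F q := by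
    intro g u v
    change Cfsg.hermForm n F q (altMat F n g *ᵥ u) (altMat F n g *ᵥ v) = Cfsg.hermForm n F q u v
    rw [altMat_apply, Matrix.permMatrix_mulVec, Matrix.permMatrix_mulVec]
    unfold Cfsg.hermForm
    exact Equiv.sum_comp ((g : Equiv.Perm (Fin n))⁻¹) (fun i => u i * v i ^ q)
  refine Big.of_injective ((toSL (altMat F n) (det_altMat F n)).codRestrict (Cfsg.SU n F q) hmem)
    ?_ h
  intro a b hab
  apply toSL_injective _ _ (altMat_injective F n)
  exact congrArg Subtype.val hab

end sualt

section perfect

theorem commutator_alt_eq_top (n : ℕ) (hn : 5 ≤ n) :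
    commutator (alternatingGroup (Fin n)) = ⊤ := by
  apply commutator_alternatingGroup_eq_top
  rw [Nat.card_eq_fintype_card, Fintype.card_fin]
  exact hn

theorem commutator_sl2_eq_top (F : Type*) [Field F] [Fintype F] (hF : 4 ≤ Fintype.card F) :
    commutator (Matrix.SpecialLinearGroup (Fin 2) F) = ⊤ := by
  classical
  obtain ⟨a, -, ha⟩ := Finset.exists_mem_notMem_of_card_lt_card
    (s := ({0, 1, -1} : Finset F)) (t := Finset.univ) (by
      rw [Finset.card_univ]
      have h1 := Finset.card_insert_le (0 : F) {1, -1}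
      have h2 := Finset.card_insert_le (1 : F) {-1}
      rw [Finset.card_singleton] at h2
      omega)
  rw [Finset.mem_insert, Finset.mem_insert, Finset.mem_singleton] at ha
  push Not at ha
  exact Matrix.SL2.commutator_eq_top ha.1 (sq_ne_one_iff.2 ⟨ha.2.1, ha.2.2⟩)

end perfect

section card

variable {F : Type*} [Field F] [Fintype F]

theorem card_matrix_eq (ι : Type*) [Fintype ι] :
    Nat.card (Matrix ι ι F) = Fintype.card F ^ (Fintype.card ι * Fintype.card ι) := by
  change Nat.card (ι → ι → F) = _
  rw [Nat.card_fun, Nat.card_fun, Nat.card_eq_fintype_card, Nat.card_eq_fintype_card, ← pow_mul]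

/-- the order of a central quotient of a matrix group -/
theorem card_le_of_matrix {X : Type*} [Group X] {ι : Type*} [Fintype ι]
    (j : X → Matrix ι ι F) (hj : Function.Injective j) {G : Type*} [Group G]
    (e : G ≃* X ⧸ Subgroup.center X) :
    Nat.card G ≤ Fintype.card F ^ (Fintype.card ι * Fintype.card ι) := by
  haveI : Finite X := Finite.of_injective j hj
  rw [Nat.card_congr e.toEquiv, ← card_matrix_eq]
  refine le_trans (Nat.card_le_card_of_surjective _
    (QuotientGroup.mk'_surjective (Subgroup.center X))) ?_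
  exact Nat.card_le_card_of_injective j hj

theorem card_bound {a A d D : ℕ} (ha : a ≤ A) (hd : d ≤ D) (h1 : 1 ≤ a) :
    a ^ (d * d) ≤ A ^ (D * D) :=
  le_trans (Nat.pow_le_pow_right h1 (Nat.mul_le_mul hd hd)) (Nat.pow_le_pow_left ha _)

end card

section inj

variable {F : Type*} [Field F]

theorem omega_val_injective {ι : Type} [Fintype ι] [DecidableEq ι] (Q : (ι → F) → F) :
    Function.Injective (fun g : Cfsg.Omega F Q =>
      (((g : Cfsg.isometryGroup F Q) : GL ι F) : Matrix ι ι F)) := by
  intro a b hab
  apply Subtype.ext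
  apply Subtype.ext
  exact Units.ext hab

theorem su_val_injective (n q : ℕ) :
    Function.Injective (fun g : Cfsg.SU n F q =>
      ((g : Matrix.SpecialLinearGroup (Fin n) F) : Matrix (Fin n) (Fin n) F)) := by
  intro a b hab
  apply Subtype.ext
  exact Subtype.ext hab

end inj

end LawFin
end Cfsg.Agent.Helper12
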