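import Mathlib

/-!
# S0420 piece SIGN (helper12): a simple group of order 7920 acts on 12 points by even permutations.
-/

set_option autoImplicit false
set_option linter.unusedSectionVars false
set_option linter.unusedVariables false

namespace Cfsg.Agent.Helper27.M11U

universe u v

section Abstract

variable {G : Type u} [Group G] [Fintype G]

/-- PIECE SIGN: every permutation representation of `G` is by even permutations. -/
theorem sign_trivial (hs : IsSimpleGroup G) (hG : Nat.card G = 7920)
    (φ : G →* Equiv.Perm (Fin 12)) (g : G) : Equiv.Perm.sign (φ g) = 1 := by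
  classical
  let ψ : G →* ℤˣ := (Equiv.Perm.sign : Equiv.Perm (Fin 12) →* ℤˣ).comp φ
  have hker : ψ.ker = ⊥ ∨ ψ.ker = ⊤ := hs.eq_bot_or_eq_top_of_normal ψ.ker inferInstance
  rcases hker with h | h
  · exfalso
    have hinj : Function.Injective ψ := (MonoidHom.ker_eq_bot_iff ψ).1 h
    have hle : Nat.card G ≤ Nat.card ℤˣ := Nat.card_le_card_of_injective ψ hinj
    have h2 : Nat.card ℤˣ = 2 := by
      rw [Nat.card_eq_fintype_card]; rfl
    omega
  · have : g ∈ ψ.ker := by rw [h]; trivial
    exact this

end Abstract

end Cfsg.Agent.Helper27.M11U
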