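import Mathlib
import Cfsg.Agent.Lib.Helper3.M24IdxDefs

/-!
# S1589 (helper3 farm-out) PIECE IDX-BLK3 (helper12): `block3_false`.
A transitive subgroup `K` of the group of the code whose point stabilizer `K_x` preserves a pair
`{a, b}` cannot have `5 * 7 ∣ |K_x|`: `T = {x, a, b}` is the fixed set of every element of order
seven of `K_x`, hence a block; an element of order five of `K_x` fixes `T` and a fourth point `u`,
preserves the block of `u` (three points), so fixes it pointwise: six fixed points.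
-/

set_option autoImplicit false
open Cfsg

namespace Cfsg.Agent.Helper3.M24Idx

open Cfsg.Agent.Helper27 Cfsg.Agent.Helper29 Cfsg.Agent.Helper29.M24
open Cfsg.Agent.Helper29.M23Idx
open Cfsg.Agent.Helper29.FusM23 (Q23)
open Cfsg.Agent.Helper29.IdxTools
open Cfsg.Agent.S0358 (idx)
open scoped Pointwise

/-- an element of prime order `p` preserving a set with fewer than `p` points fixes it pointwise -/
theorem m24idx_blk3_subset_fixF (t : Equiv.Perm GolayPt) (p : ℕ) (hp : p.Prime) (ht : t ^ p = 1)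
    (D : Finset GolayPt) (hD : t • D = D) (hlt : D.card < p) : D ⊆ fixF t := by
  classical
  have h1 := card_inv_modEq t p hp ht D hD
  have h2 : (D ∩ fixF t).card ≤ D.card := Finset.card_le_card Finset.inter_subset_left
  have h3 : D.card = (D ∩ fixF t).card := by
    have := Nat.ModEq.eq_of_lt_of_lt h1 hlt (lt_of_le_of_lt h2 hlt)
    exact this
  have h4 : D ∩ fixF t = D :=
    Finset.eq_of_subset_of_card_le Finset.inter_subset_left (le_of_eq h3)
  intro q hq
  rw [← h4] at hq
  exact (Finset.mem_inter.1 hq).2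

/-- an element of `K_x` of prime order `p ≥ 5` fixes `x`, `a`, `b` -/
theorem m24idx_blk3_T_subset (K : Subgroup (Equiv.Perm GolayPt))
    (x a b : GolayPt)
    (hstab : ∀ g ∈ K, g x = x → g • ({a, b} : Finset GolayPt) = {a, b})
    (t : Equiv.Perm GolayPt) (htK : t ∈ stabIn K x) (p : ℕ) (hp : p.Prime) (hp3 : 3 ≤ p)
    (ht : orderOf t = p) : ({x, a, b} : Finset GolayPt) ⊆ fixF t := by
  classical
  obtain ⟨h1, h2⟩ := (mem_stabIn K x t).1 htK
  have hpow : t ^ p = 1 := by rw [← ht]; exact pow_orderOf_eq_one t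
  have h3 : ({a, b} : Finset GolayPt) ⊆ fixF t := by
    apply m24idx_blk3_subset_fixF t p hp hpow _ (hstab t h1 h2)
    exact lt_of_le_of_lt (Finset.card_le_two) (by omega)
  intro q hq
  rw [Finset.mem_insert] at hq
  rcases hq with rfl | hq
  · exact (mem_fixF t q).2 h2
  · exact h3 hq

/-- IDX-BLK3 -/
theorem block3_false (K : Subgroup (Equiv.Perm GolayPt)) (hKM : K ≤ Cfsg.M24) (htr : IsTrans K)
    (x a b : GolayPt) (hxa : x ≠ a) (hxb : x ≠ b) (hab : a ≠ b)
    (hstab : ∀ g ∈ K, g x = x → g • ({a, b} : Finset GolayPt) = {a, b})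
    (hF5 : ∀ t ∈ Cfsg.M24, orderOf t = 5 → (fixF t).card = 4)
    (hF7 : ∀ t ∈ Cfsg.M24, orderOf t = 7 → (fixF t).card = 3)
    (h5 : 5 ∣ Nat.card (stabIn K x)) (h7 : 7 ∣ Nat.card (stabIn K x)) : False := by
  classical
  set T : Finset GolayPt := {x, a, b} with hT
  have hTcard : T.card = 3 := by
    rw [hT, Finset.card_insert_of_notMem, Finset.card_insert_of_notMem, Finset.card_singleton]
    · simpa using hab
    · simp [hxa, hxb]
  have hxT : x ∈ T := by rw [hT]; simp
  -- every element of order seven of `K_x` has fixed set `T`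
  have hfix7 : ∀ t ∈ stabIn K x, orderOf t = 7 → fixF t = T := by
    intro t htK ht
    have hsub := m24idx_blk3_T_subset K x a b hstab t htK 7 (by norm_num) (by norm_num) ht
    have hc := hF7 t (hKM ((mem_stabIn K x t).1 htK).1) ht
    symm
    exact Finset.eq_of_subset_of_card_le hsub (by rw [hc, hTcard])
  obtain ⟨τ, hτK, hτ7⟩ := exists_orderOf_eq (stabIn K x) 7 (by norm_num) h7
  have hτT : fixF τ = T := hfix7 τ hτK hτ7
  -- `T` is a block
  have hblock : ∀ k ∈ K, k x ∈ T → k • T = T := by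
    intro k hk hkx
    have hτw : τ (k x) = k x := by
      rw [← mem_fixF, hτT]; exact hkx
    have hmem : k⁻¹ * τ * k ∈ stabIn K x := by
      rw [mem_stabIn]
      refine ⟨K.mul_mem (K.mul_mem (K.inv_mem hk) ((mem_stabIn K x τ).1 hτK).1) hk, ?_⟩
      rw [Equiv.Perm.mul_apply, Equiv.Perm.mul_apply, hτw]
      simp
    have hord : orderOf (k⁻¹ * τ * k) = 7 := by
      have := MulEquiv.orderOf_eq (MulAut.conj k⁻¹) τ
      rw [MulAut.conj_apply, inv_inv] at this
      rw [this]; exact hτ7
    have h1 := hfix7 _ hmem hord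
    have h2 : fixF (k⁻¹ * τ * k) = k⁻¹ • fixF τ := by
      have := fixF_conj k⁻¹ τ
      rwa [inv_inv] at this
    rw [h2, hτT] at h1
    -- `k⁻¹ • T = T`
    calc k • T = k • (k⁻¹ • T) := by rw [h1]
      _ = T := by rw [smul_inv_smul]
  have hblock2 : ∀ k ∈ K, ∀ k' ∈ K, k' x ∈ k • T → k' • T = k • T := by
    intro k hk k' hk' hmem
    have h1 : (k⁻¹ * k') x ∈ T := by
      rw [Equiv.Perm.mul_apply]
      have := Finset.inv_smul_mem_iff.2 hmem
      exact this
    have h2 := hblock (k⁻¹ * k') (K.mul_mem (K.inv_mem hk) hk') h1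
    calc k' • T = k • ((k⁻¹ * k') • T) := by rw [← mul_smul, mul_inv_cancel_left]
      _ = k • T := by rw [h2]
  -- an element of order five of `K_x`
  obtain ⟨ρ, hρK, hρ5⟩ := exists_orderOf_eq (stabIn K x) 5 (by norm_num) h5
  obtain ⟨hρK', hρx⟩ := (mem_stabIn K x ρ).1 hρK
  have hρT := m24idx_blk3_T_subset K x a b hstab ρ hρK 5 (by norm_num) (by norm_num) hρ5
  have hρc := hF5 ρ (hKM hρK') hρ5
  have hρpow : ρ ^ 5 = 1 := by rw [← hρ5]; exact pow_orderOf_eq_one ρ
  -- a fourth fixed point
  obtain ⟨u, huF, huT⟩ : ∃ u ∈ fixF ρ, u ∉ T := by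
    by_contra hcon
    push Not at hcon
    have : fixF ρ ⊆ T := fun q hq => hcon q hq
    have := Finset.card_le_card this
    omega
  obtain ⟨k, hk, hku⟩ := htr x u
  have huB : u ∈ k • T := by
    rw [← hku]; exact Finset.smul_mem_smul_finset hxT
  have hρu : ρ u = u := (mem_fixF ρ u).1 huF
  have hρB : ρ • (k • T) = k • T := by
    have h1 : (ρ * k) x ∈ k • T := by
      rw [Equiv.Perm.mul_apply, hku, hρu]; exact huB
    have h2 := hblock2 k hk (ρ * k) (K.mul_mem hρK' hk) h1
    rw [← mul_smul]; exact h2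
  have hBcard : (k • T).card = 3 := by rw [Finset.card_smul_finset, hTcard]
  have hBfix : k • T ⊆ fixF ρ :=
    m24idx_blk3_subset_fixF ρ 5 (by norm_num) hρpow _ hρB (by rw [hBcard]; norm_num)
  have hdisj : Disjoint T (k • T) := by
    rw [Finset.disjoint_left]
    intro w hwT hwB
    obtain ⟨k'', hk'', hk''w⟩ := htr x w
    have e1 : k'' • T = T := hblock k'' hk'' (by rw [hk''w]; exact hwT)
    have e2 : k'' • T = k • T := hblock2 k hk k'' hk'' (by rw [hk''w]; exact hwB)
    apply huT
    rw [← e1, e2]; exact huB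
  have hunion : T ∪ k • T ⊆ fixF ρ := Finset.union_subset hρT hBfix
  have := Finset.card_le_card hunion
  rw [Finset.card_union_of_disjoint hdisj, hTcard, hBcard, hρc] at this
  omega

end Cfsg.Agent.Helper3.M24Idx
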