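import Mathlib
import Cfsg.Agent.Lib.Helper26.MHDefs
import Cfsg.Agent.Lib.Helper26.MHBasic
import Cfsg.Agent.Lib.Helper1.MHWITT

/-!
# S4221 (M. Hall) piece P3A5: Case A with 5 fixed points is impossible (helper12)

Paper proof: `plans/S4221_proof.md`, section 4, case A5.
-/

set_option autoImplicit false
set_option linter.unusedSectionVars false

namespace Cfsg.Agent.Helper26.MH

open MulAction Cfsg.Agent.Helper22.SharpFour

variable {G : Type*} [Group G] [Finite G] {α : Type*} [Fintype α] [DecidableEq α] [MulAction G α]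

namespace P3A5

/-- the cardinality of the fixed-point set of a subgroup as a finset cardinality -/
theorem card_Phi_finset (K : Subgroup G) (S : Finset α) (hS : ∀ x, x ∈ S ↔ x ∈ Phi α K) :
    Nat.card (Phi α K) = S.card := by
  classical
  rw [Nat.card_eq_fintype_card]
  exact Fintype.card_of_subtype S hS

/-- a finset of points of `Phi α K` has at most `Nat.card (Phi α K)` elements -/
theorem card_le_card_Phi (K : Subgroup G) (T : Finset α) (hT : ∀ x ∈ T, x ∈ Phi α K) :
    T.card ≤ Nat.card (Phi α K) := by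
  classical
  rw [card_Phi_finset K (Finset.univ.filter (fun x => x ∈ Phi α K)) (by simp)]
  apply Finset.card_le_card
  intro x hx
  simp only [Finset.mem_filter, Finset.mem_univ, true_and]
  exact hT x hx

/-- the fixed points of an element with exactly three fixed points -/
theorem fix_mem {t : G} (h3 : (fixF α t).card = 3) {f₁ f₂ f₃ x : α} (h12 : f₁ ≠ f₂) (h13 : f₁ ≠ f₃)
    (h23 : f₂ ≠ f₃) (hf₁ : t • f₁ = f₁) (hf₂ : t • f₂ = f₂) (hf₃ : t • f₃ = f₃) (hx : t • x = x) :
    x = f₁ ∨ x = f₂ ∨ x = f₃ := by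
  have hsub : ({f₁, f₂, f₃} : Finset α) ⊆ fixF α t := by
    intro y hy
    simp only [Finset.mem_insert, Finset.mem_singleton] at hy
    rw [mem_fixF]
    rcases hy with rfl | rfl | rfl <;> assumption
  have hcard : ({f₁, f₂, f₃} : Finset α).card = 3 := by
    rw [Finset.card_insert_of_notMem, Finset.card_insert_of_notMem, Finset.card_singleton]
    · simpa using h23
    · simp only [Finset.mem_insert, Finset.mem_singleton, not_or]
      exact ⟨h12, h13⟩
  have heq : ({f₁, f₂, f₃} : Finset α) = fixF α t :=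
    Finset.eq_of_subset_of_card_le hsub (by rw [hcard, h3])
  have hx' : x ∈ fixF α t := mem_fixF.mpr hx
  rw [← heq] at hx'
  simpa using hx'

/-- the block of `{f₁,f₂,f₃,x}` contains `t • x` when all blocks have 5 points -/
theorem smul_mem_block (h : Hall G α) (hphi : ∀ t : G, IsInv t → (fixF α t).card = 3)
    (h5 : ∀ p q r s : α, D4 p q r s → Nat.card (Phi α (St4 G p q r s)) = 5)
    {t : G} (ht : IsInv t) {f₁ f₂ f₃ x : α} (h12 : f₁ ≠ f₂) (h13 : f₁ ≠ f₃) (h23 : f₂ ≠ f₃)
    (hf₁ : t • f₁ = f₁) (hf₂ : t • f₂ = f₂) (hf₃ : t • f₃ = f₃) (hx : t • x ≠ x) :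
    D4 f₁ f₂ f₃ x ∧ t • x ∈ Phi α (St4 G f₁ f₂ f₃ x) := by
  classical
  have hx1 : x ≠ f₁ := fun e => hx (by rw [e]; exact hf₁)
  have hx2 : x ≠ f₂ := fun e => hx (by rw [e]; exact hf₂)
  have hx3 : x ≠ f₃ := fun e => hx (by rw [e]; exact hf₃)
  have htx1 : t • x ≠ f₁ := fun e => hx1 (by rw [← ht.smul_eq_iff.mp e]; exact hf₁)
  have htx2 : t • x ≠ f₂ := fun e => hx2 (by rw [← ht.smul_eq_iff.mp e]; exact hf₂)
  have hd : D4 x (t • x) f₁ f₂ := ⟨fun e => hx e.symm, hx1, hx2, htx1, htx2, h12⟩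
  have hd' : D4 f₁ f₂ f₃ x := ⟨h12, h13, hx1.symm, h23, hx2.symm, hx3.symm⟩
  refine ⟨hd', ?_⟩
  have hA : TyA t x (t • x) f₁ f₂ := ⟨rfl, ht.smul_smul x, hf₁, hf₂⟩
  have hN := hA.mem_normalizer ht
  set K := St4 G x (t • x) f₁ f₂ with hK
  set S : Finset α := Finset.univ.filter (fun y => y ∈ Phi α K) with hS
  have hSmem : ∀ y, y ∈ S ↔ y ∈ Phi α K := by simp [hS]
  have hScard : S.card = 5 := by
    rw [← card_Phi_finset K S hSmem]
    exact h5 _ _ _ _ hd
  have hinv : ∀ y ∈ S, t • y ∈ S := fun y hy => (hSmem _).mpr (smul_mem_Phi hN ((hSmem _).mp hy))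
  have hpar := card_mod_two_of_invol ht.1 S hinv
  rw [hScard] at hpar
  obtain ⟨m1, m2, m3, m4⟩ := mem_Phi_St4 (G := G) x (t • x) f₁ f₂
  -- f₃ is a fixed point of `K`
  have hf3 : f₃ ∈ Phi α K := by
    by_contra hcon
    have hfilt : S.filter (fun y => t • y = y) = {f₁, f₂} := by
      ext y
      simp only [Finset.mem_filter, Finset.mem_insert, Finset.mem_singleton]
      constructor
      · rintro ⟨hyS, hy⟩
        rcases fix_mem (hphi t ht) h12 h13 h23 hf₁ hf₂ hf₃ hy with rfl | rfl | rfl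
        · exact Or.inl rfl
        · exact Or.inr rfl
        · exact absurd ((hSmem _).mp hyS) hcon
      · rintro (rfl | rfl)
        · exact ⟨(hSmem _).mpr m3, hf₁⟩
        · exact ⟨(hSmem _).mpr m4, hf₂⟩
    rw [hfilt, Finset.card_pair h12] at hpar
    omega
  have heq : St4 G f₁ f₂ f₃ x = K := St4_eq_of_fixed h hd hd' m3 m4 hf3 m1
  rw [heq]
  exact m2

/-- two involutions with three common fixed points act in the same way -/
theorem smul_eq_of_fix (h : Hall G α) (hphi : ∀ t : G, IsInv t → (fixF α t).card = 3)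
    (h5 : ∀ p q r s : α, D4 p q r s → Nat.card (Phi α (St4 G p q r s)) = 5)
    {t t' : G} (ht : IsInv t) (ht' : IsInv t') {f₁ f₂ f₃ : α} (h12 : f₁ ≠ f₂) (h13 : f₁ ≠ f₃)
    (h23 : f₂ ≠ f₃) (hf₁ : t • f₁ = f₁) (hf₂ : t • f₂ = f₂) (hf₃ : t • f₃ = f₃)
    (hf₁' : t' • f₁ = f₁) (hf₂' : t' • f₂ = f₂) (hf₃' : t' • f₃ = f₃) (x : α) :
    t • x = t' • x := by
  classical
  by_cases hx : t • x = x
  · rcases fix_mem (hphi t ht) h12 h13 h23 hf₁ hf₂ hf₃ hx with rfl | rfl | rfl
    · rw [hf₁, hf₁']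
    · rw [hf₂, hf₂']
    · rw [hf₃, hf₃']
  · have hx' : t' • x ≠ x := by
      intro e
      rcases fix_mem (hphi t' ht') h12 h13 h23 hf₁' hf₂' hf₃' e with rfl | rfl | rfl
      · exact hx hf₁
      · exact hx hf₂
      · exact hx hf₃
    obtain ⟨hd, hm⟩ := smul_mem_block h hphi h5 ht h12 h13 h23 hf₁ hf₂ hf₃ hx
    obtain ⟨-, hm'⟩ := smul_mem_block h hphi h5 ht' h12 h13 h23 hf₁' hf₂' hf₃' hx'
    by_contra hne
    obtain ⟨m1, m2, m3, m4⟩ := mem_Phi_St4 (G := G) f₁ f₂ f₃ x
    have hx1 : x ≠ f₁ := fun e => hx (by rw [e]; exact hf₁)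
    have hx2 : x ≠ f₂ := fun e => hx (by rw [e]; exact hf₂)
    have hx3 : x ≠ f₃ := fun e => hx (by rw [e]; exact hf₃)
    have htx1 : t • x ≠ f₁ := fun e => hx1 (by rw [← ht.smul_eq_iff.mp e]; exact hf₁)
    have htx2 : t • x ≠ f₂ := fun e => hx2 (by rw [← ht.smul_eq_iff.mp e]; exact hf₂)
    have htx3 : t • x ≠ f₃ := fun e => hx3 (by rw [← ht.smul_eq_iff.mp e]; exact hf₃)
    have htx1' : t' • x ≠ f₁ := fun e => hx1 (by rw [← ht'.smul_eq_iff.mp e]; exact hf₁')
    have htx2' : t' • x ≠ f₂ := fun e => hx2 (by rw [← ht'.smul_eq_iff.mp e]; exact hf₂')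
    have htx3' : t' • x ≠ f₃ := fun e => hx3 (by rw [← ht'.smul_eq_iff.mp e]; exact hf₃')
    have hle := card_le_card_Phi (St4 G f₁ f₂ f₃ x) ({t • x, t' • x, f₁, f₂, f₃, x} : Finset α) (by
      intro y hy
      simp only [Finset.mem_insert, Finset.mem_singleton] at hy
      rcases hy with rfl | rfl | rfl | rfl | rfl | rfl <;> assumption)
    rw [h5 _ _ _ _ hd] at hle
    have hc6 : ({t • x, t' • x, f₁, f₂, f₃, x} : Finset α).card = 6 := by
      rw [Finset.card_insert_of_notMem, Finset.card_insert_of_notMem, Finset.card_insert_of_notMem,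
        Finset.card_insert_of_notMem, Finset.card_insert_of_notMem, Finset.card_singleton]
      · simpa using hx3.symm
      · simp only [Finset.mem_insert, Finset.mem_singleton, not_or]
        exact ⟨h23, hx2.symm⟩
      · simp only [Finset.mem_insert, Finset.mem_singleton, not_or]
        exact ⟨h12, h13, hx1.symm⟩
      · simp only [Finset.mem_insert, Finset.mem_singleton, not_or]
        exact ⟨htx1', htx2', htx3', hx'⟩
      · simp only [Finset.mem_insert, Finset.mem_singleton, not_or]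
        exact ⟨hne, htx1, htx2, htx3, hx⟩
    omega

/-- an involution is determined by three fixed points when all blocks have 5 points -/
theorem inv_unique (h : Hall G α) (hphi : ∀ t : G, IsInv t → (fixF α t).card = 3)
    (h5 : ∀ p q r s : α, D4 p q r s → Nat.card (Phi α (St4 G p q r s)) = 5)
    {t t' : G} (ht : IsInv t) (ht' : IsInv t') {f₁ f₂ f₃ : α} (h12 : f₁ ≠ f₂) (h13 : f₁ ≠ f₃)
    (h23 : f₂ ≠ f₃) (hf₁ : t • f₁ = f₁) (hf₂ : t • f₂ = f₂) (hf₃ : t • f₃ = f₃)
    (hf₁' : t' • f₁ = f₁) (hf₂' : t' • f₂ = f₂) (hf₃' : t' • f₃ = f₃) : t' = t := by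
  have key : t⁻¹ * t' = 1 := by
    apply h.faithful
    intro x
    rw [mul_smul, ← smul_eq_of_fix h hphi h5 ht ht' h12 h13 h23 hf₁ hf₂ hf₃ hf₁' hf₂' hf₃' x,
      inv_smul_smul]
  exact (inv_mul_eq_one.mp key).symm

/-- an element fixing the three fixed points of an involution centralizes it -/
theorem comm_of_fix (h : Hall G α) (hphi : ∀ t : G, IsInv t → (fixF α t).card = 3)
    (h5 : ∀ p q r s : α, D4 p q r s → Nat.card (Phi α (St4 G p q r s)) = 5)
    {t g : G} (ht : IsInv t) {f₁ f₂ f₃ : α} (h12 : f₁ ≠ f₂) (h13 : f₁ ≠ f₃)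
    (h23 : f₂ ≠ f₃) (hf₁ : t • f₁ = f₁) (hf₂ : t • f₂ = f₂) (hf₃ : t • f₃ = f₃)
    (hg₁ : g • f₁ = f₁) (hg₂ : g • f₂ = f₂) (hg₃ : g • f₃ = f₃) : g * t = t * g := by
  have hfix : ∀ f : α, t • f = f → g • f = f → (g * t * g⁻¹) • f = f := by
    intro f h1 h2
    have h3 : g⁻¹ • f = f := by rw [inv_smul_eq_iff, h2]
    rw [mul_smul, mul_smul, h3, h1, h2]
  have := inv_unique h hphi h5 ht (ht.conj g) h12 h13 h23 hf₁ hf₂ hf₃ (hfix _ hf₁ hg₁)
    (hfix _ hf₂ hg₂) (hfix _ hf₃ hg₃)
  calc g * t = (g * t * g⁻¹) * g := by group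
    _ = t * g := by rw [this]

end P3A5

/-! ## PIECE P3A5 (id S4221-P3A5): Case A with 5 fixed points is impossible -/

theorem caseA_five (h : Hall G α) (h8 : 8 ≤ Fintype.card α)
    (hphi : ∀ t : G, IsInv t → (fixF α t).card = 3) {p q r s : α} {a c : G} (hV : VData p q r s a c)
    {w k k' : α} (hO : Omega3 p q r s a c w k k') (hfix : ∀ g ∈ St4 G p q r s, g • w = w)
    (hcard : Nat.card (Phi α (St4 G p q r s)) = 5) : False := by
  classical
  have h5 : ∀ p' q' r' s' : α, D4 p' q' r' s' → Nat.card (Phi α (St4 G p' q' r' s')) = 5 := by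
    intro p' q' r' s' hd'
    rw [← card_Phi_eq h hV.d hd']
    exact hcard
  obtain ⟨cp, cq, cr, cs⟩ := hV.tc
  obtain ⟨ap, aq, ar, as⟩ := hV.ta
  have hd := hV.d
  -- `w` and `k` are not among `p q r s`
  have hwp : w ≠ p := fun e => hd.ab (by rw [← cp, ← e, hO.cw])
  have hwq : w ≠ q := fun e => hd.ab (by rw [← cq, ← e, hO.cw])
  have hwr : w ≠ r := fun e => hd.cd (by rw [← cr, ← e, hO.cw])
  have hws : w ≠ s := fun e => hd.cd (by rw [← cs, ← e, hO.cw])
  have hkp : k ≠ p := fun e => hd.ab (by rw [← cp, ← e, hO.ck])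
  have hkq : k ≠ q := fun e => hd.ab (by rw [← cq, ← e, hO.ck])
  have hkr : k ≠ r := fun e => hd.cd (by rw [← cr, ← e, hO.ck])
  have hks : k ≠ s := fun e => hd.cd (by rw [← cs, ← e, hO.ck])
  -- `b = a * c` is an involution fixing `p q w`
  have hb : IsInv (a * c) := by
    refine ⟨?_, ?_⟩
    · rw [show a * c * (a * c) = a * (c * a) * c by group, ← hV.comm,
        show a * (a * c) * c = (a * a) * (c * c) by group, hV.ia.1, hV.ic.1, one_mul]
    · intro e
      have : (a * c) • r = r := by rw [e, one_smul]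
      rw [mul_smul, cr, as] at this
      exact hd.cd this.symm
  have bp : (a * c) • p = p := by rw [mul_smul, cp, aq]
  have bq : (a * c) • q = q := by rw [mul_smul, cq, ap]
  have bw : (a * c) • w = w := by rw [mul_smul, hO.cw, hO.aw]
  -- every element of `H` centralizes `c`
  have hcen : ∀ g ∈ St4 G p q r s, g * c = c * g := by
    intro g hg
    obtain ⟨gp, gq, gr, gs⟩ := mem_St4.mp hg
    have gw := hfix g hg
    have h1 : g * a = a * g :=
      P3A5.comm_of_fix h hphi h5 hV.ia hd.cd hwr.symm hws.symm ar as hO.aw gr gs gw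
    have h2 : g * (a * c) = (a * c) * g :=
      P3A5.comm_of_fix h hphi h5 hb hd.ab hwp.symm hwq.symm bp bq bw gp gq gw
    have hc : c = a * (a * c) := by rw [← mul_assoc, hV.ia.1, one_mul]
    calc g * c = g * a * (a * c) := by rw [mul_assoc, ← hc]
      _ = a * (g * (a * c)) := by rw [h1, mul_assoc]
      _ = a * (a * c) * g := by rw [h2, ← mul_assoc]
      _ = c * g := by rw [← hc]
  -- hence `H` fixes `k`
  have hk : k ∈ Phi α (St4 G p q r s) := by
    intro g hg
    have gw := hfix g hg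
    have hgc := hcen g hg
    have h1 : c • g • k = g • k := by rw [← mul_smul, ← hgc, mul_smul, hO.ck]
    have h2 : c • g • k' = g • k' := by rw [← mul_smul, ← hgc, mul_smul, hO.ck']
    exact (fix_of_odd_three (h.odd p q r s hd) hg gw hO.wk hO.wk' (hO.fc _ h1) (hO.fc _ h2)).1
  obtain ⟨m1, m2, m3, m4⟩ := mem_Phi_St4 (G := G) p q r s
  have hwmem : w ∈ Phi α (St4 G p q r s) := fun g hg => hfix g hg
  have hle := P3A5.card_le_card_Phi (St4 G p q r s) ({k, w, p, q, r, s} : Finset α) (by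
    intro y hy
    simp only [Finset.mem_insert, Finset.mem_singleton] at hy
    rcases hy with rfl | rfl | rfl | rfl | rfl | rfl <;> assumption)
  rw [hcard] at hle
  have hc6 : ({k, w, p, q, r, s} : Finset α).card = 6 := by
    rw [Finset.card_insert_of_notMem, Finset.card_insert_of_notMem, Finset.card_insert_of_notMem,
      Finset.card_insert_of_notMem, Finset.card_insert_of_notMem, Finset.card_singleton]
    · simpa using hd.cd
    · simp only [Finset.mem_insert, Finset.mem_singleton, not_or]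
      exact ⟨hd.bc, hd.bd⟩
    · simp only [Finset.mem_insert, Finset.mem_singleton, not_or]
      exact ⟨hd.ab, hd.ac, hd.ad⟩
    · simp only [Finset.mem_insert, Finset.mem_singleton, not_or]
      exact ⟨hwp, hwq, hwr, hws⟩
    · simp only [Finset.mem_insert, Finset.mem_singleton, not_or]
      exact ⟨hO.wk.symm, hkp, hkq, hkr, hks⟩
  omega

end Cfsg.Agent.Helper26.MH
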