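import Mathlib
import Cfsg.Agent.Lib.Helper26.MHDefs
import Cfsg.Agent.Lib.Helper26.MHBasic
import Cfsg.Agent.Lib.Helper1.MHWITT
import Cfsg.Agent.Lib.Helper7.MHP3A11
import Cfsg.Agent.Lib.Helper12.MHP3A5

/-!
# S4221 (M. Hall) piece P3ASM: Case A assembly (parity of the number of fixed points of `H`) (helper12)
-/

set_option autoImplicit false
set_option linter.unusedSectionVars false

namespace Cfsg.Agent.Helper26.MH

open MulAction Cfsg.Agent.Helper22.SharpFour

variable {G : Type*} [Group G] [Finite G] {α : Type*} [Fintype α] [DecidableEq α] [MulAction G α]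

namespace P3ASM

/-- in Case A the number of fixed points of `H` is odd -/
theorem odd_card_Phi {p q r s : α} {a c : G} (hV : VData p q r s a c)
    {w k k' : α} (hO : Omega3 p q r s a c w k k') (hfix : ∀ g ∈ St4 G p q r s, g • w = w) :
    Nat.card (Phi α (St4 G p q r s)) % 2 = 1 := by
  classical
  obtain ⟨cp, cq, cr, cs⟩ := hV.tc
  obtain ⟨ap, aq, ar, as⟩ := hV.ta
  have hd := hV.d
  have hwr : w ≠ r := fun e => hd.cd (by rw [← cr, ← e, hO.cw])
  have hws : w ≠ s := fun e => hd.cd (by rw [← cs, ← e, hO.cw])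
  set K := St4 G p q r s with hK
  set S : Finset α := Finset.univ.filter (fun y => y ∈ Phi α K) with hS
  have hSmem : ∀ y, y ∈ S ↔ y ∈ Phi α K := by simp [hS]
  have hN := hV.ta.mem_normalizer hV.ia
  have hinv : ∀ y ∈ S, a • y ∈ S := fun y hy => (hSmem _).mpr (smul_mem_Phi hN ((hSmem _).mp hy))
  have hpar := card_mod_two_of_invol hV.ia.1 S hinv
  obtain ⟨-, -, m3, m4⟩ := mem_Phi_St4 (G := G) p q r s
  have hwmem : w ∈ Phi α K := fun g hg => hfix g hg
  have hfilt : S.filter (fun y => a • y = y) = {w, r, s} := by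
    ext y
    simp only [Finset.mem_filter, Finset.mem_insert, Finset.mem_singleton]
    constructor
    · rintro ⟨-, hy⟩
      rcases hO.fa y hy with rfl | rfl | rfl
      · exact Or.inr (Or.inl rfl)
      · exact Or.inr (Or.inr rfl)
      · exact Or.inl rfl
    · rintro (rfl | rfl | rfl)
      · exact ⟨(hSmem _).mpr hwmem, hO.aw⟩
      · exact ⟨(hSmem _).mpr m3, ar⟩
      · exact ⟨(hSmem _).mpr m4, as⟩
  have hc3 : ({w, r, s} : Finset α).card = 3 := by
    rw [Finset.card_insert_of_notMem, Finset.card_insert_of_notMem, Finset.card_singleton]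
    · simpa using hd.cd
    · simp only [Finset.mem_insert, Finset.mem_singleton, not_or]
      exact ⟨hwr, hws⟩
  rw [hfilt, hc3] at hpar
  rw [P3A5.card_Phi_finset K S hSmem, hpar]

end P3ASM

/-! ## PIECE P3ASM (id S4221-P3ASM): Case A assembly -/

theorem caseA (h : Hall G α) (h8 : 8 ≤ Fintype.card α)
    (hphi : ∀ t : G, IsInv t → (fixF α t).card = 3) {p q r s : α} {a c : G} (hV : VData p q r s a c)
    {w k k' : α} (hO : Omega3 p q r s a c w k k') (hfix : ∀ g ∈ St4 G p q r s, g • w = w) :
    St4 G p q r s = ⊥ := by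
  have hodd := P3ASM.odd_card_Phi hV hO hfix
  rcases card_Phi h hV.d with h4 | h5 | h6 | h11
  · rw [h4] at hodd; omega
  · exact absurd (caseA_five h h8 hphi hV hO hfix h5) id
  · rw [h6] at hodd; omega
  · exact caseA_eleven h h8 hphi hV hO hfix h11

end Cfsg.Agent.Helper26.MH
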