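import Mathlib
import Cfsg.Agent.Lib.Helper12.LSLDefs

/-!
# Row and column transvection groups of `SL ι F`

`rowGrp F i₀ = {1 + e_{i₀} φᵀ}` (all transvections with centre `e_{i₀}`, and `1`),
`colGrp F i₀ = {1 + b e_{i₀}ᵀ}` (all transvections with axis `ker e_{i₀}ᵀ`, and `1`);
`φ, b ∈ Phi F i₀ = {v | v i₀ = 0}`.
-/

set_option autoImplicit false

namespace Cfsg.Agent.Helper12.MinIdx

open Matrix Cfsg.Agent.Helper12 Cfsg.Agent.Helper12.LSL

variable {F : Type*} [Field F] {ι : Type*} [Fintype ι] [DecidableEq ι]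

theorem xPhi_neg (i₀ : ι) (φ : Phi F i₀) : xPhi i₀ (-φ) = (xPhi i₀ φ)⁻¹ := by
  rw [eq_inv_iff_mul_eq_one, ← xPhi_add, neg_add_cancel, xPhi_zero]

theorem yPhi_neg (i₀ : ι) (b : Phi F i₀) : yPhi i₀ (-b) = (yPhi i₀ b)⁻¹ := by
  rw [eq_inv_iff_mul_eq_one, ← yPhi_add, neg_add_cancel, yPhi_zero]

theorem xPhi_injective (i₀ : ι) : Function.Injective (xPhi (F := F) i₀) := by
  intro φ φ' h
  by_contra hne
  have h1 : φ - φ' ≠ 0 := sub_ne_zero.mpr hne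
  apply xPhi_ne_one i₀ h1
  rw [sub_eq_add_neg, xPhi_add, xPhi_neg, h, mul_inv_cancel]

theorem yPhi_ne_one (i₀ : ι) {b : Phi F i₀} (hb : b ≠ 0) : yPhi i₀ b ≠ 1 := by
  intro h
  apply hb
  apply Subtype.ext
  have h1 := congrArg (fun g : Matrix.SpecialLinearGroup ι F => g • (Pi.single i₀ 1 : ι → F)) h
  simp only [yPhi_smul, one_smul, Pi.single_eq_same, one_smul] at h1
  have h2 : (b.1 : ι → F) = 0 := by
    have := congrArg (fun v => v - (Pi.single i₀ 1 : ι → F)) h1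
    simpa using this
  rw [h2]
  rfl

theorem yPhi_injective (i₀ : ι) : Function.Injective (yPhi (F := F) i₀) := by
  intro b b' h
  by_contra hne
  have h1 : b - b' ≠ 0 := sub_ne_zero.mpr hne
  apply yPhi_ne_one i₀ h1
  rw [sub_eq_add_neg, yPhi_add, yPhi_neg, h, mul_inv_cancel]

/-- The row group: the transvections with centre `e_{i₀}`. -/
def rowGrp (F : Type*) [Field F] {ι : Type*} [Fintype ι] [DecidableEq ι] (i₀ : ι) :
    Subgroup (Matrix.SpecialLinearGroup ι F) where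
  carrier := {g | ∃ φ : Phi F i₀, g = xPhi i₀ φ}
  one_mem' := ⟨0, (xPhi_zero i₀).symm⟩
  mul_mem' := by
    rintro _ _ ⟨φ, rfl⟩ ⟨φ', rfl⟩
    exact ⟨φ + φ', (xPhi_add i₀ φ φ').symm⟩
  inv_mem' := by
    rintro _ ⟨φ, rfl⟩
    exact ⟨-φ, (xPhi_neg i₀ φ).symm⟩

/-- The column group: the transvections with axis `ker e_{i₀}ᵀ`. -/
def colGrp (F : Type*) [Field F] {ι : Type*} [Fintype ι] [DecidableEq ι] (i₀ : ι) :
    Subgroup (Matrix.SpecialLinearGroup ι F) where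
  carrier := {g | ∃ b : Phi F i₀, g = yPhi i₀ b}
  one_mem' := ⟨0, (yPhi_zero i₀).symm⟩
  mul_mem' := by
    rintro _ _ ⟨b, rfl⟩ ⟨b', rfl⟩
    exact ⟨b + b', (yPhi_add i₀ b b').symm⟩
  inv_mem' := by
    rintro _ ⟨b, rfl⟩
    exact ⟨-b, (yPhi_neg i₀ b).symm⟩

theorem mem_rowGrp_iff {i₀ : ι} {g : Matrix.SpecialLinearGroup ι F} :
    g ∈ rowGrp F i₀ ↔ ∃ φ : Phi F i₀, g = xPhi i₀ φ := Iff.rfl

theorem mem_colGrp_iff {i₀ : ι} {g : Matrix.SpecialLinearGroup ι F} :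
    g ∈ colGrp F i₀ ↔ ∃ b : Phi F i₀, g = yPhi i₀ b := Iff.rfl

theorem xPhi_mem_rowGrp (i₀ : ι) (φ : Phi F i₀) : xPhi i₀ φ ∈ rowGrp F i₀ := ⟨φ, rfl⟩

theorem yPhi_mem_colGrp (i₀ : ι) (b : Phi F i₀) : yPhi i₀ b ∈ colGrp F i₀ := ⟨b, rfl⟩

/-- `Phi F i₀ ≃ rowGrp F i₀`. -/
noncomputable def rowEquiv (i₀ : ι) : Phi F i₀ ≃ rowGrp F i₀ :=
  Equiv.ofBijective (fun φ => ⟨xPhi i₀ φ, xPhi_mem_rowGrp i₀ φ⟩)
    ⟨fun φ φ' h => xPhi_injective i₀ (congrArg Subtype.val h), fun g => by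
      obtain ⟨φ, hφ⟩ := g.2
      exact ⟨φ, Subtype.ext hφ.symm⟩⟩

/-- `Phi F i₀ ≃ colGrp F i₀`. -/
noncomputable def colEquiv (i₀ : ι) : Phi F i₀ ≃ colGrp F i₀ :=
  Equiv.ofBijective (fun b => ⟨yPhi i₀ b, yPhi_mem_colGrp i₀ b⟩)
    ⟨fun b b' h => yPhi_injective i₀ (congrArg Subtype.val h), fun g => by
      obtain ⟨b, hb⟩ := g.2
      exact ⟨b, Subtype.ext hb.symm⟩⟩

theorem card_rowGrp [Fintype F] (i₀ : ι) :
    Nat.card (rowGrp F i₀) = Fintype.card F ^ (Fintype.card ι - 1) := by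
  classical
  letI : Fintype (Phi F i₀) := Fintype.ofFinite _
  rw [← Nat.card_congr (rowEquiv (F := F) i₀), Nat.card_eq_fintype_card, card_Phi]

theorem card_colGrp [Fintype F] (i₀ : ι) :
    Nat.card (colGrp F i₀) = Fintype.card F ^ (Fintype.card ι - 1) := by
  classical
  letI : Fintype (Phi F i₀) := Fintype.ofFinite _
  rw [← Nat.card_congr (colEquiv (F := F) i₀), Nat.card_eq_fintype_card, card_Phi]

/-- the elementary transvection `1 + c E_{ij}` lies in the row group of `i` and the column group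
of `j` -/
theorem transvection_mem_rowGrp {i j : ι} (h : i ≠ j) (c : F) :
    Matrix.SpecialLinearGroup.transvection h c ∈ rowGrp F i := by
  obtain ⟨φ, hφ, -⟩ := transvection_eq_xPhi (F := F) h c
  exact ⟨φ, hφ⟩

theorem transvection_mem_colGrp {i j : ι} (h : i ≠ j) (c : F) :
    Matrix.SpecialLinearGroup.transvection h c ∈ colGrp F j := by
  obtain ⟨b, hb, -⟩ := transvection_eq_yPhi (F := F) h c
  exact ⟨b, hb⟩

end Cfsg.Agent.Helper12.MinIdx
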