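import Mathlib
import Cfsg.Agent.Lib.Helper12.MinIdxDefs

/-!
# S2140, piece THETA: the transpose-inverse automorphism of `SL ι F` and the twisted action
-/

set_option autoImplicit false

namespace Cfsg.Agent.Helper12.MinIdx

open Matrix Cfsg.Agent.Helper12 Cfsg.Agent.Helper12.LSL

variable {F : Type*} [Field F] {ι : Type*} [Fintype ι] [DecidableEq ι]

theorem transpose_mul_SL (g h : Matrix.SpecialLinearGroup ι F) :
    (g * h).transpose = h.transpose * g.transpose := by
  apply Subtype.ext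
  show (g.1 * h.1)ᵀ = h.1ᵀ * g.1ᵀ
  rw [Matrix.transpose_mul]

theorem transpose_one_SL : (1 : Matrix.SpecialLinearGroup ι F).transpose = 1 := by
  apply Subtype.ext
  show (1 : Matrix ι ι F)ᵀ = 1
  rw [Matrix.transpose_one]

theorem transpose_transpose_SL (g : Matrix.SpecialLinearGroup ι F) :
    g.transpose.transpose = g := by
  apply Subtype.ext
  show (g.1ᵀ)ᵀ = g.1
  rw [Matrix.transpose_transpose]

theorem transpose_inv_SL (g : Matrix.SpecialLinearGroup ι F) :
    (g⁻¹).transpose = (g.transpose)⁻¹ := by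
  rw [eq_inv_iff_mul_eq_one, ← transpose_mul_SL, mul_inv_cancel, transpose_one_SL]

/-- the transpose-inverse automorphism of `SL ι F` -/
def theta : Matrix.SpecialLinearGroup ι F ≃* Matrix.SpecialLinearGroup ι F where
  toFun g := (g⁻¹).transpose
  invFun g := (g⁻¹).transpose
  left_inv g := by
    show (((g⁻¹).transpose)⁻¹).transpose = g
    rw [← transpose_inv_SL, inv_inv, transpose_transpose_SL]
  right_inv g := by
    show (((g⁻¹).transpose)⁻¹).transpose = g
    rw [← transpose_inv_SL, inv_inv, transpose_transpose_SL]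
  map_mul' g h := by
    show ((g * h)⁻¹).transpose = (g⁻¹).transpose * (h⁻¹).transpose
    rw [_root_.mul_inv_rev, transpose_mul_SL]

theorem theta_apply (g : Matrix.SpecialLinearGroup ι F) : theta g = (g⁻¹).transpose := rfl

theorem theta_theta (g : Matrix.SpecialLinearGroup ι F) : theta (theta g) = g := by
  rw [theta_apply, theta_apply, ← transpose_inv_SL, inv_inv, transpose_transpose_SL]

theorem transpose_xPhi (i₀ : ι) (φ : Phi F i₀) : (xPhi i₀ φ).transpose = yPhi i₀ φ := by
  apply Subtype.ext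
  show (1 + Matrix.vecMulVec (Pi.single i₀ 1) φ.1)ᵀ = 1 + Matrix.vecMulVec φ.1 (Pi.single i₀ 1)
  rw [Matrix.transpose_add, Matrix.transpose_one]
  congr 1
  ext a b
  simp only [Matrix.transpose_apply, Matrix.vecMulVec_apply, mul_comm]

theorem transpose_yPhi (i₀ : ι) (b : Phi F i₀) : (yPhi i₀ b).transpose = xPhi i₀ b := by
  rw [← transpose_xPhi, transpose_transpose_SL]

theorem theta_xPhi (i₀ : ι) (φ : Phi F i₀) : theta (xPhi i₀ φ) = yPhi i₀ (-φ) := by
  rw [theta_apply, ← xPhi_neg, transpose_xPhi]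

theorem theta_yPhi (i₀ : ι) (b : Phi F i₀) : theta (yPhi i₀ b) = xPhi i₀ (-b) := by
  rw [theta_apply, ← yPhi_neg, transpose_yPhi]

theorem transpose_mem_Lp {i₀ : ι} {g : Matrix.SpecialLinearGroup ι F} (hg : g ∈ Lp F i₀) :
    g.transpose ∈ Lp F i₀ := by
  obtain ⟨h1, h2⟩ := hg
  have key : ∀ j, g.1 i₀ j = (Pi.single i₀ 1 : ι → F) j := by
    intro j
    have := h2 (Pi.single j 1)
    rw [Matrix.SpecialLinearGroup.smul_def, Matrix.smul_eq_mulVec, Matrix.mulVec_single_one] at this
    rw [Matrix.col_apply] at this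
    rw [this, Pi.single_apply, Pi.single_apply]
    simp only [eq_comm]
  have key2 : ∀ j, g.1 j i₀ = (Pi.single i₀ 1 : ι → F) j := by
    intro j
    have := congrFun h1 j
    rw [Matrix.SpecialLinearGroup.smul_def, Matrix.smul_eq_mulVec, Matrix.mulVec_single_one] at this
    rw [Matrix.col_apply] at this
    exact this
  refine ⟨?_, fun v => ?_⟩
  · rw [Matrix.SpecialLinearGroup.smul_def, Matrix.smul_eq_mulVec]
    show g.1ᵀ *ᵥ _ = _
    rw [Matrix.mulVec_single_one]
    funext j
    rw [Matrix.col_apply, Matrix.transpose_apply, key]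
  · rw [Matrix.SpecialLinearGroup.smul_def, Matrix.smul_eq_mulVec]
    show (g.1ᵀ *ᵥ v) i₀ = _
    rw [Matrix.mulVec, dotProduct]
    simp only [Matrix.transpose_apply, key2]
    simp [Pi.single_apply]

theorem theta_mem_Lp {i₀ : ι} {g : Matrix.SpecialLinearGroup ι F} (hg : g ∈ Lp F i₀) :
    theta g ∈ Lp F i₀ := by
  rw [theta_apply]
  exact transpose_mem_Lp ((Lp F i₀).inv_mem hg)

theorem theta_mem_rowGrp_iff (i₀ : ι) (g : Matrix.SpecialLinearGroup ι F) :
    theta g ∈ rowGrp F i₀ ↔ g ∈ colGrp F i₀ := by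
  constructor
  · rintro ⟨φ, hφ⟩
    refine ⟨-φ, ?_⟩
    rw [← theta_xPhi, ← hφ, theta_theta]
  · rintro ⟨b, rfl⟩
    exact ⟨-b, theta_yPhi i₀ b⟩

theorem theta_mem_colGrp_iff (i₀ : ι) (g : Matrix.SpecialLinearGroup ι F) :
    theta g ∈ colGrp F i₀ ↔ g ∈ rowGrp F i₀ := by
  constructor
  · rintro ⟨b, hb⟩
    refine ⟨-b, ?_⟩
    rw [← theta_yPhi, ← hb, theta_theta]
  · rintro ⟨φ, rfl⟩
    exact ⟨-φ, theta_xPhi i₀ φ⟩

/-- the `G`-set `Ω` with the action twisted by `θ` -/
def Tw (Ω : Type*) : Type _ := Ω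

/-- the identity map `Ω → Tw Ω` -/
def toTw {Ω : Type*} (ω : Ω) : Tw Ω := ω

/-- the identity map `Tw Ω → Ω` -/
def ofTw {Ω : Type*} (ω : Tw Ω) : Ω := ω

instance instMulActionTw {Ω : Type*} [MulAction (Matrix.SpecialLinearGroup ι F) Ω] :
    MulAction (Matrix.SpecialLinearGroup ι F) (Tw Ω) :=
  MulAction.compHom Ω (theta (F := F) (ι := ι)).toMonoidHom

instance instFintypeTw {Ω : Type*} [h : Fintype Ω] : Fintype (Tw Ω) := h

theorem tw_smul {Ω : Type*} [MulAction (Matrix.SpecialLinearGroup ι F) Ω]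
    (g : Matrix.SpecialLinearGroup ι F) (ω : Tw Ω) : ofTw (g • ω) = theta g • ofTw ω := rfl

theorem tw_card {Ω : Type*} [Fintype Ω] : Fintype.card (Tw Ω) = Fintype.card Ω := rfl

instance instPretransitiveTw {Ω : Type*} [MulAction (Matrix.SpecialLinearGroup ι F) Ω]
    [MulAction.IsPretransitive (Matrix.SpecialLinearGroup ι F) Ω] :
    MulAction.IsPretransitive (Matrix.SpecialLinearGroup ι F) (Tw Ω) := by
  constructor
  intro x y
  obtain ⟨g, hg⟩ := MulAction.exists_smul_eq (Matrix.SpecialLinearGroup ι F) (ofTw x) (ofTw y)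
  refine ⟨theta g, ?_⟩
  show theta (theta g) • ofTw x = ofTw y
  rw [theta_theta, hg]

theorem tw_mem_stabilizer_iff {Ω : Type*} [MulAction (Matrix.SpecialLinearGroup ι F) Ω]
    (g : Matrix.SpecialLinearGroup ι F) (ω : Tw Ω) :
    g ∈ MulAction.stabilizer (Matrix.SpecialLinearGroup ι F) ω ↔
      theta g ∈ MulAction.stabilizer (Matrix.SpecialLinearGroup ι F) (ofTw ω) := by
  rw [MulAction.mem_stabilizer_iff, MulAction.mem_stabilizer_iff]
  exact Iff.rfl

/-- the column statements for `Ω` are the row statements for `Tw Ω` -/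
theorem tw_row_iff_col {Ω : Type*} [MulAction (Matrix.SpecialLinearGroup ι F) Ω] (j : ι) (ω : Ω) :
    (rowGrp F j ⊓ MulAction.stabilizer (Matrix.SpecialLinearGroup ι F) (toTw ω) = ⊥ ↔
      colGrp F j ⊓ MulAction.stabilizer (Matrix.SpecialLinearGroup ι F) ω = ⊥) ∧
    (rowGrp F j ≤ MulAction.stabilizer (Matrix.SpecialLinearGroup ι F) (toTw ω) ↔
      colGrp F j ≤ MulAction.stabilizer (Matrix.SpecialLinearGroup ι F) ω) := by
  have hst : ∀ g : Matrix.SpecialLinearGroup ι F,
      g ∈ MulAction.stabilizer (Matrix.SpecialLinearGroup ι F) (toTw ω) ↔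
        theta g ∈ MulAction.stabilizer (Matrix.SpecialLinearGroup ι F) ω :=
    fun g => tw_mem_stabilizer_iff g (toTw ω)
  constructor
  · rw [Subgroup.eq_bot_iff_forall, Subgroup.eq_bot_iff_forall]
    constructor
    · intro h g hg
      have h1 : theta g ∈ rowGrp F j ⊓
          MulAction.stabilizer (Matrix.SpecialLinearGroup ι F) (toTw ω) := by
        refine ⟨(theta_mem_rowGrp_iff j g).2 hg.1, ?_⟩
        apply (hst (theta g)).2
        rw [theta_theta]
        exact hg.2
      have h2 := h _ h1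
      have := congrArg theta h2
      rw [theta_theta, map_one] at this
      exact this
    · intro h g hg
      have h1 : theta g ∈ colGrp F j ⊓
          MulAction.stabilizer (Matrix.SpecialLinearGroup ι F) ω := by
        refine ⟨(theta_mem_colGrp_iff j g).2 hg.1, (hst g).1 hg.2⟩
      have h2 := h _ h1
      have := congrArg theta h2
      rw [theta_theta, map_one] at this
      exact this
  · constructor
    · intro h g hg
      have h1 : theta g ∈ rowGrp F j := (theta_mem_rowGrp_iff j g).2 hg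
      have h2 := h h1
      rw [hst, theta_theta] at h2
      exact h2
    · intro h g hg
      rw [hst]
      exact h ((theta_mem_colGrp_iff j g).2 hg)

end Cfsg.Agent.Helper12.MinIdx
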