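import Mathlib
import Cfsg.Agent.Lib.Helper12.MITHETA
import Cfsg.Agent.Lib.Helper20.LSLGEOM

/-!
# S2140, piece SYMM: `Lp` normalises the row group and is transitive on its non-identity
elements; all row groups are conjugate
-/

set_option autoImplicit false

namespace Cfsg.Agent.Helper12.MinIdx

open Matrix Cfsg.Agent.Helper12 Cfsg.Agent.Helper12.LSL

variable {F : Type*} [Field F] {ι : Type*} [Fintype ι] [DecidableEq ι]

/-- `l (xPhi φ) l⁻¹ = xPhi φ'` with `φ' ⬝ (l • b) = φ ⬝ b` -/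
theorem Lp_conj_xPhi' (i₀ : ι) (l : Lp F i₀) (φ : Phi F i₀) :
    ∃ φ' : Phi F i₀, l.1 * xPhi i₀ φ * l.1⁻¹ = xPhi i₀ φ' ∧
      ∀ b : Phi F i₀, φ'.1 ⬝ᵥ (l • b).1 = φ.1 ⬝ᵥ b.1 := by
  obtain ⟨φ', h1, h2⟩ := Lp_conj_xPhi i₀ l⁻¹ φ
  refine ⟨φ', ?_, fun b => ?_⟩
  · rw [← h1]
    simp only [Subgroup.coe_inv, inv_inv]
  · rw [h2, inv_smul_smul]

theorem Lp_normalizes_rowGrp (i₀ : ι) :
    ∀ γ ∈ Lp F i₀, ∀ a ∈ rowGrp F i₀, γ * a * γ⁻¹ ∈ rowGrp F i₀ := by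
  rintro γ hγ _ ⟨φ, rfl⟩
  obtain ⟨φ', h1, -⟩ := Lp_conj_xPhi' i₀ ⟨γ, hγ⟩ φ
  exact ⟨φ', h1⟩

theorem Lp_transitive_rowGrp (hι : 3 ≤ Fintype.card ι) (i₀ : ι) :
    ∀ a ∈ rowGrp F i₀, a ≠ 1 → ∀ b ∈ rowGrp F i₀, b ≠ 1 → ∃ γ ∈ Lp F i₀, γ * a * γ⁻¹ = b := by
  rintro _ ⟨φ, rfl⟩ ha _ ⟨φ', rfl⟩ hb
  have hφ : -φ ≠ 0 := by
    intro h
    apply ha
    rw [neg_eq_zero] at h
    rw [h, xPhi_zero]
  have hφ' : -φ' ≠ 0 := by
    intro h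
    apply hb
    rw [neg_eq_zero] at h
    rw [h, xPhi_zero]
  obtain ⟨l, hl⟩ := Lp_transitive hι i₀ (⟨-φ, hφ⟩ : NZ F i₀) ⟨-φ', hφ'⟩
  have hl' : l • (-φ) = -φ' := congrArg Subtype.val hl
  refine ⟨theta l.1, theta_mem_Lp l.2, ?_⟩
  have h1 := Lp_conj_yPhi i₀ l (-φ)
  rw [hl'] at h1
  have h2 := congrArg theta h1
  rw [map_mul, map_mul, map_inv, theta_yPhi, theta_yPhi, neg_neg, neg_neg] at h2
  exact h2

/-- conjugating a row group element by `h` with `h • e_i = e_j` -/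
theorem conj_xPhi_general (i j : ι) (h : Matrix.SpecialLinearGroup ι F)
    (hh : h • (Pi.single i 1 : ι → F) = Pi.single j 1) (φ : Phi F i) :
    ∃ φ' : Phi F j, h * xPhi i φ * h⁻¹ = xPhi j φ' := by
  have hdot : ∀ b : ι → F, (Matrix.vecMul φ.1 (h⁻¹).1) ⬝ᵥ b = φ.1 ⬝ᵥ (h⁻¹ • b) := by
    intro b
    rw [Matrix.SpecialLinearGroup.smul_def, Matrix.smul_eq_mulVec, Matrix.dotProduct_mulVec]
  have hinv : h⁻¹ • (Pi.single j 1 : ι → F) = Pi.single i 1 := by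
    rw [inv_smul_eq_iff, hh]
  have hmem : Matrix.vecMul φ.1 (h⁻¹).1 ∈ Phi F j := by
    rw [mem_Phi_iff]
    have := hdot (Pi.single j 1)
    rw [hinv, Phi_dotProduct_single, dotProduct_single, mul_one] at this
    exact this
  refine ⟨⟨_, hmem⟩, ?_⟩
  apply SL_ext_smul
  intro v
  rw [mul_smul, mul_smul, xPhi_smul, xPhi_smul, smul_add, smul_inv_smul, smul_comm, hh, hdot]

theorem rowGrp_conj (hι : 2 ≤ Fintype.card ι) (i i' : ι) :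
    ∃ g : Matrix.SpecialLinearGroup ι F, ∀ a, a ∈ rowGrp F i ↔ g * a * g⁻¹ ∈ rowGrp F i' := by
  have hli : ∀ k : ι, LinearIndependent F (fun _ : Unit => (Pi.single k 1 : ι → F)) := by
    intro k
    rw [linearIndependent_unique_iff]
    intro h0
    have := congrFun h0 k
    simp at this
  obtain ⟨g, hg⟩ := exists_SL_smul_eq (fun _ : Unit => (Pi.single i 1 : ι → F))
    (fun _ : Unit => (Pi.single i' 1 : ι → F)) (hli i) (hli i')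
    (by rw [Fintype.card_unit]; omega)
  have hg1 : g • (Pi.single i 1 : ι → F) = Pi.single i' 1 := hg ()
  have hg2 : g⁻¹ • (Pi.single i' 1 : ι → F) = Pi.single i 1 := by
    rw [inv_smul_eq_iff, hg1]
  refine ⟨g, fun a => ⟨?_, ?_⟩⟩
  · rintro ⟨φ, rfl⟩
    obtain ⟨φ', h⟩ := conj_xPhi_general i i' g hg1 φ
    exact ⟨φ', h⟩
  · rintro ⟨φ, hφ⟩
    obtain ⟨φ', h⟩ := conj_xPhi_general i' i g⁻¹ hg2 φ
    refine ⟨φ', ?_⟩
    rw [← h, ← hφ]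
    group

end Cfsg.Agent.Helper12.MinIdx
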