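import Mathlib
import Cfsg.Agent.Lib.Helper12.MITHETA
import Cfsg.Agent.Lib.Helper12.MISYMM
import Cfsg.Agent.Lib.Helper25.MICOUNT
import Cfsg.Agent.Lib.Helper25.MIDICH
import Cfsg.Agent.Lib.Helper24.MIHYPP
import Cfsg.Agent.Lib.Helper24.MIF4LINE
import Cfsg.Agent.Lib.Helper23.MILINES
import Cfsg.Agent.Lib.Helper7.MICONN
import Cfsg.Agent.Lib.Helper7.MIKILL3
import Cfsg.Agent.Lib.Helper7.MIKILL4

/-!
# The index of a proper subgroup of `SL_n(q)`, the cases `(n, q) = (3, 2), (3, 4), (4, 3)`
-/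

set_option autoImplicit false

namespace Cfsg.Agent.Helper12.MinIdx

open Matrix Cfsg.Agent.Helper12 Cfsg.Agent.Helper12.LSL

variable {F : Type*} [Field F] [Fintype F] {ι : Type*} [Fintype ι] [DecidableEq ι]

/-- conjugate subgroups have conjugate intersections with point stabilisers -/
theorem card_inf_stabilizer_conj {Ω : Type*} [MulAction (Matrix.SpecialLinearGroup ι F) Ω]
    (X X' : Subgroup (Matrix.SpecialLinearGroup ι F)) (g : Matrix.SpecialLinearGroup ι F)
    (hg : ∀ a, a ∈ X ↔ g * a * g⁻¹ ∈ X') (ω : Ω) :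
    Nat.card (X' ⊓ MulAction.stabilizer (Matrix.SpecialLinearGroup ι F) ω : Subgroup _) =
      Nat.card (X ⊓ MulAction.stabilizer (Matrix.SpecialLinearGroup ι F) (g⁻¹ • ω) :
        Subgroup _) := by
  have hmap : (X ⊓ MulAction.stabilizer (Matrix.SpecialLinearGroup ι F) (g⁻¹ • ω)).map
      (MulAut.conj g).toMonoidHom =
      X' ⊓ MulAction.stabilizer (Matrix.SpecialLinearGroup ι F) ω := by
    ext b
    rw [Subgroup.mem_map, Subgroup.mem_inf, MulAction.mem_stabilizer_iff]
    constructor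
    · rintro ⟨a, ha, rfl⟩
      rw [Subgroup.mem_inf, MulAction.mem_stabilizer_iff] at ha
      refine ⟨(hg a).1 ha.1, ?_⟩
      show (g * a * g⁻¹) • ω = ω
      rw [mul_smul, mul_smul, ha.2, smul_inv_smul]
    · rintro ⟨hb1, hb2⟩
      refine ⟨g⁻¹ * b * g, ?_, ?_⟩
      · rw [Subgroup.mem_inf, MulAction.mem_stabilizer_iff]
        constructor
        · rw [hg]
          have : g * (g⁻¹ * b * g) * g⁻¹ = b := by group
          rw [this]
          exact hb1
        · rw [mul_smul, mul_smul, smul_inv_smul, hb2]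
      · show g * (g⁻¹ * b * g) * g⁻¹ = b
        group
  rw [← hmap]
  exact Subgroup.card_map_of_injective (MulAut.conj g).injective

/-- the numerical parameters of the three cases -/
theorem exc_params
    (hexc : (Fintype.card ι, Fintype.card F) = (3, 2) ∨ (Fintype.card ι, Fintype.card F) = (3, 4) ∨
      (Fintype.card ι, Fintype.card F) = (4, 3)) :
    ∃ Q q mmax : ℕ, ((Q, q, mmax) = (4, 2, 6) ∨ (Q, q, mmax) = (16, 4, 20) ∨
        (Q, q, mmax) = (27, 3, 39)) ∧ Fintype.card F = q ∧
      Fintype.card F ^ (Fintype.card ι - 1) = Q ∧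
      (Fintype.card F ^ Fintype.card ι - 1) / (Fintype.card F - 1) = mmax + 1 := by
  rcases hexc with h | h | h
  · obtain ⟨h1, h2⟩ := Prod.mk.inj h
    refine ⟨4, 2, 6, Or.inl rfl, h2, ?_, ?_⟩ <;> rw [h1, h2] <;> norm_num
  · obtain ⟨h1, h2⟩ := Prod.mk.inj h
    refine ⟨16, 4, 20, Or.inr (Or.inl rfl), h2, ?_, ?_⟩ <;> rw [h1, h2] <;> norm_num
  · obtain ⟨h1, h2⟩ := Prod.mk.inj h
    refine ⟨27, 3, 39, Or.inr (Or.inr rfl), h2, ?_, ?_⟩ <;> rw [h1, h2] <;> norm_num

/-- In the exceptional cases every row group acts with stabilisers `1` or everything. -/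
theorem row_regular {Ω : Type*} [Fintype Ω] [MulAction (Matrix.SpecialLinearGroup ι F) Ω]
    (hexc : (Fintype.card ι, Fintype.card F) = (3, 2) ∨ (Fintype.card ι, Fintype.card F) = (3, 4) ∨
      (Fintype.card ι, Fintype.card F) = (4, 3))
    (hm : Fintype.card Ω < (Fintype.card F ^ Fintype.card ι - 1) / (Fintype.card F - 1))
    (i : ι) (ω : Ω) :
    rowGrp F i ⊓ MulAction.stabilizer (Matrix.SpecialLinearGroup ι F) ω = ⊥ ∨
      rowGrp F i ≤ MulAction.stabilizer (Matrix.SpecialLinearGroup ι F) ω := by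
  classical
  haveI : Nonempty Ω := ⟨ω⟩
  obtain ⟨Q, q, mmax, hpar, hq, hQ, hN⟩ := exc_params hexc
  have hι3 : 3 ≤ Fintype.card ι := by
    rcases hexc with h | h | h <;> rw [(Prod.mk.inj h).1] <;> norm_num
  have hmm : Fintype.card Ω ≤ mmax := by
    rw [hN] at hm
    omega
  have hdich : ∀ i' : ι, (∀ ω : Ω,
      rowGrp F i' ⊓ MulAction.stabilizer (Matrix.SpecialLinearGroup ι F) ω = ⊥ ∨
        rowGrp F i' ≤ MulAction.stabilizer (Matrix.SpecialLinearGroup ι F) ω) ∨
      ((∀ ω : Ω, Nat.card (rowGrp F i' ⊓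
        MulAction.stabilizer (Matrix.SpecialLinearGroup ι F) ω : Subgroup _) * q = Q) ∧
      Fintype.card Ω = mmax ∧
      ∀ a ∈ rowGrp F i', a ≠ 1 →
        Nat.card (MulAction.fixedBy Ω a) * (Q - 1) = (Q / q - 1) * mmax) := by
    intro i'
    haveI : Finite (rowGrp F i') := Finite.of_equiv _ (rowEquiv (F := F) i')
    exact dich (rowGrp F i') (Lp F i') (Lp_normalizes_rowGrp i') (Lp_transitive_rowGrp hι3 i')
      Q q mmax hpar (by rw [card_rowGrp, hQ]) hmm
  rcases hdich i with hreg | ⟨hst, -, -⟩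
  · exact hreg ω
  · exfalso
    -- all row groups are of lines type
    have hst' : ∀ (i' : ι) (ω : Ω), Nat.card (rowGrp F i' ⊓
        MulAction.stabilizer (Matrix.SpecialLinearGroup ι F) ω : Subgroup _) * q = Q := by
      intro i' ω'
      obtain ⟨g, hg⟩ := rowGrp_conj (F := F) (by omega : 2 ≤ Fintype.card ι) i i'
      rw [card_inf_stabilizer_conj (rowGrp F i) (rowGrp F i') g hg ω']
      exact hst _
    have hnum : 2 ≤ q ∧ q < Q ∧ 0 < Q := by
      rcases hpar with h | h | h <;> obtain ⟨h1, h2⟩ := Prod.mk.inj h <;>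
        obtain ⟨h3, h4⟩ := Prod.mk.inj h2 <;> subst h1 <;> subst h3 <;> norm_num
    have hlines : ∀ i' : ι, (∀ ω : Ω, Nat.card (rowGrp F i' ⊓
        MulAction.stabilizer (Matrix.SpecialLinearGroup ι F) ω : Subgroup _) * q = Q) ∧
      Fintype.card Ω = mmax ∧
      ∀ a ∈ rowGrp F i', a ≠ 1 →
        Nat.card (MulAction.fixedBy Ω a) * (Q - 1) = (Q / q - 1) * mmax := by
      intro i'
      rcases hdich i' with hreg | h
      · exfalso
        have h1 := hst' i' ω
        rcases hreg ω with h2 | h2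
        · rw [h2, Subgroup.card_bot] at h1
          omega
        · rw [inf_eq_left.mpr h2, card_rowGrp, hQ] at h1
          have : Q * q = Q * 1 := by rw [mul_one]; exact h1
          have := Nat.eq_of_mul_eq_mul_left hnum.2.2 this
          omega
      · exact h
    apply lines_false (F := F) (ι := ι) (Ω := Ω) hι3
    intro i' ω'
    have hmem : ∀ φ : Phi F i', xPhi i' φ ∈ rowGrp F i' ⊓
        MulAction.stabilizer (Matrix.SpecialLinearGroup ι F) ω' ↔ xPhi i' φ • ω' = ω' := by
      intro φ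
      rw [Subgroup.mem_inf, MulAction.mem_stabilizer_iff]
      exact ⟨fun h => h.2, fun h => ⟨xPhi_mem_rowGrp i' φ, h⟩⟩
    by_cases hq4 : q = 4
    · -- the case `(3, 4)`
      have hQ16 : Q = 16 ∧ mmax = 20 := by
        rcases hpar with h | h | h <;> obtain ⟨h1, h2⟩ := Prod.mk.inj h <;>
          obtain ⟨h3, h4⟩ := Prod.mk.inj h2 <;> subst h1 <;> subst h3 <;> subst h4 <;> simp_all
      have hι3' : Fintype.card ι = 3 := by
        rcases hexc with h | h | h <;> obtain ⟨h1, h2⟩ := Prod.mk.inj h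
        · rw [hq, hq4] at h2; omega
        · exact h1
        · rw [hq, hq4] at h2; omega
      obtain ⟨hA, hB, hC⟩ := hlines i'
      refine hyperplane_of_four (F := F) hι3' (by rw [hq, hq4]) i' ?_ ?_ ω'
      · intro ω''
        have := hA ω''
        rw [hq4, hQ16.1] at this
        omega
      · intro a ha ha1
        have := hC a ha ha1
        rw [hq4, hQ16.1, hQ16.2] at this
        omega
    · -- prime fields
      have hprime : (Fintype.card F).Prime := by
        rw [hq]
        rcases hpar with h | h | h <;> obtain ⟨h1, h2⟩ := Prod.mk.inj h <;>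
          obtain ⟨h3, h4⟩ := Prod.mk.inj h2 <;> subst h3
        · exact Nat.prime_two
        · exact absurd rfl hq4
        · exact Nat.prime_three
      obtain ⟨v, hv0, hv⟩ := hyperplane_of_prime hprime i'
        (rowGrp F i' ⊓ MulAction.stabilizer (Matrix.SpecialLinearGroup ι F) ω') inf_le_left
        (by rw [hq, hst' i' ω', card_rowGrp, hQ])
      exact ⟨v, hv0, fun φ => by rw [← hmem φ, hv φ]⟩

/-- the same for the column groups -/
theorem col_regular {Ω : Type*} [Fintype Ω] [MulAction (Matrix.SpecialLinearGroup ι F) Ω]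
    (hexc : (Fintype.card ι, Fintype.card F) = (3, 2) ∨ (Fintype.card ι, Fintype.card F) = (3, 4) ∨
      (Fintype.card ι, Fintype.card F) = (4, 3))
    (hm : Fintype.card Ω < (Fintype.card F ^ Fintype.card ι - 1) / (Fintype.card F - 1))
    (j : ι) (ω : Ω) :
    colGrp F j ⊓ MulAction.stabilizer (Matrix.SpecialLinearGroup ι F) ω = ⊥ ∨
      colGrp F j ≤ MulAction.stabilizer (Matrix.SpecialLinearGroup ι F) ω := by
  have h := row_regular (F := F) (ι := ι) (Ω := Tw Ω) hexc (by rw [tw_card]; exact hm) j (toTw ω)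
  obtain ⟨h1, h2⟩ := tw_row_iff_col (F := F) j ω
  rcases h with h | h
  · exact Or.inl (h1.1 h)
  · exact Or.inr (h2.1 h)

/-- a transitive `SL_n(q)`-set with more than one point has at least `(q^n - 1)/(q - 1)` points,
`(n, q) = (3, 2), (3, 4), (4, 3)` -/
theorem exc_bound (n : ℕ) {Ω : Type*} [Fintype Ω] [MulAction (Matrix.SpecialLinearGroup (Fin n) F) Ω]
    [MulAction.IsPretransitive (Matrix.SpecialLinearGroup (Fin n) F) Ω]
    (hexc : (n, Fintype.card F) = (3, 2) ∨ (n, Fintype.card F) = (3, 4) ∨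
      (n, Fintype.card F) = (4, 3))
    (h1 : 1 < Fintype.card Ω) :
    (Fintype.card F ^ n - 1) / (Fintype.card F - 1) ≤ Fintype.card Ω := by
  classical
  by_contra hlt
  push Not at hlt
  have hc : Fintype.card (Fin n) = n := Fintype.card_fin n
  have hexc' : (Fintype.card (Fin n), Fintype.card F) = (3, 2) ∨
      (Fintype.card (Fin n), Fintype.card F) = (3, 4) ∨
      (Fintype.card (Fin n), Fintype.card F) = (4, 3) := by rw [hc]; exact hexc
  have hlt' : Fintype.card Ω <
      (Fintype.card F ^ Fintype.card (Fin n) - 1) / (Fintype.card F - 1) := by rw [hc]; exact hlt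
  haveI : Nontrivial Ω := Fintype.one_lt_card_iff_nontrivial.mp h1
  have hn3 : 3 ≤ n := by
    rcases hexc with h | h | h <;> rw [(Prod.mk.inj h).1] <;> norm_num
  obtain ⟨hrow, hcol⟩ := conn (F := F) (ι := Fin n) (Ω := Ω) (by rw [hc]; exact hn3)
    (fun i ω => row_regular hexc' hlt' i ω) (fun j ω => col_regular hexc' hlt' j ω)
  obtain ⟨Q, q, mmax, hpar, hq, hQ, hN⟩ := exc_params hexc'
  have h2Q : mmax + 1 < 2 * Q := by
    rcases hpar with h | h | h <;> obtain ⟨h1, h2⟩ := Prod.mk.inj h <;>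
      obtain ⟨h3, h4⟩ := Prod.mk.inj h2 <;> subst h1 <;> subst h4 <;> norm_num
  -- the row group of the first index is regular on `Ω`
  have h0 : 0 < n := by omega
  obtain ⟨ω₀⟩ : Nonempty Ω := inferInstance
  have htrans : ∀ g : Matrix.SpecialLinearGroup (Fin n) F,
      ∃ a ∈ rowGrp F (⟨0, h0⟩ : Fin n), g • ω₀ = a • ω₀ := by
    intro g
    by_contra hcon
    push Not at hcon
    haveI : Finite (rowGrp F (⟨0, h0⟩ : Fin n)) := Finite.of_equiv _ (rowEquiv (F := F) _)
    letI : Fintype (rowGrp F (⟨0, h0⟩ : Fin n)) := Fintype.ofFinite _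
    -- two disjoint orbits of size `Q`
    have hinj : ∀ ω : Ω, Function.Injective
        (fun a : rowGrp F (⟨0, h0⟩ : Fin n) => (a : Matrix.SpecialLinearGroup (Fin n) F) • ω) := by
      intro ω a b hab
      simp only at hab
      have hmem : (b : Matrix.SpecialLinearGroup (Fin n) F)⁻¹ * a ∈
          rowGrp F (⟨0, h0⟩ : Fin n) ⊓
            MulAction.stabilizer (Matrix.SpecialLinearGroup (Fin n) F) ω := by
        rw [Subgroup.mem_inf, MulAction.mem_stabilizer_iff]
        refine ⟨Subgroup.mul_mem _ (Subgroup.inv_mem _ b.2) a.2, ?_⟩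
        rw [mul_smul, hab, inv_smul_smul]
      rw [hrow, Subgroup.mem_bot, inv_mul_eq_one] at hmem
      exact Subtype.ext hmem.symm
    let f : rowGrp F (⟨0, h0⟩ : Fin n) ⊕ rowGrp F (⟨0, h0⟩ : Fin n) → Ω := fun x =>
      match x with
      | Sum.inl a => (a : Matrix.SpecialLinearGroup (Fin n) F) • ω₀
      | Sum.inr a => (a : Matrix.SpecialLinearGroup (Fin n) F) • (g • ω₀)
    have hf : Function.Injective f := by
      intro x y hxy
      rcases x with a | a <;> rcases y with b | b
      · exact congrArg Sum.inl (hinj ω₀ hxy)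
      · exfalso
        have hxy' : (a : Matrix.SpecialLinearGroup (Fin n) F) • ω₀ =
            (b : Matrix.SpecialLinearGroup (Fin n) F) • (g • ω₀) := hxy
        apply hcon ((b : Matrix.SpecialLinearGroup (Fin n) F)⁻¹ * a)
          (Subgroup.mul_mem _ (Subgroup.inv_mem _ b.2) a.2)
        rw [mul_smul, hxy', inv_smul_smul]
      · exfalso
        have hxy' : (a : Matrix.SpecialLinearGroup (Fin n) F) • (g • ω₀) =
            (b : Matrix.SpecialLinearGroup (Fin n) F) • ω₀ := hxy
        apply hcon ((a : Matrix.SpecialLinearGroup (Fin n) F)⁻¹ * b)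
          (Subgroup.mul_mem _ (Subgroup.inv_mem _ a.2) b.2)
        rw [mul_smul, ← hxy', inv_smul_smul]
      · exact congrArg Sum.inr (hinj (g • ω₀) hxy)
    have hcard := Fintype.card_le_of_injective f hf
    rw [Fintype.card_sum, ← Nat.card_eq_fintype_card, card_rowGrp, hQ] at hcard
    rw [hN] at hlt'
    omega
  rcases hexc with h | h | h
  · -- `(3, 2)`
    obtain ⟨hn, hF⟩ := Prod.mk.inj h
    subst hn
    have h2 : (2 : F) = 0 := by
      have := Nat.cast_card_eq_zero F
      rw [hF] at this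
      exact_mod_cast this
    exact kill3 (F := F) (ι := Fin 3) h2 0 1 2 (by decide) (by decide) (by decide)
      (by intro l; fin_cases l <;> simp) ω₀ htrans (hrow _ ω₀) (hcol _ ω₀)
  · -- `(3, 4)`
    obtain ⟨hn, hF⟩ := Prod.mk.inj h
    subst hn
    have h2 : (2 : F) = 0 := by
      have h4 := Nat.cast_card_eq_zero F
      rw [hF] at h4
      have : (2 : F) * 2 = 0 := by
        have : ((4 : ℕ) : F) = 2 * 2 := by norm_num
        rw [← this]
        exact h4
      exact mul_self_eq_zero.mp this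
    exact kill3 (F := F) (ι := Fin 3) h2 0 1 2 (by decide) (by decide) (by decide)
      (by intro l; fin_cases l <;> simp) ω₀ htrans (hrow _ ω₀) (hcol _ ω₀)
  · -- `(4, 3)`
    obtain ⟨hn, hF⟩ := Prod.mk.inj h
    subst hn
    have h2 : (2 : F) ≠ 0 := by
      intro h2
      have h3 := Nat.cast_card_eq_zero F
      rw [hF] at h3
      have h3' : (3 : F) = 0 := by exact_mod_cast h3
      have : (1 : F) = 0 := by
        have : (1 : F) = 3 - 2 := by norm_num
        rw [this, h3', h2, sub_zero]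
      exact one_ne_zero this
    exact kill4 (F := F) h2 ω₀ htrans (hrow _ ω₀) (hcol _ ω₀)

end Cfsg.Agent.Helper12.MinIdx
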