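import Mathlib
import Cfsg.Agent.Lib.Helper12.LSLMain
import Cfsg.Agent.Lib.Helper12.LSLExist
import Cfsg.Agent.Lib.Helper6.SLnQ
import Cfsg.Agent.Lib.Helper8.Constituent

/-!
# The index of a proper subgroup of `SL_n(q)`, generic case

A proper subgroup `H` of a perfect group `G` all of whose irreducible representations of degree at
least two have degree at least `B` has index at least `B + 1`: the permutation character on the
cosets of `H` minus the trivial character is a nonzero character without trivial constituent.
-/

set_option autoImplicit false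

namespace Cfsg.Agent.Helper12.MinIdx

open Cfsg Cfsg.Agent.Helper24 Cfsg.Agent.Helper8

universe u

/-- A representation of degree at most one of a perfect group is trivial. -/
theorem rep_trivial_of_perfect {G : Type u} [Group G] (hperf : commutator G = ⊤) (k : ℕ) (hk : k ≤ 1)
    (ρ : Representation ℂ G (Fin k → ℂ)) (g : G) : ρ g = 1 := by
  interval_cases k
  · apply LinearMap.ext
    intro v
    exact Subsingleton.elim _ _
  · -- the scalar by which `g` acts
    have hsc : ∀ (T : Module.End ℂ (Fin 1 → ℂ)) (v : Fin 1 → ℂ), T v = (T (fun _ => 1) 0) • v := by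
      intro T v
      have hv : v = (v 0) • (fun _ => (1 : ℂ)) := by
        funext i
        rw [Pi.smul_apply, smul_eq_mul, mul_one]
        congr 1
        exact Subsingleton.elim _ _
      conv_lhs => rw [hv]
      rw [map_smul]
      funext i
      have hi : i = 0 := Subsingleton.elim _ _
      subst hi
      rw [Pi.smul_apply, Pi.smul_apply, smul_eq_mul, smul_eq_mul, mul_comm]
    let f : G →* ℂ :=
      { toFun := fun x => ρ x (fun _ => 1) 0
        map_one' := by rw [map_one]; rfl
        map_mul' := by
          intro x y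
          rw [map_mul, Module.End.mul_apply, hsc (ρ x) (ρ y fun _ => 1), Pi.smul_apply, smul_eq_mul] }
    have hker : f.toHomUnits.ker = ⊤ := by
      apply top_unique
      rw [← hperf]
      exact Abelianization.commutator_subset_ker f.toHomUnits
    have hg : f.toHomUnits g = 1 := by
      rw [← MonoidHom.mem_ker, hker]
      exact Subgroup.mem_top g
    have hfg : f g = 1 := by
      have := congrArg Units.val hg
      rwa [MonoidHom.coe_toHomUnits, Units.val_one] at this
    apply LinearMap.ext
    intro v
    rw [hsc (ρ g) v]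
    have : ρ g (fun _ => 1) 0 = 1 := hfg
    rw [this, one_smul]
    rfl

/-- The index bound from a bound on the degrees of the nonlinear irreducible representations. -/
theorem index_ge_of_degree_bound {G : Type u} [Group G] [Finite G] (hperf : commutator G = ⊤) (B : ℕ)
    (hB : ∀ (k : ℕ) (ρ : Representation ℂ G (Fin k → ℂ)), ρ.IsIrreducible → 2 ≤ k → B ≤ k)
    (H : Subgroup G) (hH : H ≠ ⊤) : B + 1 ≤ H.index := by
  classical
  letI : Fintype G := Fintype.ofFinite G
  letI : Fintype H := Fintype.ofFinite H
  have hone : IsIrrCharacter G (fun _ => (1 : ℂ)) := isIrrCharacter_one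
  have honeH : IsIrrCharacter H (fun _ => (1 : ℂ)) := isIrrCharacter_one
  obtain ⟨π, hπdef⟩ : ∃ π : G → ℂ, π = indFun H (fun _ : H => (1 : ℂ)) := ⟨_, rfl⟩
  have hπ : IsCharacter G π := by
    rw [hπdef]
    exact isCharacter_indFun H (isCharacter_of_isIrrCharacter honeH)
  have hπ1 : π 1 = (H.index : ℂ) := by
    rw [hπdef, indFun_one, mul_one]
  have hinner : classInner π (fun _ => (1 : ℂ)) = 1 := by
    rw [hπdef, frobenius_reciprocity H _
      (isClassFunction_of_isCharacter (isCharacter_of_isIrrCharacter hone))]
    unfold classInner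
    simp only [map_one, mul_one, Finset.sum_const, Finset.card_univ, nsmul_eq_mul]
    rw [← Nat.card_eq_fintype_card]
    have : (Nat.card H : ℂ) ≠ 0 := by
      have : Nat.card H ≠ 0 := Nat.card_pos.ne'
      exact_mod_cast this
    exact inv_mul_cancel₀ this
  have hsub : IsCharacter G (π - fun _ : G => (1 : ℂ)) :=
    isCharacter_sub_constituent hπ hone (by rw [hinner]; exact one_ne_zero)
  have hindex1 : H.index ≠ 1 := by
    rw [Ne, Subgroup.index_eq_one]
    exact hH
  have hindex0 : H.index ≠ 0 := Subgroup.index_ne_zero_of_finite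
  have hsub1 : (π - fun _ : G => (1 : ℂ)) 1 ≠ 0 := by
    rw [Pi.sub_apply, hπ1, sub_ne_zero]
    intro h
    apply hindex1
    exact_mod_cast h
  obtain ⟨θ, hθ, hθinner⟩ := exists_constituent hsub hsub1
  have hdeg := constituent_degree_le hsub hθ hθinner
  obtain ⟨k, ρ, hρ, hρθ⟩ := hθ
  have hθ1 : θ 1 = (k : ℂ) := by
    rw [← hρθ, Representation.char_one, Module.finrank_fin_fun]
  have hk2 : 2 ≤ k := by
    by_contra hk
    have hk1 : k ≤ 1 := by omega
    have htriv : ∀ g, ρ g = 1 := rep_trivial_of_perfect hperf k hk1 ρ
    have hθconst : θ = fun _ => (k : ℂ) := by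
      funext g
      rw [← hρθ]
      show LinearMap.trace ℂ _ (ρ g) = _
      rw [htriv g, LinearMap.trace_one, Module.finrank_fin_fun]
    have hk' : k = 0 ∨ k = 1 := by omega
    rcases hk' with hk0 | hk0
    · apply hθinner
      rw [hθconst, hk0]
      unfold classInner
      simp
    · apply hθinner
      rw [hθconst, hk0, Nat.cast_one, classInner_sub_left, hinner]
      have : classInner (fun _ : G => (1 : ℂ)) (fun _ => (1 : ℂ)) = 1 := by
        unfold classInner
        simp only [map_one, mul_one, Finset.sum_const, Finset.card_univ, nsmul_eq_mul]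
        rw [← Nat.card_eq_fintype_card]
        have : (Nat.card G : ℂ) ≠ 0 := by
          have : Nat.card G ≠ 0 := Nat.card_pos.ne'
          exact_mod_cast this
        exact inv_mul_cancel₀ this
      rw [this, sub_self]
  have hBk := hB k ρ hρ hk2
  rw [hθ1, Pi.sub_apply, hπ1] at hdeg
  simp only [Complex.natCast_re, Complex.sub_re, Complex.one_re] at hdeg
  have h3 : (k : ℝ) + 1 ≤ (H.index : ℝ) := by linarith
  have h4 : k + 1 ≤ H.index := by exact_mod_cast h3
  omega

/-- The generic case of the minimal index of a proper subgroup of `SL_n(q)`. -/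
theorem index_ge_generic {F : Type u} [Field F] [Fintype F] (n : ℕ) (hn : 3 ≤ n)
    (hex : (n, Fintype.card F) ≠ (3, 2) ∧ (n, Fintype.card F) ≠ (3, 4) ∧
      (n, Fintype.card F) ≠ (4, 2) ∧ (n, Fintype.card F) ≠ (4, 3))
    (H : Subgroup (Matrix.SpecialLinearGroup (Fin n) F)) (hH : H ≠ ⊤) :
    (Fintype.card F ^ n - 1) / (Fintype.card F - 1) ≤ H.index := by
  classical
  have hc : Fintype.card (Fin n) = n := Fintype.card_fin n
  have hb := Cfsg.Agent.Helper12.LSL.sl_lower_bound (F := F) (ι := Fin n) (by rw [hc]; exact hn)
    (by rw [hc]; exact hex)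
  rw [hc] at hb
  have h := index_ge_of_degree_bound (Cfsg.Agent.Helper6.SLn.commutator_SL_eq_top (F := F) hn) _ hb H hH
  have hq : 2 ≤ Fintype.card F := Fintype.one_lt_card
  have hqn : Fintype.card F ≤ Fintype.card F ^ n := by
    calc Fintype.card F = Fintype.card F ^ 1 := (pow_one _).symm
      _ ≤ Fintype.card F ^ n := Nat.pow_le_pow_right (by omega) (by omega)
  have hdvd : (Fintype.card F - 1) ∣ (Fintype.card F ^ n - Fintype.card F) := by
    have h1 : (Fintype.card F - 1) ∣ (Fintype.card F ^ (n - 1) - 1) := by
      have := Nat.sub_dvd_pow_sub_pow (Fintype.card F) 1 (n - 1)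
      rwa [one_pow] at this
    have h2 : Fintype.card F ^ n - Fintype.card F = Fintype.card F * (Fintype.card F ^ (n - 1) - 1) := by
      have : n = (n - 1) + 1 := by omega
      conv_lhs => rw [this, pow_succ]
      rw [Nat.mul_sub, mul_one, mul_comm]
    rw [h2]
    exact Dvd.dvd.mul_left h1 _
  obtain ⟨c, hc'⟩ := hdvd
  have hpos : 0 < Fintype.card F - 1 := by omega
  have h5 : (Fintype.card F ^ n - Fintype.card F) / (Fintype.card F - 1) = c := by
    rw [hc']
    exact Nat.mul_div_cancel_left c hpos
  have h6 : (Fintype.card F ^ n - 1) / (Fintype.card F - 1) = c + 1 := by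
    have : Fintype.card F ^ n - 1 = (Fintype.card F - 1) * (c + 1) := by
      rw [mul_add, mul_one, ← hc']
      omega
    rw [this]
    exact Nat.mul_div_cancel_left _ hpos
  rw [h6]
  rw [h5] at h
  exact h

end Cfsg.Agent.Helper12.MinIdx
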