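import Mathlib
import Cfsg.Agent.Lib.Helper12.MinIdxGen
import Cfsg.Agent.Lib.Helper12.MinIdxExc

/-!
# The smallest index of a proper subgroup of `SL_n(q)` and `PSL_n(q)`, `n ≥ 3`, `(n, q) ≠ (4, 2)`
-/

set_option autoImplicit false

namespace Cfsg.Agent.Helper12.MinIdx

open Matrix Cfsg.Agent.Helper12 Cfsg.Agent.Helper12.LSL

universe u

variable {F : Type u} [Field F] [Fintype F]

theorem sl_index_ge (n : ℕ) (hn : 3 ≤ n) (hexc : ¬ (n = 4 ∧ Fintype.card F = 2))
    (H : Subgroup (Matrix.SpecialLinearGroup (Fin n) F)) (hH : H ≠ ⊤) :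
    (Fintype.card F ^ n - 1) / (Fintype.card F - 1) ≤ H.index := by
  classical
  by_cases hgen : (n, Fintype.card F) ≠ (3, 2) ∧ (n, Fintype.card F) ≠ (3, 4) ∧
      (n, Fintype.card F) ≠ (4, 2) ∧ (n, Fintype.card F) ≠ (4, 3)
  · exact index_ge_generic n hn hgen H hH
  · have hexc' : (n, Fintype.card F) = (3, 2) ∨ (n, Fintype.card F) = (3, 4) ∨
        (n, Fintype.card F) = (4, 3) := by
      by_contra hcon
      push Not at hcon
      apply hgen
      refine ⟨hcon.1, hcon.2.1, ?_, hcon.2.2⟩
      intro h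
      obtain ⟨h1, h2⟩ := Prod.mk.inj h
      exact hexc ⟨h1, h2⟩
    letI : Fintype (Matrix.SpecialLinearGroup (Fin n) F ⧸ H) := Fintype.ofFinite _
    have hidx : H.index = Fintype.card (Matrix.SpecialLinearGroup (Fin n) F ⧸ H) := by
      rw [Subgroup.index, Nat.card_eq_fintype_card]
    rw [hidx]
    apply exc_bound n hexc'
    rw [← hidx]
    have h0 : H.index ≠ 0 := Subgroup.index_ne_zero_of_finite
    have h1 : H.index ≠ 1 := by
      rw [Ne, Subgroup.index_eq_one]
      exact hH
    omega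

theorem center_le_lineStab {ι : Type*} [Fintype ι] [DecidableEq ι] (i₀ : ι) :
    Subgroup.center (Matrix.SpecialLinearGroup ι F) ≤ lineStab (F := F) i₀ := by
  intro g hg
  rw [Matrix.SpecialLinearGroup.mem_center_iff] at hg
  obtain ⟨r, -, hr⟩ := hg
  refine ⟨r, ?_⟩
  rw [Matrix.SpecialLinearGroup.smul_def, Matrix.smul_eq_mulVec, ← hr]
  funext j
  simp [Matrix.mulVec, dotProduct, Matrix.scalar_apply, Matrix.diagonal_apply, Pi.single_apply]

theorem psl_index (n : ℕ) (hn : 3 ≤ n) (hexc : ¬ (n = 4 ∧ Fintype.card F = 2)) :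
    (∀ H : Subgroup (Matrix.ProjectiveSpecialLinearGroup (Fin n) F), H ≠ ⊤ →
      (Fintype.card F ^ n - 1) / (Fintype.card F - 1) ≤ H.index) ∧
    (∃ H : Subgroup (Matrix.ProjectiveSpecialLinearGroup (Fin n) F),
      H.index = (Fintype.card F ^ n - 1) / (Fintype.card F - 1)) := by
  classical
  have hsurj : Function.Surjective
      (QuotientGroup.mk' (Subgroup.center (Matrix.SpecialLinearGroup (Fin n) F))) :=
    QuotientGroup.mk'_surjective _
  constructor
  · intro H hH
    have hidx := Subgroup.index_comap_of_surjective (H := H) hsurj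
    rw [← hidx]
    apply sl_index_ge n hn hexc
    intro htop
    rw [htop, Subgroup.index_top] at hidx
    apply hH
    exact Subgroup.index_eq_one.mp hidx.symm
  · have h0 : 0 < n := by omega
    refine ⟨(lineStab (F := F) (⟨0, h0⟩ : Fin n)).map
      (QuotientGroup.mk' (Subgroup.center (Matrix.SpecialLinearGroup (Fin n) F))), ?_⟩
    rw [Subgroup.index_map, QuotientGroup.ker_mk', sup_eq_left.mpr (center_le_lineStab _),
      MonoidHom.range_eq_top.mpr hsurj, Subgroup.index_top, mul_one]
    have h := index_lineStab_mul (F := F) (ι := Fin n) (by rw [Fintype.card_fin]; omega)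
      (⟨0, h0⟩ : Fin n)
    rw [Fintype.card_fin] at h
    have hq : 2 ≤ Fintype.card F := Fintype.one_lt_card
    symm
    apply Nat.div_eq_of_eq_mul_left (by omega)
    exact h.symm

end Cfsg.Agent.Helper12.MinIdx
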