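import Mathlib
import Cfsg.Agent.Lib.Helper21.N9KDefs
import Cfsg.Agent.Lib.Helper22.N9TRA

/-!
# S3702 GROUP piece CENT (helper12, for helper21): centralizer orders are transported along `c.ι`
-/

set_option autoImplicit false
set_option linter.unusedSectionVars false
set_option linter.unusedVariables false

namespace Cfsg.Agent.Helper21.N9

open Cfsg Cfsg.Agent.Helper16

universe u

section Transport

variable {G : Type u} [Group G] [Finite G] {H J : Subgroup G}

/-- an element of `G` centralizing `ι x` lies in `H`, if a power of `x` lies in `J0 ∖ 1` -/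
theorem cent_mem_H (c : Cfg H J) (x : ↥K0) (k : ℕ) (hk : x ^ k ∈ J0) (hk1 : x ^ k ≠ 1) {g : G}
    (hg : g ∈ Subgroup.centralizer ({c.ι x} : Set G)) : g ∈ H := by
  have hJ : c.ι (x ^ k) ∈ J := (ι_mem_J c (x ^ k)).mpr hk
  have h1 : c.ι (x ^ k) ≠ 1 := by
    intro h
    apply hk1
    apply ι_injective c
    rw [h, map_one]
  apply c.hC _ hJ h1
  rw [Subgroup.mem_centralizer_singleton_iff] at hg ⊢
  rw [map_pow]
  exact ((Commute.pow_right (show Commute g (c.ι x) from hg) k)).eq

/-- PIECE S3702-GR-CENT -/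
theorem card_centralizer_ι (c : Cfg H J) (x : ↥K0) (k : ℕ) (hk : x ^ k ∈ J0) (hk1 : x ^ k ≠ 1) :
    Nat.card (Subgroup.centralizer ({c.ι x} : Set G)) =
      Nat.card (Subgroup.centralizer ({x} : Set ↥K0)) := by
  symm
  refine Nat.card_congr (Equiv.ofBijective
    (fun y : Subgroup.centralizer ({x} : Set ↥K0) =>
      (⟨c.ι (y : ↥K0), ?_⟩ : Subgroup.centralizer ({c.ι x} : Set G))) ⟨?_, ?_⟩)
  · have hy := y.2
    rw [Subgroup.mem_centralizer_singleton_iff] at hy ⊢
    rw [← map_mul, ← map_mul, hy]
  · intro y y' h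
    apply Subtype.ext
    have h2 := congrArg (fun z : Subgroup.centralizer ({c.ι x} : Set G) => (z : G)) h
    exact ι_injective c h2
  · intro g
    have hgH : (g : G) ∈ H := cent_mem_H c x k hk hk1 g.2
    obtain ⟨y, hy⟩ := exists_ι c hgH
    have hg := g.2
    rw [Subgroup.mem_centralizer_singleton_iff] at hg
    refine ⟨⟨y, ?_⟩, ?_⟩
    · rw [Subgroup.mem_centralizer_singleton_iff]
      apply ι_injective c
      rw [map_mul, map_mul, hy]
      exact hg
    · apply Subtype.ext
      exact hy

end Transport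

end Cfsg.Agent.Helper21.N9
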