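import Mathlib
import Cfsg.Prelude.Def_LocalStructure
import Cfsg.Agent.Lib.Helper15.NPCDefs

/-!
# S3875 piece FROB (helper12): the group `GF(m) ⋊ C_p` of order `p m` is not `p`-closed
-/

set_option autoImplicit false
set_option linter.style.haveILetI false
open Cfsg

namespace Cfsg.Agent.Helper15.NPC

namespace FROB

/-- an element killed by two coprime powers is trivial -/
theorem eq_one_of_pow_coprime {H : Type*} [Group H] {x : H} {a b : ℕ} (hab : Nat.Coprime a b)
    (ha : x ^ a = 1) (hb : x ^ b = 1) : x = 1 := by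
  have h1 : orderOf x ∣ a := orderOf_dvd_of_pow_eq_one ha
  have h2 : orderOf x ∣ b := orderOf_dvd_of_pow_eq_one hb
  have h3 : orderOf x ∣ 1 := by
    have := Nat.dvd_gcd h1 h2
    rwa [Nat.Coprime.gcd_eq_one hab] at this
  exact orderOf_eq_one_iff.mp (Nat.dvd_one.mp h3)

/-- multiplication by a unit, as an automorphism of the additive group written multiplicatively -/
def mulAut (F : Type*) [Field F] : Fˣ →* MulAut (Multiplicative F) where
  toFun c :=
    { toFun := fun x => Multiplicative.ofAdd ((c : F) * x.toAdd)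
      invFun := fun x => Multiplicative.ofAdd (((c⁻¹ : Fˣ) : F) * x.toAdd)
      left_inv := fun x => by
        apply Multiplicative.toAdd.injective
        simp [← mul_assoc]
      right_inv := fun x => by
        apply Multiplicative.toAdd.injective
        simp [← mul_assoc]
      map_mul' := fun x y => by
        apply Multiplicative.toAdd.injective
        simp [mul_add] }
  map_one' := by
    apply MulEquiv.ext
    intro x
    apply Multiplicative.toAdd.injective
    simp
  map_mul' c d := by
    apply MulEquiv.ext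
    intro x
    apply Multiplicative.toAdd.injective
    simp [mul_assoc]

theorem mulAut_apply (F : Type*) [Field F] (c : Fˣ) (x : Multiplicative F) :
    mulAut F c x = Multiplicative.ofAdd ((c : F) * x.toAdd) := rfl

end FROB

/-! ## Piece FROB (id S3875-FROB): the group `GF(m) ⋊ C_p` -/

theorem exists_frobenius (p : ℕ) [Fact p.Prime] (m : ℕ) (hm : IsPrimePow m) (hm1 : m % p = 1) :
    ∃ (H : Type) (_ : Group H) (_ : Finite H), Nat.card H = p * m ∧ ¬ IsPClosed p H := by
  classical
  have hpp : p.Prime := Fact.out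
  obtain ⟨r, a, hr, ha, rfl⟩ := hm
  have hrp : r.Prime := hr.nat_prime
  haveI : Fact r.Prime := ⟨hrp⟩
  have ha0 : a ≠ 0 := Nat.pos_iff_ne_zero.mp ha
  have hcardF : Nat.card (GaloisField r a) = r ^ a := GaloisField.card r a ha0
  haveI : Finite (GaloisField r a) := Nat.finite_of_card_ne_zero (by
    rw [hcardF]; exact pow_ne_zero _ hrp.ne_zero)
  haveI : Fintype (GaloisField r a) := Fintype.ofFinite _
  -- `p` and `r ^ a` are coprime
  have hcop : Nat.Coprime p (r ^ a) := by
    rw [Nat.Prime.coprime_iff_not_dvd hpp]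
    intro hdvd
    have := Nat.mod_eq_zero_of_dvd hdvd
    omega
  -- a unit of order `p`
  have hcardU : Nat.card (GaloisField r a)ˣ = r ^ a - 1 := by
    rw [Nat.card_units, hcardF]
  have hdvd : p ∣ Nat.card (GaloisField r a)ˣ := by
    rw [hcardU]
    have h1 : 1 ≤ r ^ a := Nat.one_le_pow _ _ hrp.pos
    exact (Nat.modEq_iff_dvd' h1).mp (by
      show 1 % p = r ^ a % p
      rw [hm1, Nat.mod_eq_of_lt hpp.one_lt])
  obtain ⟨ζ, hζ⟩ := exists_prime_orderOf_dvd_card' p hdvd
  -- the semidirect product
  let φ : Subgroup.zpowers ζ →* MulAut (Multiplicative (GaloisField r a)) :=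
    (FROB.mulAut (GaloisField r a)).comp (Subgroup.zpowers ζ).subtype
  haveI : Finite (Multiplicative (GaloisField r a) ⋊[φ] Subgroup.zpowers ζ) :=
    Finite.of_equiv _ SemidirectProduct.equivProd.symm
  refine ⟨Multiplicative (GaloisField r a) ⋊[φ] Subgroup.zpowers ζ, inferInstance,
    inferInstance, ?_, ?_⟩
  · rw [SemidirectProduct.card, Nat.card_zpowers, hζ]
    show Nat.card (GaloisField r a) * p = p * r ^ a
    rw [hcardF, mul_comm]
  · intro hcl
    set σ : Multiplicative (GaloisField r a) ⋊[φ] Subgroup.zpowers ζ :=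
      SemidirectProduct.inr ⟨ζ, Subgroup.mem_zpowers ζ⟩ with hσ
    -- `σ` has `p`-power order
    have hσp : σ ^ p = 1 := by
      rw [hσ, ← map_pow]
      have : (⟨ζ, Subgroup.mem_zpowers ζ⟩ : Subgroup.zpowers ζ) ^ p = 1 := by
        apply Subtype.ext
        show ζ ^ p = 1
        rw [← hζ, pow_orderOf_eq_one]
      rw [this, map_one]
    have hζ1 : ζ ≠ 1 := by
      intro e
      rw [e, orderOf_one] at hζ
      exact hpp.one_lt.ne hζ
    have hσ1 : σ ≠ 1 := by
      intro e
      have h1 := congrArg SemidirectProduct.right e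
      rw [hσ, SemidirectProduct.right_inr, SemidirectProduct.one_right] at h1
      exact hζ1 (congrArg Subtype.val h1)
    have hσord : orderOf σ = p := orderOf_eq_prime hσp hσ1
    have hQ : IsPGroup p (Subgroup.zpowers σ) :=
      IsPGroup.of_card (n := 1) (by rw [Nat.card_zpowers, hσord, pow_one])
    obtain ⟨P, hP⟩ := hQ.exists_le_sylow
    have hPn : (P : Subgroup (Multiplicative (GaloisField r a) ⋊[φ] Subgroup.zpowers ζ)).Normal :=
      hcl P
    have hσP : σ ∈ (P : Subgroup (Multiplicative (GaloisField r a) ⋊[φ] Subgroup.zpowers ζ)) :=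
      hP (Subgroup.mem_zpowers σ)
    -- the commutator of the translation by `1` with `σ`
    set b : Multiplicative (GaloisField r a) ⋊[φ] Subgroup.zpowers ζ :=
      SemidirectProduct.inl (Multiplicative.ofAdd (1 : GaloisField r a)) with hb
    have hxP : b * σ * b⁻¹ * σ⁻¹ ∈
        (P : Subgroup (Multiplicative (GaloisField r a) ⋊[φ] Subgroup.zpowers ζ)) :=
      Subgroup.mul_mem _ (hPn.conj_mem σ hσP b) (Subgroup.inv_mem _ hσP)
    have hx : b * σ * b⁻¹ * σ⁻¹ =
        SemidirectProduct.inl (Multiplicative.ofAdd ((1 : GaloisField r a) - (ζ : GaloisField r a))) := by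
      have h1 : σ * b⁻¹ * σ⁻¹ = SemidirectProduct.inl
          (φ ⟨ζ, Subgroup.mem_zpowers ζ⟩ (Multiplicative.ofAdd (1 : GaloisField r a))⁻¹) := by
        rw [SemidirectProduct.inl_aut, hb, hσ, map_inv, map_inv]
      rw [mul_assoc, mul_assoc, ← mul_assoc σ, h1, hb, ← map_mul]
      congr 1
      show Multiplicative.ofAdd (1 : GaloisField r a) *
        FROB.mulAut (GaloisField r a) ζ (Multiplicative.ofAdd (1 : GaloisField r a))⁻¹ = _
      rw [FROB.mulAut_apply]
      apply Multiplicative.toAdd.injective
      simp [sub_eq_add_neg]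
    rw [hx] at hxP
    -- it has order dividing `r ^ a` and a power of `p`
    set y : Multiplicative (GaloisField r a) :=
      Multiplicative.ofAdd ((1 : GaloisField r a) - (ζ : GaloisField r a)) with hy
    have h1 : (SemidirectProduct.inl y : Multiplicative (GaloisField r a) ⋊[φ] Subgroup.zpowers ζ) ^
        (r ^ a) = 1 := by
      rw [← map_pow]
      have : y ^ (r ^ a) = 1 := by
        rw [← hcardF]
        exact pow_card_eq_one'
      rw [this, map_one]
    obtain ⟨k, hk⟩ := (IsPGroup.iff_orderOf.mp P.isPGroup') ⟨_, hxP⟩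
    have h2 : (SemidirectProduct.inl y : Multiplicative (GaloisField r a) ⋊[φ] Subgroup.zpowers ζ) ^
        (p ^ k) = 1 := by
      have h3 : orderOf (SemidirectProduct.inl y :
          Multiplicative (GaloisField r a) ⋊[φ] Subgroup.zpowers ζ) = p ^ k := by
        rw [← hk]
        exact (Subgroup.orderOf_mk _ hxP).symm
      rw [← h3, pow_orderOf_eq_one]
    have h4 := FROB.eq_one_of_pow_coprime (Nat.Coprime.pow_left k hcop) h2 h1
    have h5 : y = 1 := SemidirectProduct.inl_injective (by rw [h4, map_one])
    have h6 : (1 : GaloisField r a) - (ζ : GaloisField r a) = 0 := by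
      have := congrArg Multiplicative.toAdd h5
      simpa [hy] using this
    apply hζ1
    apply Units.ext
    rw [Units.val_one]
    exact (sub_eq_zero.mp h6).symm
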