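import Mathlib
import Cfsg.Prelude.Def_LocalStructure
import Cfsg.Agent.Lib.Helper15.NPCDefs
import Cfsg.Agent.Lib.Helper2.CardSL

/-!
# S3875 piece PSL (helper12): `PSL(2,p)` has order `p (p^2 - 1) / 2` and is not `p`-closed
-/

set_option autoImplicit false
set_option linter.style.haveILetI false
open Cfsg

namespace Cfsg.Agent.Helper15.NPC

namespace PSL

open Matrix

/-- the upper unitriangular transvection -/
def upper (F : Type*) [CommRing F] : SpecialLinearGroup (Fin 2) F :=
  ⟨!![1, 1; 0, 1], by simp [Matrix.det_fin_two_of]⟩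

/-- the lower unitriangular transvection -/
def lower (F : Type*) [CommRing F] : SpecialLinearGroup (Fin 2) F :=
  ⟨!![1, 0; 1, 1], by simp [Matrix.det_fin_two_of]⟩

theorem upper_mat_pow (F : Type*) [CommRing F] (n : ℕ) :
    (!![1, 1; 0, 1] : Matrix (Fin 2) (Fin 2) F) ^ n = !![1, (n : F); 0, 1] := by
  induction n with
  | zero => simp [Matrix.one_fin_two]
  | succ n ih =>
    rw [pow_succ, ih]
    simp [add_comm]

theorem lower_mat_pow (F : Type*) [CommRing F] (n : ℕ) :
    (!![1, 0; 1, 1] : Matrix (Fin 2) (Fin 2) F) ^ n = !![1, 0; (n : F), 1] := by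
  induction n with
  | zero => simp [Matrix.one_fin_two]
  | succ n ih =>
    rw [pow_succ, ih]
    simp

theorem upper_pow_char (F : Type*) [CommRing F] (p : ℕ) [CharP F p] : upper F ^ p = 1 := by
  apply Matrix.SpecialLinearGroup.ext
  intro i j
  rw [Matrix.SpecialLinearGroup.coe_pow, Matrix.SpecialLinearGroup.coe_one]
  show ((!![1, 1; 0, 1] : Matrix (Fin 2) (Fin 2) F) ^ p) i j = (1 : Matrix (Fin 2) (Fin 2) F) i j
  rw [upper_mat_pow]
  simp [Matrix.one_fin_two]

theorem lower_pow_char (F : Type*) [CommRing F] (p : ℕ) [CharP F p] : lower F ^ p = 1 := by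
  apply Matrix.SpecialLinearGroup.ext
  intro i j
  rw [Matrix.SpecialLinearGroup.coe_pow, Matrix.SpecialLinearGroup.coe_one]
  show ((!![1, 0; 1, 1] : Matrix (Fin 2) (Fin 2) F) ^ p) i j = (1 : Matrix (Fin 2) (Fin 2) F) i j
  rw [lower_mat_pow]
  simp [Matrix.one_fin_two]

theorem upper_coe (F : Type*) [CommRing F] :
    ((upper F : SpecialLinearGroup (Fin 2) F) : Matrix (Fin 2) (Fin 2) F) = !![1, 1; 0, 1] := rfl

theorem lower_coe (F : Type*) [CommRing F] :
    ((lower F : SpecialLinearGroup (Fin 2) F) : Matrix (Fin 2) (Fin 2) F) = !![1, 0; 1, 1] := rfl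

/-- the images of the two transvections in `PSL(2,F)` do not commute -/
theorem not_commute (F : Type*) [CommRing F] [Nontrivial F] :
    ((upper F : SpecialLinearGroup (Fin 2) F) : ProjectiveSpecialLinearGroup (Fin 2) F) *
        ((lower F : SpecialLinearGroup (Fin 2) F) : ProjectiveSpecialLinearGroup (Fin 2) F) ≠
      ((lower F : SpecialLinearGroup (Fin 2) F) : ProjectiveSpecialLinearGroup (Fin 2) F) *
        ((upper F : SpecialLinearGroup (Fin 2) F) : ProjectiveSpecialLinearGroup (Fin 2) F) := by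
  intro h
  rw [← QuotientGroup.mk_mul, ← QuotientGroup.mk_mul, QuotientGroup.eq,
    Matrix.SpecialLinearGroup.mem_center_iff] at h
  obtain ⟨r, -, hr⟩ := h
  have h2 : (lower F * upper F : SpecialLinearGroup (Fin 2) F) =
      (upper F * lower F) * ((upper F * lower F)⁻¹ * (lower F * upper F)) := by
    rw [mul_inv_cancel_left]
  have h3 : ∀ i j, (lower F * upper F : SpecialLinearGroup (Fin 2) F) i j =
      ((upper F * lower F : SpecialLinearGroup (Fin 2) F).1 * Matrix.scalar (Fin 2) r) i j := by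
    intro i j
    rw [hr]
    conv_lhs => rw [h2]
    rw [Matrix.SpecialLinearGroup.coe_mul]
  have e01 := h3 0 1
  have e00 := h3 0 0
  rw [Matrix.SpecialLinearGroup.coe_mul] at e01 e00
  simp only [Matrix.SpecialLinearGroup.coe_mul, upper_coe, lower_coe] at e01 e00
  simp [Matrix.mul_apply, Fin.sum_univ_two] at e01 e00
  subst e01
  have : (1 : F) = 0 := by
    have h := e00
    rw [mul_one] at h
    exact (add_eq_left.mp h.symm)
  exact one_ne_zero this

/-- the order of `PSL(2,p)` -/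
theorem card_psl (p : ℕ) [Fact p.Prime] (hp3 : 3 ≤ p) :
    2 * Nat.card (ProjectiveSpecialLinearGroup (Fin 2) (ZMod p)) = p * (p ^ 2 - 1) := by
  have hpp : p.Prime := Fact.out
  have h1 := Cfsg.Agent.Helper2.card_PSL_mul (F := ZMod p) 2 (by norm_num)
  rw [Fin.prod_univ_two, ZMod.card] at h1
  simp only [Fin.val_zero, pow_zero, Fin.val_one, pow_one] at h1
  have hodd : Odd p := hpp.odd_of_ne_two (by omega)
  have hg : Nat.gcd 2 (p - 1) = 2 := by
    obtain ⟨k, hk⟩ := hodd
    have : p - 1 = 2 * k := by omega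
    rw [this]
    exact Nat.gcd_mul_right_right k 2
  rw [hg] at h1
  have hp1 : 0 < p - 1 := by omega
  have h2 : p ^ 2 - p = p * (p - 1) := by
    rw [Nat.mul_sub, mul_one, sq]
  rw [h2] at h1
  have h3 : (p - 1) * (2 * Nat.card (ProjectiveSpecialLinearGroup (Fin 2) (ZMod p))) =
      (p - 1) * (p * (p ^ 2 - 1)) := by
    calc (p - 1) * (2 * Nat.card (ProjectiveSpecialLinearGroup (Fin 2) (ZMod p)))
        = 2 * ((p - 1) * Nat.card (ProjectiveSpecialLinearGroup (Fin 2) (ZMod p))) := by ring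
      _ = (p ^ 2 - 1) * (p * (p - 1)) := h1
      _ = (p - 1) * (p * (p ^ 2 - 1)) := by ring
  exact Nat.eq_of_mul_eq_mul_left hp1 h3

end PSL

/-! ## Piece PSL (id S3875-PSL): `PSL(2,p)` -/

theorem exists_psl (p : ℕ) [Fact p.Prime] (hp5 : 5 ≤ p) :
    ∃ (H : Type) (_ : Group H) (_ : Finite H), Nat.card H = p * (p ^ 2 - 1) / 2 ∧
      ¬ IsPClosed p H := by
  classical
  have hpp : p.Prime := Fact.out
  have hcard := PSL.card_psl p (by omega)
  refine ⟨Matrix.ProjectiveSpecialLinearGroup (Fin 2) (ZMod p), inferInstance, inferInstance,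
    ?_, ?_⟩
  · rw [← hcard, Nat.mul_div_cancel_left _ (by norm_num)]
  · intro hcl
    set u : Matrix.ProjectiveSpecialLinearGroup (Fin 2) (ZMod p) :=
      ((PSL.upper (ZMod p) : Matrix.SpecialLinearGroup (Fin 2) (ZMod p)) :
        Matrix.ProjectiveSpecialLinearGroup (Fin 2) (ZMod p)) with hu
    set v : Matrix.ProjectiveSpecialLinearGroup (Fin 2) (ZMod p) :=
      ((PSL.lower (ZMod p) : Matrix.SpecialLinearGroup (Fin 2) (ZMod p)) :
        Matrix.ProjectiveSpecialLinearGroup (Fin 2) (ZMod p)) with hv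
    have hup : u ^ p = 1 := by
      rw [hu, ← QuotientGroup.mk_pow, PSL.upper_pow_char (ZMod p) p]
      rfl
    have hvp : v ^ p = 1 := by
      rw [hv, ← QuotientGroup.mk_pow, PSL.lower_pow_char (ZMod p) p]
      rfl
    -- both lie in Sylow subgroups
    have hpg : ∀ x : Matrix.ProjectiveSpecialLinearGroup (Fin 2) (ZMod p), x ^ p = 1 →
        IsPGroup p (Subgroup.zpowers x) := by
      intro x hx
      rw [IsPGroup.iff_card]
      rw [Nat.card_zpowers]
      have := orderOf_dvd_of_pow_eq_one hx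
      rcases (Nat.dvd_prime hpp).mp this with h | h
      · exact ⟨0, by rw [h, pow_zero]⟩
      · exact ⟨1, by rw [h, pow_one]⟩
    obtain ⟨P, hP⟩ := (hpg u hup).exists_le_sylow
    obtain ⟨Q, hQ⟩ := (hpg v hvp).exists_le_sylow
    have hPn : (P : Subgroup (Matrix.ProjectiveSpecialLinearGroup (Fin 2) (ZMod p))).Normal :=
      hcl P
    haveI := Sylow.unique_of_normal P hPn
    have hQP : Q = P := Subsingleton.elim _ _
    have huP : u ∈ (P : Subgroup (Matrix.ProjectiveSpecialLinearGroup (Fin 2) (ZMod p))) :=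
      hP (Subgroup.mem_zpowers u)
    have hvP : v ∈ (P : Subgroup (Matrix.ProjectiveSpecialLinearGroup (Fin 2) (ZMod p))) := by
      rw [← hQP]
      exact hQ (Subgroup.mem_zpowers v)
    -- `P` has order dividing `p`
    obtain ⟨k, hk⟩ := IsPGroup.iff_card.mp P.isPGroup'
    have hdvd : p ^ k ∣ p * (p ^ 2 - 1) := by
      rw [← hk, ← hcard]
      exact Dvd.dvd.mul_left (Subgroup.card_subgroup_dvd_card _) 2
    have hcop : Nat.Coprime (p ^ k) (p ^ 2 - 1) := by
      apply Nat.Coprime.pow_left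
      rw [Nat.Prime.coprime_iff_not_dvd hpp]
      intro h
      have h1 : p ∣ p ^ 2 := dvd_pow_self p (by norm_num)
      have h2 : 1 ≤ p ^ 2 := Nat.one_le_pow _ _ hpp.pos
      have h3 : p ∣ p ^ 2 - (p ^ 2 - 1) := Nat.dvd_sub h1 h
      have h4 : p ^ 2 - (p ^ 2 - 1) = 1 := by omega
      rw [h4] at h3
      exact hpp.one_lt.ne' (Nat.dvd_one.mp h3)
    have hdvd' : Nat.card (P : Subgroup (Matrix.ProjectiveSpecialLinearGroup (Fin 2) (ZMod p))) ∣
        p := by
      rw [hk]
      exact hcop.dvd_of_dvd_mul_right hdvd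
    haveI : IsCyclic (P : Subgroup (Matrix.ProjectiveSpecialLinearGroup (Fin 2) (ZMod p))) :=
      isCyclic_of_card_dvd_prime hdvd'
    letI := IsCyclic.commGroup
      (α := (P : Subgroup (Matrix.ProjectiveSpecialLinearGroup (Fin 2) (ZMod p))))
    have := mul_comm
      (⟨u, huP⟩ : (P : Subgroup (Matrix.ProjectiveSpecialLinearGroup (Fin 2) (ZMod p))))
      ⟨v, hvP⟩
    have h' : u * v = v * u := congrArg Subtype.val this
    exact PSL.not_commute (ZMod p) h'

end Cfsg.Agent.Helper15.NPC
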