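import Mathlib
import Cfsg.Agent.Lib.Helper26.NSEDefs

/-!
# S3431 piece A6FACTS (helper12): first consequences of `nse = {1, 45, 80, 90, 144}`
-/

set_option autoImplicit false

namespace Cfsg.Agent.Helper26.NSE

namespace A6FACTS

variable {N : ℕ} {s np : ℕ → ℕ}

theorem vals (h : IsNse s {1, 45, 80, 90, 144}) (m : ℕ) :
    s m = 0 ∨ s m = 1 ∨ s m = 45 ∨ s m = 80 ∨ s m = 90 ∨ s m = 144 := by
  rcases h.1 m with h0 | hm
  · exact Or.inl h0
  · right
    simpa using hm

theorem vals_even (C : Ctx N s np) (h : IsNse s {1, 45, 80, 90, 144}) {m : ℕ} (hm : 3 ≤ m) :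
    s m = 0 ∨ s m = 80 ∨ s m = 90 ∨ s m = 144 := by
  have h2 := C.even_of_three_le hm
  rcases vals h m with h0 | h0 | h0 | h0 | h0 | h0 <;> omega

theorem s_two (C : Ctx N s np) (h : IsNse s {1, 45, 80, 90, 144}) : s 2 = 45 :=
  C.s_two_of_odd h (by simp) (by norm_num) (by norm_num)

theorem two_dvd (C : Ctx N s np) (h : IsNse s {1, 45, 80, 90, 144}) : 2 ∣ N :=
  C.dvd 2 (by rw [s_two C h]; norm_num)

/-- the Frobenius congruence for a prime -/
theorem frob_prime (C : Ctx N s np) {p : ℕ} (hp : p.Prime) (hpN : p ∣ N) : p ∣ 1 + s p := by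
  have h := C.frob p hpN
  rw [Nat.Prime.divisors hp, Finset.sum_pair hp.one_lt.ne, C.s_one] at h
  exact h

/-- an odd prime divisor of `N` is `3`, `5` or `7`, and `s` is known there -/
theorem odd_prime (C : Ctx N s np) (h : IsNse s {1, 45, 80, 90, 144}) {p : ℕ} (hp : p.Prime)
    (hpN : p ∣ N) (hp2 : p ≠ 2) :
    (p = 3 ∧ s 3 = 80) ∨ (p = 5 ∧ s 5 = 144) ∨ (p = 7 ∧ s 7 = 90) := by
  have hp3 : 3 ≤ p := by
    have := hp.two_le
    omega
  have hne : s p ≠ 0 := C.cauchy p hp hpN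
  have hfr := frob_prime C hp hpN
  have htot : p - 1 ∣ s p := by
    have := C.tot p
    rwa [Nat.totient_prime hp] at this
  rcases vals_even C h hp3 with h0 | h0 | h0 | h0
  · exact absurd h0 hne
  · -- `p ∣ 81`
    rw [h0] at hfr
    have h3 : p ∣ 3 := hp.dvd_of_dvd_pow (show p ∣ 3 ^ 4 by norm_num; exact hfr)
    have : p = 3 := (Nat.prime_dvd_prime_iff_eq hp Nat.prime_three).mp h3
    subst this
    exact Or.inl ⟨rfl, h0⟩
  · -- `p ∣ 91 = 7 * 13`
    rw [h0] at hfr htot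
    have h7 : p ∣ 7 * 13 := by norm_num; exact hfr
    rcases (Nat.Prime.dvd_mul hp).mp h7 with h7 | h13
    · have : p = 7 := (Nat.prime_dvd_prime_iff_eq hp (by norm_num)).mp h7
      subst this
      exact Or.inr (Or.inr ⟨rfl, h0⟩)
    · have : p = 13 := (Nat.prime_dvd_prime_iff_eq hp (by norm_num)).mp h13
      subst this
      omega
  · -- `p ∣ 145 = 5 * 29`
    rw [h0] at hfr htot
    have h5 : p ∣ 5 * 29 := by norm_num; exact hfr
    rcases (Nat.Prime.dvd_mul hp).mp h5 with h5 | h29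
    · have : p = 5 := (Nat.prime_dvd_prime_iff_eq hp Nat.prime_five).mp h5
      subst this
      exact Or.inr (Or.inl ⟨rfl, h0⟩)
    · have : p = 29 := (Nat.prime_dvd_prime_iff_eq hp (by norm_num)).mp h29
      subst this
      omega

theorem not_seven (C : Ctx N s np) (h : IsNse s {1, 45, 80, 90, 144}) : ¬ 7 ∣ N := by
  intro h7
  have hs7 : s 7 = 90 := by
    rcases odd_prime C h (by norm_num : Nat.Prime 7) h7 (by norm_num) with h1 | h1 | h1
    · omega
    · omega
    · exact h1.2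
  have h49 : ¬ 7 ^ 2 ∣ N := by
    intro h49
    have h49' : 49 ∣ N := by norm_num at h49; exact h49
    have ht := C.tot 49
    rw [show Nat.totient 49 = 42 by decide] at ht
    have hs49 : s 49 = 0 := by
      rcases vals h 49 with h0 | h0 | h0 | h0 | h0 | h0 <;> omega
    have hf := C.frob 49 h49'
    simp [Nat.divisors_ofNat] at hf
    rw [C.s_one, hs7, hs49] at hf
    omega
  have hcyc := C.cyc 7 1 (by norm_num) (by norm_num) (by rw [pow_one]; exact h7)
    (by norm_num at h49 ⊢; exact h49) (by rw [pow_one, hs7]; norm_num)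
  rw [pow_one, hs7, Nat.totient_prime (by norm_num : Nat.Prime 7)] at hcyc
  have hnp : np 7 = 15 := by omega
  have h14 : 14 ∣ N :=
    Nat.Coprime.mul_dvd_of_dvd_of_dvd (by norm_num : Nat.Coprime 2 7) (two_dvd C h) h7
  have hf := C.frob 14 h14
  simp [Nat.divisors_ofNat] at hf
  rw [C.s_one, s_two C h, hs7] at hf
  have hs14 : s 14 = 144 := by
    rcases vals_even C h (by norm_num : 3 ≤ 14) with h0 | h0 | h0 | h0 <;> omega
  have hw := C.weakB 7 2 (by norm_num) h7 h49 (by norm_num)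
  rw [hnp, show 7 * 2 = 14 from rfl, hs14] at hw
  omega

theorem primes (C : Ctx N s np) (h : IsNse s {1, 45, 80, 90, 144}) {p : ℕ} (hp : p.Prime)
    (hpN : p ∣ N) : p = 2 ∨ p = 3 ∨ p = 5 := by
  by_cases hp2 : p = 2
  · exact Or.inl hp2
  · rcases odd_prime C h hp hpN hp2 with h1 | h1 | h1
    · exact Or.inr (Or.inl h1.1)
    · exact Or.inr (Or.inr h1.1)
    · exfalso
      rw [h1.1] at hpN
      exact not_seven C h hpN

theorem s_three (C : Ctx N s np) (h : IsNse s {1, 45, 80, 90, 144}) (h3 : 3 ∣ N) : s 3 = 80 := by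
  rcases odd_prime C h Nat.prime_three h3 (by norm_num) with h1 | h1 | h1
  · exact h1.2
  · omega
  · omega

theorem s_five (C : Ctx N s np) (h : IsNse s {1, 45, 80, 90, 144}) (h5 : 5 ∣ N) : s 5 = 144 := by
  rcases odd_prime C h Nat.prime_five h5 (by norm_num) with h1 | h1 | h1
  · omega
  · exact h1.2
  · omega

theorem s_four (C : Ctx N s np) (h : IsNse s {1, 45, 80, 90, 144}) (h4 : 4 ∣ N) : s 4 = 90 := by
  have hf := C.frob 4 h4
  simp [Nat.divisors_ofNat] at hf
  rw [C.s_one, s_two C h] at hf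
  rcases vals_even C h (by norm_num : 3 ≤ 4) with h0 | h0 | h0 | h0 <;> omega

theorem not_sixteen (C : Ctx N s np) (h : IsNse s {1, 45, 80, 90, 144}) : ¬ 16 ∣ N := by
  intro h16
  have h4 : 4 ∣ N := dvd_trans (by norm_num) h16
  have hs4 := s_four C h h4
  have ht8 := C.tot 8
  rw [show Nat.totient 8 = 4 by decide] at ht8
  have ht16 := C.tot 16
  rw [show Nat.totient 16 = 8 by decide] at ht16
  have hf := C.frob 16 h16
  simp [Nat.divisors_ofNat] at hf
  rw [C.s_one, s_two C h, hs4] at hf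
  rcases vals h 8 with h8 | h8 | h8 | h8 | h8 | h8 <;>
    rcases vals h 16 with h6 | h6 | h6 | h6 | h6 | h6 <;> omega

theorem not_twentyfive (C : Ctx N s np) (h : IsNse s {1, 45, 80, 90, 144}) : ¬ 25 ∣ N := by
  intro h25
  have h5 : 5 ∣ N := dvd_trans (by norm_num) h25
  have hs5 := s_five C h h5
  have ht := C.tot 25
  rw [show Nat.totient 25 = 20 by decide] at ht
  have hf := C.frob 25 h25
  simp [Nat.divisors_ofNat] at hf
  rw [C.s_one, hs5] at hf
  have hs25 : s 25 = 80 := by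
    rcases vals h 25 with h0 | h0 | h0 | h0 | h0 | h0 <;> omega
  have h125 : ¬ 5 ^ 3 ∣ N := by
    intro h125
    have h125' : 125 ∣ N := by norm_num at h125; exact h125
    have ht' := C.tot 125
    rw [show Nat.totient 125 = 100 by decide] at ht'
    have hs125 : s 125 = 0 := by
      rcases vals h 125 with h0 | h0 | h0 | h0 | h0 | h0 <;> omega
    have hf' := C.frob 125 h125'
    simp [Nat.divisors_ofNat] at hf'
    rw [C.s_one, hs5, hs25, hs125] at hf'
    omega
  have hcyc := C.cyc 5 2 Nat.prime_five (by norm_num) (by norm_num; exact h25)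
    (by norm_num at h125 ⊢; exact h125) (by norm_num; rw [hs25]; norm_num)
  rw [show (5 : ℕ) ^ 2 = 25 from rfl, hs25, show Nat.totient 25 = 20 by decide] at hcyc
  have hnp : np 5 = 4 := by omega
  have hmod := C.np_mod 5 Nat.prime_five
  omega

theorem s_nine (C : Ctx N s np) (h : IsNse s {1, 45, 80, 90, 144}) (h27 : 27 ∣ N) :
    s 9 = 0 ∧ s 27 = 0 := by
  have h3 : 3 ∣ N := dvd_trans (by norm_num) h27
  have hs3 := s_three C h h3
  have ht9 := C.tot 9
  rw [show Nat.totient 9 = 6 by decide] at ht9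
  have ht27 := C.tot 27
  rw [show Nat.totient 27 = 18 by decide] at ht27
  have hf := C.frob 27 h27
  simp [Nat.divisors_ofNat] at hf
  rw [C.s_one, hs3] at hf
  rcases vals h 9 with h9 | h9 | h9 | h9 | h9 | h9 <;>
    rcases vals h 27 with h7 | h7 | h7 | h7 | h7 | h7 <;> omega

theorem not_243 (C : Ctx N s np) (h : IsNse s {1, 45, 80, 90, 144}) : ¬ 243 ∣ N := by
  intro h243
  have h27 : 27 ∣ N := dvd_trans (by norm_num) h243
  have h3 : 3 ∣ N := dvd_trans (by norm_num) h243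
  have hs3 := s_three C h h3
  obtain ⟨hs9, hs27⟩ := s_nine C h h27
  have hs81 : s 81 = 0 := C.down_zero (by norm_num : 9 ∣ 81) hs9
  have hs243 : s 243 = 0 := C.down_zero (by norm_num : 9 ∣ 243) hs9
  have hf := C.frob 243 h243
  simp [Nat.divisors_ofNat] at hf
  rw [C.s_one, hs3, hs9, hs27, hs81, hs243] at hf
  omega

end A6FACTS

variable {N : ℕ} {s np : ℕ → ℕ}

/-- PIECE A6FACTS. -/
theorem a6_facts (C : Ctx N s np) (h : IsNse s {1, 45, 80, 90, 144}) :
    s 2 = 45 ∧ (∀ p, p.Prime → p ∣ N → p = 2 ∨ p = 3 ∨ p = 5) ∧ (3 ∣ N → s 3 = 80) ∧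
      (5 ∣ N → s 5 = 144) ∧ (4 ∣ N → s 4 = 90) ∧ ¬ 16 ∣ N ∧ ¬ 25 ∣ N ∧ ¬ 243 ∣ N ∧
      (27 ∣ N → s 9 = 0) :=
  ⟨A6FACTS.s_two C h, fun _ hp hpN => A6FACTS.primes C h hp hpN, A6FACTS.s_three C h,
    A6FACTS.s_five C h, A6FACTS.s_four C h, A6FACTS.not_sixteen C h, A6FACTS.not_twentyfive C h,
    A6FACTS.not_243 C h, fun h27 => (A6FACTS.s_nine C h h27).1⟩

end Cfsg.Agent.Helper26.NSE
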