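import Mathlib
import Cfsg.Agent.Lib.Helper26.NSEDefs
import Cfsg.Agent.Lib.Helper12.NSEA6FACTS

/-!
# S3431 piece A6ARITH (helper12): `nse = {1, 45, 80, 90, 144}` forces `N = 360`
-/

set_option autoImplicit false

namespace Cfsg.Agent.Helper26.NSE

namespace A6ARITH

variable {N : ℕ} {s np : ℕ → ℕ}

open A6FACTS

/-- `N` divides `2^3 * 3^4 * 5` -/
theorem dvd_3240 (hpr : ∀ p, p.Prime → p ∣ N → p = 2 ∨ p = 3 ∨ p = 5) (h16 : ¬ 16 ∣ N)
    (h25 : ¬ 25 ∣ N) (h243 : ¬ 243 ∣ N) : N ∣ 3240 := by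
  rw [Nat.dvd_iff_prime_pow_dvd_dvd]
  intro p k hp hk
  rcases Nat.eq_zero_or_pos k with rfl | hk0
  · simp
  have hpN : p ∣ N := dvd_trans (dvd_pow_self p hk0.ne') hk
  rcases hpr p hp hpN with rfl | rfl | rfl
  · have hk3 : k ≤ 3 := by
      by_contra hlt
      exact h16 (dvd_trans (pow_dvd_pow 2 (show 4 ≤ k by omega)) hk)
    exact dvd_trans (pow_dvd_pow 2 hk3) (by norm_num)
  · have hk4 : k ≤ 4 := by
      by_contra hlt
      exact h243 (dvd_trans (pow_dvd_pow 3 (show 5 ≤ k by omega)) hk)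
    exact dvd_trans (pow_dvd_pow 3 hk4) (by norm_num)
  · have hk1 : k ≤ 1 := by
      by_contra hlt
      exact h25 (dvd_trans (pow_dvd_pow 5 (show 2 ≤ k by omega)) hk)
    exact dvd_trans (pow_dvd_pow 5 hk1) (by norm_num)

/-- the case `5 ∣ N` -/
theorem case_five (C : Ctx N s np) (h : IsNse s {1, 45, 80, 90, 144}) (hN : N ∣ 3240)
    (h5 : 5 ∣ N) : N = 360 ∧ s 10 = 0 ∧ s 15 = 0 := by
  have h2 : 2 ∣ N := two_dvd C h
  have hs2 := s_two C h
  have hs5 := s_five C h h5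
  have h25 : ¬ 5 ^ (1 + 1) ∣ N := by
    have := not_twentyfive C h
    norm_num
    exact this
  have hcyc := C.cyc 5 1 Nat.prime_five (by norm_num) (by rw [pow_one]; exact h5) h25
    (by rw [pow_one, hs5]; norm_num)
  rw [pow_one, hs5, Nat.totient_prime Nat.prime_five] at hcyc
  have hnp : np 5 = 36 := by omega
  have h180 : 180 ∣ N := by
    have := C.np_dvd 5 1 Nat.prime_five (by rw [pow_one]; exact h5) h25
    rw [hnp] at this
    norm_num at this
    exact this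
  have h3 : 3 ∣ N := dvd_trans (by norm_num) h180
  have h4 : 4 ∣ N := dvd_trans (by norm_num) h180
  have h10 : 10 ∣ N := dvd_trans (by norm_num) h180
  have h15 : 15 ∣ N := dvd_trans (by norm_num) h180
  have hs3 := s_three C h h3
  have hs4 := s_four C h h4
  have h25' : ¬ 5 ^ 2 ∣ N := h25
  -- `s 10 = 0`
  have hs10 : s 10 = 0 := by
    have hw := C.weakB 5 2 Nat.prime_five h5 h25' (by norm_num)
    rw [hnp, show 5 * 2 = 10 from rfl] at hw
    have hf := C.frob 10 h10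
    simp [Nat.divisors_ofNat] at hf
    rw [C.s_one, hs2, hs5] at hf
    rcases vals h 10 with h0 | h0 | h0 | h0 | h0 | h0 <;> omega
  -- `s 15 = 0`
  have hs15 : s 15 = 0 := by
    have hw := C.weakB 5 3 Nat.prime_five h5 h25' (by norm_num)
    rw [hnp, show 5 * 3 = 15 from rfl] at hw
    have hf := C.frob 15 h15
    simp [Nat.divisors_ofNat] at hf
    rw [C.s_one, hs3, hs5] at hf
    rcases vals h 15 with h0 | h0 | h0 | h0 | h0 | h0 <;> omega
  -- `27 ∤ N`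
  have h27 : ¬ 27 ∣ N := by
    intro h27
    have h135 : 135 ∣ N :=
      Nat.Coprime.mul_dvd_of_dvd_of_dvd (by norm_num : Nat.Coprime 27 5) h27 h5
    obtain ⟨hs9, hs27⟩ := s_nine C h h27
    have hs45 : s 45 = 0 := C.down_zero (by norm_num : 9 ∣ 45) hs9
    have hs135 : s 135 = 0 := C.down_zero (by norm_num : 9 ∣ 135) hs9
    have hf := C.frob 135 h135
    simp [Nat.divisors_ofNat] at hf
    rw [C.s_one, hs3, hs5, hs9, hs15, hs27, hs45, hs135] at hf
    omega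
  have h16 := not_sixteen C h
  -- `N = 180` or `360`
  obtain ⟨k, rfl⟩ := h180
  have hk : k ∣ 18 := Nat.dvd_of_mul_dvd_mul_left (by norm_num : 0 < 180) hN
  have hk18 : k ≤ 18 := Nat.le_of_dvd (by norm_num) hk
  have hsum := C.sum_le {1, 2, 3, 4, 5}
  have hsum' : ∑ m ∈ ({1, 2, 3, 4, 5} : Finset ℕ), s m = s 1 + (s 2 + (s 3 + (s 4 + s 5))) := by
    simp
  rw [hsum', C.s_one, hs2, hs3, hs4, hs5] at hsum
  refine ⟨?_, hs10, hs15⟩
  interval_cases k <;> omega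

/-- the case `5 ∤ N` is impossible -/
theorem case_not_five (C : Ctx N s np) (h : IsNse s {1, 45, 80, 90, 144}) (hN : N ∣ 3240)
    (h5 : ¬ 5 ∣ N) : False := by
  have hs2 := s_two C h
  have hcop : Nat.Coprime N 5 := (Nat.Coprime.symm ((Nat.Prime.coprime_iff_not_dvd Nat.prime_five).mpr h5))
  have h648 : N ∣ 648 := by
    have : N ∣ 648 * 5 := by norm_num; exact hN
    exact hcop.dvd_of_dvd_mul_right this
  have hle := C.sum_values_le h
  have hsv : ∑ v ∈ ({1, 45, 80, 90, 144} : Finset ℕ), v = 360 := by simp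
  rw [hsv] at hle
  obtain ⟨c, hc⟩ := h648
  have hc1 : c = 1 := by
    have hc0 : c ≠ 0 := by
      rintro rfl
      omega
    by_contra hne
    have : 2 ≤ c := by omega
    nlinarith
  subst hc1
  have hN648 : N = 648 := by omega
  subst hN648
  have h27 : 27 ∣ 648 := by norm_num
  have h3 : 3 ∣ 648 := by norm_num
  have h4 : 4 ∣ 648 := by norm_num
  have hs3 := s_three C h h3
  have hs4 := s_four C h h4
  obtain ⟨hs9, hs27⟩ := s_nine C h h27
  have hs18 : s 18 = 0 := C.down_zero (by norm_num : 9 ∣ 18) hs9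
  have hs36 : s 36 = 0 := C.down_zero (by norm_num : 9 ∣ 36) hs9
  have hs54 : s 54 = 0 := C.down_zero (by norm_num : 9 ∣ 54) hs9
  have hs108 : s 108 = 0 := C.down_zero (by norm_num : 9 ∣ 108) hs9
  have hf54 := C.frob 54 (by norm_num)
  simp [Nat.divisors_ofNat] at hf54
  rw [C.s_one, hs2, hs3, hs9, hs18, hs27, hs54] at hf54
  have hf108 := C.frob 108 (by norm_num)
  simp [Nat.divisors_ofNat] at hf108
  rw [C.s_one, hs2, hs3, hs4, hs9, hs18, hs27, hs36, hs54, hs108] at hf108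
  have ht12 := C.tot 12
  rw [show Nat.totient 12 = 4 by decide] at ht12
  rcases vals_even C h (by norm_num : 3 ≤ 6) with h6 | h6 | h6 | h6 <;>
    rcases vals h 12 with h12 | h12 | h12 | h12 | h12 | h12 <;> omega

end A6ARITH

variable {N : ℕ} {s np : ℕ → ℕ}

/-- PIECE A6ARITH. -/
theorem a6_arith (C : Ctx N s np) (h : IsNse s {1, 45, 80, 90, 144})
    (hf : s 2 = 45 ∧ (∀ p, p.Prime → p ∣ N → p = 2 ∨ p = 3 ∨ p = 5) ∧ (3 ∣ N → s 3 = 80) ∧
      (5 ∣ N → s 5 = 144) ∧ (4 ∣ N → s 4 = 90) ∧ ¬ 16 ∣ N ∧ ¬ 25 ∣ N ∧ ¬ 243 ∣ N ∧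
      (27 ∣ N → s 9 = 0)) :
    N = 360 ∧ s 3 = 80 ∧ s 5 = 144 ∧ s 10 = 0 ∧ s 15 = 0 := by
  obtain ⟨-, hpr, hs3, hs5, -, h16, h25, h243, -⟩ := hf
  have hN := A6ARITH.dvd_3240 hpr h16 h25 h243
  by_cases h5 : 5 ∣ N
  · obtain ⟨hN360, hs10, hs15⟩ := A6ARITH.case_five C h hN h5
    refine ⟨hN360, hs3 ?_, hs5 h5, hs10, hs15⟩
    rw [hN360]
    norm_num
  · exact (A6ARITH.case_not_five C h hN h5).elim

end Cfsg.Agent.Helper26.NSE
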