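import Mathlib
import Cfsg.Agent.Lib.Helper12.NatModA

/-!
# Modules for `SL₂(F)` with `V = C_V(U) ⊕ C_V(U⁻)` (helper12's library)

Basic facts on an additive group `M` with a distributive action of `SL₂(F)`: the fixed points of
the upper and lower unitriangular groups, irreducibility, generation-by-invariance.
-/

set_option autoImplicit false

namespace Cfsg.Agent.Helper12.NatMod

open Matrix

local notation "SL2" => Matrix.SpecialLinearGroup (Fin 2)

variable (F : Type*) [Field F] (M : Type*) [AddCommGroup M] [DistribMulAction (SL2 F) M]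

/-- fixed points of the upper unitriangular group -/
def fixU : AddSubgroup M where
  carrier := {m | ∀ x : F, uu x • m = m}
  zero_mem' := fun x => smul_zero _
  add_mem' := fun {a b} ha hb x => by rw [smul_add, ha x, hb x]
  neg_mem' := fun {a} ha x => by rw [smul_neg, ha x]

/-- fixed points of the lower unitriangular group -/
def fixL : AddSubgroup M where
  carrier := {m | ∀ x : F, ll x • m = m}
  zero_mem' := fun x => smul_zero _
  add_mem' := fun {a b} ha hb x => by rw [smul_add, ha x, hb x]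
  neg_mem' := fun {a} ha x => by rw [smul_neg, ha x]

variable {F M}

theorem mem_fixU {m : M} : m ∈ fixU F M ↔ ∀ x : F, uu x • m = m := Iff.rfl
theorem mem_fixL {m : M} : m ∈ fixL F M ↔ ∀ x : F, ll x • m = m := Iff.rfl

theorem ww_smul_mem_fixL {m : M} (h : m ∈ fixU F M) : (ww : SL2 F) • m ∈ fixL F M := by
  intro x
  rw [← mul_smul, ll_mul_ww, mul_smul, h (-x)]

theorem ww_smul_mem_fixU {m : M} (h : m ∈ fixL F M) : (ww : SL2 F) • m ∈ fixU F M := by
  intro x
  rw [← mul_smul, uu_mul_ww, mul_smul, h (-x)]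

theorem hh_smul_mem_fixU (s : Fˣ) {m : M} (h : m ∈ fixU F M) : hh s • m ∈ fixU F M := by
  intro x
  rw [← mul_smul, uu_mul_hh, mul_smul, h _]

theorem hh_smul_mem_fixL (s : Fˣ) {m : M} (h : m ∈ fixL F M) : hh s • m ∈ fixL F M := by
  intro x
  rw [← mul_smul, ll_mul_hh, mul_smul, h _]

theorem ww_inv_eq : (ww : SL2 F)⁻¹ = ww * ww * ww := by
  rw [inv_eq_iff_mul_eq_one]
  have h1 : (ww : SL2 F) * (ww * ww * ww) = (ww * ww) * (ww * ww) := by group
  rw [h1, ww_mul_ww, ← hh_mul]
  have : ((-1 : Fˣ) * (-1 : Fˣ)) = 1 := by simp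
  rw [this, hh_one]

theorem ww_inv_smul_mem_fixL {m : M} (h : m ∈ fixU F M) : (ww : SL2 F)⁻¹ • m ∈ fixL F M := by
  rw [ww_inv_eq, mul_smul, mul_smul]
  exact ww_smul_mem_fixL (ww_smul_mem_fixU (ww_smul_mem_fixL h))

theorem ww_inv_smul_mem_fixU {m : M} (h : m ∈ fixL F M) : (ww : SL2 F)⁻¹ • m ∈ fixU F M := by
  rw [ww_inv_eq, mul_smul, mul_smul]
  exact ww_smul_mem_fixU (ww_smul_mem_fixL (ww_smul_mem_fixU h))

/-- a vector fixed by both unitriangular groups is fixed by everything -/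
theorem smul_eq_of_mem_fixU_fixL {m : M} (hu : m ∈ fixU F M) (hl : m ∈ fixL F M) (g : SL2 F) :
    g • m = m := by
  have h : MulAction.stabilizer (SL2 F) m = ⊤ :=
    eq_top_of_uu_ll _ (fun x => hu x) (fun x => hl x)
  have : g ∈ MulAction.stabilizer (SL2 F) m := by rw [h]; trivial
  exact this

/-- invariance under the generators `ll x`, `ww` gives invariance under the group -/
theorem invariant_of_ll_ww (N : AddSubgroup M) (hl : ∀ (x : F) (m : M), m ∈ N → ll x • m ∈ N)
    (hw : ∀ m : M, m ∈ N → (ww : SL2 F) • m ∈ N) (g : SL2 F) (m : M) (hm : m ∈ N) : g • m ∈ N := by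
  let H : Subgroup (SL2 F) :=
    { carrier := {g | (∀ m, m ∈ N → g • m ∈ N) ∧ (∀ m, m ∈ N → g⁻¹ • m ∈ N)}
      one_mem' := by
        refine ⟨fun m hm => ?_, fun m hm => ?_⟩
        · rwa [one_smul]
        · rwa [inv_one, one_smul]
      mul_mem' := by
        rintro a b ⟨ha1, ha2⟩ ⟨hb1, hb2⟩
        refine ⟨fun m hm => ?_, fun m hm => ?_⟩
        · rw [mul_smul]; exact ha1 _ (hb1 _ hm)
        · rw [_root_.mul_inv_rev, mul_smul]; exact hb2 _ (ha2 _ hm)
      inv_mem' := by
        rintro a ⟨ha1, ha2⟩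
        refine ⟨ha2, fun m hm => ?_⟩
        rw [inv_inv]; exact ha1 _ hm }
  have hH : H = ⊤ := by
    apply eq_top_of_ll_ww
    · intro x
      refine ⟨hl x, fun m hm => ?_⟩
      rw [ll_inv]; exact hl _ _ hm
    · refine ⟨hw, fun m hm => ?_⟩
      rw [ww_inv_eq, mul_smul, mul_smul]
      exact hw _ (hw _ (hw _ hm))
  have hg : g ∈ H := by rw [hH]; trivial
  exact hg.1 m hm

/-- invariance under the generators `uu x`, `ww` gives invariance under the group -/
theorem invariant_of_uu_ww (N : AddSubgroup M) (hu : ∀ (x : F) (m : M), m ∈ N → uu x • m ∈ N)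
    (hw : ∀ m : M, m ∈ N → (ww : SL2 F) • m ∈ N) (g : SL2 F) (m : M) (hm : m ∈ N) : g • m ∈ N := by
  apply invariant_of_ll_ww N _ hw g m hm
  intro x m hm
  have h1 : ll x = ww * uu (-x) * ww⁻¹ := by
    rw [← ll_mul_ww, mul_inv_cancel_right]
  rw [h1, mul_smul, mul_smul, ww_inv_eq, mul_smul, mul_smul]
  exact hw _ (hu _ _ (hw _ (hw _ (hw _ hm))))

/-- The hypotheses on the module: irreducible and nontrivial. -/
structure IrrNT (F : Type*) [Field F] (M : Type*) [AddCommGroup M]
    [DistribMulAction (SL2 F) M] : Prop where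
  irr : ∀ N : AddSubgroup M, (∀ (g : SL2 F) (m : M), m ∈ N → g • m ∈ N) → N = ⊥ ∨ N = ⊤
  nt : ∃ (g : SL2 F) (m : M), g • m ≠ m

/-- no nonzero vector is fixed by both unitriangular groups -/
theorem eq_zero_of_mem_fixU_fixL (h : IrrNT F M) {m : M} (hu : m ∈ fixU F M)
    (hl : m ∈ fixL F M) : m = 0 := by
  let N : AddSubgroup M :=
    { carrier := {m | ∀ g : SL2 F, g • m = m}
      zero_mem' := fun g => smul_zero _
      add_mem' := fun {a b} ha hb g => by rw [smul_add, ha g, hb g]
      neg_mem' := fun {a} ha g => by rw [smul_neg, ha g] }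
  have hN : ∀ (g : SL2 F) (m : M), m ∈ N → g • m ∈ N := by
    intro g m hm
    have : g • m = m := hm g
    rw [this]; exact hm
  have hmN : m ∈ N := fun g => smul_eq_of_mem_fixU_fixL hu hl g
  rcases h.irr N hN with h0 | h1
  · rw [h0] at hmN
    exact (AddSubgroup.mem_bot).1 hmN
  · exfalso
    obtain ⟨g, m', hgm⟩ := h.nt
    have : m' ∈ N := by rw [h1]; trivial
    exact hgm (this g)

theorem decomp_unique (h : IrrNT F M) {a a' b b' : M} (ha : a ∈ fixU F M) (ha' : a' ∈ fixU F M)
    (hb : b ∈ fixL F M) (hb' : b' ∈ fixL F M) (hab : a + b = a' + b') : a = a' ∧ b = b' := by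
  have h1 : a - a' = b' - b := by
    rw [sub_eq_sub_iff_add_eq_add, hab, add_comm]
  have h2 : a - a' = 0 := by
    apply eq_zero_of_mem_fixU_fixL h ((fixU F M).sub_mem ha ha')
    rw [h1]; exact (fixL F M).sub_mem hb' hb
  have h3 : b' - b = 0 := by rw [← h1, h2]
  exact ⟨sub_eq_zero.1 h2, (sub_eq_zero.1 h3).symm⟩

end Cfsg.Agent.Helper12.NatMod
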