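import Mathlib
import Cfsg.Agent.Lib.Helper12.NatModB

/-!
# Fixed points of the unitriangular groups on a finite `p`-module (helper12's library)
-/

set_option autoImplicit false

namespace Cfsg.Agent.Helper12.NatMod

open Matrix

local notation "SL2" => Matrix.SpecialLinearGroup (Fin 2)

variable {F : Type*} [Field F] {M : Type*} [AddCommGroup M] [DistribMulAction (SL2 F) M]

/-- `x ↦ uu x` as a homomorphism -/
def uuHom : Multiplicative F →* SL2 F where
  toFun x := uu (Multiplicative.toAdd x)
  map_one' := uu_zero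
  map_mul' _ _ := uu_add _ _

/-- `x ↦ ll x` as a homomorphism -/
def llHom : Multiplicative F →* SL2 F where
  toFun x := ll (Multiplicative.toAdd x)
  map_one' := ll_zero
  map_mul' _ _ := ll_add _ _

theorem isPGroup_mulF [Fintype F] (p : ℕ) [Fact p.Prime] [CharP F p] :
    IsPGroup p (Multiplicative F) := by
  obtain ⟨n, -, hq⟩ := FiniteField.card F p
  exact IsPGroup.of_card (n := n)
    (by rw [Nat.card_eq_fintype_card, Fintype.card_multiplicative, hq])

theorem prime_dvd_card_of_pow {p : ℕ} (hp : p.Prime) {A : Type*} [Finite A] [Nontrivial A]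
    {k : ℕ} (hk : Nat.card A ∣ p ^ k) : p ∣ Nat.card A := by
  obtain ⟨j, -, hj⟩ := (Nat.dvd_prime_pow hp).1 hk
  have hj0 : j ≠ 0 := by
    rintro rfl
    rw [pow_zero] at hj
    have := Finite.one_lt_card (α := A)
    omega
  rw [hj]; exact dvd_pow_self p hj0

section fixed

variable [Fintype F] (p : ℕ) [Fact p.Prime] [CharP F p] [Finite M]

theorem fixU_ne_bot [Nontrivial M] (hcard : ∃ k, Nat.card M = p ^ k) : fixU F M ≠ ⊥ := by
  letI : MulAction (Multiplicative F) M := MulAction.compHom M (uuHom (F := F))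
  obtain ⟨k, hk⟩ := hcard
  have hp_dvd : p ∣ Nat.card M := prime_dvd_card_of_pow (Fact.out) (k := k) (by rw [hk])
  have h0 : (0 : M) ∈ MulAction.fixedPoints (Multiplicative F) M := by
    intro x
    show uuHom x • (0 : M) = 0
    exact smul_zero _
  obtain ⟨b, hb, hb0⟩ :=
    (isPGroup_mulF (F := F) p).exists_fixed_point_of_prime_dvd_card_of_fixed_point M hp_dvd h0
  intro hbot
  have hbU : b ∈ fixU F M := fun x => hb (Multiplicative.ofAdd x)
  rw [hbot] at hbU
  exact hb0 ((AddSubgroup.mem_bot.1 hbU).symm)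

/-- the map induced by `ll x` on `M ⧸ C_M(L)` -/
noncomputable def qMap (x : F) : (M ⧸ fixL F M) →+ (M ⧸ fixL F M) :=
  QuotientAddGroup.map _ _ (DistribSMul.toAddMonoidHom M (ll x)) (by
    intro m hm
    rw [AddSubgroup.mem_comap]
    show ll x • m ∈ fixL F M
    rw [hm x]; exact hm)

theorem qMap_mk (x : F) (m : M) :
    qMap x (QuotientAddGroup.mk m : M ⧸ fixL F M) = QuotientAddGroup.mk (ll x • m) := rfl

/-- the action of `L` on `M ⧸ C_M(L)` -/
noncomputable def qAction : MulAction (Multiplicative F) (M ⧸ fixL F M) where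
  smul x q := qMap (Multiplicative.toAdd x) q
  one_smul q := by
    induction q using QuotientAddGroup.induction_on with
    | H m =>
      show qMap (Multiplicative.toAdd (1 : Multiplicative F)) (m : M ⧸ fixL F M) = m
      rw [qMap_mk, toAdd_one, ll_zero, one_smul]
  mul_smul x y q := by
    induction q using QuotientAddGroup.induction_on with
    | H m =>
      show qMap (Multiplicative.toAdd (x * y)) (m : M ⧸ fixL F M) =
        qMap (Multiplicative.toAdd x) (qMap (Multiplicative.toAdd y) m)
      rw [qMap_mk, qMap_mk, qMap_mk, toAdd_mul, ll_add, mul_smul]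

/-- there is a vector outside `C_M(L)` that `L` moves only inside `C_M(L)` -/
theorem exists_second_fixed (hcard : ∃ k, Nat.card M = p ^ k) (htop : fixL F M ≠ ⊤) :
    ∃ m : M, m ∉ fixL F M ∧ ∀ x : F, ll x • m - m ∈ fixL F M := by
  letI : MulAction (Multiplicative F) (M ⧸ fixL F M) := qAction
  obtain ⟨k, hk⟩ := hcard
  haveI : Nontrivial (M ⧸ fixL F M) := by
    by_contra hnt
    rw [not_nontrivial_iff_subsingleton] at hnt
    apply htop
    rw [eq_top_iff]
    intro m _
    have : (QuotientAddGroup.mk m : M ⧸ fixL F M) = QuotientAddGroup.mk 0 := Subsingleton.elim _ _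
    rw [QuotientAddGroup.eq] at this
    simpa using this
  have hdvd : Nat.card (M ⧸ fixL F M) ∣ p ^ k := by
    rw [← hk, AddSubgroup.card_eq_card_quotient_mul_card_addSubgroup (fixL F M)]
    exact dvd_mul_right _ _
  have hp_dvd : p ∣ Nat.card (M ⧸ fixL F M) := prime_dvd_card_of_pow (Fact.out) hdvd
  have h0 : (0 : M ⧸ fixL F M) ∈ MulAction.fixedPoints (Multiplicative F) (M ⧸ fixL F M) := by
    intro x
    show qMap (Multiplicative.toAdd x) (0 : M ⧸ fixL F M) = 0
    exact map_zero _
  obtain ⟨b, hb, hb0⟩ :=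
    (isPGroup_mulF (F := F) p).exists_fixed_point_of_prime_dvd_card_of_fixed_point
      (M ⧸ fixL F M) hp_dvd h0
  induction b using QuotientAddGroup.induction_on with
  | H m =>
    refine ⟨m, ?_, fun x => ?_⟩
    · intro hm
      apply hb0
      symm
      rw [QuotientAddGroup.eq_zero_iff]
      exact hm
    · have h1 : qMap x (m : M ⧸ fixL F M) = m := hb (Multiplicative.ofAdd x)
      rw [qMap_mk, QuotientAddGroup.eq] at h1
      have h2 : ll x • m - m = -(-(ll x • m) + m) := by abel
      rw [h2]
      exact (fixL F M).neg_mem h1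

end fixed

end Cfsg.Agent.Helper12.NatMod
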