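import Mathlib
import Cfsg.Agent.Lib.Helper12.NatModC

/-!
# The decomposition `M = C_M(U) ⊕ C_M(U⁻)` and the formula for the action of `U⁻` on `C_M(U)`
(helper12's library)
-/

set_option autoImplicit false

namespace Cfsg.Agent.Helper12.NatMod

open Matrix

local notation "SL2" => Matrix.SpecialLinearGroup (Fin 2)

variable {F : Type*} [Field F] {M : Type*} [AddCommGroup M] [DistribMulAction (SL2 F) M]

/-- the upper unitriangular group acts quadratically -/
def QuadU (F : Type*) [Field F] (M : Type*) [AddCommGroup M] [DistribMulAction (SL2 F) M] : Prop :=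
  ∀ (x y : F) (m : M), uu x • (uu y • m - m) = uu y • m - m

theorem sup_eq_top_of_quad (h : IrrNT F M) (hq : QuadU F M) (hne : fixU F M ≠ ⊥) :
    fixU F M ⊔ fixL F M = ⊤ := by
  have hinv : ∀ (g : SL2 F) (m : M), m ∈ fixU F M ⊔ fixL F M → g • m ∈ fixU F M ⊔ fixL F M := by
    apply invariant_of_uu_ww
    · intro x m hm
      obtain ⟨a, ha, b, hb, rfl⟩ := AddSubgroup.mem_sup.1 hm
      have h1 : uu x • (a + b) = (a + (uu x • b - b)) + b := by
        rw [smul_add, ha x]; abel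
      rw [h1]
      refine AddSubgroup.add_mem_sup ((fixU F M).add_mem ha ?_) hb
      intro x'
      exact hq x' x b
    · intro m hm
      obtain ⟨a, ha, b, hb, rfl⟩ := AddSubgroup.mem_sup.1 hm
      rw [smul_add, add_comm]
      exact AddSubgroup.add_mem_sup (ww_smul_mem_fixU hb) (ww_smul_mem_fixL ha)
  rcases h.irr _ hinv with h0 | h1
  · exfalso
    apply hne
    rw [eq_bot_iff, ← h0]
    exact le_sup_left
  · exact h1

theorem card_fixL_eq : Nat.card (fixL F M) = Nat.card (fixU F M) := by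
  refine Nat.card_congr
    { toFun := fun b => ⟨(ww : SL2 F)⁻¹ • (b : M), ww_inv_smul_mem_fixU b.2⟩
      invFun := fun a => ⟨(ww : SL2 F) • (a : M), ww_smul_mem_fixL a.2⟩
      left_inv := fun b => by
        apply Subtype.ext
        show (ww : SL2 F) • (ww : SL2 F)⁻¹ • (b : M) = b
        rw [smul_inv_smul]
      right_inv := fun a => by
        apply Subtype.ext
        show (ww : SL2 F)⁻¹ • (ww : SL2 F) • (a : M) = a
        rw [inv_smul_smul] }

theorem sup_eq_top_of_card [Finite M] (h : IrrNT F M)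
    (hc : Nat.card M ≤ Nat.card (fixU F M) ^ 2) : fixU F M ⊔ fixL F M = ⊤ := by
  apply AddSubgroup.eq_top_of_le_card
  let f : (fixU F M) × (fixL F M) → ↥(fixU F M ⊔ fixL F M) :=
    fun ab => ⟨(ab.1 : M) + (ab.2 : M), AddSubgroup.add_mem_sup ab.1.2 ab.2.2⟩
  have hf : Function.Injective f := by
    rintro ⟨a, b⟩ ⟨a', b'⟩ hab
    have h1 : (a : M) + (b : M) = (a' : M) + (b' : M) := congrArg Subtype.val hab
    obtain ⟨h2, h3⟩ := decomp_unique h a.2 a'.2 b.2 b'.2 h1
    exact Prod.ext (Subtype.ext h2) (Subtype.ext h3)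
  have h2 := Nat.card_le_card_of_injective f hf
  rw [Nat.card_prod, card_fixL_eq] at h2
  calc Nat.card M ≤ Nat.card (fixU F M) ^ 2 := hc
    _ = Nat.card (fixU F M) * Nat.card (fixU F M) := sq _
    _ ≤ _ := h2

theorem exists_decomp (hs : fixU F M ⊔ fixL F M = ⊤) (m : M) :
    ∃ a ∈ fixU F M, ∃ b ∈ fixL F M, m = a + b := by
  have : m ∈ fixU F M ⊔ fixL F M := by rw [hs]; trivial
  obtain ⟨a, ha, b, hb, hab⟩ := AddSubgroup.mem_sup.1 this
  exact ⟨a, ha, b, hb, hab.symm⟩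

/-- the vectors of `C_M(U)` moved by `U⁻` only inside `C_M(U⁻)` -/
def fix00 (F : Type*) [Field F] (M : Type*) [AddCommGroup M] [DistribMulAction (SL2 F) M] :
    AddSubgroup M where
  carrier := {v | v ∈ fixU F M ∧ ∀ x : F, ll x • v - v ∈ fixL F M}
  zero_mem' := ⟨zero_mem _, fun x => by rw [smul_zero, sub_zero]; exact zero_mem _⟩
  add_mem' := by
    rintro a b ⟨ha, ha'⟩ ⟨hb, hb'⟩
    refine ⟨add_mem ha hb, fun x => ?_⟩
    have : ll x • (a + b) - (a + b) = (ll x • a - a) + (ll x • b - b) := by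
      rw [smul_add]; abel
    rw [this]
    exact add_mem (ha' x) (hb' x)
  neg_mem' := by
    rintro a ⟨ha, ha'⟩
    refine ⟨neg_mem ha, fun x => ?_⟩
    have : ll x • (-a) - (-a) = -(ll x • a - a) := by
      rw [smul_neg]; abel
    rw [this]
    exact neg_mem (ha' x)

theorem fix00_le : fix00 F M ≤ fixU F M := fun _ hv => hv.1

theorem hh_smul_mem_fix00 (s : Fˣ) {v : M} (hv : v ∈ fix00 F M) : hh s • v ∈ fix00 F M := by
  refine ⟨hh_smul_mem_fixU s hv.1, fun x => ?_⟩
  have : ll x • hh s • v - hh s • v = hh s • (ll ((s : F) * (s : F) * x) • v - v) := by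
    rw [smul_sub, ← mul_smul, ← mul_smul, ll_mul_hh]
  rw [this]
  exact hh_smul_mem_fixL s (hv.2 _)

theorem fix00_ne_bot [Fintype F] (p : ℕ) [Fact p.Prime] [CharP F p] [Finite M] (h : IrrNT F M)
    (hcard : ∃ k, Nat.card M = p ^ k) (hs : fixU F M ⊔ fixL F M = ⊤) (hne : fixU F M ≠ ⊥) :
    fix00 F M ≠ ⊥ := by
  have htop : fixL F M ≠ ⊤ := by
    intro ht
    apply hne
    rw [eq_bot_iff]
    intro a ha
    rw [AddSubgroup.mem_bot]
    exact eq_zero_of_mem_fixU_fixL h ha (by rw [ht]; trivial)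
  obtain ⟨m, hm, hm2⟩ := exists_second_fixed (F := F) (M := M) p hcard htop
  obtain ⟨a, ha, b, hb, rfl⟩ := exists_decomp hs m
  intro hbot
  have ha00 : a ∈ fix00 F M := by
    refine ⟨ha, fun x => ?_⟩
    have : ll x • a - a = ll x • (a + b) - (a + b) := by
      rw [smul_add, hb x]; abel
    rw [this]
    exact hm2 x
  rw [hbot, AddSubgroup.mem_bot] at ha00
  apply hm
  rw [ha00, zero_add]
  exact hb

/-- the action of `U⁻` on `fix00` -/
theorem ll_smul_of_mem_fix00 (h : IrrNT F M) (x : Fˣ) {v : M} (hv : v ∈ fix00 F M) :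
    ll (x : F) • v = v + (ww : SL2 F) • (hh (-x) • v) := by
  have hv' : hh (-x) • v ∈ fix00 F M := hh_smul_mem_fix00 _ hv
  set v' := hh (-x) • v with hv'def
  have h1 : ll (x : F) • v = (ww : SL2 F) • ll (-((x⁻¹ : Fˣ) : F)) • v' := by
    conv_lhs => rw [ll_eq_bruhat x]
    rw [mul_smul, hv.1 _, mul_smul, uu_mul_ww, mul_smul]
  set c := ll (-((x⁻¹ : Fˣ) : F)) • v' - v' with hc
  have hcL : c ∈ fixL F M := hv'.2 _
  set d := ll (x : F) • v - v with hd
  have hdL : d ∈ fixL F M := hv.2 _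
  have h2 : v + d = (ww : SL2 F) • c + (ww : SL2 F) • v' := by
    have e1 : v + d = ll (x : F) • v := by rw [hd]; abel
    have e2 : ll (-((x⁻¹ : Fˣ) : F)) • v' = c + v' := by rw [hc]; abel
    rw [e1, h1, e2, smul_add]
  obtain ⟨-, h3⟩ := decomp_unique h hv.1 (ww_smul_mem_fixU hcL) hdL (ww_smul_mem_fixL hv'.1) h2
  have e1 : ll (x : F) • v = v + d := by rw [hd]; abel
  rw [e1, h3]

/-- a nonzero `hh`-invariant subgroup of `C_M(U)` on which `U⁻` acts by the formula is all of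
`C_M(U)` -/
theorem fixU_le_of_invariant (h : IrrNT F M) (A : AddSubgroup M) (hA : A ≤ fixU F M)
    (hinv : ∀ (s : Fˣ) (a : M), a ∈ A → hh s • a ∈ A)
    (hform : ∀ (x : Fˣ) (a : M), a ∈ A → ll (x : F) • a = a + (ww : SL2 F) • (hh (-x) • a))
    (hne : A ≠ ⊥) : fixU F M ≤ A := by
  let wwMap : M →+ M := DistribSMul.toAddMonoidHom M (ww : SL2 F)
  have hmemw : ∀ m : M, m ∈ A.map wwMap ↔ ∃ b ∈ A, (ww : SL2 F) • b = m := by
    intro m
    rw [AddSubgroup.mem_map]
    rfl
  have hinvN : ∀ (g : SL2 F) (m : M), m ∈ A ⊔ A.map wwMap → g • m ∈ A ⊔ A.map wwMap := by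
    apply invariant_of_ll_ww
    · intro x m hm
      obtain ⟨a, ha, b', hb', rfl⟩ := AddSubgroup.mem_sup.1 hm
      obtain ⟨b, hb, rfl⟩ := (hmemw b').1 hb'
      have hbL : (ww : SL2 F) • b ∈ fixL F M := ww_smul_mem_fixL (hA hb)
      rw [smul_add, hbL x]
      by_cases hx : x = 0
      · rw [hx, ll_zero, one_smul]
        exact AddSubgroup.add_mem_sup ha ((hmemw _).2 ⟨b, hb, rfl⟩)
      · have := hform (Units.mk0 x hx) a ha
        rw [Units.val_mk0] at this
        rw [this, add_assoc, ← smul_add]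
        refine AddSubgroup.add_mem_sup ha ((hmemw _).2 ⟨_, ?_, rfl⟩)
        exact A.add_mem (hinv _ _ ha) hb
    · intro m hm
      obtain ⟨a, ha, b', hb', rfl⟩ := AddSubgroup.mem_sup.1 hm
      obtain ⟨b, hb, rfl⟩ := (hmemw b').1 hb'
      rw [smul_add, ← mul_smul, ww_mul_ww, add_comm]
      exact AddSubgroup.add_mem_sup (hinv _ _ hb) ((hmemw _).2 ⟨a, ha, rfl⟩)
  have htop : A ⊔ A.map wwMap = ⊤ := by
    rcases h.irr _ hinvN with h0 | h1
    · exfalso
      apply hne
      rw [eq_bot_iff, ← h0]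
      exact le_sup_left
    · exact h1
  intro a₀ ha₀
  have : a₀ ∈ A ⊔ A.map wwMap := by rw [htop]; trivial
  obtain ⟨a, ha, b', hb', hab⟩ := AddSubgroup.mem_sup.1 this
  obtain ⟨b, hb, rfl⟩ := (hmemw b').1 hb'
  have h1 : a₀ + 0 = a + (ww : SL2 F) • b := by rw [add_zero, hab]
  obtain ⟨h2, -⟩ := decomp_unique h ha₀ (hA ha) (zero_mem _) (ww_smul_mem_fixL (hA hb)) h1
  rw [h2]; exact ha

/-- under the decomposition hypothesis, `U⁻` acts on all of `C_M(U)` by the formula -/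
theorem ll_smul_of_mem_fixU [Fintype F] (p : ℕ) [Fact p.Prime] [CharP F p] [Finite M]
    (h : IrrNT F M) (hcard : ∃ k, Nat.card M = p ^ k) (hs : fixU F M ⊔ fixL F M = ⊤)
    (hne : fixU F M ≠ ⊥) (x : Fˣ) {v : M} (hv : v ∈ fixU F M) :
    ll (x : F) • v = v + (ww : SL2 F) • (hh (-x) • v) := by
  have hle : fixU F M ≤ fix00 F M :=
    fixU_le_of_invariant h (fix00 F M) fix00_le (fun s a ha => hh_smul_mem_fix00 s ha)
      (fun x a ha => ll_smul_of_mem_fix00 h x ha) (fix00_ne_bot p h hcard hs hne)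
  exact ll_smul_of_mem_fix00 h x (hle hv)

end Cfsg.Agent.Helper12.NatMod
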