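import Mathlib
import Cfsg.Agent.Lib.Helper12.NatModD

/-!
# The field structure on `C_M(U)` and the natural module (helper12's library)
-/

set_option autoImplicit false

namespace Cfsg.Agent.Helper12.NatMod

open Matrix

local notation "SL2" => Matrix.SpecialLinearGroup (Fin 2)

variable {F : Type*} [Field F] {M : Type*} [AddCommGroup M] [DistribMulAction (SL2 F) M]

/-- the formula for the action of `U⁻` on `C_M(U)` -/
def Formula (F : Type*) [Field F] (M : Type*) [AddCommGroup M] [DistribMulAction (SL2 F) M] :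
    Prop :=
  ∀ (x : Fˣ) (v : M), v ∈ fixU F M → ll (x : F) • v = v + (ww : SL2 F) • (hh (-x) • v)

open Classical in
/-- the scalar action of `F` defined through the torus -/
noncomputable def sc (s : F) (v : M) : M :=
  if h : s = 0 then 0 else hh (Units.mk0 s h) • v

theorem sc_zero (v : M) : sc (0 : F) v = 0 := by simp [sc]

theorem sc_of_ne {s : F} (h : s ≠ 0) (v : M) : sc s v = hh (Units.mk0 s h) • v := by
  simp [sc, h]

theorem sc_unit (s : Fˣ) (v : M) : sc (s : F) v = hh s • v := by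
  rw [sc_of_ne s.ne_zero]
  congr 2
  exact Units.ext rfl

theorem sc_mem_fixU (s : F) {v : M} (hv : v ∈ fixU F M) : sc s v ∈ fixU F M := by
  by_cases h : s = 0
  · rw [h, sc_zero]; exact zero_mem _
  · rw [sc_of_ne h]; exact hh_smul_mem_fixU _ hv

theorem sc_add_right (s : F) (v v' : M) : sc s (v + v') = sc s v + sc s v' := by
  by_cases h : s = 0
  · rw [h, sc_zero, sc_zero, sc_zero, add_zero]
  · rw [sc_of_ne h, sc_of_ne h, sc_of_ne h, smul_add]

theorem sc_zero_right (s : F) : sc s (0 : M) = 0 := by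
  by_cases h : s = 0
  · rw [h, sc_zero]
  · rw [sc_of_ne h, smul_zero]

theorem sc_one (v : M) : sc (1 : F) v = v := by
  have : sc (((1 : Fˣ) : F)) v = v := by rw [sc_unit, hh_one, one_smul]
  simpa using this

theorem sc_mul (s t : F) (v : M) : sc (s * t) v = sc s (sc t v) := by
  by_cases hs : s = 0
  · rw [hs, zero_mul, sc_zero, sc_zero]
  by_cases ht : t = 0
  · rw [ht, mul_zero, sc_zero, sc_zero_right]
  have h1 : s * t = ((Units.mk0 s hs * Units.mk0 t ht : Fˣ) : F) := by simp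
  rw [h1, sc_unit, hh_mul, mul_smul, ← sc_unit, ← sc_unit]
  simp

theorem sc_eq_zero {s : F} {v : M} (h : sc s v = 0) : s = 0 ∨ v = 0 := by
  by_cases hs : s = 0
  · exact Or.inl hs
  · right
    rw [sc_of_ne hs] at h
    have := congrArg (fun m => (hh (Units.mk0 s hs))⁻¹ • m) h
    simpa using this

theorem ll_smul_eq (hf : Formula F M) (x : F) {v : M} (hv : v ∈ fixU F M) :
    ll x • v = v + (ww : SL2 F) • sc (-x) v := by
  by_cases hx : x = 0
  · rw [hx, ll_zero, one_smul, neg_zero, sc_zero, smul_zero, add_zero]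
  · have h1 := hf (Units.mk0 x hx) v hv
    rw [Units.val_mk0] at h1
    rw [h1]
    have h2 : (-x : F) = ((-(Units.mk0 x hx) : Fˣ) : F) := by simp
    rw [h2, sc_unit]

theorem sc_add (hf : Formula F M) (x y : F) {v : M} (hv : v ∈ fixU F M) :
    sc (x + y) v = sc x v + sc y v := by
  have h1 : ll (-(x + y)) • v = v + (ww : SL2 F) • sc (x + y) v := by
    rw [ll_smul_eq hf _ hv, neg_neg]
  have h2 : ll (-(x + y)) • v = v + (ww : SL2 F) • (sc x v + sc y v) := by
    have e : -(x + y) = -x + -y := by ring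
    rw [e, ll_add, mul_smul, ll_smul_eq hf (-y) hv, neg_neg, smul_add,
      ww_smul_mem_fixL (sc_mem_fixU y hv) (-x), ll_smul_eq hf (-x) hv, neg_neg, smul_add]
    abel
  have h3 : (ww : SL2 F) • sc (x + y) v = (ww : SL2 F) • (sc x v + sc y v) := by
    have := h1.symm.trans h2
    exact add_left_cancel this
  exact smul_left_cancel _ h3

theorem sc_neg (hf : Formula F M) (x : F) {v : M} (hv : v ∈ fixU F M) :
    sc (-x) v = -sc x v := by
  have := sc_add hf x (-x) hv
  rw [add_neg_cancel, sc_zero] at this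
  exact (neg_eq_of_add_eq_zero_right this.symm).symm

/-- the line spanned by a vector of `C_M(U)` -/
noncomputable def lineHom (hf : Formula F M) {v₀ : M} (hv₀ : v₀ ∈ fixU F M) : F →+ M where
  toFun s := sc s v₀
  map_zero' := sc_zero v₀
  map_add' x y := sc_add hf x y hv₀

theorem fixU_le_line (h : IrrNT F M) (hf : Formula F M) {v₀ : M} (hv₀ : v₀ ∈ fixU F M)
    (hne : v₀ ≠ 0) : fixU F M ≤ (lineHom hf hv₀).range := by
  apply fixU_le_of_invariant h
  · rintro _ ⟨s, rfl⟩
    exact sc_mem_fixU s hv₀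
  · rintro s _ ⟨t, rfl⟩
    refine ⟨(s : F) * t, ?_⟩
    show sc ((s : F) * t) v₀ = hh s • sc t v₀
    rw [sc_mul, sc_unit]
  · rintro x _ ⟨t, rfl⟩
    exact hf x _ (sc_mem_fixU t hv₀)
  · intro hbot
    have : v₀ ∈ (lineHom hf hv₀).range := ⟨1, sc_one v₀⟩
    rw [hbot, AddSubgroup.mem_bot] at this
    exact hne this

/-- the coordinate map -/
noncomputable def coordHom (hf : Formula F M) {v₀ : M} (hv₀ : v₀ ∈ fixU F M) :
    (Fin 2 → F) →+ M where
  toFun f := sc (f 0) v₀ - (ww : SL2 F) • sc (f 1) v₀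
  map_zero' := by simp [sc_zero]
  map_add' f g := by
    simp only [Pi.add_apply]
    rw [sc_add hf _ _ hv₀, sc_add hf _ _ hv₀, smul_add]
    abel

theorem coordHom_apply (hf : Formula F M) {v₀ : M} (hv₀ : v₀ ∈ fixU F M) (f : Fin 2 → F) :
    coordHom hf hv₀ f = sc (f 0) v₀ - (ww : SL2 F) • sc (f 1) v₀ := rfl

theorem coordHom_injective (h : IrrNT F M) (hf : Formula F M) {v₀ : M} (hv₀ : v₀ ∈ fixU F M)
    (hne : v₀ ≠ 0) : Function.Injective (coordHom hf hv₀) := by
  rw [injective_iff_map_eq_zero]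
  intro f hf0
  rw [coordHom_apply, sub_eq_zero] at hf0
  have h1 : sc (f 0) v₀ = 0 :=
    eq_zero_of_mem_fixU_fixL h (sc_mem_fixU _ hv₀)
      (by rw [hf0]; exact ww_smul_mem_fixL (sc_mem_fixU _ hv₀))
  have h2 : sc (f 1) v₀ = 0 := by
    rw [h1] at hf0
    have : (ww : SL2 F) • sc (f 1) v₀ = (ww : SL2 F) • (0 : M) := by rw [← hf0, smul_zero]
    exact smul_left_cancel _ this
  funext i
  fin_cases i
  · exact (sc_eq_zero h1).resolve_right hne
  · exact (sc_eq_zero h2).resolve_right hne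

theorem coordHom_surjective (h : IrrNT F M) (hf : Formula F M) (hs : fixU F M ⊔ fixL F M = ⊤)
    {v₀ : M} (hv₀ : v₀ ∈ fixU F M) (hne : v₀ ≠ 0) : Function.Surjective (coordHom hf hv₀) := by
  intro m
  obtain ⟨a, ha, b, hb, rfl⟩ := exists_decomp hs m
  obtain ⟨s, hs'⟩ := fixU_le_line h hf hv₀ hne ha
  obtain ⟨t, ht⟩ := fixU_le_line h hf hv₀ hne (ww_inv_smul_mem_fixU hb)
  have hs2 : sc s v₀ = a := hs'
  have ht2 : sc t v₀ = (ww : SL2 F)⁻¹ • b := ht
  refine ⟨![s, -t], ?_⟩
  rw [coordHom_apply]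
  simp only [Matrix.cons_val_zero, Matrix.cons_val_one]
  rw [hs2, sc_neg hf t hv₀, ht2, smul_neg, smul_inv_smul]
  abel

theorem ll_smul_coordHom (hf : Formula F M) {v₀ : M} (hv₀ : v₀ ∈ fixU F M) (x : F)
    (f : Fin 2 → F) :
    ll x • coordHom hf hv₀ f = coordHom hf hv₀ ((ll x : Matrix (Fin 2) (Fin 2) F).mulVec f) := by
  rw [coordHom_apply, coordHom_apply, smul_sub,
    ww_smul_mem_fixL (sc_mem_fixU (f 1) hv₀) x, ll_smul_eq hf x (sc_mem_fixU (f 0) hv₀)]
  have e0 : ((ll x : Matrix (Fin 2) (Fin 2) F).mulVec f) 0 = f 0 := by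
    simp [Matrix.mulVec, dotProduct, Fin.sum_univ_two]
  have e1 : ((ll x : Matrix (Fin 2) (Fin 2) F).mulVec f) 1 = x * f 0 + f 1 := by
    simp [Matrix.mulVec, dotProduct, Fin.sum_univ_two]
  rw [e0, e1, sc_add hf _ _ hv₀, smul_add, ← sc_mul, neg_mul, sc_neg hf _ hv₀, smul_neg]
  abel

theorem ww_smul_coordHom (hf : Formula F M) {v₀ : M} (hv₀ : v₀ ∈ fixU F M) (f : Fin 2 → F) :
    (ww : SL2 F) • coordHom hf hv₀ f =
      coordHom hf hv₀ (((ww : SL2 F) : Matrix (Fin 2) (Fin 2) F).mulVec f) := by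
  rw [coordHom_apply, coordHom_apply, smul_sub, ← mul_smul, ww_mul_ww]
  have e0 : (((ww : SL2 F) : Matrix (Fin 2) (Fin 2) F).mulVec f) 0 = f 1 := by
    simp [Matrix.mulVec, dotProduct, Fin.sum_univ_two]
  have e1 : (((ww : SL2 F) : Matrix (Fin 2) (Fin 2) F).mulVec f) 1 = -f 0 := by
    simp [Matrix.mulVec, dotProduct, Fin.sum_univ_two]
  rw [e0, e1, sc_neg hf _ hv₀, smul_neg, ← sc_unit]
  have e2 : (((-1 : Fˣ)) : F) = -1 := by simp
  rw [e2, ← sc_mul, neg_one_mul, sc_neg hf _ hv₀]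
  abel

theorem smul_coordHom (hf : Formula F M) {v₀ : M} (hv₀ : v₀ ∈ fixU F M) (g : SL2 F)
    (f : Fin 2 → F) :
    g • coordHom hf hv₀ f = coordHom hf hv₀ ((g : Matrix (Fin 2) (Fin 2) F).mulVec f) := by
  let H : Subgroup (SL2 F) :=
    { carrier := {g | ∀ f : Fin 2 → F,
        g • coordHom hf hv₀ f = coordHom hf hv₀ ((g : Matrix (Fin 2) (Fin 2) F).mulVec f)}
      one_mem' := by
        intro f
        rw [one_smul]
        simp
      mul_mem' := by
        intro a b ha hb f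
        rw [mul_smul, hb f, ha _, Matrix.SpecialLinearGroup.coe_mul, Matrix.mulVec_mulVec]
      inv_mem' := by
        intro a ha f
        have := ha ((((a⁻¹ : SL2 F)) : Matrix (Fin 2) (Fin 2) F).mulVec f)
        rw [Matrix.mulVec_mulVec, ← Matrix.SpecialLinearGroup.coe_mul, mul_inv_cancel] at this
        simp only [Matrix.SpecialLinearGroup.coe_one, Matrix.one_mulVec] at this
        rw [← this, inv_smul_smul] }
  have hH : H = ⊤ :=
    eq_top_of_ll_ww H (fun x f => ll_smul_coordHom hf hv₀ x f) (fun f => ww_smul_coordHom hf hv₀ f)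
  have : g ∈ H := by rw [hH]; trivial
  exact this f

/-- **The natural module**: an irreducible nontrivial finite `p`-module for `SL₂(F)` (`F` of
characteristic `p`) on which the upper unitriangular group acts quadratically, or whose order is
at most the square of the order of its fixed points, is the natural module. -/
theorem exists_natural [Fintype F] (p : ℕ) [Fact p.Prime] [CharP F p] [Finite M] (h : IrrNT F M)
    (hcard : ∃ k, Nat.card M = p ^ k)
    (hyp : QuadU F M ∨ Nat.card M ≤ Nat.card (fixU F M) ^ 2) :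
    ∃ ψ : M ≃+ (Fin 2 → F), ∀ (g : SL2 F) (m : M),
      ψ (g • m) = (g : Matrix (Fin 2) (Fin 2) F).mulVec (ψ m) := by
  haveI : Nontrivial M := by
    obtain ⟨g, m, hgm⟩ := h.nt
    exact ⟨⟨g • m, m, hgm⟩⟩
  have hne : fixU F M ≠ ⊥ := fixU_ne_bot p hcard
  have hs : fixU F M ⊔ fixL F M = ⊤ := by
    rcases hyp with hq | hc
    · exact sup_eq_top_of_quad h hq hne
    · exact sup_eq_top_of_card h hc
  have hf : Formula F M := fun x v hv => ll_smul_of_mem_fixU p h hcard hs hne x hv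
  obtain ⟨v₀, hv₀, hv₀ne⟩ : ∃ v₀ ∈ fixU F M, v₀ ≠ 0 := by
    by_contra hcon
    push Not at hcon
    apply hne
    rw [eq_bot_iff]
    intro a ha
    rw [AddSubgroup.mem_bot]
    exact hcon a ha
  let Ψ : (Fin 2 → F) ≃+ M :=
    AddEquiv.ofBijective (coordHom hf hv₀)
      ⟨coordHom_injective h hf hv₀ hv₀ne, coordHom_surjective h hf hs hv₀ hv₀ne⟩
  refine ⟨Ψ.symm, fun g m => ?_⟩
  obtain ⟨f, rfl⟩ := Ψ.surjective m
  rw [AddEquiv.symm_apply_apply]
  have : g • Ψ f = Ψ ((g : Matrix (Fin 2) (Fin 2) F).mulVec f) := smul_coordHom hf hv₀ g f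
  rw [this, AddEquiv.symm_apply_apply]

end Cfsg.Agent.Helper12.NatMod
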