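import Mathlib
import Cfsg.Agent.Lib.Helper12.NatModE
import Cfsg.Agent.Lib.Helper12.SL2Unip
import Cfsg.Prelude.Def_BaumannBlocks
import Cfsg.Prelude.Def_Transfer

/-!
# The natural module inside a group (helper12's library)

Transfer of `NatMod.exists_natural` to an elementary abelian subgroup `V` normalised by a
subgroup `G ≅ SL₂(F)` of an ambient group.
-/

set_option autoImplicit false

namespace Cfsg.Agent.Helper12.NatMod

open Matrix
open scoped IsMulCommutative

local notation "SL2" => Matrix.SpecialLinearGroup (Fin 2)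

variable {X : Type*} [Group X] {G V : Subgroup X}

/-- conjugation of `V` by an element of `G` -/
def cj (hGV : G ≤ Subgroup.normalizer (V : Set X)) (g : ↥G) (v : ↥V) : ↥V :=
  ⟨(g : X) * (v : X) * (g : X)⁻¹, (Subgroup.mem_normalizer_iff.1 (hGV g.2) v).1 v.2⟩

theorem cj_coe (hGV : G ≤ Subgroup.normalizer (V : Set X)) (g : ↥G) (v : ↥V) :
    ((cj hGV g v : ↥V) : X) = (g : X) * (v : X) * (g : X)⁻¹ := rfl

theorem cj_one (hGV : G ≤ Subgroup.normalizer (V : Set X)) (v : ↥V) : cj hGV 1 v = v := by
  apply Subtype.ext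
  rw [cj_coe]
  simp

theorem cj_mul (hGV : G ≤ Subgroup.normalizer (V : Set X)) (g h : ↥G) (v : ↥V) :
    cj hGV (g * h) v = cj hGV g (cj hGV h v) := by
  apply Subtype.ext
  simp only [cj_coe, Subgroup.coe_mul]
  group

theorem cj_map_mul (hGV : G ≤ Subgroup.normalizer (V : Set X)) (g : ↥G) (v v' : ↥V) :
    cj hGV g (v * v') = cj hGV g v * cj hGV g v' := by
  apply Subtype.ext
  simp only [cj_coe, Subgroup.coe_mul]
  group

theorem cj_map_one (hGV : G ≤ Subgroup.normalizer (V : Set X)) (g : ↥G) :
    cj hGV g (1 : ↥V) = 1 := by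
  apply Subtype.ext
  simp [cj_coe]

variable {F : Type*} [Field F]

/-- the module structure on `V` -/
@[reducible] def modV (hGV : G ≤ Subgroup.normalizer (V : Set X)) (e : ↥G ≃* SL2 F) :
    DistribMulAction (SL2 F) (Additive ↥V) where
  smul g m := Additive.ofMul (cj hGV (e.symm g) (Additive.toMul m))
  one_smul m := by
    show Additive.ofMul (cj hGV (e.symm 1) (Additive.toMul m)) = m
    rw [map_one, cj_one]
    rfl
  mul_smul g h m := by
    show Additive.ofMul (cj hGV (e.symm (g * h)) (Additive.toMul m)) =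
      Additive.ofMul (cj hGV (e.symm g) (Additive.toMul
        (Additive.ofMul (cj hGV (e.symm h) (Additive.toMul m)))))
    rw [map_mul, cj_mul]
    rfl
  smul_zero g := by
    show Additive.ofMul (cj hGV (e.symm g) (Additive.toMul (0 : Additive ↥V))) = 0
    rw [toMul_zero, cj_map_one]
    rfl
  smul_add g a b := by
    show Additive.ofMul (cj hGV (e.symm g) (Additive.toMul (a + b))) =
      Additive.ofMul (cj hGV (e.symm g) (Additive.toMul a)) +
        Additive.ofMul (cj hGV (e.symm g) (Additive.toMul b))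
    rw [toMul_add, cj_map_mul]
    rfl

theorem modV_smul (hGV : G ≤ Subgroup.normalizer (V : Set X)) (e : ↥G ≃* SL2 F) (g : SL2 F)
    (m : Additive ↥V) :
    (letI := modV hGV e; g • m) = Additive.ofMul (cj hGV (e.symm g) (Additive.toMul m)) := rfl

/-- irreducibility and nontriviality transfer -/
theorem irrNT_modV [IsMulCommutative ↥V] (hGV : G ≤ Subgroup.normalizer (V : Set X))
    (e : ↥G ≃* SL2 F)
    (hirr : ∀ U : Subgroup X, U ≤ V → G ≤ Subgroup.normalizer (U : Set X) → U = ⊥ ∨ U = V)
    (hnt : ⁅V, G⁆ ≠ ⊥) :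
    (letI := modV hGV e; IrrNT F (Additive ↥V)) := by
  letI := modV hGV e
  constructor
  · intro N hN
    -- the subgroup of `X` corresponding to `N`
    let N' : Subgroup ↥V := AddSubgroup.toSubgroup' N
    have hN'mem : ∀ v : ↥V, v ∈ N' ↔ Additive.ofMul v ∈ N := fun v => Iff.rfl
    have hinv : ∀ (g : ↥G) (v : ↥V), v ∈ N' → cj hGV g v ∈ N' := by
      intro g v hv
      have := hN (e g) (Additive.ofMul v) ((hN'mem v).1 hv)
      rw [modV_smul, e.symm_apply_apply] at this
      exact this
    let U : Subgroup X := N'.map V.subtype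
    have hUV : U ≤ V := by
      rintro _ ⟨v, -, rfl⟩
      exact v.2
    have hUn : G ≤ Subgroup.normalizer (U : Set X) := by
      intro g hg
      rw [Subgroup.mem_normalizer_iff]
      intro h
      constructor
      · rintro ⟨v, hv, rfl⟩
        exact ⟨cj hGV ⟨g, hg⟩ v, hinv _ _ hv, rfl⟩
      · rintro ⟨v, hv, hvh⟩
        refine ⟨cj hGV ⟨g, hg⟩⁻¹ v, hinv _ _ hv, ?_⟩
        show ((cj hGV ⟨g, hg⟩⁻¹ v : ↥V) : X) = h
        rw [cj_coe]
        have : (v : X) = g * h * g⁻¹ := hvh
        rw [this]
        simp only [Subgroup.coe_inv]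
        group
    rcases hirr U hUV hUn with h0 | h1
    · left
      rw [eq_bot_iff]
      intro m hm
      rw [AddSubgroup.mem_bot]
      have : ((Additive.toMul m : ↥V) : X) ∈ U := ⟨Additive.toMul m, hm, rfl⟩
      rw [h0, Subgroup.mem_bot] at this
      have h2 : (Additive.toMul m : ↥V) = 1 := Subtype.ext this
      exact h2
    · right
      rw [eq_top_iff]
      intro m _
      have : ((Additive.toMul m : ↥V) : X) ∈ U := by rw [h1]; exact (Additive.toMul m).2
      obtain ⟨v, hv, hvm⟩ := this
      have h2 : v = Additive.toMul m := Subtype.ext hvm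
      rw [h2] at hv
      exact hv
  · by_contra hcon
    push Not at hcon
    apply hnt
    rw [Subgroup.commutator_eq_bot_iff_le_centralizer]
    intro v hv
    rw [Subgroup.mem_centralizer_iff]
    intro g hg
    have := hcon (e ⟨g, hg⟩) (Additive.ofMul ⟨v, hv⟩)
    rw [modV_smul, e.symm_apply_apply] at this
    have h2 : ((cj hGV ⟨g, hg⟩ ⟨v, hv⟩ : ↥V) : X) = v := congrArg (fun w : ↥V => (w : X)) this
    rw [cj_coe] at h2
    simp only at h2
    calc g * v = g * v * g⁻¹ * g := by group
      _ = v * g := by rw [h2]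

end Cfsg.Agent.Helper12.NatMod
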