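import Mathlib
import Cfsg.Agent.Lib.Helper12.NatModF

/-!
# The natural module inside a group: the main transfer (helper12's library)
-/

set_option autoImplicit false

namespace Cfsg.Agent.Helper12.NatMod

open Matrix
open scoped IsMulCommutative commutatorElement

local notation "SL2" => Matrix.SpecialLinearGroup (Fin 2)

variable {X : Type*} [Group X] {G V : Subgroup X} {F : Type*} [Field F]

/-- conjugation by an element `s` fixes `v` iff they commute -/
theorem cj_eq_iff (hGV : G ≤ Subgroup.normalizer (V : Set X)) (g : ↥G) (v : ↥V) :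
    cj hGV g v = v ↔ (g : X) * (v : X) = (v : X) * (g : X) := by
  constructor
  · intro h
    have h2 : (g : X) * (v : X) * (g : X)⁻¹ = v := congrArg (fun w : ↥V => (w : X)) h
    calc (g : X) * v = (g : X) * v * (g : X)⁻¹ * g := by group
      _ = v * g := by rw [h2]
  · intro h
    apply Subtype.ext
    rw [cj_coe, h, mul_inv_cancel_right]

theorem quadU_modV [IsMulCommutative ↥V] (hGV : G ≤ Subgroup.normalizer (V : Set X))
    (e : ↥G ≃* SL2 F) (S' : Subgroup X)
    (hS' : ∀ y : X, y ∈ S' ↔ ∃ x : F, y = ((e.symm (uu x) : ↥G) : X))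
    (hq : ⁅⁅V, S'⁆, S'⁆ = ⊥) : (letI := modV hGV e; QuadU F (Additive ↥V)) := by
  letI := modV hGV e
  intro x y m
  set v : ↥V := Additive.toMul m with hv
  set sx : ↥G := e.symm (uu x) with hsx
  set sy : ↥G := e.symm (uu y) with hsy
  have hsxS : (sx : X) ∈ S' := (hS' _).2 ⟨x, rfl⟩
  have hsyS : (sy : X) ∈ S' := (hS' _).2 ⟨y, rfl⟩
  have key : cj hGV sx (cj hGV sy v / v) = cj hGV sy v / v := by
    rw [cj_eq_iff]
    have hc : ((cj hGV sy v / v : ↥V) : X) = ⁅(sy : X), (v : X)⁆ := by
      rw [div_eq_mul_inv, Subgroup.coe_mul, Subgroup.coe_inv, cj_coe, commutatorElement_def]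
    have hmem : ((cj hGV sy v / v : ↥V) : X) ∈ ⁅V, S'⁆ := by
      rw [hc, ← commutatorElement_inv]
      exact inv_mem (Subgroup.commutator_mem_commutator v.2 hsyS)
    have h1 : ⁅((cj hGV sy v / v : ↥V) : X), (sx : X)⁆ ∈ ⁅⁅V, S'⁆, S'⁆ :=
      Subgroup.commutator_mem_commutator hmem hsxS
    rw [hq, Subgroup.mem_bot, commutatorElement_eq_one_iff_mul_comm] at h1
    exact h1.symm
  exact congrArg Additive.ofMul key

theorem card_fixU_modV [IsMulCommutative ↥V] (hGV : G ≤ Subgroup.normalizer (V : Set X))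
    (e : ↥G ≃* SL2 F) (S' : Subgroup X)
    (hS' : ∀ y : X, y ∈ S' ↔ ∃ x : F, y = ((e.symm (uu x) : ↥G) : X)) :
    (letI := modV hGV e; Nat.card (fixU F (Additive ↥V))) =
      Nat.card ↥(V ⊓ Subgroup.centralizer (S' : Set X)) := by
  letI := modV hGV e
  have hmem : ∀ v : ↥V, Additive.ofMul v ∈ fixU F (Additive ↥V) ↔
      (v : X) ∈ Subgroup.centralizer (S' : Set X) := by
    intro v
    rw [mem_fixU, Subgroup.mem_centralizer_iff]
    constructor
    · intro h s hs
      obtain ⟨x, rfl⟩ := (hS' s).1 hs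
      have h1 := h x
      rw [modV_smul] at h1
      have h2 : cj hGV (e.symm (uu x)) v = v := Additive.ofMul.injective h1
      exact (cj_eq_iff hGV _ v).1 h2
    · intro h x
      rw [modV_smul]
      apply congrArg Additive.ofMul
      exact (cj_eq_iff hGV _ v).2 (h _ ((hS' _).2 ⟨x, rfl⟩))
  refine Nat.card_congr
    { toFun := fun m => ⟨((Additive.toMul (m : Additive ↥V) : ↥V) : X),
        ⟨(Additive.toMul (m : Additive ↥V)).2, (hmem _).1 m.2⟩⟩
      invFun := fun y => ⟨Additive.ofMul ⟨(y : X), y.2.1⟩, (hmem _).2 y.2.2⟩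
      left_inv := fun m => rfl
      right_inv := fun y => rfl }

/-- **Transfer**: `G ≅ SL₂(F)` acting irreducibly and nontrivially on the elementary abelian
`p`-group `V`, with the image `S'` of the upper unitriangular group acting quadratically or
with `|V| ≤ |C_V(S')|²`: then `V` is the natural module. -/
theorem acts_natural [Finite X] {p : ℕ} [Fact p.Prime] [Fintype F] [CharP F p]
    [IsMulCommutative ↥V] (hVp : ∀ a ∈ V, a ^ p = 1)
    (hGV : G ≤ Subgroup.normalizer (V : Set X)) (e : ↥G ≃* SL2 F)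
    (hirr : ∀ U : Subgroup X, U ≤ V → G ≤ Subgroup.normalizer (U : Set X) → U = ⊥ ∨ U = V)
    (hnt : ⁅V, G⁆ ≠ ⊥) (S' : Subgroup X)
    (hS' : ∀ y : X, y ∈ S' ↔ ∃ x : F, y = ((e.symm (uu x) : ↥G) : X))
    (hyp : ⁅⁅V, S'⁆, S'⁆ = ⊥ ∨
      Nat.card ↥V ≤ Nat.card ↥(V ⊓ Subgroup.centralizer (S' : Set X)) ^ 2) :
    Cfsg.ActsAsSL2OnSection F ⊤ G V ⊥ := by
  letI := modV hGV e
  have hI : IrrNT F (Additive ↥V) := irrNT_modV hGV e hirr hnt
  have hcard : ∃ k, Nat.card (Additive ↥V) = p ^ k := by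
    have hp : IsPGroup p ↥V := by
      intro v
      refine ⟨1, ?_⟩
      rw [pow_one]
      apply Subtype.ext
      rw [Subgroup.coe_pow]
      exact hVp _ v.2
    show ∃ k, Nat.card ↥V = p ^ k
    exact IsPGroup.iff_card.1 hp
  have hyp' : QuadU F (Additive ↥V) ∨
      Nat.card (Additive ↥V) ≤ Nat.card (fixU F (Additive ↥V)) ^ 2 := by
    rcases hyp with hq | hc
    · exact Or.inl (quadU_modV hGV e S' hS' hq)
    · right
      rw [card_fixU_modV hGV e S' hS']
      exact hc
  obtain ⟨ψ, hψ⟩ := exists_natural p hI hcard hyp'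
  let ψ' : ↥V →* Multiplicative (Fin 2 → F) :=
    { toFun := fun v => Multiplicative.ofAdd (ψ (Additive.ofMul v))
      map_one' := by
        show Multiplicative.ofAdd (ψ (Additive.ofMul (1 : ↥V))) = 1
        rw [ofMul_one, map_zero]
        rfl
      map_mul' := fun a b => by
        show Multiplicative.ofAdd (ψ (Additive.ofMul (a * b))) =
          Multiplicative.ofAdd (ψ (Additive.ofMul a)) * Multiplicative.ofAdd (ψ (Additive.ofMul b))
        rw [ofMul_mul, map_add]
        rfl }
  refine ⟨hGV, bot_le, e.toMonoidHom, ψ', ?_, ?_, ?_, ?_⟩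
  · exact MonoidHom.range_eq_top.2 e.surjective
  · intro f
    refine ⟨Additive.toMul (ψ.symm (Multiplicative.toAdd f)), ?_⟩
    show Multiplicative.ofAdd (ψ (Additive.ofMul (Additive.toMul (ψ.symm (Multiplicative.toAdd f))))) = f
    rw [ofMul_toMul, AddEquiv.apply_symm_apply]
    rfl
  · intro u
    rw [Subgroup.mem_bot]
    constructor
    · intro h
      have h1 : ψ (Additive.ofMul u) = 0 := Multiplicative.ofAdd.injective h
      have h2 : Additive.ofMul u = 0 := by
        rw [← ψ.map_eq_zero_iff]; exact h1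
      have h3 : u = 1 := Additive.ofMul.injective h2
      rw [h3]; rfl
    · intro h
      have h3 : u = 1 := Subtype.ext h
      rw [h3]
      exact map_one ψ'
  · intro g u
    refine ⟨cj hGV g u, rfl, ?_⟩
    have h1 := hψ (e g) (Additive.ofMul u)
    rw [modV_smul, e.symm_apply_apply] at h1
    exact h1

end Cfsg.Agent.Helper12.NatMod
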