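import Mathlib
import Cfsg.Agent.Lib.Helper12.NatModG

/-!
# Adjusting an isomorphism with `SL₂(F)` to a given Sylow subgroup (helper12's library)
-/

set_option autoImplicit false

namespace Cfsg.Agent.Helper12.NatMod

open Matrix
open scoped Pointwise

local notation "SL2" => Matrix.SpecialLinearGroup (Fin 2)

variable {F : Type*} [Field F]

/-- a finite field of order `p ^ n` has characteristic `p` -/
theorem charP_of_card_eq_pow [Fintype F] (p : ℕ) [hp : Fact p.Prime] {n : ℕ}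
    (h : Fintype.card F = p ^ n) : CharP F p := by
  haveI := ringChar.charP F
  obtain ⟨k, hr, hc⟩ := FiniteField.card F (ringChar F)
  have hdvd : ringChar F ∣ p ^ n := by
    rw [← h, hc]
    exact dvd_pow_self _ k.ne_zero
  have := hr.dvd_of_dvd_pow hdvd
  have heq := (Nat.prime_dvd_prime_iff_eq hr hp.out).1 this
  rw [← heq]
  infer_instance

theorem mem_unipSL2_iff_uu (g : SL2 F) :
    g ∈ Cfsg.Agent.Helper12.unipSL2 F ↔ ∃ x : F, g = uu x := by
  rw [Cfsg.Agent.Helper12.mem_unipSL2_iff]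
  constructor
  · rintro ⟨h10, h00, h11⟩
    refine ⟨(g : Matrix (Fin 2) (Fin 2) F) 0 1, ?_⟩
    apply sl2_ext
    ext i j
    fin_cases i <;> fin_cases j <;> simp [h10, h00, h11]
  · rintro ⟨x, rfl⟩
    simp

theorem exists_adjusted_equiv {Gt : Type*} [Group Gt] [Fintype F] {p : ℕ} [Fact p.Prime]
    [CharP F p] (e : Gt ≃* SL2 F) (S : Sylow p Gt) :
    ∃ e' : Gt ≃* SL2 F, ∀ g : Gt, g ∈ S ↔ ∃ x : F, e' g = uu x := by
  classical
  haveI : Finite Gt := Finite.of_equiv _ e.symm.toEquiv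
  let T : Subgroup (SL2 F) := (S : Subgroup Gt).map e.toMonoidHom
  have hTcard : Nat.card T = p ^ (Nat.card (SL2 F)).factorization p := by
    rw [Subgroup.card_map_of_injective e.injective, Sylow.card_eq_multiplicity,
      Nat.card_congr e.toEquiv]
  obtain ⟨g₀, hg₀⟩ := Cfsg.Agent.Helper12.exists_conj_unipSL2 p (Sylow.ofCard T hTcard)
  have hT : T = MulAut.conj g₀ • Cfsg.Agent.Helper12.unipSL2 F := hg₀
  refine ⟨e.trans (MulAut.conj g₀⁻¹), fun g => ?_⟩
  have h1 : g ∈ S ↔ e g ∈ T := by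
    constructor
    · intro hg
      exact ⟨g, hg, rfl⟩
    · rintro ⟨g', hg', hgg⟩
      have : g' = g := e.injective hgg
      rw [← this]; exact hg'
  rw [h1, hT, Subgroup.mem_pointwise_smul_iff_inv_smul_mem, ← mem_unipSL2_iff_uu]
  have h2 : (MulAut.conj g₀)⁻¹ • e g = (e.trans (MulAut.conj g₀⁻¹)) g := by
    rw [MulAut.smul_def, ← map_inv]
    rfl
  rw [h2]

end Cfsg.Agent.Helper12.NatMod
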