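import Mathlib
import Cfsg.Agent.Lib.Helper12.NilCover

/-!
# Nilpotent overgroups of odd cycles in symmetric groups (helper12)
-/

set_option autoImplicit false

namespace Cfsg.Agent.Helper12.NilCoverSym

open Equiv Equiv.Perm

variable {n : ℕ}

/-- a cycle with prescribed support -/
theorem exists_cycle (s : Finset (Fin n)) (hs : 2 ≤ s.card) :
    ∃ c : Perm (Fin n), c.IsCycle ∧ c.support = s := by
  refine ⟨s.toList.formPerm, ?_, ?_⟩
  · apply List.isCycle_formPerm (Finset.nodup_toList s)
    rw [Finset.length_toList]; exact hs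
  · rw [List.support_formPerm_of_nodup _ (Finset.nodup_toList s), Finset.toList_toFinset]
    intro x hx
    have := congrArg List.length hx
    rw [Finset.length_toList, List.length_singleton] at this
    omega

/-- the restriction of a commuting permutation to the support of a cycle is a power of it -/
theorem exists_pow_of_commute {c x : Perm (Fin n)} (hc : c.IsCycle) (hx : Commute x c) :
    (∀ p, x p ∈ c.support ↔ p ∈ c.support) ∧
      ∃ k : ℕ, ∀ p ∈ c.support, x p = (c ^ k) p := by
  obtain ⟨hc', hmem⟩ := hc.commute_iff.mp hx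
  refine ⟨hc', ?_⟩
  rw [← mem_powers_iff_mem_zpowers] at hmem
  obtain ⟨k, hk⟩ := hmem
  refine ⟨k, fun p hp => ?_⟩
  have h1 := ofSubtype_subtypePerm_of_mem hc' hp
  rw [← h1]
  exact (congrArg (fun f : Perm (Fin n) => f p) hk).symm

/-- a permutation commuting with a cycle missing at most one point is a power of it -/
theorem mem_zpowers_of_commute {c x : Perm (Fin n)} (hc : c.IsCycle)
    (hcard : n ≤ c.support.card + 1) (hx : Commute x c) : x ∈ Subgroup.zpowers c := by
  obtain ⟨hpres, k, hk⟩ := exists_pow_of_commute hc hx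
  have hcomp : (c.support)ᶜ.card ≤ 1 := by
    rw [Finset.card_compl, Fintype.card_fin]; omega
  have : x = c ^ k := by
    ext p
    by_cases hp : p ∈ c.support
    · rw [hk p hp]
    · have h1 : (c ^ k) p = p := pow_apply_eq_self_of_apply_eq_self (notMem_support.mp hp) k
      have h2 : x p ∉ c.support := fun h => hp ((hpres p).mp h)
      have h3 : x p = p := by
        apply Finset.card_le_one.mp hcomp
        · exact Finset.mem_compl.mpr h2
        · exact Finset.mem_compl.mpr hp
      rw [h1, h3]
  rw [this]
  exact Subgroup.pow_mem _ (Subgroup.mem_zpowers c) k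

/-- an even permutation commuting with an even cycle missing at most two points is a power of
it -/
theorem mem_zpowers_of_commute_of_even {c x : Perm (Fin n)} (hc : c.IsCycle)
    (hcard : n ≤ c.support.card + 2) (hcs : sign c = 1) (hxs : sign x = 1) (hx : Commute x c) :
    x ∈ Subgroup.zpowers c := by
  obtain ⟨hpres, k, hk⟩ := exists_pow_of_commute hc hx
  have hcomp : (c.support)ᶜ.card ≤ 2 := by
    rw [Finset.card_compl, Fintype.card_fin]; omega
  obtain ⟨y, hy⟩ : ∃ y, y = (c ^ k)⁻¹ * x := ⟨_, rfl⟩
  have hys : sign y = 1 := by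
    rw [hy, map_mul, map_inv, map_pow, hcs, hxs]; simp
  have hy1 : ∀ p ∈ c.support, y p = p := by
    intro p hp
    rw [hy, mul_apply, hk p hp, ← mul_apply, inv_mul_cancel, one_apply]
  have hy2 : ∀ p, p ∉ c.support → y p = x p := by
    intro p hp
    have h2 : x p ∉ c.support := fun h => hp ((hpres p).mp h)
    have h3 : (c ^ k) (x p) = x p := pow_apply_eq_self_of_apply_eq_self (notMem_support.mp h2) k
    rw [hy, mul_apply]
    nth_rewrite 1 [← h3]
    rw [← mul_apply, inv_mul_cancel, one_apply]
  have hy3 : ∀ p, p ∉ c.support → y p ∉ c.support := by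
    intro p hp
    rw [hy2 p hp]
    exact fun h => hp ((hpres p).mp h)
  have hy_one : y = 1 := by
    by_contra hne
    obtain ⟨p, hp⟩ : ∃ p, y p ≠ p := by
      by_contra hcon
      push Not at hcon
      exact hne (Equiv.ext hcon)
    have hpc : p ∉ c.support := fun h => hp (hy1 p h)
    obtain ⟨q, hq⟩ : ∃ q, q = y p := ⟨_, rfl⟩
    have hqc : q ∉ c.support := hq ▸ hy3 p hpc
    have hqp : q ≠ p := hq ▸ hp
    have hyq : y q = p := by
      by_contra hne2
      have hyqc : y q ∉ c.support := hy3 q hqc
      have hyqq : y q ≠ q := by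
        intro h
        apply hqp
        apply y.injective
        rw [h, hq]
      have hsub : ({p, q, y q} : Finset (Fin n)) ⊆ (c.support)ᶜ := by
        intro r hr
        simp only [Finset.mem_insert, Finset.mem_singleton] at hr
        rw [Finset.mem_compl]
        rcases hr with rfl | rfl | rfl
        · exact hpc
        · exact hqc
        · exact hyqc
      have h3 : ({p, q, y q} : Finset (Fin n)).card = 3 := by
        rw [Finset.card_insert_of_notMem, Finset.card_insert_of_notMem, Finset.card_singleton]
        · rw [Finset.mem_singleton]; exact fun h => hyqq h.symm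
        · rw [Finset.mem_insert, Finset.mem_singleton]
          rintro (h | h)
          · exact hqp h.symm
          · exact hne2 h.symm
      have := Finset.card_le_card hsub
      omega
    have hsw : y = swap p q := by
      ext r
      by_cases hr : r ∈ c.support
      · rw [hy1 r hr, swap_apply_of_ne_of_ne]
        · rintro rfl; exact hpc hr
        · rintro rfl; exact hqc hr
      · by_cases hrp : r = p
        · rw [hrp, swap_apply_left, hq]
        · by_cases hrq : r = q
          · rw [hrq, swap_apply_right, hyq]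
          · exfalso
            have hsub : ({p, q, r} : Finset (Fin n)) ⊆ (c.support)ᶜ := by
              intro t ht
              simp only [Finset.mem_insert, Finset.mem_singleton] at ht
              rw [Finset.mem_compl]
              rcases ht with rfl | rfl | rfl
              · exact hpc
              · exact hqc
              · exact hr
            have h3 : ({p, q, r} : Finset (Fin n)).card = 3 := by
              rw [Finset.card_insert_of_notMem, Finset.card_insert_of_notMem,
                Finset.card_singleton]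
              · rw [Finset.mem_singleton]; exact fun h => hrq h.symm
              · rw [Finset.mem_insert, Finset.mem_singleton]
                rintro (h | h)
                · exact hqp h.symm
                · exact hrp h.symm
            have := Finset.card_le_card hsub
            omega
    rw [hsw, sign_swap hqp.symm] at hys
    exact absurd hys (by decide)
  have : x = c ^ k := by
    have h1 : x = c ^ k * y := by rw [hy]; group
    rw [h1, hy_one, mul_one]
  rw [this]
  exact Subgroup.pow_mem _ (Subgroup.mem_zpowers c) k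

/-- the core situation: a nilpotent subgroup containing an odd cycle whose centralizer in the
subgroup consists of powers of the cycle -/
structure Core (B : Subgroup (Perm (Fin n))) (c : Perm (Fin n)) : Prop where
  nil : Group.IsNilpotent ↥B
  mem : c ∈ B
  cyc : c.IsCycle
  odd : Odd (orderOf c)
  cent : ∀ x ∈ B, Commute x c → x ∈ Subgroup.zpowers c

namespace Core

variable {B : Subgroup (Perm (Fin n))} {c : Perm (Fin n)}

theorem no_inv (h : Core B c) {x : Perm (Fin n)} (hx : x ∈ B) (hx2 : x ^ 2 = 1) : x = 1 := by
  by_contra hne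
  haveI : Fact (Nat.Prime 2) := ⟨Nat.prime_two⟩
  have hord : orderOf x = 2 := orderOf_eq_prime hx2 hne
  have hcop : (orderOf x).Coprime (orderOf c) := by
    rw [hord]
    exact (Nat.coprime_two_left).mpr h.odd
  have hcomm : x * c = c * x :=
    Cfsg.Agent.Helper21.commute_of_mem_of_nilpotent h.nil hx h.mem hcop
  have hz := h.cent x hx hcomm
  have hdvd := orderOf_dvd_of_mem_zpowers hz
  rw [hord] at hdvd
  have := h.odd
  rw [← Nat.not_even_iff_odd] at this
  exact this (even_iff_two_dvd.mpr hdvd)

theorem odd_order (h : Core B c) {x : Perm (Fin n)} (hx : x ∈ B) : Odd (orderOf x) := by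
  rw [← Nat.not_even_iff_odd]
  rintro ⟨k, hk⟩
  have hpos : 0 < orderOf x := orderOf_pos x
  have hk0 : 0 < k := by omega
  have h1 : (x ^ k) ^ 2 = 1 := by
    rw [← pow_mul, mul_two, ← hk, pow_orderOf_eq_one]
  have h2 := h.no_inv (B.pow_mem hx k) h1
  have h3 : x ^ k ≠ 1 := pow_ne_one_of_lt_orderOf hk0.ne' (by omega)
  exact h3 h2

theorem le_alt (h : Core B c) : B ≤ alternatingGroup (Fin n) := by
  intro x hx
  rw [mem_alternatingGroup]
  obtain ⟨k, hk⟩ := h.odd_order hx
  have h1 : (sign x) ^ (orderOf x) = 1 := by rw [← map_pow, pow_orderOf_eq_one, map_one]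
  rcases Int.units_eq_one_or (sign x) with h2 | h2
  · exact h2
  · rw [h2, hk, pow_succ, pow_mul] at h1
    simp at h1

/-- the fixed points of `c` are permuted by `B` -/
theorem map_fixed (h : Core B c) {x : Perm (Fin n)} (hx : x ∈ B) {p : Fin n} (hp : c p = p) :
    c (x p) = x p := by
  haveI : Group.IsNilpotent ↥B := h.nil
  haveI : Nontrivial ↥B := ⟨⟨⟨c, h.mem⟩, 1, fun he => h.cyc.ne_one (congrArg Subtype.val he)⟩⟩
  have hcen := Group.IsNilpotent.center_ne_bot ↥B
  obtain ⟨⟨⟨z, hzB⟩, hzc⟩, hz1⟩ := (Subgroup.ne_bot_iff_exists_ne_one).mp hcen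
  have hz1' : z ≠ 1 := fun he => hz1 (Subtype.ext (Subtype.ext he))
  have hcomm : ∀ y ∈ B, y * z = z * y := by
    intro y hy
    have := Subgroup.mem_center_iff.mp hzc ⟨y, hy⟩
    exact congrArg Subtype.val this
  have hzc' : Commute z c := (hcomm c h.mem).symm
  have hzp := h.cent z hzB hzc'
  rw [← mem_powers_iff_mem_zpowers] at hzp
  obtain ⟨j, hj⟩ := hzp
  change c ^ j = z at hj
  have hzp' : z p = p := by
    rw [← hj]; exact pow_apply_eq_self_of_apply_eq_self hp j
  have hzx : z (x p) = x p := by
    have := congrArg (fun f : Perm (Fin n) => f p) (hcomm x hx)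
    simp only [mul_apply] at this
    rw [hzp'] at this
    exact this.symm
  by_contra hne
  have := (h.cyc.pow_eq_one_iff' (n := j) hne).mpr (by rw [hj]; exact hzx)
  rw [hj] at this
  exact hz1' this

/-- with at most two fixed points, `B` fixes each of them -/
theorem fixes (h : Core B c) (hcard : n ≤ c.support.card + 2) {x : Perm (Fin n)} (hx : x ∈ B)
    {p : Fin n} (hp : c p = p) : x p = p := by
  have hcomp : (c.support)ᶜ.card ≤ 2 := by
    rw [Finset.card_compl, Fintype.card_fin]; omega
  by_contra hne
  obtain ⟨q, hq⟩ : ∃ q, q = x p := ⟨_, rfl⟩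
  have hqp : q ≠ p := hq ▸ hne
  have hpc : p ∉ c.support := notMem_support.mpr hp
  have hqfix : c q = q := hq ▸ h.map_fixed hx hp
  have hqc : q ∉ c.support := notMem_support.mpr hqfix
  have hxq : x q = p := by
    by_contra hne2
    have hxqfix : c (x q) = x q := h.map_fixed hx hqfix
    have hxqc : x q ∉ c.support := notMem_support.mpr hxqfix
    have hxqq : x q ≠ q := by
      intro he
      apply hqp
      apply x.injective
      rw [he, hq]
    have hsub : ({p, q, x q} : Finset (Fin n)) ⊆ (c.support)ᶜ := by
      intro r hr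
      simp only [Finset.mem_insert, Finset.mem_singleton] at hr
      rw [Finset.mem_compl]
      rcases hr with rfl | rfl | rfl
      · exact hpc
      · exact hqc
      · exact hxqc
    have h3 : ({p, q, x q} : Finset (Fin n)).card = 3 := by
      rw [Finset.card_insert_of_notMem, Finset.card_insert_of_notMem, Finset.card_singleton]
      · rw [Finset.mem_singleton]; exact fun he => hxqq he.symm
      · rw [Finset.mem_insert, Finset.mem_singleton]
        rintro (he | he)
        · exact hqp he.symm
        · exact hne2 he.symm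
    have := Finset.card_le_card hsub
    omega
  have hodd : ∀ k : ℕ, (x ^ (2 * k + 1)) p = q := by
    intro k
    induction k with
    | zero => simp [hq]
    | succ k ih =>
      have : 2 * (k + 1) + 1 = 2 + (2 * k + 1) := by ring
      rw [this, pow_add, mul_apply, ih, pow_two, mul_apply, hxq, hq]
  obtain ⟨k, hk⟩ := h.odd_order hx
  have h1 := hodd k
  rw [← hk, pow_orderOf_eq_one, one_apply] at h1
  exact hqp h1.symm

end Core

/-- the involution produced from a cycle and its conjugate by an adjacent transposition -/
theorem inv_trick {α : Type*} [DecidableEq α] (c : Perm α) (a : α)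
    (h01 : a ≠ c a) (h02 : a ≠ c (c a)) (h03 : a ≠ c (c (c a)))
    (h12 : c a ≠ c (c a)) (h13 : c a ≠ c (c (c a))) :
    ((swap a (c a) * c * (swap a (c a))⁻¹ * c⁻¹) *
      (c * (swap a (c a) * c * (swap a (c a))⁻¹ * c⁻¹) * c⁻¹)) ^ 2 = 1 ∧
    (swap a (c a) * c * (swap a (c a))⁻¹ * c⁻¹) *
      (c * (swap a (c a) * c * (swap a (c a))⁻¹ * c⁻¹) * c⁻¹) ≠ 1 := by
  obtain ⟨b1, hb1⟩ : ∃ b1, b1 = c a := ⟨_, rfl⟩
  obtain ⟨b2, hb2⟩ : ∃ b2, b2 = c b1 := ⟨_, rfl⟩
  obtain ⟨b3, hb3⟩ : ∃ b3, b3 = c b2 := ⟨_, rfl⟩
  rw [← hb1] at h01 h12 h13 h02 h03 ⊢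
  rw [← hb2] at h02 h12 h13 h03
  rw [← hb3] at h03 h13
  have hw : swap a b1 * c * (swap a b1)⁻¹ * c⁻¹ = swap a b1 * swap b1 b2 := by
    rw [hb1, hb2, hb1, swap_apply_apply c a (c a), swap_inv]
    group
  have ht : c * (swap a b1 * swap b1 b2) * c⁻¹ = swap b1 b2 * swap b2 b3 := by
    have e1 : c * (swap a b1 * swap b1 b2) * c⁻¹ =
        (c * swap a b1 * c⁻¹) * (c * swap b1 b2 * c⁻¹) := by group
    rw [e1, ← swap_apply_apply, ← swap_apply_apply, ← hb1, ← hb2, ← hb3]
  have hv : (swap a b1 * swap b1 b2) * (swap b1 b2 * swap b2 b3) = swap a b1 * swap b2 b3 := by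
    have : (swap a b1 * swap b1 b2) * (swap b1 b2 * swap b2 b3) =
        swap a b1 * (swap b1 b2 * swap b1 b2) * swap b2 b3 := by group
    rw [this, swap_mul_self, mul_one]
  rw [hw, ht, hv]
  have hcomm : swap b2 b3 * swap a b1 * (swap b2 b3)⁻¹ = swap a b1 := by
    rw [← swap_apply_apply, swap_apply_of_ne_of_ne h02 h03, swap_apply_of_ne_of_ne h12 h13]
  constructor
  · rw [pow_two]
    have : swap a b1 * swap b2 b3 * (swap a b1 * swap b2 b3) =
        swap a b1 * (swap b2 b3 * swap a b1 * (swap b2 b3)⁻¹) := by
      rw [swap_inv]; group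
    rw [this, hcomm, swap_mul_self]
  · intro h1
    have := congrArg (fun f : Perm α => f a) h1
    simp only [mul_apply, one_apply] at this
    rw [swap_apply_of_ne_of_ne h02 h03, swap_apply_left] at this
    exact h01 this.symm

end Cfsg.Agent.Helper12.NilCoverSym
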