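import Mathlib
import Cfsg.Agent.Lib.Helper12.NilCoverSym

/-!
# Symmetric and alternating groups have no nilpotent minimal cover (helper12)
-/

set_option autoImplicit false

namespace Cfsg.Agent.Helper12.NilCoverSym

open Equiv Equiv.Perm Cfsg.Agent.Helper12.NilCover

variable {n : ℕ}

theorem core_of_big {B : Subgroup (Perm (Fin n))} {c : Perm (Fin n)}
    (hB : Group.IsNilpotent ↥B) (hc : c ∈ B) (hcyc : c.IsCycle) (hodd : Odd c.support.card)
    (hcard : n ≤ c.support.card + 1) : Core B c :=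
  ⟨hB, hc, hcyc, by rw [hcyc.orderOf]; exact hodd,
    fun x _ hx => mem_zpowers_of_commute hcyc hcard hx⟩

theorem sign_of_odd_cycle {c : Perm (Fin n)} (hcyc : c.IsCycle) (hodd : Odd c.support.card) :
    sign c = 1 := by
  rw [hcyc.sign, hodd.neg_one_pow, neg_neg]

theorem core_of_even {B : Subgroup (Perm (Fin n))} {c : Perm (Fin n)}
    (hB : Group.IsNilpotent ↥B) (hc : c ∈ B) (hcyc : c.IsCycle) (hodd : Odd c.support.card)
    (hcard : n ≤ c.support.card + 2) (hBalt : B ≤ alternatingGroup (Fin n)) : Core B c :=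
  ⟨hB, hc, hcyc, by rw [hcyc.orderOf]; exact hodd,
    fun x hxB hx => mem_zpowers_of_commute_of_even hcyc hcard (sign_of_odd_cycle hcyc hodd)
      (mem_alternatingGroup.mp (hBalt hxB)) hx⟩

/-- points on a cycle are distinct -/
theorem pow_apply_ne {c : Perm (Fin n)} (hcyc : c.IsCycle) {a : Fin n} (ha : c a ≠ a) {j : ℕ}
    (hj0 : 0 < j) (hj : j < orderOf c) : (c ^ j) a ≠ a := by
  intro h
  have := (hcyc.pow_eq_one_iff' (n := j) ha).mpr h
  exact pow_ne_one_of_lt_orderOf hj0.ne' hj this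

theorem distinct_of_cycle {c : Perm (Fin n)} (hcyc : c.IsCycle) {a : Fin n} (ha : c a ≠ a)
    (hord : 4 ≤ orderOf c) :
    a ≠ c a ∧ a ≠ c (c a) ∧ a ≠ c (c (c a)) ∧ c a ≠ c (c a) ∧ c a ≠ c (c (c a)) := by
  have h1 : (c ^ 1) a ≠ a := pow_apply_ne hcyc ha (by norm_num) (by omega)
  have h2 : (c ^ 2) a ≠ a := pow_apply_ne hcyc ha (by norm_num) (by omega)
  have h3 : (c ^ 3) a ≠ a := pow_apply_ne hcyc ha (by norm_num) (by omega)
  rw [pow_one] at h1
  have e2 : (c ^ 2) a = c (c a) := by rw [pow_two, mul_apply]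
  have e3 : (c ^ 3) a = c (c (c a)) := by rw [pow_succ, pow_two, mul_apply, mul_apply]
  rw [e2] at h2
  rw [e3] at h3
  refine ⟨fun h => h1 h.symm, fun h => h2 h.symm, fun h => h3 h.symm, ?_, ?_⟩
  · intro h
    exact h1 (c.injective h).symm
  · intro h
    exact h2 (c.injective h).symm

theorem card_support_conj (σ c : Perm (Fin n)) :
    (σ * c * σ⁻¹).support.card = c.support.card := by
  rw [support_conj, Finset.card_map]

/-- the involution in a subgroup containing a cycle and its special conjugate -/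
theorem exists_inv_of_mem {B : Subgroup (Perm (Fin n))} {c : Perm (Fin n)} (hcyc : c.IsCycle)
    {a : Fin n} (ha : c a ≠ a) (hord : 4 ≤ orderOf c) (hc : c ∈ B)
    (hc' : swap a (c a) * c * (swap a (c a))⁻¹ ∈ B) :
    ∃ v ∈ B, v ^ 2 = 1 ∧ v ≠ 1 := by
  obtain ⟨h01, h02, h03, h12, h13⟩ := distinct_of_cycle hcyc ha hord
  have hw : swap a (c a) * c * (swap a (c a))⁻¹ * c⁻¹ ∈ B := B.mul_mem hc' (B.inv_mem hc)
  obtain ⟨h1, h2⟩ := inv_trick c a h01 h02 h03 h12 h13
  exact ⟨_, B.mul_mem hw (B.mul_mem (B.mul_mem hc hw) (B.inv_mem hc)), h1, h2⟩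

section Sym

variable {𝓐 : Finset (Subgroup (Perm (Fin n)))}

theorem alt_ne_top (hn : 2 ≤ n) : alternatingGroup (Fin n) ≠ ⊤ := by
  intro htop
  have hne : (⟨0, by omega⟩ : Fin n) ≠ ⟨1, by omega⟩ := by
    intro h
    have := congrArg Fin.val h
    simp at this
  have hmem : swap (⟨0, by omega⟩ : Fin n) ⟨1, by omega⟩ ∈ alternatingGroup (Fin n) := by
    rw [htop]; exact Subgroup.mem_top _
  rw [mem_alternatingGroup, sign_swap hne] at hmem
  exact absurd hmem (by decide)

theorem sym_even (hn : 4 ≤ n) (he : Even n) (h : NMC 𝓐) : False := by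
  obtain ⟨k, hk⟩ := he
  obtain ⟨p1, hp1⟩ : ∃ p1 : Fin n, p1 = ⟨0, by omega⟩ := ⟨_, rfl⟩
  obtain ⟨p2, hp2⟩ : ∃ p2 : Fin n, p2 = ⟨1, by omega⟩ := ⟨_, rfl⟩
  have hp12 : p1 ≠ p2 := by
    rw [hp1, hp2]
    intro h'
    have := congrArg Fin.val h'
    simp at this
  have hcard : ∀ p : Fin n, (Finset.univ.erase p).card = n - 1 := by
    intro p
    rw [Finset.card_erase_of_mem (Finset.mem_univ p), Finset.card_univ, Fintype.card_fin]
  obtain ⟨c1, hc1, hs1⟩ := exists_cycle (Finset.univ.erase p1) (by rw [hcard]; omega)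
  obtain ⟨c2, hc2, hs2⟩ := exists_cycle (Finset.univ.erase p2) (by rw [hcard]; omega)
  have hodd1 : Odd c1.support.card := by rw [hs1, hcard]; exact ⟨k - 1, by omega⟩
  have hodd2 : Odd c2.support.card := by rw [hs2, hcard]; exact ⟨k - 1, by omega⟩
  obtain ⟨A1, hA1, hcA1⟩ := h.cover c1
  obtain ⟨A2, hA2, hcA2⟩ := h.cover c2
  have core1 : Core A1 c1 := core_of_big (h.nil A1 hA1) hcA1 hc1 hodd1 (by rw [hs1, hcard]; omega)
  have core2 : Core A2 c2 := core_of_big (h.nil A2 hA2) hcA2 hc2 hodd2 (by rw [hs2, hcard]; omega)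
  have heq : A1 = A2 := h.eq_of_le (alt_ne_top (by omega)) hA1 hA2 core1.le_alt core2.le_alt
  have hfix1 : c1 p1 = p1 := by
    rw [← notMem_support, hs1]
    exact Finset.notMem_erase p1 _
  have h2 : c2 p1 = p1 := core1.fixes (by rw [hs1, hcard]; omega) (heq ▸ hcA2) hfix1
  have h3 : p1 ∈ c2.support := by
    rw [hs2]
    exact Finset.mem_erase.mpr ⟨hp12, Finset.mem_univ _⟩
  exact (mem_support.mp h3) h2

theorem sym_odd (hn : 5 ≤ n) (ho : Odd n) (h : NMC 𝓐) : False := by
  have hcard : (Finset.univ : Finset (Fin n)).card = n := by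
    rw [Finset.card_univ, Fintype.card_fin]
  obtain ⟨c, hc, hs⟩ := exists_cycle (Finset.univ : Finset (Fin n)) (by rw [hcard]; omega)
  obtain ⟨a, ha⟩ : ∃ a : Fin n, a = ⟨0, by omega⟩ := ⟨_, rfl⟩
  have hca : c a ≠ a := by
    rw [← mem_support, hs]; exact Finset.mem_univ _
  obtain ⟨c', hc'⟩ : ∃ c', c' = swap a (c a) * c * (swap a (c a))⁻¹ := ⟨_, rfl⟩
  have hcyc' : c'.IsCycle := hc' ▸ hc.conj
  have hcs : c.support.card = n := by rw [hs, hcard]
  have hcs' : c'.support.card = n := by rw [hc', card_support_conj, hcs]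
  obtain ⟨A1, hA1, hcA1⟩ := h.cover c
  obtain ⟨A2, hA2, hcA2⟩ := h.cover c'
  have core1 : Core A1 c := core_of_big (h.nil A1 hA1) hcA1 hc (by rw [hcs]; exact ho) (by omega)
  have core2 : Core A2 c' := core_of_big (h.nil A2 hA2) hcA2 hcyc' (by rw [hcs']; exact ho) (by omega)
  have heq : A1 = A2 := h.eq_of_le (alt_ne_top (by omega)) hA1 hA2 core1.le_alt core2.le_alt
  have hord : 4 ≤ orderOf c := by rw [hc.orderOf, hcs]; omega
  obtain ⟨v, hv, hv2, hv1⟩ := exists_inv_of_mem hc hca hord hcA1 (hc' ▸ heq ▸ hcA2)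
  exact hv1 (core1.no_inv hv hv2)

end Sym

section Alt

variable {𝓐 : Finset (Subgroup ↥(alternatingGroup (Fin n)))}

/-- the image of a subgroup of the alternating group in the symmetric group -/
def img (A : Subgroup ↥(alternatingGroup (Fin n))) : Subgroup (Perm (Fin n)) :=
  A.map (alternatingGroup (Fin n)).subtype

theorem mem_img {A : Subgroup ↥(alternatingGroup (Fin n))} {x : Perm (Fin n)}
    (hx : x ∈ alternatingGroup (Fin n)) : x ∈ img A ↔ (⟨x, hx⟩ : alternatingGroup (Fin n)) ∈ A := by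
  constructor
  · rintro ⟨y, hy, rfl⟩
    exact hy
  · intro h
    exact ⟨⟨x, hx⟩, h, rfl⟩

theorem img_le (A : Subgroup ↥(alternatingGroup (Fin n))) : img A ≤ alternatingGroup (Fin n) := by
  rintro _ ⟨y, _, rfl⟩
  exact y.2

theorem img_nilpotent {A : Subgroup ↥(alternatingGroup (Fin n))} (hA : Group.IsNilpotent ↥A) :
    Group.IsNilpotent ↥(img A) :=
  Group.nilpotent_of_mulEquiv
    (Subgroup.equivMapOfInjective A _ (Subgroup.subtype_injective _))

/-- the stabilizer of a point in the alternating group -/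
def stab (b : Fin n) : Subgroup ↥(alternatingGroup (Fin n)) :=
  (MulAction.stabilizer (Perm (Fin n)) b).comap (alternatingGroup (Fin n)).subtype

theorem mem_stab {b : Fin n} {x : alternatingGroup (Fin n)} :
    x ∈ stab b ↔ (x : Perm (Fin n)) b = b := by
  rw [stab, Subgroup.mem_comap, MulAction.mem_stabilizer_iff]
  rfl

theorem stab_ne_top {b : Fin n} {c : Perm (Fin n)} (hc : c ∈ alternatingGroup (Fin n))
    (hcb : c b ≠ b) : stab b ≠ ⊤ := by
  intro htop
  have : (⟨c, hc⟩ : alternatingGroup (Fin n)) ∈ stab b := by rw [htop]; exact Subgroup.mem_top _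
  exact hcb (mem_stab.mp this)

theorem le_stab_of_core {A : Subgroup ↥(alternatingGroup (Fin n))} {c : Perm (Fin n)}
    (hcore : Core (img A) c) (hcard : n ≤ c.support.card + 2) {b : Fin n} (hb : c b = b) :
    A ≤ stab b := by
  intro x hx
  rw [mem_stab]
  exact hcore.fixes hcard ((mem_img x.2).mpr hx) hb

theorem alt_odd (hn : 5 ≤ n) (ho : Odd n) (h : NMC 𝓐) : False := by
  obtain ⟨k, hk⟩ := ho
  obtain ⟨a, ha⟩ : ∃ a : Fin n, a = ⟨0, by omega⟩ := ⟨_, rfl⟩
  obtain ⟨a', ha'⟩ : ∃ a' : Fin n, a' = ⟨1, by omega⟩ := ⟨_, rfl⟩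
  obtain ⟨b, hb⟩ : ∃ b : Fin n, b = ⟨2, by omega⟩ := ⟨_, rfl⟩
  have haa' : a ≠ a' := by
    rw [ha, ha']; intro h'; have := congrArg Fin.val h'; simp at this
  have hab : a ≠ b := by
    rw [ha, hb]; intro h'; have := congrArg Fin.val h'; simp at this
  have ha'b : a' ≠ b := by
    rw [ha', hb]; intro h'; have := congrArg Fin.val h'; simp at this
  have hcard : ∀ p q : Fin n, p ≠ q → ((Finset.univ.erase p).erase q).card = n - 2 := by
    intro p q hpq
    rw [Finset.card_erase_of_mem (Finset.mem_erase.mpr ⟨hpq.symm, Finset.mem_univ q⟩),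
      Finset.card_erase_of_mem (Finset.mem_univ p), Finset.card_univ, Fintype.card_fin]
    omega
  obtain ⟨c1, hc1, hs1⟩ := exists_cycle ((Finset.univ.erase a).erase b) (by rw [hcard a b hab]; omega)
  obtain ⟨c2, hc2, hs2⟩ := exists_cycle ((Finset.univ.erase a').erase b)
    (by rw [hcard a' b ha'b]; omega)
  obtain ⟨c3, hc3, hs3⟩ := exists_cycle ((Finset.univ.erase a).erase a')
    (by rw [hcard a a' haa']; omega)
  have hodd1 : Odd c1.support.card := by rw [hs1, hcard a b hab]; exact ⟨k - 1, by omega⟩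
  have hodd2 : Odd c2.support.card := by rw [hs2, hcard a' b ha'b]; exact ⟨k - 1, by omega⟩
  have hodd3 : Odd c3.support.card := by rw [hs3, hcard a a' haa']; exact ⟨k - 1, by omega⟩
  have halt1 : c1 ∈ alternatingGroup (Fin n) := mem_alternatingGroup.mpr (sign_of_odd_cycle hc1 hodd1)
  have halt2 : c2 ∈ alternatingGroup (Fin n) := mem_alternatingGroup.mpr (sign_of_odd_cycle hc2 hodd2)
  have halt3 : c3 ∈ alternatingGroup (Fin n) := mem_alternatingGroup.mpr (sign_of_odd_cycle hc3 hodd3)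
  obtain ⟨A1, hA1, hcA1⟩ := h.cover ⟨c1, halt1⟩
  obtain ⟨A2, hA2, hcA2⟩ := h.cover ⟨c2, halt2⟩
  have hn1 : n ≤ c1.support.card + 2 := by rw [hs1, hcard a b hab]; omega
  have hn2 : n ≤ c2.support.card + 2 := by rw [hs2, hcard a' b ha'b]; omega
  have core1 : Core (img A1) c1 := core_of_even (img_nilpotent (h.nil A1 hA1))
    ((mem_img halt1).mpr hcA1) hc1 hodd1 hn1 (img_le A1)
  have core2 : Core (img A2) c2 := core_of_even (img_nilpotent (h.nil A2 hA2))
    ((mem_img halt2).mpr hcA2) hc2 hodd2 hn2 (img_le A2)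
  have hfix1b : c1 b = b := by
    rw [← notMem_support, hs1]; exact Finset.notMem_erase b _
  have hfix2b : c2 b = b := by
    rw [← notMem_support, hs2]; exact Finset.notMem_erase b _
  have hfix1a : c1 a = a := by
    rw [← notMem_support, hs1]
    intro hmem
    exact Finset.notMem_erase a _ (Finset.mem_of_mem_erase hmem)
  have hc3b : c3 b ≠ b := by
    rw [← mem_support, hs3]
    exact Finset.mem_erase.mpr ⟨ha'b.symm, Finset.mem_erase.mpr ⟨hab.symm, Finset.mem_univ _⟩⟩
  have heq : A1 = A2 := h.eq_of_le (stab_ne_top halt3 hc3b) hA1 hA2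
    (le_stab_of_core core1 hn1 hfix1b) (le_stab_of_core core2 hn2 hfix2b)
  have hc2A1 : c2 ∈ img A1 := (mem_img halt2).mpr (heq ▸ hcA2)
  have h2 : c2 a = a := core1.fixes hn1 hc2A1 hfix1a
  have h3 : a ∈ c2.support := by
    rw [hs2]
    exact Finset.mem_erase.mpr ⟨hab, Finset.mem_erase.mpr ⟨haa', Finset.mem_univ _⟩⟩
  exact (mem_support.mp h3) h2

theorem alt_even (hn : 6 ≤ n) (he : Even n) (h : NMC 𝓐) : False := by
  obtain ⟨k, hk⟩ := he
  obtain ⟨p, hp⟩ : ∃ p : Fin n, p = ⟨0, by omega⟩ := ⟨_, rfl⟩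
  obtain ⟨a, ha⟩ : ∃ a : Fin n, a = ⟨1, by omega⟩ := ⟨_, rfl⟩
  have hpa : p ≠ a := by
    rw [hp, ha]; intro h'; have := congrArg Fin.val h'; simp at this
  have hcard : ∀ q : Fin n, (Finset.univ.erase q).card = n - 1 := by
    intro q
    rw [Finset.card_erase_of_mem (Finset.mem_univ q), Finset.card_univ, Fintype.card_fin]
  obtain ⟨c, hc, hs⟩ := exists_cycle (Finset.univ.erase p) (by rw [hcard]; omega)
  obtain ⟨c3, hc3, hs3⟩ := exists_cycle (Finset.univ.erase a) (by rw [hcard]; omega)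
  have hodd : Odd c.support.card := by rw [hs, hcard]; exact ⟨k - 1, by omega⟩
  have hodd3 : Odd c3.support.card := by rw [hs3, hcard]; exact ⟨k - 1, by omega⟩
  have hca : c a ≠ a := by
    rw [← mem_support, hs]
    exact Finset.mem_erase.mpr ⟨hpa.symm, Finset.mem_univ _⟩
  have hcp : c p = p := by
    rw [← notMem_support, hs]; exact Finset.notMem_erase p _
  obtain ⟨c', hc'⟩ : ∃ c', c' = swap a (c a) * c * (swap a (c a))⁻¹ := ⟨_, rfl⟩
  have hcyc' : c'.IsCycle := hc' ▸ hc.conj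
  have hcs : c.support.card = n - 1 := by rw [hs, hcard]
  have hcs' : c'.support.card = n - 1 := by rw [hc', card_support_conj, hcs]
  have hodd' : Odd c'.support.card := by rw [hcs', ← hcs]; exact hodd
  have hcap : c a ≠ p := by
    intro h'
    have : c a ∈ c.support := apply_mem_support.mpr (mem_support.mpr hca)
    rw [h', hs] at this
    exact Finset.notMem_erase p _ this
  have hc'p : c' p = p := by
    rw [hc', swap_inv, mul_apply, mul_apply, swap_apply_of_ne_of_ne hpa hcap.symm, hcp,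
      swap_apply_of_ne_of_ne hpa hcap.symm]
  have halt : c ∈ alternatingGroup (Fin n) := mem_alternatingGroup.mpr (sign_of_odd_cycle hc hodd)
  have halt' : c' ∈ alternatingGroup (Fin n) :=
    mem_alternatingGroup.mpr (sign_of_odd_cycle hcyc' hodd')
  have halt3 : c3 ∈ alternatingGroup (Fin n) := mem_alternatingGroup.mpr (sign_of_odd_cycle hc3 hodd3)
  have hc3p : c3 p ≠ p := by
    rw [← mem_support, hs3]
    exact Finset.mem_erase.mpr ⟨hpa, Finset.mem_univ _⟩
  obtain ⟨A1, hA1, hcA1⟩ := h.cover ⟨c, halt⟩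
  obtain ⟨A2, hA2, hcA2⟩ := h.cover ⟨c', halt'⟩
  have core1 : Core (img A1) c := core_of_big (img_nilpotent (h.nil A1 hA1))
    ((mem_img halt).mpr hcA1) hc hodd (by omega)
  have core2 : Core (img A2) c' := core_of_big (img_nilpotent (h.nil A2 hA2))
    ((mem_img halt').mpr hcA2) hcyc' hodd' (by omega)
  have heq : A1 = A2 := h.eq_of_le (stab_ne_top halt3 hc3p) hA1 hA2
    (le_stab_of_core core1 (by omega) hcp) (le_stab_of_core core2 (by omega) hc'p)
  have hc'A1 : c' ∈ img A1 := (mem_img halt').mpr (heq ▸ hcA2)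
  have hord : 4 ≤ orderOf c := by rw [hc.orderOf, hcs]; omega
  obtain ⟨v, hv, hv2, hv1⟩ := exists_inv_of_mem hc hca hord core1.mem (hc' ▸ hc'A1)
  exact hv1 (core1.no_inv hv hv2)

end Alt

end Cfsg.Agent.Helper12.NilCoverSym
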