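import Mathlib
import Cfsg.Agent.Lib.Helper12.NilSymMain2

/-!
# The extremal nilpotent subgroups of `S_n` for `n ≡ 3 (mod 4)`
-/

set_option autoImplicit false

namespace Cfsg.Agent.Helper12.NilSym

open Equiv Equiv.Perm

theorem j_eq_one (k j : ℕ) (hj : 1 ≤ j) (h3 : 3 * j ≤ 4 * k + 3)
    (h : nsV (4 * k) ≤ nsV (4 * k + 3 - 3 * j) + nsV j) : j = 1 := by
  by_contra hne
  have hj2 : 2 ≤ j := by omega
  have hk : 1 ≤ k := by omega
  obtain ⟨k', rfl⟩ : ∃ k', k = k' + 1 := ⟨k - 1, by omega⟩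
  have h1 : nsV (4 * (k' + 1) + 3 - 3 * j) + nsV j ≤ nsV (4 * (k' + 1) + 3 - 3 * j + j) :=
    nsV_add _ _
  have h2 : nsV (4 * (k' + 1) + 3 - 3 * j + j) ≤ nsV (4 * k' + 3) := nsV_mono (by omega)
  have h3' := nsV_four k' 3 (by norm_num)
  have h4 := nsV_four (k' + 1) 0 (by norm_num)
  have h5 : nsV k' ≤ nsV (k' + 1) := nsV_mono (by omega)
  norm_num at h3' h4
  omega

theorem nsV_sub_three (n : ℕ) (hn : n % 4 = 3) : nsV n = nsV (n - 3) + 1 := by
  obtain ⟨k, rfl⟩ : ∃ k, n = 4 * k + 3 := ⟨n / 4, by omega⟩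
  have h3' := nsV_four k 3 (by norm_num)
  have h4 := nsV_four k 0 (by norm_num)
  norm_num at h3' h4
  have : 4 * k + 3 - 3 = 4 * k := by omega
  rw [this]
  omega

theorem nsF_of_mod (n : ℕ) (hn : n % 4 = 3) : nsF n = 3 * 2 ^ nsV (n - 3) := by
  unfold nsF
  rw [if_pos hn, nsV_sub_three n hn, Nat.add_sub_cancel]

theorem card_sylow_two (m : ℕ) (P : Sylow 2 (Perm (Fin m))) : Nat.card P = 2 ^ nsV m := by
  rw [Sylow.card_eq_multiplicity, Nat.card_perm, Nat.card_eq_fintype_card, Fintype.card_fin,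
    Nat.factorization_def _ Nat.prime_two]
  rfl

theorem arith_split (m e q : ℕ) (hq : Nat.Coprime q 2) (h : 2 ^ m * q = 3 * 2 ^ e) :
    m = e ∧ q = 3 := by
  have h1 : 2 ^ m ∣ 3 * 2 ^ e := ⟨q, h.symm⟩
  have c1 : Nat.Coprime (2 ^ m) 3 := Nat.Coprime.pow_left _ (by norm_num)
  have h2 : 2 ^ m ∣ 2 ^ e := c1.dvd_of_dvd_mul_left h1
  have h3 : m ≤ e := (Nat.pow_dvd_pow_iff_le_right (by norm_num)).mp h2
  have h4 : 2 ^ e ∣ 2 ^ m * q := ⟨3, by rw [h]; ring⟩
  have c2 : Nat.Coprime (2 ^ e) q := Nat.Coprime.pow_left _ hq.symm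
  have h5 : 2 ^ e ∣ 2 ^ m := c2.dvd_of_dvd_mul_right h4
  have h6 : e ≤ m := (Nat.pow_dvd_pow_iff_le_right (by norm_num)).mp h5
  have hme : m = e := le_antisymm h3 h6
  refine ⟨hme, ?_⟩
  rw [hme, mul_comm] at h
  exact Nat.eq_of_mul_eq_mul_right (by positivity) h

theorem fixes_support {n : ℕ} (c t : Perm (Fin n)) (hc : c.IsThreeCycle) (hcomm : t * c = c * t)
    (m : ℕ) (ht : orderOf t = 2 ^ m) (s : Fin n) (hs : c s ≠ s) : t s = s := by
  have hcyc := hc.isCycle
  have hts : c (t s) ≠ t s := by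
    intro h
    apply hs
    have : t (c s) = t s := by
      have := congrArg (fun f => f s) hcomm
      simp only [Perm.mul_apply] at this
      rw [this, h]
    exact t.injective this
  obtain ⟨i, hi⟩ := hcyc.exists_pow_eq hs hts
  have hcomm_pow : ∀ r : ℕ, t * c ^ r = c ^ r * t := by
    intro r
    exact (Commute.pow_right (show Commute t c from hcomm) r).eq
  have hpow : ∀ r : ℕ, (t ^ r) s = (c ^ (i * r)) s := by
    intro r
    induction r with
    | zero => simp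
    | succ r ih =>
      rw [pow_succ', Perm.mul_apply, ih]
      have := congrArg (fun f => f s) (hcomm_pow (i * r))
      simp only [Perm.mul_apply] at this
      rw [this, ← hi, ← Perm.mul_apply, ← pow_add]
      congr 2
  have h1 := hpow (orderOf t)
  rw [pow_orderOf_eq_one, Perm.one_apply] at h1
  have h2 : c ^ (i * orderOf t) = 1 := (hcyc.pow_eq_one_iff' hs).mpr h1.symm
  have h3 : 3 ∣ i * orderOf t := by
    rw [← hc.orderOf]
    exact orderOf_dvd_of_pow_eq_one h2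
  rw [ht] at h3
  have h4 : 3 ∣ i :=
    Nat.Coprime.dvd_of_dvd_mul_right (Nat.Coprime.pow_right _ (by norm_num)) h3
  obtain ⟨i', rfl⟩ := h4
  rw [← hi, pow_mul]
  have : c ^ 3 = 1 := by
    rw [← hc.orderOf]
    exact pow_orderOf_eq_one c
  rw [this, one_pow, Perm.one_apply]

theorem extremal_structure (n : ℕ) (hn : n % 4 = 3) (N : Subgroup (Perm (Fin n)))
    [Group.IsNilpotent N] (hcard : Nat.card N = 3 * 2 ^ nsV (n - 3)) :
    ∃ c ∈ N, c.IsThreeCycle ∧ ∃ T : Subgroup (Perm (Fin n)), T ≤ N ∧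
      Nat.card T = 2 ^ nsV (n - 3) ∧ ∀ t ∈ T, ∀ s, c s ≠ s → t s = s := by
  haveI : Fact (Nat.Prime 2) := ⟨Nat.prime_two⟩
  let P : Sylow 2 N := default
  obtain ⟨Q, hc, hcop, hcomm⟩ := Cfsg.Agent.Helper24.exists_complement_centralizing 2 P
  have hmul : Nat.card (P : Subgroup N) * Nat.card Q = Nat.card N := hc.card_mul_card
  obtain ⟨m, hm⟩ := IsPGroup.iff_card.mp P.isPGroup'
  rw [hm, hcard] at hmul
  obtain ⟨hme, hQ3⟩ := arith_split m _ _ hcop hmul
  haveI : Fact (Nat.Prime 3) := ⟨Nat.prime_three⟩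
  have hex : ∃ c' : N, c' ∈ Q ∧ orderOf c' = 3 := by
    obtain ⟨x, hx⟩ := exists_prime_orderOf_dvd_card' (G := Q) 3 (by rw [hQ3])
    exact ⟨x.1, x.2, by rw [← hx]; exact (Subgroup.orderOf_coe x)⟩
  obtain ⟨c', hc'Q, hc'ord⟩ := hex
  obtain ⟨c, hcdef⟩ : ∃ c : Perm (Fin n), c = c'.1 := ⟨_, rfl⟩
  have hcN : c ∈ N := hcdef ▸ c'.2
  have hcord : orderOf c = 3 := by
    rw [← hc'ord, hcdef]
    exact Subgroup.orderOf_coe c'
  obtain ⟨T, hTdef⟩ : ∃ T : Subgroup (Perm (Fin n)), T = (P : Subgroup N).map N.subtype :=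
    ⟨_, rfl⟩
  have hTN : T ≤ N := hTdef ▸ Subgroup.map_subtype_le _
  have hTcard : Nat.card T = 2 ^ nsV (n - 3) := by
    rw [hTdef, Subgroup.card_map_of_injective N.subtype_injective, hm, hme]
  have hTcomm : ∀ t ∈ T, t * c = c * t := by
    intro t ht
    rw [hTdef] at ht
    obtain ⟨x, hx, rfl⟩ := ht
    have := hcomm x hx c' hc'Q
    rw [hcdef]
    exact congrArg Subtype.val this
  obtain ⟨j', hj'⟩ := cycleType_prime_order (σ := c) (by rw [hcord]; exact Nat.prime_three)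
  rw [hcord] at hj'
  obtain ⟨j, hjdef⟩ : ∃ j, j = j' + 1 := ⟨_, rfl⟩
  rw [← hjdef] at hj'
  have hsum : 3 * j ≤ n := by
    have h1 := c.sum_cycleType
    rw [hj', Multiset.sum_replicate, smul_eq_mul] at h1
    have h2 : c.support.card ≤ Fintype.card (Fin n) := Finset.card_le_univ _
    rw [Fintype.card_fin] at h2
    omega
  have hcent : Nat.card (Subgroup.centralizer {c}) =
      (n - 3 * j).factorial * 3 ^ j * j.factorial := by
    rw [nat_card_centralizer, hj', Fintype.card_fin, Multiset.sum_replicate,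
      Multiset.prod_replicate, smul_eq_mul, Multiset.toFinset_replicate, if_neg (by omega),
      Finset.prod_singleton, Multiset.count_replicate_self, mul_comm j 3]
  have hTle : T ≤ Subgroup.centralizer {c} := by
    intro t ht
    rw [Subgroup.mem_centralizer_singleton_iff]
    exact hTcomm t ht
  have hdvd : 2 ^ nsV (n - 3) ∣ (n - 3 * j).factorial * 3 ^ j * j.factorial := by
    rw [← hTcard, ← hcent]
    exact Subgroup.card_dvd_of_le hTle
  have hdvd' : 2 ^ nsV (n - 3) ∣ (n - 3 * j).factorial * j.factorial := by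
    have : (n - 3 * j).factorial * 3 ^ j * j.factorial =
        3 ^ j * ((n - 3 * j).factorial * j.factorial) := by ring
    rw [this] at hdvd
    exact Nat.Coprime.dvd_of_dvd_mul_left (Nat.Coprime.pow _ _ (by norm_num)) hdvd
  have hle : nsV (n - 3) ≤ nsV (n - 3 * j) + nsV j := by
    have := (padicValNat_dvd_iff_le (p := 2) (by positivity)).mp hdvd'
    rwa [padicValNat.mul (Nat.factorial_ne_zero _) (Nat.factorial_ne_zero _)] at this
  obtain ⟨k, rfl⟩ : ∃ k, n = 4 * k + 3 := ⟨n / 4, by omega⟩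
  have hj1 : j = 1 := j_eq_one k j (by omega) hsum (by simpa using hle)
  have h3c : c.IsThreeCycle := by
    unfold IsThreeCycle
    rw [hj', hj1]
    rfl
  refine ⟨c, hcN, h3c, T, hTN, hTcard, ?_⟩
  intro t ht s hs
  have hord : orderOf t ∣ 2 ^ nsV (4 * k + 3 - 3) := by
    rw [← hTcard]
    have := orderOf_dvd_natCard (⟨t, ht⟩ : T)
    rwa [Subgroup.orderOf_mk] at this
  obtain ⟨m', -, hm'⟩ := (Nat.dvd_prime_pow Nat.prime_two).mp hord
  exact fixes_support c t h3c (hTcomm t ht) m' hm' s hs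

end Cfsg.Agent.Helper12.NilSym
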