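import Mathlib
import Cfsg.Agent.Lib.Helper12.NilSymEq

/-!
# Numerics for nilpotent subgroups of alternating groups
-/

set_option autoImplicit false

namespace Cfsg.Agent.Helper12.NilSym

open Nat

/-- the bound for even actions. -/
noncomputable def nsH (n : ℕ) : ℕ :=
  if n = 3 then 3 else if n = 5 then 5 else if n = 6 then 9 else if n = 9 then 81
  else if n ≤ 1 then 1 else nsF n / 2

theorem nsV_two : nsV 2 = 1 := by
  have := nsV_four 0 2 (by norm_num)
  simpa [nsV_zero] using this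

theorem nsV_three : nsV 3 = 1 := by
  have := nsV_four 0 3 (by norm_num)
  simpa [nsV_zero] using this

theorem nsV_four' : nsV 4 = 3 := by
  have := nsV_four 1 0 (by norm_num)
  simpa [nsV_one] using this

theorem nsV_pos {m : ℕ} (hm : 2 ≤ m) : 1 ≤ nsV m := by
  have := nsV_mono hm
  rw [nsV_two] at this
  exact this

theorem nsF_two : nsF 2 = 2 := by
  have := nsF_four 0 2 (by norm_num)
  simpa [nsV_zero, nsC] using this

theorem nsF_three : nsF 3 = 3 := by
  have := nsF_four 0 3 (by norm_num)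
  simpa [nsV_zero, nsC] using this

theorem nsF_four' : nsF 4 = 8 := by
  have := nsF_four 1 0 (by norm_num)
  simpa [nsV_one, nsC] using this

theorem nsF_five : nsF 5 = 8 := by
  have := nsF_four 1 1 (by norm_num)
  simpa [nsV_one, nsC] using this

theorem nsF_six : nsF 6 = 16 := by
  have := nsF_four 1 2 (by norm_num)
  simpa [nsV_one, nsC] using this

theorem nsF_seven : nsF 7 = 24 := by
  have := nsF_four 1 3 (by norm_num)
  simpa [nsV_one, nsC] using this

theorem nsF_eight : nsF 8 = 128 := by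
  have := nsF_four 2 0 (by norm_num)
  simpa [nsV_two, nsC] using this

theorem nsF_nine : nsF 9 = 128 := by
  have := nsF_four 2 1 (by norm_num)
  simpa [nsV_two, nsC] using this

theorem nsF_ten : nsF 10 = 256 := by
  have := nsF_four 2 2 (by norm_num)
  simpa [nsV_two, nsC] using this

theorem nsF_eleven : nsF 11 = 384 := by
  have := nsF_four 2 3 (by norm_num)
  simpa [nsV_two, nsC] using this

theorem nsF_twelve : nsF 12 = 1024 := by
  have := nsF_four 3 0 (by norm_num)
  simpa [nsV_three, nsC] using this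

theorem nsF_fourteen : nsF 14 = 2048 := by
  have := nsF_four 3 2 (by norm_num)
  simpa [nsV_three, nsC] using this

theorem nsF_fifteen : nsF 15 = 3072 := by
  have := nsF_four 3 3 (by norm_num)
  simpa [nsV_three, nsC] using this

theorem nsF_eighteen : nsF 18 = 65536 := by
  have := nsF_four 4 2 (by norm_num)
  simpa [nsV_four', nsC] using this

/-- `nsF n` is even for regular `n`. -/
theorem two_dvd_nsF {n : ℕ} (h2 : 2 ≤ n) (h3 : n ≠ 3) : 2 ∣ nsF n := by
  obtain ⟨k, r, hr, rfl⟩ : ∃ k r, r < 4 ∧ n = 4 * k + r := ⟨n / 4, n % 4, by omega, by omega⟩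
  rw [nsF_four k r hr]
  rcases Nat.eq_zero_or_pos k with hk | hk
  · subst hk
    have : r = 2 := by omega
    subst this
    simp [nsC]
  · obtain ⟨k', rfl⟩ : ∃ k', k = k' + 1 := ⟨k - 1, by omega⟩
    rw [pow_succ]
    exact Dvd.dvd.mul_right (Dvd.dvd.mul_right (Dvd.dvd.mul_left (by norm_num) _) _) _

theorem nsH_regular {n : ℕ} (h2 : 2 ≤ n) (h3 : n ≠ 3) (h5 : n ≠ 5) (h6 : n ≠ 6) (h9 : n ≠ 9) :
    2 * nsH n = nsF n := by
  unfold nsH
  rw [if_neg h3, if_neg h5, if_neg h6, if_neg h9, if_neg (by omega)]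
  exact Nat.mul_div_cancel' (two_dvd_nsF h2 h3)

theorem nsF_le_two_mul_nsH (n : ℕ) : nsF n ≤ 2 * nsH n := by
  by_cases h3 : n = 3
  · subst h3
    rw [nsF_three]
    simp [nsH]
  by_cases h5 : n = 5
  · subst h5
    rw [nsF_five]
    simp [nsH]
  by_cases h6 : n = 6
  · subst h6
    rw [nsF_six]
    simp [nsH]
  by_cases h9 : n = 9
  · subst h9
    rw [nsF_nine]
    simp [nsH]
  by_cases h1 : n ≤ 1
  · have : n = 0 ∨ n = 1 := by omega
    rcases this with rfl | rfl
    · rw [nsF_zero]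
      simp [nsH]
    · rw [nsF_one]
      simp [nsH]
  · rw [nsH_regular (by omega) h3 h5 h6 h9]

theorem nsH_pos (n : ℕ) : 0 < nsH n := by
  have h1 := nsF_le_two_mul_nsH n
  have h2 := nsF_pos n
  omega

/-- the inequality used for intransitive groups. -/
theorem nsH_split (a b : ℕ) (ha : 1 ≤ a) (hb : 1 ≤ b) :
    min (nsF a * nsH b) (nsH a * nsF b) ≤ nsH (a + b) := by
  by_cases hbr : 2 ≤ b ∧ b ≠ 3 ∧ b ≠ 5 ∧ b ≠ 6 ∧ b ≠ 9
  · obtain ⟨h2, h3, h5, h6, h9⟩ := hbr
    have h1 := nsH_regular h2 h3 h5 h6 h9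
    have h4 := nsF_mul_le a b
    have h7 := nsF_le_two_mul_nsH (a + b)
    have h8 : 2 * (nsF a * nsH b) = nsF a * nsF b := by rw [← h1]; ring
    have : nsF a * nsH b ≤ nsH (a + b) := by omega
    exact (min_le_left _ _).trans this
  by_cases har : 2 ≤ a ∧ a ≠ 3 ∧ a ≠ 5 ∧ a ≠ 6 ∧ a ≠ 9
  · obtain ⟨h2, h3, h5, h6, h9⟩ := har
    have h1 := nsH_regular h2 h3 h5 h6 h9
    have h4 := nsF_mul_le a b
    have h7 := nsF_le_two_mul_nsH (a + b)
    have h8 : 2 * (nsH a * nsF b) = nsF a * nsF b := by rw [← h1]; ring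
    have : nsH a * nsF b ≤ nsH (a + b) := by omega
    exact (min_le_right _ _).trans this
  have ha' : a = 1 ∨ a = 3 ∨ a = 5 ∨ a = 6 ∨ a = 9 := by omega
  have hb' : b = 1 ∨ b = 3 ∨ b = 5 ∨ b = 6 ∨ b = 9 := by omega
  rcases ha' with rfl | rfl | rfl | rfl | rfl <;> rcases hb' with rfl | rfl | rfl | rfl | rfl <;>
    simp [nsH, nsF_one, nsF_two, nsF_three, nsF_four', nsF_five, nsF_six, nsF_seven, nsF_eight,
      nsF_nine, nsF_ten, nsF_eleven, nsF_twelve, nsF_fourteen, nsF_fifteen, nsF_eighteen]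

end Cfsg.Agent.Helper12.NilSym
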