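import Mathlib
import Cfsg.Agent.Lib.Helper12.NilSymAltNum

/-!
# More numerics for nilpotent subgroups of alternating groups
-/

set_option autoImplicit false

namespace Cfsg.Agent.Helper12.NilSym

open Nat

theorem aux_ineq (A B C c : ℕ) (hBC : B ≤ C) (hc : 2 * c ≤ 8) :
    2 * (A * B * c) ≤ A * 8 * C := by
  calc 2 * (A * B * c) = A * B * (2 * c) := by ring
    _ ≤ A * C * 8 := Nat.mul_le_mul (Nat.mul_le_mul_left A hBC) hc
    _ = A * 8 * C := by ring

theorem two_mul_nsF_le_add_two (m : ℕ) : 2 * nsF m ≤ nsF (m + 2) := by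
  obtain ⟨k, r, hr, rfl⟩ : ∃ k r, r < 4 ∧ m = 4 * k + r := ⟨m / 4, m % 4, by omega, by omega⟩
  have hk : 2 ^ nsV k ≤ 2 ^ nsV (k + 1) :=
    Nat.pow_le_pow_right (by norm_num) (nsV_mono (Nat.le_succ k))
  have h8 : 0 < 8 ^ k := by positivity
  interval_cases r
  · have e : 4 * k + 0 + 2 = 4 * k + 2 := by ring
    rw [e, nsF_four k 0 (by norm_num), nsF_four k 2 (by norm_num)]
    simp [nsC]
    ring_nf
    exact le_rfl
  · have e : 4 * k + 1 + 2 = 4 * k + 3 := by ring
    rw [e, nsF_four k 1 (by norm_num), nsF_four k 3 (by norm_num)]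
    simp [nsC]
    nlinarith [Nat.zero_le (8 ^ k * 2 ^ nsV k)]
  · have e : 4 * k + 2 + 2 = 4 * (k + 1) + 0 := by ring
    rw [e, nsF_four k 2 (by norm_num), nsF_four (k + 1) 0 (by norm_num)]
    simp [nsC]
    rw [pow_succ]
    exact aux_ineq _ _ _ _ hk (by norm_num)
  · have e : 4 * k + 3 + 2 = 4 * (k + 1) + 1 := by ring
    rw [e, nsF_four k 3 (by norm_num), nsF_four (k + 1) 1 (by norm_num)]
    simp [nsC]
    rw [pow_succ]
    exact aux_ineq _ _ _ _ hk (by norm_num)

theorem two_mul_nsF_le_succ (m : ℕ) (hm : m % 2 = 1) : 2 * nsF m ≤ nsF (m + 1) := by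
  obtain ⟨k, r, hr, rfl⟩ : ∃ k r, r < 4 ∧ m = 4 * k + r := ⟨m / 4, m % 4, by omega, by omega⟩
  have hk : 2 ^ nsV k ≤ 2 ^ nsV (k + 1) :=
    Nat.pow_le_pow_right (by norm_num) (nsV_mono (Nat.le_succ k))
  have hr' : r = 1 ∨ r = 3 := by omega
  rcases hr' with rfl | rfl
  · have e : 4 * k + 1 + 1 = 4 * k + 2 := by ring
    rw [e, nsF_four k 1 (by norm_num), nsF_four k 2 (by norm_num)]
    simp [nsC]
    ring_nf
    exact le_rfl
  · have e : 4 * k + 3 + 1 = 4 * (k + 1) + 0 := by ring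
    rw [e, nsF_four k 3 (by norm_num), nsF_four (k + 1) 0 (by norm_num)]
    simp [nsC]
    rw [pow_succ]
    exact aux_ineq _ _ _ _ hk (by norm_num)

/-- the inequality for transitive groups that are not of prime power order. -/
theorem two_mul_nsF_mul_le (d d' n : ℕ) (hd : 2 ≤ d) (hd' : 2 ≤ d') (hcop : Nat.Coprime d d')
    (hn : d * d' ≤ n) : 2 * (nsF d * nsF d') ≤ nsF n := by
  have h1 : nsF d * nsF d' ≤ nsF (d + d') := nsF_mul_le d d'
  have hne : ¬ (d = 2 ∧ d' = 2) := by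
    rintro ⟨rfl, rfl⟩
    norm_num at hcop
  obtain ⟨x, rfl⟩ : ∃ x, d = x + 2 := ⟨d - 2, by omega⟩
  obtain ⟨y, rfl⟩ : ∃ y, d' = y + 2 := ⟨d' - 2, by omega⟩
  have hprod : (x + 2) * (y + 2) = x * y + 2 * x + 2 * y + 4 := by ring
  by_cases hpar : (x + 2 + (y + 2)) % 2 = 1
  · have h2 : x + 2 + (y + 2) + 1 ≤ n := by
      have : 1 ≤ x * y + x + y := by
        rcases Nat.eq_zero_or_pos x with hx | hx
        · rcases Nat.eq_zero_or_pos y with hy | hy
          · exfalso
            apply hne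
            omega
          · omega
        · omega
      omega
    have h3 := two_mul_nsF_le_succ (x + 2 + (y + 2)) hpar
    have h4 := nsF_mono h2
    omega
  · -- both odd
    have hx : x % 2 = 1 := by
      by_contra hx
      have hx0 : x % 2 = 0 := by omega
      have hy0 : y % 2 = 0 := by omega
      have h2x : 2 ∣ x + 2 := by omega
      have h2y : 2 ∣ y + 2 := by omega
      have := Nat.eq_one_of_dvd_coprimes hcop h2x h2y
      omega
    have hy : y % 2 = 1 := by omega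
    have h2 : x + 2 + (y + 2) + 2 ≤ n := by
      have : 1 ≤ x * y := Nat.mul_pos (by omega) (by omega)
      omega
    have h3 := two_mul_nsF_le_add_two (x + 2 + (y + 2))
    have h4 := nsF_mono h2
    omega

theorem nsF_mul_le_nsH (d d' n : ℕ) (hd : 2 ≤ d) (hd' : 2 ≤ d') (hcop : Nat.Coprime d d')
    (hn : d * d' ≤ n) : nsF d * nsF d' ≤ nsH n := by
  have h1 := two_mul_nsF_mul_le d d' n hd hd' hcop hn
  have h2 := nsF_le_two_mul_nsH n
  omega

end Cfsg.Agent.Helper12.NilSym
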