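import Mathlib
import Cfsg.Agent.Lib.Helper12.NilSymAltNum2

/-!
# Sylow `p`-subgroups of `S_{p^j}` against the even bound
-/

set_option autoImplicit false

namespace Cfsg.Agent.Helper12.NilSym

open Nat

theorem two_mul_pow_nsA_le_of_seven_le (p : ℕ) [Fact p.Prime] (hp : 7 ≤ p) (j : ℕ) (hj : 1 ≤ j) :
    2 * p ^ nsA p j ≤ nsF (p ^ j) := by
  have hodd : p % 2 = 1 := by
    rcases (Fact.out : p.Prime).eq_two_or_odd with h | h
    · omega
    · exact h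
  obtain ⟨h, rfl⟩ : ∃ h, p = 2 * h + 1 := ⟨p / 2, by omega⟩
  have h3 : 3 ≤ h := by omega
  have h1 := nsA_mul (2 * h + 1) j
  simp only [Nat.add_sub_cancel] at h1
  have h2 : h * nsA (2 * h + 1) j = (2 * h + 1) ^ j / 2 := by
    rw [← h1]
    have : 2 * h * nsA (2 * h + 1) j + 1 = 2 * (h * nsA (2 * h + 1) j) + 1 := by ring
    rw [this]
    omega
  have hge : 7 ≤ (2 * h + 1) ^ j := by
    calc 7 ≤ (2 * h + 1) ^ 1 := by rw [pow_one]; omega
      _ ≤ (2 * h + 1) ^ j := Nat.pow_le_pow_right (by omega) hj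
  have hV : (2 * h + 1) ^ j / 2 + 1 ≤ nsV ((2 * h + 1) ^ j) := by
    rw [nsV_half ((2 * h + 1) ^ j)]
    have := nsV_pos (m := (2 * h + 1) ^ j / 2) (by omega)
    omega
  calc 2 * (2 * h + 1) ^ nsA (2 * h + 1) j ≤ 2 * (2 ^ h) ^ nsA (2 * h + 1) j :=
        Nat.mul_le_mul_left _ (Nat.pow_le_pow_left (odd_le_two_pow h h3) _)
    _ = 2 ^ ((2 * h + 1) ^ j / 2 + 1) := by rw [← pow_mul, h2, pow_succ]; ring
    _ ≤ 2 ^ nsV ((2 * h + 1) ^ j) := Nat.pow_le_pow_right (by norm_num) hV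
    _ ≤ nsF ((2 * h + 1) ^ j) := two_pow_nsV_le _

theorem two_mul_pow_nsA_le_five [Fact (Nat.Prime 5)] (j : ℕ) (hj : 2 ≤ j) :
    2 * 5 ^ nsA 5 j ≤ nsF (5 ^ j) := by
  have h1 := nsA_mul 5 j
  have h1' : 4 * nsA 5 j + 1 = 5 ^ j := h1
  have hA : 2 ≤ nsA 5 j := by
    obtain ⟨i, rfl⟩ : ∃ i, j = i + 1 + 1 := ⟨j - 2, by omega⟩
    rw [nsA_succ]
    have : 5 ^ 1 ≤ 5 ^ (i + 1) := Nat.pow_le_pow_right (by norm_num) (by omega)
    omega
  calc 2 * 5 ^ nsA 5 j ≤ 2 * 8 ^ nsA 5 j :=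
        Nat.mul_le_mul_left _ (Nat.pow_le_pow_left (by norm_num) _)
    _ = 2 ^ (3 * nsA 5 j + 1) := by rw [pow_succ, pow_mul]; norm_num; ring
    _ ≤ 2 ^ nsV (5 ^ j) := by
        apply Nat.pow_le_pow_right (by norm_num)
        rw [← h1', nsV_four (nsA 5 j) 1 (by norm_num)]
        have := nsV_pos hA
        simp
        omega
    _ ≤ nsF (5 ^ j) := two_pow_nsV_le _

theorem three_aux2 [Fact (Nat.Prime 3)] (j : ℕ) :
    3 ^ (nsA 3 (j + 3) + 1) ≤ 2 ^ nsV (3 ^ (j + 3)) := by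
  induction j with
  | zero =>
    have hA : nsA 3 3 = 13 := by
      rw [nsA_three_succ, nsA_three_succ, nsA_three_succ, nsA_zero]
    have hV6 : nsV 6 = 4 := by
      have := nsV_four 1 2 (by norm_num)
      simpa [nsV_one] using this
    have hV : nsV (3 ^ 3) = 23 := by
      have e : (3 : ℕ) ^ 3 = 4 * 6 + 3 := by norm_num
      rw [e, nsV_four 6 3 (by norm_num), hV6]
      simp
    rw [hA, hV]
    norm_num
  | succ j ih =>
    have hA : nsA 3 (j + 1 + 3) = 3 * nsA 3 (j + 3) + 1 := nsA_three_succ (j + 3)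
    have hV : 3 * nsV (3 ^ (j + 3)) + 1 ≤ nsV (3 ^ (j + 1 + 3)) := by
      have := nsV_three_mul (3 ^ (j + 3)) (by positivity)
      have e : 3 * 3 ^ (j + 3) = 3 ^ (j + 1 + 3) := by ring
      rwa [e] at this
    rw [hA]
    calc 3 ^ (3 * nsA 3 (j + 3) + 1 + 1) ≤ 3 ^ (3 * (nsA 3 (j + 3) + 1)) :=
          Nat.pow_le_pow_right (by norm_num) (by omega)
      _ = (3 ^ (nsA 3 (j + 3) + 1)) ^ 3 := by rw [← pow_mul, mul_comm]
      _ ≤ (2 ^ nsV (3 ^ (j + 3))) ^ 3 := Nat.pow_le_pow_left ih 3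
      _ = 2 ^ (3 * nsV (3 ^ (j + 3))) := by rw [← pow_mul, mul_comm]
      _ ≤ 2 ^ nsV (3 ^ (j + 1 + 3)) := Nat.pow_le_pow_right (by norm_num) (by omega)

theorem two_mul_pow_nsA_le_three [Fact (Nat.Prime 3)] (j : ℕ) (hj : 3 ≤ j) :
    2 * 3 ^ nsA 3 j ≤ nsF (3 ^ j) := by
  obtain ⟨i, rfl⟩ : ∃ i, j = i + 3 := ⟨j - 3, by omega⟩
  have h1 := three_aux2 i
  rw [pow_succ] at h1
  have h2 : 2 * 3 ^ nsA 3 (i + 3) ≤ 2 ^ nsV (3 ^ (i + 3)) := by omega
  exact h2.trans (two_pow_nsV_le _)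

/-- an odd prime power is one of `3, 5, 9` or satisfies the doubled bound. -/
theorem pow_nsA_le_nsH (p : ℕ) [hp : Fact p.Prime] (hp2 : p ≠ 2) (j : ℕ) (hj : 1 ≤ j) :
    p ^ nsA p j ≤ nsH (p ^ j) := by
  have key : 2 * p ^ nsA p j ≤ nsF (p ^ j) → p ^ nsA p j ≤ nsH (p ^ j) := by
    intro h
    have := nsF_le_two_mul_nsH (p ^ j)
    omega
  rcases Nat.lt_or_ge p 7 with h | h
  · have h2 := hp.out.two_le
    interval_cases p
    · exact absurd rfl hp2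
    · rcases Nat.lt_or_ge j 3 with hj3 | hj3
      · interval_cases j
        · have hA : nsA 3 1 = 1 := by rw [nsA_three_succ, nsA_zero]
          rw [hA]
          simp [nsH]
        · have hA : nsA 3 2 = 4 := by rw [nsA_three_succ, nsA_three_succ, nsA_zero]
          rw [hA]
          simp [nsH]
      · exact key (two_mul_pow_nsA_le_three j hj3)
    · exact absurd hp.out (by norm_num)
    · rcases Nat.lt_or_ge j 2 with hj2 | hj2
      · have : j = 1 := by omega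
        subst this
        have hA : nsA 5 1 = 1 := by rw [nsA_succ, nsA_zero]; norm_num
        rw [hA]
        simp [nsH]
      · exact key (two_mul_pow_nsA_le_five j hj2)
    · exact absurd hp.out (by norm_num)
  · exact key (two_mul_pow_nsA_le_of_seven_le p h j hj)

/-- `2`-groups of even permutations. -/
theorem two_pow_le_nsH (n k : ℕ) (hn : 2 ≤ n) (h : 2 * 2 ^ k ∣ n.factorial) : 2 ^ k ≤ nsH n := by
  have h1 : 2 ^ (k + 1) ∣ n.factorial := by rwa [pow_succ, mul_comm]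
  have h2 : k + 1 ≤ nsV n := (padicValNat_dvd_iff_le (Nat.factorial_ne_zero _)).mp h1
  have h3 : 2 ^ (k + 1) ≤ 2 ^ nsV n := Nat.pow_le_pow_right (by norm_num) h2
  have h4 := two_pow_nsV_le n
  have h5 := nsF_le_two_mul_nsH n
  rw [pow_succ] at h3
  omega

end Cfsg.Agent.Helper12.NilSym
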