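import Mathlib
import Cfsg.Agent.Lib.Helper12.NilSymAltNum3

/-!
# Nilpotent groups acting faithfully by even permutations
-/

set_option autoImplicit false

namespace Cfsg.Agent.Helper12.NilSym

open MulAction Equiv.Perm

/-- splitting along an invariant subset. -/
theorem even_split (n : ℕ)
    (ih : ∀ m < n, ∀ (G : Type) [Group G] [Finite G] [Group.IsNilpotent G] (α : Type) [Fintype α]
      [DecidableEq α] [MulAction G α] [FaithfulSMul G α],
      (∀ g : G, sign (MulAction.toPerm g : Equiv.Perm α) = 1) → Nat.card α = m →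
      Nat.card G ≤ nsH m)
    (G : Type) [Group G] [Finite G] [Group.IsNilpotent G] (α : Type) [Fintype α] [DecidableEq α]
    [MulAction G α] [FaithfulSMul G α]
    (heven : ∀ g : G, sign (MulAction.toPerm g : Equiv.Perm α) = 1)
    (S S' : SubMulAction G α) (hS : ∀ x, x ∈ S' ↔ x ∉ S) (hne : Nonempty S)
    (hα : Nat.card α = n) :
    Nat.card G ≤ nsF (Nat.card S) * nsH (Nat.card S') := by
  classical
  have hsum : Nat.card S + Nat.card S' = n := by
    rw [← hα, Nat.card_eq_fintype_card, Nat.card_eq_fintype_card, Nat.card_eq_fintype_card]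
    have e1 : Fintype.card S = Fintype.card {x : α // x ∈ S} :=
      Fintype.card_congr (Equiv.refl _)
    have e2 : Fintype.card S' = Fintype.card {x : α // ¬ (x ∈ S)} :=
      Fintype.card_congr (Equiv.subtypeEquivRight hS)
    rw [e1, e2]
    exact Fintype.card_subtype_compl (fun x => x ∈ S) ▸ by
      have := Fintype.card_subtype_le (fun x : α => x ∈ S)
      omega
  have h1 : 1 ≤ Nat.card S := Nat.card_pos
  obtain ⟨ρ, hρ⟩ : ∃ ρ : G →* Equiv.Perm S, ρ = MulAction.toPermHom G S := ⟨_, rfl⟩
  have hGcard : Nat.card ρ.ker * Nat.card ρ.range = Nat.card G := by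
    rw [← Subgroup.index_ker]
    exact Subgroup.card_mul_index _
  haveI nR : Group.IsNilpotent ρ.range :=
    Group.nilpotent_of_surjective ρ.rangeRestrict ρ.rangeRestrict_surjective
  haveI FR : FaithfulSMul ρ.range S := by
    constructor
    intro x y h
    apply Subtype.ext
    apply Equiv.ext
    intro s
    exact h s
  have bR : Nat.card ρ.range ≤ nsF (Nat.card S) := bound _ ρ.range S rfl
  have hker : ∀ k : ρ.ker, ∀ x ∈ S, k.1 • x = x := by
    intro k x hx
    have hk : ρ k.1 = 1 := k.2
    have hk' := congrArg (fun σ => (σ ⟨x, hx⟩ : α)) hk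
    simpa [hρ] using hk'
  haveI FK : FaithfulSMul ρ.ker S' := by
    constructor
    intro x y h
    apply Subtype.ext
    apply eq_of_smul_eq_smul (α := α)
    intro c
    by_cases hc : c ∈ S
    · rw [hker x c hc, hker y c hc]
    · have := congrArg Subtype.val (h ⟨c, (hS c).mpr hc⟩)
      simpa [Subgroup.smul_def] using this
  have bK : Nat.card ρ.ker ≤ nsH (Nat.card S') := by
    refine ih _ (by omega) ρ.ker S' ?_ rfl
    intro k
    have h₁ : ∀ x, (MulAction.toPerm k.1 : Equiv.Perm α) x ∈ S' ↔ x ∈ S' := by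
      intro x
      exact S'.smul_mem_iff' k.1
    have h₂ : ∀ x, (MulAction.toPerm k.1 : Equiv.Perm α) x ≠ x → x ∈ S' := by
      intro x hx
      rw [hS]
      intro hxS
      exact hx (hker k x hxS)
    have e : (MulAction.toPerm k : Equiv.Perm S') =
        subtypePerm (MulAction.toPerm k.1 : Equiv.Perm α) h₁ := by
      ext x
      rfl
    rw [e, sign_subtypePerm _ h₁ h₂]
    exact heven k.1
  calc Nat.card G = Nat.card ρ.ker * Nat.card ρ.range := hGcard.symm
    _ ≤ nsH (Nat.card S') * nsF (Nat.card S) := Nat.mul_le_mul bK bR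
    _ = nsF (Nat.card S) * nsH (Nat.card S') := mul_comm _ _

end Cfsg.Agent.Helper12.NilSym
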