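import Mathlib
import Cfsg.Agent.Lib.Helper12.NilSymAltAct

/-!
# The bound for nilpotent groups of even permutations
-/

set_option autoImplicit false

namespace Cfsg.Agent.Helper12.NilSym

open MulAction Equiv.Perm

/-- a group of even permutations has order dividing `n!/2`. -/
theorem two_mul_card_dvd (G : Type) [Group G] [Finite G] (α : Type) [Fintype α] [DecidableEq α]
    [MulAction G α] [FaithfulSMul G α]
    (heven : ∀ g : G, sign (MulAction.toPerm g : Equiv.Perm α) = 1) (hα : 2 ≤ Nat.card α) :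
    2 * Nat.card G ∣ (Nat.card α).factorial := by
  haveI : Nontrivial α := by
    rw [← Finite.one_lt_card_iff_nontrivial]
    omega
  have h1 : Nat.card G = Nat.card (MulAction.toPermHom G α).range :=
    Nat.card_congr (MonoidHom.ofInjective MulAction.toPerm_injective).toEquiv
  have h2 : (MulAction.toPermHom G α).range ≤ alternatingGroup α := by
    rintro _ ⟨g, rfl⟩
    exact Equiv.Perm.mem_alternatingGroup.mpr (heven g)
  have h3 := Subgroup.card_dvd_of_le h2
  rw [← Nat.card_perm, ← two_mul_nat_card_alternatingGroup, h1]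
  exact Nat.mul_dvd_mul_left 2 h3

/-- the transitive case. -/
theorem even_transitive (n : ℕ) (hn : 2 ≤ n)
    (G : Type) [Group G] [Finite G] [Group.IsNilpotent G] (α : Type) [Fintype α] [DecidableEq α]
    [MulAction G α] [FaithfulSMul G α] [IsPretransitive G α]
    (heven : ∀ g : G, sign (MulAction.toPerm g : Equiv.Perm α) = 1) (hα : Nat.card α = n) :
    Nat.card G ≤ nsH n := by
  have hne : Nonempty α := by
    by_contra h
    rw [not_nonempty_iff] at h
    rw [Nat.card_of_isEmpty] at hα
    omega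
  obtain ⟨a⟩ := hne
  have hG1 : Nat.card G ≠ 1 := by
    intro h
    have hs : Subsingleton G := (Nat.card_eq_one_iff_unique.mp h).1
    have : Subsingleton α := by
      constructor
      intro x y
      obtain ⟨g, rfl⟩ := MulAction.exists_smul_eq G x y
      rw [Subsingleton.elim g 1, one_smul]
    have := Finite.card_le_one_iff_subsingleton.mpr this
    omega
  have hp : (Nat.card G).minFac.Prime := Nat.minFac_prime hG1
  obtain ⟨p, hpdef⟩ : ∃ p, p = (Nat.card G).minFac := ⟨_, rfl⟩
  rw [← hpdef] at hp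
  haveI : Fact p.Prime := ⟨hp⟩
  have hpdvd : p ∣ Nat.card G := hpdef ▸ Nat.minFac_dvd _
  let P : Sylow p G := default
  obtain ⟨Q, hc, hcop, hcomm⟩ := Cfsg.Agent.Helper24.exists_complement_centralizing p P
  have hcard : Nat.card (P : Subgroup G) * Nat.card Q = Nat.card G := hc.card_mul_card
  obtain ⟨k, hk⟩ := IsPGroup.iff_card.mp P.isPGroup'
  by_cases hQ : Nat.card Q = 1
  · rw [hQ, mul_one, hk] at hcard
    -- `G` is a `p`-group
    have h1 : Nat.card α ∣ p ^ k := by
      rw [hcard, ← MulAction.index_stabilizer_of_transitive G a]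
      exact Subgroup.index_dvd_card _
    obtain ⟨j, -, hj⟩ := (Nat.dvd_prime_pow hp).mp h1
    have hj1 : 1 ≤ j := by
      rcases Nat.eq_zero_or_pos j with h | h
      · rw [hj, h, pow_zero] at hα
        omega
      · exact h
    by_cases hp2 : p = 2
    · subst hp2
      have h2 := two_mul_card_dvd G α heven (by omega)
      rw [← hcard, hα] at h2
      rw [← hcard]
      exact two_pow_le_nsH n k hn h2
    · have h2 : Nat.card G ∣ (Nat.card α).factorial := by
        rw [← Nat.card_perm]
        exact Subgroup.card_dvd_of_injective (MulAction.toPermHom G α) MulAction.toPerm_injective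
      rw [← hcard, hj] at h2
      have h3 : k ≤ nsA p j := (padicValNat_dvd_iff_le (Nat.factorial_ne_zero _)).mp h2
      rw [← hcard, ← hα, hj]
      exact (Nat.pow_le_pow_right hp.pos h3).trans (pow_nsA_le_nsH p hp2 j hj1)
  · have hP1 : Nat.card (P : Subgroup G) ≠ 1 := by
      intro h
      rw [h, one_mul] at hcard
      rw [← hcard] at hpdvd
      have := Nat.Coprime.eq_one_of_dvd hcop.symm hpdvd
      exact hp.one_lt.ne' this
    have hprod : ∀ g : G, ∃ x ∈ (P : Subgroup G), ∃ y ∈ Q, g = x * y := by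
      intro g
      obtain ⟨⟨x, y⟩, hxy⟩ := hc.2 g
      exact ⟨x.1, x.2, y.1, y.2, hxy.symm⟩
    have hprodQ : ∀ g : G, ∃ x ∈ (P : Subgroup G), ∃ y ∈ Q, g = y * x := by
      intro g
      obtain ⟨x, hx, y, hy, rfl⟩ := hprod g
      exact ⟨x, hx, y, hy, hcomm x hx y hy⟩
    have hprodP : ∀ g : G, ∃ y ∈ Q, ∃ x ∈ (P : Subgroup G), g = x * y := by
      intro g
      obtain ⟨x, hx, y, hy, rfl⟩ := hprod g
      exact ⟨y, hy, x, hx, rfl⟩
    have hcomm' : ∀ y ∈ Q, ∀ x ∈ (P : Subgroup G), y * x = x * y :=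
      fun y hy x hx => (hcomm x hx y hy).symm
    haveI nP : (P : Subgroup G).Normal := normal_of_comm_prod _ Q hcomm hprodQ
    haveI nQ : Q.Normal := normal_of_comm_prod Q _ hcomm' hprodP
    haveI F1 : FaithfulSMul (P : Subgroup G) (orbit (P : Subgroup G) a) :=
      faithful_orbit _ Q hcomm hprodQ a
    haveI F2 : FaithfulSMul Q (orbit Q a) := faithful_orbit Q _ hcomm' hprodP a
    obtain ⟨d, hd⟩ : ∃ d, d = Nat.card (orbit (P : Subgroup G) a) := ⟨_, rfl⟩
    obtain ⟨d', hd'⟩ : ∃ d', d' = Nat.card (orbit Q a) := ⟨_, rfl⟩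
    have hd2 : 2 ≤ d := hd ▸ two_le_card_orbit (P : Subgroup G) a hP1
    have hd2' : 2 ≤ d' := hd' ▸ two_le_card_orbit Q a hQ
    have hdP : d ∣ p ^ k := by
      rw [hd, ← hk]
      exact card_orbit_dvd _ a
    have hdQ : d' ∣ Nat.card Q := by
      rw [hd']
      exact card_orbit_dvd _ a
    have hdn : d ∣ n := by
      rw [hd, ← hα]
      exact card_orbit_dvd_of_normal _ a
    have hdn' : d' ∣ n := by
      rw [hd', ← hα]
      exact card_orbit_dvd_of_normal _ a
    have hcopd : Nat.Coprime d d' := by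
      apply Nat.Coprime.coprime_dvd_left hdP
      apply Nat.Coprime.coprime_dvd_right hdQ
      exact Nat.Coprime.pow_left k hcop.symm
    have hmul : d * d' ∣ n := hcopd.mul_dvd_of_dvd_of_dvd hdn hdn'
    have hle : d * d' ≤ n := Nat.le_of_dvd (by omega) hmul
    have b1 : Nat.card (P : Subgroup G) ≤ nsF d :=
      bound d (P : Subgroup G) (orbit (P : Subgroup G) a) hd.symm
    have b2 : Nat.card Q ≤ nsF d' := bound d' Q (orbit Q a) hd'.symm
    calc Nat.card G = Nat.card (P : Subgroup G) * Nat.card Q := hcard.symm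
      _ ≤ nsF d * nsF d' := Nat.mul_le_mul b1 b2
      _ ≤ nsH n := nsF_mul_le_nsH d d' n hd2 hd2' hcopd hle

end Cfsg.Agent.Helper12.NilSym
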