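import Mathlib
import Cfsg.Agent.Lib.Helper12.NilSymAltMain

/-!
# The bound for nilpotent groups of even permutations: the induction
-/

set_option autoImplicit false

namespace Cfsg.Agent.Helper12.NilSym

open MulAction Equiv.Perm

/-- the intransitive case. -/
theorem even_intransitive (n : ℕ)
    (ih : ∀ m < n, ∀ (G : Type) [Group G] [Finite G] [Group.IsNilpotent G] (α : Type) [Fintype α]
      [DecidableEq α] [MulAction G α] [FaithfulSMul G α],
      (∀ g : G, sign (MulAction.toPerm g : Equiv.Perm α) = 1) → Nat.card α = m →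
      Nat.card G ≤ nsH m)
    (G : Type) [Group G] [Finite G] [Group.IsNilpotent G] (α : Type) [Fintype α] [DecidableEq α]
    [MulAction G α] [FaithfulSMul G α]
    (heven : ∀ g : G, sign (MulAction.toPerm g : Equiv.Perm α) = 1)
    (a b : α) (hab : b ∉ orbit G a) (hα : Nat.card α = n) :
    Nat.card G ≤ nsH n := by
  classical
  let S₁ : SubMulAction G α :=
    { carrier := orbit G a
      smul_mem' := fun g x hx => by
        obtain ⟨h, rfl⟩ := hx
        exact ⟨g * h, by simp [mul_smul]⟩ }
  let S₂ : SubMulAction G α :=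
    { carrier := (orbit G a)ᶜ
      smul_mem' := fun g x hx hgx => by
        apply hx
        obtain ⟨h, hh⟩ := hgx
        refine ⟨g⁻¹ * h, ?_⟩
        show (g⁻¹ * h) • a = x
        rw [mul_smul]
        have : h • a = g • x := hh
        rw [this, inv_smul_smul] }
  have hmem₁ : ∀ x : α, x ∈ S₁ ↔ x ∈ orbit G a := fun x => Iff.rfl
  have hmem₂ : ∀ x : α, x ∈ S₂ ↔ x ∉ orbit G a := fun x => Iff.rfl
  have h12 : ∀ x, x ∈ S₂ ↔ x ∉ S₁ := fun x => Iff.rfl
  have h21 : ∀ x, x ∈ S₁ ↔ x ∉ S₂ := fun x => by
    rw [hmem₁, hmem₂, not_not]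
  haveI ne1 : Nonempty S₁ := ⟨⟨a, mem_orbit_self a⟩⟩
  haveI ne2 : Nonempty S₂ := ⟨⟨b, hab⟩⟩
  have hsum : Nat.card S₁ + Nat.card S₂ = n := by
    rw [← hα, Nat.card_eq_fintype_card, Nat.card_eq_fintype_card, Nat.card_eq_fintype_card]
    have e1 : Fintype.card S₁ = Fintype.card {x : α // x ∈ orbit G a} :=
      Fintype.card_congr (Equiv.refl _)
    have e2 : Fintype.card S₂ = Fintype.card {x : α // ¬ (x ∈ orbit G a)} :=
      Fintype.card_congr (Equiv.refl _)
    rw [e1, e2]
    exact Fintype.card_subtype_compl (fun x => x ∈ orbit G a) ▸ by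
      have := Fintype.card_subtype_le (fun x : α => x ∈ orbit G a)
      omega
  have b1 := even_split n ih G α heven S₁ S₂ h12 ne1 hα
  have b2 := even_split n ih G α heven S₂ S₁ h21 ne2 hα
  have h1 : 1 ≤ Nat.card S₁ := Nat.card_pos
  have h2 : 1 ≤ Nat.card S₂ := Nat.card_pos
  have h3 := nsH_split (Nat.card S₁) (Nat.card S₂) h1 h2
  rw [hsum] at h3
  rw [mul_comm (nsF (Nat.card S₂))] at b2
  exact (le_min b1 b2).trans h3

theorem even_trivial {G : Type} [Group G] {α : Type} [MulAction G α] [FaithfulSMul G α]
    [Subsingleton α] : Nat.card G = 1 := bound_trivial (G := G) (α := α)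

/-- A finite nilpotent group acting faithfully by even permutations on `n` points has order at
most `nsH n`. -/
theorem bound_even : ∀ n : ℕ, ∀ (G : Type) [Group G] [Finite G] [Group.IsNilpotent G] (α : Type)
    [Fintype α] [DecidableEq α] [MulAction G α] [FaithfulSMul G α],
    (∀ g : G, sign (MulAction.toPerm g : Equiv.Perm α) = 1) → Nat.card α = n →
    Nat.card G ≤ nsH n := by
  intro n
  induction n using Nat.strong_induction_on with
  | _ n ih =>
    intro G _ _ _ α _ _ _ _ heven hα
    rcases Nat.lt_or_ge n 2 with hn | hn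
    · haveI : Subsingleton α := by
        rw [← Finite.card_le_one_iff_subsingleton]
        omega
      rw [bound_trivial (G := G) (α := α)]
      exact nsH_pos n
    · by_cases ht : IsPretransitive G α
      · exact even_transitive n hn G α heven hα
      · have : ∃ a b : α, b ∉ orbit G a := by
          by_contra hcon
          push Not at hcon
          apply ht
          constructor
          intro x y
          exact hcon x y
        obtain ⟨a, b, hab⟩ := this
        exact even_intransitive n ih G α heven a b hab hα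

/-- subgroups of the alternating group. -/
theorem bound_alt (n : ℕ) (N : Subgroup (alternatingGroup (Fin n))) [Group.IsNilpotent N] :
    Nat.card N ≤ nsH n := by
  haveI : FaithfulSMul N (Fin n) := by
    constructor
    intro x y h
    apply Subtype.ext
    apply Subtype.ext
    apply Equiv.ext
    intro s
    exact h s
  refine bound_even n N (Fin n) ?_ (by simp)
  intro g
  have : (MulAction.toPerm g : Equiv.Perm (Fin n)) = g.1.1 := by
    ext x
    rfl
  rw [this]
  exact Equiv.Perm.mem_alternatingGroup.mp g.1.2

end Cfsg.Agent.Helper12.NilSym
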