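import Mathlib
import Cfsg.Agent.Lib.Helper12.NilSymEq

/-!
# The extremal nilpotent subgroups: a more general structure statement
-/

set_option autoImplicit false

namespace Cfsg.Agent.Helper12.NilSym

open Equiv Equiv.Perm

theorem j_eq_one' (k j : ℕ) (hj : 1 ≤ j) (h3 : 3 * j ≤ 4 * k + 3)
    (h : nsV (4 * k) ≤ nsV (4 * k + 3 - 3 * j) + nsV j + 1) : j = 1 := by
  by_contra hne
  have hj2 : 2 ≤ j := by omega
  have hk : 1 ≤ k := by omega
  obtain ⟨k', rfl⟩ : ∃ k', k = k' + 1 := ⟨k - 1, by omega⟩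
  have h1 : nsV (4 * (k' + 1) + 3 - 3 * j) + nsV j ≤ nsV (4 * (k' + 1) + 3 - 3 * j + j) :=
    nsV_add _ _
  have h2 : nsV (4 * (k' + 1) + 3 - 3 * j + j) ≤ nsV (4 * k' + 3) := nsV_mono (by omega)
  have h3' := nsV_four k' 3 (by norm_num)
  have h4 := nsV_four (k' + 1) 0 (by norm_num)
  have h5 : nsV k' ≤ nsV (k' + 1) := nsV_mono (by omega)
  norm_num at h3' h4
  omega

theorem extremal_structure' (n e : ℕ) (hn : n % 4 = 3) (he : nsV (n - 3) ≤ e + 1)
    (N : Subgroup (Perm (Fin n)))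
    [Group.IsNilpotent N] (hcard : Nat.card N = 3 * 2 ^ e) :
    ∃ c ∈ N, c.IsThreeCycle ∧ ∃ T : Subgroup (Perm (Fin n)), T ≤ N ∧
      Nat.card T = 2 ^ e ∧ ∀ t ∈ T, ∀ s, c s ≠ s → t s = s := by
  haveI : Fact (Nat.Prime 2) := ⟨Nat.prime_two⟩
  let P : Sylow 2 N := default
  obtain ⟨Q, hc, hcop, hcomm⟩ := Cfsg.Agent.Helper24.exists_complement_centralizing 2 P
  have hmul : Nat.card (P : Subgroup N) * Nat.card Q = Nat.card N := hc.card_mul_card
  obtain ⟨m, hm⟩ := IsPGroup.iff_card.mp P.isPGroup'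
  rw [hm, hcard] at hmul
  obtain ⟨hme, hQ3⟩ := arith_split m _ _ hcop hmul
  haveI : Fact (Nat.Prime 3) := ⟨Nat.prime_three⟩
  have hex : ∃ c' : N, c' ∈ Q ∧ orderOf c' = 3 := by
    obtain ⟨x, hx⟩ := exists_prime_orderOf_dvd_card' (G := Q) 3 (by rw [hQ3])
    exact ⟨x.1, x.2, by rw [← hx]; exact (Subgroup.orderOf_coe x)⟩
  obtain ⟨c', hc'Q, hc'ord⟩ := hex
  obtain ⟨c, hcdef⟩ : ∃ c : Perm (Fin n), c = c'.1 := ⟨_, rfl⟩
  have hcN : c ∈ N := hcdef ▸ c'.2
  have hcord : orderOf c = 3 := by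
    rw [← hc'ord, hcdef]
    exact Subgroup.orderOf_coe c'
  obtain ⟨T, hTdef⟩ : ∃ T : Subgroup (Perm (Fin n)), T = (P : Subgroup N).map N.subtype :=
    ⟨_, rfl⟩
  have hTN : T ≤ N := hTdef ▸ Subgroup.map_subtype_le _
  have hTcard : Nat.card T = 2 ^ e := by
    rw [hTdef, Subgroup.card_map_of_injective N.subtype_injective, hm, hme]
  have hTcomm : ∀ t ∈ T, t * c = c * t := by
    intro t ht
    rw [hTdef] at ht
    obtain ⟨x, hx, rfl⟩ := ht
    have := hcomm x hx c' hc'Q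
    rw [hcdef]
    exact congrArg Subtype.val this
  obtain ⟨j', hj'⟩ := cycleType_prime_order (σ := c) (by rw [hcord]; exact Nat.prime_three)
  rw [hcord] at hj'
  obtain ⟨j, hjdef⟩ : ∃ j, j = j' + 1 := ⟨_, rfl⟩
  rw [← hjdef] at hj'
  have hsum : 3 * j ≤ n := by
    have h1 := c.sum_cycleType
    rw [hj', Multiset.sum_replicate, smul_eq_mul] at h1
    have h2 : c.support.card ≤ Fintype.card (Fin n) := Finset.card_le_univ _
    rw [Fintype.card_fin] at h2
    omega
  have hcent : Nat.card (Subgroup.centralizer {c}) =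
      (n - 3 * j).factorial * 3 ^ j * j.factorial := by
    rw [nat_card_centralizer, hj', Fintype.card_fin, Multiset.sum_replicate,
      Multiset.prod_replicate, smul_eq_mul, Multiset.toFinset_replicate, if_neg (by omega),
      Finset.prod_singleton, Multiset.count_replicate_self, mul_comm j 3]
  have hTle : T ≤ Subgroup.centralizer {c} := by
    intro t ht
    rw [Subgroup.mem_centralizer_singleton_iff]
    exact hTcomm t ht
  have hdvd : 2 ^ e ∣ (n - 3 * j).factorial * 3 ^ j * j.factorial := by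
    rw [← hTcard, ← hcent]
    exact Subgroup.card_dvd_of_le hTle
  have hdvd' : 2 ^ e ∣ (n - 3 * j).factorial * j.factorial := by
    have : (n - 3 * j).factorial * 3 ^ j * j.factorial =
        3 ^ j * ((n - 3 * j).factorial * j.factorial) := by ring
    rw [this] at hdvd
    exact Nat.Coprime.dvd_of_dvd_mul_left (Nat.Coprime.pow _ _ (by norm_num)) hdvd
  have hle : e ≤ nsV (n - 3 * j) + nsV j := by
    have := (padicValNat_dvd_iff_le (p := 2) (by positivity)).mp hdvd'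
    rwa [padicValNat.mul (Nat.factorial_ne_zero _) (Nat.factorial_ne_zero _)] at this
  obtain ⟨k, rfl⟩ : ∃ k, n = 4 * k + 3 := ⟨n / 4, by omega⟩
  have hj1 : j = 1 := by
    apply j_eq_one' k j (by omega) hsum
    have e1 : 4 * k + 3 - 3 = 4 * k := by omega
    rw [e1] at he
    omega
  have h3c : c.IsThreeCycle := by
    unfold IsThreeCycle
    rw [hj', hj1]
    rfl
  refine ⟨c, hcN, h3c, T, hTN, hTcard, ?_⟩
  intro t ht s hs
  have hord : orderOf t ∣ 2 ^ e := by
    rw [← hTcard]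
    have := orderOf_dvd_natCard (⟨t, ht⟩ : T)
    rwa [Subgroup.orderOf_mk] at this
  obtain ⟨m', -, hm'⟩ := (Nat.dvd_prime_pow Nat.prime_two).mp hord
  exact fixes_support c t h3c (hTcomm t ht) m' hm' s hs

end Cfsg.Agent.Helper12.NilSym
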