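import Mathlib
import Cfsg.Agent.Lib.Helper12.NilSymEq

/-!
# The embedding `S_{n-3} × S_3 → S_n` and the standard extremal subgroup
-/

set_option autoImplicit false

namespace Cfsg.Agent.Helper12.NilSym

open Equiv Equiv.Perm

/-- the splitting of `Fin n` into the first `n - 3` and the last `3` points. -/
def sumEquiv (n : ℕ) (h3 : 3 ≤ n) : Fin (n - 3) ⊕ Fin 3 ≃ Fin n :=
  finSumFinEquiv.trans (finCongr (by omega))

/-- the embedding of `S_{n-3} × S_3` in `S_n`. -/
def emb (n : ℕ) (h3 : 3 ≤ n) : Perm (Fin (n - 3)) × Perm (Fin 3) →* Perm (Fin n) :=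
  (sumEquiv n h3).permCongrHom.toMonoidHom.comp (sumCongrHom _ _)

theorem emb_injective (n : ℕ) (h3 : 3 ≤ n) : Function.Injective (emb n h3) :=
  (sumEquiv n h3).permCongrHom.injective.comp sumCongrHom_injective

theorem emb_apply (n : ℕ) (h3 : 3 ≤ n) (σ : Perm (Fin (n - 3))) (ρ : Perm (Fin 3))
    (x : Fin (n - 3) ⊕ Fin 3) :
    emb n h3 (σ, ρ) (sumEquiv n h3 x) = sumEquiv n h3 (Sum.map σ ρ x) := by
  show (sumEquiv n h3).permCongr (Perm.sumCongr σ ρ) (sumEquiv n h3 x) = _
  rw [Equiv.permCongr_apply, Equiv.symm_apply_apply]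
  rfl

/-- the standard `3`-cycle on `Fin 3`. -/
def c3 : Perm (Fin 3) := swap 0 1 * swap 0 2

theorem c3_ne (b : Fin 3) : c3 b ≠ b := by
  revert b
  decide

theorem c3_isThreeCycle : c3.IsThreeCycle :=
  isThreeCycle_swap_mul_swap_same (by decide) (by decide) (by decide)

theorem emb_c3 (n : ℕ) (h3 : 3 ≤ n) : (emb n h3 (1, c3)).IsThreeCycle := by
  have h1 : ∀ i j : Fin 3, emb n h3 (1, swap i j) =
      swap (sumEquiv n h3 (Sum.inr i)) (sumEquiv n h3 (Sum.inr j)) := by
    intro i j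
    show (sumEquiv n h3).permCongr (Perm.sumCongr (1 : Perm (Fin (n - 3))) (swap i j)) = _
    rw [sumCongr_one_swap, Equiv.permCongr_def, symm_trans_swap_trans]
  have h2 : ((1 : Perm (Fin (n - 3))), c3) = (1, swap 0 1) * (1, swap 0 2) := by
    rw [Prod.mk_mul_mk, one_mul]
    rfl
  rw [h2, map_mul, h1, h1]
  apply isThreeCycle_swap_mul_swap_same
  · intro h
    have := Sum.inr_injective ((sumEquiv n h3).injective h)
    revert this
    decide
  · intro h
    have := Sum.inr_injective ((sumEquiv n h3).injective h)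
    revert this
    decide
  · intro h
    have := Sum.inr_injective ((sumEquiv n h3).injective h)
    revert this
    decide

/-- a permutation fixing the last three points comes from `S_{n-3}`. -/
theorem mem_range_of_fixes (n : ℕ) (h3 : 3 ≤ n) (τ : Perm (Fin n))
    (h : ∀ b : Fin 3, τ (sumEquiv n h3 (Sum.inr b)) = sumEquiv n h3 (Sum.inr b)) :
    ∃ σ : Perm (Fin (n - 3)), emb n h3 (σ, 1) = τ := by
  obtain ⟨τ', hτ'⟩ : ∃ τ' : Perm (Fin (n - 3) ⊕ Fin 3), τ' = (sumEquiv n h3).symm.permCongr τ :=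
    ⟨_, rfl⟩
  have hτ'r : ∀ b : Fin 3, τ' (Sum.inr b) = Sum.inr b := by
    intro b
    rw [hτ', Equiv.permCongr_apply, Equiv.symm_symm, h b, Equiv.symm_apply_apply]
  have hmaps : Set.MapsTo τ' (Set.range Sum.inl) (Set.range Sum.inl) := by
    rintro _ ⟨a, rfl⟩
    rcases hx : τ' (Sum.inl a) with a' | b
    · exact ⟨a', rfl⟩
    · exfalso
      have := τ'.injective (hx.trans (hτ'r b).symm)
      exact Sum.inl_ne_inr this
  obtain ⟨⟨σ, ρ⟩, hσρ⟩ := mem_sumCongrHom_range_of_perm_mapsTo_inl hmaps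
  have hρ : ρ = 1 := by
    ext b
    have := congrArg (fun f => f (Sum.inr b)) hσρ
    simp only [sumCongrHom_apply, Perm.sumCongr_apply, Sum.map_inr] at this
    rw [hτ'r b] at this
    rw [Sum.inr_injective this]
    rfl
  subst hρ
  refine ⟨σ, ?_⟩
  show (sumEquiv n h3).permCongr (sumCongrHom _ _ (σ, 1)) = τ
  rw [hσρ, hτ']
  ext x
  simp [Equiv.permCongr_apply]

end Cfsg.Agent.Helper12.NilSym
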