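import Mathlib
import Cfsg.Agent.Lib.Helper12.NilSymEmb

/-!
# The standard extremal subgroup and conjugacy
-/

set_option autoImplicit false

namespace Cfsg.Agent.Helper12.NilSym

open Equiv Equiv.Perm

/-- the homomorphism `P × ⟨c3⟩ → S_n`. -/
def stdHom (n : ℕ) (h3 : 3 ≤ n) (P : Subgroup (Perm (Fin (n - 3)))) :
    P × Subgroup.zpowers c3 →* Perm (Fin n) :=
  (emb n h3).comp (MonoidHom.prodMap P.subtype (Subgroup.zpowers c3).subtype)

theorem stdHom_injective (n : ℕ) (h3 : 3 ≤ n) (P : Subgroup (Perm (Fin (n - 3)))) :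
    Function.Injective (stdHom n h3 P) :=
  (emb_injective n h3).comp
    (Prod.map_injective.mpr ⟨P.subtype_injective, Subgroup.subtype_injective _⟩)

/-- the standard extremal subgroup. -/
def stdM (n : ℕ) (h3 : 3 ≤ n) (P : Subgroup (Perm (Fin (n - 3)))) : Subgroup (Perm (Fin n)) :=
  (stdHom n h3 P).range

theorem card_zpowers_c3 : Nat.card (Subgroup.zpowers c3) = 3 := by
  rw [Nat.card_zpowers, c3_isThreeCycle.orderOf]

theorem card_stdM (n : ℕ) (h3 : 3 ≤ n) (P : Subgroup (Perm (Fin (n - 3)))) :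
    Nat.card (stdM n h3 P) = Nat.card P * 3 := by
  rw [stdM, ← Nat.card_congr (MonoidHom.ofInjective (stdHom_injective n h3 P)).toEquiv,
    Nat.card_prod, card_zpowers_c3]

theorem stdM_nilpotent (n : ℕ) (h3 : 3 ≤ n) (P : Subgroup (Perm (Fin (n - 3))))
    (hP : IsPGroup 2 P) : Group.IsNilpotent (stdM n h3 P) := by
  haveI : Fact (Nat.Prime 2) := ⟨Nat.prime_two⟩
  haveI : Group.IsNilpotent P := hP.isNilpotent
  haveI : Fact (Nat.Prime 3) := ⟨Nat.prime_three⟩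
  haveI : Group.IsNilpotent (Subgroup.zpowers c3) :=
    (IsPGroup.of_card (p := 3) (n := 1) (by rw [card_zpowers_c3, pow_one])).isNilpotent
  exact Group.nilpotent_of_mulEquiv (MonoidHom.ofInjective (stdHom_injective n h3 P))

/-- the standard extremal subgroup is `P × C_3`. -/
noncomputable def stdEquiv (n : ℕ) (h3 : 3 ≤ n) (P : Subgroup (Perm (Fin (n - 3)))) :
    stdM n h3 P ≃* P × Multiplicative (ZMod 3) :=
  (MonoidHom.ofInjective (stdHom_injective n h3 P)).symm.trans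
    (MulEquiv.prodCongr (MulEquiv.refl _)
      (mulEquivOfPrimeCardEq (p := 3) card_zpowers_c3 (by simp)))

theorem conj_to_std (n : ℕ) (hn : n % 4 = 3) (h3 : 3 ≤ n) (P : Sylow 2 (Perm (Fin (n - 3))))
    (N : Subgroup (Perm (Fin n))) [Group.IsNilpotent N]
    (hcard : Nat.card N = 3 * 2 ^ nsV (n - 3)) :
    ∃ g : Perm (Fin n), stdM n h3 (P : Subgroup (Perm (Fin (n - 3)))) =
      N.map (MulAut.conj g).toMonoidHom := by
  haveI : Fact (Nat.Prime 2) := ⟨Nat.prime_two⟩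
  obtain ⟨c, hcN, h3c, T, hTN, hTcard, hTfix⟩ := extremal_structure n hn N hcard
  obtain ⟨c₀, hc₀⟩ : ∃ c₀, c₀ = emb n h3 (1, c3) := ⟨_, rfl⟩
  have hconj : IsConj c c₀ := by
    rw [isConj_iff_cycleType_eq, h3c.cycleType, hc₀, (emb_c3 n h3).cycleType]
  obtain ⟨g₀, hg₀⟩ := isConj_iff.mp hconj
  have hT' : ∀ t ∈ T, ∃ σ : Perm (Fin (n - 3)), emb n h3 (σ, 1) = g₀ * t * g₀⁻¹ := by
    intro t ht
    apply mem_range_of_fixes
    intro b
    have hmove : c₀ (sumEquiv n h3 (Sum.inr b)) ≠ sumEquiv n h3 (Sum.inr b) := by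
      rw [hc₀, emb_apply]
      intro h
      exact c3_ne b (Sum.inr_injective ((sumEquiv n h3).injective h))
    obtain ⟨y, hy⟩ : ∃ y, g₀ y = sumEquiv n h3 (Sum.inr b) :=
      ⟨g₀.symm _, g₀.apply_symm_apply _⟩
    rw [← hy] at hmove ⊢
    have hmove' : c y ≠ y := by
      intro h
      apply hmove
      rw [← hg₀]
      simp [Perm.mul_apply, h]
    have := hTfix t ht _ hmove'
    simp [Perm.mul_apply, this]
  obtain ⟨ι₁, hι₁def⟩ : ∃ ι₁ : Perm (Fin (n - 3)) →* Perm (Fin n),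
      ι₁ = (emb n h3).comp (MonoidHom.inl _ _) := ⟨_, rfl⟩
  have hι₁app : ∀ σ, ι₁ σ = emb n h3 (σ, 1) := by
    intro σ
    rw [hι₁def]
    rfl
  have hι₁ : Function.Injective ι₁ := by
    intro a b hab
    rw [hι₁app, hι₁app] at hab
    have := emb_injective n h3 hab
    exact (Prod.mk.inj this).1
  obtain ⟨T', hT'def⟩ : ∃ T' : Subgroup (Perm (Fin n)),
      T' = T.map (MulAut.conj g₀).toMonoidHom := ⟨_, rfl⟩
  have hT'le : T' ≤ ι₁.range := by
    rw [hT'def]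
    rintro _ ⟨t, ht, rfl⟩
    obtain ⟨σ, hσ⟩ := hT' t ht
    refine ⟨σ, ?_⟩
    rw [hι₁app, hσ]
    rfl
  obtain ⟨T'', hT''def⟩ : ∃ T'' : Subgroup (Perm (Fin (n - 3))), T'' = T'.comap ι₁ := ⟨_, rfl⟩
  have hT'card : Nat.card T' = 2 ^ nsV (n - 3) := by
    rw [hT'def, Subgroup.card_map_of_injective (MulAut.conj g₀).injective, hTcard]
  have hT''card : Nat.card T'' = 2 ^ nsV (n - 3) := by
    have h1 : T''.map ι₁ = T' := by
      rw [hT''def]
      exact Subgroup.map_comap_eq_self hT'le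
    rw [← hT'card, ← h1, Subgroup.card_map_of_injective hι₁]
  have hT''p : IsPGroup 2 T'' := IsPGroup.of_card hT''card
  obtain ⟨Q, hQ⟩ := hT''p.exists_le_sylow
  have hQeq : T'' = Q := Subgroup.eq_of_le_of_card_ge hQ (by rw [hT''card, card_sylow_two])
  obtain ⟨h, hh⟩ := MulAction.exists_smul_eq (Perm (Fin (n - 3))) P Q
  have hP_in : ∀ p ∈ (P : Subgroup (Perm (Fin (n - 3)))), h * p * h⁻¹ ∈ T'' := by
    intro p hp
    rw [hQeq, ← hh, Sylow.smul_def, Sylow.pointwise_smul_def]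
    exact Subgroup.smul_mem_pointwise_smul p (MulAut.conj h) _ hp
  have hcomm : ι₁ h * c₀ = c₀ * ι₁ h := by
    rw [hι₁app, hc₀, ← map_mul, ← map_mul, Prod.mk_mul_mk, Prod.mk_mul_mk, one_mul, mul_one,
      one_mul, mul_one]
  refine ⟨(ι₁ h)⁻¹ * g₀, ?_⟩
  have hle : stdM n h3 (P : Subgroup (Perm (Fin (n - 3)))) ≤
      N.map (MulAut.conj ((ι₁ h)⁻¹ * g₀)).toMonoidHom := by
    rintro _ ⟨⟨⟨p, hp⟩, ⟨z, hz⟩⟩, rfl⟩
    obtain ⟨i, rfl⟩ := Subgroup.mem_zpowers_iff.mp hz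
    have hval : stdHom n h3 (P : Subgroup (Perm (Fin (n - 3)))) (⟨p, hp⟩, ⟨c3 ^ i, hz⟩) =
        ι₁ p * c₀ ^ i := by
      rw [hι₁app, hc₀, ← map_zpow, ← map_mul, Prod.mk_mul_mk, Prod.pow_mk, one_zpow, one_mul,
        mul_one]
      rfl
    rw [hval]
    have hq := hP_in p hp
    rw [hT''def, Subgroup.mem_comap, hT'def] at hq
    obtain ⟨t, ht, htq⟩ := hq
    refine ⟨t * c ^ i, N.mul_mem (hTN ht) (N.zpow_mem hcN i), ?_⟩
    have h1 : ι₁ p = (ι₁ h)⁻¹ * ι₁ (h * p * h⁻¹) * ι₁ h := by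
      rw [map_mul, map_mul, map_inv]
      group
    have h2 : c₀ ^ i = (ι₁ h)⁻¹ * (g₀ * c ^ i * g₀⁻¹) * ι₁ h := by
      have h3' : g₀ * c ^ i * g₀⁻¹ = c₀ ^ i := by
        rw [← hg₀, conj_zpow]
      rw [h3']
      have h4 : Commute (ι₁ h) (c₀ ^ i) := Commute.zpow_right hcomm i
      rw [mul_assoc, ← h4.eq, inv_mul_cancel_left]
    rw [h1, h2, ← htq]
    simp only [MulEquiv.coe_toMonoidHom, MulAut.conj_apply, mul_inv_rev, inv_inv]
    group
  apply Subgroup.eq_of_le_of_card_ge hle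
  rw [Subgroup.card_map_of_injective (MulAut.conj _).injective, hcard, card_stdM, card_sylow_two,
    mul_comm]

end Cfsg.Agent.Helper12.NilSym
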