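import Mathlib
import Cfsg.Agent.Lib.Helper12.NilSymEq2
import Cfsg.Agent.Lib.Helper12.NilSymStd
import Cfsg.Agent.Lib.Helper12.NilSymAltMain2

/-!
# The standard extremal subgroup of `A_n` and conjugacy
-/

set_option autoImplicit false

namespace Cfsg.Agent.Helper12.NilSym

open Equiv Equiv.Perm

theorem sign_emb (n : ℕ) (h3 : 3 ≤ n) (σ : Perm (Fin (n - 3))) (ρ : Perm (Fin 3)) :
    sign (emb n h3 (σ, ρ)) = sign σ * sign ρ := by
  show sign ((sumEquiv n h3).permCongr (Perm.sumCongr σ ρ)) = _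
  rw [sign_permCongr, sign_sumCongr]

theorem sign_zpowers_c3 (z : Subgroup.zpowers c3) : sign z.1 = 1 := by
  obtain ⟨i, hi⟩ := Subgroup.mem_zpowers_iff.mp z.2
  rw [← hi, map_zpow, c3_isThreeCycle.sign, one_zpow]

theorem card_sylow_two_alt (m : ℕ) (hm : 2 ≤ m) (P : Sylow 2 (alternatingGroup (Fin m))) :
    2 * Nat.card P = 2 ^ nsV m := by
  haveI : Nontrivial (Fin m) := Fin.nontrivial_iff_two_le.mpr hm
  have h1 : 2 * Nat.card (alternatingGroup (Fin m)) = m.factorial := by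
    rw [two_mul_nat_card_alternatingGroup, Nat.card_perm, Nat.card_eq_fintype_card,
      Fintype.card_fin]
  have hpos : Nat.card (alternatingGroup (Fin m)) ≠ 0 := Nat.card_pos.ne'
  have h2 : nsV m = 1 + padicValNat 2 (Nat.card (alternatingGroup (Fin m))) := by
    unfold nsV
    rw [← h1, padicValNat.mul (by norm_num) hpos]
    simp
  rw [Sylow.card_eq_multiplicity, Nat.factorization_def _ Nat.prime_two, h2, pow_add, pow_one]

/-- the homomorphism `P × ⟨c3⟩ → A_n`. -/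
def stdHomA (n : ℕ) (h3 : 3 ≤ n) (P : Subgroup (alternatingGroup (Fin (n - 3)))) :
    P × Subgroup.zpowers c3 →* alternatingGroup (Fin n) :=
  MonoidHom.codRestrict
    ((emb n h3).comp (MonoidHom.prodMap ((alternatingGroup (Fin (n - 3))).subtype.comp P.subtype)
      (Subgroup.zpowers c3).subtype))
    (alternatingGroup (Fin n))
    (by
      rintro ⟨p, z⟩
      rw [Equiv.Perm.mem_alternatingGroup]
      show sign (emb n h3 (p.1.1, z.1)) = 1
      rw [sign_emb, sign_zpowers_c3, Equiv.Perm.mem_alternatingGroup.mp p.1.2, mul_one])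

theorem stdHomA_apply (n : ℕ) (h3 : 3 ≤ n) (P : Subgroup (alternatingGroup (Fin (n - 3))))
    (p : P) (z : Subgroup.zpowers c3) :
    ((stdHomA n h3 P (p, z) : alternatingGroup (Fin n)) : Perm (Fin n)) =
      emb n h3 (p.1.1, z.1) := rfl

theorem stdHomA_injective (n : ℕ) (h3 : 3 ≤ n) (P : Subgroup (alternatingGroup (Fin (n - 3)))) :
    Function.Injective (stdHomA n h3 P) := by
  intro x y hxy
  have h1 : emb n h3 (x.1.1.1, x.2.1) = emb n h3 (y.1.1.1, y.2.1) :=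
    congrArg Subtype.val hxy
  have h2 := emb_injective n h3 h1
  have h3' := Prod.mk.inj h2
  exact Prod.ext (Subtype.ext (Subtype.ext h3'.1)) (Subtype.ext h3'.2)

/-- the standard extremal subgroup of `A_n`. -/
def stdMA (n : ℕ) (h3 : 3 ≤ n) (P : Subgroup (alternatingGroup (Fin (n - 3)))) :
    Subgroup (alternatingGroup (Fin n)) :=
  (stdHomA n h3 P).range

theorem card_stdMA (n : ℕ) (h3 : 3 ≤ n) (P : Subgroup (alternatingGroup (Fin (n - 3)))) :
    Nat.card (stdMA n h3 P) = Nat.card P * 3 := by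
  rw [stdMA, ← Nat.card_congr (MonoidHom.ofInjective (stdHomA_injective n h3 P)).toEquiv,
    Nat.card_prod, card_zpowers_c3]

theorem stdMA_nilpotent (n : ℕ) (h3 : 3 ≤ n) (P : Subgroup (alternatingGroup (Fin (n - 3))))
    (hP : IsPGroup 2 P) : Group.IsNilpotent (stdMA n h3 P) := by
  haveI : Fact (Nat.Prime 2) := ⟨Nat.prime_two⟩
  haveI : Group.IsNilpotent P := hP.isNilpotent
  haveI : Fact (Nat.Prime 3) := ⟨Nat.prime_three⟩
  haveI : Group.IsNilpotent (Subgroup.zpowers c3) :=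
    (IsPGroup.of_card (p := 3) (n := 1) (by rw [card_zpowers_c3, pow_one])).isNilpotent
  exact Group.nilpotent_of_mulEquiv (MonoidHom.ofInjective (stdHomA_injective n h3 P))

/-- the standard extremal subgroup is `P × C_3`. -/
noncomputable def stdEquivA (n : ℕ) (h3 : 3 ≤ n) (P : Subgroup (alternatingGroup (Fin (n - 3)))) :
    stdMA n h3 P ≃* P × Multiplicative (ZMod 3) :=
  (MonoidHom.ofInjective (stdHomA_injective n h3 P)).symm.trans
    (MulEquiv.prodCongr (MulEquiv.refl _)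
      (mulEquivOfPrimeCardEq (p := 3) card_zpowers_c3 (by simp)))

theorem conj_to_std_alt (n : ℕ) (hn : n % 4 = 3) (h7 : 7 ≤ n) (h3 : 3 ≤ n)
    (P : Sylow 2 (alternatingGroup (Fin (n - 3))))
    (N : Subgroup (alternatingGroup (Fin n))) [Group.IsNilpotent N]
    (hcard : Nat.card N = 3 * Nat.card P) :
    ∃ g : alternatingGroup (Fin n),
      stdMA n h3 (P : Subgroup (alternatingGroup (Fin (n - 3)))) =
        N.map (MulAut.conj g).toMonoidHom := by
  haveI : Fact (Nat.Prime 2) := ⟨Nat.prime_two⟩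
  have hP2 := card_sylow_two_alt (n - 3) (by omega) P
  obtain ⟨e, he⟩ := IsPGroup.iff_card.mp P.isPGroup'
  have hev : nsV (n - 3) = e + 1 := by
    rw [he, ← pow_succ'] at hP2
    exact (Nat.pow_right_injective (le_refl 2) hP2).symm
  obtain ⟨N', hN'⟩ : ∃ N' : Subgroup (Perm (Fin n)),
      N' = N.map (alternatingGroup (Fin n)).subtype := ⟨_, rfl⟩
  have hN'card : Nat.card N' = 3 * 2 ^ e := by
    rw [hN', Subgroup.card_map_of_injective (Subgroup.subtype_injective _), hcard, he]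
  haveI : Group.IsNilpotent N' := by
    subst hN'
    exact Group.nilpotent_of_mulEquiv (N.equivMapOfInjective _ (Subgroup.subtype_injective _))
  have hN'A : ∀ x ∈ N', sign x = 1 := by
    intro x hx
    rw [hN'] at hx
    obtain ⟨y, -, rfl⟩ := hx
    exact Equiv.Perm.mem_alternatingGroup.mp y.2
  have hN'mem : ∀ x ∈ N', ∃ y ∈ N, (y : Perm (Fin n)) = x := by
    intro x hx
    rw [hN'] at hx
    obtain ⟨y, hy, rfl⟩ := hx
    exact ⟨y, hy, rfl⟩
  obtain ⟨c, hcN, h3c, T, hTN, hTcard, hTfix⟩ :=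
    extremal_structure' n e hn (by omega) N' hN'card
  obtain ⟨c₀, hc₀⟩ : ∃ c₀, c₀ = emb n h3 (1, c3) := ⟨_, rfl⟩
  have h3c₀ : c₀.IsThreeCycle := hc₀ ▸ emb_c3 n h3
  have hconj : IsConj (⟨c, h3c.mem_alternatingGroup⟩ : alternatingGroup (Fin n))
      ⟨c₀, h3c₀.mem_alternatingGroup⟩ :=
    alternatingGroup.isThreeCycle_isConj (by simp; omega) h3c h3c₀
  obtain ⟨g₀, hg₀'⟩ := isConj_iff.mp hconj
  have hg₀ : (g₀ : Perm (Fin n)) * c * (g₀ : Perm (Fin n))⁻¹ = c₀ :=
    congrArg Subtype.val hg₀'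
  have hg₀s : sign (g₀ : Perm (Fin n)) = 1 := Equiv.Perm.mem_alternatingGroup.mp g₀.2
  have hT' : ∀ t ∈ T, ∃ σ : Perm (Fin (n - 3)),
      emb n h3 (σ, 1) = (g₀ : Perm (Fin n)) * t * (g₀ : Perm (Fin n))⁻¹ := by
    intro t ht
    apply mem_range_of_fixes
    intro b
    have hmove : c₀ (sumEquiv n h3 (Sum.inr b)) ≠ sumEquiv n h3 (Sum.inr b) := by
      rw [hc₀, emb_apply]
      intro h
      exact c3_ne b (Sum.inr_injective ((sumEquiv n h3).injective h))
    obtain ⟨y, hy⟩ : ∃ y, (g₀ : Perm (Fin n)) y = sumEquiv n h3 (Sum.inr b) :=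
      ⟨(g₀ : Perm (Fin n)).symm _, (g₀ : Perm (Fin n)).apply_symm_apply _⟩
    rw [← hy] at hmove ⊢
    have hmove' : c y ≠ y := by
      intro h
      apply hmove
      rw [← hg₀]
      simp [Perm.mul_apply, h]
    have := hTfix t ht _ hmove'
    simp [Perm.mul_apply, this]
  obtain ⟨ι₁, hι₁def⟩ : ∃ ι₁ : alternatingGroup (Fin (n - 3)) →* Perm (Fin n),
      ι₁ = (emb n h3).comp ((MonoidHom.inl _ _).comp (alternatingGroup (Fin (n - 3))).subtype) :=
    ⟨_, rfl⟩
  have hι₁app : ∀ σ, ι₁ σ = emb n h3 (σ.1, 1) := by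
    intro σ
    rw [hι₁def]
    rfl
  have hι₁ : Function.Injective ι₁ := by
    intro a b hab
    rw [hι₁app, hι₁app] at hab
    have := emb_injective n h3 hab
    exact Subtype.ext (Prod.mk.inj this).1
  have hι₁s : ∀ σ, sign (ι₁ σ) = 1 := by
    intro σ
    rw [hι₁app, sign_emb, Equiv.Perm.mem_alternatingGroup.mp σ.2, map_one, mul_one]
  obtain ⟨T', hT'def⟩ : ∃ T' : Subgroup (Perm (Fin n)),
      T' = T.map (MulAut.conj (g₀ : Perm (Fin n))).toMonoidHom := ⟨_, rfl⟩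
  have hT'le : T' ≤ ι₁.range := by
    rw [hT'def]
    rintro _ ⟨t, ht, rfl⟩
    obtain ⟨σ, hσ⟩ := hT' t ht
    have hσs : sign σ = 1 := by
      have h1 := sign_emb n h3 σ 1
      rw [hσ, map_one, mul_one] at h1
      rw [← h1, Perm.sign_mul, Perm.sign_mul, Perm.sign_inv, hg₀s, hN'A t (hTN ht)]
      simp
    refine ⟨⟨σ, Equiv.Perm.mem_alternatingGroup.mpr hσs⟩, ?_⟩
    rw [hι₁app, hσ]
    rfl
  obtain ⟨T'', hT''def⟩ : ∃ T'' : Subgroup (alternatingGroup (Fin (n - 3))),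
      T'' = T'.comap ι₁ := ⟨_, rfl⟩
  have hT'card : Nat.card T' = 2 ^ e := by
    rw [hT'def, Subgroup.card_map_of_injective (MulAut.conj _).injective, hTcard]
  have hT''card : Nat.card T'' = 2 ^ e := by
    have h1 : T''.map ι₁ = T' := by
      rw [hT''def]
      exact Subgroup.map_comap_eq_self hT'le
    rw [← hT'card, ← h1, Subgroup.card_map_of_injective hι₁]
  have hT''p : IsPGroup 2 T'' := IsPGroup.of_card hT''card
  obtain ⟨Q, hQ⟩ := hT''p.exists_le_sylow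
  have hQcard : Nat.card Q = 2 ^ e := by
    have h1 := card_sylow_two_alt (n - 3) (by omega) Q
    rw [hev, pow_succ'] at h1
    omega
  have hQeq : T'' = Q := Subgroup.eq_of_le_of_card_ge hQ (by rw [hT''card, hQcard])
  obtain ⟨h, hh⟩ := MulAction.exists_smul_eq (alternatingGroup (Fin (n - 3))) P Q
  have hP_in : ∀ p ∈ (P : Subgroup (alternatingGroup (Fin (n - 3)))), h * p * h⁻¹ ∈ T'' := by
    intro p hp
    rw [hQeq, ← hh, Sylow.smul_def, Sylow.pointwise_smul_def]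
    exact Subgroup.smul_mem_pointwise_smul p (MulAut.conj h) _ hp
  have hcomm : ι₁ h * c₀ = c₀ * ι₁ h := by
    rw [hι₁app, hc₀, ← map_mul, ← map_mul, Prod.mk_mul_mk, Prod.mk_mul_mk, one_mul, mul_one,
      one_mul, mul_one]
  obtain ⟨hA, hhA⟩ : ∃ hA : alternatingGroup (Fin n), (hA : Perm (Fin n)) = ι₁ h :=
    ⟨⟨ι₁ h, Equiv.Perm.mem_alternatingGroup.mpr (hι₁s h)⟩, rfl⟩
  refine ⟨hA⁻¹ * g₀, ?_⟩
  have hle : stdMA n h3 (P : Subgroup (alternatingGroup (Fin (n - 3)))) ≤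
      N.map (MulAut.conj (hA⁻¹ * g₀)).toMonoidHom := by
    rintro _ ⟨⟨⟨p, hp⟩, ⟨z, hz⟩⟩, rfl⟩
    obtain ⟨i, rfl⟩ := Subgroup.mem_zpowers_iff.mp hz
    have hval : emb n h3 (p.1, c3 ^ i) = ι₁ p * c₀ ^ i := by
      rw [hι₁app, hc₀, ← map_zpow, ← map_mul, Prod.mk_mul_mk, Prod.pow_mk, one_zpow, one_mul,
        mul_one]
    have hq := hP_in p hp
    rw [hT''def, Subgroup.mem_comap, hT'def] at hq
    obtain ⟨t, ht, htq⟩ := hq
    obtain ⟨y, hyN, hy⟩ := hN'mem (t * c ^ i) (N'.mul_mem (hTN ht) (N'.zpow_mem hcN i))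
    refine ⟨y, hyN, ?_⟩
    apply Subtype.ext
    rw [stdHomA_apply]
    show _ = emb n h3 (p.1, c3 ^ i)
    rw [hval]
    have h1 : ι₁ p = (ι₁ h)⁻¹ * ι₁ (h * p * h⁻¹) * ι₁ h := by
      rw [map_mul, map_mul, map_inv]
      group
    have h2 : c₀ ^ i = (ι₁ h)⁻¹ * ((g₀ : Perm (Fin n)) * c ^ i * (g₀ : Perm (Fin n))⁻¹) * ι₁ h := by
      have h3' : (g₀ : Perm (Fin n)) * c ^ i * (g₀ : Perm (Fin n))⁻¹ = c₀ ^ i := by
        rw [← hg₀, conj_zpow]
      rw [h3']
      have h4 : Commute (ι₁ h) (c₀ ^ i) := Commute.zpow_right hcomm i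
      rw [mul_assoc, ← h4.eq, inv_mul_cancel_left]
    rw [h1, h2, ← htq]
    simp only [MulEquiv.coe_toMonoidHom, MulAut.conj_apply, mul_inv_rev, inv_inv,
      Subgroup.coe_mul, Subgroup.coe_inv, hhA, hy]
    group
  apply Subgroup.eq_of_le_of_card_ge hle
  rw [Subgroup.card_map_of_injective (MulAut.conj _).injective, hcard, card_stdMA, mul_comm]

end Cfsg.Agent.Helper12.NilSym
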