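import Cfsg.Agent.Lib.Helper12.OTSL3

set_option autoImplicit false

namespace Cfsg.Agent.Helper12.OT

open Matrix

/-- the vector space `𝔽₂³` written multiplicatively -/
abbrev V8 : Type := Multiplicative (Fin 3 → ZMod 2)

/-- a Singer cycle: multiplication by a primitive element of `𝔽₈` -/
def sing : Matrix (Fin 3) (Fin 3) (ZMod 2) := !![0, 0, 1; 1, 0, 1; 0, 1, 0]

/-- membership predicate of the normalizer of the Singer cycle -/
def F21pred (g : SL3) : Prop :=
  g.1 * sing = sing * g.1 ∨ g.1 * sing = sing ^ 2 * g.1 ∨ g.1 * sing = sing ^ 4 * g.1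

instance : DecidablePred F21pred := fun g => by unfold F21pred; infer_instance

set_option maxRecDepth 100000 in
theorem F21_mul : ∀ a b : SL3, F21pred a → F21pred b → F21pred (a * b) := by decide +kernel

set_option maxRecDepth 100000 in
theorem F21_inv : ∀ a : SL3, F21pred a → F21pred a⁻¹ := by decide +kernel

set_option maxRecDepth 100000 in
theorem F21_one : F21pred 1 := by decide +kernel

/-- the normalizer of a Singer cycle in `SL₃(𝔽₂)`, of order 21 -/
def F21 : Subgroup SL3 where
  carrier := {g | F21pred g}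
  mul_mem' := fun {a b} ha hb => F21_mul a b ha hb
  one_mem' := F21_one
  inv_mem' := fun {a} ha => F21_inv a ha

instance : DecidablePred (· ∈ F21) := fun g => inferInstanceAs (Decidable (F21pred g))

/-- the action of `SL₃(𝔽₂)` on `𝔽₂³` -/
def actSL3 : SL3 →* MulAut V8 where
  toFun g :=
    { toFun := fun v => Multiplicative.ofAdd (g.1 *ᵥ Multiplicative.toAdd v)
      invFun := fun v => Multiplicative.ofAdd ((g⁻¹ : SL3).1 *ᵥ Multiplicative.toAdd v)
      left_inv := fun v => by
        have h : ((g⁻¹ : SL3) : Matrix (Fin 3) (Fin 3) (ZMod 2)) * g.1 = 1 := by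
          rw [← Matrix.SpecialLinearGroup.coe_mul, inv_mul_cancel, Matrix.SpecialLinearGroup.coe_one]
        simp only [toAdd_ofAdd, Matrix.mulVec_mulVec, h, Matrix.one_mulVec, ofAdd_toAdd]
      right_inv := fun v => by
        have h : g.1 * ((g⁻¹ : SL3) : Matrix (Fin 3) (Fin 3) (ZMod 2)) = 1 := by
          rw [← Matrix.SpecialLinearGroup.coe_mul, mul_inv_cancel, Matrix.SpecialLinearGroup.coe_one]
        simp only [toAdd_ofAdd, Matrix.mulVec_mulVec, h, Matrix.one_mulVec, ofAdd_toAdd]
      map_mul' := fun v w => by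
        simp [Matrix.mulVec_add] }
  map_one' := by
    ext v
    simp
  map_mul' := fun g h => by
    ext v
    simp [Matrix.mulVec_mulVec]

/-- `AΓL₁(8) = 𝔽₂³ ⋊ (C₇ ⋊ C₃)` -/
def AGL : Type := V8 ⋊[actSL3.comp F21.subtype] F21

instance : Group AGL := inferInstanceAs (Group (V8 ⋊[actSL3.comp F21.subtype] F21))

instance : DecidableEq AGL := fun a b =>
  decidable_of_iff (a.left = b.left ∧ a.right = b.right) SemidirectProduct.ext_iff.symm

instance : Fintype AGL := Fintype.ofEquiv (V8 × F21) SemidirectProduct.equivProd.symm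

end Cfsg.Agent.Helper12.OT

namespace Cfsg.Agent.Helper12.OT

/-- computable count in `AGL` -/
def aglcnt (P : AGL → Prop) [DecidablePred P] : ℕ := (Finset.univ.filter P).card

theorem pc_AGL (n : ℕ) : pc AGL n = aglcnt (fun g => g ^ n = 1) := by
  unfold pc aglcnt
  rw [Nat.card_eq_fintype_card, Fintype.card_subtype]

theorem aglcnt_congr (P Q : AGL → Prop) [DecidablePred P] [DecidablePred Q]
    (h : ∀ g, P g ↔ Q g) : aglcnt P = aglcnt Q := by
  unfold aglcnt
  congr 1
  refine Finset.filter_congr fun g _ => ?_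
  rw [h g]

/-- the conjugation exponent of an element of `F21` on the Singer cycle -/
def f21fun (g : F21) : Multiplicative (ZMod 3) :=
  if g.1.1 * sing = sing * g.1.1 then 1
  else if g.1.1 * sing = sing ^ 2 * g.1.1 then Multiplicative.ofAdd 1
  else Multiplicative.ofAdd 2

set_option maxRecDepth 100000 in
theorem f21fun_mul : ∀ a b : F21, f21fun (a * b) = f21fun a * f21fun b := by decide +kernel

set_option maxRecDepth 100000 in
theorem f21fun_comm : ∀ a b : F21, f21fun a = 1 → f21fun b = 1 → a * b = b * a := by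
  decide +kernel

/-- the quotient map `F21 → C₃` -/
def f21hom : F21 →* Multiplicative (ZMod 3) where
  toFun := f21fun
  map_one' := by decide +kernel
  map_mul' := f21fun_mul

instance F21_isSolvable : Group.IsSolvable F21 := by
  refine Group.isSolvable_of_ker_le_range f21hom.ker.subtype f21hom (by simp) (hG' := ?_)
  refine Group.isSolvable_of_comm ?_
  rintro ⟨a, ha⟩ ⟨b, hb⟩
  rw [MonoidHom.mem_ker] at ha hb
  exact Subtype.ext (f21fun_comm a b ha hb)

instance AGL_isSolvable : Group.IsSolvable AGL := by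
  show Group.IsSolvable (V8 ⋊[actSL3.comp F21.subtype] F21)
  exact Group.isSolvable_of_ker_le_range
    (SemidirectProduct.inl : V8 →* V8 ⋊[actSL3.comp F21.subtype] F21)
    (SemidirectProduct.rightHom : V8 ⋊[actSL3.comp F21.subtype] F21 →* F21)
    (by rw [SemidirectProduct.range_inl_eq_ker_rightHom])

end Cfsg.Agent.Helper12.OT
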