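import Cfsg.Agent.Lib.Helper12.OTAGL

set_option autoImplicit false

namespace Cfsg.Agent.Helper12.OT

set_option maxRecDepth 100000 in
theorem aglcnt_0 : aglcnt (fun _ => True) = 168 := by decide +kernel
set_option maxRecDepth 100000 in
theorem aglcnt_1 : aglcnt (fun g => g ^ 1 = 1) = 1 := by decide +kernel
set_option maxRecDepth 100000 in
theorem aglcnt_2 : aglcnt (fun g => g ^ 2 = 1) = 8 := by decide +kernel
set_option maxRecDepth 100000 in
theorem aglcnt_3 : aglcnt (fun g => g ^ 3 = 1) = 57 := by decide +kernel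
set_option maxRecDepth 100000 in
theorem aglcnt_4 : aglcnt (fun g => (g ^ 2) ^ 2 = 1) = 8 := by decide +kernel
set_option maxRecDepth 100000 in
theorem aglcnt_6 : aglcnt (fun g => (g ^ 2) ^ 3 = 1) = 120 := by decide +kernel
set_option maxRecDepth 100000 in
theorem aglcnt_7 : aglcnt (fun g => g ^ 7 = 1) = 49 := by decide +kernel

theorem card_AGL : Nat.card AGL = 168 := by
  rw [← pc_zero, pc_AGL, aglcnt_congr _ (fun _ => True) (fun g => by simp), aglcnt_0]
theorem pc_AGL_1 : pc AGL 1 = 1 := by rw [pc_AGL, aglcnt_1]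
theorem pc_AGL_2 : pc AGL 2 = 8 := by rw [pc_AGL, aglcnt_2]
theorem pc_AGL_3 : pc AGL 3 = 57 := by rw [pc_AGL, aglcnt_3]
theorem pc_AGL_4 : pc AGL 4 = 8 := by
  rw [pc_AGL, aglcnt_congr _ (fun g => (g ^ 2) ^ 2 = 1) (fun g => by rw [← pow_mul]), aglcnt_4]
theorem pc_AGL_6 : pc AGL 6 = 120 := by
  rw [pc_AGL, aglcnt_congr _ (fun g => (g ^ 2) ^ 3 = 1) (fun g => by rw [← pow_mul]), aglcnt_6]
theorem pc_AGL_7 : pc AGL 7 = 49 := by rw [pc_AGL, aglcnt_7]

end Cfsg.Agent.Helper12.OT
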