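import Cfsg.Agent.Lib.Helper12.OTAGL

set_option autoImplicit false

namespace Cfsg.Agent.Helper12.OT

set_option maxRecDepth 100000 in
theorem aglcnt_12 : aglcnt (fun g => ((g ^ 2) ^ 2) ^ 3 = 1) = 120 := by decide +kernel
set_option maxRecDepth 100000 in
theorem aglcnt_14 : aglcnt (fun g => (g ^ 7) ^ 2 = 1) = 56 := by decide +kernel
set_option maxRecDepth 100000 in
theorem aglcnt_21 : aglcnt (fun g => (g ^ 7) ^ 3 = 1) = 105 := by decide +kernel

theorem pc_AGL_12 : pc AGL 12 = 120 := by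
  rw [pc_AGL, aglcnt_congr _ (fun g => ((g ^ 2) ^ 2) ^ 3 = 1)
    (fun g => by rw [← pow_mul, ← pow_mul]), aglcnt_12]
theorem pc_AGL_14 : pc AGL 14 = 56 := by
  rw [pc_AGL, aglcnt_congr _ (fun g => (g ^ 7) ^ 2 = 1) (fun g => by rw [← pow_mul]), aglcnt_14]
theorem pc_AGL_21 : pc AGL 21 = 105 := by
  rw [pc_AGL, aglcnt_congr _ (fun g => (g ^ 7) ^ 3 = 1) (fun g => by rw [← pow_mul]), aglcnt_21]

end Cfsg.Agent.Helper12.OT
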