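import Cfsg.Agent.Lib.Helper12.OTAGL

set_option autoImplicit false

namespace Cfsg.Agent.Helper12.OT

set_option maxRecDepth 100000 in
theorem aglcnt_28 : aglcnt (fun g => ((g ^ 7) ^ 2) ^ 2 = 1) = 56 := by decide +kernel
set_option maxRecDepth 100000 in
theorem aglcnt_42 : aglcnt (fun g => ((g ^ 7) ^ 2) ^ 3 = 1) = 168 := by decide +kernel
set_option maxRecDepth 100000 in
theorem aglcnt_84 : aglcnt (fun g => (((g ^ 7) ^ 2) ^ 2) ^ 3 = 1) = 168 := by decide +kernel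

theorem pc_AGL_28 : pc AGL 28 = 56 := by
  rw [pc_AGL, aglcnt_congr _ (fun g => ((g ^ 7) ^ 2) ^ 2 = 1)
    (fun g => by rw [← pow_mul, ← pow_mul]), aglcnt_28]
theorem pc_AGL_42 : pc AGL 42 = 168 := by
  rw [pc_AGL, aglcnt_congr _ (fun g => ((g ^ 7) ^ 2) ^ 3 = 1)
    (fun g => by rw [← pow_mul, ← pow_mul]), aglcnt_42]
theorem pc_AGL_84 : pc AGL 84 = 168 := by
  rw [pc_AGL, aglcnt_congr _ (fun g => (((g ^ 7) ^ 2) ^ 2) ^ 3 = 1)
    (fun g => by rw [← pow_mul, ← pow_mul, ← pow_mul]), aglcnt_84]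

end Cfsg.Agent.Helper12.OT
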