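import Mathlib

set_option autoImplicit false

namespace Cfsg.Agent.Helper12.OT

open Finset

/-- number of solutions of `g ^ n = 1` -/
noncomputable def pc (G : Type*) [Monoid G] (n : ℕ) : ℕ := Nat.card {g : G // g ^ n = 1}

theorem pc_congr {G H : Type*} [Monoid G] [Monoid H] (e : G ≃* H) (n : ℕ) :
    pc G n = pc H n := by
  unfold pc
  refine Nat.card_congr (e.toEquiv.subtypeEquiv fun g => ?_)
  constructor
  · intro h
    show (e g) ^ n = 1
    rw [← map_pow, h, map_one]
  · intro h
    have h' : e (g ^ n) = e 1 := by rw [map_pow, map_one]; exact h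
    exact e.injective h'

theorem pc_prod (G H : Type*) [Monoid G] [Monoid H] (n : ℕ) :
    pc (G × H) n = pc G n * pc H n := by
  unfold pc
  rw [← Nat.card_prod]
  refine Nat.card_congr ?_
  exact
    { toFun := fun p => (⟨p.1.1, by have := congrArg Prod.fst p.2; simpa using this⟩,
        ⟨p.1.2, by have := congrArg Prod.snd p.2; simpa using this⟩)
      invFun := fun q => ⟨(q.1.1, q.2.1), by
        ext
        · simpa using q.1.2
        · simpa using q.2.2⟩
      left_inv := fun p => rfl
      right_inv := fun q => rfl }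

theorem pc_pi {ι : Type*} [Fintype ι] (G : ι → Type*) [∀ i, Monoid (G i)] (n : ℕ) :
    pc (∀ i, G i) n = ∏ i, pc (G i) n := by
  unfold pc
  rw [← Nat.card_pi]
  refine Nat.card_congr ?_
  exact
    { toFun := fun g i => ⟨g.1 i, by have := congrFun g.2 i; simpa using this⟩
      invFun := fun f => ⟨fun i => (f i).1, by
        funext i
        simpa using (f i).2⟩
      left_inv := fun g => rfl
      right_inv := fun f => rfl }

theorem pc_pow (G : Type*) [Monoid G] (e n : ℕ) :
    pc (Fin e → G) n = pc G n ^ e := by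
  rw [pc_pi]
  simp

theorem pc_zero (G : Type*) [Monoid G] : pc G 0 = Nat.card G := by
  unfold pc
  refine Nat.card_congr ?_
  exact Equiv.subtypeUnivEquiv (fun g => pow_zero g)

theorem pow_eq_one_of_pc_eq_card {G : Type*} [Monoid G] [Finite G] {E : ℕ}
    (h : pc G E = Nat.card G) (g : G) : g ^ E = 1 := by
  by_contra hg
  have := Finite.card_subtype_lt (p := fun g : G => g ^ E = 1) hg
  unfold pc at h
  omega

theorem pc_gcd {G : Type*} [Group G] (E : ℕ) (hE : ∀ g : G, g ^ E = 1) (n : ℕ) :
    pc G n = pc G (Nat.gcd n E) := by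
  unfold pc
  refine Nat.card_congr (Equiv.subtypeEquivRight fun g => ?_)
  constructor
  · intro h
    exact pow_gcd_eq_one.mpr ⟨h, hE g⟩
  · intro h
    obtain ⟨k, hk⟩ := Nat.gcd_dvd_left n E
    rw [hk, pow_mul, h, one_pow]

theorem pc_eq_sum_divisors {G : Type*} [Group G] [Finite G] {n : ℕ} (hn : n ≠ 0) :
    pc G n = ∑ m ∈ n.divisors, Nat.card {x : G // orderOf x = m} := by
  classical
  haveI := Fintype.ofFinite G
  have := sum_card_orderOf_eq_card_pow_eq_one (G := G) hn
  unfold pc
  rw [Nat.card_eq_fintype_card, Fintype.card_subtype, ← this]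
  refine Finset.sum_congr rfl fun m _ => ?_
  rw [Nat.card_eq_fintype_card, Fintype.card_subtype]

theorem ordCount_eq_of_pc_eq {G H : Type*} [Group G] [Group H] [Finite G] [Finite H]
    (h : ∀ n, pc G n = pc H n) (n : ℕ) :
    Nat.card {g : G // orderOf g = n} = Nat.card {h : H // orderOf h = n} := by
  induction n using Nat.strong_induction_on with
  | _ n ih =>
    rcases Nat.eq_zero_or_pos n with rfl | hn
    · have hG : IsEmpty {g : G // orderOf g = 0} := ⟨fun g => (orderOf_pos g.1).ne' g.2⟩
      have hH : IsEmpty {g : H // orderOf g = 0} := ⟨fun g => (orderOf_pos g.1).ne' g.2⟩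
      rw [Nat.card_of_isEmpty, Nat.card_of_isEmpty]
    · have hG := pc_eq_sum_divisors (G := G) hn.ne'
      have hH := pc_eq_sum_divisors (G := H) hn.ne'
      rw [← Nat.cons_self_properDivisors hn.ne', Finset.sum_cons] at hG hH
      have hsum : ∑ m ∈ n.properDivisors, Nat.card {x : G // orderOf x = m}
          = ∑ m ∈ n.properDivisors, Nat.card {x : H // orderOf x = m} := by
        refine Finset.sum_congr rfl fun m hm => ?_
        exact ih m (Nat.mem_properDivisors.mp hm).2
      have := h n
      omega

theorem derivedSeries_pi_le {ι : Type*} {G : ι → Type*} [∀ i, Group (G i)] (n : ℕ) :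
    derivedSeries (∀ i, G i) n ≤ Subgroup.pi Set.univ (fun i => derivedSeries (G i) n) := by
  induction n with
  | zero => simp [Subgroup.pi_top]
  | succ n ih =>
    simp_rw [derivedSeries_succ]
    exact (Subgroup.commutator_mono ih ih).trans (Subgroup.commutator_pi_pi_le _ _)

theorem isSolvable_pi {ι : Type*} [Finite ι] {G : ι → Type*} [∀ i, Group (G i)]
    [h : ∀ i, Group.IsSolvable (G i)] : Group.IsSolvable (∀ i, G i) := by
  classical
  haveI := Fintype.ofFinite ι
  choose f hf using fun i => (h i).solvable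
  refine ⟨⟨Finset.univ.sup f, ?_⟩⟩
  rw [eq_bot_iff]
  refine (derivedSeries_pi_le _).trans ?_
  rw [← Subgroup.pi_bot]
  intro x hx i hi
  have : f i ≤ Finset.univ.sup f := Finset.le_sup (Finset.mem_univ i)
  have h2 := (derivedSeries_antitone (G i) this) (hx i hi)
  rw [hf i] at h2
  exact h2

end Cfsg.Agent.Helper12.OT
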