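import Cfsg.Agent.Lib.Helper12.OTSL3

set_option autoImplicit false

namespace Cfsg.Agent.Helper12.OT

open Matrix

set_option maxRecDepth 100000 in
theorem sl3cnt_1 : sl3cnt (fun M => M ^ 1 = 1) = 1 := by decide +kernel
set_option maxRecDepth 100000 in
theorem sl3cnt_2 : sl3cnt (fun M => M ^ 2 = 1) = 22 := by decide +kernel
set_option maxRecDepth 100000 in
theorem sl3cnt_3 : sl3cnt (fun M => M ^ 3 = 1) = 57 := by decide +kernel
set_option maxRecDepth 100000 in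
theorem sl3cnt_4 : sl3cnt (fun M => (M ^ 2) ^ 2 = 1) = 64 := by decide +kernel
set_option maxRecDepth 100000 in
theorem sl3cnt_6 : sl3cnt (fun M => (M ^ 2) ^ 3 = 1) = 78 := by decide +kernel
set_option maxRecDepth 100000 in
theorem sl3cnt_7 : sl3cnt (fun M => M ^ 7 = 1) = 49 := by decide +kernel

theorem pc_SL3_1 : pc SL3 1 = 1 := by rw [pc_SL3, sl3cnt_1]
theorem pc_SL3_2 : pc SL3 2 = 22 := by rw [pc_SL3, sl3cnt_2]
theorem pc_SL3_3 : pc SL3 3 = 57 := by rw [pc_SL3, sl3cnt_3]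
theorem pc_SL3_4 : pc SL3 4 = 64 := by
  rw [pc_SL3, sl3cnt_congr _ (fun M => (M ^ 2) ^ 2 = 1) (fun M => by rw [← pow_mul]), sl3cnt_4]
theorem pc_SL3_6 : pc SL3 6 = 78 := by
  rw [pc_SL3, sl3cnt_congr _ (fun M => (M ^ 2) ^ 3 = 1) (fun M => by rw [← pow_mul]), sl3cnt_6]
theorem pc_SL3_7 : pc SL3 7 = 49 := by rw [pc_SL3, sl3cnt_7]

end Cfsg.Agent.Helper12.OT
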