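import Cfsg.Agent.Lib.Helper12.OTSL3

set_option autoImplicit false

namespace Cfsg.Agent.Helper12.OT

open Matrix

set_option maxRecDepth 100000 in
theorem sl3cnt_12 : sl3cnt (fun M => ((M ^ 2) ^ 2) ^ 3 = 1) = 120 := by decide +kernel
set_option maxRecDepth 100000 in
theorem sl3cnt_14 : sl3cnt (fun M => (M ^ 7) ^ 2 = 1) = 70 := by decide +kernel
set_option maxRecDepth 100000 in
theorem sl3cnt_21 : sl3cnt (fun M => (M ^ 7) ^ 3 = 1) = 105 := by decide +kernel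

theorem pc_SL3_12 : pc SL3 12 = 120 := by
  rw [pc_SL3, sl3cnt_congr _ (fun M => ((M ^ 2) ^ 2) ^ 3 = 1)
    (fun M => by rw [← pow_mul, ← pow_mul]), sl3cnt_12]
theorem pc_SL3_14 : pc SL3 14 = 70 := by
  rw [pc_SL3, sl3cnt_congr _ (fun M => (M ^ 7) ^ 2 = 1) (fun M => by rw [← pow_mul]), sl3cnt_14]
theorem pc_SL3_21 : pc SL3 21 = 105 := by
  rw [pc_SL3, sl3cnt_congr _ (fun M => (M ^ 7) ^ 3 = 1) (fun M => by rw [← pow_mul]), sl3cnt_21]

end Cfsg.Agent.Helper12.OT
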