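import Cfsg.Agent.Lib.Helper12.OTSL3

set_option autoImplicit false

namespace Cfsg.Agent.Helper12.OT

open Matrix

set_option maxRecDepth 100000 in
theorem sl3cnt_28 : sl3cnt (fun M => ((M ^ 7) ^ 2) ^ 2 = 1) = 112 := by decide +kernel
set_option maxRecDepth 100000 in
theorem sl3cnt_42 : sl3cnt (fun M => ((M ^ 7) ^ 2) ^ 3 = 1) = 126 := by decide +kernel
set_option maxRecDepth 100000 in
theorem sl3cnt_84 : sl3cnt (fun M => (((M ^ 7) ^ 2) ^ 2) ^ 3 = 1) = 168 := by decide +kernel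
set_option maxRecDepth 100000 in
theorem sl3cnt_0 : sl3cnt (fun _ => True) = 168 := by decide +kernel

theorem pc_SL3_28 : pc SL3 28 = 112 := by
  rw [pc_SL3, sl3cnt_congr _ (fun M => ((M ^ 7) ^ 2) ^ 2 = 1)
    (fun M => by rw [← pow_mul, ← pow_mul]), sl3cnt_28]
theorem pc_SL3_42 : pc SL3 42 = 126 := by
  rw [pc_SL3, sl3cnt_congr _ (fun M => ((M ^ 7) ^ 2) ^ 3 = 1)
    (fun M => by rw [← pow_mul, ← pow_mul]), sl3cnt_42]
theorem pc_SL3_84 : pc SL3 84 = 168 := by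
  rw [pc_SL3, sl3cnt_congr _ (fun M => (((M ^ 7) ^ 2) ^ 2) ^ 3 = 1)
    (fun M => by rw [← pow_mul, ← pow_mul, ← pow_mul]), sl3cnt_84]
theorem card_SL3 : Nat.card SL3 = 168 := by
  rw [← pc_zero, pc_SL3, sl3cnt_congr _ (fun _ => True) (fun M => by simp), sl3cnt_0]

end Cfsg.Agent.Helper12.OT
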