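import Cfsg.Agent.Lib.Helper12.OTSign
import Cfsg.Agent.Lib.Helper12.OTSL3a
import Cfsg.Agent.Lib.Helper12.OTSL3b
import Cfsg.Agent.Lib.Helper12.OTSL3c
import Cfsg.Agent.Lib.Helper12.OTAGLa
import Cfsg.Agent.Lib.Helper12.OTAGLb
import Cfsg.Agent.Lib.Helper12.OTAGLc

set_option autoImplicit false

namespace Cfsg.Agent.Helper12.OT

open Finset

/-- block data from a list of `(modulus - 1, character)` pairs -/
def mkB (l : List (ℕ × Fin 4)) : BlkData :=
  ⟨l.length, fun i => (l.get i).1, fun i => (l.get i).2⟩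

/-- sign blocks on the non-solvable side -/
def hB : Fin 10 → BlkData :=
  ![mkB [(3, 1), (6, 2), (6, 2), (6, 3)],
    mkB [(2, 1), (2, 1), (6, 2), (6, 3)],
    mkB [(2, 1), (2, 2), (3, 0), (6, 3)],
    mkB [(3, 1), (3, 2), (6, 3)],
    mkB [(3, 1), (6, 1)],
    mkB [(2, 0), (2, 1), (2, 1), (3, 1)],
    mkB [(2, 1), (3, 1)],
    mkB [(3, 1), (3, 1)],
    mkB [(2, 1), (3, 2)],
    mkB []]

/-- multiplicities on the non-solvable side -/
def hE : Fin 10 → ℕ := ![1, 1, 1, 1, 3, 1, 2, 1, 3, 3]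

/-- sign blocks on the solvable side -/
def gB : Fin 10 → BlkData :=
  ![mkB [(2, 1), (2, 2), (3, 1), (3, 2), (6, 3)],
    mkB [(2, 1), (2, 1), (2, 2), (3, 3), (3, 3)],
    mkB [(3, 1), (3, 1), (3, 1), (6, 1)],
    mkB [(2, 1), (3, 1), (3, 1), (3, 1)],
    mkB [(2, 1), (3, 0), (6, 1)],
    mkB [(3, 1), (6, 2), (6, 3)],
    mkB [(2, 1), (3, 2), (6, 3)],
    mkB [(2, 1), (6, 2), (6, 2)],
    mkB [(2, 1), (2, 1), (6, 1)],
    mkB [(3, 1)]]

/-- multiplicities on the solvable side -/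
def gE : Fin 10 → ℕ := ![1, 1, 1, 1, 1, 1, 2, 1, 1, 4]

/-- the non-solvable group -/
abbrev Hgrp : Type := SL3 × (∀ k : Fin 10, Fin (hE k) → Blk (hB k))

/-- the solvable group -/
abbrev Ggrp : Type := AGL × (∀ k : Fin 10, Fin (gE k) → Blk (gB k))

/-- table of power counts of `SL₃(𝔽₂)` -/
def sl3F : ℕ → ℕ
  | 0 => 168 | 1 => 1 | 2 => 22 | 3 => 57 | 4 => 64 | 6 => 78 | 7 => 49 | 12 => 120
  | 14 => 70 | 21 => 105 | 28 => 112 | 42 => 126 | 84 => 168 | _ => 0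

/-- table of power counts of `AΓL₁(8)` -/
def aglF : ℕ → ℕ
  | 0 => 168 | 1 => 1 | 2 => 8 | 3 => 57 | 4 => 8 | 6 => 120 | 7 => 49 | 12 => 120
  | 14 => 56 | 21 => 105 | 28 => 56 | 42 => 168 | 84 => 168 | _ => 0

/-- the exponents that matter -/
def expS : List ℕ := [0, 1, 2, 3, 4, 6, 7, 12, 14, 21, 28, 42, 84]

theorem pc_SL3_tab : ∀ d ∈ expS, pc SL3 d = sl3F d := by
  intro d hd
  simp only [expS, List.mem_cons, List.not_mem_nil, or_false] at hd
  rcases hd with rfl | rfl | rfl | rfl | rfl | rfl | rfl | rfl | rfl | rfl | rfl | rfl | rfl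
  · rw [pc_zero]; exact card_SL3
  · exact pc_SL3_1
  · exact pc_SL3_2
  · exact pc_SL3_3
  · exact pc_SL3_4
  · exact pc_SL3_6
  · exact pc_SL3_7
  · exact pc_SL3_12
  · exact pc_SL3_14
  · exact pc_SL3_21
  · exact pc_SL3_28
  · exact pc_SL3_42
  · exact pc_SL3_84

theorem pc_AGL_tab : ∀ d ∈ expS, pc AGL d = aglF d := by
  intro d hd
  simp only [expS, List.mem_cons, List.not_mem_nil, or_false] at hd
  rcases hd with rfl | rfl | rfl | rfl | rfl | rfl | rfl | rfl | rfl | rfl | rfl | rfl | rfl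
  · rw [pc_zero]; exact card_AGL
  · exact pc_AGL_1
  · exact pc_AGL_2
  · exact pc_AGL_3
  · exact pc_AGL_4
  · exact pc_AGL_6
  · exact pc_AGL_7
  · exact pc_AGL_12
  · exact pc_AGL_14
  · exact pc_AGL_21
  · exact pc_AGL_28
  · exact pc_AGL_42
  · exact pc_AGL_84

theorem pc_Hgrp (n : ℕ) : pc Hgrp n = pc SL3 n * ∏ k, blkF (hB k) n ^ hE k := by
  rw [pc_prod, pc_pi]
  congr 1
  refine Finset.prod_congr rfl fun k _ => ?_
  rw [pc_pow, pc_blk]

theorem pc_Ggrp (n : ℕ) : pc Ggrp n = pc AGL n * ∏ k, blkF (gB k) n ^ gE k := by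
  rw [pc_prod, pc_pi]
  congr 1
  refine Finset.prod_congr rfl fun k _ => ?_
  rw [pc_pow, pc_blk]

set_option maxRecDepth 100000 in
theorem num_eq : ∀ d ∈ expS,
    sl3F d * ∏ k, blkF (hB k) d ^ hE k = aglF d * ∏ k, blkF (gB k) d ^ gE k := by
  decide +kernel

set_option maxRecDepth 100000 in
theorem num_expH : sl3F 84 * ∏ k, blkF (hB k) 84 ^ hE k = sl3F 0 * ∏ k, blkF (hB k) 0 ^ hE k := by
  decide +kernel

set_option maxRecDepth 100000 in
theorem num_expG : aglF 84 * ∏ k, blkF (gB k) 84 ^ gE k = aglF 0 * ∏ k, blkF (gB k) 0 ^ gE k := by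
  decide +kernel

theorem mem_expS_of_dvd : ∀ d, d ∣ 84 → d ∈ expS := by
  intro d hd
  have hle : d ≤ 84 := Nat.le_of_dvd (by norm_num) hd
  revert hd
  revert d
  decide

theorem pc_eq_on_expS (d : ℕ) (hd : d ∈ expS) : pc Hgrp d = pc Ggrp d := by
  rw [pc_Hgrp, pc_Ggrp, pc_SL3_tab d hd, pc_AGL_tab d hd]
  exact num_eq d hd

theorem pow84_H (h : Hgrp) : h ^ 84 = 1 := by
  apply pow_eq_one_of_pc_eq_card
  rw [← pc_zero, pc_Hgrp, pc_Hgrp, pc_SL3_tab 84 (by decide), pc_SL3_tab 0 (by decide)]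
  exact num_expH

theorem pow84_G (g : Ggrp) : g ^ 84 = 1 := by
  apply pow_eq_one_of_pc_eq_card
  rw [← pc_zero, pc_Ggrp, pc_Ggrp, pc_AGL_tab 84 (by decide), pc_AGL_tab 0 (by decide)]
  exact num_expG

theorem pc_eq (n : ℕ) : pc Hgrp n = pc Ggrp n := by
  rw [pc_gcd 84 pow84_H, pc_gcd 84 pow84_G]
  exact pc_eq_on_expS _ (mem_expS_of_dvd _ (Nat.gcd_dvd_right n 84))

theorem Ggrp_isSolvable : Group.IsSolvable Ggrp := by
  have h1 : ∀ k : Fin 10, Group.IsSolvable (Fin (gE k) → Blk (gB k)) := fun k => isSolvable_pi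
  have h2 : Group.IsSolvable (∀ k : Fin 10, Fin (gE k) → Blk (gB k)) := isSolvable_pi
  infer_instance

theorem Hgrp_not_isSolvable : ¬ Group.IsSolvable Hgrp := by
  intro h
  have hs : Function.Surjective
      (MonoidHom.fst SL3 (∀ k : Fin 10, Fin (hE k) → Blk (hB k))) := fun x => ⟨(x, 1), rfl⟩
  exact SL3_not_isSolvable (Group.isSolvable_of_surjective hs)

theorem main_orderType (n : ℕ) :
    Nat.card {g : Ggrp // orderOf g = n} = Nat.card {h : Hgrp // orderOf h = n} :=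
  ordCount_eq_of_pc_eq (fun n => (pc_eq n).symm) n

end Cfsg.Agent.Helper12.OT
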