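import Cfsg.Agent.Lib.Helper12.OTBase

set_option autoImplicit false

namespace Cfsg.Agent.Helper12.OT

open Matrix
open scoped commutatorElement

/-- `SL₃(𝔽₂)`, the simple group of order 168 -/
abbrev SL3 : Type := Matrix.SpecialLinearGroup (Fin 3) (ZMod 2)

theorem SL3_transvection_eq_comm :
    ∀ (i j k : Fin 3) (hij : i ≠ j) (hki : k ≠ i) (hkj : k ≠ j),
      (SpecialLinearGroup.transvection hij (1 : ZMod 2) : SL3) =
        ⁅(SpecialLinearGroup.transvection hki.symm (1 : ZMod 2) : SL3),
          (SpecialLinearGroup.transvection hkj (1 : ZMod 2) : SL3)⁆ := by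
  decide +kernel

theorem SL3_transvection_mem (i j : Fin 3) (hij : i ≠ j) (a : ZMod 2) :
    (SpecialLinearGroup.transvection hij a : SL3) ∈ commutator SL3 := by
  have ha : a = 0 ∨ a = 1 := by revert a; decide
  rcases ha with rfl | rfl
  · rw [SpecialLinearGroup.transvection_coeff_zero]; exact one_mem _
  · obtain ⟨k, hki, hkj⟩ : ∃ k : Fin 3, k ≠ i ∧ k ≠ j := by revert i j; decide
    rw [SL3_transvection_eq_comm i j k hij hki hkj]
    exact Subgroup.commutator_mem_commutator (H₁ := (⊤ : Subgroup SL3)) (H₂ := ⊤)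
      (Subgroup.mem_top _) (Subgroup.mem_top _)

theorem SL3_commutator_eq_top : commutator SL3 = ⊤ := by
  refine le_antisymm le_top fun A _ => ?_
  refine SpecialLinearGroup.diagonal_transvection_induction' (fun A => A ∈ commutator SL3) A
    ?_ (fun i j hij a => SL3_transvection_mem i j hij a) (fun _ _ => mul_mem)
  intro i j hij c hc
  have hc1 : c = 1 := by revert c; decide
  subst hc1
  have : SpecialLinearGroup.diag2n hij (1 : ZMod 2) hc = 1 := by
    apply Subtype.ext
    rw [SpecialLinearGroup.diag2n_coe]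
    ext a b
    simp [Matrix.diagonal_apply, Matrix.one_apply]
  rw [this]
  exact one_mem _

theorem SL3_not_isSolvable : ¬ Group.IsSolvable SL3 := by
  intro h
  have hnt : Nontrivial SL3 := by
    refine ⟨⟨SpecialLinearGroup.transvection (show (0 : Fin 3) ≠ 1 by decide) 1, 1, ?_⟩⟩
    decide +kernel
  have := Group.IsSolvable.commutator_lt_top_of_nontrivial (G := SL3)
  rw [SL3_commutator_eq_top] at this
  exact lt_irrefl _ this

/-- matrix-level count -/
def sl3cnt (P : Matrix (Fin 3) (Fin 3) (ZMod 2) → Prop) [DecidablePred P] : ℕ :=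
  (Finset.univ.filter (fun M : Matrix (Fin 3) (Fin 3) (ZMod 2) => M.det = 1 ∧ P M)).card

theorem SL3_pow_eq_one_iff (g : SL3) (n : ℕ) :
    g ^ n = 1 ↔ (g : Matrix (Fin 3) (Fin 3) (ZMod 2)) ^ n = 1 := by
  constructor
  · intro h
    rw [← Matrix.SpecialLinearGroup.coe_pow, h, Matrix.SpecialLinearGroup.coe_one]
  · intro h
    apply Matrix.SpecialLinearGroup.ext
    intro i j
    rw [Matrix.SpecialLinearGroup.coe_pow, h, Matrix.SpecialLinearGroup.coe_one]

theorem pc_SL3 (n : ℕ) : pc SL3 n = sl3cnt (fun M => M ^ n = 1) := by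
  unfold pc sl3cnt
  rw [Nat.card_congr (Equiv.subtypeEquivRight (SL3_pow_eq_one_iff · n)),
    Nat.card_eq_fintype_card, ← Fintype.card_subtype]
  exact Fintype.card_congr
    (Equiv.subtypeSubtypeEquivSubtypeInter (fun M : Matrix (Fin 3) (Fin 3) (ZMod 2) => M.det = 1)
      (fun M => M ^ n = 1))

theorem sl3cnt_congr (P Q : Matrix (Fin 3) (Fin 3) (ZMod 2) → Prop) [DecidablePred P]
    [DecidablePred Q] (h : ∀ M, P M ↔ Q M) : sl3cnt P = sl3cnt Q := by
  unfold sl3cnt
  congr 1
  refine Finset.filter_congr fun M _ => ?_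
  rw [h M]

end Cfsg.Agent.Helper12.OT
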