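import Cfsg.Agent.Lib.Helper12.OTBase

set_option autoImplicit false

namespace Cfsg.Agent.Helper12.OT

open Finset

section fiber

variable {ι : Type} {D : ι → Type} [∀ i, Group (D i)] {Q T : Type} [Group Q] [Group T]

/-- fibre product of the `D i` with `Q` over the maps to `T` -/
def fiberSub (π : ∀ i, D i →* T) (χ : ι → (Q →* T)) : Subgroup ((∀ i : ι, D i) × Q) where
  carrier := {p | ∀ i, π i (p.1 i) = χ i p.2}
  mul_mem' := by
    intro a b ha hb i
    have ha' := ha i
    have hb' := hb i
    simp [ha', hb']
  one_mem' := by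
    intro i
    simp
  inv_mem' := by
    intro a ha i
    have ha' := ha i
    simp [ha']

theorem mem_fiberSub (π : ∀ i, D i →* T) (χ : ι → (Q →* T)) (p : (∀ i : ι, D i) × Q) :
    p ∈ fiberSub π χ ↔ ∀ i, π i (p.1 i) = χ i p.2 := Iff.rfl

theorem pc_fiberSub [Fintype ι] [∀ i, Finite (D i)] [Fintype Q] [DecidableEq Q]
    (π : ∀ i, D i →* T) (χ : ι → (Q →* T)) (n : ℕ) :
    pc (fiberSub π χ) n =
      ∑ x : Q, if x ^ n = 1 then ∏ i, Nat.card {d : D i // π i d = χ i x ∧ d ^ n = 1} else 0 := by
  classical
  rw [← Finset.sum_filter, Finset.sum_subtype (p := fun x : Q => x ^ n = 1) _ (by simp)]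
  unfold pc
  rw [← Finset.sum_congr rfl (fun x _ => Nat.card_pi), ← Nat.card_sigma]
  refine Nat.card_congr ?_
  exact
    { toFun := fun g => ⟨⟨g.1.1.2, by
          have h2 := g.2
          rw [Subtype.ext_iff] at h2
          have h3 : (g.1.1) ^ n = 1 := by simpa using h2
          have h5 := congrArg Prod.snd h3
          simpa using h5⟩, fun i => ⟨g.1.1.1 i, by
        have h1 := g.1.2
        have h2 := g.2
        rw [Subtype.ext_iff] at h2
        have h3 : (g.1.1) ^ n = 1 := by simpa using h2
        have h4 := congrArg Prod.fst h3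
        refine ⟨h1 i, ?_⟩
        have := congrFun h4 i
        simpa using this⟩⟩
      invFun := fun s => ⟨⟨(fun i => (s.2 i).1, s.1.1), fun i => (s.2 i).2.1⟩, by
        rw [Subtype.ext_iff]
        show ((fun i => (s.2 i).1, s.1.1) : (∀ i, D i) × Q) ^ n = 1
        ext
        · rename_i i
          simpa using (s.2 i).2.2
        · simpa using s.1.2⟩
      left_inv := fun g => rfl
      right_inv := fun s => rfl }

end fiber

end Cfsg.Agent.Helper12.OT

namespace Cfsg.Agent.Helper12.OT

open Finset

/-- the sign hom of the dihedral group -/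
def dsign (m : ℕ) : DihedralGroup m →* Multiplicative (ZMod 2) where
  toFun d := match d with
    | .r _ => 1
    | .sr _ => Multiplicative.ofAdd 1
  map_one' := rfl
  map_mul' := by
    rintro (a | a) (b | b) <;> simp [DihedralGroup.r_mul_r, DihedralGroup.r_mul_sr,
      DihedralGroup.sr_mul_r, DihedralGroup.sr_mul_sr] <;> decide

@[simp] theorem dsign_r (m : ℕ) (i : ZMod m) : dsign m (.r i) = 1 := rfl
@[simp] theorem dsign_sr (m : ℕ) (i : ZMod m) : dsign m (.sr i) = Multiplicative.ofAdd 1 := rfl

theorem sr_pow_eq_one_iff (m : ℕ) (i : ZMod m) (n : ℕ) :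
    (DihedralGroup.sr i) ^ n = 1 ↔ n % 2 = 0 := by
  rw [← orderOf_dvd_iff_pow_eq_one, DihedralGroup.orderOf_sr]
  omega

/-- closed form of the coordinate count -/
def dcf (m : ℕ) (w : Multiplicative (ZMod 2)) (n : ℕ) : ℕ :=
  if w = 1 then Nat.gcd (m + 1) n else if n % 2 = 0 then m + 1 else 0

theorem dcount_eq (m : ℕ) (w : Multiplicative (ZMod 2)) (n : ℕ) :
    Nat.card {d : DihedralGroup (m + 1) // dsign (m + 1) d = w ∧ d ^ n = 1} = dcf m w n := by
  have hw : w = 1 ∨ w = Multiplicative.ofAdd 1 := by
    revert w; decide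
  rcases hw with rfl | rfl
  · -- rotations
    have h1 : Nat.card {d : DihedralGroup (m + 1) // dsign (m + 1) d = 1 ∧ d ^ n = 1}
        = Nat.card (nsmulAddMonoidHom n : ZMod (m + 1) →+ ZMod (m + 1)).ker := by
      refine Nat.card_congr ?_
      exact
        { toFun := fun d => match d with
            | ⟨.r i, h⟩ => ⟨i, by
                have := h.2
                rw [DihedralGroup.r_pow, DihedralGroup.one_def] at this
                have h' : i * (n : ZMod (m + 1)) = 0 := DihedralGroup.r.inj this
                rw [AddMonoidHom.mem_ker, nsmulAddMonoidHom_apply, nsmul_eq_mul, mul_comm]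
                exact h'⟩
            | ⟨.sr i, h⟩ => absurd h.1 (by simp)
          invFun := fun i => ⟨.r i.1, by
            refine ⟨rfl, ?_⟩
            have := i.2
            rw [AddMonoidHom.mem_ker, nsmulAddMonoidHom_apply, nsmul_eq_mul, mul_comm] at this
            rw [DihedralGroup.r_pow, this, DihedralGroup.r_zero]⟩
          left_inv := by
            rintro ⟨(i | i), h⟩
            · rfl
            · exact absurd h.1 (by simp)
          right_inv := fun i => rfl }
    rw [h1, IsAddCyclic.card_nsmulAddMonoidHom_ker, Nat.card_zmod]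
    simp [dcf]
  · -- reflections
    have hne : (Multiplicative.ofAdd (1 : ZMod 2)) ≠ 1 := by decide
    by_cases hn : n % 2 = 0
    · have h1 : Nat.card {d : DihedralGroup (m + 1) //
          dsign (m + 1) d = Multiplicative.ofAdd 1 ∧ d ^ n = 1} = Nat.card (ZMod (m + 1)) := by
        refine Nat.card_congr ?_
        exact
          { toFun := fun d => match d with
              | ⟨.r i, h⟩ => absurd h.1 (by simp; exact hne.symm)
              | ⟨.sr i, _⟩ => i
            invFun := fun i => ⟨.sr i, rfl, (sr_pow_eq_one_iff _ i n).mpr hn⟩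
            left_inv := by
              rintro ⟨(i | i), h⟩
              · exact absurd h.1 (by simp; exact hne.symm)
              · rfl
            right_inv := fun i => rfl }
      rw [h1, Nat.card_zmod]
      simp [dcf, hne, hn]
    · have : IsEmpty {d : DihedralGroup (m + 1) //
          dsign (m + 1) d = Multiplicative.ofAdd 1 ∧ d ^ n = 1} := by
        constructor
        rintro ⟨(i | i), h⟩
        · exact absurd h.1 (by simp; exact hne.symm)
        · exact hn ((sr_pow_eq_one_iff _ i n).mp h.2)
      rw [Nat.card_of_isEmpty]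
      simp [dcf, hne, hn]

end Cfsg.Agent.Helper12.OT

namespace Cfsg.Agent.Helper12.OT

open Finset

instance dihedral_isSolvable (m : ℕ) : Group.IsSolvable (DihedralGroup m) := by
  refine Group.isSolvable_of_ker_le_range (dsign m).ker.subtype (dsign m) (by simp) (hG' := ?_)
  refine Group.isSolvable_of_comm ?_
  rintro ⟨a, ha⟩ ⟨b, hb⟩
  rw [MonoidHom.mem_ker] at ha hb
  rcases a with a | a
  · rcases b with b | b
    · ext
      simp [DihedralGroup.r_mul_r, add_comm]
    · exact absurd hb (by simp)
  · exact absurd ha (by simp)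

/-- the Klein four group -/
abbrev V4 : Type := Multiplicative (ZMod 2) × Multiplicative (ZMod 2)

/-- the four characters of `V4` -/
def chi (c : Fin 4) : V4 →* Multiplicative (ZMod 2) :=
  match c with
  | 0 => 1
  | 1 => MonoidHom.fst _ _
  | 2 => MonoidHom.snd _ _
  | 3 => MonoidHom.fst _ _ * MonoidHom.snd _ _

/-- data of a sign block: coordinates `(m i + 1, c i)` -/
structure BlkData where
  /-- number of coordinates -/
  k : ℕ
  /-- moduli minus one -/
  m : Fin k → ℕ
  /-- characters -/
  c : Fin k → Fin 4

/-- the sign block as a subgroup of a product of dihedral groups and `V4` -/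
abbrev Blk (b : BlkData) : Type :=
  fiberSub (ι := Fin b.k) (D := fun i => DihedralGroup (b.m i + 1)) (Q := V4)
    (fun i => dsign (b.m i + 1)) (fun i => chi (b.c i))

/-- the closed formula for the power count of a sign block -/
def blkF (b : BlkData) (n : ℕ) : ℕ :=
  ∑ x : V4, if x ^ n = 1 then ∏ i, dcf (b.m i) (chi (b.c i) x) n else 0

theorem pc_blk (b : BlkData) (n : ℕ) : pc (Blk b) n = blkF b n := by
  unfold Blk blkF
  rw [pc_fiberSub]
  refine Finset.sum_congr rfl fun x _ => ?_
  split_ifs with h
  · refine Finset.prod_congr rfl fun i _ => ?_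
    exact dcount_eq _ _ _
  · rfl

instance blk_isSolvable (b : BlkData) : Group.IsSolvable (Blk b) := by
  haveI : Group.IsSolvable (∀ i : Fin b.k, DihedralGroup (b.m i + 1)) := isSolvable_pi
  infer_instance

instance blk_finite (b : BlkData) : Finite (Blk b) := by
  infer_instance

end Cfsg.Agent.Helper12.OT
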