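import Mathlib
import Cfsg.Agent.Lib.Helper12.Ord5460Syl
import Cfsg.Agent.Lib.Helper10.BrSieve
import Cfsg.Agent.Lib.Helper25.BR996PERF
import Cfsg.Agent.Lib.Helper24.GlaubPGroup
import Cfsg.Agent.Lib.Helper23.BlockIdem
import Cfsg.Agent.S4441

/-!
# No simple group of order 5460 (helper12)

`|G| = 5460 = 2²·3·5·7·13`.  The Sylow part (`Ord5460Syl`) gives `|N(P₇)| = 21`, `C(P₇) = P₇` and
`|N(P₁₃)| = 52`, `|C(P₁₃)| ∈ {13, 26}`.  Brauer's theorem at `p = 7` shows that at most `5` irreducible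
characters have degree prime to `7`.  If `|C(P₁₃)| = 26`, S4441 gives six irreducible characters of
degree `15`; if `C(P₁₃) = P₁₃`, Brauer's theorem at `p = 13` gives the degrees `1, 12, 12, 12, 35, 35, 35`
and all the other degrees are `13` or `26`, with squares summing to `1352`: at most one of them.
-/

set_option autoImplicit false
set_option linter.unreachableTactic false
set_option linter.unusedTactic false
set_option linter.unusedVariables false
open Cfsg

namespace Cfsg.Agent.Helper3.SmallOrd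

namespace O5460

open Cfsg.Agent.Helper24 Cfsg.Agent.Helper10

universe u

variable {G : Type u} [Group G] [Fintype G] [Fintype (IrrCharacter G)]

/-- the divisors of `5460` whose square is at most `5460` -/
theorem small_divisor {d : ℕ} (hd : d ∣ 5460) (hle : d ^ 2 ≤ 5460) :
    d = 1 ∨ d = 2 ∨ d = 3 ∨ d = 4 ∨ d = 5 ∨ d = 6 ∨ d = 7 ∨ d = 10 ∨ d = 12 ∨ d = 13 ∨ d = 14 ∨
      d = 15 ∨ d = 20 ∨ d = 21 ∨ d = 26 ∨ d = 28 ∨ d = 30 ∨ d = 35 ∨ d = 39 ∨ d = 42 ∨ d = 52 ∨
      d = 60 ∨ d = 65 ∨ d = 70 := by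
  have h73 : d ≤ 73 := by nlinarith
  have hmem : d ∈ Nat.divisors 5460 := Nat.mem_divisors.2 ⟨hd, by norm_num⟩
  simp only [Nat.divisors_ofNat] at hmem
  simp only [Finset.mem_insert, Finset.mem_singleton] at hmem
  omega

/-- Brauer at `p = 7`: at most five irreducible characters have degree prime to `7` -/
theorem seven (hperf : commutator G = ⊤) (P7 : Sylow 7 G)
    (hP7 : Nat.card (P7 : Subgroup G) = 7)
    (hC7 : Subgroup.centralizer ((P7 : Subgroup G) : Set G) = (P7 : Subgroup G))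
    (hk7 : (Subgroup.centralizer ((P7 : Subgroup G) : Set G)).relIndex
      (Subgroup.normalizer ((P7 : Subgroup G) : Set G)) = 3) :
    ∃ S : Finset (IrrCharacter G), S.card ≤ 5 ∧
      ∀ χ : IrrCharacter G, ¬ 7 ∣ charDegree (χ : G → ℂ) → χ ∈ S := by
  classical
  haveI : Fact (Nat.Prime 7) := ⟨by norm_num⟩
  rw [hC7] at hk7
  obtain ⟨X, Y, sg, d0, y, a, hdisj, hcX, hcY, hone, hsg1, hsg, hd0, hwX, hwY, hwD, heq⟩ :=
    BrSieve.core 7 (P7 : Subgroup G) hperf hP7 (le_of_eq hC7) 3 2 hk7 (by norm_num) (by norm_num)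
  refine ⟨X ∪ Y, ?_, ?_⟩
  · calc (X ∪ Y).card ≤ X.card + Y.card := Finset.card_union_le X Y
      _ = 5 := by rw [hcX, hcY]
  · intro χ hχ
    by_contra hmem
    rw [Finset.mem_union, not_or] at hmem
    exact hχ ⟨a χ, (hwD χ hmem.1 hmem.2).symm⟩

/-- the case `C(P₁₃) = P₁₃` -/
theorem caseA (h : Nat.card G = 5460) (hperf : commutator G = ⊤) (P13 : Sylow 13 G)
    (hP13 : Nat.card (P13 : Subgroup G) = 13)
    (hC13 : Subgroup.centralizer ((P13 : Subgroup G) : Set G) = (P13 : Subgroup G))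
    (hk13 : (Subgroup.centralizer ((P13 : Subgroup G) : Set G)).relIndex
      (Subgroup.normalizer ((P13 : Subgroup G) : Set G)) = 4)
    (S7 : Finset (IrrCharacter G)) (hS7c : S7.card ≤ 5)
    (hS7 : ∀ χ : IrrCharacter G, ¬ 7 ∣ charDegree (χ : G → ℂ) → χ ∈ S7) : False := by
  classical
  haveI : Fact (Nat.Prime 13) := ⟨by norm_num⟩
  rw [hC13] at hk13
  obtain ⟨X, Y, sg, d0, y, a, hdisj, hcX, hcY, hone, hsg1, hsg, hd0, hwX, hwY, hwD, heq⟩ :=
    BrSieve.core 13 (P13 : Subgroup G) hperf hP13 (le_of_eq hC13) 4 3 hk13 (by norm_num)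
      (by norm_num)
  have hsq := sum_charDegree_sq (G := G)
  rw [h] at hsq
  have hdvd : ∀ χ : IrrCharacter G, charDegree (χ : G → ℂ) ∣ 5460 := fun χ => by
    rw [← h]; exact charDegree_dvd_card χ.2
  have hle : ∀ χ : IrrCharacter G, charDegree (χ : G → ℂ) ^ 2 ≤ 5460 := fun χ => by
    rw [← hsq]
    exact Finset.single_le_sum (f := fun c : IrrCharacter G => charDegree (c : G → ℂ) ^ 2)
      (fun _ _ => Nat.zero_le _) (Finset.mem_univ χ)
  -- the nonprincipal members of `X`
  have key : ∀ c ∈ X, c ≠ principalChar G →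
      (charDegree (c : G → ℂ) = 12 ∧ sg c = -1) ∨ (charDegree (c : G → ℂ) = 14 ∧ sg c = 1) := by
    intro c hc hne
    have h1 := hwX c hc
    have h2 := hsg c hc
    have h3 := small_divisor (hdvd c) (hle c)
    have hne1 : charDegree (c : G → ℂ) ≠ 1 := fun h1 =>
      hne (Cfsg.Agent.Helper10.BR996.eq_principal_of_degree_one hperf c h1)
    push_cast at h1
    rcases h2 with h2 | h2 <;> rw [h2] at h1 ⊢ <;> omega
  have hX' : (X.erase (principalChar G)).card = 3 := by
    rw [Finset.card_erase_of_mem hone, hcX]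
  obtain ⟨c1, c2, c3, h12, h13, h23, hXe⟩ := Finset.card_eq_three.1 hX'
  have hmem : ∀ c, c ∈ ({c1, c2, c3} : Finset (IrrCharacter G)) → c ∈ X ∧ c ≠ principalChar G := by
    intro c hc
    rw [← hXe, Finset.mem_erase] at hc
    exact ⟨hc.2, hc.1⟩
  have hc1 := hmem c1 (by simp)
  have hc2 := hmem c2 (by simp)
  have hc3 := hmem c3 (by simp)
  have hXeq : X = insert (principalChar G) ({c1, c2, c3} : Finset (IrrCharacter G)) := by
    rw [← hXe, Finset.insert_erase hone]
  have hnot : principalChar G ∉ ({c1, c2, c3} : Finset (IrrCharacter G)) := by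
    rw [← hXe]
    exact Finset.notMem_erase _ _
  -- the exceptional degree
  obtain ⟨θ, hθ⟩ : Y.Nonempty := by
    rw [← Finset.card_pos, hcY]; norm_num
  obtain ⟨hθy, hθa⟩ := hwY θ hθ
  have hydvd : y ∣ 5460 := hθy ▸ hdvd θ
  have hsplit := BR996.Asm.sum_split X Y hdisj
    (fun c : IrrCharacter G => charDegree (c : G → ℂ) ^ 2)
  rw [hsq] at hsplit
  have hsumY : ∑ c ∈ Y, charDegree (c : G → ℂ) ^ 2 = 3 * y ^ 2 := by
    rw [Finset.sum_congr rfl (fun c hc => by rw [(hwY c hc).1]), Finset.sum_const, hcY]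
    simp
  have hy2 : y ^ 2 ≤ 5460 := by
    have : 3 * y ^ 2 ≤ 5460 := by
      rw [← hsumY, hsplit]
      omega
    omega
  have hy3 : 3 * y ^ 2 ≤ 5460 := by
    rw [← hsumY, hsplit]
    omega
  have hycases := small_divisor hydvd hy2
  -- the degree equation
  have hsumX : ∑ c ∈ X, sg c * (charDegree (c : G → ℂ) : ℤ) =
      1 + sg c1 * (charDegree (c1 : G → ℂ) : ℤ) + sg c2 * (charDegree (c2 : G → ℂ) : ℤ) +
        sg c3 * (charDegree (c3 : G → ℂ) : ℤ) := by
    rw [hXeq, Finset.sum_insert hnot, hsg1, BR996.Asm.charDegree_principal]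
    rw [Finset.sum_insert (by simp [h12, h13]), Finset.sum_insert (by simp [h23]),
      Finset.sum_singleton]
    push_cast
    ring
  rw [hsumX] at heq
  have k1 := key c1 hc1.1 hc1.2
  have k2 := key c2 hc2.1 hc2.2
  have k3 := key c3 hc3.1 hc3.2
  push_cast at hθa
  have hy35 : y = 35 ∧ charDegree (c1 : G → ℂ) = 12 ∧ charDegree (c2 : G → ℂ) = 12 ∧
      charDegree (c3 : G → ℂ) = 12 := by
    have hy42 : y ≤ 42 := by nlinarith
    rcases hd0 with hd | hd <;> rw [hd] at heq hθa <;>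
    rcases k1 with ⟨e1, s1⟩ | ⟨e1, s1⟩ <;> rcases k2 with ⟨e2, s2⟩ | ⟨e2, s2⟩ <;>
    rcases k3 with ⟨e3, s3⟩ | ⟨e3, s3⟩ <;> rw [e1, s1, e2, s2, e3, s3] at heq <;>
    refine ⟨?_, ?_, ?_, ?_⟩ <;> omega
  obtain ⟨hy, e1, e2, e3⟩ := hy35
  -- the squares
  have hsqX : ∑ c ∈ X, charDegree (c : G → ℂ) ^ 2 = 433 := by
    rw [hXeq, Finset.sum_insert hnot, BR996.Asm.charDegree_principal]
    rw [Finset.sum_insert (by simp [h12, h13]), Finset.sum_insert (by simp [h23]),
      Finset.sum_singleton, e1, e2, e3]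
    norm_num
  rw [hsqX, hsumY, hy] at hsplit
  have hrest : ∑ c ∈ (Finset.univ \ X) \ Y, charDegree (c : G → ℂ) ^ 2 = 1352 := by omega
  -- every member of the rest has degree `13` or `26`
  have hR : ∀ c ∈ (Finset.univ \ X) \ Y,
      charDegree (c : G → ℂ) = 13 ∨ charDegree (c : G → ℂ) = 26 := by
    intro c hc
    have hc' := hc
    rw [Finset.mem_sdiff, Finset.mem_sdiff] at hc'
    have h1 := hwD c hc'.1.2 hc'.2
    have h2 : charDegree (c : G → ℂ) ^ 2 ≤ 1352 := by
      rw [← hrest]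
      exact Finset.single_le_sum (f := fun c : IrrCharacter G => charDegree (c : G → ℂ) ^ 2)
        (fun _ _ => Nat.zero_le _) hc
    have h3 := charDegree_pos c.2
    have h4 : a c ≤ 2 := by
      by_contra hcon
      push Not at hcon
      have : 3 ≤ a c := hcon
      have : 39 ≤ charDegree (c : G → ℂ) := by omega
      nlinarith
    have h5 : 1 ≤ a c := by
      rcases Nat.eq_zero_or_pos (a c) with h0 | h0
      · rw [h0] at h1; omega
      · exact h0
    interval_cases (a c) <;> omega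
  -- `X` and the rest lie in `S7`
  have hsub : X ∪ ((Finset.univ \ X) \ Y) ⊆ S7 := by
    intro c hc
    rw [Finset.mem_union] at hc
    apply hS7
    rcases hc with hc | hc
    · rw [hXeq, Finset.mem_insert, Finset.mem_insert, Finset.mem_insert,
        Finset.mem_singleton] at hc
      rcases hc with rfl | rfl | rfl | rfl
      · rw [BR996.Asm.charDegree_principal]; norm_num
      · rw [e1]; norm_num
      · rw [e2]; norm_num
      · rw [e3]; norm_num
    · rcases hR c hc with e | e <;> rw [e] <;> norm_num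
  have hdisj2 : Disjoint X ((Finset.univ \ X) \ Y) := by
    rw [Finset.disjoint_left]
    intro c hc hc2
    rw [Finset.mem_sdiff, Finset.mem_sdiff] at hc2
    exact hc2.1.2 hc
  have hcard := Finset.card_le_card hsub
  rw [Finset.card_union_of_disjoint hdisj2, hcX] at hcard
  have hRc : ((Finset.univ \ X) \ Y).card ≤ 1 := by omega
  have hbound : ∑ c ∈ (Finset.univ \ X) \ Y, charDegree (c : G → ℂ) ^ 2 ≤
      ((Finset.univ \ X) \ Y).card • 676 := by
    apply Finset.sum_le_card_nsmul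
    intro c hc
    rcases hR c hc with e | e <;> rw [e] <;> norm_num
  rw [hrest, smul_eq_mul] at hbound
  omega

/-- the case `|C(P₁₃)| = 26` -/
theorem caseB (h : Nat.card G = 5460) (hperf : commutator G = ⊤) (P13 : Sylow 13 G)
    (hP13 : Nat.card (P13 : Subgroup G) = 13)
    (hk13 : (Subgroup.centralizer ((P13 : Subgroup G) : Set G)).relIndex
      (Subgroup.normalizer ((P13 : Subgroup G) : Set G)) = 2)
    (S7 : Finset (IrrCharacter G)) (hS7c : S7.card ≤ 5)
    (hS7 : ∀ χ : IrrCharacter G, ¬ 7 ∣ charDegree (χ : G → ℂ) → χ ∈ S7) : False := by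
  classical
  haveI : Fact (Nat.Prime 13) := ⟨by norm_num⟩
  obtain ⟨M, hM⟩ := Cfsg.Agent.Helper24.Glaub.exists_isPModular (p := 13) (by norm_num)
  haveI hMp : M.IsPrime := hM.2.1.isPrime
  obtain ⟨X, Y, hB, hdisj, hcX, hcY, εX, ε, hX, hε, hYdeg, hYreg, hYeq⟩ :=
    Cfsg.Agent.S4441.result 13 M hM (by norm_num) P13 hP13 2 hk13
  have hsq := sum_charDegree_sq (G := G)
  rw [h] at hsq
  have hdvd : ∀ χ : IrrCharacter G, charDegree (χ : G → ℂ) ∣ 5460 := fun χ => by
    rw [← h]; exact charDegree_dvd_card χ.2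
  have h1reg : ¬ 13 ∣ orderOf (1 : G) := by
    rw [orderOf_one]; norm_num
  -- `Y` has six members, all of the same degree
  have hcY6 : Y.ncard = 6 := by
    rw [← Nat.card_coe_set_eq, hcY]
  have hYfin : Y.Finite := Set.finite_of_ncard_ne_zero (by rw [hcY6]; norm_num)
  obtain ⟨θ, hθ⟩ : Y.Nonempty := by
    rw [← Set.ncard_pos hYfin, hcY6]; norm_num
  have hYdeq : ∀ θ' ∈ Y, charDegree (θ' : G → ℂ) = charDegree (θ : G → ℂ) := by
    intro θ' hθ'
    have := hYreg θ' hθ' θ hθ 1 h1reg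
    rw [irr_one_eq_charDegree θ'.2, irr_one_eq_charDegree θ.2] at this
    exact_mod_cast this
  set y := charDegree (θ : G → ℂ) with hy
  -- the principal character is in `X`
  have hprinc : principalChar G ∈ principalBlock M G :=
    Cfsg.Agent.Helper23.Blk.mem_blockOf_self (principalChar G)
  rw [hB] at hprinc
  have hpX : principalChar G ∈ X := by
    rcases hprinc with hp | hp
    · exact hp
    · exfalso
      have hy1 : y = 1 := by
        rw [← hYdeq _ hp]
        exact BR996.Asm.charDegree_principal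
      have hsub : Y ⊆ {principalChar G} := by
        intro θ' hθ'
        rw [Set.mem_singleton_iff]
        apply Cfsg.Agent.Helper10.BR996.eq_principal_of_degree_one hperf
        rw [hYdeq θ' hθ', hy1]
      have := Set.ncard_le_ncard hsub (Set.finite_singleton _)
      rw [hcY6, Set.ncard_singleton] at this
      omega
  -- `X = {1, χ₁}`
  have hcX2 : X.ncard = 2 := by
    rw [← Nat.card_coe_set_eq, hcX]
  obtain ⟨u, v, huv, hXuv⟩ := Set.ncard_eq_two.1 hcX2
  obtain ⟨χ1, hχ1, hXeq⟩ : ∃ χ1 : IrrCharacter G, χ1 ≠ principalChar G ∧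
      X = {principalChar G, χ1} := by
    rw [hXuv] at hpX
    rcases hpX with hp | hp
    · exact ⟨v, fun hv => huv (by rw [← hp, hv]), by rw [hXuv, hp]⟩
    · rw [Set.mem_singleton_iff] at hp
      exact ⟨u, fun hu => huv (by rw [hu, ← hp]), by rw [hXuv, hp, Set.pair_comm]⟩
  have hχ1X : χ1 ∈ X := by rw [hXeq]; simp
  -- the degree equation
  have heq := hYeq θ hθ 1 h1reg
  rw [hXeq, finsum_mem_pair (Ne.symm hχ1)] at heq
  rw [irr_one_eq_charDegree θ.2, irr_one_eq_charDegree χ1.2] at heq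
  have hp1 : ((principalChar G : IrrCharacter G) : G → ℂ) 1 = 1 := rfl
  rw [hp1] at heq
  obtain ⟨hε1, hm1, -⟩ := hX _ hpX
  obtain ⟨hεχ, hmχ, -⟩ := hX _ hχ1X
  rw [BR996.Asm.charDegree_principal] at hm1
  have hε1' : εX (principalChar G) = 1 := by
    rcases hε1 with h1 | h1
    · exact h1
    · exfalso
      rw [h1] at hm1
      have := hm1.dvd
      norm_num at this
  rw [hε1'] at heq
  have heqZ : ε * (y : ℤ) = 1 + εX χ1 * (charDegree (χ1 : G → ℂ) : ℤ) := by
    have : ((ε * (y : ℤ) : ℤ) : ℂ) = ((1 + εX χ1 * (charDegree (χ1 : G → ℂ) : ℤ) : ℤ) : ℂ) := by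
      push_cast
      rw [heq]
      ring
    exact_mod_cast this
  have hmy := hYdeg θ hθ
  rw [← hy] at hmy
  -- `6 y² ≤ 5460`
  have hsumY : ∑ c ∈ hYfin.toFinset, charDegree (c : G → ℂ) ^ 2 = 6 * y ^ 2 := by
    rw [Finset.sum_congr rfl (fun c hc => by rw [hYdeq c (hYfin.mem_toFinset.1 hc)]),
      Finset.sum_const, ← Set.ncard_eq_toFinset_card Y hYfin, hcY6]
    simp
  have hy6 : 6 * y ^ 2 ≤ 5460 := by
    rw [← hsumY, ← hsq]
    exact Finset.sum_le_sum_of_subset (Finset.subset_univ _)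
  have hy30 : y ≤ 30 := by nlinarith
  have hydvd : y ∣ 5460 := hdvd θ
  have hy2 : y ^ 2 ≤ 5460 := by omega
  have hycases := small_divisor hydvd hy2
  have hx1dvd := hdvd χ1
  have hx1ne : charDegree (χ1 : G → ℂ) ≠ 1 := fun h1 =>
    hχ1 (Cfsg.Agent.Helper10.BR996.eq_principal_of_degree_one hperf χ1 h1)
  have hx1pos := charDegree_pos χ1.2
  -- `y = 15`
  have hy15 : y = 15 := by
    have hmy' := hmy.dvd
    have hmχ' := hmχ.dvd
    generalize charDegree (χ1 : G → ℂ) = x1 at *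
    obtain ⟨j, hj⟩ := hmy'
    obtain ⟨j', hj'⟩ := hmχ'
    rcases hε with he | he <;> rcases hεχ with he1 | he1 <;> rw [he] at heqZ hj <;>
      rw [he1] at heqZ hj' <;> push_cast at hj hj' heqZ
    all_goals
      by_contra hne
      have hx : x1 = 1 ∨ x1 = 27 ∨ x1 = 29 ∨ x1 = 3 ∨ x1 = 16 ∨ x1 = 2 ∨ x1 = 11 := by omega
      rcases hx with rfl | rfl | rfl | rfl | rfl | rfl | rfl <;> omega
  -- six characters of degree `15`
  have hsub : hYfin.toFinset ⊆ S7 := by
    intro c hc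
    apply hS7
    rw [hYdeq c (hYfin.mem_toFinset.1 hc), hy15]
    norm_num
  have := Finset.card_le_card hsub
  rw [← Set.ncard_eq_toFinset_card Y hYfin, hcY6] at this
  omega

end O5460

variable {G : Type*} [Group G] [Finite G] [IsSimpleGroup G]

/-- There is no simple group of order `5460 = 2²·3·5·7·13`. -/
theorem no_simple_5460 (h : Nat.card G = 5460) : False := by
  classical
  have hG : ∃ x y : G, x * y ≠ y * x :=
    Cfsg.Agent.Lead.nonabelian_of_not_prime (by rw [h]; norm_num)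
  haveI : Fintype G := Fintype.ofFinite G
  haveI : Fintype (IrrCharacter G) := Cfsg.Agent.Helper24.irrFintype
  have hperf := Cfsg.Agent.Helper10.BrSieve.perfect_of_simple hG
  obtain ⟨P7, P13, hP7, hC7, hk7, hP13, hcase⟩ := O5460.syl h
  obtain ⟨S7, hS7c, hS7⟩ := O5460.seven hperf P7 hP7 hC7 hk7
  rcases hcase with ⟨hC13, hk13⟩ | hk13
  · exact O5460.caseA h hperf P13 hP13 hC13 hk13 S7 hS7c hS7
  · exact O5460.caseB h hperf P13 hP13 hk13 S7 hS7c hS7

end Cfsg.Agent.Helper3.SmallOrd
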