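import Mathlib
import Cfsg.Agent.Lib.Helper12.PByCyclic4

/-!
# `p`-by-cyclic subgroups for odd `p` (helper12), part 5: the backward direction
-/

set_option autoImplicit false

namespace Cfsg.Agent.Helper12.PBC

open Cfsg.Agent.Helper16 Cfsg.Agent.Helper13.A4Recog

variable {G : Type*} [Group G]

/-- **Lemma B**: the centralize-or-invert property for all `p`-subgroups. -/
theorem lemmaB [Finite G] {p : ℕ} [hF : Fact p.Prime] (P : Sylow p G)
    (hcyc : IsCyclic (P : Subgroup G))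
    (h : Subgroup.normalizer ((P : Subgroup G) : Set G) =
          Subgroup.centralizer ((P : Subgroup G) : Set G) ∨ Cond2 p (P : Subgroup G))
    (R : Subgroup G) (hR : IsPGroup p R) (y : G) (hy : y ∈ Subgroup.normalizer (R : Set G)) :
    IsCyclic R ∧
      (y ∈ Subgroup.centralizer (R : Set G) ∨ (y ^ 2 = 1 ∧ ∀ r ∈ R, y * r * y⁻¹ = r⁻¹)) := by
  obtain ⟨Q, hRQ⟩ := hR.exists_le_sylow
  obtain ⟨g, hg⟩ := MulAction.exists_smul_eq G P Q
  have hmemQ : ∀ x, x ∈ (Q : Subgroup G) ↔ g⁻¹ * x * g ∈ (P : Subgroup G) := by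
    intro x
    rw [← hg, Sylow.coe_subgroup_smul, Subgroup.mem_pointwise_smul_iff_inv_smul_mem,
      MulAut.smul_def, ← map_inv, MulAut.conj_apply, inv_inv]
  constructor
  · have e : (P : Subgroup G) ≃* (Q : Subgroup G) := by rw [← hg]; exact P.equivSMul g
    have hQc : IsCyclic (Q : Subgroup G) := isCyclic_of_surjective e e.surjective
    exact isCyclic_of_le' hRQ hQc
  obtain ⟨R', hR'⟩ : ∃ R' : Subgroup G, R' = R.map (MulAut.conj g⁻¹).toMonoidHom := ⟨_, rfl⟩
  have hmem : ∀ x : G, x ∈ R' ↔ g * x * g⁻¹ ∈ R := by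
    intro x
    rw [hR', Subgroup.mem_map]
    constructor
    · rintro ⟨k, hk, rfl⟩
      have : g * ((MulAut.conj g⁻¹).toMonoidHom k) * g⁻¹ = k := by
        simp only [MulEquiv.toMonoidHom_eq_coe, MonoidHom.coe_coe, MulAut.conj_apply, inv_inv]
        group
      rw [this]; exact hk
    · intro hx
      refine ⟨g * x * g⁻¹, hx, ?_⟩
      simp only [MulEquiv.toMonoidHom_eq_coe, MonoidHom.coe_coe, MulAut.conj_apply, inv_inv]
      group
  have hR'P : R' ≤ P := by
    intro x hx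
    have h1 := (hmemQ _).1 (hRQ ((hmem x).1 hx))
    have : g⁻¹ * (g * x * g⁻¹) * g = x := by group
    rw [this] at h1
    exact h1
  have hy' : g⁻¹ * y * g ∈ Subgroup.normalizer (R' : Set G) := by
    rw [Subgroup.mem_normalizer_iff]
    intro x
    rw [hmem, hmem, Subgroup.mem_normalizer_iff.1 hy (g * x * g⁻¹)]
    have : g * (g⁻¹ * y * g * x * (g⁻¹ * y * g)⁻¹) * g⁻¹ = y * (g * x * g⁻¹) * y⁻¹ := by group
    rw [this]
  have hmem' : ∀ r ∈ R, g⁻¹ * r * g ∈ R' := by
    intro r hr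
    rw [hmem]
    have : g * (g⁻¹ * r * g) * g⁻¹ = r := by group
    rw [this]; exact hr
  rcases lemmaA P hcyc h R' hR'P _ hy' with h1 | ⟨h1, h2⟩
  · left
    rw [Subgroup.mem_centralizer_iff]
    intro r hr
    have h3 := Subgroup.mem_centralizer_iff.1 h1 _ (hmem' r hr)
    calc r * y = g * ((g⁻¹ * r * g) * (g⁻¹ * y * g)) * g⁻¹ := by group
      _ = g * ((g⁻¹ * y * g) * (g⁻¹ * r * g)) * g⁻¹ := by rw [h3]
      _ = y * r := by group
  · right
    constructor
    · have h3 : (g⁻¹ * y * g) ^ 2 = g⁻¹ * y ^ 2 * g := by rw [pow_two, pow_two]; group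
      rw [h3] at h1
      have : y ^ 2 = g * (g⁻¹ * y ^ 2 * g) * g⁻¹ := by group
      rw [this, h1]; group
    · intro r hr
      have h3 := h2 _ (hmem' r hr)
      calc y * r * y⁻¹ = g * ((g⁻¹ * y * g) * (g⁻¹ * r * g) * (g⁻¹ * y * g)⁻¹) * g⁻¹ := by group
        _ = g * (g⁻¹ * r * g)⁻¹ * g⁻¹ := by rw [h3]
        _ = r⁻¹ := by group

/-- The backward direction. -/
theorem backward [Finite G] {p : ℕ} [hF : Fact p.Prime] (hp : p ≠ 2) (P : Sylow p G)
    (hcyc : IsCyclic (P : Subgroup G))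
    (h : Subgroup.normalizer ((P : Subgroup G) : Set G) =
          Subgroup.centralizer ((P : Subgroup G) : Set G) ∨ Cond2 p (P : Subgroup G)) :
    AllPBC p G := by
  intro H hS hc
  obtain ⟨S₀, y, h2, hcop, hyn, hsup⟩ := exists_data H hS hc
  obtain ⟨hS₀c, hB⟩ := lemmaB P hcyc h S₀ h2 y hyn
  by_cases hyc : y ∈ Subgroup.centralizer (S₀ : Set G)
  · left
    exact isCyclic_of_centralizes H S₀ y h2 hcop hS₀c hyc hsup
  right
  rcases hB with hB | ⟨hy2, hyinv⟩
  · exact absurd hB hyc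
  have hyy : y * y = 1 := by rw [← pow_two]; exact hy2
  have hyinv' : y⁻¹ = y := inv_eq_of_mul_eq_one_right hyy
  have hy1 : y ≠ 1 := by
    rintro rfl
    exact hyc (Subgroup.one_mem _)
  have hyo : orderOf y = 2 := orderOf_eq_prime hy2 hy1
  obtain ⟨s, hs⟩ := hS₀c.exists_generator
  obtain ⟨k, hk⟩ := IsPGroup.iff_card.1 h2
  have hso : orderOf (s : G) = p ^ k := by
    rw [Subgroup.orderOf_coe, orderOf_eq_card_of_forall_mem_zpowers hs, hk]
  have hSH : S₀ ≤ H := by rw [← hsup]; exact le_sup_left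
  have hyH : y ∈ H := by rw [← hsup]; exact Subgroup.mem_sup_right (Subgroup.mem_zpowers y)
  have hTn : Subgroup.zpowers y ≤ Subgroup.normalizer (S₀ : Set G) := by
    rw [Subgroup.zpowers_le]; exact hyn
  have hcop2 : Nat.Coprime 2 (p ^ k) := by
    apply Nat.Coprime.pow_right
    rw [Nat.coprime_primes Nat.prime_two hF.out]
    exact fun h => hp h.symm
  have hHcard : Nat.card H = 2 * p ^ k := by
    rw [← hsup, sup_comm, card_sup_of_le_normalizer _ _ hTn, Nat.card_zpowers, hyo, hk]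
    rw [Nat.card_zpowers, hyo, hk]
    exact hcop2
  have hpos : 0 < p ^ k := pow_pos hF.out.pos k
  have : NeZero (p ^ k) := ⟨hpos.ne'⟩
  refine ⟨k, ?_⟩
  apply Cfsg.Agent.Lead.nonempty_mulEquiv_dihedral (p ^ k) (⟨(s : G), hSH s.2⟩ : H) (⟨y, hyH⟩ : H)
  · rw [← hso, ← Subgroup.orderOf_coe]
  · exact Subtype.ext hyy
  · apply Subtype.ext
    have h1 := hyinv (s : G) s.2
    rw [hyinv'] at h1
    simpa using h1
  · intro hmem
    apply hyc
    have hyS : y ∈ S₀ := by
      obtain ⟨i, hi⟩ := Subgroup.mem_zpowers_iff.1 hmem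
      have h1 := congrArg (fun v : H => (v : G)) hi
      simp only [Subgroup.coe_zpow] at h1
      rw [← h1]
      exact Subgroup.zpow_mem _ s.2 i
    rw [Subgroup.mem_centralizer_iff]
    intro r hr
    exact comm_of_isCyclic hS₀c hr hyS
  · exact hHcard

end Cfsg.Agent.Helper12.PBC
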