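import Mathlib
import Cfsg.Agent.Lib.Helper12.PGLInfB

set_option autoImplicit false
set_option linter.unusedVariables false
set_option linter.unusedSectionVars false
set_option linter.style.haveILetI false

/-! Intersections of maximal subgroups of `PGL₂(q)` with `PSL₂(q)`: arithmetic. -/

namespace Cfsg.Agent.Helper12.PGLInf

/-- `d = q (q - 1) / 2` is larger than `q + 1` -/
theorem m1_small {q d N : ℕ} (h5 : 5 ≤ q) (hd : 2 * d = q * (q - 1)) (hN : N ≤ q + 1)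
    (hle : d ≤ N) : False := by
  have h1 : 5 * (q - 1) ≤ q * (q - 1) := Nat.mul_le_mul_right _ h5
  omega

theorem ord_lt_cube {x : ℕ} (hx : 2 ≤ x) : x * (x - 1) * (x + 1) < x ^ 3 := by
  obtain ⟨y, rfl⟩ : ∃ y, x = y + 2 := ⟨x - 2, by omega⟩
  have h1 : y + 2 - 1 = y + 1 := by omega
  rw [h1]
  nlinarith

theorem cube_le_pow {x r : ℕ} (hx : 1 ≤ x) (hr : 3 ≤ r) : x ^ 3 ≤ x ^ r :=
  Nat.pow_le_pow_right hx hr

/-- the order of a subfield subgroup of type `PSL₂` is small -/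
theorem ord_sub_lt {x r q N : ℕ} (hx : 2 ≤ x) (hr : 3 ≤ r) (hq : q = x ^ r)
    (hN : 2 * N = x * (x - 1) * (x + 1)) : 2 * N < q := by
  have h1 := ord_lt_cube hx
  have h2 := cube_le_pow (by omega : 1 ≤ x) hr
  omega

theorem m1_H4 {x d N : ℕ} (hx : 3 ≤ x) (hd : 2 * d = x ^ 2 * (x ^ 2 - 1))
    (hN : N = x * (x - 1) * (x + 1)) (hle : d ≤ N) : False := by
  have h1 : (x - 1) * (x + 1) = x ^ 2 - 1 :=
    Cfsg.Agent.Helper12.PSL2Max.pred_mul_succ x (by omega)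
  rw [← h1] at hd
  have hA : 0 < x * ((x - 1) * (x + 1)) := by
    have : 0 < x - 1 := by omega
    positivity
  have h2 : x * (x * ((x - 1) * (x + 1))) ≤ 2 * (x * ((x - 1) * (x + 1))) := by
    calc x * (x * ((x - 1) * (x + 1))) = x ^ 2 * ((x - 1) * (x + 1)) := by ring
      _ = 2 * d := hd.symm
      _ ≤ 2 * N := by omega
      _ = 2 * (x * ((x - 1) * (x + 1))) := by rw [hN]; ring
  have := Nat.le_of_mul_le_mul_right h2 hA
  omega

theorem odd_not_dvd_half {q N : ℕ} (hq : q % 2 = 1) (h5 : 5 ≤ q) (hN : 2 * N = q * (q - 1))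
    (hd : (q - 1) ∣ N) : False := by
  obtain ⟨t, rfl⟩ := hd
  have h1 : (q - 1) * (2 * t) = (q - 1) * q := by
    rw [mul_comm (q - 1) q, ← hN]; ring
  have := Nat.eq_of_mul_eq_mul_left (by omega : 0 < q - 1) h1
  omega

theorem succ_not_dvd_half {q N : ℕ} (h5 : 5 ≤ q) (hN : 2 * N = q * (q - 1))
    (hd : (q + 1) ∣ N) : False := by
  obtain ⟨m, rfl⟩ : ∃ m, q = m + 3 := ⟨q - 3, by omega⟩
  have h1 : m + 3 - 1 = m + 2 := by omega
  rw [h1] at hN
  have h2 : (m + 3) * (m + 2) = (m + 3 + 1) * (m + 1) + 2 := by ring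
  have h3 : (m + 3 + 1) ∣ 2 * N := Dvd.dvd.mul_left hd 2
  rw [hN, h2] at h3
  have h4 : (m + 3 + 1) ∣ 2 := (Nat.dvd_add_right (Dvd.intro _ rfl)).1 h3
  have := Nat.le_of_dvd (by norm_num) h4
  omega

theorem pred_not_dvd_succ {q : ℕ} (h5 : 5 ≤ q) (hd : (q - 1) ∣ (q + 1)) : False := by
  have h1 : q + 1 = (q - 1) + 2 := by omega
  rw [h1] at hd
  have h4 : (q - 1) ∣ 2 := (Nat.dvd_add_right (dvd_refl _)).1 hd
  have := Nat.le_of_dvd (by norm_num) h4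
  omega

/-- `q (q - 1) / 2` is not divisible by `4` for `q ≡ ±3 (mod 8)` -/
theorem m4_H1 {q N : ℕ} (hq : q % 8 = 3 ∨ q % 8 = 5) (hN : 2 * N = q * (q - 1))
    (hd : 12 ∣ N) : False := by
  obtain ⟨t, rfl⟩ := hd
  obtain ⟨j, hj⟩ : ∃ j, q = 8 * j + 3 ∨ q = 8 * j + 5 := ⟨q / 8, by omega⟩
  rcases hj with rfl | rfl
  · have h1 : 8 * j + 3 - 1 = 8 * j + 2 := by omega
    rw [h1] at hN
    have h2 : (8 * j + 3) * (8 * j + 2) = 4 * (16 * j ^ 2 + 10 * j + 1) + 2 := by ring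
    omega
  · have h1 : 8 * j + 5 - 1 = 8 * j + 4 := by omega
    rw [h1] at hN
    have h2 : (8 * j + 5) * (8 * j + 4) = 8 * (8 * j ^ 2 + 9 * j + 2) + 4 := by ring
    omega

theorem prime_ne_pow {q x r : ℕ} (hq : q.Prime) (hr : 2 ≤ r) (h : q = x ^ r) : False := by
  have hx : x ∣ q := by rw [h]; exact dvd_pow_self x (by omega)
  rcases (Nat.dvd_prime hq).1 hx with h1 | h1
  · rw [h1, one_pow] at h
    exact hq.one_lt.ne' h
  · rw [h1] at h
    have h2 : q ^ 1 = q ^ r := by rw [pow_one]; exact h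
    have := Nat.pow_right_injective hq.two_le h2
    omega

/-- `(x² ± 1) / 2 ≤ 2 x` forces `x ≤ 4` -/
theorem sq_half_le {x n : ℕ} (hn : 2 * n + 1 = x ^ 2 ∨ 2 * n = x ^ 2 + 1 ∨ 2 * n + 2 = x ^ 2 + 1)
    (hle : n ≤ 2 * x) : x ≤ 4 := by
  by_contra hcon
  push Not at hcon
  have h1 : 5 * x ≤ x ^ 2 := by rw [pow_two]; exact Nat.mul_le_mul_right _ hcon
  omega

end Cfsg.Agent.Helper12.PGLInf
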