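import Mathlib
import Cfsg.Agent.Lib.Helper12.PGLInfC

set_option autoImplicit false
set_option linter.unusedVariables false
set_option linter.unusedSectionVars false
set_option linter.style.haveILetI false

/-! Intersections of maximal subgroups of `PGL₂(q)` with `PSL₂(q)`: arithmetic of the subfield
case. -/

namespace Cfsg.Agent.Helper12.PGLInf

theorem succ_dvd_pow_succ (x : ℕ) {r : ℕ} (hr : Odd r) : x + 1 ∣ x ^ r + 1 := by
  have := Odd.nat_add_dvd_pow_add_pow x 1 hr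
  simpa using this

/-- a divisor of `q + 1` dividing `q (q - 1)` divides `2` -/
theorem dvd_two_of_dvd {q m : ℕ} (h5 : 5 ≤ q) (h1 : m ∣ q + 1) (h2 : m ∣ q * (q - 1)) :
    m ∣ 2 := by
  obtain ⟨n, rfl⟩ : ∃ n, q = n + 3 := ⟨q - 3, by omega⟩
  have e1 : n + 3 - 1 = n + 2 := by omega
  rw [e1] at h2
  have e2 : (n + 3) * (n + 2) = (n + 3 + 1) * (n + 1) + 2 := by ring
  rw [e2] at h2
  exact (Nat.dvd_add_right (Dvd.dvd.mul_right h1 _)).1 h2

theorem m5_H1 {x r q N : ℕ} (hx : 2 ≤ x) (hr : Odd r) (hq : q = x ^ r) (h5 : 5 ≤ q)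
    (hN : 2 * N = q * (q - 1)) (hd : (x + 1) ∣ 2 * N) : False := by
  have h1 : x + 1 ∣ q + 1 := by rw [hq]; exact succ_dvd_pow_succ x hr
  rw [hN] at hd
  have := Nat.le_of_dvd (by norm_num) (dvd_two_of_dvd h5 h1 hd)
  omega

theorem m5_H23 {p x q d N : ℕ} (hp : p.Prime) (hp2 : p % 2 = 1) (hpx : p ∣ x) (hpq : p ∣ q)
    (hd : 2 * d = x * (x - 1) * (x + 1)) (hN : N = q - 1 ∨ N = q + 1) (hq : 1 ≤ q)
    (hdN : d ∣ N) : False := by
  have h1 : p ∣ 2 * d := by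
    rw [hd, mul_assoc]
    exact Dvd.dvd.mul_right hpx _
  have h2 : p ∣ d := by
    rcases (Nat.Prime.dvd_mul hp).1 h1 with h | h
    · have := Nat.le_of_dvd (by norm_num) h
      have := hp.two_le
      have : p = 2 := by omega
      omega
    · exact h
  have h3 : p ∣ N := h2.trans hdN
  have h4 : p ∣ 1 := by
    rcases hN with rfl | rfl
    · have : q = (q - 1) + 1 := by omega
      rw [this] at hpq
      exact (Nat.dvd_add_right h3).1 hpq
    · exact (Nat.dvd_add_right hpq).1 h3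
  have := Nat.le_of_dvd (by norm_num) h4
  have := hp.two_le
  omega

theorem not_dvd_pow_sub_one {p : ℕ} (hp : p.Prime) (n : ℕ) (hn : n ≠ 0) : ¬ p ∣ p ^ n - 1 := by
  intro h
  have h1 : p ∣ p ^ n := dvd_pow_self p hn
  have hpos : 1 ≤ p ^ n := Nat.one_le_pow _ _ hp.pos
  have h2 : p ^ n = (p ^ n - 1) + 1 := by omega
  rw [h2] at h1
  have h4 := (Nat.dvd_add_right h).1 h1
  have := Nat.le_of_dvd (by norm_num) h4
  have := hp.two_le
  omega

theorem m5_H4 {p x r q b1 N : ℕ} (hp : p.Prime) (hpx : p ∣ x) (hx3 : 3 ≤ x) (hr : Odd r)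
    (hq : q = x ^ r) (h5 : 5 ≤ q) (hb1 : 1 ≤ b1) (hq2 : q = (p ^ b1) ^ 2)
    (hN : N = p ^ b1 * (p ^ b1 - 1) * (p ^ b1 + 1)) (hd : (x + 1) ∣ 2 * N) : False := by
  have h1 : x + 1 ∣ q + 1 := by rw [hq]; exact succ_dvd_pow_succ x hr
  have hy1 : 1 ≤ p ^ b1 := Nat.one_le_pow _ _ hp.pos
  have h2 : (p ^ b1 - 1) * (p ^ b1 + 1) = q - 1 := by
    rw [Cfsg.Agent.Helper12.PSL2Max.pred_mul_succ _ hy1, hq2]
  have hcop : Nat.Coprime (x + 1) (p ^ b1) := by
    apply Nat.Coprime.pow_right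
    rw [Nat.coprime_comm, Nat.Prime.coprime_iff_not_dvd hp]
    intro h
    have h4 := (Nat.dvd_add_right hpx).1 h
    have := Nat.le_of_dvd (by norm_num) h4
    have := hp.two_le
    omega
  have h3 : x + 1 ∣ p ^ b1 * (2 * (q - 1)) := by
    rw [hN] at hd
    have e : 2 * (p ^ b1 * (p ^ b1 - 1) * (p ^ b1 + 1)) =
        p ^ b1 * (2 * ((p ^ b1 - 1) * (p ^ b1 + 1))) := by ring
    rw [e, h2] at hd
    exact hd
  have h4 : x + 1 ∣ 2 * (q - 1) := hcop.dvd_of_dvd_mul_left h3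
  have h5' : x + 1 ∣ 2 * (q + 1) := Dvd.dvd.mul_left h1 2
  have h6 : 2 * (q + 1) = 2 * (q - 1) + 4 := by omega
  rw [h6] at h5'
  have h7 : x + 1 ∣ 4 := (Nat.dvd_add_right h4).1 h5'
  have h8 := Nat.le_of_dvd (by norm_num) h7
  have hx : x = 3 := by omega
  subst hx
  have hp3 : p = 3 := (Nat.prime_dvd_prime_iff_eq hp Nat.prime_three).1 hpx
  subst hp3
  rw [hq, ← pow_mul] at hq2
  have := Nat.pow_right_injective (by norm_num : 2 ≤ 3) hq2
  obtain ⟨k, hk⟩ := hr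
  omega

theorem m5_H5 {p B b1 R r1 : ℕ} (hp : p.Prime) (hB : 1 ≤ B) (hb1 : 1 ≤ b1) (hR : R.Prime)
    (hr1 : r1.Prime) (hf : B * R = b1 * r1)
    (hdvd : (p ^ B - 1) * (p ^ B + 1) ∣ p ^ b1 * (p ^ b1 - 1) * (p ^ b1 + 1)) : B = b1 := by
  have hx1 : 1 ≤ p ^ B := Nat.one_le_pow _ _ hp.pos
  have hy1 : 1 ≤ p ^ b1 := Nat.one_le_pow _ _ hp.pos
  rw [mul_assoc, Cfsg.Agent.Helper12.PSL2Max.pred_mul_succ _ hx1,
    Cfsg.Agent.Helper12.PSL2Max.pred_mul_succ _ hy1, ← pow_mul, ← pow_mul] at hdvd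
  have hcop : Nat.Coprime (p ^ (B * 2) - 1) (p ^ b1) := by
    apply Nat.Coprime.pow_right
    rw [Nat.coprime_comm, Nat.Prime.coprime_iff_not_dvd hp]
    exact not_dvd_pow_sub_one hp _ (by omega)
  have h1 : p ^ (B * 2) - 1 ∣ p ^ (b1 * 2) - 1 := hcop.dvd_of_dvd_mul_left hdvd
  have h2 := Nat.pow_sub_one_gcd_pow_sub_one p (B * 2) (b1 * 2)
  rw [Nat.gcd_eq_left h1] at h2
  have h3 : 1 ≤ p ^ (B * 2) := Nat.one_le_pow _ _ hp.pos
  have h4 : 1 ≤ p ^ Nat.gcd (B * 2) (b1 * 2) := Nat.one_le_pow _ _ hp.pos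
  have h5 : p ^ (B * 2) = p ^ Nat.gcd (B * 2) (b1 * 2) := by omega
  have h6 := Nat.pow_right_injective hp.two_le h5
  have h7 : B * 2 ∣ b1 * 2 := by
    rw [h6]; exact Nat.gcd_dvd_right _ _
  have h8 : B ∣ b1 := (Nat.mul_dvd_mul_iff_right (by norm_num : 0 < 2)).1 h7
  obtain ⟨c, rfl⟩ := h8
  have h9 : R = c * r1 := by
    have : B * R = B * (c * r1) := by rw [hf]; ring
    exact Nat.eq_of_mul_eq_mul_left (by omega) this
  have h10 : r1 ∣ R := ⟨c, by rw [h9]; ring⟩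
  rcases (Nat.dvd_prime hR).1 h10 with h | h
  · exact absurd h hr1.one_lt.ne'
  · rw [h] at h9
    have hc : c = 1 := by
      have : 1 * R = c * R := by rw [one_mul]; exact h9
      exact (Nat.eq_of_mul_eq_mul_right hR.pos this).symm
    rw [hc, mul_one]

theorem m5_H678 {p f q : ℕ} (hp : p.Prime) (hf : 3 ≤ f) (hq : q = p ^ f)
    (h : q = p ∨ q = p ^ 2) : False := by
  rcases h with h | h
  · rw [hq] at h
    have h2 : p ^ f = p ^ 1 := by rw [pow_one]; exact h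
    have := Nat.pow_right_injective hp.two_le h2
    omega
  · rw [hq] at h
    have := Nat.pow_right_injective hp.two_le h
    omega

end Cfsg.Agent.Helper12.PGLInf
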