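import Mathlib
import Cfsg.Agent.Lib.Helper12.PGLInfD

set_option autoImplicit false
set_option linter.unusedVariables false
set_option linter.unusedSectionVars false
set_option linter.style.haveILetI false

/-! Intersections of maximal subgroups of `PGL₂(q)` with `PSL₂(q)`: the Borel and dihedral
types. -/

namespace Cfsg.Agent.Helper12.PGLInf

open Matrix
open scoped MatrixGroups
open Cfsg.Agent.Helper12.MaxSub
open Cfsg.Agent.Helper12.PGLMax
open Cfsg.Agent.Helper12.PSL2Max (card_A4 card_A5 card_S4 card_PGL2')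

variable {F : Type*} [Field F] [Fintype F]

local notation "PP" => Matrix.ProjectiveSpecialLinearGroup (Fin 2) F

theorem odd_of_pow_eq {q x r : ℕ} (hq : Odd q) (hr : r ≠ 0) (h : q = x ^ r) : Odd x := by
  rw [h, Nat.odd_pow_iff hr] at hq
  exact hq

/-- type Borel -/
theorem caseM1 (p : ℕ) [hp : Fact p.Prime] [CharP F p] (hodd : Odd (Fintype.card F))
    (h5 : 5 ≤ Fintype.card F) (h7 : Fintype.card F ≠ 7) (h9 : Fintype.card F ≠ 9)
    (h11 : Fintype.card F ≠ 11) (H : Subgroup PP) (hHt : Concl F p H) (D : Subgroup PP)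
    (hDH : D ≤ H) (hd : 2 * Nat.card D = Fintype.card F * (Fintype.card F - 1)) :
    Nat.card H ≤ Nat.card D := by
  have hq2 := Nat.odd_iff.1 hodd
  have hle : Nat.card D ≤ Nat.card H := Subgroup.card_le_of_le hDH
  have hdvd : Nat.card D ∣ Nat.card H := Subgroup.card_dvd_of_le hDH
  rcases hHt with h1 | ⟨h13, k, hk, ⟨e⟩⟩ | ⟨hn7, hn9, k, hk, ⟨e⟩⟩ | ⟨F1, _, _, hq1, ⟨e⟩⟩ |
    ⟨F1, _, _, r1, hr1, hr1o, hq1, ⟨e⟩⟩ | ⟨h10, hqp, ⟨e⟩⟩ | ⟨hqp, h8, hn10, ⟨e⟩⟩ | ⟨hqp, h8, ⟨e⟩⟩
  · omega
  · exfalso
    have hN : Nat.card H = 2 * k := by rw [Nat.card_congr e.toEquiv, DihedralGroup.nat_card]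
    exact m1_small h5 hd (by omega) hle
  · exfalso
    have hN : Nat.card H = 2 * k := by rw [Nat.card_congr e.toEquiv, DihedralGroup.nat_card]
    exact m1_small h5 hd (by omega) hle
  · exfalso
    have hN : Nat.card H = Fintype.card F1 * (Fintype.card F1 - 1) * (Fintype.card F1 + 1) := by
      rw [Nat.card_congr e.toEquiv]; exact card_PGL2' F1 rfl
    have hx : 3 ≤ Fintype.card F1 := by
      have h1 : 2 ≤ Fintype.card F1 := Fintype.one_lt_card
      have h2 := Nat.odd_iff.1 (odd_of_pow_eq hodd (by norm_num) hq1)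
      omega
    rw [hq1] at hd
    exact m1_H4 hx hd hN hle
  · exfalso
    have hodd1 : Odd (Fintype.card F1) := odd_of_pow_eq hodd hr1.ne_zero hq1
    have hN : 2 * Nat.card H =
        Fintype.card F1 * (Fintype.card F1 - 1) * (Fintype.card F1 + 1) := by
      rw [Nat.card_congr e.toEquiv]; exact two_mul_card_PSL2 hodd1
    have hx : 2 ≤ Fintype.card F1 := Fintype.one_lt_card
    have hr3 : 3 ≤ r1 := by
      have := hr1.two_le
      have := Nat.odd_iff.1 hr1o
      omega
    have h1 := ord_sub_lt hx hr3 hq1 hN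
    have h2 : Fintype.card F * 1 ≤ Fintype.card F * (Fintype.card F - 1) :=
      Nat.mul_le_mul_left _ (by omega)
    omega
  · exfalso
    have hN : Nat.card H = 60 := by rw [Nat.card_congr e.toEquiv, card_A5]
    have h19 : 19 ≤ Fintype.card F := by omega
    have h2 : 19 * 18 ≤ Fintype.card F * (Fintype.card F - 1) :=
      Nat.mul_le_mul h19 (by omega)
    omega
  · exfalso
    have hN : Nat.card H = 12 := by rw [Nat.card_congr e.toEquiv, card_A4]
    by_cases h5' : Fintype.card F = 5
    · rw [h5'] at hd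
      rw [hN] at hdvd
      have : Nat.card D = 10 := by omega
      rw [this] at hdvd
      norm_num at hdvd
    · have h13 : 13 ≤ Fintype.card F := by omega
      have h2 : 13 * 12 ≤ Fintype.card F * (Fintype.card F - 1) :=
        Nat.mul_le_mul h13 (by omega)
      omega
  · exfalso
    have hN : Nat.card H = 24 := by rw [Nat.card_congr e.toEquiv, card_S4]
    have h13 : 13 ≤ Fintype.card F := by omega
    have h2 : 13 * 12 ≤ Fintype.card F * (Fintype.card F - 1) :=
      Nat.mul_le_mul h13 (by omega)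
    omega

end Cfsg.Agent.Helper12.PGLInf
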