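import Mathlib
import Cfsg.Agent.Lib.Helper12.PGLInfE

set_option autoImplicit false
set_option linter.unusedVariables false
set_option linter.unusedSectionVars false
set_option linter.style.haveILetI false

/-! Intersections of maximal subgroups of `PGL₂(q)` with `PSL₂(q)`: the dihedral types. -/

namespace Cfsg.Agent.Helper12.PGLInf

open Matrix
open scoped MatrixGroups
open Cfsg.Agent.Helper12.MaxSub
open Cfsg.Agent.Helper12.PGLMax
open Cfsg.Agent.Helper12.PSL2Max (card_A4 card_A5 card_S4 card_PGL2')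

variable {F : Type*} [Field F] [Fintype F]

local notation "PP" => Matrix.ProjectiveSpecialLinearGroup (Fin 2) F

/-- dihedral type, order `q - 1` -/
theorem caseM2 (p : ℕ) [hp : Fact p.Prime] [CharP F p] (hodd : Odd (Fintype.card F))
    (h5 : 5 ≤ Fintype.card F) (h7 : Fintype.card F ≠ 7) (h9 : Fintype.card F ≠ 9)
    (h11 : Fintype.card F ≠ 11) {f : ℕ} (hf : Fintype.card F = p ^ f)
    (H : Subgroup PP) (hHt : Concl F p H) (D : Subgroup PP)
    (hDH : D ≤ H) (hq5 : Fintype.card F ≠ 5) (hd : Nat.card D = Fintype.card F - 1)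
    (y : PP) (hy : y ∈ D) (hyo : orderOf y = (Fintype.card F - 1) / 2) :
    Nat.card H ≤ Nat.card D := by
  have hq2 := Nat.odd_iff.1 hodd
  have h13 : 13 ≤ Fintype.card F := by omega
  have hle : Nat.card D ≤ Nat.card H := Subgroup.card_le_of_le hDH
  have hdvd : Nat.card D ∣ Nat.card H := Subgroup.card_dvd_of_le hDH
  rcases hHt with h1 | ⟨-, k, hk, ⟨e⟩⟩ | ⟨hn7, hn9, k, hk, ⟨e⟩⟩ | ⟨F1, _, _, hq1, ⟨e⟩⟩ |
    ⟨F1, _, _, r1, hr1, hr1o, hq1, ⟨e⟩⟩ | ⟨h10, hqp, ⟨e⟩⟩ | ⟨hqp, h8, hn10, ⟨e⟩⟩ | ⟨hqp, h8, ⟨e⟩⟩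
  · exfalso
    rw [hd] at hdvd
    exact odd_not_dvd_half hq2 h5 h1 hdvd
  · have hN : Nat.card H = 2 * k := by rw [Nat.card_congr e.toEquiv, DihedralGroup.nat_card]
    omega
  · exfalso
    have hN : Nat.card H = 2 * k := by rw [Nat.card_congr e.toEquiv, DihedralGroup.nat_card]
    rw [hd, hN, hk] at hdvd
    exact pred_not_dvd_succ h5 hdvd
  · exfalso
    obtain ⟨-, hodd1, hch, b, hb1, hb, -⟩ := subfield_data p hodd h5 hf F1 2 hq1.symm
    haveI := hch
    have h1 := orderOf_le_of_PGL2 p hodd1 H e y (hDH hy)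
    rw [hyo] at h1
    have h2 := sq_half_le (x := Fintype.card F1) (n := (Fintype.card F - 1) / 2)
      (Or.inl (by rw [← hq1]; omega)) h1
    have h3 : 2 ≤ Fintype.card F1 := Fintype.one_lt_card
    have h4 := Nat.odd_iff.1 hodd1
    have h5' : Fintype.card F1 = 3 := by omega
    rw [h5'] at hq1
    omega
  · exfalso
    have hodd1 : Odd (Fintype.card F1) := odd_of_pow_eq hodd hr1.ne_zero hq1
    have hN : 2 * Nat.card H =
        Fintype.card F1 * (Fintype.card F1 - 1) * (Fintype.card F1 + 1) := by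
      rw [Nat.card_congr e.toEquiv]; exact two_mul_card_PSL2 hodd1
    have hx : 2 ≤ Fintype.card F1 := Fintype.one_lt_card
    have hr3 : 3 ≤ r1 := by
      have := hr1.two_le
      have := Nat.odd_iff.1 hr1o
      omega
    have h1 := ord_sub_lt hx hr3 hq1 hN
    omega
  · exfalso
    have := orderOf_le_five_A5 H e y (hDH hy)
    omega
  · exfalso
    have := orderOf_le_five_A4 H e y (hDH hy)
    omega
  · exfalso
    have := orderOf_le_five_S4 H e y (hDH hy)
    omega

/-- dihedral type, order `q + 1` -/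
theorem caseM3 (p : ℕ) [hp : Fact p.Prime] [CharP F p] (hodd : Odd (Fintype.card F))
    (h5 : 5 ≤ Fintype.card F) (h7 : Fintype.card F ≠ 7) (h9 : Fintype.card F ≠ 9)
    (h11 : Fintype.card F ≠ 11) {f : ℕ} (hf : Fintype.card F = p ^ f)
    (H : Subgroup PP) (hHt : Concl F p H) (D : Subgroup PP)
    (hDH : D ≤ H) (hd : Nat.card D = Fintype.card F + 1)
    (y : PP) (hy : y ∈ D) (hyo : orderOf y = (Fintype.card F + 1) / 2) :
    Nat.card H ≤ Nat.card D := by
  have hq2 := Nat.odd_iff.1 hodd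
  have hle : Nat.card D ≤ Nat.card H := Subgroup.card_le_of_le hDH
  have hdvd : Nat.card D ∣ Nat.card H := Subgroup.card_dvd_of_le hDH
  rcases hHt with h1 | ⟨h13, k, hk, ⟨e⟩⟩ | ⟨hn7, hn9, k, hk, ⟨e⟩⟩ | ⟨F1, _, _, hq1, ⟨e⟩⟩ |
    ⟨F1, _, _, r1, hr1, hr1o, hq1, ⟨e⟩⟩ | ⟨h10, hqp, ⟨e⟩⟩ | ⟨hqp, h8, hn10, ⟨e⟩⟩ | ⟨hqp, h8, ⟨e⟩⟩
  · exfalso
    rw [hd] at hdvd
    exact succ_not_dvd_half h5 h1 hdvd
  · exfalso
    have hN : Nat.card H = 2 * k := by rw [Nat.card_congr e.toEquiv, DihedralGroup.nat_card]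
    omega
  · have hN : Nat.card H = 2 * k := by rw [Nat.card_congr e.toEquiv, DihedralGroup.nat_card]
    omega
  · exfalso
    obtain ⟨-, hodd1, hch, b, hb1, hb, -⟩ := subfield_data p hodd h5 hf F1 2 hq1.symm
    haveI := hch
    have h1 := orderOf_le_of_PGL2 p hodd1 H e y (hDH hy)
    rw [hyo] at h1
    have h2 := sq_half_le (x := Fintype.card F1) (n := (Fintype.card F + 1) / 2)
      (Or.inr (Or.inl (by rw [← hq1]; omega))) h1
    have h3 : 2 ≤ Fintype.card F1 := Fintype.one_lt_card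
    have h4 := Nat.odd_iff.1 hodd1
    have h5' : Fintype.card F1 = 3 := by omega
    rw [h5'] at hq1
    omega
  · exfalso
    have hodd1 : Odd (Fintype.card F1) := odd_of_pow_eq hodd hr1.ne_zero hq1
    have hN : 2 * Nat.card H =
        Fintype.card F1 * (Fintype.card F1 - 1) * (Fintype.card F1 + 1) := by
      rw [Nat.card_congr e.toEquiv]; exact two_mul_card_PSL2 hodd1
    have hx : 2 ≤ Fintype.card F1 := Fintype.one_lt_card
    have hr3 : 3 ≤ r1 := by
      have := hr1.two_le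
      have := Nat.odd_iff.1 hr1o
      omega
    have h1 := ord_sub_lt hx hr3 hq1 hN
    omega
  · exfalso
    have := orderOf_le_five_A5 H e y (hDH hy)
    omega
  · exfalso
    by_cases hq5 : Fintype.card F = 5
    · have hN : Nat.card H = 12 := by rw [Nat.card_congr e.toEquiv, card_A4]
      exact no_index_two_of_A4 H D hDH (by rw [hN, hd, hq5]) e
    · have := orderOf_le_five_A4 H e y (hDH hy)
      omega
  · exfalso
    have := orderOf_le_five_S4 H e y (hDH hy)
    omega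

end Cfsg.Agent.Helper12.PGLInf
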