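import Mathlib
import Cfsg.Agent.Lib.Helper12.PGLInfF

set_option autoImplicit false
set_option linter.unusedVariables false
set_option linter.unusedSectionVars false
set_option linter.style.haveILetI false

/-! Intersections of maximal subgroups of `PGL₂(q)` with `PSL₂(q)`: the types `S₄` and
`PGL₂(q₀)`. -/

namespace Cfsg.Agent.Helper12.PGLInf

open Matrix
open scoped MatrixGroups
open Cfsg.Agent.Helper12.MaxSub
open Cfsg.Agent.Helper12.PGLMax
open Cfsg.Agent.Helper12.PSL2Max (card_A4 card_A5 card_S4 card_PGL2')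

variable {F : Type*} [Field F] [Fintype F]

local notation "PP" => Matrix.ProjectiveSpecialLinearGroup (Fin 2) F

/-- type `S₄` -/
theorem caseM4 (p : ℕ) [hp : Fact p.Prime] [CharP F p] (hodd : Odd (Fintype.card F))
    (h5 : 5 ≤ Fintype.card F)
    (H : Subgroup PP) (hHt : Concl F p H) (D : Subgroup PP)
    (hDH : D ≤ H) (hqp : (Fintype.card F).Prime)
    (hq8 : Fintype.card F % 8 = 3 ∨ Fintype.card F % 8 = 5)
    (hq10 : ¬ (Fintype.card F % 10 = 1 ∨ Fintype.card F % 10 = 9))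
    (hd : Nat.card D = 12) (a b : PP) (ha : a ∈ D) (hb : b ∈ D) (ha3 : a ^ 3 = 1)
    (hb3 : b ^ 3 = 1) (hab : a * b ≠ b * a) :
    Nat.card H ≤ Nat.card D := by
  have hdvd : Nat.card D ∣ Nat.card H := Subgroup.card_dvd_of_le hDH
  rcases hHt with h1 | ⟨-, k, hk, ⟨e⟩⟩ | ⟨hn7, hn9, k, hk, ⟨e⟩⟩ | ⟨F1, _, _, hq1, ⟨e⟩⟩ |
    ⟨F1, _, _, r1, hr1, hr1o, hq1, ⟨e⟩⟩ | ⟨h10, hqp', ⟨e⟩⟩ | ⟨hqp', h8, hn10, ⟨e⟩⟩ |
    ⟨hqp', h8, ⟨e⟩⟩
  · exfalso
    rw [hd] at hdvd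
    exact m4_H1 hq8 h1 hdvd
  · exact absurd (comm_of_cube_of_dihedral H k e a b (hDH ha) (hDH hb) ha3 hb3) hab
  · exact absurd (comm_of_cube_of_dihedral H k e a b (hDH ha) (hDH hb) ha3 hb3) hab
  · exact (prime_ne_pow hqp le_rfl hq1).elim
  · exact (prime_ne_pow hqp hr1.two_le hq1).elim
  · exact absurd h10 hq10
  · rw [Nat.card_congr e.toEquiv, card_A4, hd]
  · exfalso
    rw [hqp'] at hq8
    omega

/-- type `PGL₂(q₀)` -/
theorem caseM5 (p : ℕ) [hp : Fact p.Prime] [CharP F p] (hodd : Odd (Fintype.card F))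
    (h5 : 5 ≤ Fintype.card F) {f : ℕ} (hf : Fintype.card F = p ^ f)
    (H : Subgroup PP) (hHt : Concl F p H) (D : Subgroup PP)
    (hDH : D ≤ H) (F0 : Type) [Field F0] [Fintype F0] (R : ℕ) (hR : R.Prime) (hRo : Odd R)
    (hq : Fintype.card F = Fintype.card F0 ^ R)
    (hd : 2 * Nat.card D = Fintype.card F0 * (Fintype.card F0 - 1) * (Fintype.card F0 + 1)) :
    Nat.card H ≤ Nat.card D := by
  obtain ⟨hf0, hp2⟩ := prime_facts p hodd h5 hf
  have hdvd : Nat.card D ∣ Nat.card H := Subgroup.card_dvd_of_le hDH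
  obtain ⟨-, hodd0, hch0, B, hB1, hB, hfBR⟩ := subfield_data p hodd h5 hf F0 R hq.symm
  have hR3 : 3 ≤ R := by
    have := hR.two_le
    have := Nat.odd_iff.1 hRo
    omega
  have hx3 : 3 ≤ Fintype.card F0 := by
    have h1 : 2 ≤ Fintype.card F0 := Fintype.one_lt_card
    have h2 := Nat.odd_iff.1 hodd0
    omega
  have hpx : p ∣ Fintype.card F0 := by rw [hB]; exact dvd_pow_self p (by omega)
  have hpq : p ∣ Fintype.card F := by rw [hf]; exact dvd_pow_self p hf0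
  have hf3 : 3 ≤ f := by
    rw [hfBR]
    calc 3 ≤ R := hR3
      _ = 1 * R := (one_mul R).symm
      _ ≤ B * R := Nat.mul_le_mul_right R hB1
  have hdvd2 : Fintype.card F0 + 1 ∣ 2 * Nat.card H := by
    have h1 : Fintype.card F0 + 1 ∣ 2 * Nat.card D := by
      rw [hd]; exact Dvd.intro_left _ rfl
    exact h1.trans (Nat.mul_dvd_mul_left 2 hdvd)
  rcases hHt with h1 | ⟨-, k, hk, ⟨e⟩⟩ | ⟨hn7, hn9, k, hk, ⟨e⟩⟩ | ⟨F1, _, _, hq1, ⟨e⟩⟩ |
    ⟨F1, _, _, r1, hr1, hr1o, hq1, ⟨e⟩⟩ | ⟨h10, hqp', ⟨e⟩⟩ | ⟨hqp', h8, hn10, ⟨e⟩⟩ |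
    ⟨hqp', h8, ⟨e⟩⟩
  · exact (m5_H1 (by omega) hRo hq h5 h1 hdvd2).elim
  · exfalso
    have hN : Nat.card H = 2 * k := by rw [Nat.card_congr e.toEquiv, DihedralGroup.nat_card]
    exact m5_H23 hp.out hp2 hpx hpq hd (Or.inl (by omega)) (by omega) hdvd
  · exfalso
    have hN : Nat.card H = 2 * k := by rw [Nat.card_congr e.toEquiv, DihedralGroup.nat_card]
    exact m5_H23 hp.out hp2 hpx hpq hd (Or.inr (by omega)) (by omega) hdvd
  · exfalso
    obtain ⟨-, hodd1, hch1, b1, hb1, hb1c, -⟩ := subfield_data p hodd h5 hf F1 2 hq1.symm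
    have hN : Nat.card H = p ^ b1 * (p ^ b1 - 1) * (p ^ b1 + 1) := by
      rw [Nat.card_congr e.toEquiv]; exact card_PGL2' F1 hb1c
    exact m5_H4 hp.out hpx hx3 hRo hq h5 hb1 (by rw [hq1, hb1c]) hN hdvd2
  · obtain ⟨-, hodd1, hch1, b1, hb1, hb1c, hfb1⟩ :=
      subfield_data p hodd h5 hf F1 r1 hq1.symm
    have hN : 2 * Nat.card H =
        Fintype.card F1 * (Fintype.card F1 - 1) * (Fintype.card F1 + 1) := by
      rw [Nat.card_congr e.toEquiv]; exact two_mul_card_PSL2 hodd1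
    have hdd : 2 * Nat.card D ∣ 2 * Nat.card H := Nat.mul_dvd_mul_left 2 hdvd
    rw [hd, hN, hB, hb1c] at hdd
    have hdd' : (p ^ B - 1) * (p ^ B + 1) ∣ p ^ b1 * (p ^ b1 - 1) * (p ^ b1 + 1) := by
      refine Dvd.dvd.trans ?_ hdd
      exact ⟨p ^ B, by ring⟩
    have hBb := m5_H5 hp.out hB1 hb1 hR hr1 (by rw [← hfBR, ← hfb1]) hdd'
    rw [hB, hBb] at hd
    rw [hb1c] at hN
    omega
  · exfalso
    apply m5_H678 hp.out hf3 hf
    rcases hqp' with h | ⟨h, -⟩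
    · left; exact h
    · right; exact h
  · exact (m5_H678 hp.out hf3 hf (Or.inl hqp')).elim
  · exact (m5_H678 hp.out hf3 hf (Or.inl hqp')).elim

end Cfsg.Agent.Helper12.PGLInf
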