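import Mathlib
import Cfsg.Agent.Lib.Helper12.PGLInfG
import Cfsg.Agent.S5892

set_option autoImplicit false
set_option linter.unusedVariables false
set_option linter.unusedSectionVars false
set_option linter.style.haveILetI false

/-! Intersections of maximal subgroups of `PGL₂(q)` with `PSL₂(q)`: the theorem. -/

namespace Cfsg.Agent.Helper12.PGLInf

open Matrix
open scoped MatrixGroups
open Cfsg.Agent.Helper12.MaxSub
open Cfsg.Agent.Helper12.PGLMax
open Cfsg.Agent.Helper12.PSL2Max (card_A4 card_A5 card_S4 card_PGL2')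

variable {F : Type*} [Field F] [Fintype F]

local notation "GG" => Matrix.ProjGenLinGroup (Fin 2) F
local notation "PP" => Matrix.ProjectiveSpecialLinearGroup (Fin 2) F
local notation "toP" => Matrix.ProjectiveSpecialLinearGroup.toPGL (n := Fin 2) (R := F)

theorem main_odd (hodd : Odd (Fintype.card F)) (h5 : 5 ≤ Fintype.card F)
    (h7 : Fintype.card F ≠ 7) (h9 : Fintype.card F ≠ 9) (h11 : Fintype.card F ≠ 11)
    (h40 : (Fintype.card F).Prime → Fintype.card F % 40 ∉ ({11, 19, 21, 29} : Finset ℕ))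
    (M : Subgroup GG) (hM : IsCoatom M) (hML : ¬ Lsub F ≤ M) : IsCoatom (M.comap toP) := by
  obtain ⟨p, hp⟩ := CharP.exists F
  haveI := hp
  haveI : Fact p.Prime := ⟨CharP.char_is_prime F p⟩
  obtain ⟨f, -, hf⟩ := FiniteField.card F p
  have hq2 := Nat.odd_iff.1 hodd
  set D := M.comap toP with hD
  have hDne : D ≠ ⊤ := by
    intro h
    apply hML
    intro x hx
    obtain ⟨y, rfl⟩ := (mem_Lsub_iff_range x).1 hx
    have : y ∈ D := by rw [h]; trivial
    exact this
  obtain ⟨H, hH, hDH⟩ := (eq_top_or_exists_le_coatom D).resolve_left hDne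
  suffices hcard : Nat.card H ≤ Nat.card D by
    have : D = H := Subgroup.eq_of_le_of_card_ge hDH hcard
    rw [this]; exact hH
  have hHt : Concl F p H := Cfsg.Agent.S5892.result p hodd h5 H hH
  have hMt := Cfsg.Agent.Helper12.PGLMax.main hodd (by omega) M hM hML
  have hc2 : 2 * Nat.card D = Nat.card M := two_mul_card_comap hodd M hM hML
  rcases hMt with hm | ⟨hq5, ⟨e⟩⟩ | ⟨⟨e⟩⟩ | ⟨hqp, hq8, ⟨e⟩⟩ | ⟨F0, _, _, R, hR, hRo, hq, ⟨e⟩⟩
  · exact caseM1 p hodd h5 h7 h9 h11 H hHt D hDH (by rw [hc2, hm])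
  · have hMc : Nat.card M = 2 * (Fintype.card F - 1) := by
      rw [Nat.card_congr e.toEquiv, DihedralGroup.nat_card]
    obtain ⟨y, hy, hyo⟩ := exists_orderOf_of_dihedral hodd M (Fintype.card F - 1)
      ⟨(Fintype.card F - 1) / 2, by omega⟩ e
    exact caseM2 p hodd h5 h7 h9 h11 hf H hHt D hDH hq5 (by omega) y hy hyo
  · have hMc : Nat.card M = 2 * (Fintype.card F + 1) := by
      rw [Nat.card_congr e.toEquiv, DihedralGroup.nat_card]
    obtain ⟨y, hy, hyo⟩ := exists_orderOf_of_dihedral hodd M (Fintype.card F + 1)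
      ⟨(Fintype.card F + 1) / 2, by omega⟩ e
    exact caseM3 p hodd h5 h7 h9 h11 hf H hHt D hDH (by omega) y hy hyo
  · have hMc : Nat.card M = 24 := by rw [Nat.card_congr e.toEquiv, card_S4]
    obtain ⟨a, b, ha, hb, ha3, hb3, hab⟩ := exists_pair_of_S4 hodd M e
    have h40' := h40 hqp
    simp only [Finset.mem_insert, Finset.mem_singleton, not_or] at h40'
    have hq10 : ¬ (Fintype.card F % 10 = 1 ∨ Fintype.card F % 10 = 9) := by omega
    exact caseM4 p hodd h5 H hHt D hDH hqp hq8 hq10 (by omega) a b ha hb ha3 hb3 hab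
  · have hMc : Nat.card M =
        Fintype.card F0 * (Fintype.card F0 - 1) * (Fintype.card F0 + 1) := by
      rw [Nat.card_congr e.toEquiv]; exact card_PGL2' F0 rfl
    exact caseM5 p hodd h5 hf H hHt D hDH F0 R hR hRo hq (by rw [hc2, hMc])

/-- **the intersection of a maximal subgroup of `PGL₂(q)` with `PSL₂(q)`** -/
theorem main (h4 : 4 ≤ Fintype.card F) (h7 : Fintype.card F ≠ 7) (h9 : Fintype.card F ≠ 9)
    (h11 : Fintype.card F ≠ 11)
    (h40 : (Fintype.card F).Prime → Fintype.card F % 40 ∉ ({11, 19, 21, 29} : Finset ℕ))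
    (M : Subgroup GG) (hM : IsCoatom M) (hML : ¬ Lsub F ≤ M) :
    IsCoatom ((M ⊓ Lsub F).subgroupOf (Lsub F)) := by
  by_cases heven : Fintype.card F % 2 = 0
  · exact isCoatom_of_Lsub_top (Lsub_top_of_even heven) M hM
  · have hodd : Odd (Fintype.card F) := Nat.odd_iff.2 (by omega)
    exact isCoatom_inf_subgroupOf M (main_odd hodd (by omega) h7 h9 h11 h40 M hM hML)

end Cfsg.Agent.Helper12.PGLInf
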