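import Mathlib

set_option autoImplicit false

/-! A symmetric 2-cocycle with zero diagonal on a vector space over the field with two
elements is a coboundary. -/

namespace Cfsg.Agent.Helper12.PL

variable {V : Type*} [AddCommGroup V] [Module (ZMod 2) V]

/-- The underlying type of the extension of `V` by `ZMod 2` attached to a cocycle. -/
structure Ext (ψ : V → V → ZMod 2) where
  a : ZMod 2
  x : V

namespace Ext

variable {ψ : V → V → ZMod 2}

theorem ext' {u v : Ext ψ} (h1 : u.a = v.a) (h2 : u.x = v.x) : u = v := by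
  cases u; cases v; simp_all

theorem z2_add_self (a : ZMod 2) : a + a = 0 := by revert a; decide

theorem v_add_self (x : V) : x + x = 0 := by
  have h : (2 : ZMod 2) = 0 := by decide
  rw [← two_smul (ZMod 2) x, h, zero_smul]

instance : Add (Ext ψ) := ⟨fun u v => ⟨u.a + v.a + ψ u.x v.x, u.x + v.x⟩⟩
instance : Zero (Ext ψ) := ⟨⟨0, 0⟩⟩
instance : Neg (Ext ψ) := ⟨fun u => u⟩

theorem add_a (u v : Ext ψ) : (u + v).a = u.a + v.a + ψ u.x v.x := rfl
theorem add_x (u v : Ext ψ) : (u + v).x = u.x + v.x := rfl

/-- The group structure of the extension. -/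
@[reducible] def addCommGroup
    (hs : ∀ x y, ψ x y = ψ y x)
    (hc : ∀ x y z, ψ x y + ψ (x + y) z = ψ y z + ψ x (y + z))
    (hd : ∀ x, ψ x x = 0) : AddCommGroup (Ext ψ) :=
  have h0 : ∀ z, ψ 0 z = 0 := by
    intro z
    have h1 := hc 0 0 z
    rw [add_zero, zero_add, hd 0, zero_add] at h1
    -- h1 : ψ 0 z = ψ 0 z + ψ 0 z
    rw [z2_add_self] at h1
    exact h1
  { AddGroup.ofLeftAxioms (G := Ext ψ)
      (by
        intro u v w
        apply ext'
        · show u.a + v.a + ψ u.x v.x + w.a + ψ (u.x + v.x) w.x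
            = u.a + (v.a + w.a + ψ v.x w.x) + ψ u.x (v.x + w.x)
          have := hc u.x v.x w.x
          calc u.a + v.a + ψ u.x v.x + w.a + ψ (u.x + v.x) w.x
              = u.a + v.a + w.a + (ψ u.x v.x + ψ (u.x + v.x) w.x) := by ring
            _ = u.a + v.a + w.a + (ψ v.x w.x + ψ u.x (v.x + w.x)) := by rw [this]
            _ = _ := by ring
        · exact add_assoc _ _ _)
      (by
        intro u
        apply ext'
        · show (0 : ZMod 2) + u.a + ψ 0 u.x = u.a
          rw [h0, zero_add, add_zero]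
        · exact zero_add _)
      (by
        intro u
        apply ext'
        · show u.a + u.a + ψ u.x u.x = 0
          rw [hd, z2_add_self, add_zero]
        · exact v_add_self _) with
    add_comm := by
      intro u v
      apply ext'
      · show u.a + v.a + ψ u.x v.x = v.a + u.a + ψ v.x u.x
        rw [hs u.x v.x, add_comm u.a]
      · exact add_comm _ _ }

end Ext

/-- A symmetric 2-cocycle with zero diagonal is a coboundary. -/
theorem exists_coboundary (ψ : V → V → ZMod 2)
    (hs : ∀ x y, ψ x y = ψ y x)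
    (hc : ∀ x y z, ψ x y + ψ (x + y) z = ψ y z + ψ x (y + z))
    (hd : ∀ x, ψ x x = 0) :
    ∃ q : V → ZMod 2, ∀ x y, q (x + y) = q x + q y + ψ x y := by
  let inst : AddCommGroup (Ext ψ) := Ext.addCommGroup hs hc hd
  have h2 : ∀ u : Ext ψ, 2 • u = 0 := by
    intro u
    rw [two_nsmul]
    exact neg_add_cancel u
  let instM : Module (ZMod 2) (Ext ψ) := AddCommGroup.zmodModule h2
  let π₀ : Ext ψ →+ V :=
    { toFun := fun u => u.x
      map_zero' := rfl
      map_add' := fun _ _ => rfl }
  let π : Ext ψ →ₗ[ZMod 2] V := π₀.toZModLinearMap 2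
  have hsurj : LinearMap.range π = ⊤ := by
    rw [LinearMap.range_eq_top]
    intro x
    exact ⟨⟨0, x⟩, rfl⟩
  obtain ⟨s, hs'⟩ := π.exists_rightInverse_of_surjective hsurj
  have hsx : ∀ x, (s x).x = x := by
    intro x
    have := LinearMap.congr_fun hs' x
    exact this
  refine ⟨fun x => (s x).a, fun x y => ?_⟩
  have h := s.map_add x y
  have h1 : (s (x + y)).a = (s x + s y).a := by rw [h]
  show (s (x + y)).a = (s x).a + (s y).a + ψ x y
  rw [h1]
  show (s x).a + (s y).a + ψ (s x).x (s y).x = _
  rw [hsx, hsx]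

end Cfsg.Agent.Helper12.PL
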