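import Mathlib
import Cfsg.Agent.Lib.Helper27.GolayWeights

set_option autoImplicit false
open Cfsg

/-! Bit-mask level definitions and brute-force checks for the cocycle of Parker type. -/

namespace Cfsg.Agent.Helper12.PL

open Cfsg.Agent.Helper27

/-- masks of the coordinate functionals -/
def lm (i : ℕ) : ℕ := [3941, 1328, 2656, 95, 190, 3609, 1992, 245, 490, 3249, 3581].getD i 0

/-- masks of the basis words -/
def bm (i : ℕ) : ℕ :=
  [340831, 681662, 1363324, 2726648, 5453296, 2517985, 5035970, 1683333, 3366666, 6733332,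
    5078057].getD i 0

/-- force evaluation of the first argument -/
def strictN {β : Type} (m : ℕ) (f : ℕ → β) : β :=
  match m with
  | 0 => f 0
  | k + 1 => f (k + 1)

theorem strictN_eq {β : Type} (m : ℕ) (f : ℕ → β) : strictN m f = f m := by
  cases m <;> rfl

/-- a bounded universal check -/
def allBelow (P : ℕ → Bool) : ℕ → Bool
  | 0 => true
  | n + 1 => P n && allBelow P n

theorem allBelow_spec (P : ℕ → Bool) : ∀ N : ℕ, allBelow P N = true → ∀ n < N, P n = true := by
  intro N
  induction N with
  | zero => intro _ n hn; exact absurd hn (Nat.not_lt_zero n)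
  | succ N ih =>
    intro h n hn
    rw [allBelow, Bool.and_eq_true] at h
    rcases Nat.lt_succ_iff_lt_or_eq.mp hn with h1 | rfl
    · exact ih h.2 n h1
    · exact h.1

def sumTo (f : ℕ → ℕ) : ℕ → ℕ
  | 0 => 0
  | n + 1 => sumTo f n + f n

theorem sumTo_eq (f : ℕ → ℕ) (n : ℕ) : sumTo f n = ∑ i ∈ Finset.range n, f i := by
  induction n with
  | zero => rfl
  | succ n ih => rw [sumTo, ih, Finset.sum_range_succ]

/-- the inner sum of the cocycle on masks -/
def tailM (i b : ℕ) : ℕ := sumTo (fun j => if i ≤ j then pop24 (lm j &&& b) else 0) 11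

/-- the cocycle on masks -/
def phiM (a b : ℕ) : ℕ :=
  (sumTo (fun i => (pop24 (lm i &&& a) % 2) * (pop24 (bm i &&& b) / 2 + tailM i b)) 11) % 2

theorem bm_eq_cw : ∀ i < 11, bm i = cw (2 ^ i) := by decide

set_option maxRecDepth 1000000 in
theorem top_bit_chk : allBelow (fun n => strictN (cw n) fun m => m.testBit 23 == n.testBit 11) 4096
    = true := by decide +kernel

set_option maxRecDepth 1000000 in
theorem coord_chk : allBelow (fun n => strictN (cw n) fun m =>
    allBelow (fun i => pop24 (lm i &&& m) % 2 == bit' n i) 11) 2048 = true := by decide +kernel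

set_option maxRecDepth 1000000 in
theorem diag_chk : allBelow (fun n => strictN (cw n) fun m =>
    phiM m m == (pop24 m / 4) % 2) 2048 = true := by decide +kernel

end Cfsg.Agent.Helper12.PL
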