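import Mathlib
import Cfsg.Agent.Lib.Helper27.GolayDual
import Cfsg.Agent.Lib.Helper27.GolayPerm
import Cfsg.Agent.Lib.Helper29.GolayCount
import Cfsg.Agent.Lib.Helper12.PLDefs

set_option autoImplicit false
open Cfsg

/-! A cocycle of Parker type on the words of the length-24 code that vanish at the extra
point. -/

namespace Cfsg.Agent.Helper12.PL

open Cfsg.Agent.Helper27 Cfsg.Agent.Helper27.GolayDual
open Cfsg.Agent.S0358 (idx)

abbrev W : Type := GolayPt → ZMod 2

/-- size of the intersection of the supports, as a natural number -/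
def I2 (x y : W) : ℕ := ∑ p, (x p).val * (y p).val

/-- size of the triple intersection of the supports -/
def I3 (x y z : W) : ℕ := ∑ p, (x p).val * (y p).val * (z p).val

/-- parity of the triple intersection -/
def T3 (x y z : W) : ZMod 2 := ∑ p, x p * y p * z p

theorem I2_cast (x y : W) : ((I2 x y : ℕ) : ZMod 2) = dot x y := by
  unfold I2 dot
  rw [Nat.cast_sum]
  apply Finset.sum_congr rfl
  intro p _
  rw [Nat.cast_mul, ZMod.natCast_zmod_val, ZMod.natCast_zmod_val]

theorem I3_cast (x y z : W) : ((I3 x y z : ℕ) : ZMod 2) = T3 x y z := by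
  unfold I3 T3
  rw [Nat.cast_sum]
  apply Finset.sum_congr rfl
  intro p _
  rw [Nat.cast_mul, Nat.cast_mul, ZMod.natCast_zmod_val, ZMod.natCast_zmod_val,
    ZMod.natCast_zmod_val]

theorem I2_comm (x y : W) : I2 x y = I2 y x := by
  unfold I2
  apply Finset.sum_congr rfl
  intro p _
  rw [mul_comm]

theorem I2_add (x y z : W) : I2 x (y + z) + 2 * I3 x y z = I2 x y + I2 x z := by
  unfold I2 I3
  rw [Finset.mul_sum, ← Finset.sum_add_distrib, ← Finset.sum_add_distrib]
  apply Finset.sum_congr rfl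
  intro p _
  have key : ∀ a b c : ZMod 2,
      a.val * (b + c).val + 2 * (a.val * b.val * c.val) = a.val * b.val + a.val * c.val := by
    decide
  exact key _ _ _

theorem I2_self_add (x y : W) : I2 (x + y) (x + y) + 2 * I2 x y = I2 x x + I2 y y := by
  unfold I2
  rw [Finset.mul_sum, ← Finset.sum_add_distrib, ← Finset.sum_add_distrib]
  apply Finset.sum_congr rfl
  intro p _
  have key : ∀ a b : ZMod 2,
      (a + b).val * (a + b).val + 2 * (a.val * b.val) = a.val * a.val + b.val * b.val := by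
    decide
  exact key _ _

theorem I2_self (x : W) : I2 x x = (support₂ x).card := by
  unfold I2 support₂
  rw [Finset.card_filter]
  apply Finset.sum_congr rfl
  intro p _
  have key : ∀ a : ZMod 2, a.val * a.val = if a ≠ 0 then 1 else 0 := by decide
  exact key _

theorem I2_perm (σ : Equiv.Perm GolayPt) (x y : W) :
    I2 (permWord σ x) (permWord σ y) = I2 x y := by
  unfold I2 permWord
  exact Equiv.sum_comp σ.symm (fun p => (x p).val * (y p).val)

theorem T3_perm (σ : Equiv.Perm GolayPt) (x y z : W) :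
    T3 (permWord σ x) (permWord σ y) (permWord σ z) = T3 x y z := by
  unfold T3 permWord
  exact Equiv.sum_comp σ.symm (fun p => x p * y p * z p)

theorem I2_ofMask (a b : ℕ) : I2 (ofMask a) (ofMask b) = pop24 (a &&& b) := by
  rw [← card_support₂_ofMask, ← I2_self]
  unfold I2
  apply Finset.sum_congr rfl
  intro p _
  rw [ofMask_and]
  have key : ∀ u v : ZMod 2, u.val * v.val = (u * v).val * (u * v).val := by decide
  exact key _ _

theorem T3_self_left (x y : W) : T3 x x y = dot x y := by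
  unfold T3 dot
  apply Finset.sum_congr rfl
  intro p _
  have key : ∀ a b : ZMod 2, a * a * b = a * b := by decide
  exact key _ _

theorem T3_self_mid (x y : W) : T3 y x y = dot x y := by
  unfold T3 dot
  apply Finset.sum_congr rfl
  intro p _
  have key : ∀ a b : ZMod 2, b * a * b = a * b := by decide
  exact key _ _

theorem T3_sum_left {ι : Type*} (s : Finset ι) (c : ι → ZMod 2) (B : ι → W) (y z : W) :
    T3 (∑ i ∈ s, c i • B i) y z = ∑ i ∈ s, c i * T3 (B i) y z := by
  unfold T3
  simp only [Finset.sum_apply, Pi.smul_apply, smul_eq_mul, Finset.sum_mul, Finset.mul_sum]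
  rw [Finset.sum_comm]
  apply Finset.sum_congr rfl
  intro i _
  apply Finset.sum_congr rfl
  intro p _
  ring

theorem z2_add_self (a : ZMod 2) : a + a = 0 := by revert a; decide

theorem even_I2 {x y : W} (hx : x ∈ golayCode) (hy : y ∈ golayCode) : 2 ∣ I2 x y := by
  have h := dot_code hx hy
  rw [← I2_cast, natCast_zmod2] at h
  exact Nat.dvd_of_mod_eq_zero h

theorem four_dvd_I2 {x : W} (hx : x ∈ golayCode) : 4 ∣ I2 x x := by
  rw [I2_self]
  exact golay_weight_dvd hx

/-- half the size of the intersection, modulo 2 -/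
def hfB (x y : W) : ZMod 2 := ((I2 x y / 2 : ℕ) : ZMod 2)

/-- a quarter of the weight, modulo 2 -/
def Pq (x : W) : ZMod 2 := ((I2 x x / 4 : ℕ) : ZMod 2)

theorem hfB_add {x y z : W} (hx : x ∈ golayCode) (hy : y ∈ golayCode) (hz : z ∈ golayCode) :
    hfB x (y + z) = hfB x y + hfB x z + T3 x y z := by
  have e := I2_add x y z
  obtain ⟨a, ha⟩ := even_I2 hx (golayCode.add_mem hy hz)
  obtain ⟨b, hb⟩ := even_I2 hx hy
  obtain ⟨c, hc⟩ := even_I2 hx hz
  have h1 : I2 x (y + z) / 2 + I3 x y z = I2 x y / 2 + I2 x z / 2 := by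
    rw [ha, hb, hc] at e ⊢
    omega
  have h2 : hfB x (y + z) + T3 x y z = hfB x y + hfB x z := by
    unfold hfB
    rw [← I3_cast, ← Nat.cast_add, h1, Nat.cast_add]
  calc hfB x (y + z) = hfB x (y + z) + (T3 x y z + T3 x y z) := by rw [z2_add_self, add_zero]
    _ = (hfB x (y + z) + T3 x y z) + T3 x y z := by ring
    _ = _ := by rw [h2]

theorem Pq_add {x y : W} (hx : x ∈ golayCode) (hy : y ∈ golayCode) :
    Pq (x + y) = Pq x + Pq y + hfB x y := by
  have e := I2_self_add x y
  obtain ⟨a, ha⟩ := four_dvd_I2 (golayCode.add_mem hx hy)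
  obtain ⟨b, hb⟩ := four_dvd_I2 hx
  obtain ⟨c, hc⟩ := four_dvd_I2 hy
  obtain ⟨d, hd⟩ := even_I2 hx hy
  have h1 : I2 (x + y) (x + y) / 4 + I2 x y / 2 = I2 x x / 4 + I2 y y / 4 := by
    rw [ha, hb, hc, hd] at e ⊢
    omega
  have h2 : Pq (x + y) + hfB x y = Pq x + Pq y := by
    unfold Pq hfB
    rw [← Nat.cast_add, h1, Nat.cast_add]
  calc Pq (x + y) = Pq (x + y) + (hfB x y + hfB x y) := by rw [z2_add_self, add_zero]
    _ = (Pq (x + y) + hfB x y) + hfB x y := by ring
    _ = _ := by rw [h2]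

theorem hfB_perm (σ : Equiv.Perm GolayPt) (x y : W) :
    hfB (permWord σ x) (permWord σ y) = hfB x y := by
  unfold hfB; rw [I2_perm]

theorem Pq_perm (σ : Equiv.Perm GolayPt) (x : W) : Pq (permWord σ x) = Pq x := by
  unfold Pq; rw [I2_perm]

/-! ### coordinates -/

def Lw (i : ℕ) : W := ofMask (lm i)
def Bw (i : ℕ) : W := ofMask (bm i)

/-- the `i`-th coordinate of a word -/
def co (i : ℕ) (x : W) : ZMod 2 := dot (Lw i) x

theorem dot_add_right (u v w : W) : dot u (v + w) = dot u v + dot u w := by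
  rw [dot_comm, dot_add_left, dot_comm v, dot_comm w]

theorem co_add (i : ℕ) (x y : W) : co i (x + y) = co i x + co i y := dot_add_right _ _ _

def tail (i : ℕ) (y : W) : ZMod 2 := ∑ j ∈ Finset.range 11, if i ≤ j then co j y else 0

theorem tail_add (i : ℕ) (x y : W) : tail i (x + y) = tail i x + tail i y := by
  unfold tail
  rw [← Finset.sum_add_distrib]
  apply Finset.sum_congr rfl
  intro j _
  split_ifs
  · exact co_add j x y
  · rw [add_zero]

/-- the cocycle -/
def phi (x y : W) : ZMod 2 := ∑ i ∈ Finset.range 11, co i x * (hfB (Bw i) y + tail i y)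

theorem phi_add_left (x x' y : W) : phi (x + x') y = phi x y + phi x' y := by
  unfold phi
  rw [← Finset.sum_add_distrib]
  apply Finset.sum_congr rfl
  intro i _
  rw [co_add, add_mul]

theorem Bw_mem (i : ℕ) (hi : i < 11) : Bw i ∈ golayCode := by
  unfold Bw
  rw [bm_eq_cw i hi]
  exact Cfsg.Agent.Helper29.cw_mem _

theorem phi_add_right_aux (x : W) {y z : W} (hy : y ∈ golayCode) (hz : z ∈ golayCode) :
    phi x (y + z) = phi x y + phi x z + ∑ i ∈ Finset.range 11, co i x * T3 (Bw i) y z := by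
  unfold phi
  rw [← Finset.sum_add_distrib, ← Finset.sum_add_distrib]
  apply Finset.sum_congr rfl
  intro i hi
  rw [hfB_add (Bw_mem i (Finset.mem_range.1 hi)) hy hz, tail_add]
  ring

/-! ### the words vanishing at the extra point -/

/-- membership in the shortened code -/
def InV0 (x : W) : Prop := x ∈ golayCode ∧ x none = 0

theorem exists_cw_of_InV0 {x : W} (hx : InV0 x) : ∃ n < 2048, x = ofMask (cw n) := by
  obtain ⟨n, hn, rfl⟩ := exists_cw_of_mem hx.1
  refine ⟨n, ?_, rfl⟩
  have h1 := allBelow_spec _ 4096 top_bit_chk n hn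
  rw [strictN_eq, beq_iff_eq] at h1
  have h2 := hx.2
  unfold ofMask at h2
  have h3 : (cw n).testBit 23 = false := by
    by_contra hne
    have : (cw n).testBit (idx none) = true := by
      have h23 : idx (none : GolayPt) = 23 := rfl
      rw [h23]
      simpa using hne
    rw [if_pos this] at h2
    exact one_ne_zero h2
  rw [h3] at h1
  by_contra hge
  have hge' : 2 ^ 11 ≤ n := by omega
  have : n.testBit 11 = true := by
    rw [Nat.testBit_eq_decide_div_mod_eq]
    have : n / 2 ^ 11 = 1 := by omega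
    rw [this]
    rfl
  rw [this] at h1
  exact Bool.noConfusion h1

theorem ofMask_bit_mul (n i M : ℕ) : ofMask (bit' n i * M) = ((bit' n i : ℕ) : ZMod 2) • ofMask M := by
  rcases bit'_le_one n i with h | h
  · rw [h, zero_mul, ofMask_zero, Nat.cast_zero, zero_smul]
  · rw [h, one_mul, Nat.cast_one, one_smul]

theorem bit'_eleven {n : ℕ} (hn : n < 2048) : bit' n 11 = 0 := by
  unfold bit'
  have : n >>> 11 = 0 := by
    rw [Nat.shiftRight_eq_div_pow]
    exact Nat.div_eq_of_lt hn
  rw [this]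
  rfl

theorem ofMask_cw_eq {n : ℕ} (hn : n < 2048) :
    ofMask (cw n) = ∑ i ∈ Finset.range 11, ((bit' n i : ℕ) : ZMod 2) • Bw i := by
  unfold cw
  simp only [ofMask_xor, ofMask_bit_mul, Finset.sum_range_succ, Finset.range_zero,
    Finset.sum_empty, zero_add]
  rw [bit'_eleven hn, Nat.cast_zero, zero_smul, add_zero]
  rfl

theorem natCast_mod_two (n : ℕ) : ((n % 2 : ℕ) : ZMod 2) = (n : ZMod 2) := by
  rw [ZMod.natCast_mod]

theorem co_ofMask (i m : ℕ) : co i (ofMask m) = ((pop24 (lm i &&& m) : ℕ) : ZMod 2) := by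
  unfold co Lw
  rw [dot_ofMask]

theorem co_cw {n : ℕ} (hn : n < 2048) {i : ℕ} (hi : i < 11) :
    co i (ofMask (cw n)) = ((bit' n i : ℕ) : ZMod 2) := by
  have h1 := allBelow_spec _ 2048 coord_chk n hn
  rw [strictN_eq] at h1
  have h2 := allBelow_spec _ 11 h1 i hi
  rw [beq_iff_eq] at h2
  rw [co_ofMask, ← natCast_mod_two, h2]

theorem eq_sum_co {x : W} (hx : InV0 x) : x = ∑ i ∈ Finset.range 11, co i x • Bw i := by
  obtain ⟨n, hn, rfl⟩ := exists_cw_of_InV0 hx
  conv_lhs => rw [ofMask_cw_eq hn]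
  apply Finset.sum_congr rfl
  intro i hi
  rw [co_cw hn (Finset.mem_range.1 hi)]

theorem phi_add_right {x y z : W} (hx : InV0 x) (hy : y ∈ golayCode) (hz : z ∈ golayCode) :
    phi x (y + z) = phi x y + phi x z + T3 x y z := by
  rw [phi_add_right_aux x hy hz]
  have h : ∑ i ∈ Finset.range 11, co i x * T3 (Bw i) y z = T3 x y z := by
    conv_rhs => rw [eq_sum_co hx]
    rw [T3_sum_left]
  rw [h]

/-! ### the mask version of the cocycle -/

theorem tail_ofMask (i b : ℕ) : tail i (ofMask b) = ((tailM i b : ℕ) : ZMod 2) := by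
  unfold tail tailM
  rw [sumTo_eq, Nat.cast_sum]
  apply Finset.sum_congr rfl
  intro j _
  split_ifs
  · rw [co_ofMask]
  · rw [Nat.cast_zero]

theorem hfB_Bw_ofMask (i b : ℕ) : hfB (Bw i) (ofMask b) = ((pop24 (bm i &&& b) / 2 : ℕ) : ZMod 2) := by
  unfold hfB Bw
  rw [I2_ofMask]

theorem phi_ofMask (a b : ℕ) : phi (ofMask a) (ofMask b) = ((phiM a b : ℕ) : ZMod 2) := by
  unfold phi phiM
  rw [natCast_mod_two, sumTo_eq, Nat.cast_sum]
  apply Finset.sum_congr rfl
  intro i _
  rw [Nat.cast_mul, natCast_mod_two, co_ofMask, Nat.cast_add, hfB_Bw_ofMask, tail_ofMask]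

theorem Pq_ofMask (a : ℕ) : Pq (ofMask a) = (((pop24 a / 4) % 2 : ℕ) : ZMod 2) := by
  unfold Pq
  rw [I2_ofMask, Nat.and_self, natCast_mod_two]

theorem phi_self {x : W} (hx : InV0 x) : phi x x = Pq x := by
  obtain ⟨n, hn, rfl⟩ := exists_cw_of_InV0 hx
  have h1 := allBelow_spec _ 2048 diag_chk n hn
  rw [strictN_eq, beq_iff_eq] at h1
  rw [phi_ofMask, Pq_ofMask, h1]

theorem InV0.add {x y : W} (hx : InV0 x) (hy : InV0 y) : InV0 (x + y) :=
  ⟨golayCode.add_mem hx.1 hy.1, by rw [Pi.add_apply, hx.2, hy.2, add_zero]⟩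

theorem InV0.zero : InV0 (0 : W) := ⟨golayCode.zero_mem, rfl⟩

theorem phi_symm {x y : W} (hx : InV0 x) (hy : InV0 y) : phi x y + phi y x = hfB x y := by
  have h1 := phi_self (hx.add hy)
  rw [phi_add_left, phi_add_right hx hx.1 hy.1, phi_add_right hy hx.1 hy.1, phi_self hx,
    phi_self hy, T3_self_left, T3_self_mid, dot_code hx.1 hy.1, Pq_add hx.1 hy.1] at h1
  -- h1 : Pq x + phi x y + 0 + (phi y x + Pq y + 0) = Pq x + Pq y + hfB x y
  have h2 : phi x y + phi y x = (Pq x + phi x y + 0 + (phi y x + Pq y + 0)) + (Pq x + Pq y) := by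
    have e1 := z2_add_self (Pq x)
    have e2 := z2_add_self (Pq y)
    calc phi x y + phi y x = phi x y + phi y x + (Pq x + Pq x) + (Pq y + Pq y) := by
          rw [e1, e2, add_zero, add_zero]
      _ = _ := by ring
  rw [h2, h1]
  calc Pq x + Pq y + hfB x y + (Pq x + Pq y) = (Pq x + Pq x) + (Pq y + Pq y) + hfB x y := by ring
    _ = hfB x y := by rw [z2_add_self, z2_add_self, zero_add, zero_add]

theorem phi_zero_left (y : W) : phi 0 y = 0 := by
  have h := phi_add_left 0 0 y
  rw [add_zero] at h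
  have h2 := z2_add_self (phi 0 y)
  rw [← h] at h2
  exact h2

theorem phi_zero_right {x : W} (hx : InV0 x) : phi x 0 = 0 := by
  have h := phi_add_right hx golayCode.zero_mem golayCode.zero_mem
  rw [add_zero] at h
  have h3 : T3 x 0 0 = 0 := by
    unfold T3
    simp
  rw [h3, add_zero] at h
  have h2 := z2_add_self (phi x 0)
  rw [← h] at h2
  exact h2

end Cfsg.Agent.Helper12.PL
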