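import Mathlib
import Cfsg.Prelude.Def_Spor_Mathieu
import Cfsg.Agent.Lib.Helper12.PLCocycle
import Cfsg.Agent.Lib.Helper12.PLPhi

set_option autoImplicit false
open Cfsg

/-! The extension of the point stabilizer of the group of the length-24 code by the dual of the
shortened code, defined by the cocycle of Parker type. -/

namespace Cfsg.Agent.Helper12.PL

open Cfsg.Agent.Helper27 Cfsg.Agent.Helper27.GolayDual

/-- the shortened code -/
def V0 : Submodule (ZMod 2) W where
  carrier := {w | InV0 w}
  add_mem' := fun ha hb => InV0.add ha hb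
  zero_mem' := InV0.zero
  smul_mem' := by
    intro c x hx
    refine ⟨golayCode.smul_mem c hx.1, ?_⟩
    show c • x none = 0
    rw [hx.2, smul_zero]

theorem V0_inV0 (x : V0) : InV0 x.1 := x.2

theorem M23_mem_M24 (σ : ↥Spor.M23) : σ.1 ∈ M24 := (Subgroup.mem_inf.1 σ.2).1

theorem M23_fix (σ : ↥Spor.M23) : σ.1 none = none :=
  MulAction.mem_stabilizer_iff.1 (Subgroup.mem_inf.1 σ.2).2

theorem M23_symm_fix (σ : ↥Spor.M23) : σ.1.symm none = none := by
  rw [Equiv.symm_apply_eq, M23_fix]

theorem InV0_perm (σ : ↥Spor.M23) {x : W} (hx : InV0 x) : InV0 (permWord σ.1 x) := by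
  refine ⟨permWord_mem_of_mem_M24 (M23_mem_M24 σ) hx.1, ?_⟩
  show x (σ.1.symm none) = 0
  rw [M23_symm_fix]
  exact hx.2

/-- the action on the shortened code -/
def act (σ : ↥Spor.M23) (x : V0) : V0 := ⟨permWord σ.1 x.1, InV0_perm σ x.2⟩

theorem act_val (σ : ↥Spor.M23) (x : V0) : (act σ x).1 = permWord σ.1 x.1 := rfl

theorem act_one (x : V0) : act 1 x = x := Subtype.ext rfl

theorem act_mul (σ τ : ↥Spor.M23) (x : V0) : act (σ * τ) x = act σ (act τ x) := Subtype.ext rfl

theorem act_add (σ : ↥Spor.M23) (x y : V0) : act σ (x + y) = act σ x + act σ y := Subtype.ext rfl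

theorem act_inv_act (σ : ↥Spor.M23) (x : V0) : act σ⁻¹ (act σ x) = x := by
  rw [← act_mul, inv_mul_cancel, act_one]

theorem act_act_inv (σ : ↥Spor.M23) (x : V0) : act σ (act σ⁻¹ x) = x := by
  rw [← act_mul, mul_inv_cancel, act_one]

/-- the cocycle on the shortened code -/
def phiV (x y : V0) : ZMod 2 := phi x.1 y.1

theorem phiV_add_left (x x' y : V0) : phiV (x + x') y = phiV x y + phiV x' y :=
  phi_add_left _ _ _

theorem phiV_add_right (x y z : V0) : phiV x (y + z) = phiV x y + phiV x z + T3 x.1 y.1 z.1 :=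
  phi_add_right x.2 y.2.1 z.2.1

theorem phiV_symm (x y : V0) : phiV x y = phiV y x + hfB x.1 y.1 := by
  have h := phi_symm x.2 y.2
  unfold phiV
  rw [← h]
  calc phi x.1 y.1 = phi x.1 y.1 + (phi y.1 x.1 + phi y.1 x.1) := by rw [z2_add_self, add_zero]
    _ = _ := by ring

theorem phiV_self (x : V0) : phiV x x = Pq x.1 := phi_self x.2

theorem phiV_three (a b c : V0) :
    phiV a b + phiV (a + b) c = phiV b c + phiV a (b + c) + T3 a.1 b.1 c.1 := by
  rw [phiV_add_left, phiV_add_right]
  have e := z2_add_self (T3 a.1 b.1 c.1)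
  calc phiV a b + (phiV a c + phiV b c)
      = phiV b c + (phiV a b + phiV a c) + (T3 a.1 b.1 c.1 + T3 a.1 b.1 c.1) := by
        rw [e]; ring
    _ = _ := by ring

/-- the twisted difference of the cocycle -/
def psiV (σ : ↥Spor.M23) (x y : V0) : ZMod 2 := phiV (act σ x) (act σ y) + phiV x y

theorem psiV_symm (σ : ↥Spor.M23) (x y : V0) : psiV σ x y = psiV σ y x := by
  unfold psiV
  rw [phiV_symm (act σ x) (act σ y), phiV_symm x y, act_val, act_val, hfB_perm]
  have e := z2_add_self (hfB x.1 y.1)
  calc phiV (act σ y) (act σ x) + hfB x.1 y.1 + (phiV y x + hfB x.1 y.1)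
      = phiV (act σ y) (act σ x) + phiV y x + (hfB x.1 y.1 + hfB x.1 y.1) := by ring
    _ = _ := by rw [e, add_zero]

theorem psiV_cocycle (σ : ↥Spor.M23) (x y z : V0) :
    psiV σ x y + psiV σ (x + y) z = psiV σ y z + psiV σ x (y + z) := by
  unfold psiV
  have h1 := phiV_three x y z
  have h2 := phiV_three (act σ x) (act σ y) (act σ z)
  rw [act_val, act_val, act_val, T3_perm, ← act_add, ← act_add] at h2
  have e := z2_add_self (T3 x.1 y.1 z.1)
  calc phiV (act σ x) (act σ y) + phiV x y + (phiV (act σ (x + y)) (act σ z) + phiV (x + y) z)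
      = (phiV (act σ x) (act σ y) + phiV (act σ (x + y)) (act σ z))
        + (phiV x y + phiV (x + y) z) := by ring
    _ = (phiV (act σ y) (act σ z) + phiV (act σ x) (act σ (y + z)) + T3 x.1 y.1 z.1)
        + (phiV y z + phiV x (y + z) + T3 x.1 y.1 z.1) := by rw [h1, h2]
    _ = phiV (act σ y) (act σ z) + phiV y z + (phiV (act σ x) (act σ (y + z)) + phiV x (y + z))
        + (T3 x.1 y.1 z.1 + T3 x.1 y.1 z.1) := by ring
    _ = _ := by rw [e, add_zero]

theorem psiV_diag (σ : ↥Spor.M23) (x : V0) : psiV σ x x = 0 := by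
  unfold psiV
  rw [phiV_self, phiV_self, act_val, Pq_perm, z2_add_self]

theorem psiV_one (x y : V0) : psiV 1 x y = 0 := by
  unfold psiV
  rw [act_one, act_one, z2_add_self]

theorem psiV_mul (σ τ : ↥Spor.M23) (x y : V0) :
    psiV (σ * τ) x y = psiV σ (act τ x) (act τ y) + psiV τ x y := by
  unfold psiV
  rw [act_mul, act_mul]
  have e := z2_add_self (phiV (act τ x) (act τ y))
  calc phiV (act σ (act τ x)) (act σ (act τ y)) + phiV x y
      = phiV (act σ (act τ x)) (act σ (act τ y)) + phiV x y
        + (phiV (act τ x) (act τ y) + phiV (act τ x) (act τ y)) := by rw [e, add_zero]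
    _ = _ := by ring

theorem psiV_inv (σ : ↥Spor.M23) (x y : V0) :
    psiV σ (act σ⁻¹ x) (act σ⁻¹ y) = psiV σ⁻¹ x y := by
  have h := psiV_mul σ σ⁻¹ x y
  rw [mul_inv_cancel, psiV_one] at h
  have e := z2_add_self (psiV σ⁻¹ x y)
  calc psiV σ (act σ⁻¹ x) (act σ⁻¹ y)
      = psiV σ (act σ⁻¹ x) (act σ⁻¹ y) + (psiV σ⁻¹ x y + psiV σ⁻¹ x y) := by rw [e, add_zero]
    _ = (psiV σ (act σ⁻¹ x) (act σ⁻¹ y) + psiV σ⁻¹ x y) + psiV σ⁻¹ x y := by ring
    _ = _ := by rw [← h, zero_add]

/-- the extension -/
structure EG where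
  s : ↥Spor.M23
  q : V0 → ZMod 2
  hq : ∀ x y, q (x + y) = q x + q y + psiV s x y

namespace EG

theorem ext' {a b : EG} (h1 : a.s = b.s) (h2 : a.q = b.q) : a = b := by
  cases a; cases b; simp_all

instance : Mul EG :=
  ⟨fun a b => ⟨a.s * b.s, fun x => b.q x + a.q (act b.s x), by
    intro x y
    rw [b.hq, act_add, a.hq, psiV_mul]
    ring⟩⟩

instance : One EG := ⟨⟨1, fun _ => 0, by intro x y; rw [psiV_one]; ring⟩⟩

instance : Inv EG :=
  ⟨fun a => ⟨a.s⁻¹, fun x => a.q (act a.s⁻¹ x), by
    intro x y
    rw [act_add, a.hq, psiV_inv]⟩⟩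

theorem mul_s (a b : EG) : (a * b).s = a.s * b.s := rfl
theorem mul_q (a b : EG) (x : V0) : (a * b).q x = b.q x + a.q (act b.s x) := rfl
theorem one_s : (1 : EG).s = 1 := rfl
theorem one_q (x : V0) : (1 : EG).q x = 0 := rfl
theorem inv_s (a : EG) : a⁻¹.s = a.s⁻¹ := rfl
theorem inv_q (a : EG) (x : V0) : a⁻¹.q x = a.q (act a.s⁻¹ x) := rfl

instance : Group EG :=
  Group.ofLeftAxioms
    (by
      intro a b c
      apply ext'
      · exact mul_assoc _ _ _
      · funext x
        rw [mul_q, mul_q, mul_q, mul_q, mul_s, act_mul]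
        ring)
    (by
      intro a
      apply ext'
      · exact one_mul _
      · funext x
        rw [mul_q, one_q, add_zero])
    (by
      intro a
      apply ext'
      · exact inv_mul_cancel _
      · funext x
        rw [mul_q, inv_q, act_inv_act, one_q, z2_add_self])

/-- the projection onto the point stabilizer -/
def pr : EG →* ↥Spor.M23 where
  toFun a := a.s
  map_one' := rfl
  map_mul' _ _ := rfl

theorem pr_apply (a : EG) : pr a = a.s := rfl

theorem pr_surjective : Function.Surjective pr := by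
  intro σ
  obtain ⟨q, hq⟩ := exists_coboundary (psiV σ) (psiV_symm σ) (psiV_cocycle σ) (psiV_diag σ)
  exact ⟨⟨σ, q, hq⟩, rfl⟩

instance : Finite EG := by
  have hinj : Function.Injective (fun a : EG => (a.s, a.q)) := by
    intro a b h
    have h1 : a.s = b.s := congrArg Prod.fst h
    have h2 : a.q = b.q := congrArg Prod.snd h
    exact ext' h1 h2
  exact Finite.of_injective _ hinj

end EG

open EG

/-- the kernel -/
abbrev NG : Subgroup EG := EG.pr.ker

theorem mem_NG (a : EG) : a ∈ NG ↔ a.s = 1 := MonoidHom.mem_ker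

theorem dot_zero_left (x : W) : dot 0 x = 0 := by
  unfold dot
  simp

/-- the element of the kernel attached to a word -/
def thetaE (w : W) : EG := ⟨1, fun x => dot w x.1, by
  intro x y
  rw [psiV_one, add_zero]
  exact dot_add_right _ _ _⟩

theorem thetaE_s (w : W) : (thetaE w).s = 1 := rfl
theorem thetaE_q (w : W) (x : V0) : (thetaE w).q x = dot w x.1 := rfl

theorem thetaE_mem (w : W) : thetaE w ∈ NG := (mem_NG _).2 rfl

theorem thetaE_zero : thetaE 0 = 1 := by
  apply EG.ext'
  · rfl
  · funext x
    rw [thetaE_q, one_q, dot_zero_left]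

theorem thetaE_add (w w' : W) : thetaE (w + w') = thetaE w * thetaE w' := by
  apply EG.ext'
  · rw [mul_s, thetaE_s, thetaE_s, thetaE_s, mul_one]
  · funext x
    rw [mul_q, thetaE_q, thetaE_q, thetaE_q, thetaE_s, act_one, dot_add_left, add_comm]

/-- the map from words onto the kernel, multiplicatively -/
def thetaN (w : W) : ↥NG := ⟨thetaE w, thetaE_mem w⟩

theorem thetaN_zero : thetaN 0 = 1 := Subtype.ext thetaE_zero

theorem thetaN_add (w w' : W) : thetaN (w + w') = thetaN w * thetaN w' :=
  Subtype.ext (thetaE_add w w')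

/-- the map from words onto the kernel -/
def theta : W →+ Additive ↥NG where
  toFun w := Additive.ofMul (thetaN w)
  map_zero' := congrArg Additive.ofMul thetaN_zero
  map_add' w w' := congrArg Additive.ofMul (thetaN_add w w')

theorem theta_apply (w : W) : theta w = Additive.ofMul (thetaN w) := rfl

theorem theta_val (w : W) : (((theta w).toMul : ↥NG) : EG) = thetaE w := rfl

theorem theta_eq_zero_iff (w : W) : theta w = 0 ↔ ∀ x : V0, dot w x.1 = 0 := by
  constructor
  · intro h x
    have h1 : (((theta w).toMul : ↥NG) : EG) = 1 := by rw [h]; rfl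
    rw [theta_val] at h1
    rw [← thetaE_q, h1, one_q]
  · intro h
    rw [theta_apply]
    apply congrArg Additive.ofMul
    apply Subtype.ext
    apply EG.ext'
    · rfl
    · funext x
      show (thetaE w).q x = (1 : EG).q x
      rw [thetaE_q, h x, one_q]

theorem dot_single_none (c : W) : dot (Pi.single none 1) c = c none := by
  unfold dot
  rw [Finset.sum_eq_single none]
  · rw [Pi.single_eq_same, one_mul]
  · intro p _ hp
    rw [Pi.single_eq_of_ne hp, zero_mul]
  · intro h
    exact absurd (Finset.mem_univ _) h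

theorem theta_kernel (w : W) :
    theta w = 0 ↔ (w ∈ golayCode ∨ w + Pi.single none 1 ∈ golayCode) := by
  rw [theta_eq_zero_iff]
  constructor
  · intro h
    have hu : (1 : W) ∈ golayCode := one_mem_golayCode
    have key : ∀ c ∈ golayCode, dot w c = c none * dot w 1 := by
      intro c hc
      have hc' : InV0 (c + c none • (1 : W)) := by
        refine ⟨golayCode.add_mem hc (golayCode.smul_mem _ hu), ?_⟩
        show c none + c none • (1 : ZMod 2) = 0
        rw [smul_eq_mul, mul_one, z2_add_self]
      have h1 := h ⟨_, hc'⟩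
      rw [dot_add_right] at h1
      have h2 : dot w (c none • (1 : W)) = c none * dot w 1 := by
        unfold dot
        rw [Finset.mul_sum]
        apply Finset.sum_congr rfl
        intro p _
        show w p * (c none • (1 : ZMod 2)) = c none * (w p * 1)
        rw [smul_eq_mul]; ring
      rw [h2] at h1
      have e := z2_add_self (c none * dot w 1)
      calc dot w c = dot w c + (c none * dot w 1 + c none * dot w 1) := by rw [e, add_zero]
        _ = (dot w c + c none * dot w 1) + c none * dot w 1 := by ring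
        _ = _ := by rw [h1, zero_add]
    have h01 : dot w 1 = 0 ∨ dot w 1 = 1 := by
      generalize dot w 1 = a
      revert a; decide
    rcases h01 with h0 | h1
    · left
      apply mem_code_of_dot
      intro c hc
      rw [key c hc, h0, mul_zero]
    · right
      apply mem_code_of_dot
      intro c hc
      rw [dot_add_left, key c hc, h1, mul_one, dot_single_none, z2_add_self]
  · rintro (h | h) x
    · exact dot_code h x.2.1
    · have h1 := dot_code h x.2.1
      rw [dot_add_left, dot_single_none, x.2.2, add_zero] at h1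
      exact h1

theorem theta_surjective : Function.Surjective theta := by
  intro n
  obtain ⟨a, ha⟩ : ∃ a : ↥NG, n = Additive.ofMul a := ⟨n.toMul, rfl⟩
  have hs : a.1.s = 1 := (mem_NG _).1 a.2
  have hadd : ∀ x y, a.1.q (x + y) = a.1.q x + a.1.q y := by
    intro x y
    rw [a.1.hq, hs, psiV_one, add_zero]
  have h0 : a.1.q 0 = 0 := by
    have := hadd 0 0
    rw [add_zero] at this
    have e := z2_add_self (a.1.q 0)
    rw [← this] at e
    exact e
  let f₀ : V0 →+ ZMod 2 :=
    { toFun := a.1.q
      map_zero' := h0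
      map_add' := hadd }
  let f : V0 →ₗ[ZMod 2] ZMod 2 := f₀.toZModLinearMap 2
  obtain ⟨g, hg⟩ := LinearMap.exists_extend (p := V0) f
  let w : W := fun p => g (Pi.single p 1)
  have hgw : ∀ x : W, g x = dot w x := by
    intro x
    rw [LinearMap.pi_apply_eq_sum_univ g x]
    unfold dot
    apply Finset.sum_congr rfl
    intro p _
    rw [smul_eq_mul, mul_comm]
    congr 2
    funext j
    by_cases hj : p = j
    · subst hj; simp
    · rw [if_neg hj, Pi.single_eq_of_ne (Ne.symm hj)]
  refine ⟨w, ?_⟩
  rw [ha, theta_apply]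
  apply congrArg Additive.ofMul
  apply Subtype.ext
  apply EG.ext'
  · exact hs.symm
  · funext x
    show (thetaE w).q x = a.1.q x
    rw [thetaE_q, ← hgw]
    have := LinearMap.congr_fun hg x
    exact this

theorem dot_perm (σ : Equiv.Perm GolayPt) (u v : W) :
    dot (permWord σ u) (permWord σ v) = dot u v := by
  unfold dot permWord
  exact Equiv.sum_comp σ.symm (fun p => u p * v p)

theorem theta_equivariant (g : EG) (w : W) :
    thetaE (permWord g.s.1 w) = g * thetaE w * g⁻¹ := by
  apply EG.ext'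
  · rw [mul_s, mul_s, thetaE_s, thetaE_s, inv_s, mul_one, mul_inv_cancel]
  · funext x
    rw [mul_q, mul_q, inv_q, thetaE_q, thetaE_q, thetaE_s, act_one, inv_s]
    have e := z2_add_self (g.q (act g.s⁻¹ x))
    have h1 : dot (permWord g.s.1 w) x.1 = dot w (act g.s⁻¹ x).1 := by
      rw [act_val]
      conv_lhs => rw [← permWord_permWord_inv g.s.1 x.1]
      rw [dot_perm]
      rfl
    rw [h1]
    calc dot w (act g.s⁻¹ x).1 = dot w (act g.s⁻¹ x).1
          + (g.q (act g.s⁻¹ x) + g.q (act g.s⁻¹ x)) := by rw [e, add_zero]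
      _ = _ := by ring

end Cfsg.Agent.Helper12.PL
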