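import Mathlib
import Cfsg.Agent.Lib.Helper12.PLGroup

set_option autoImplicit false
open Cfsg

/-! A quaternion subgroup of the point stabilizer over which the extension does not split. -/

namespace Cfsg.Agent.Helper12.PL

open Cfsg.Agent.Helper27 Cfsg.Agent.Helper27.GolayDual
open Cfsg.Agent.S0358 (idx)
open EG

/-- the point with a given number -/
def ptOf (n : ℕ) : GolayPt := if h : n < 23 then some (⟨n, h⟩ : Fin 23) else none

def tabX : List ℕ :=
  [2, 12, 17, 16, 4, 15, 13, 0, 14, 6, 5, 9, 8, 11, 1, 19, 3, 7, 20, 10, 18, 21, 22, 23]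
def tabXi : List ℕ :=
  [7, 14, 0, 16, 4, 10, 9, 17, 12, 11, 19, 13, 1, 6, 8, 5, 3, 2, 20, 15, 18, 21, 22, 23]
def tabY : List ℕ :=
  [11, 5, 13, 18, 4, 8, 0, 9, 19, 2, 14, 17, 10, 7, 15, 12, 20, 6, 3, 1, 16, 21, 22, 23]
def tabYi : List ℕ :=
  [6, 19, 9, 18, 4, 1, 17, 13, 5, 7, 12, 0, 15, 2, 10, 14, 20, 11, 3, 8, 16, 21, 22, 23]

def kx : Equiv.Perm GolayPt where
  toFun p := ptOf (tabX.getD (idx p) 0)
  invFun p := ptOf (tabXi.getD (idx p) 0)
  left_inv := by decide
  right_inv := by decide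

def ky : Equiv.Perm GolayPt where
  toFun p := ptOf (tabY.getD (idx p) 0)
  invFun p := ptOf (tabYi.getD (idx p) 0)
  left_inv := by decide
  right_inv := by decide

theorem kx_spec : ∀ p : GolayPt, idx (kx.symm p) = tabXi.getD (idx p) 0 := by decide
theorem kxi_spec : ∀ p : GolayPt, idx ((kx⁻¹).symm p) = tabX.getD (idx p) 0 := by decide
theorem ky_spec : ∀ p : GolayPt, idx (ky.symm p) = tabYi.getD (idx p) 0 := by decide
theorem kyi_spec : ∀ p : GolayPt, idx ((ky⁻¹).symm p) = tabY.getD (idx p) 0 := by decide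

/-- masks of all twelve coordinate functionals -/
def lmF (i : ℕ) : ℕ :=
  [3941, 1328, 2656, 95, 190, 3609, 1992, 245, 490, 3249, 3581, 3189].getD i 0

/-- the index of a mask, if it is a code word -/
def idxOfMask (m : ℕ) : ℕ := sumTo (fun i => (pop24 (lmF i &&& m) % 2) * 2 ^ i) 12

/-- membership of a mask in the code -/
def inCode (m : ℕ) : Bool := strictN (idxOfMask m) fun n => cw n == m

theorem ofMask_mem_of_inCode {m : ℕ} (h : inCode m = true) : ofMask m ∈ golayCode := by
  unfold inCode at h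
  rw [strictN_eq, beq_iff_eq] at h
  rw [← h]
  exact Cfsg.Agent.Helper29.cw_mem _

set_option maxRecDepth 100000 in
theorem chkX : ∀ t : ZMod 23, inCode (permMask tabXi (cw (Cfsg.Agent.S0358.coefMask t))) = true := by
  decide +kernel
set_option maxRecDepth 100000 in
theorem chkXi : ∀ t : ZMod 23, inCode (permMask tabX (cw (Cfsg.Agent.S0358.coefMask t))) = true := by
  decide +kernel
set_option maxRecDepth 100000 in
theorem chkY : ∀ t : ZMod 23, inCode (permMask tabYi (cw (Cfsg.Agent.S0358.coefMask t))) = true := by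
  decide +kernel
set_option maxRecDepth 100000 in
theorem chkYi : ∀ t : ZMod 23, inCode (permMask tabY (cw (Cfsg.Agent.S0358.coefMask t))) = true := by
  decide +kernel

theorem kx_mem_M24 : kx ∈ M24 := by
  apply mem_M24_of_gens
  · intro t
    rw [qrWord_eq_ofMask, permWord_ofMask kx tabXi kx_spec]
    exact ofMask_mem_of_inCode (chkX t)
  · intro t
    rw [qrWord_eq_ofMask, permWord_ofMask kx⁻¹ tabX kxi_spec]
    exact ofMask_mem_of_inCode (chkXi t)

theorem ky_mem_M24 : ky ∈ M24 := by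
  apply mem_M24_of_gens
  · intro t
    rw [qrWord_eq_ofMask, permWord_ofMask ky tabYi ky_spec]
    exact ofMask_mem_of_inCode (chkY t)
  · intro t
    rw [qrWord_eq_ofMask, permWord_ofMask ky⁻¹ tabY kyi_spec]
    exact ofMask_mem_of_inCode (chkYi t)

theorem kx_fix : kx none = none := by decide
theorem ky_fix : ky none = none := by decide

/-- the two generators of the quaternion subgroup -/
def KX : ↥Spor.M23 :=
  ⟨kx, Subgroup.mem_inf.2 ⟨kx_mem_M24, MulAction.mem_stabilizer_iff.2 kx_fix⟩⟩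
def KY : ↥Spor.M23 :=
  ⟨ky, Subgroup.mem_inf.2 ⟨ky_mem_M24, MulAction.mem_stabilizer_iff.2 ky_fix⟩⟩

theorem rel1 : KX * KX = KY * KY := by
  apply Subtype.ext
  apply Equiv.ext
  show ∀ p, (kx * kx) p = (ky * ky) p
  decide

theorem rel2 : KX * KY * KX = KY := by
  apply Subtype.ext
  apply Equiv.ext
  show ∀ p, (kx * ky * kx) p = ky p
  decide

/-- the word underlying a vector has a given mask -/
def Has (v : V0) (m : ℕ) : Prop := v.1 = ofMask m

theorem Has.actX {v : V0} {m : ℕ} (h : Has v m) : Has (act KX v) (permMask tabXi m) := by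
  unfold Has at h ⊢
  rw [act_val, h]
  exact permWord_ofMask kx tabXi kx_spec m

theorem Has.actY {v : V0} {m : ℕ} (h : Has v m) : Has (act KY v) (permMask tabYi m) := by
  unfold Has at h ⊢
  rw [act_val, h]
  exact permWord_ofMask ky tabYi ky_spec m

theorem Has.add {u v : V0} {m m' : ℕ} (hu : Has u m) (hv : Has v m') : Has (u + v) (m ^^^ m') := by
  unfold Has at hu hv ⊢
  rw [ofMask_xor, ← hu, ← hv]
  rfl

theorem Has.eq {u v : V0} {m : ℕ} (hu : Has u m) (hv : Has v m) : u = v := by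
  unfold Has at hu hv
  exact Subtype.ext (hu.trans hv.symm)

theorem Has.phi {u v : V0} {m m' : ℕ} (hu : Has u m) (hv : Has v m') :
    phiV u v = ((phiM m m' : ℕ) : ZMod 2) := by
  unfold Has at hu hv
  unfold phiV
  rw [hu, hv, phi_ofMask]

theorem Has.cast {v : V0} {m m' : ℕ} (h : Has v m) (e : m = m') : Has v m' := e ▸ h

theorem inV0_cw {n : ℕ} (hn : n < 2048) : InV0 (ofMask (cw n)) := by
  refine ⟨Cfsg.Agent.Helper29.cw_mem n, ?_⟩
  have h1 := allBelow_spec _ 4096 top_bit_chk n (by omega)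
  rw [strictN_eq, beq_iff_eq] at h1
  have h2 : n.testBit 11 = false := by
    rw [Nat.testBit_eq_decide_div_mod_eq]
    have : n / 2 ^ 11 = 0 := Nat.div_eq_of_lt hn
    rw [this]
    rfl
  rw [h2] at h1
  unfold ofMask
  have h23 : idx (none : GolayPt) = 23 := rfl
  rw [h23, h1]
  rfl

/-- the two test vectors -/
def v1 : V0 := ⟨ofMask (cw 36), inV0_cw (by norm_num)⟩
def v2 : V0 := ⟨ofMask (cw 16), inV0_cw (by norm_num)⟩

theorem has_v1 : Has v1 3319453 := by
  have : cw 36 = 3319453 := by decide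
  show ofMask (cw 36) = ofMask 3319453
  rw [this]

theorem has_v2 : Has v2 5453296 := by
  have : cw 16 = 5453296 := by decide
  show ofMask (cw 16) = ofMask 5453296
  rw [this]

theorem hasX1 : Has (act KX v1) 3082485 := has_v1.actX.cast (by decide)
theorem hasXX1 : Has (act KX (act KX v1)) 3319453 := hasX1.actX.cast (by decide)
theorem hasY1 : Has (act KY v1) 2456276 := has_v1.actY.cast (by decide)
theorem hasYY1 : Has (act KY (act KY v1)) 3319453 := hasY1.actY.cast (by decide)
theorem hasX2 : Has (act KX v2) 4516281 := has_v2.actX.cast (by decide)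
theorem hasYX2 : Has (act KY (act KX v2)) 5151640 := hasX2.actY.cast (by decide)
theorem hasXYX2 : Has (act KX (act KY (act KX v2))) 5851089 := hasYX2.actX.cast (by decide)
theorem hasY2 : Has (act KY v2) 5851089 := has_v2.actY.cast (by decide)

theorem sumX : act KX v1 + v1 = act KY (act KX v2) + v2 :=
  (hasX1.add has_v1).eq ((hasYX2.add has_v2).cast (by decide))

theorem sumY : act KY v1 + v1 = act KX v2 + v2 :=
  (hasY1.add has_v1).eq ((hasX2.add has_v2).cast (by decide))

theorem psiX1 : psiV KX (act KX v1) v1 = 1 := by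
  unfold psiV
  rw [hasXX1.phi hasX1, hasX1.phi has_v1]
  decide +kernel

theorem psiX2 : psiV KX (act KY (act KX v2)) v2 = 1 := by
  unfold psiV
  rw [hasXYX2.phi hasX2, hasYX2.phi has_v2]
  decide +kernel

theorem psiY1 : psiV KY (act KY v1) v1 = 1 := by
  unfold psiV
  rw [hasYY1.phi hasY1, hasY1.phi has_v1]
  decide +kernel

theorem psiY2 : psiV KY (act KX v2) v2 = 0 := by
  unfold psiV
  rw [hasYX2.phi hasY2, hasX2.phi has_v2]
  decide +kernel

/-- The extension has no complement. -/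
theorem no_complement (H : Subgroup EG) (h1 : H ⊓ NG = ⊥) (h2 : H ⊔ NG = ⊤) : False := by
  have lift : ∀ σ : ↥Spor.M23, ∃ h ∈ H, h.s = σ := by
    intro σ
    obtain ⟨g, hg⟩ := pr_surjective σ
    have hmem : g ∈ (↑(H ⊔ NG) : Set EG) := by rw [h2]; trivial
    rw [Subgroup.mul_normal] at hmem
    obtain ⟨h, hh, n, hn, rfl⟩ := Set.mem_mul.1 hmem
    refine ⟨h, hh, ?_⟩
    have hn1 : n.s = 1 := (mem_NG n).1 hn
    have : (h * n).s = σ := hg
    rw [mul_s, hn1, mul_one] at this
    exact this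
  have uniq : ∀ a ∈ H, ∀ b ∈ H, a.s = b.s → a = b := by
    intro a ha b hb hab
    have hm : a * b⁻¹ ∈ H ⊓ NG := by
      refine Subgroup.mem_inf.2 ⟨H.mul_mem ha (H.inv_mem hb), (mem_NG _).2 ?_⟩
      rw [mul_s, inv_s, hab, mul_inv_cancel]
    rw [h1, Subgroup.mem_bot] at hm
    exact mul_inv_eq_one.1 hm
  obtain ⟨hx, hxH, hxs⟩ := lift KX
  obtain ⟨hy, hyH, hys⟩ := lift KY
  have r1 : hx * hx = hy * hy := by
    apply uniq _ (H.mul_mem hxH hxH) _ (H.mul_mem hyH hyH)
    rw [mul_s, mul_s, hxs, hys, rel1]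
  have r2 : hx * hy * hx = hy := by
    apply uniq _ (H.mul_mem (H.mul_mem hxH hyH) hxH) _ hyH
    rw [mul_s, mul_s, hxs, hys, rel2]
  have e1 : hx.q v1 + hx.q (act KX v1) = hy.q v1 + hy.q (act KY v1) := by
    have := congrArg (fun g : EG => g.q v1) r1
    simp only [mul_q] at this
    rw [hxs, hys] at this
    exact this
  have e2 : hx.q v2 + (hy.q (act KX v2) + hx.q (act KY (act KX v2))) = hy.q v2 := by
    have := congrArg (fun g : EG => g.q v2) r2
    simp only [mul_q] at this
    rw [hxs, hys] at this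
    exact this
  have qx1 := hx.hq (act KX v1) v1
  have qx2 := hx.hq (act KY (act KX v2)) v2
  have qy1 := hy.hq (act KY v1) v1
  have qy2 := hy.hq (act KX v2) v2
  rw [hxs, psiX1] at qx1
  rw [hxs, psiX2, ← sumX] at qx2
  rw [hys, psiY1] at qy1
  rw [hys, psiY2, ← sumY] at qy2
  -- combine
  have hX : hx.q (act KX v1) + hx.q v1 + 1 = hx.q (act KY (act KX v2)) + hx.q v2 + 1 := by
    rw [← qx1, ← qx2]
  have hY : hy.q (act KY v1) + hy.q v1 + 1 = hy.q (act KX v2) + hy.q v2 + 0 := by
    rw [← qy1, ← qy2]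
  generalize hx.q v1 = a1 at *
  generalize hx.q (act KX v1) = a2 at *
  generalize hx.q v2 = a3 at *
  generalize hx.q (act KY (act KX v2)) = a4 at *
  generalize hy.q v1 = b1 at *
  generalize hy.q (act KY v1) = b2 at *
  generalize hy.q v2 = b3 at *
  generalize hy.q (act KX v2) = b4 at *
  clear qx1 qx2 qy1 qy2 r1 r2
  revert a1 a2 a3 a4 b1 b2 b3 b4
  decide

end Cfsg.Agent.Helper12.PL
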