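import Mathlib
import Cfsg.Agent.Lib.Helper12.SL2Count
import Cfsg.Agent.Lib.Helper12.SL2Gauss
import Cfsg.Agent.Lib.Helper12.SL2Cusp
import Cfsg.Agent.Lib.Helper24.CharQuotient

/-!
# Degrees of the irreducible characters of `PSL₂(q)` via inflation to `SL₂(q)`
-/

set_option autoImplicit false

namespace Cfsg.Agent.Helper12
namespace PSL2Deg

open Cfsg Cfsg.Agent.Helper24

variable {F : Type*} [Field F] [Fintype F] [DecidableEq F]

theorem stSL_eq (g : Matrix.SpecialLinearGroup (Fin 2) F) :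
    stSL g = psSL (1 : MulChar F ℂ) g - 1 := by
  have h1 : stSL (F := F) = resSL (st (1 : MulChar F ℂ)) := rfl
  rw [h1]
  unfold st
  rw [resSL_sub, resSL_ps, resSL_detChar, Pi.sub_apply, inv_one, mul_one]

theorem stSL_center (z : Matrix.SpecialLinearGroup (Fin 2) F)
    (hz : z ∈ Subgroup.center (Matrix.SpecialLinearGroup (Fin 2) F)) :
    stSL z = stSL (1 : Matrix.SpecialLinearGroup (Fin 2) F) := by
  rw [stSL_eq, fix_scalar z (isScalar2_of_mem_center z hz), stSL_one_apply]
  ring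

/-- the degree cases for an irreducible character of `PSL₂(q)` -/
theorem PSL2_degree_cases (ψ : IrrCharacter (Matrix.ProjectiveSpecialLinearGroup (Fin 2) F)) :
    let d := charDegree (ψ : Matrix.ProjectiveSpecialLinearGroup (Fin 2) F → ℂ)
    let χ := (ψ : Matrix.ProjectiveSpecialLinearGroup (Fin 2) F → ℂ) ∘
      (QuotientGroup.mk : Matrix.SpecialLinearGroup (Fin 2) F →
        Matrix.ProjectiveSpecialLinearGroup (Fin 2) F)
    d = 1 ∨ (d = Fintype.card F ∧ χ = stSL) ∨ d = Fintype.card F + 1 ∨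
      2 * d = Fintype.card F + 1 ∨ d + 1 = Fintype.card F ∨ 2 * d + 1 = Fintype.card F := by
  intro d χ
  have hχ : IsIrrCharacter (Matrix.SpecialLinearGroup (Fin 2) F) χ :=
    isIrrCharacter_inflate (Subgroup.center (Matrix.SpecialLinearGroup (Fin 2) F)) ψ.2
  have hd : χ 1 = (d : ℂ) := by
    rw [irr_one_eq_charDegree hχ,
      charDegree_inflate (Subgroup.center (Matrix.SpecialLinearGroup (Fin 2) F)) _]
  rcases SL2_degree_cases hχ d hd with h | h | h | h | h | h
  · exact Or.inl h.1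
  · exact Or.inr (Or.inl h)
  · exact Or.inr (Or.inr (Or.inl h.1))
  · exact Or.inr (Or.inr (Or.inr (Or.inl h.1)))
  · exact Or.inr (Or.inr (Or.inr (Or.inr (Or.inl h.1))))
  · exact Or.inr (Or.inr (Or.inr (Or.inr (Or.inr h.1))))

end PSL2Deg
end Cfsg.Agent.Helper12
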