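import Mathlib
import Cfsg.Agent.Lib.Helper12.SL2Cusp
import Cfsg.Agent.Lib.Helper24.CharAbelian
import Cfsg.Agent.S2299

set_option autoImplicit false

namespace Cfsg.Agent.Helper12

open Cfsg Cfsg.Agent.Helper24 Cfsg.Agent.Helper5

open scoped ComplexConjugate

open Matrix

variable {F : Type*} [Field F] [Fintype F] [DecidableEq F]

/-- a cyclic subgroup of order `q + 1` of `SL₂(q)` is the torus of an elliptic element -/
theorem exists_elliptic_of_cyclic (hF : ringChar F ≠ 2)
    (C : Subgroup (Matrix.SpecialLinearGroup (Fin 2) F)) (hC : IsCyclic C)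
    (hcard : Nat.card C = Fintype.card F + 1) :
    ∃ c₀ : Matrix.SpecialLinearGroup (Fin 2) F, IsElliptic c₀ ∧ C = torus c₀ := by
  obtain ⟨g, hg⟩ := hC.exists_generator
  have hord : orderOf g = Fintype.card F + 1 := by
    rw [orderOf_eq_card_of_forall_mem_zpowers hg, hcard]
  have hord' : orderOf (g : Matrix.SpecialLinearGroup (Fin 2) F) = Fintype.card F + 1 := by
    rw [Subgroup.orderOf_coe, hord]
  obtain ⟨p, hp⟩ := CharP.exists F
  haveI := hp
  obtain ⟨n, hpp, hq⟩ := FiniteField.card F p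
  haveI : Fact p.Prime := ⟨hpp⟩
  have hqpos : 2 ≤ Fintype.card F := Fintype.one_lt_card
  have hp2 : p ≠ 2 := by
    intro h
    apply hF
    rw [← h]
    exact (ringChar.eq F p)
  have hell : IsElliptic (g : Matrix.SpecialLinearGroup (Fin 2) F) := by
    apply isElliptic_of_charpoly
    intro l hl
    by_cases hl1 : l ^ 2 = 1
    · have h1 := SL2_pow_two_char_eq_one p (g : Matrix.SpecialLinearGroup (Fin 2) F) l hl hl1
      have h2 := orderOf_dvd_of_pow_eq_one h1
      rw [hord'] at h2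
      -- q + 1 divides 2 p, impossible
      have hcop : Nat.Coprime (Fintype.card F + 1) p := by
        rw [hq]
        have : Nat.Coprime (p ^ (n : ℕ)) (p ^ (n : ℕ) + 1) := by simp
        exact (Nat.Coprime.coprime_dvd_left (dvd_pow_self p n.ne_zero) this).symm
      have h3 : Fintype.card F + 1 ∣ 2 := by
        rw [mul_comm] at h2
        exact hcop.dvd_of_dvd_mul_left h2
      have := Nat.le_of_dvd (by norm_num) h3
      omega
    · have h1 := SL2_pow_card_sub_one_eq_one (g : Matrix.SpecialLinearGroup (Fin 2) F) l hl hl1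
      have h2 := orderOf_dvd_of_pow_eq_one h1
      rw [hord'] at h2
      have := Nat.le_of_dvd (by omega) h2
      omega
  refine ⟨g, hell, ?_⟩
  apply Subgroup.eq_of_le_of_card_ge
  · intro x hx
    obtain ⟨k, hk⟩ := Subgroup.mem_zpowers_iff.1 (hg ⟨x, hx⟩)
    have hx' : x = (g : Matrix.SpecialLinearGroup (Fin 2) F) ^ k := by
      have := congrArg Subtype.val hk
      simp only [Subgroup.coe_zpow] at this
      exact this.symm
    rw [mem_torus_iff, hx']
    exact ((Commute.refl (g : Matrix.SpecialLinearGroup (Fin 2) F)).zpow_right k)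
  · rw [hcard]
    exact (card_centralizer_elliptic hF _ hell).le

/-- a homomorphism on a cyclic group is determined by its value at a generator -/
theorem hom_ext_of_generator {C : Type*} [Group C] {M : Type*} [Group M] (c₁ : C)
    (hgen : ∀ x : C, x ∈ Subgroup.zpowers c₁) (θ θ' : C →* M) (h : θ c₁ = θ' c₁) : θ = θ' := by
  ext x
  obtain ⟨k, rfl⟩ := Subgroup.mem_zpowers_iff.1 (hgen x)
  rw [map_zpow, map_zpow, h]

omit [DecidableEq F] in
theorem card_hom_torus (hF : ringChar F ≠ 2) {g₀ : Matrix.SpecialLinearGroup (Fin 2) F}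
    (hg₀ : IsElliptic g₀) : Nat.card (torus g₀ →* ℂˣ) = Fintype.card F + 1 := by
  classical
  have hc : commutator (torus g₀) = ⊥ := by
    rw [commutator_eq_bot_iff_center_eq_top, Subgroup.eq_top_iff']
    intro z
    rw [Subgroup.mem_center_iff]
    intro g
    apply Subtype.ext
    exact torus_comm g₀ hg₀.not_scalar g.1 z.1 g.2 z.2
  rw [card_monoidHom_units, hc, Subgroup.index_bot, card_centralizer_elliptic hF g₀ hg₀]

open Classical in
/-- for `q ≥ 5` every irreducible character of degree `q - 1` is one of the `cuspChar` -/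
theorem exists_theta_of_degree (hodd : Odd (Fintype.card F)) (hq5 : 5 ≤ Fintype.card F)
    {g₀ : Matrix.SpecialLinearGroup (Fin 2) F} (hg₀ : IsElliptic g₀) (hC : IsCyclic (torus g₀))
    (χ : Matrix.SpecialLinearGroup (Fin 2) F → ℂ)
    (hχ : IsIrrCharacter (Matrix.SpecialLinearGroup (Fin 2) F) χ)
    (hdeg : χ 1 = (Fintype.card F : ℂ) - 1) :
    ∃ (θ : torus g₀ →* ℂˣ) (α : MulChar F ℂ), (∃ c : torus g₀, θ c ^ 2 ≠ 1) ∧
      χ = cuspChar g₀ θ α := by
  have hF : ringChar F ≠ 2 := by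
    intro h
    have := FiniteField.even_card_of_char_two h
    rw [Nat.odd_iff] at hodd
    omega
  have h2 : (2 : F) ≠ 0 := Ring.two_ne_zero hF
  obtain ⟨c₁, hgen⟩ := hC.exists_generator
  have hcardT : Nat.card (torus g₀) = Fintype.card F + 1 := card_centralizer_elliptic hF g₀ hg₀
  have hord : orderOf c₁ = Fintype.card F + 1 := by
    rw [orderOf_eq_card_of_forall_mem_zpowers hgen, hcardT]
  have hns₁ : ¬ IsScalar2 ((c₁ : Matrix.SpecialLinearGroup (Fin 2) F) :
      Matrix (Fin 2) (Fin 2) F) := by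
    intro hs
    have h1 : c₁ ^ 2 = 1 := by
      apply Subtype.ext
      rw [pow_two]
      change c₁.1 * c₁.1 = 1
      rcases (isScalar2_iff_eq c₁.1).1 hs with h | h
      · rw [h, one_mul]
      · rw [h, negOneSL_mul_self]
    have h3 := orderOf_dvd_of_pow_eq_one h1
    rw [hord] at h3
    have := Nat.le_of_dvd (by norm_num) h3
    omega
  have hcardH := card_hom_torus hF hg₀
  haveI : Finite (torus g₀ →* ℂˣ) := Nat.finite_of_card_ne_zero (by rw [hcardH]; omega)
  letI : Fintype (torus g₀ →* ℂˣ) := Fintype.ofFinite _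
  letI : Fintype (IrrCharacter (Matrix.SpecialLinearGroup (Fin 2) F)) := irrFintype
  -- the value at `-1`
  have hpm : ∀ θ : torus g₀ →* ℂˣ,
      ((θ ⟨negOneSL, negOneSL_mem_torus g₀⟩ : ℂˣ) : ℂ) = 1 ∨
        ((θ ⟨negOneSL, negOneSL_mem_torus g₀⟩ : ℂˣ) : ℂ) = -1 := by
    intro θ
    have h1 := theta_sq_of_scalar θ ⟨negOneSL, negOneSL_mem_torus g₀⟩
      ((isScalar2_iff_eq _).2 (Or.inr rfl))
    have : (((θ ⟨negOneSL, negOneSL_mem_torus g₀⟩ : ℂˣ) : ℂ) - 1) *
        (((θ ⟨negOneSL, negOneSL_mem_torus g₀⟩ : ℂˣ) : ℂ) + 1) = 0 := by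
      linear_combination h1
    rcases mul_eq_zero.1 this with h | h
    · left; exact sub_eq_zero.1 h
    · right; exact eq_neg_of_add_eq_zero_left h
  choose αof hαof using (fun θ : torus g₀ →* ℂˣ => exists_mulChar_neg_one h2 _ (hpm θ))
  set Ψ : (torus g₀ →* ℂˣ) → IrrCharacter (Matrix.SpecialLinearGroup (Fin 2) F) := fun θ =>
    if h : ∃ c : torus g₀, θ c ^ 2 ≠ 1 then
      ⟨cuspChar g₀ θ (αof θ), isIrrCharacter_cuspChar hF hg₀ θ (αof θ) h (hαof θ)⟩
    else ⟨stSL, isIrrCharacter_stSL⟩ with hΨ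
  have hΨ_pos : ∀ θ : torus g₀ →* ℂˣ, (∃ c : torus g₀, θ c ^ 2 ≠ 1) →
      ((Ψ θ : IrrCharacter (Matrix.SpecialLinearGroup (Fin 2) F)) :
        Matrix.SpecialLinearGroup (Fin 2) F → ℂ) = cuspChar g₀ θ (αof θ) := by
    intro θ h
    rw [hΨ]
    simp only [dif_pos h]
  set Θ : Finset (torus g₀ →* ℂˣ) := Finset.univ.filter (fun θ => ∃ c : torus g₀, θ c ^ 2 ≠ 1)
    with hΘ
  -- at most two characters of square one
  have hmemc : ∀ θ : torus g₀ →* ℂˣ, θ ∈ Θᶜ → ∀ c : torus g₀, θ c ^ 2 = 1 := by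
    intro θ hθ
    rw [Finset.mem_compl, hΘ, Finset.mem_filter] at hθ
    by_contra hcon
    push Not at hcon
    exact hθ ⟨Finset.mem_univ _, hcon⟩
  have hΘc : Θᶜ.card ≤ 2 := by
    have hinj : Set.InjOn (fun θ : torus g₀ →* ℂˣ => θ c₁) (Θᶜ : Finset (torus g₀ →* ℂˣ)) := by
      intro θ _ θ' _ h
      exact hom_ext_of_generator c₁ hgen θ θ' h
    have hmaps : ∀ θ ∈ Θᶜ, (fun θ : torus g₀ →* ℂˣ => θ c₁) θ ∈ ({1, -1} : Finset ℂˣ) := by
      intro θ hθ
      have h1 := hmemc θ hθ c₁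
      rw [Finset.mem_insert, Finset.mem_singleton]
      have : (θ c₁ - 1 : ℂ) * ((θ c₁ : ℂ) + 1) = 0 := by
        have h3 : ((θ c₁ : ℂˣ) : ℂ) ^ 2 = 1 := by
          rw [← Units.val_pow_eq_pow_val, h1, Units.val_one]
        linear_combination h3
      rcases mul_eq_zero.1 this with h | h
      · left
        exact Units.ext (sub_eq_zero.1 h)
      · right
        apply Units.ext
        rw [Units.val_neg, Units.val_one]
        exact eq_neg_of_add_eq_zero_left h
    exact (Finset.card_le_card_of_injOn _ hmaps hinj).trans Finset.card_le_two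
  have hΘcard : Fintype.card F - 1 ≤ Θ.card := by
    have h1 := Finset.card_add_card_compl Θ
    rw [← Nat.card_eq_fintype_card, hcardH] at h1
    omega
  -- fibres
  have hfib : ∀ ψ ∈ Θ.image Ψ, (Θ.filter (fun θ => Ψ θ = ψ)).card ≤ 2 := by
    intro ψ hψ
    obtain ⟨θ₁, hθ₁, rfl⟩ := Finset.mem_image.1 hψ
    rw [hΘ, Finset.mem_filter] at hθ₁
    have hsub : Θ.filter (fun θ => Ψ θ = Ψ θ₁) ⊆ {θ₁, θ₁⁻¹} := by
      intro θ hθ
      rw [Finset.mem_filter, hΘ, Finset.mem_filter] at hθ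
      have h1 : ((Ψ θ : IrrCharacter (Matrix.SpecialLinearGroup (Fin 2) F)) :
          Matrix.SpecialLinearGroup (Fin 2) F → ℂ) = Ψ θ₁ := by rw [hθ.2]
      rw [hΨ_pos θ hθ.1.2, hΨ_pos θ₁ hθ₁.2] at h1
      have h3 := congrFun h1 c₁
      rw [cuspChar_apply_torus hF hg₀ θ _ c₁ hns₁, cuspChar_apply_torus hF hg₀ θ₁ _ c₁ hns₁] at h3
      set x := ((θ c₁ : ℂˣ) : ℂ) with hx
      set y := ((θ₁ c₁ : ℂˣ) : ℂ) with hy
      have hx0 : x ≠ 0 := (θ c₁).ne_zero
      have hy0 : y ≠ 0 := (θ₁ c₁).ne_zero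
      have h4 : (x - y) * (x * y - 1) = 0 := by
        rw [Units.val_inv_eq_inv_val, Units.val_inv_eq_inv_val, ← hx, ← hy] at h3
        field_simp at h3
        linear_combination -h3
      rw [Finset.mem_insert, Finset.mem_singleton]
      rcases mul_eq_zero.1 h4 with h | h
      · left
        apply hom_ext_of_generator c₁ hgen
        exact Units.ext (sub_eq_zero.1 h)
      · right
        apply hom_ext_of_generator c₁ hgen
        rw [MonoidHom.inv_apply]
        apply Units.ext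
        rw [Units.val_inv_eq_inv_val, ← hx, ← hy]
        field_simp
        linear_combination h
    exact (Finset.card_le_card hsub).trans Finset.card_le_two
  have h3 := Finset.card_le_mul_card_image Θ 2 hfib
  -- the irreducible characters of degree `q - 1`
  set D := Finset.univ.filter (fun ψ : IrrCharacter (Matrix.SpecialLinearGroup (Fin 2) F) =>
    (ψ : Matrix.SpecialLinearGroup (Fin 2) F → ℂ) 1 = (Fintype.card F : ℂ) - 1) with hD
  have hDcard : D.card = (Fintype.card F - 1) / 2 := by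
    have := ((Cfsg.Agent.S2299.result hodd).2 hq5).2.2.2.1
    rw [Nat.card_eq_fintype_card, Fintype.card_subtype] at this
    exact this
  have hsubD : Θ.image Ψ ⊆ D := by
    intro ψ hψ
    obtain ⟨θ, hθ, rfl⟩ := Finset.mem_image.1 hψ
    rw [hΘ, Finset.mem_filter] at hθ
    rw [hD, Finset.mem_filter]
    refine ⟨Finset.mem_univ _, ?_⟩
    rw [hΨ_pos θ hθ.2]
    exact cuspChar_one hF hg₀ θ _
  have heq : Θ.image Ψ = D := by
    apply Finset.eq_of_subset_of_card_le hsubD
    rw [hDcard]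
    omega
  have hmem : (⟨χ, hχ⟩ : IrrCharacter (Matrix.SpecialLinearGroup (Fin 2) F)) ∈ D := by
    rw [hD, Finset.mem_filter]
    exact ⟨Finset.mem_univ _, hdeg⟩
  rw [← heq] at hmem
  obtain ⟨θ, hθ, hθχ⟩ := Finset.mem_image.1 hmem
  rw [hΘ, Finset.mem_filter] at hθ
  refine ⟨θ, αof θ, hθ.2, ?_⟩
  rw [← hΨ_pos θ hθ.2, hθχ]

end Cfsg.Agent.Helper12
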