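import Mathlib
import Cfsg.Agent.Lib.Helper12.PSL2Degrees
import Cfsg.Agent.Lib.Helper12.SL2CuspConv
import Cfsg.Agent.Lib.Helper12.GL2Final

/-!
# Existence of irreducible characters of `SL₂(q)` of degrees `q`, `q + 1`, `q - 1` that are trivial
on the centre
-/

set_option autoImplicit false

namespace Cfsg.Agent.Helper12
namespace PSL2Deg

open Cfsg Cfsg.Agent.Helper24

variable {F : Type*} [Field F] [Fintype F] [DecidableEq F]

/-- the data of a character of `SL₂(q)` of given degree, trivial on the centre -/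
def HasDeg (F : Type*) [Field F] (d : ℕ) : Prop :=
  ∃ χ : Matrix.SpecialLinearGroup (Fin 2) F → ℂ,
    IsIrrCharacter (Matrix.SpecialLinearGroup (Fin 2) F) χ ∧ χ 1 = (d : ℂ) ∧
    ∀ z ∈ Subgroup.center (Matrix.SpecialLinearGroup (Fin 2) F), χ z = χ 1

theorem hasDeg_q : HasDeg F (Fintype.card F) :=
  ⟨stSL, isIrrCharacter_stSL, stSL_one_apply, fun z hz => stSL_center z hz⟩

theorem hasDeg_q_add_one (h : ∃ a : F, a ≠ 0 ∧ a ^ 4 ≠ 1) : HasDeg F (Fintype.card F + 1) := by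
  obtain ⟨a, ha0, ha4⟩ := h
  obtain ⟨ν, hν⟩ := MulChar.exists_apply_ne_one_of_hasEnoughRootsOfUnity F ℂ ha4
  have hμ : (ν ^ 2) ^ 2 ≠ 1 := by
    intro h1
    apply hν
    have h2 := congrArg (fun μ : MulChar F ℂ => μ a) h1
    rw [MulChar.one_apply (isUnit_iff_ne_zero.mpr ha0), ← pow_mul, MulChar.pow_apply' _ (by norm_num)]
      at h2
    rw [map_pow]
    exact h2
  refine ⟨psSL (ν ^ 2), isIrrCharacter_psSL _ hμ, by rw [psSL_one_apply]; push_cast; ring, ?_⟩
  intro z hz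
  have hs := isScalar2_of_mem_center z hz
  have hsq := scalar_SL2_sq z hs
  rw [psSL_apply_scalar _ z hs, psSL_one_apply, MulChar.pow_apply' _ (by norm_num), ← map_pow,
    pow_two, hsq, map_one, mul_one]

theorem hasDeg_q_sub_one_even (heven : Even (Fintype.card F)) (h3 : 3 ≤ Fintype.card F) :
    HasDeg F (Fintype.card F - 1) := by
  classical
  have hcard := card_irr_deg_q_sub_one (F := F) h3
  have hpos : 0 < Fintype.card F * (Fintype.card F - 1) / 2 := by
    apply Nat.div_pos _ (by norm_num)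
    have : 3 * 2 ≤ Fintype.card F * (Fintype.card F - 1) :=
      Nat.mul_le_mul h3 (by omega)
    omega
  rw [← hcard] at hpos
  obtain ⟨⟨⟨π, hπ⟩, hdeg⟩⟩ := (Nat.card_pos_iff.mp hpos).1
  simp only at hdeg
  have h2F : (2 : F) = 0 := by
    have hchar : ringChar F = 2 := by
      rw [FiniteField.even_card_iff_char_two]
      exact Nat.even_iff.mp heven
    have := ringChar.Nat.cast_ringChar (R := F)
    rw [hchar] at this
    exact_mod_cast this
  have hz1 : ∀ z ∈ Subgroup.center (Matrix.SpecialLinearGroup (Fin 2) F), z = 1 := by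
    intro z hz
    have hs := isScalar2_of_mem_center z hz
    have hsq := scalar_SL2_sq z hs
    have h00 : (z : Matrix (Fin 2) (Fin 2) F) 0 0 = 1 := by
      have h4 : ((z : Matrix (Fin 2) (Fin 2) F) 0 0 - 1) ^ 2 = 0 := by
        linear_combination hsq + (1 - (z : Matrix (Fin 2) (Fin 2) F) 0 0) * h2F
      exact sub_eq_zero.mp (pow_eq_zero_iff (by norm_num) |>.mp h4)
    apply SL2_eq_of_isScalar2 z 1 hs
    · rw [Matrix.SpecialLinearGroup.coe_one]
      refine ⟨?_, ?_, ?_⟩ <;> simp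
    · rw [h00, Matrix.SpecialLinearGroup.coe_one, Matrix.one_apply_eq]
  have hq1 : 1 ≤ Fintype.card F := by omega
  rcases norm_resSL hπ with ⟨-, h1⟩ | ⟨-, h2⟩
  · refine ⟨resSL π, isIrrCharacter_resSL_of_norm_one (isCharacter_of_isIrrCharacter hπ) h1, ?_, ?_⟩
    · rw [resSL_one, hdeg, Nat.cast_sub hq1, Nat.cast_one]
    · intro z hz
      rw [hz1 z hz]
  · exfalso
    obtain ⟨χ₁, χ₂, hi1, -, -, hsum, x, hx⟩ := resSL_split hπ h2
    have h11 : χ₂ 1 = χ₁ 1 := hx 1 1 (by rw [map_one]; group)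
    have h5 := congrFun hsum 1
    rw [resSL_one, hdeg, Pi.add_apply, h11] at h5
    obtain ⟨n, -, hn⟩ := irr_one_eq hi1
    rw [hn] at h5
    have h6 : ((Fintype.card F : ℕ) : ℂ) = ((2 * n + 1 : ℕ) : ℂ) := by
      push_cast
      linear_combination h5
    have h7 : Fintype.card F = 2 * n + 1 := by exact_mod_cast h6
    rw [Nat.even_iff] at heven
    omega

theorem exists_units_orderOf (n : ℕ) (hn : n ≠ 0) : ∃ ζ : ℂˣ, orderOf ζ = n := by
  have hprim := Complex.isPrimitiveRoot_exp n hn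
  refine ⟨(hprim.isUnit hn).unit, ?_⟩
  have h1 : IsPrimitiveRoot ((hprim.isUnit hn).unit : ℂˣ) n := by
    rw [← IsPrimitiveRoot.coe_units_iff]
    exact hprim
  exact h1.eq_orderOf.symm

theorem hasDeg_q_sub_one_odd (hF : ringChar F ≠ 2) (h5 : 5 ≤ Fintype.card F) :
    HasDeg F (Fintype.card F - 1) := by
  classical
  obtain ⟨g₀, hg₀⟩ := exists_elliptic (F := F)
  have hC : IsCyclic (torus g₀) := isCyclic_torus hg₀
  obtain ⟨c₁, hgen⟩ := hC.exists_generator
  have hcardT : Nat.card (torus g₀) = Fintype.card F + 1 := card_centralizer_elliptic hF g₀ hg₀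
  have hord : orderOf c₁ = Fintype.card F + 1 := by
    rw [orderOf_eq_card_of_forall_mem_zpowers hgen, hcardT]
  obtain ⟨ζ, hζ⟩ := exists_units_orderOf (Fintype.card F + 1) (by omega)
  obtain ⟨ϑ, hϑ⟩ : ∃ ϑ : torus g₀ →* ℂˣ, ϑ c₁ = ζ :=
    ⟨monoidHomOfForallMemZpowers hgen (g' := ζ) (by rw [hζ, hord]),
      monoidHomOfForallMemZpowers_apply_gen hgen _⟩
  obtain ⟨θ, hθdef⟩ : ∃ θ : torus g₀ →* ℂˣ, θ = ϑ * ϑ := ⟨_, rfl⟩
  have hθ1 : ∃ c : torus g₀, θ c ^ 2 ≠ 1 := by
    refine ⟨c₁, ?_⟩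
    rw [hθdef, MonoidHom.mul_apply, hϑ, ← pow_two, ← pow_mul]
    intro h
    have h1 := orderOf_dvd_of_pow_eq_one h
    rw [hζ] at h1
    have := Nat.le_of_dvd (by norm_num) h1
    omega
  have hθneg : θ ⟨negOneSL, negOneSL_mem_torus g₀⟩ = 1 := by
    rw [hθdef, MonoidHom.mul_apply, ← map_mul]
    have h1 : (⟨negOneSL, negOneSL_mem_torus g₀⟩ : torus g₀) * ⟨negOneSL, negOneSL_mem_torus g₀⟩
        = 1 := Subtype.ext negOneSL_mul_self
    rw [h1, map_one]
  have hα : (1 : MulChar F ℂ) (-1) = ((θ ⟨negOneSL, negOneSL_mem_torus g₀⟩ : ℂˣ) : ℂ) := by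
    rw [hθneg, Units.val_one, MulChar.one_apply (isUnit_one.neg)]
  have hq1 : 1 ≤ Fintype.card F := by omega
  refine ⟨cuspChar g₀ θ 1, isIrrCharacter_cuspChar hF hg₀ θ 1 hθ1 hα, ?_, ?_⟩
  · rw [cuspChar_one hF hg₀ θ 1, Nat.cast_sub hq1, Nat.cast_one]
  · intro z hz
    rcases (isScalar2_iff_eq z).mp (isScalar2_of_mem_center z hz) with rfl | rfl
    · rfl
    · have hs : IsScalar2 (((⟨negOneSL, negOneSL_mem_torus g₀⟩ : torus g₀) :
          Matrix.SpecialLinearGroup (Fin 2) F) : Matrix (Fin 2) (Fin 2) F) :=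
        (isScalar2_iff_eq _).mpr (Or.inr rfl)
      have h1 := cuspChar_scalar hF hg₀ θ 1 ⟨negOneSL, negOneSL_mem_torus g₀⟩ hs (by
        rw [hθneg, Units.val_one]
        apply MulChar.one_apply
        rw [isUnit_iff_ne_zero]
        intro h0
        have := scalar_SL2_sq _ hs
        rw [h0, zero_mul] at this
        exact zero_ne_one this)
      rw [hθneg, Units.val_one, mul_one] at h1
      rw [cuspChar_one hF hg₀ θ 1]
      exact h1

end PSL2Deg
end Cfsg.Agent.Helper12
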