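import Mathlib
import Cfsg.Prelude.Def_DegreeGraph
import Cfsg.Agent.Lib.Helper12.PSL2DegExist

/-!
# The character degree graph of `SL₂(q)` and `PSL₂(q)`
-/

set_option autoImplicit false

namespace Cfsg.Agent.Helper12
namespace PSL2Deg

open Cfsg Cfsg.Agent.Helper24

theorem charDegrees_subset_of_equiv {A : Type*} {B : Type*} [Group A] [Group B] (f : A ≃* B) :
    charDegrees B ⊆ charDegrees A := by
  intro d hd
  obtain ⟨χ, rfl⟩ := hd
  refine ⟨⟨(χ : B → ℂ) ∘ f.toMonoidHom,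
    isIrrCharacter_comp_of_surjective f.toMonoidHom f.surjective χ.2⟩, ?_⟩
  unfold charDegree
  simp

/-- the set of character degrees is an isomorphism invariant -/
theorem charDegrees_congr {S : Type*} {G : Type*} [Group S] [Group G] (e : S ≃* G) :
    charDegrees S = charDegrees G :=
  Set.Subset.antisymm (charDegrees_subset_of_equiv e.symm) (charDegrees_subset_of_equiv e)

section

variable {F : Type*} [Field F] [Fintype F] [DecidableEq F]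

/-- the arithmetic shape of the possible degrees -/
def DegShape (q d : ℕ) : Prop :=
  d = 1 ∨ d = q ∨ d = q + 1 ∨ 2 * d = q + 1 ∨ d + 1 = q ∨ 2 * d + 1 = q

theorem degShape_SL2 {d : ℕ} (h : d ∈ charDegrees (Matrix.SpecialLinearGroup (Fin 2) F)) :
    DegShape (Fintype.card F) d := by
  obtain ⟨χ, rfl⟩ := h
  rcases SL2_degree_cases χ.2 _ (irr_one_eq_charDegree χ.2) with h | h | h | h | h | h
  · exact Or.inl h.1
  · exact Or.inr (Or.inl h.1)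
  · exact Or.inr (Or.inr (Or.inl h.1))
  · exact Or.inr (Or.inr (Or.inr (Or.inl h.1)))
  · exact Or.inr (Or.inr (Or.inr (Or.inr (Or.inl h.1))))
  · exact Or.inr (Or.inr (Or.inr (Or.inr (Or.inr h.1))))

theorem degShape_PSL2 {d : ℕ}
    (h : d ∈ charDegrees (Matrix.ProjectiveSpecialLinearGroup (Fin 2) F)) :
    DegShape (Fintype.card F) d := by
  obtain ⟨ψ, rfl⟩ := h
  rcases PSL2_degree_cases ψ with h | h | h | h | h | h
  · exact Or.inl h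
  · exact Or.inr (Or.inl h.1)
  · exact Or.inr (Or.inr (Or.inl h))
  · exact Or.inr (Or.inr (Or.inr (Or.inl h)))
  · exact Or.inr (Or.inr (Or.inr (Or.inr (Or.inl h))))
  · exact Or.inr (Or.inr (Or.inr (Or.inr (Or.inr h))))

omit [DecidableEq F] [Fintype F] in
theorem mem_charDegrees_SL2 {d : ℕ} (h : HasDeg F d) :
    d ∈ charDegrees (Matrix.SpecialLinearGroup (Fin 2) F) := by
  obtain ⟨χ, hχ, hd, -⟩ := h
  refine ⟨⟨χ, hχ⟩, ?_⟩
  have h1 := irr_one_eq_charDegree hχ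
  rw [hd] at h1
  exact_mod_cast h1.symm

omit [DecidableEq F] in
theorem mem_charDegrees_PSL2 {d : ℕ} (h : HasDeg F d) :
    d ∈ charDegrees (Matrix.ProjectiveSpecialLinearGroup (Fin 2) F) := by
  obtain ⟨χ, hχ, hd, hc⟩ := h
  obtain ⟨ψ, hψ, hst⟩ := exists_deflate
    (Subgroup.center (Matrix.SpecialLinearGroup (Fin 2) F)) hχ hc
  refine ⟨⟨ψ, hψ⟩, ?_⟩
  show charDegree ψ = d
  rw [← charDegree_inflate (Subgroup.center (Matrix.SpecialLinearGroup (Fin 2) F)) ψ, ← hst]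
  have h1 := irr_one_eq_charDegree hχ
  rw [hd] at h1
  exact_mod_cast h1.symm

end

section abstract

variable {S : Type*} [Group S]

theorem sq_sub_one_eq (q : ℕ) (hq : 1 ≤ q) : q ^ 2 - 1 = (q - 1) * (q + 1) := by
  obtain ⟨m, rfl⟩ : ∃ m, q = m + 1 := ⟨q - 1, by omega⟩
  have : (m + 1) ^ 2 = m * (m + 1 + 1) + 1 := by ring
  rw [this]
  simp

theorem dvd_of_shape {q d r : ℕ} (hq : 2 ≤ q) (hr : r.Prime) (hsh : DegShape q d) (hrd : r ∣ d) :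
    r ∣ q ∨ r ∣ q + 1 ∨ r ∣ q - 1 := by
  rcases hsh with rfl | rfl | rfl | h | h | h
  · exact absurd (Nat.dvd_one.mp hrd) hr.one_lt.ne'
  · exact Or.inl hrd
  · exact Or.inr (Or.inl hrd)
  · exact Or.inr (Or.inl (h ▸ Dvd.dvd.mul_left hrd 2))
  · have : d = q - 1 := by omega
    exact Or.inr (Or.inr (this ▸ hrd))
  · have : 2 * d = q - 1 := by omega
    exact Or.inr (Or.inr (this ▸ Dvd.dvd.mul_left hrd 2))

/-- the vertices of the degree graph -/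
theorem degreePrimes_eq (q : ℕ) (hq : 2 ≤ q)
    (hshape : ∀ d ∈ charDegrees S, DegShape q d) (h0 : q ∈ charDegrees S)
    (h1 : q + 1 ∈ charDegrees S) (h2 : q - 1 ∈ charDegrees S) :
    degreePrimes S = {r : ℕ | r.Prime ∧ r ∣ q * (q ^ 2 - 1)} := by
  ext r
  rw [sq_sub_one_eq q (by omega)]
  constructor
  · rintro ⟨hr, d, hd, hrd⟩
    refine ⟨hr, ?_⟩
    rcases dvd_of_shape hq hr (hshape d hd) hrd with h | h | h
    · exact Dvd.dvd.mul_right h _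
    · exact Dvd.dvd.mul_left (Dvd.dvd.mul_left h _) _
    · exact Dvd.dvd.mul_left (Dvd.dvd.mul_right h _) _
  · rintro ⟨hr, hdiv⟩
    refine ⟨hr, ?_⟩
    rcases (Nat.Prime.dvd_mul hr).mp hdiv with h | h
    · exact ⟨q, h0, h⟩
    · rcases (Nat.Prime.dvd_mul hr).mp h with h | h
      · exact ⟨q - 1, h2, h⟩
      · exact ⟨q + 1, h1, h⟩

theorem mul_dvd_of_primes {r s m : ℕ} (hr : r.Prime) (hs : s.Prime) (hne : r ≠ s) (h1 : r ∣ m)
    (h2 : s ∣ m) : r * s ∣ m :=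
  Nat.Coprime.mul_dvd_of_dvd_of_dvd ((Nat.coprime_primes hr hs).mpr hne) h1 h2

/-- adjacency, even `q` -/
theorem adj_even (q : ℕ) (hq : 2 ≤ q) (heven : 2 ∣ q)
    (hpow : ∀ r : ℕ, r.Prime → r ∣ q → r = 2)
    (hshape : ∀ d ∈ charDegrees S, DegShape q d)
    (h1 : q + 1 ∈ charDegrees S) (h2 : q - 1 ∈ charDegrees S) (r s : ℕ) :
    (degreeGraph S).Adj r s ↔ (r ≠ s ∧ r.Prime ∧ s.Prime ∧
      ((r ∣ q + 1 ∧ s ∣ q + 1) ∨ (r ∣ q - 1 ∧ s ∣ q - 1))) := by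
  show (r ≠ s ∧ r.Prime ∧ s.Prime ∧ ∃ d ∈ charDegrees S, r * s ∣ d) ↔ _
  constructor
  · rintro ⟨hne, hr, hs, d, hd, hrs⟩
    refine ⟨hne, hr, hs, ?_⟩
    have hrd : r ∣ d := dvd_of_mul_right_dvd hrs
    have hsd : s ∣ d := dvd_of_mul_left_dvd hrs
    rcases hshape d hd with rfl | rfl | rfl | h | h | h
    · exact absurd (Nat.dvd_one.mp hrd) hr.one_lt.ne'
    · exact absurd ((hpow r hr hrd).trans (hpow s hs hsd).symm) hne
    · exact Or.inl ⟨hrd, hsd⟩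
    · exfalso; omega
    · have : d = q - 1 := by omega
      exact Or.inr ⟨this ▸ hrd, this ▸ hsd⟩
    · exfalso; omega
  · rintro ⟨hne, hr, hs, h | h⟩
    · exact ⟨hne, hr, hs, q + 1, h1, mul_dvd_of_primes hr hs hne h.1 h.2⟩
    · exact ⟨hne, hr, hs, q - 1, h2, mul_dvd_of_primes hr hs hne h.1 h.2⟩

/-- adjacency, odd `q` -/
theorem adj_odd (q t : ℕ) (hq : 2 ≤ q) (hodd : ¬ 2 ∣ q)
    (hpow : ∀ r : ℕ, r.Prime → r ∣ q → r = t)
    (hshape : ∀ d ∈ charDegrees S, DegShape q d)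
    (h1 : q + 1 ∈ charDegrees S) (h2 : q - 1 ∈ charDegrees S) (r s : ℕ) :
    (degreeGraph S).Adj r s ↔ (r ≠ s ∧ r.Prime ∧ s.Prime ∧ r ∣ q ^ 2 - 1 ∧ s ∣ q ^ 2 - 1 ∧
      (r = 2 ∨ s = 2 ∨ (r ∣ q + 1 ∧ s ∣ q + 1) ∨ (r ∣ q - 1 ∧ s ∣ q - 1))) := by
  show (r ≠ s ∧ r.Prime ∧ s.Prime ∧ ∃ d ∈ charDegrees S, r * s ∣ d) ↔ _
  rw [sq_sub_one_eq q (by omega)]
  have h2m : 2 ∣ q - 1 := by omega
  have h2p : 2 ∣ q + 1 := by omega
  constructor
  · rintro ⟨hne, hr, hs, d, hd, hrs⟩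
    have hrd : r ∣ d := dvd_of_mul_right_dvd hrs
    have hsd : s ∣ d := dvd_of_mul_left_dvd hrs
    have hplus : r ∣ q + 1 → s ∣ q + 1 → r ≠ s ∧ r.Prime ∧ s.Prime ∧ r ∣ (q - 1) * (q + 1) ∧
        s ∣ (q - 1) * (q + 1) ∧
        (r = 2 ∨ s = 2 ∨ (r ∣ q + 1 ∧ s ∣ q + 1) ∨ (r ∣ q - 1 ∧ s ∣ q - 1)) := fun a b =>
      ⟨hne, hr, hs, Dvd.dvd.mul_left a _, Dvd.dvd.mul_left b _, Or.inr (Or.inr (Or.inl ⟨a, b⟩))⟩
    have hminus : r ∣ q - 1 → s ∣ q - 1 → r ≠ s ∧ r.Prime ∧ s.Prime ∧ r ∣ (q - 1) * (q + 1) ∧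
        s ∣ (q - 1) * (q + 1) ∧
        (r = 2 ∨ s = 2 ∨ (r ∣ q + 1 ∧ s ∣ q + 1) ∨ (r ∣ q - 1 ∧ s ∣ q - 1)) := fun a b =>
      ⟨hne, hr, hs, Dvd.dvd.mul_right a _, Dvd.dvd.mul_right b _, Or.inr (Or.inr (Or.inr ⟨a, b⟩))⟩
    rcases hshape d hd with rfl | rfl | rfl | h | h | h
    · exact absurd (Nat.dvd_one.mp hrd) hr.one_lt.ne'
    · exact absurd ((hpow r hr hrd).trans (hpow s hs hsd).symm) hne
    · exact hplus hrd hsd
    · exact hplus (h ▸ Dvd.dvd.mul_left hrd 2) (h ▸ Dvd.dvd.mul_left hsd 2)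
    · have : d = q - 1 := by omega
      exact hminus (this ▸ hrd) (this ▸ hsd)
    · have : 2 * d = q - 1 := by omega
      exact hminus (this ▸ Dvd.dvd.mul_left hrd 2) (this ▸ Dvd.dvd.mul_left hsd 2)
  · rintro ⟨hne, hr, hs, hr', hs', h⟩
    refine ⟨hne, hr, hs, ?_⟩
    have two_case : ∀ u : ℕ, u.Prime → u ≠ 2 → u ∣ (q - 1) * (q + 1) →
        ∃ d ∈ charDegrees S, 2 * u ∣ d := by
      intro u hu hu2 hdiv
      rcases (Nat.Prime.dvd_mul hu).mp hdiv with h | h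
      · exact ⟨q - 1, h2, mul_dvd_of_primes Nat.prime_two hu (Ne.symm hu2) h2m h⟩
      · exact ⟨q + 1, h1, mul_dvd_of_primes Nat.prime_two hu (Ne.symm hu2) h2p h⟩
    rcases h with rfl | rfl | h | h
    · exact two_case s hs (Ne.symm hne) hs'
    · obtain ⟨d, hd, hdv⟩ := two_case r hr hne hr'
      exact ⟨d, hd, by rw [mul_comm]; exact hdv⟩
    · exact ⟨q + 1, h1, mul_dvd_of_primes hr hs hne h.1 h.2⟩
    · exact ⟨q - 1, h2, mul_dvd_of_primes hr hs hne h.1 h.2⟩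

end abstract

end PSL2Deg
end Cfsg.Agent.Helper12
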