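import Mathlib
import Cfsg.Agent.Lib.Helper12.PSL2Max4
import Cfsg.Agent.Lib.Helper2.Psln2

/-!
# Maximal subgroups of `PSL₂(q)` via Dickson's theorem (helper12), part 5:
the derived subgroup of `PSL₂` over the field with three elements
-/

set_option autoImplicit false

namespace Cfsg.Agent.Helper12.PSL2Max

open Matrix Matrix.SpecialLinearGroup
open scoped MatrixGroups
open Cfsg.Agent.Helper2.SL2S Cfsg.Agent.Helper2.PN

section three

variable {K : Type*} [Field K]

/-- the Weyl element -/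
def wEl : SL(2, K) := ⟨!![0, -1; 1, 0], by rw [Matrix.det_fin_two_of]; ring⟩

/-- its conjugate -/
def wEl' : SL(2, K) := ⟨!![1, -2; 1, -1], by rw [Matrix.det_fin_two_of]; ring⟩

theorem comm_u_v (h3 : (3 : K) = 0) : (u 1 * v 1 * (u 1)⁻¹ * (v 1)⁻¹ : SL(2, K)) = wEl := by
  rw [u_inv, Cfsg.Agent.Helper4.DSL.v_inv]
  apply Subtype.ext
  rw [coe_mul, coe_mul, coe_mul, u_coe, v_coe, u_coe, v_coe]
  show _ = !![0, -1; 1, 0]
  ext i j
  fin_cases i <;> fin_cases j <;> simp [Matrix.mul_apply, Fin.sum_univ_two]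
  linear_combination h3

theorem conj_wEl : (u 1 * wEl * (u 1)⁻¹ : SL(2, K)) = wEl' := by
  rw [u_inv]
  apply Subtype.ext
  rw [coe_mul, coe_mul, u_coe, u_coe]
  show _ * !![0, -1; 1, 0] * _ = !![1, -2; 1, -1]
  ext i j
  fin_cases i <;> fin_cases j <;> simp [Matrix.mul_apply, Fin.sum_univ_two] <;> ring

theorem wEl_sq : ((wEl : SL(2, K)) : Matrix (Fin 2) (Fin 2) K) * (wEl : SL(2, K)) = -1 := by
  show !![0, -1; 1, 0] * !![0, -1; 1, 0] = (-1 : Matrix (Fin 2) (Fin 2) K)
  ext i j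
  fin_cases i <;> fin_cases j <;> simp [Matrix.mul_apply, Fin.sum_univ_two]

theorem mkn_wEl_sq : (mkn (wEl : SL(2, K)) : Matrix.ProjectiveSpecialLinearGroup (Fin 2) K) ^ 2 = 1 := by
  rw [← map_pow, ← map_one (mkn (ι := Fin 2) (F := K)), mkn_eq_iff]
  refine ⟨-1, by simp, ?_⟩
  rw [pow_two, coe_mul, wEl_sq, coe_one]
  simp

theorem mkn_wEl_ne : (mkn (wEl : SL(2, K)) : Matrix.ProjectiveSpecialLinearGroup (Fin 2) K) ≠ 1 := by
  intro h
  rw [← map_one (mkn (ι := Fin 2) (F := K)), mkn_eq_iff] at h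
  obtain ⟨z, hz1, hz⟩ := h
  have h01 := congrFun (congrFun hz 0) 1
  have : ((wEl : SL(2, K)) : Matrix (Fin 2) (Fin 2) K) 0 1 = -1 := rfl
  simp [this] at h01
  rw [h01] at hz1
  simp at hz1

theorem mkn_wEl_ne' : (mkn (wEl : SL(2, K)) : Matrix.ProjectiveSpecialLinearGroup (Fin 2) K) ≠
    mkn (wEl' : SL(2, K)) := by
  intro h
  rw [mkn_eq_iff] at h
  obtain ⟨z, _, hz⟩ := h
  have h00 := congrFun (congrFun hz 0) 0
  have e1 : ((wEl : SL(2, K)) : Matrix (Fin 2) (Fin 2) K) 0 0 = 0 := rfl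
  have e2 : ((wEl' : SL(2, K)) : Matrix (Fin 2) (Fin 2) K) 0 0 = 1 := rfl
  simp [e1, e2] at h00

theorem mkn_wEl_mem (h3 : (3 : K) = 0) :
    (mkn (wEl : SL(2, K)) : Matrix.ProjectiveSpecialLinearGroup (Fin 2) K) ∈
      commutator (Matrix.ProjectiveSpecialLinearGroup (Fin 2) K) := by
  rw [← comm_u_v h3, commutator_def]
  have := Subgroup.commutator_mem_commutator
    (Subgroup.mem_top (mkn (u (1 : K)) : Matrix.ProjectiveSpecialLinearGroup (Fin 2) K))
    (Subgroup.mem_top (mkn (v (1 : K)) : Matrix.ProjectiveSpecialLinearGroup (Fin 2) K))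
  rw [commutatorElement_def] at this
  rw [map_mul, map_mul, map_mul, map_inv, map_inv]
  exact this

theorem mkn_wEl'_mem (h3 : (3 : K) = 0) :
    (mkn (wEl' : SL(2, K)) : Matrix.ProjectiveSpecialLinearGroup (Fin 2) K) ∈
      commutator (Matrix.ProjectiveSpecialLinearGroup (Fin 2) K) := by
  rw [← conj_wEl, map_mul, map_mul, map_inv]
  have hn : (commutator (Matrix.ProjectiveSpecialLinearGroup (Fin 2) K)).Normal := inferInstance
  exact hn.conj_mem _ (mkn_wEl_mem h3) _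

theorem mkn_wEl'_sq :
    (mkn (wEl' : SL(2, K)) : Matrix.ProjectiveSpecialLinearGroup (Fin 2) K) ^ 2 = 1 := by
  rw [← conj_wEl, map_mul, map_mul, map_inv, conj_pow, mkn_wEl_sq]
  group

theorem not_isPGroup_commutator_three (h3 : (3 : K) = 0) (p : ℕ) [Fact p.Prime] (hp : p ≠ 2) :
    ¬ IsPGroup p (commutator (Matrix.ProjectiveSpecialLinearGroup (Fin 2) K)) := by
  intro hP
  obtain ⟨k, hk⟩ := hP ⟨_, mkn_wEl_mem h3⟩
  have h1 : (mkn (wEl : SL(2, K)) : Matrix.ProjectiveSpecialLinearGroup (Fin 2) K) ^ (p ^ k) = 1 := by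
    have := congrArg Subtype.val hk
    simpa using this
  have h2 : orderOf (mkn (wEl : SL(2, K)) : Matrix.ProjectiveSpecialLinearGroup (Fin 2) K) = 2 :=
    orderOf_eq_prime mkn_wEl_sq mkn_wEl_ne
  have h3' : 2 ∣ p ^ k := by rw [← h2]; exact orderOf_dvd_of_pow_eq_one h1
  have h4 : 2 ∣ p := Nat.prime_two.dvd_of_dvd_pow h3'
  have hpp : p.Prime := Fact.out
  exact hp ((Nat.prime_dvd_prime_iff_eq Nat.prime_two hpp).1 h4).symm

theorem not_isCyclic_commutator_three [Finite K] (h3 : (3 : K) = 0) :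
    ¬ IsCyclic (commutator (Matrix.ProjectiveSpecialLinearGroup (Fin 2) K)) := by
  classical
  intro hc
  haveI : Fintype K := Fintype.ofFinite K
  haveI : Fintype (commutator (Matrix.ProjectiveSpecialLinearGroup (Fin 2) K)) :=
    Fintype.ofFinite _
  have hle := IsCyclic.card_pow_eq_one_le
    (α := commutator (Matrix.ProjectiveSpecialLinearGroup (Fin 2) K)) (n := 2) (by norm_num)
  obtain ⟨x, hx⟩ : ∃ x : commutator (Matrix.ProjectiveSpecialLinearGroup (Fin 2) K),
      x = ⟨_, mkn_wEl_mem h3⟩ := ⟨_, rfl⟩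
  obtain ⟨y, hy⟩ : ∃ y : commutator (Matrix.ProjectiveSpecialLinearGroup (Fin 2) K),
      y = ⟨_, mkn_wEl'_mem h3⟩ := ⟨_, rfl⟩
  have hx2 : x ^ 2 = 1 := by
    rw [hx]; apply Subtype.ext; simpa using mkn_wEl_sq (K := K)
  have hy2 : y ^ 2 = 1 := by
    rw [hy]; apply Subtype.ext; simpa using mkn_wEl'_sq (K := K)
  have hx1 : x ≠ 1 := by
    rw [hx]; intro h
    exact mkn_wEl_ne (congrArg Subtype.val h)
  have hy1 : y ≠ 1 := by
    rw [hy]; intro h
    have h1 : (mkn (wEl' : SL(2, K)) : Matrix.ProjectiveSpecialLinearGroup (Fin 2) K) = 1 :=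
      congrArg Subtype.val h
    apply mkn_wEl_ne (K := K)
    have h2 : (mkn (wEl' : SL(2, K)) : Matrix.ProjectiveSpecialLinearGroup (Fin 2) K) =
        mkn (u 1) * mkn wEl * (mkn (u 1))⁻¹ := by
      rw [← conj_wEl, map_mul, map_mul, map_inv]
    rw [h2] at h1
    calc mkn (wEl : SL(2, K)) = (mkn (u 1))⁻¹ * (mkn (u 1) * mkn wEl * (mkn (u 1))⁻¹) * mkn (u 1) := by
          group
      _ = 1 := by rw [h1]; group
  have hxy : x ≠ y := by
    rw [hx, hy]; intro h
    exact mkn_wEl_ne' (congrArg Subtype.val h)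
  have hsub : ({1, x, y} : Finset (commutator (Matrix.ProjectiveSpecialLinearGroup (Fin 2) K))) ⊆
      Finset.univ.filter (fun a => a ^ 2 = 1) := by
    intro a ha
    simp only [Finset.mem_insert, Finset.mem_singleton] at ha
    rw [Finset.mem_filter]
    refine ⟨Finset.mem_univ _, ?_⟩
    rcases ha with rfl | rfl | rfl
    · exact one_pow 2
    · exact hx2
    · exact hy2
  have hcard : ({1, x, y} : Finset (commutator (Matrix.ProjectiveSpecialLinearGroup (Fin 2) K))).card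
      = 3 := by
    rw [Finset.card_insert_of_notMem, Finset.card_insert_of_notMem, Finset.card_singleton]
    · simp only [Finset.mem_singleton]; exact hxy
    · simp only [Finset.mem_insert, Finset.mem_singleton, not_or]
      exact ⟨hx1.symm, hy1.symm⟩
  have := Finset.card_le_card hsub
  rw [hcard] at this
  omega

end three

end Cfsg.Agent.Helper12.PSL2Max
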