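import Mathlib
import Cfsg.Agent.Lib.Helper12.PSLOrder
import Cfsg.Agent.Lib.Helper12.PSLAdjNo

/-!
# Elements of order `r * p` in `PSL_n(q)`
-/

set_option autoImplicit false

open Module

namespace Cfsg.Agent.Helper12
namespace PSLAdj

variable {F : Type*} [Field F]

instance instFiniteDual : Module.Finite F (DualNumber F) :=
  inferInstanceAs (Module.Finite F (F × F))

theorem finrank_dualNumber : finrank F (DualNumber F) = 2 := by
  show finrank F (F × F) = 2
  simp

theorem one_add_eps_pow (m : ℕ) :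
    ((1 : DualNumber F) + DualNumber.eps) ^ m = 1 + (m : F) • DualNumber.eps := by
  induction m with
  | zero => simp
  | succ m ih =>
    rw [pow_succ, ih, mul_add, mul_one, add_mul, one_mul, smul_mul_assoc, DualNumber.eps_mul_eps,
      smul_zero, add_zero, Nat.cast_succ, add_smul, one_smul, add_assoc]

theorem exists_dual_unit (p : ℕ) [Fact p.Prime] [CharP F p] :
    ∃ e : (DualNumber F)ˣ, orderOf e = p := by
  have hp : p.Prime := Fact.out
  have hpow : ((1 : DualNumber F) + DualNumber.eps) ^ p = 1 := by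
    rw [one_add_eps_pow, CharP.cast_eq_zero, zero_smul, add_zero]
  obtain ⟨m, hm⟩ : ∃ m, p = m + 1 := ⟨p - 1, by have := hp.pos; omega⟩
  refine ⟨Units.mkOfMulEqOne ((1 : DualNumber F) + DualNumber.eps)
    (((1 : DualNumber F) + DualNumber.eps) ^ m) (by rw [← pow_succ', ← hm, hpow]), ?_⟩
  apply orderOf_eq_prime
  · apply Units.ext
    rw [Units.val_pow_eq_pow_val, Units.val_one]
    exact hpow
  · intro h
    have h1 := congrArg Units.val h
    rw [Units.val_one] at h1
    have h2 : ((1 : DualNumber F) + DualNumber.eps) = 1 := h1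
    have h3 : (DualNumber.eps : DualNumber F) = 0 := by
      have := congrArg (fun x => x - 1) h2
      simpa using this
    have h4 := congrArg TrivSqZeroExt.snd h3
    rw [DualNumber.snd_eps, TrivSqZeroExt.snd_zero] at h4
    exact one_ne_zero h4

variable [Fintype F]

/-- The case `2 ≤ ord_r(q) ≤ n - 2`. -/
theorem exists_elt_of_two_le (p : ℕ) [Fact p.Prime] [CharP F p] {n : ℕ} {r : ℕ} (hr : r.Prime)
    (hrp : r ≠ p) (hk2 : 2 ≤ orderOf ((Fintype.card F : ℕ) : ZMod r))
    (hkn : orderOf ((Fintype.card F : ℕ) : ZMod r) + 2 ≤ n) :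
    ∃ y : Matrix.ProjectiveSpecialLinearGroup (Fin n) F, orderOf y = r * p := by
  classical
  have hp : p.Prime := Fact.out
  obtain ⟨k, hkdef⟩ : ∃ k, k = orderOf ((Fintype.card F : ℕ) : ZMod r) := ⟨_, rfl⟩
  rw [← hkdef] at hk2 hkn
  haveI : NeZero k := ⟨by omega⟩
  have hq1 : 1 ≤ Fintype.card F := Fintype.card_pos
  have hrk : r ∣ Fintype.card F ^ k - 1 := by
    rw [hkdef]
    exact dvd_pow_orderOf_sub_one hq1
  obtain ⟨ζ, hζ⟩ := exists_orderOf_units_extension (F := F) p k hrk
  obtain ⟨e, he⟩ := exists_dual_unit (F := F) p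
  obtain ⟨w, hw⟩ : ∃ w : (FiniteField.Extension F p k × DualNumber F)ˣ, orderOf w = r * p := by
    refine ⟨MulEquiv.prodUnits.symm (ζ, e), ?_⟩
    rw [MulEquiv.orderOf_eq, Prod.orderOf_mk, hζ, he]
    exact ((Nat.coprime_primes hr hp).mpr hrp).lcm_eq_mul
  have hfr : finrank F (FiniteField.Extension F p k × DualNumber F) ≤ n := by
    rw [Module.finrank_prod, FiniteField.finrank_extension, finrank_dualNumber]
    exact hkn
  obtain ⟨f, hf⟩ := exists_units_embedding (F := F)
    (FiniteField.Extension F p k × DualNumber F) hfr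
  have hcop : Nat.Coprime (r * p) (Fintype.card F - 1) := by
    apply Nat.Coprime.mul_left
    · rw [Nat.Prime.coprime_iff_not_dvd hr]
      rw [hkdef] at hk2
      exact not_dvd_sub_one_of_two_le_orderOf hq1 hk2
    · exact char_coprime_card_sub_one p
  exact exists_orderOf_PSL_of_GL (by omega) hcop (f w) (by rw [orderOf_injective f hf, hw])

end PSLAdj
end Cfsg.Agent.Helper12
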