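import Mathlib
import Cfsg.Agent.Lib.Helper12.PSL3SpecExist

/-!
# Arithmetic for the Singer torus of `PSL_n(q)`, `n` even (helper12)
-/

set_option autoImplicit false

namespace Cfsg.Agent.Helper12
namespace PSLnSinger

/-- the geometric sum `1 + q + ⋯ + q^(m-1)` -/
def geom (q m : ℕ) : ℕ := ∑ i ∈ Finset.range m, q ^ i

theorem geom_succ (q m : ℕ) : geom q (m + 1) = geom q m + q ^ m := by
  unfold geom
  rw [Finset.sum_range_succ]

theorem sub_one_mul_geom {q : ℕ} (hq : 1 ≤ q) (m : ℕ) : (q - 1) * geom q m = q ^ m - 1 := by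
  obtain ⟨t, rfl⟩ : ∃ t, q = t + 1 := ⟨q - 1, by omega⟩
  rw [Nat.add_sub_cancel]
  induction m with
  | zero => simp [geom]
  | succ m ih =>
    rw [geom_succ, mul_add, ih]
    have h1 : 1 ≤ (t + 1) ^ m := Nat.one_le_pow _ _ (by omega)
    have h2 : (t + 1) ^ (m + 1) = t * (t + 1) ^ m + (t + 1) ^ m := by ring
    omega

theorem geom_pos {q m : ℕ} (hm : 0 < m) : 0 < geom q m := by
  obtain ⟨k, rfl⟩ : ∃ k, m = k + 1 := ⟨m - 1, by omega⟩
  unfold geom
  rw [Finset.sum_range_succ']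
  simp

theorem geom_two_mul {q : ℕ} (hq : 2 ≤ q) (m : ℕ) :
    geom q (2 * m) = geom q m * (q ^ m + 1) := by
  have h1 := sub_one_mul_geom (by omega : 1 ≤ q) (2 * m)
  have h2 := sub_one_mul_geom (by omega : 1 ≤ q) m
  have h3 : q ^ (2 * m) - 1 = (q ^ m - 1) * (q ^ m + 1) := by
    have h4 : 1 ≤ q ^ m := Nat.one_le_pow _ _ (by omega)
    obtain ⟨s, hs⟩ : ∃ s, q ^ m = s + 1 := ⟨q ^ m - 1, by omega⟩
    rw [mul_comm 2 m, pow_mul, hs, Nat.add_sub_cancel]
    have : (s + 1) ^ 2 = s * (s + 1 + 1) + 1 := by ring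
    rw [this, Nat.add_sub_cancel]
  have h5 : (q - 1) * geom q (2 * m) = (q - 1) * (geom q m * (q ^ m + 1)) := by
    rw [h1, h3, ← h2, mul_assoc]
  exact Nat.eq_of_mul_eq_mul_left (by omega) h5

theorem modEq_one {q : ℕ} (hq : 1 ≤ q) : q ≡ 1 [MOD q - 1] := by
  have h : q = (q - 1) + 1 := by omega
  conv_lhs => rw [h]
  exact Nat.add_modEq_left

theorem geom_modEq {q : ℕ} (hq : 1 ≤ q) (m : ℕ) : geom q m ≡ m [MOD q - 1] := by
  induction m with
  | zero => simp [geom, Nat.ModEq]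
  | succ m ih =>
    rw [geom_succ]
    have h1 : q ^ m ≡ 1 [MOD q - 1] := by
      have := (modEq_one hq).pow m
      rwa [one_pow] at this
    exact ih.add h1

/-- a common divisor of `geom q m` and `q - 1` divides `m` -/
theorem dvd_of_dvd_geom {q : ℕ} (hq : 1 ≤ q) {m e : ℕ} (h1 : e ∣ geom q m) (h2 : e ∣ q - 1) :
    e ∣ m :=
  ((geom_modEq hq m).dvd_iff h2).1 h1

/-- a divisor of `q - 1` and `m` divides `geom q m` -/
theorem dvd_geom_of_dvd {q : ℕ} (hq : 1 ≤ q) {m e : ℕ} (h1 : e ∣ m) (h2 : e ∣ q - 1) :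
    e ∣ geom q m :=
  ((geom_modEq hq m).dvd_iff h2).2 h1

theorem pow_add_one_modEq {q : ℕ} (hq : 1 ≤ q) (m : ℕ) : q ^ m + 1 ≡ 2 [MOD q - 1] := by
  have h1 : q ^ m ≡ 1 [MOD q - 1] := by
    have := (modEq_one hq).pow m
    rwa [one_pow] at this
  exact h1.add_right 1

/-- `q^m + 1` is prime to the odd divisors of `q - 1` -/
theorem coprime_pow_add_one {q : ℕ} (hq : 1 ≤ q) (m : ℕ) {u : ℕ} (hu : u ∣ q - 1)
    (hodd : ¬ 2 ∣ u) : Nat.Coprime (q ^ m + 1) u := by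
  have hg1 : Nat.gcd (q ^ m + 1) u ∣ q - 1 := (Nat.gcd_dvd_right _ _).trans hu
  have hg2 : Nat.gcd (q ^ m + 1) u ∣ 2 :=
    ((pow_add_one_modEq hq m).dvd_iff hg1).1 (Nat.gcd_dvd_left _ _)
  rcases (Nat.dvd_prime Nat.prime_two).1 hg2 with h | h
  · exact h
  · exfalso
    apply hodd
    rw [← h]
    exact Nat.gcd_dvd_right _ _

/-- the arithmetic behind the necessity of the 2-adic condition -/
theorem padic_lt_of_order {q n m o : ℕ} (hq : 3 ≤ q) (hodd : Odd q) (hn : n = 2 * m)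
    (hm : 0 < m) (ho0 : 0 < o) (ho : o ∣ geom q n)
    (h : ∀ j : ℕ, o ∣ j * (q - 1) ↔ (q ^ m + 1) ∣ j) :
    padicValNat 2 (q - 1) < padicValNat 2 n := by
  have hq1 : 1 ≤ q := by omega
  have hq10 : q - 1 ≠ 0 := by omega
  obtain ⟨N, hN⟩ : ∃ N, N = q ^ m + 1 := ⟨_, rfl⟩
  rw [← hN] at h
  have hNpos : 0 < N := by rw [hN]; omega
  have hNeven : 2 ∣ N := by
    rw [hN]
    have : Odd (q ^ m) := hodd.pow
    obtain ⟨t, ht⟩ := this
    exact ⟨t + 1, by omega⟩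
  obtain ⟨e, he⟩ : ∃ e, e = Nat.gcd o (q - 1) := ⟨_, rfl⟩
  have hepos : 0 < e := by
    rw [he]
    exact Nat.gcd_pos_of_pos_left _ ho0
  have he1 : e ∣ o := he ▸ Nat.gcd_dvd_left _ _
  have he2 : e ∣ q - 1 := he ▸ Nat.gcd_dvd_right _ _
  -- `o / e = N`
  have h1 : o / e ∣ N := by
    have h2 : o ∣ (q - 1) * N := by
      rw [mul_comm]
      exact (h N).2 dvd_rfl
    rw [he]
    exact PSL3Spec.div_gcd_dvd_of_dvd_mul ho0 h2
  have h2 : N ∣ o / e := by
    apply (h _).1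
    obtain ⟨u', hu'⟩ := he2
    obtain ⟨j0, hj0⟩ := he1
    rw [hj0, Nat.mul_div_cancel_left _ hepos, hu']
    exact ⟨u', by ring⟩
  have h3 : o / e = N := Nat.dvd_antisymm h1 h2
  have ho' : o = N * e := by
    rw [← h3]
    exact (Nat.div_mul_cancel he1).symm
  -- `(q - 1) / e` is odd
  have hcop : Nat.Coprime (o / e) ((q - 1) / e) := by
    rw [he]
    exact Nat.coprime_div_gcd_div_gcd (he ▸ hepos)
  rw [h3] at hcop
  have hodd' : ¬ 2 ∣ (q - 1) / e := by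
    intro h2'
    have := Nat.dvd_gcd hNeven h2'
    rw [hcop] at this
    omega
  -- `2^v ∣ e`
  have hv : 2 ^ padicValNat 2 (q - 1) ∣ q - 1 := pow_padicValNat_dvd
  have hv2 : 2 ^ padicValNat 2 (q - 1) ∣ e := by
    have h4 : q - 1 = e * ((q - 1) / e) := (Nat.mul_div_cancel' he2).symm
    have hv' : 2 ^ padicValNat 2 (q - 1) ∣ e * ((q - 1) / e) := h4 ▸ hv
    have hc : Nat.Coprime (2 ^ padicValNat 2 (q - 1)) ((q - 1) / e) := by
      apply Nat.Coprime.pow_left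
      exact (Nat.Prime.coprime_iff_not_dvd Nat.prime_two).2 hodd'
    exact hc.dvd_of_dvd_mul_right hv'
  -- `e ∣ geom q m`
  have hgm : geom q n = geom q m * N := by
    rw [hn, hN]
    exact geom_two_mul (by omega) m
  have he3 : e ∣ geom q m := by
    rw [hgm, ho', mul_comm (geom q m) N] at ho
    exact Nat.dvd_of_mul_dvd_mul_left hNpos ho
  have he4 : e ∣ m := dvd_of_dvd_geom hq1 he3 he2
  have hvm : 2 ^ padicValNat 2 (q - 1) ∣ m := hv2.trans he4
  have hvn : 2 ^ (padicValNat 2 (q - 1) + 1) ∣ n := by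
    rw [hn, pow_succ, mul_comm]
    exact Nat.mul_dvd_mul_left 2 hvm
  have hn0 : n ≠ 0 := by omega
  have := (padicValNat_dvd_iff_le hn0).1 hvn
  omega

/-- the arithmetic behind the sufficiency of the 2-adic condition -/
theorem order_of_padic_lt {q n m : ℕ} (hq : 3 ≤ q) (hn : n = 2 * m) (hm : 0 < m)
    (hv : padicValNat 2 (q - 1) < padicValNat 2 n) :
    (q ^ m + 1) * 2 ^ padicValNat 2 (q - 1) ∣ geom q n ∧
      ∀ j : ℕ, (q ^ m + 1) * 2 ^ padicValNat 2 (q - 1) ∣ j * (q - 1) ↔ (q ^ m + 1) ∣ j := by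
  have hq1 : 1 ≤ q := by omega
  have hq10 : q - 1 ≠ 0 := by omega
  have hn0 : n ≠ 0 := by omega
  obtain ⟨v, hvdef⟩ : ∃ v, v = padicValNat 2 (q - 1) := ⟨_, rfl⟩
  rw [← hvdef] at hv ⊢
  have hv1 : 2 ^ v ∣ q - 1 := hvdef ▸ pow_padicValNat_dvd
  have hvn : 2 ^ (v + 1) ∣ n := (padicValNat_dvd_iff_le hn0).2 (by omega)
  have hvm : 2 ^ v ∣ m := by
    rw [hn, pow_succ, mul_comm] at hvn
    exact Nat.dvd_of_mul_dvd_mul_left (by norm_num) hvn
  have hgm : geom q n = geom q m * (q ^ m + 1) := by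
    rw [hn]
    exact geom_two_mul (by omega) m
  have hvg : 2 ^ v ∣ geom q m := dvd_geom_of_dvd hq1 hvm hv1
  refine ⟨?_, ?_⟩
  · rw [hgm, mul_comm]
    exact Nat.mul_dvd_mul_right hvg _
  · obtain ⟨u, hu⟩ := hv1
    have hu2 : ¬ 2 ∣ u := by
      intro h2
      have h3 : 2 ^ (v + 1) ∣ q - 1 := by
        rw [hu, pow_succ]
        exact Nat.mul_dvd_mul_left _ h2
      have := (padicValNat_dvd_iff_le hq10).1 h3
      omega
    have hcop : Nat.Coprime (q ^ m + 1) u :=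
      coprime_pow_add_one hq1 m ⟨2 ^ v, by rw [hu, mul_comm]⟩ hu2
    intro j
    have h2v : 0 < 2 ^ v := by positivity
    constructor
    · intro h
      have h1 : (q ^ m + 1) * 2 ^ v ∣ (j * u) * 2 ^ v := by
        have : j * u * 2 ^ v = j * (q - 1) := by rw [hu]; ring
        rw [this]
        exact h
      have h2 := Nat.dvd_of_mul_dvd_mul_right h2v h1
      exact hcop.dvd_of_dvd_mul_right h2
    · rintro ⟨i, rfl⟩
      rw [hu]
      exact ⟨i * u, by ring⟩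

end PSLnSinger
end Cfsg.Agent.Helper12
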