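import Mathlib
import Cfsg.Agent.Lib.Helper12.PSL3SpecPoly

/-!
# Elements of ppd order in `GL_n(q)`: irreducibility, centralizer and determinants (helper12)
-/

set_option autoImplicit false

namespace Cfsg.Agent.Helper12
namespace PSLnSinger

open Polynomial Module

section irr
variable {F : Type*} [Field F] [Fintype F]

/-- a matrix killed by a power of `X - 1` and of order dividing `r`, `r` invertible, is `1` -/
theorem eq_one_of_pow_sub_one {n : ℕ} (z : Matrix (Fin n) (Fin n) F) {r a : ℕ}
    (hrF : (r : F) ≠ 0) (hzr : z ^ r = 1) (hza : (z - 1) ^ a = 0) : z = 1 := by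
  obtain ⟨Φ, hΦ⟩ : ∃ Φ : F[X], Φ = ∑ i ∈ Finset.range r, X ^ i := ⟨_, rfl⟩
  have h1 : Φ * (X - C 1) = X ^ r - 1 := by
    rw [hΦ, map_one]
    exact geom_sum_mul X r
  have heval : Φ.eval 1 = (r : F) := by
    rw [hΦ, eval_finset_sum]
    simp
  have hnd : ¬ (X - C (1 : F)) ∣ Φ := by
    rw [dvd_iff_isRoot, IsRoot.def, heval]
    exact hrF
  have hcop : IsCoprime ((X - C (1 : F)) ^ a) Φ :=
    ((irreducible_X_sub_C (1 : F)).coprime_iff_not_dvd.2 hnd).pow_left
  obtain ⟨s, t, hst⟩ := hcop
  have h2 := congrArg (aeval z) hst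
  have hx1 : aeval z (X - C (1 : F)) = z - 1 := by
    rw [map_sub, aeval_X, aeval_C, map_one]
  rw [map_add, map_mul, map_mul, map_pow, hx1, hza, mul_zero, zero_add, map_one] at h2
  have h3 := congrArg (aeval z) h1
  rw [map_mul, hx1, map_sub, map_pow, aeval_X, map_one, hzr, sub_self] at h3
  have h4 : z - 1 = (aeval z t * aeval z Φ) * (z - 1) := by rw [h2, one_mul]
  rw [mul_assoc, h3, mul_zero] at h4
  exact sub_eq_zero.1 h4

/-- an element of primitive prime order `r` of `GL_n(q)` has an irreducible minimal polynomial of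
degree `n` -/
theorem irreducible_minpoly {n : ℕ} (z : Matrix (Fin n) (Fin n) F) {r : ℕ} (hr : r.Prime)
    (hrF : (r : F) ≠ 0) (hzr : z ^ r = 1) (hz1 : z ≠ 1)
    (hppd : ∀ k : ℕ, 0 < k → k < n → ¬ r ∣ Fintype.card F ^ k - 1) :
    Irreducible (minpoly F z) ∧ (minpoly F z).natDegree = n := by
  classical
  haveI : Fact r.Prime := ⟨hr⟩
  have hint : IsIntegral F z := Matrix.isIntegral z
  have hf0 : minpoly F z ≠ 0 := minpoly.ne_zero hint
  have hfdvd : minpoly F z ∣ X ^ r - 1 := by
    apply minpoly.dvd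
    rw [map_sub, map_pow, aeval_X, map_one, hzr, sub_self]
  have hdegle : (minpoly F z).natDegree ≤ n := by
    have h1 := Matrix.minpoly_dvd_charpoly z
    have h2 := natDegree_le_of_dvd h1 (Matrix.charpoly_monic z).ne_zero
    rwa [Matrix.charpoly_natDegree_eq_dim, Fintype.card_fin] at h2
  obtain ⟨h, hfh, hnd⟩ := exists_eq_pow_rootMultiplicity_mul_and_not_dvd (minpoly F z) hf0 1
  have hh0 : h ≠ 0 := by
    rintro rfl
    rw [mul_zero] at hfh
    exact hf0 hfh
  have hhf : h ∣ minpoly F z := ⟨_, by rw [hfh, mul_comm]⟩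
  by_cases hu : IsUnit h
  · exfalso
    apply hz1
    apply eq_one_of_pow_sub_one z hrF hzr (a := (minpoly F z).rootMultiplicity 1)
    have h1 : aeval z (minpoly F z) = 0 := minpoly.aeval F z
    rw [hfh, map_mul, map_pow, map_sub, aeval_X, aeval_C, map_one] at h1
    have h2 : IsUnit (aeval z h) := hu.map (aeval z)
    exact h2.mul_left_eq_zero.1 h1
  · obtain ⟨g, hg, hgh⟩ := WfDvdMonoid.exists_irreducible_factor hu hh0
    haveI : Fact (Irreducible g) := ⟨hg⟩
    have hgf : g ∣ minpoly F z := hgh.trans hhf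
    have hgx : g ∣ X ^ r - 1 := hgf.trans hfdvd
    have hroot : (AdjoinRoot.root g) ^ r = 1 := by
      have h1 : AdjoinRoot.mk g (X ^ r - 1) = 0 := AdjoinRoot.mk_eq_zero.2 hgx
      rw [map_sub, map_pow, AdjoinRoot.mk_X, map_one] at h1
      exact sub_eq_zero.1 h1
    have hroot1 : AdjoinRoot.root g ≠ 1 := by
      intro h1
      have h2 : AdjoinRoot.mk g (X - C 1) = 0 := by
        rw [map_sub, AdjoinRoot.mk_X, AdjoinRoot.mk_C, map_one, h1, sub_self]
      have h3 : g ∣ X - C 1 := AdjoinRoot.mk_eq_zero.1 h2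
      exact hnd ((hg.dvd_symm (irreducible_X_sub_C 1) h3).trans hgh)
    have hord : orderOf (AdjoinRoot.root g) = r := orderOf_eq_prime hroot hroot1
    have hroot0 : AdjoinRoot.root g ≠ 0 := by
      intro h0
      rw [h0, zero_pow hr.ne_zero] at hroot
      exact zero_ne_one hroot
    have hrd : r ∣ Fintype.card F ^ g.natDegree - 1 := by
      rw [← hord]
      exact orderOf_dvd_of_pow_eq_one (PSL3Spec.card_adjoinRoot hg _ hroot0)
    have hgpos : 0 < g.natDegree := natDegree_pos_iff_degree_pos.2 (degree_pos_of_irreducible hg)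
    have hgn : n ≤ g.natDegree := by
      by_contra hlt
      exact hppd _ hgpos (by omega) hrd
    have hgle : g.natDegree ≤ (minpoly F z).natDegree := natDegree_le_of_dvd hgf hf0
    have hdeg : (minpoly F z).natDegree = n := by omega
    refine ⟨?_, hdeg⟩
    obtain ⟨c, hc⟩ := hgf
    have hc0 : c ≠ 0 := by
      rintro rfl
      rw [mul_zero] at hc
      exact hf0 hc
    have hcdeg : c.natDegree = 0 := by
      have := congrArg natDegree hc
      rw [natDegree_mul hg.ne_zero hc0] at this
      omega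
    have hcu : IsUnit c := by
      rw [eq_C_of_natDegree_eq_zero hcdeg] at hc0 ⊢
      exact isUnit_C.2 (isUnit_iff_ne_zero.2 (by simpa using hc0))
    have hassoc : Associated g (minpoly F z) := ⟨hcu.unit, by rw [hc]; rfl⟩
    exact hassoc.irreducible hg

end irr

section cent
universe u
variable {F : Type u} [Field F] [Fintype F] {n : ℕ}

/-- the evaluation map `F[X]/(minpoly z) → M_n(F)` -/
noncomputable def psi (z : Matrix (Fin n) (Fin n) F) :
    AdjoinRoot (minpoly F z) →ₐ[F] Matrix (Fin n) (Fin n) F :=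
  Ideal.Quotient.liftₐ (Ideal.span {minpoly F z}) (aeval z) (by
    intro a ha
    obtain ⟨b, rfl⟩ := Ideal.mem_span_singleton.1 ha
    rw [map_mul, minpoly.aeval, zero_mul])

theorem psi_mk (z : Matrix (Fin n) (Fin n) F) (g : F[X]) :
    psi z (AdjoinRoot.mk (minpoly F z) g) = aeval z g := rfl

theorem psi_commute (z x : Matrix (Fin n) (Fin n) F) (hxz : Commute x z)
    (k : AdjoinRoot (minpoly F z)) : Commute x (psi z k) := by
  obtain ⟨g, rfl⟩ := AdjoinRoot.mk_surjective k
  rw [psi_mk]
  have h1 : z ∈ Subalgebra.centralizer F ({x} : Set (Matrix (Fin n) (Fin n) F)) := by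
    rw [Subalgebra.mem_centralizer_iff]
    intro y hy
    rw [Set.mem_singleton_iff] at hy
    rw [hy]
    exact hxz
  have h2 : Algebra.adjoin F ({z} : Set (Matrix (Fin n) (Fin n) F)) ≤
      Subalgebra.centralizer F ({x} : Set (Matrix (Fin n) (Fin n) F)) :=
    Algebra.adjoin_le (Set.singleton_subset_iff.2 h1)
  have h3 := h2 (aeval_mem_adjoin_singleton F z (p := g))
  rw [Subalgebra.mem_centralizer_iff] at h3
  exact h3 x rfl

variable (z : Matrix (Fin n) (Fin n) F) [hirr : Fact (Irreducible (minpoly F z))]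

theorem finrank_adjoinRoot (hdeg : (minpoly F z).natDegree = n) :
    finrank F (AdjoinRoot (minpoly F z)) = n := by
  rw [(AdjoinRoot.powerBasis hirr.out.ne_zero).finrank, AdjoinRoot.powerBasis_dim, hdeg]

theorem psi_injective (hn : 0 < n) : Function.Injective (psi z) := by
  haveI : Nonempty (Fin n) := ⟨⟨0, hn⟩⟩
  exact (psi z).toRingHom.injective

/-- the orbit map of the vector `(1, …, 1)` -/
noncomputable def theta : AdjoinRoot (minpoly F z) →ₗ[F] (Fin n → F) where
  toFun k := (psi z k).mulVec (fun _ => 1)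
  map_add' a b := by rw [map_add, Matrix.add_mulVec]
  map_smul' c a := by
    rw [map_smul, Matrix.smul_mulVec]
    rfl

theorem theta_apply (k : AdjoinRoot (minpoly F z)) :
    theta z k = (psi z k).mulVec (fun _ => 1) := rfl

theorem theta_injective (hn : 0 < n) : Function.Injective (theta z) := by
  rw [← LinearMap.ker_eq_bot, LinearMap.ker_eq_bot']
  intro k hk
  by_contra hk0
  have h1 : (psi z (k⁻¹ * k)).mulVec (fun _ => (1 : F)) = 0 := by
    rw [map_mul, ← Matrix.mulVec_mulVec]
    rw [theta_apply] at hk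
    rw [hk, Matrix.mulVec_zero]
  rw [inv_mul_cancel₀ hk0, map_one, Matrix.one_mulVec] at h1
  have := congrFun h1 ⟨0, hn⟩
  exact one_ne_zero this

theorem theta_surjective (hn : 0 < n) (hdeg : (minpoly F z).natDegree = n) :
    Function.Surjective (theta z) := by
  haveI : FiniteDimensional F (AdjoinRoot (minpoly F z)) :=
    (AdjoinRoot.powerBasis hirr.out.ne_zero).finite
  have h1 : finrank F (AdjoinRoot (minpoly F z)) = finrank F (Fin n → F) := by
    rw [finrank_adjoinRoot z hdeg, Module.finrank_fin_fun]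
  exact (LinearMap.injective_iff_surjective_of_finrank_eq_finrank h1).1 (theta_injective z hn)

theorem theta_mul (k l : AdjoinRoot (minpoly F z)) :
    theta z (k * l) = (psi z k).mulVec (theta z l) := by
  rw [theta_apply, theta_apply, map_mul, Matrix.mulVec_mulVec]

/-- the centralizer of `z` is the image of the field `F[z]` -/
theorem exists_psi_eq_of_commute (hn : 0 < n) (hdeg : (minpoly F z).natDegree = n)
    (x : Matrix (Fin n) (Fin n) F) (hxz : Commute x z) :
    ∃ k : AdjoinRoot (minpoly F z), psi z k = x := by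
  obtain ⟨k₀, hk₀⟩ := theta_surjective z hn hdeg (x.mulVec (fun _ => 1))
  refine ⟨k₀, ?_⟩
  apply Matrix.toLin'.injective
  apply LinearMap.ext
  intro v
  rw [Matrix.toLin'_apply, Matrix.toLin'_apply]
  obtain ⟨k, rfl⟩ := theta_surjective z hn hdeg v
  rw [← theta_mul, mul_comm, theta_mul, hk₀, Matrix.mulVec_mulVec, theta_apply,
    Matrix.mulVec_mulVec, (psi_commute z x hxz k).eq]

/-- the determinant on `F[z]` is the field norm -/
theorem det_psi (hn : 0 < n) (hdeg : (minpoly F z).natDegree = n)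
    (k : AdjoinRoot (minpoly F z)) : (psi z k).det = Algebra.norm F k := by
  haveI : FiniteDimensional F (AdjoinRoot (minpoly F z)) :=
    (AdjoinRoot.powerBasis hirr.out.ne_zero).finite
  obtain ⟨e, he⟩ : ∃ e : AdjoinRoot (minpoly F z) ≃ₗ[F] (Fin n → F),
      ∀ l, e l = theta z l :=
    ⟨LinearEquiv.ofBijective (theta z) ⟨theta_injective z hn, theta_surjective z hn hdeg⟩,
      fun l => rfl⟩
  have h1 : Matrix.toLin' (psi z k) =
      (e : AdjoinRoot (minpoly F z) →ₗ[F] (Fin n → F)) ∘ₗ
        (Algebra.lmul F (AdjoinRoot (minpoly F z)) k) ∘ₗ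
          (e.symm : (Fin n → F) →ₗ[F] AdjoinRoot (minpoly F z)) := by
    apply LinearMap.ext
    intro v
    obtain ⟨l, rfl⟩ := e.surjective v
    rw [Matrix.toLin'_apply, LinearMap.comp_apply, LinearMap.comp_apply, LinearEquiv.coe_coe,
      LinearEquiv.coe_coe, LinearEquiv.symm_apply_apply, he, he]
    exact (theta_mul z k l).symm
  rw [← LinearMap.det_toLin', h1, LinearMap.det_conj, Algebra.norm_apply]

end cent

end PSLnSinger
end Cfsg.Agent.Helper12
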