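import Mathlib
import Cfsg.Agent.Lib.Helper12.PSL3SpecPoly
import Cfsg.Agent.Lib.Helper13.UnitaryPalin

/-!
# Spectrum of `PSU_3(q)`, `q` odd: the polynomial part (helper12)

For a monic conjugate-palindromic cubic `f` over the field with `q ^ 2` elements with constant
term `-1` we find `j` in the list of maximal element orders of `PSU_3(q)` and a scalar `l` with
`f ∣ X ^ j - l`.
-/

set_option autoImplicit false
set_option linter.style.haveILetI false
set_option linter.unusedSectionVars false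

open Polynomial Module

namespace Cfsg.Agent.Helper12
namespace PSU3Spec

open Cfsg.Agent.Helper12.PSL3Spec Cfsg.Agent.Helper13.Uni

section frob
variable {K : Type*} [Field K] {L : Type*} [Field L] [Algebra K L] {q : ℕ}

/-- Frobenius and evaluation -/
theorem aeval_frob_map (φ : K →+* K) (hφ : ∀ x, φ x = x ^ q) (ψ : L →+* L)
    (hψ : ∀ x, ψ x = x ^ q) (P : K[X]) (μ : L) : aeval (ψ μ) (P.map φ) = ψ (aeval μ P) := by
  rw [aeval_def, eval₂_map, aeval_def, hom_eval₂]
  congr 1
  ext x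
  rw [RingHom.comp_apply, RingHom.comp_apply, hφ, hψ, map_pow]

theorem map_map_self' {φ : K →+* K} (hφ2 : ∀ x, φ (φ x) = x) (g : K[X]) :
    (g.map φ).map φ = g := by
  rw [Polynomial.map_map]
  have : φ.comp φ = RingHom.id K := by
    ext x
    exact hφ2 x
  rw [this, Polynomial.map_id]

/-- the roots of a conjugate-palindromic polynomial are closed under `x ↦ x ^ (-q)` -/
theorem aeval_inv_frob {φ : K →+* K} (hφ : ∀ x, φ x = x ^ q) (hφ2 : ∀ x, φ (φ x) = x)
    (ψ : L →+* L) (hψ : ∀ x, ψ x = x ^ q) {P : K[X]} (hP : CPal φ P) {μ : L} (hμ0 : μ ≠ 0)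
    (hμ : aeval μ P = 0) : aeval (μ ^ q)⁻¹ P = 0 := by
  have h1 : aeval μ⁻¹ (P.map φ) = 0 := by
    let _ : Invertible μ⁻¹ := ⟨μ, mul_inv_cancel₀ hμ0, inv_mul_cancel₀ hμ0⟩
    have h2 := eval₂_reverse_eq_zero_iff (algebraMap K L) μ⁻¹ (P.map φ)
    rw [aeval_def]
    apply h2.1
    have h4 : ⅟(μ⁻¹) = μ := rfl
    unfold CPal at hP
    have h5 : eval₂ (algebraMap K L) μ P = 0 := by
      rw [← aeval_def]
      exact hμ
    rw [h4, hP, eval₂_mul, h5, mul_zero]
  have h3 := aeval_frob_map φ hφ ψ hψ (P.map φ) μ⁻¹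
  rw [h1, map_zero, map_map_self' hφ2, hψ, inv_pow] at h3
  exact h3

end frob

section finite
variable {K : Type*} [Field K] [Fintype K] {q : ℕ}

theorem two_le_q' (hK : Fintype.card K = q ^ 2) : 2 ≤ q := by
  have h1 : 1 < Fintype.card K := Fintype.one_lt_card
  rw [hK] at h1
  by_contra h
  have : q = 0 ∨ q = 1 := by omega
  rcases this with rfl | rfl <;> simp at h1

theorem frob_frob' (hK : Fintype.card K = q ^ 2) {φ : K →+* K} (hφ : ∀ x, φ x = x ^ q) (x : K) :
    φ (φ x) = x := by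
  rw [hφ, hφ, ← pow_mul, ← sq, ← hK, FiniteField.pow_card]

/-- the Frobenius `x ↦ x ^ q` on an extension -/
theorem exists_frob_ext (hK : Fintype.card K = q ^ 2) (p : ℕ) [Fact p.Prime] [CharP K p]
    (L : Type*) [Field L] [Algebra K L] : ∃ ψ : L →+* L, ∀ x, ψ x = x ^ q := by
  have hp : p.Prime := Fact.out
  obtain ⟨n, hn⟩ := FiniteField.card K p
  have hdvd : q ∣ p ^ (n : ℕ) := by
    rw [← hn.2, hK]
    exact Dvd.intro_left q (by ring)
  obtain ⟨j, -, hj⟩ := (Nat.dvd_prime_pow hp).1 hdvd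
  haveI : CharP L p := charP_of_injective_algebraMap (algebraMap K L).injective p
  exact ⟨iterateFrobenius L p j, fun x => by rw [iterateFrobenius_def, hj]⟩

/-- the roots of an irreducible polynomial in its root field are Frobenius conjugates -/
theorem exists_pow_of_aeval_eq_zero {f : K[X]} (hf : Irreducible f) {μ : AdjoinRoot f}
    (hμ : aeval μ f = 0) :
    ∃ j < f.natDegree, μ = AdjoinRoot.root f ^ (Fintype.card K ^ j) := by
  haveI : Fact (Irreducible f) := ⟨hf⟩
  haveI : FiniteDimensional K (AdjoinRoot f) := (AdjoinRoot.powerBasis hf.ne_zero).finite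
  haveI : Finite (AdjoinRoot f) := Module.finite_of_finite K
  obtain ⟨σ, hσ⟩ : ∃ σ : AdjoinRoot f →ₐ[K] AdjoinRoot f,
      σ = AdjoinRoot.liftAlgHom f (Algebra.ofId K (AdjoinRoot f)) μ hμ := ⟨_, rfl⟩
  have hσroot : σ (AdjoinRoot.root f) = μ := by
    rw [hσ]
    exact AdjoinRoot.liftAlgHom_root _ _ _ _
  obtain ⟨j, hj⟩ := (FiniteField.bijective_frobeniusAlgHom_pow K (AdjoinRoot f)).2 σ
  refine ⟨j.1, ?_, ?_⟩
  · exact lt_of_lt_of_eq j.2
      (by rw [(AdjoinRoot.powerBasis hf.ne_zero).finrank, AdjoinRoot.powerBasis_dim])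
  · rw [← hσroot, ← hj]
    show (FiniteField.frobeniusAlgHom K (AdjoinRoot f) ^ j.1) (AdjoinRoot.root f) = _
    rw [AlgHom.coe_pow, FiniteField.coe_frobeniusAlgHom, pow_iterate]

/-- the root of an irreducible polynomial of degree at least two is not in the base field -/
theorem root_ne_algebraMap {f : K[X]} (hf : Irreducible f) (hdeg : 2 ≤ f.natDegree) (c : K) :
    algebraMap K (AdjoinRoot f) c ≠ AdjoinRoot.root f := by
  haveI : Fact (Irreducible f) := ⟨hf⟩
  intro h
  have h1 : aeval (AdjoinRoot.root f) f = 0 := by rw [AdjoinRoot.aeval_eq, AdjoinRoot.mk_self]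
  rw [← h, aeval_algebraMap_apply, map_eq_zero_iff _ (algebraMap K (AdjoinRoot f)).injective]
    at h1
  have h2 : f.IsRoot c := by
    rw [IsRoot.def, ← coe_aeval_eq_eval]
    exact h1
  have h3 := Polynomial.degree_eq_one_of_irreducible_of_root hf h2
  rw [degree_eq_natDegree hf.ne_zero] at h3
  have h4 : f.natDegree = 1 := by exact_mod_cast h3
  omega

/-- the root of an irreducible polynomial of degree at least two is not killed by `q + 1` -/
theorem root_pow_ne_one (hK : Fintype.card K = q ^ 2) {f : K[X]} (hf : Irreducible f)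
    (hdeg : 2 ≤ f.natDegree) : AdjoinRoot.root f ^ (q + 1) ≠ 1 := by
  haveI : Fact (Irreducible f) := ⟨hf⟩
  intro h
  have hq := two_le_q' hK
  have h1 : AdjoinRoot.root f ^ (Fintype.card K - 1) = 1 := by
    have : Fintype.card K - 1 = (q + 1) * (q - 1) := by
      rw [hK]
      obtain ⟨t, rfl⟩ : ∃ t, q = t + 1 := ⟨q - 1, by omega⟩
      simp only [Nat.add_sub_cancel]
      have : (t + 1) ^ 2 = (t + 1 + 1) * t + 1 := by ring
      rw [this, Nat.add_sub_cancel]
    rw [this, pow_mul, h, one_pow]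
  obtain ⟨c, hc⟩ := exists_algebraMap_eq_of_pow_card_sub_one (F := K) h1
  exact root_ne_algebraMap hf hdeg c hc

/-- if the inverse Frobenius image of the root is one of its first two conjugates, the root is
killed by `q + 1` -/
theorem root_pow_of_conj (hK : Fintype.card K = q ^ 2) {L : Type*} [Field L]
    (ψ : L →+* L) (hψ : ∀ x, ψ x = x ^ q) {μ : L} {j : ℕ} (hj : j < 2)
    (h : (μ ^ q)⁻¹ = μ ^ (Fintype.card K ^ j)) (hμ0 : μ ≠ 0) : μ ^ (q + 1) = 1 := by
  have h1 : μ ^ (Fintype.card K ^ j) * μ ^ q = 1 := by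
    rw [← h]
    exact inv_mul_cancel₀ (pow_ne_zero _ hμ0)
  interval_cases j
  · rw [pow_zero, pow_one, ← pow_succ'] at h1
    exact h1
  · rw [pow_one, hK, ← pow_add] at h1
    apply ψ.injective
    rw [hψ, map_one, ← pow_mul, ← h1]
    congr 1
    ring

end finite

section arith

theorem gcd_dvd_sq_sub_add {q : ℕ} (hq : 2 ≤ q) : Nat.gcd 3 (q + 1) ∣ q ^ 2 - q + 1 := by
  obtain ⟨t, rfl⟩ : ∃ t, q = t + 2 := ⟨q - 2, by omega⟩
  have h1 : (t + 2) ^ 2 - (t + 2) + 1 = (t + 2 + 1) * t + 3 := by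
    have : (t + 2) ^ 2 = (t + 2 + 1) * t + 2 + (t + 2) := by ring
    rw [this, Nat.add_sub_cancel]
  rw [h1]
  exact dvd_add ((Nat.gcd_dvd_right 3 (t + 2 + 1)).mul_right _) (Nat.gcd_dvd_left 3 (t + 2 + 1))

theorem sq_sub_one_eq {q : ℕ} (hq : 1 ≤ q) : q ^ 2 - 1 = (q + 1) * (q - 1) := by
  obtain ⟨t, rfl⟩ : ∃ t, q = t + 1 := ⟨q - 1, by omega⟩
  simp only [Nat.add_sub_cancel]
  have : (t + 1) ^ 2 = (t + 1 + 1) * t + 1 := by ring
  rw [this, Nat.add_sub_cancel]

end arith

section cases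
variable {K : Type*} [Field K] [Fintype K] {q : ℕ}

/-- irreducible conjugate-palindromic cubics -/
theorem case_irreducible_U (p : ℕ) [Fact p.Prime] [CharP K p] (hK : Fintype.card K = q ^ 2) (φ : K →+* K) (hφ : ∀ x, φ x = x ^ q)
    {f : K[X]} (hf : Irreducible f) (hmon : f.Monic) (hdeg : f.natDegree = 3)
    (h0 : f.coeff 0 = -1) (hcp : CPal φ f) :
    ∃ c : K, f ∣ X ^ ((q ^ 2 - q + 1) / Nat.gcd 3 (q + 1)) - C c := by
  haveI : Fact (Irreducible f) := ⟨hf⟩
  have hq := two_le_q' hK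
  have hφ2 := frob_frob' hK hφ
  obtain ⟨ψ, hψ⟩ := exists_frob_ext hK p (AdjoinRoot f)
  -- the norm
  have h1 := root_pow_sum hf hmon
  rw [hdeg, h0] at h1
  have h2 : ∑ i ∈ Finset.range 3, Fintype.card K ^ i = q ^ 4 + q ^ 2 + 1 := by
    rw [Finset.sum_range_succ, Finset.sum_range_succ, Finset.sum_range_one, hK]
    ring
  rw [h2] at h1
  have h3 : ((-1 : K) ^ 3 * -1) = 1 := by norm_num
  rw [h3, map_one] at h1
  have hl0 : AdjoinRoot.root f ≠ 0 := by
    intro h
    rw [h, zero_pow (by positivity)] at h1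
    exact zero_ne_one h1
  -- the conjugate
  have hroot : aeval (AdjoinRoot.root f) f = 0 := by rw [AdjoinRoot.aeval_eq, AdjoinRoot.mk_self]
  have h4 := aeval_inv_frob hφ hφ2 ψ hψ hcp hl0 hroot
  obtain ⟨j, hj3, hj⟩ := exists_pow_of_aeval_eq_zero hf h4
  rw [hdeg] at hj3
  have hj2 : j = 2 := by
    by_contra hne
    have hj2 : j < 2 := by omega
    exact root_pow_ne_one hK hf (by omega) (root_pow_of_conj hK ψ hψ hj2 hj hl0)
  subst hj2
  have h5 : AdjoinRoot.root f ^ (q ^ 3 + 1) = 1 := by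
    have h6 : AdjoinRoot.root f ^ (Fintype.card K ^ 2) * AdjoinRoot.root f ^ q = 1 := by
      rw [← hj]
      exact inv_mul_cancel₀ (pow_ne_zero _ hl0)
    rw [hK, ← pow_add] at h6
    apply ψ.injective
    rw [hψ, map_one, ← pow_mul, ← h6]
    congr 1
    ring
  obtain ⟨s, hs⟩ : ∃ s, s = q ^ 2 - q + 1 := ⟨_, rfl⟩
  have hsq : s + q = q ^ 2 + 1 := by
    have : q ≤ q ^ 2 := by nlinarith
    omega
  have h7 : AdjoinRoot.root f ^ s = 1 := by
    have h8 : q ^ 4 + q ^ 2 + 1 = (q ^ 3 + 1) * q + s := by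
      have : (q ^ 3 + 1) * q + s = q ^ 4 + (s + q) := by ring
      rw [this, hsq]
      ring
    rw [h8, pow_add, pow_mul, h5, one_pow, one_mul] at h1
    exact h1
  rw [← hs]
  obtain ⟨e, he⟩ : Nat.gcd 3 (q + 1) ∣ s := hs ▸ gcd_dvd_sq_sub_add hq
  have hdpos : 0 < Nat.gcd 3 (q + 1) := Nat.gcd_pos_of_pos_left _ (by norm_num)
  have hediv : s / Nat.gcd 3 (q + 1) = e := by
    rw [he]
    exact Nat.mul_div_cancel_left e hdpos
  rw [hediv]
  have h9 : (AdjoinRoot.root f ^ e) ^ (Fintype.card K - 1) = 1 := by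
    obtain ⟨k, hk⟩ := Nat.gcd_dvd_right 3 (q + 1)
    have : e * (Fintype.card K - 1) = s * (k * (q - 1)) := by
      rw [hK, sq_sub_one_eq (by omega), he]
      conv_lhs => rw [hk]
      ring
    rw [← pow_mul, this, pow_mul, h7, one_pow]
  obtain ⟨c, hc⟩ := exists_algebraMap_eq_of_pow_card_sub_one (F := K) h9
  refine ⟨c, ?_⟩
  rw [← AdjoinRoot.mk_eq_zero, map_sub, map_pow, AdjoinRoot.mk_X, AdjoinRoot.mk_C,
    ← AdjoinRoot.algebraMap_eq, hc, sub_self]

/-- a linear factor times an irreducible quadratic is never conjugate-palindromic -/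
theorem case_quadratic_U (p : ℕ) [Fact p.Prime] [CharP K p] (hK : Fintype.card K = q ^ 2) (φ : K →+* K) (hφ : ∀ x, φ x = x ^ q)
    (a : K) {h : K[X]} (hh : Irreducible h) (hdeg : h.natDegree = 2) (h0 : h.coeff 0 ≠ 0)
    (hcp : CPal φ ((X - C a) * h)) : False := by
  haveI : Fact (Irreducible h) := ⟨hh⟩
  have hq := two_le_q' hK
  have hφ2 := frob_frob' hK hφ
  obtain ⟨ψ, hψ⟩ := exists_frob_ext hK p (AdjoinRoot h)
  have hroot : aeval (AdjoinRoot.root h) h = 0 := by rw [AdjoinRoot.aeval_eq, AdjoinRoot.mk_self]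
  have hl0 : AdjoinRoot.root h ≠ 0 := by
    intro h'
    rw [h', ← coeff_zero_eq_aeval_zero', map_eq_zero_iff _ (algebraMap K (AdjoinRoot h)).injective]
      at hroot
    exact h0 hroot
  have hroot' : aeval (AdjoinRoot.root h) ((X - C a) * h) = 0 := by
    rw [map_mul, hroot, mul_zero]
  have h4 := aeval_inv_frob hφ hφ2 ψ hψ hcp hl0 hroot'
  rw [map_mul, mul_eq_zero] at h4
  rcases h4 with h4 | h4
  · -- the conjugate is `a`
    rw [map_sub, aeval_X, aeval_C, sub_eq_zero] at h4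
    have h5 : AdjoinRoot.root h ^ q = algebraMap K (AdjoinRoot h) a⁻¹ := by
      rw [map_inv₀, ← h4, inv_inv]
    have h6 : ψ (AdjoinRoot.root h ^ Fintype.card K) = ψ (AdjoinRoot.root h) := by
      rw [hψ, hψ, ← pow_mul, mul_comm, pow_mul, h5, ← map_pow, FiniteField.pow_card]
    have h7 := ψ.injective h6
    have h8 : AdjoinRoot.root h ^ (Fintype.card K - 1) = 1 := by
      have h9 : AdjoinRoot.root h ^ (Fintype.card K - 1) * AdjoinRoot.root h =
          1 * AdjoinRoot.root h := by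
        rw [← pow_succ, Nat.sub_add_cancel Fintype.card_pos, h7, one_mul]
      exact mul_right_cancel₀ hl0 h9
    obtain ⟨c, hc⟩ := exists_algebraMap_eq_of_pow_card_sub_one (F := K) h8
    exact root_ne_algebraMap hh (by omega) c hc
  · obtain ⟨j, hj2, hj⟩ := exists_pow_of_aeval_eq_zero hh h4
    rw [hdeg] at hj2
    exact root_pow_ne_one hK hh (by omega) (root_pow_of_conj hK ψ hψ hj2 hj hl0)

end cases

/-- the list of maximal element orders of `PSU_3(q)` -/
def AllowedU (p q j : ℕ) : Prop :=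
  j ∣ q + 1 ∨ j ∣ p * (q + 1) / Nat.gcd 3 (q + 1) ∨ j ∣ (q ^ 2 - 1) / Nat.gcd 3 (q + 1) ∨
    j ∣ (q ^ 2 - q + 1) / Nat.gcd 3 (q + 1)

section split
variable {K : Type*} [Field K] [Fintype K] {q : ℕ}

theorem dvd_of_distinct {a b c l : K} {j : ℕ} (hab : a ≠ b) (hac : a ≠ c) (hbc : b ≠ c)
    (ha : a ^ j = l) (hb : b ^ j = l) (hc : c ^ j = l) :
    (X - C a) * (X - C b) * (X - C c) ∣ X ^ j - C l := by
  apply IsCoprime.mul_dvd
  · exact IsCoprime.mul_left (coprime_X_sub_C hac) (coprime_X_sub_C hbc)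
  · apply IsCoprime.mul_dvd (coprime_X_sub_C hab)
    · rw [X_sub_C_dvd_iff]
      exact ha
    · rw [X_sub_C_dvd_iff]
      exact hb
  · rw [X_sub_C_dvd_iff]
    exact hc

theorem dvd_of_double (p : ℕ) [Fact p.Prime] [CharP K p] {a c l : K} {e : ℕ} (hac : a ≠ c)
    (ha : a ^ (p * e) = l) (hc : c ^ (p * e) = l) :
    (X - C a) ^ 2 * (X - C c) ∣ X ^ (p * e) - C l := by
  have hp : p.Prime := Fact.out
  apply IsCoprime.mul_dvd
  · exact IsCoprime.pow_left (coprime_X_sub_C hac)
  · rw [← ha]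
    exact (pow_dvd_pow (X - C a) hp.two_le).trans (X_sub_C_pow_char_dvd p a e)
  · rw [X_sub_C_dvd_iff]
    exact hc

/-- a double root of norm one -/
theorem norm_one_double (p : ℕ) [Fact p.Prime] [CharP K p] {a c : K} (hac : a ≠ c)
    (haac : a * a * c = 1) (ha : a ^ (q + 1) = 1) :
    ∃ l : K, (X - C a) ^ 2 * (X - C c) ∣ X ^ (p * (q + 1) / Nat.gcd 3 (q + 1)) - C l := by
  have ha0 : a ≠ 0 := by rintro rfl; simp at haac
  obtain ⟨d, hd⟩ : ∃ d, d = Nat.gcd 3 (q + 1) := ⟨_, rfl⟩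
  rw [← hd]
  obtain ⟨e, he⟩ : d ∣ q + 1 := hd ▸ Nat.gcd_dvd_right 3 (q + 1)
  obtain ⟨t, ht⟩ : d ∣ 3 := hd ▸ Nat.gcd_dvd_left 3 (q + 1)
  have hdpos : 0 < d := hd ▸ Nat.gcd_pos_of_pos_left _ (by norm_num)
  have hj : p * (q + 1) / d = p * e := by
    rw [Nat.mul_div_assoc p ⟨e, he⟩]
    congr 1
    exact Nat.div_eq_of_eq_mul_right hdpos he
  rw [hj]
  refine ⟨a ^ (p * e), dvd_of_double p hac rfl ?_⟩
  have h3 : a ^ (3 * (p * e)) = 1 := by
    have : 3 * (p * e) = (q + 1) * (t * p) := by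
      conv_lhs => rw [ht]
      rw [he]
      ring
    rw [this, pow_mul, ha, one_pow]
  have h4 : (a * a * c) ^ (p * e) = 1 := by rw [haac, one_pow]
  rw [mul_pow, mul_pow] at h4
  have h5 : a ^ (p * e) * a ^ (p * e) * a ^ (p * e) = 1 := by
    rw [← pow_add, ← pow_add, ← h3]
    congr 1
    ring
  have h6 : a ^ (p * e) * a ^ (p * e) ≠ 0 := mul_ne_zero (pow_ne_zero _ ha0) (pow_ne_zero _ ha0)
  exact mul_left_cancel₀ h6 (h4.trans h5.symm)

/-- all three roots of norm one -/
theorem case_norm_one (p : ℕ) [Fact p.Prime] [CharP K p] (hp2 : p ≠ 2) {a b c : K}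
    (habc : a * b * c = 1) (ha : a ^ (q + 1) = 1) (hb : b ^ (q + 1) = 1)
    (hc : c ^ (q + 1) = 1) :
    ∃ (j : ℕ) (l : K), (X - C a) * (X - C b) * (X - C c) ∣ X ^ j - C l ∧ AllowedU p q j := by
  have hp : p.Prime := Fact.out
  by_cases hab : a = b
  · subst hab
    by_cases hac : a = c
    · subst hac
      refine ⟨p, a ^ p, ?_, Or.inr (Or.inl ?_)⟩
      · have h1 := X_sub_C_pow_char_dvd p a 1
        rw [mul_one] at h1
        have : (X - C a) * (X - C a) * (X - C a) = (X - C a) ^ 3 := by ring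
        rw [this]
        refine dvd_trans (pow_dvd_pow _ ?_) h1
        have := hp.two_le
        omega
      · rw [Nat.mul_div_assoc _ (Nat.gcd_dvd_right 3 (q + 1))]
        exact dvd_mul_right _ _
    · obtain ⟨l, hl⟩ := norm_one_double p hac habc ha
      refine ⟨_, l, ?_, Or.inr (Or.inl dvd_rfl)⟩
      have : (X - C a) * (X - C a) * (X - C c) = (X - C a) ^ 2 * (X - C c) := by ring
      rw [this]
      exact hl
  · by_cases hbc : b = c
    · subst hbc
      obtain ⟨l, hl⟩ := norm_one_double p (Ne.symm hab) (by rw [← habc]; ring) hb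
      refine ⟨_, l, ?_, Or.inr (Or.inl dvd_rfl)⟩
      have : (X - C a) * (X - C b) * (X - C b) = (X - C b) ^ 2 * (X - C a) := by ring
      rw [this]
      exact hl
    · by_cases hac : a = c
      · subst hac
        obtain ⟨l, hl⟩ := norm_one_double p hab (by rw [← habc]; ring) ha
        refine ⟨_, l, ?_, Or.inr (Or.inl dvd_rfl)⟩
        have : (X - C a) * (X - C b) * (X - C a) = (X - C a) ^ 2 * (X - C b) := by ring
        rw [this]
        exact hl
      · exact ⟨q + 1, 1, dvd_of_distinct hab hac hbc ha hb hc, Or.inl dvd_rfl⟩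

/-- two roots swapped by `x ↦ x ^ (-q)` -/
theorem case_swap (hK : Fintype.card K = q ^ 2) {x y z : K} (hxyz : x * y * z = 1)
    (hxy : x ^ q * y = 1) (hne : x ≠ y) (hzx : z ≠ x) (hzy : z ≠ y) :
    ∃ l : K, (X - C x) * (X - C y) * (X - C z) ∣
      X ^ ((q ^ 2 - 1) / Nat.gcd 3 (q + 1)) - C l := by
  have hq := two_le_q' hK
  have hx0 : x ≠ 0 := by rintro rfl; simp at hxyz
  have hy0 : y ≠ 0 := by rintro rfl; simp at hxyz
  have hxq : x ^ (q ^ 2 - 1) = 1 := by
    rw [← hK]
    exact FiniteField.pow_card_sub_one_eq_one x hx0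
  obtain ⟨d, hd⟩ : ∃ d, d = Nat.gcd 3 (q + 1) := ⟨_, rfl⟩
  rw [← hd]
  obtain ⟨e, he⟩ : d ∣ q + 1 := hd ▸ Nat.gcd_dvd_right 3 (q + 1)
  obtain ⟨t, ht⟩ : d ∣ 3 := hd ▸ Nat.gcd_dvd_left 3 (q + 1)
  have hdpos : 0 < d := hd ▸ Nat.gcd_pos_of_pos_left _ (by norm_num)
  obtain ⟨j, hj⟩ : ∃ j, j = e * (q - 1) := ⟨_, rfl⟩
  have hjd : q ^ 2 - 1 = d * j := by
    rw [sq_sub_one_eq (by omega), he, hj]
    ring
  have hjdiv : (q ^ 2 - 1) / d = j := Nat.div_eq_of_eq_mul_right hdpos hjd
  rw [hjdiv]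
  have h1 : x ^ ((q + 1) * j) = 1 := by
    have : (q + 1) * j = (q ^ 2 - 1) * e := by
      rw [hjd, he]
      ring
    rw [this, pow_mul, hxq, one_pow]
  have h3 : x ^ (3 * j) = 1 := by
    have : 3 * j = (q ^ 2 - 1) * t := by
      rw [hjd]
      conv_lhs => rw [ht]
      ring
    rw [this, pow_mul, hxq, one_pow]
  have hyj : y ^ j = x ^ j := by
    have e1 : (x ^ q * y) ^ j = 1 := by rw [hxy, one_pow]
    rw [mul_pow, ← pow_mul] at e1
    have e2 : x ^ (q * j) * x ^ j = 1 := by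
      rw [← pow_add, ← h1]
      congr 1
      ring
    exact mul_left_cancel₀ (pow_ne_zero _ hx0) (e1.trans e2.symm)
  have hzj : z ^ j = x ^ j := by
    have e1 : (x * y * z) ^ j = 1 := by rw [hxyz, one_pow]
    rw [mul_pow, mul_pow, hyj] at e1
    have e2 : x ^ j * x ^ j * x ^ j = 1 := by
      rw [← pow_add, ← pow_add, ← h3]
      congr 1
      ring
    exact mul_left_cancel₀ (mul_ne_zero (pow_ne_zero _ hx0) (pow_ne_zero _ hx0))
      (e1.trans e2.symm)
  exact ⟨x ^ j, dvd_of_distinct hne (Ne.symm hzx) (Ne.symm hzy) rfl hyj hzj⟩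

theorem rel_symm (hK : Fintype.card K = q ^ 2) {x y : K} (h : x ^ q * y = 1) :
    y ^ q * x = 1 := by
  have h1 : (x ^ q * y) ^ q = 1 := by rw [h, one_pow]
  rw [mul_pow, ← pow_mul, ← sq, ← hK, FiniteField.pow_card, mul_comm] at h1
  exact h1

theorem rel_unique {x y y' : K} (h : x ^ q * y = 1) (h' : x ^ q * y' = 1) : y = y' := by
  have h0 : x ^ q ≠ 0 := by
    intro h0
    rw [h0, zero_mul] at h
    exact zero_ne_one h
  exact mul_left_cancel₀ h0 (h.trans h'.symm)

/-- a double root cannot be swapped with the third root -/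
theorem rel_bad (hK : Fintype.card K = q ^ 2) {x y : K} (h : y ^ q * x = 1)
    (hxyy : x * y * y = 1) : x = y := by
  have hx0 : x ≠ 0 := by rintro rfl; simp at hxyy
  have hy0 : y ≠ 0 := by rintro rfl; simp at hxyy
  have h1 : y ^ q = y ^ 2 := by
    have : x * y ^ q = x * y ^ 2 := by
      rw [mul_comm, h, ← hxyy]
      ring
    exact mul_left_cancel₀ hx0 this
  have h2 : y ^ 4 = y := by
    have : (y ^ q) ^ q = y := by rw [← pow_mul, ← sq, ← hK, FiniteField.pow_card]
    rw [h1, ← pow_mul, mul_comm, pow_mul, h1, ← pow_mul] at this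
    exact this
  have h3 : y ^ 3 = 1 := by
    have : y ^ 3 * y = 1 * y := by rw [← pow_succ, one_mul]; exact h2
    exact mul_right_cancel₀ hy0 this
  calc x = x * y ^ 3 := by rw [h3, mul_one]
    _ = (x * y * y) * y := by ring
    _ = y := by rw [hxyy, one_mul]

/-- two roots swapped, the third fixed -/
theorem case_swap' (p : ℕ) (hK : Fintype.card K = q ^ 2) {x y z : K} (hxyz : x * y * z = 1)
    (hxy : x ^ q * y = 1) (hz : z ^ q * z = 1) (hne : x ≠ y) :
    ∃ (j : ℕ) (l : K), (X - C x) * (X - C y) * (X - C z) ∣ X ^ j - C l ∧ AllowedU p q j := by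
  have hzx : z ≠ x := by
    rintro rfl
    exact hne (rel_unique hxy hz).symm
  have hzy : z ≠ y := by
    rintro rfl
    exact hne (rel_unique (rel_symm hK hxy) hz)
  obtain ⟨l, hl⟩ := case_swap hK hxyz hxy hne hzx hzy
  exact ⟨_, l, hl, Or.inr (Or.inr (Or.inl dvd_rfl))⟩

/-- three linear factors -/
theorem case_split_U (p : ℕ) [Fact p.Prime] [CharP K p] (hp2 : p ≠ 2)
    (hK : Fintype.card K = q ^ 2) (φ : K →+* K) (hφ : ∀ x, φ x = x ^ q) {a b c : K}
    (habc : a * b * c = 1) (hcp : CPal φ ((X - C a) * (X - C b) * (X - C c))) :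
    ∃ (j : ℕ) (l : K), (X - C a) * (X - C b) * (X - C c) ∣ X ^ j - C l ∧ AllowedU p q j := by
  have hφ2 := frob_frob' hK hφ
  have ha0 : a ≠ 0 := by rintro rfl; simp at habc
  have hb0 : b ≠ 0 := by rintro rfl; simp at habc
  have hc0 : c ≠ 0 := by rintro rfl; simp at habc
  have hcl : ∀ x : K, x ≠ 0 → (x = a ∨ x = b ∨ x = c) →
      (x ^ q * a = 1 ∨ x ^ q * b = 1 ∨ x ^ q * c = 1) := by
    intro x hx0 hx
    have h1 : aeval x ((X - C a) * (X - C b) * (X - C c)) = 0 := by
      simp only [map_mul, map_sub, aeval_X, aeval_C, Algebra.algebraMap_self, RingHom.id_apply]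
      rcases hx with rfl | rfl | rfl <;> simp
    have h2 := aeval_inv_frob hφ hφ2 φ hφ hcp hx0 h1
    simp only [map_mul, map_sub, aeval_X, aeval_C, Algebra.algebraMap_self, RingHom.id_apply,
      mul_eq_zero, sub_eq_zero] at h2
    have hxq : x ^ q ≠ 0 := pow_ne_zero _ hx0
    rcases h2 with (h2 | h2) | h2
    · left
      rw [← h2]
      exact mul_inv_cancel₀ hxq
    · right; left
      rw [← h2]
      exact mul_inv_cancel₀ hxq
    · right; right
      rw [← h2]
      exact mul_inv_cancel₀ hxq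
  have hA0 := hcl a ha0 (Or.inl rfl)
  have hB := hcl b hb0 (Or.inr (Or.inl rfl))
  have hC := hcl c hc0 (Or.inr (Or.inr rfl))
  have alpha : a ^ q * a = 1 → b ^ q * b = 1 → c ^ q * c = 1 →
      ∃ (j : ℕ) (l : K), (X - C a) * (X - C b) * (X - C c) ∣ X ^ j - C l ∧ AllowedU p q j :=
    fun h1 h2 h3 => case_norm_one p hp2 habc (by rw [pow_succ]; exact h1)
      (by rw [pow_succ]; exact h2) (by rw [pow_succ]; exact h3)
  have hA' : a ^ q * a = 1 ∨ (a ^ q * b = 1 ∧ a ≠ b) ∨ (a ^ q * c = 1 ∧ a ≠ c) := by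
    rcases hA0 with hA | hA | hA
    · exact Or.inl hA
    · by_cases hab : a = b
      · left
        rw [← hab] at hA
        exact hA
      · exact Or.inr (Or.inl ⟨hA, hab⟩)
    · by_cases hac : a = c
      · left
        rw [← hac] at hA
        exact hA
      · exact Or.inr (Or.inr ⟨hA, hac⟩)
  clear hA0 hcl
  rcases hA' with hA | ⟨hA, hab⟩ | ⟨hA, hac⟩
  · -- `a` fixed
    have hB' : b ^ q * b = 1 ∨ (b ^ q * c = 1 ∧ b ≠ c) := by
      rcases hB with hB | hB | hB
      · have := rel_unique hA (rel_symm hK hB)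
        left
        rw [this] at hA
        exact hA
      · exact Or.inl hB
      · by_cases hbc : b = c
        · left
          rw [← hbc] at hB
          exact hB
        · exact Or.inr ⟨hB, hbc⟩
    rcases hB' with hB | ⟨hB, hbc⟩
    · have hC' : c ^ q * c = 1 := by
        rcases hC with hC | hC | hC
        · have := rel_unique hA (rel_symm hK hC)
          rw [this] at hA
          exact hA
        · have := rel_unique hB (rel_symm hK hC)
          rw [this] at hB
          exact hB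
        · exact hC
      exact alpha hA hB hC'
    · obtain ⟨j, l, hl, hj⟩ := case_swap' p hK (x := b) (y := c) (z := a)
        (by rw [← habc]; ring) hB hA hbc
      refine ⟨j, l, ?_, hj⟩
      have : (X - C a) * (X - C b) * (X - C c) = (X - C b) * (X - C c) * (X - C a) := by ring
      rw [this]
      exact hl
  · -- `a` and `b` swapped
    rcases hC with hC | hC | hC
    · have hbc : b = c := rel_unique hA (rel_symm hK hC)
      subst hbc
      exact absurd (rel_bad hK (rel_symm hK hA) habc) hab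
    · have hac : a = c := rel_unique (rel_symm hK hA) (rel_symm hK hC)
      subst hac
      exact absurd (rel_bad hK hA (by rw [← habc]; ring)).symm hab
    · exact case_swap' p hK habc hA hC hab
  · -- `a` and `c` swapped
    rcases hB with hB | hB | hB
    · have hcb : c = b := rel_unique hA (rel_symm hK hB)
      subst hcb
      exact absurd (rel_bad hK (rel_symm hK hA) habc) hac
    · obtain ⟨j, l, hl, hj⟩ := case_swap' p hK (x := a) (y := c) (z := b)
        (by rw [← habc]; ring) hA hB hac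
      refine ⟨j, l, ?_, hj⟩
      have : (X - C a) * (X - C b) * (X - C c) = (X - C a) * (X - C c) * (X - C b) := by ring
      rw [this]
      exact hl
    · have hab : a = b := rel_unique (rel_symm hK hA) (rel_symm hK hB)
      subst hab
      exact absurd (rel_bad hK hA (by rw [← habc]; ring)).symm hac

/-- the polynomial lemma -/
theorem exists_dvd_X_pow_sub_C_U (p : ℕ) [Fact p.Prime] [CharP K p] (hp2 : p ≠ 2)
    (hK : Fintype.card K = q ^ 2) (φ : K →+* K) (hφ : ∀ x, φ x = x ^ q) {f : K[X]}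
    (hmon : f.Monic) (hdeg : f.natDegree = 3) (h0 : f.coeff 0 = -1) (hcp : CPal φ f) :
    ∃ (j : ℕ) (l : K), f ∣ X ^ j - C l ∧ AllowedU p q j := by
  by_cases hroot : ∃ a, f.IsRoot a
  · obtain ⟨a, ha⟩ := hroot
    obtain ⟨h, hh⟩ : ∃ h, (X - C a) * h = f := ⟨_, mul_divByMonic_eq_iff_isRoot.2 ha⟩
    have hhmon : h.Monic := (monic_X_sub_C a).of_mul_monic_left (hh ▸ hmon)
    have hhdeg : h.natDegree = 2 := by
      have := (monic_X_sub_C a).natDegree_mul hhmon
      rw [hh, hdeg, natDegree_X_sub_C] at this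
      omega
    have hh0 : a * h.coeff 0 = 1 := by
      have := mul_coeff_zero (X - C a) h
      rw [hh, h0, coeff_sub, coeff_X_zero, coeff_C_zero, zero_sub] at this
      linear_combination this
    by_cases hroot2 : ∃ b, h.IsRoot b
    · obtain ⟨b, hb⟩ := hroot2
      obtain ⟨h', hh'⟩ : ∃ h', (X - C b) * h' = h := ⟨_, mul_divByMonic_eq_iff_isRoot.2 hb⟩
      have hh'mon : h'.Monic := (monic_X_sub_C b).of_mul_monic_left (hh' ▸ hhmon)
      have hh'deg : h'.natDegree = 1 := by
        have := (monic_X_sub_C b).natDegree_mul hh'mon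
        rw [hh', hhdeg, natDegree_X_sub_C] at this
        omega
      have hh'eq : h' = X - C (-h'.coeff 0) := by
        conv_lhs => rw [hh'mon.eq_X_add_C hh'deg]
        rw [map_neg, sub_neg_eq_add]
      obtain ⟨c, hc⟩ : ∃ c, c = -h'.coeff 0 := ⟨_, rfl⟩
      rw [← hc] at hh'eq
      have hfeq : f = (X - C a) * (X - C b) * (X - C c) := by
        rw [← hh, ← hh', hh'eq, mul_assoc]
      have habc : a * b * c = 1 := by
        have := mul_coeff_zero (X - C b) h'
        rw [hh', hh'eq, coeff_sub, coeff_X_zero, coeff_C_zero, zero_sub, coeff_sub, coeff_X_zero,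
          coeff_C_zero, zero_sub] at this
        rw [this] at hh0
        linear_combination hh0
      rw [hfeq] at hcp ⊢
      exact case_split_U p hp2 hK φ hφ habc hcp
    · push Not at hroot2
      have hirr : Irreducible h := irreducible_of_degree_le_three_of_not_isRoot
        (by rw [hhdeg]; decide) hroot2
      have hcoeff0 : h.coeff 0 ≠ 0 := by
        intro h'
        rw [h', mul_zero] at hh0
        exact zero_ne_one hh0
      rw [← hh] at hcp
      exact (case_quadratic_U p hK φ hφ a hirr hhdeg hcoeff0 hcp).elim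
  · push Not at hroot
    have hirr : Irreducible f := irreducible_of_degree_le_three_of_not_isRoot
      (by rw [hdeg]; decide) hroot
    obtain ⟨c, hc⟩ := case_irreducible_U p hK φ hφ hirr hmon hdeg h0 hcp
    exact ⟨_, c, hc, Or.inr (Or.inr (Or.inr dvd_rfl))⟩

end split

end PSU3Spec
end Cfsg.Agent.Helper12
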