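import Mathlib
import Cfsg.Agent.Lib.Helper12.PSU3SpecPoly
import Cfsg.Agent.Lib.Helper12.PSL3SpecExist
import Cfsg.Agent.Lib.Helper11.Unitary3
import Cfsg.Agent.Lib.Helper13.UnitaryPalin

/-!
# Spectrum of `PSU_3(q)`, `q` odd: existence of elements (helper12)
-/

set_option autoImplicit false
set_option linter.style.haveILetI false
set_option linter.unusedSectionVars false

open Polynomial Module

namespace Cfsg.Agent.Helper12
namespace PSU3Spec

open Cfsg.Agent.Helper12.PSL3Spec Cfsg.Agent.Helper12.PSLAdj Cfsg.Agent.Helper13.Uni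
  Cfsg.Agent.Helper11.Herm

section general
variable {F : Type*} [Field F] [Fintype F] {q : ℕ}

theorem SU_pow_coe (n : ℕ) (g : Cfsg.SU n F q) (j : ℕ) :
    (((g ^ j : Cfsg.SU n F q) : Matrix.SpecialLinearGroup (Fin n) F) :
      Matrix (Fin n) (Fin n) F) =
      ((g : Matrix.SpecialLinearGroup (Fin n) F) : Matrix (Fin n) (Fin n) F) ^ j := by
  rw [SubgroupClass.coe_pow, Matrix.SpecialLinearGroup.coe_pow]

/-- powers of an element of `PSU_n` are trivial exactly when the powers of the matrix are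
scalar -/
theorem mk_pow_eq_one_iff_U (hF : Fintype.card F = q ^ 2) {n : ℕ} (i0 : Fin n)
    (g : Cfsg.SU n F q) (j : ℕ) :
    (QuotientGroup.mk g : Cfsg.PSU n F q) ^ j = 1 ↔
      ∃ c : F, ((g : Matrix.SpecialLinearGroup (Fin n) F) : Matrix (Fin n) (Fin n) F) ^ j =
        c • (1 : Matrix (Fin n) (Fin n) F) := by
  rw [← QuotientGroup.mk_pow]
  have h0 : (QuotientGroup.mk (g ^ j) : Cfsg.PSU n F q) = 1 ↔
      g ^ j ∈ Subgroup.center (Cfsg.SU n F q) := QuotientGroup.eq_one_iff _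
  rw [h0, ← SU_pow_coe]
  constructor
  · intro h
    exact ⟨_, center_SU_scalar hF n i0 _ h⟩
  · rintro ⟨c, hc⟩
    rw [Subgroup.mem_center_iff]
    intro z
    apply SU_ext
    rw [SU_mul_coe, SU_mul_coe, hc, Matrix.mul_smul, Matrix.smul_mul, Matrix.mul_one,
      Matrix.one_mul]

/-- a unitary matrix of determinant one gives an element of `PSU_n` -/
theorem exists_PSU_of_matrix (hF : Fintype.card F = q ^ 2) {n : ℕ} (i0 : Fin n)
    (M : Matrix (Fin n) (Fin n) F) (hdet : M.det = 1)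
    (hU : ∀ u v, Cfsg.hermForm n F q (M.mulVec u) (M.mulVec v) = Cfsg.hermForm n F q u v) :
    ∃ y : Cfsg.PSU n F q,
      ∀ j : ℕ, y ^ j = 1 ↔ ∃ c : F, M ^ j = c • (1 : Matrix (Fin n) (Fin n) F) := by
  obtain ⟨G, hG⟩ : ∃ G : Cfsg.SU n F q,
      ((G : Matrix.SpecialLinearGroup (Fin n) F) : Matrix (Fin n) (Fin n) F) = M :=
    ⟨⟨⟨M, hdet⟩, fun u v => hU u v⟩, rfl⟩
  refine ⟨QuotientGroup.mk G, fun j => ?_⟩
  rw [mk_pow_eq_one_iff_U hF i0, hG]

/-- the same from the matrix identity -/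
theorem exists_PSU_of_isU (hF : Fintype.card F = q ^ 2) {n : ℕ} (i0 : Fin n)
    (φ : F →+* F) (hφ : ∀ x, φ x = x ^ q)
    (M : Matrix (Fin n) (Fin n) F) (hdet : M.det = 1) (hU : IsU φ M) :
    ∃ y : Cfsg.PSU n F q,
      ∀ j : ℕ, y ^ j = 1 ↔ ∃ c : F, M ^ j = c • (1 : Matrix (Fin n) (Fin n) F) := by
  apply exists_PSU_of_matrix hF i0 M hdet
  intro u v
  rw [hermForm_eq_hdot φ hφ, hermForm_eq_hdot φ hφ]
  exact (isU_iff_preserves φ M).1 hU u v

end general

section elements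
variable {F : Type*} [Field F] [Fintype F] {q : ℕ}

theorem card_sub_one_eq (hF : Fintype.card F = q ^ 2) : Fintype.card F - 1 = (q + 1) * (q - 1) := by
  rw [hF]
  exact sq_sub_one_eq (by have := two_le_q' hF; omega)

/-- an element of order `q + 1` -/
theorem exists_norm_one_gen (hF : Fintype.card F = q ^ 2) :
    ∃ a : F, a ≠ 0 ∧ ∀ j : ℕ, a ^ j = 1 ↔ q + 1 ∣ j := by
  obtain ⟨l, hl⟩ := exists_unit_orderOf (F := F) (t := q + 1)
    (by rw [card_sub_one_eq hF]; exact dvd_mul_right _ _)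
  refine ⟨(l : F), l.ne_zero, fun j => ?_⟩
  rw [← hl, orderOf_dvd_iff_pow_eq_one]
  constructor
  · intro h
    apply Units.ext
    rw [Units.val_pow_eq_pow_val, h, Units.val_one]
  · intro h
    rw [← Units.val_pow_eq_pow_val, h, Units.val_one]

theorem odd_q (hF : Fintype.card F = q ^ 2) (p : ℕ) [Fact p.Prime] [CharP F p] (hp2 : p ≠ 2) :
    Odd q := by
  have hp : p.Prime := Fact.out
  obtain ⟨n, hn⟩ := FiniteField.card F p
  have hdvd : q ∣ p ^ (n : ℕ) := by
    rw [← hn.2, hF]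
    exact Dvd.intro_left q (by ring)
  obtain ⟨j, -, hj⟩ := (Nat.dvd_prime_pow hp).1 hdvd
  rw [hj]
  exact (hp.odd_of_ne_two hp2).pow

/-- elements `ε`, `c` with `ε ^ (q + 1) = -1` and `c ^ q = -c ≠ 0` -/
theorem exists_eps_c (hF : Fintype.card F = q ^ 2) (hq : Odd q) :
    ∃ ε c : F, ε ^ (q + 1) = -1 ∧ c ≠ 0 ∧ c ^ q = -c := by
  classical
  have hq2 := two_le_q' hF
  obtain ⟨k, hk⟩ := hq
  have hk1 : 1 ≤ k := by omega
  obtain ⟨ζ, hζ⟩ := exists_unit_orderOf (F := F) (dvd_refl (Fintype.card F - 1))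
  have hN : Fintype.card F - 1 = 4 * (k * (k + 1)) := by
    rw [card_sub_one_eq hF, hk]
    simp only [Nat.add_sub_cancel]
    ring
  rw [hN] at hζ
  have hw2 : ((ζ : F) ^ (2 * (k * (k + 1)))) ^ 2 = 1 := by
    rw [← pow_mul, ← Units.val_pow_eq_pow_val]
    have : 2 * (k * (k + 1)) * 2 = 4 * (k * (k + 1)) := by ring
    rw [this, ← hζ, pow_orderOf_eq_one, Units.val_one]
  have hw1 : (ζ : F) ^ (2 * (k * (k + 1))) ≠ 1 := by
    intro h
    have h1 : ζ ^ (2 * (k * (k + 1))) = 1 := by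
      apply Units.ext
      rw [Units.val_pow_eq_pow_val, h, Units.val_one]
    have h2 := orderOf_dvd_of_pow_eq_one h1
    rw [hζ] at h2
    have h3 : 0 < k * (k + 1) := Nat.mul_pos hk1 (by omega)
    have := Nat.le_of_dvd (by omega) h2
    omega
  have hw : (ζ : F) ^ (2 * (k * (k + 1))) = -1 := by
    have h1 : ((ζ : F) ^ (2 * (k * (k + 1))) - 1) * ((ζ : F) ^ (2 * (k * (k + 1))) + 1) = 0 := by
      linear_combination hw2
    rcases mul_eq_zero.1 h1 with h2 | h2
    · exact absurd (sub_eq_zero.1 h2) hw1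
    · exact eq_neg_of_add_eq_zero_left h2
  refine ⟨(ζ : F) ^ k, (ζ : F) ^ (k + 1), ?_, pow_ne_zero _ ζ.ne_zero, ?_⟩
  · rw [← pow_mul, ← hw]
    congr 1
    rw [hk]
    ring
  · have h1 : ((ζ : F) ^ (k + 1)) ^ (q - 1) = -1 := by
      rw [← pow_mul, ← hw]
      congr 1
      rw [hk]
      simp only [Nat.add_sub_cancel]
      ring
    have h2 : q = (q - 1) + 1 := by omega
    conv_lhs => rw [h2]
    rw [pow_succ, h1]
    ring

end elements

section explicit
variable {F : Type*} [Field F] [Fintype F] {q : ℕ}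

/-- the element of order `q + 1` -/
theorem exists_diag_U (hF : Fintype.card F = q ^ 2) :
    ∃ y : Cfsg.PSU 3 F q, orderOf y = q + 1 := by
  classical
  obtain ⟨φ, hφ⟩ := exists_frob hF
  obtain ⟨a, ha0, ha⟩ := exists_norm_one_gen hF
  have ha1 : a * φ a = 1 := by
    rw [hφ, ← pow_succ']
    exact (ha _).2 dvd_rfl
  have hdet : (Matrix.diagonal ![a, a⁻¹, 1]).det = 1 := by
    rw [Matrix.det_diagonal, Fin.prod_univ_three]
    simp [ha0]
  have hU : IsU φ (Matrix.diagonal ![a, a⁻¹, 1]) := by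
    apply isU_diagonal
    intro i
    fin_cases i
    · simpa using ha1
    · simp only [Fin.mk_one, Matrix.cons_val_one, Matrix.cons_val_zero]
      rw [map_inv₀, ← mul_inv, ha1, inv_one]
    · simp
  obtain ⟨y, hy⟩ := exists_PSU_of_isU hF 0 φ hφ _ hdet hU
  refine ⟨y, ?_⟩
  apply orderOf_eq_of_pow_iff
  intro j
  rw [hy j, ← ha j]
  constructor
  · rintro ⟨c, hc⟩
    rw [Matrix.diagonal_pow, Matrix.smul_one_eq_diagonal] at hc
    have h1 := Matrix.diagonal_injective hc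
    have h2 := congrFun h1 2
    have h0 := congrFun h1 0
    simp only [Pi.pow_apply, Matrix.cons_val_zero, Matrix.cons_val_two, Matrix.tail_cons,
      Matrix.head_cons, one_pow] at h2 h0
    rw [h0, ← h2]
  · intro h
    refine ⟨1, ?_⟩
    rw [Matrix.diagonal_pow, Matrix.smul_one_eq_diagonal]
    congr 1
    funext i
    fin_cases i
    · simpa using h
    · simp [inv_pow, h]
    · simp

/-- the element of order `p (q + 1) / d` -/
theorem exists_mixed_U (hF : Fintype.card F = q ^ 2) (p : ℕ) [Fact p.Prime] [CharP F p]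
    (hp2 : p ≠ 2) :
    ∃ y : Cfsg.PSU 3 F q, orderOf y = p * (q + 1) / Nat.gcd 3 (q + 1) := by
  classical
  have hp : p.Prime := Fact.out
  obtain ⟨φ, hφ⟩ := exists_frob hF
  have hφ2 := frob_frob' hF hφ
  obtain ⟨a, ha0, ha⟩ := exists_norm_one_gen hF
  obtain ⟨ε, c, hε, hc0, hc⟩ := exists_eps_c hF (odd_q hF p hp2)
  obtain ⟨a', ha'⟩ : ∃ a', a' = φ a := ⟨_, rfl⟩
  obtain ⟨ε', hε'⟩ : ∃ ε', ε' = φ ε := ⟨_, rfl⟩
  have haa' : a * a' = 1 := by
    rw [ha', hφ, ← pow_succ']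
    exact (ha _).2 dvd_rfl
  have hεε' : ε * ε' = -1 := by
    rw [hε', hφ, ← pow_succ']
    exact hε
  have hφa : φ a = a' := ha'.symm
  have hφa' : φ a' = a := by rw [ha', hφ2]
  have hφε : φ ε = ε' := hε'.symm
  have hφε' : φ ε' = ε := by rw [hε', hφ2]
  have hφc : φ c = -c := by rw [hφ, hc]
  have hε'0 : ε' ≠ 0 := by
    rintro rfl
    rw [mul_zero] at hεε'
    exact zero_ne_one (neg_eq_zero.1 hεε'.symm).symm
  obtain ⟨M, hM⟩ : ∃ M : Matrix (Fin 3) (Fin 3) F,
      M = !![a * (1 + c), a * c * ε', 0; a * c * ε, a * (1 - c), 0; 0, 0, a' * a'] := ⟨_, rfl⟩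
  have hdet : M.det = 1 := by
    rw [hM, Matrix.det_fin_three]
    simp
    linear_combination ((a * a' + 1) * (1 - c ^ 2 * (1 + ε * ε'))) * haa' - c ^ 2 * hεε'
  have hU : IsU φ M := by
    unfold IsU
    rw [hM]
    ext i j
    fin_cases i <;> fin_cases j <;>
      simp [Matrix.mul_apply, Fin.sum_univ_three, hφa, hφa', hφε, hφε', hφc]
    · linear_combination ((1 - c ^ 2 * (1 + ε * ε'))) * haa' - c ^ 2 * hεε'
    · ring
    · ring
    · linear_combination ((1 - c ^ 2 * (1 + ε * ε'))) * haa' - c ^ 2 * hεε'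
    · linear_combination (a * a' + 1) * haa'
  have hpow : ∀ j : ℕ, M ^ j =
      !![a ^ j * (1 + j * c), a ^ j * (j * c * ε'), 0;
        a ^ j * (j * c * ε), a ^ j * (1 - j * c), 0; 0, 0, (a' * a') ^ j] := by
    intro j
    induction j with
    | zero =>
      rw [pow_zero, Matrix.one_fin_three]
      simp
    | succ j ih =>
      rw [pow_succ, ih, hM, Matrix.mul_fin_three]
      congr 1
      ext i k
      fin_cases i <;> fin_cases k <;> simp <;>
        first
        | ring1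
        | linear_combination (a ^ (j + 1) * j * c ^ 2) * hεε'
  obtain ⟨y, hy⟩ := exists_PSU_of_isU hF 0 φ hφ M hdet hU
  refine ⟨y, ?_⟩
  obtain ⟨d, hd⟩ : ∃ d, d = Nat.gcd 3 (q + 1) := ⟨_, rfl⟩
  rw [← hd]
  obtain ⟨e, he⟩ : d ∣ q + 1 := hd ▸ Nat.gcd_dvd_right 3 (q + 1)
  obtain ⟨t, ht⟩ : d ∣ 3 := hd ▸ Nat.gcd_dvd_left 3 (q + 1)
  have hdpos : 0 < d := hd ▸ Nat.gcd_pos_of_pos_left _ (by norm_num)
  have hN : p * (q + 1) / d = p * e := by
    rw [Nat.mul_div_assoc p ⟨e, he⟩]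
    congr 1
    exact Nat.div_eq_of_eq_mul_right hdpos he
  rw [hN]
  have hpe : Nat.Coprime p e := by
    have h1 : Nat.Coprime p (Fintype.card F - 1) := char_coprime_card_sub_one p
    rw [card_sub_one_eq hF, he] at h1
    exact Nat.Coprime.coprime_mul_left_right (Nat.Coprime.coprime_mul_right_right h1)
  apply orderOf_eq_of_pow_iff
  intro j
  rw [hy j]
  have hediv : e ∣ j ↔ q + 1 ∣ 3 * j := by
    constructor
    · rintro ⟨i, rfl⟩
      refine ⟨t * i, ?_⟩
      rw [ht, he]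
      ring
    · intro h
      have h1 := div_gcd_dvd_of_dvd_mul (by omega : 0 < q + 1) h
      rw [Nat.gcd_comm, ← hd] at h1
      rwa [Nat.div_eq_of_eq_mul_right hdpos he] at h1
  have hprod : a' * a' * a * a = 1 := by linear_combination (a * a' + 1) * haa'
  constructor
  · rintro ⟨s, hs⟩
    rw [hpow j, Matrix.smul_one_eq_diagonal] at hs
    have h01 := congrFun (congrFun hs 0) 1
    have h00 := congrFun (congrFun hs 0) 0
    have h22 := congrFun (congrFun hs 2) 2
    simp at h01 h00 h22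
    have hj0 : (j : F) = 0 := by
      rcases h01 with h | h
      · exact absurd h.1 ha0
      · rcases h with h | h
        · rcases h with h | h
          · exact h
          · exact absurd h hc0
        · exact absurd h hε'0
    have hpj : p ∣ j := (CharP.cast_eq_zero_iff F p j).1 hj0
    have h3 : a ^ (3 * j) = 1 := by
      rw [hj0, zero_mul, add_zero, mul_one] at h00
      have e1 : a ^ (3 * j) = a ^ j * (a * a) ^ j := by
        rw [← pow_two, ← pow_mul, ← pow_add]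
        congr 1
        ring
      rw [e1, h00, ← h22, ← mul_pow]
      have : a' * a' * (a * a) = a' * a' * a * a := by ring
      rw [this, hprod, one_pow]
    have hej : e ∣ j := hediv.2 ((ha _).1 h3)
    exact hpe.mul_dvd_of_dvd_of_dvd hpj hej
  · intro h
    have hpj : p ∣ j := (dvd_mul_right p e).trans h
    have hej : e ∣ j := (dvd_mul_left e p).trans h
    have h3 : a ^ (3 * j) = 1 := (ha _).2 (hediv.1 hej)
    refine ⟨a ^ j, ?_⟩
    rw [hpow j, Matrix.smul_one_eq_diagonal]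
    have hj0 : (j : F) = 0 := (CharP.cast_eq_zero_iff F p j).2 hpj
    have h22 : (a' * a') ^ j = a ^ j := by
      calc (a' * a') ^ j = (a' * a') ^ j * a ^ (3 * j) := by rw [h3, mul_one]
        _ = (a' * a' * a * a) ^ j * a ^ j := by
          rw [mul_pow, mul_pow, mul_pow, mul_pow]
          ring
        _ = a ^ j := by rw [hprod, one_pow, one_mul]
    ext i k
    fin_cases i <;> fin_cases k <;> simp [hj0, h22]

end explicit

section criterion
variable {K : Type*} [Field K]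

/-- a monic polynomial dividing its conjugate reverse is conjugate-palindromic -/
theorem cpal_of_dvd (φ : K →+* K) {P : K[X]} (hP : P.Monic) (h : P ∣ (P.map φ).reverse) :
    CPal φ P := by
  unfold CPal
  obtain ⟨R, hR⟩ := h
  have hmap : (P.map φ).natDegree = P.natDegree := hP.natDegree_map φ
  have hQ0 : (P.map φ).reverse ≠ 0 := by
    rw [Ne, reverse_eq_zero]
    exact (hP.map φ).ne_zero
  have hR0 : R ≠ 0 := by
    rintro rfl
    rw [mul_zero] at hR
    exact hQ0 hR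
  have hdeg : (P.map φ).reverse.natDegree ≤ P.natDegree := by
    rw [← hmap]
    exact reverse_natDegree_le _
  rw [hR, natDegree_mul hP.ne_zero hR0] at hdeg
  have hR1 : R.natDegree = 0 := by omega
  obtain ⟨r, hr⟩ : ∃ r, R = C r := ⟨_, eq_C_of_natDegree_eq_zero hR1⟩
  have h1 : (P.map φ).reverse.coeff P.natDegree = r := by
    rw [hR, hr, coeff_mul_C, hP.coeff_natDegree, one_mul]
  rw [coeff_reverse, hmap, revAt_le le_rfl, Nat.sub_self, coeff_map] at h1
  rw [hR, hr, h1, mul_comm]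

/-- the root criterion -/
theorem aeval_reverse_eq_zero {L : Type*} [Field L] [Algebra K L] {q : ℕ} (φ : K →+* K)
    (hφ : ∀ x, φ x = x ^ q) (ψ : L →+* L) (hψ : ∀ x, ψ x = x ^ q) (P : K[X]) {θ μ : L}
    (hθ : θ ≠ 0) (hμ : aeval μ P = 0) (hμθ : ψ μ = θ⁻¹) :
    aeval θ (P.map φ).reverse = 0 := by
  have h1 := aeval_frob_map φ hφ ψ hψ P μ
  rw [hμ, map_zero, hμθ] at h1
  let _ : Invertible θ⁻¹ := ⟨θ, mul_inv_cancel₀ hθ, inv_mul_cancel₀ hθ⟩
  have h2 := eval₂_reverse_eq_zero_iff (algebraMap K L) θ⁻¹ (P.map φ)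
  have h4 : ⅟(θ⁻¹) = θ := rfl
  rw [h4] at h2
  rw [aeval_def]
  apply h2.2
  rw [← aeval_def]
  exact h1

/-- eigenvalues of a matrix with a scalar power -/
theorem pow_eq_of_isRoot_charpoly {n : ℕ} [NeZero n] (g : Matrix (Fin n) (Fin n) K) {j : ℕ} {c x : K}
    (hg : g ^ j = c • (1 : Matrix (Fin n) (Fin n) K)) (hx : g.charpoly.IsRoot x) : x ^ j = c := by
  have h1 : x ∈ spectrum K g := Matrix.mem_spectrum_of_isRoot_charpoly hx
  have h2 := spectrum.subset_polynomial_aeval g (X ^ j - C c) ⟨x, h1, rfl⟩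
  have h3 : aeval g (X ^ j - C c : K[X]) = 0 := by
    rw [map_sub, map_pow, aeval_X, aeval_C, hg, Algebra.algebraMap_eq_smul_one, sub_self]
  rw [h3, spectrum.zero_eq, Set.mem_singleton_iff] at h2
  simp only [eval_sub, eval_pow, eval_X, eval_C] at h2
  exact sub_eq_zero.1 h2

/-- a matrix killed by a polynomial dividing `X ^ j - c` has scalar `j`-th power -/
theorem pow_eq_smul_of_charpoly_dvd {n : ℕ} (g : Matrix (Fin n) (Fin n) K) {j : ℕ} {c : K}
    (h : g.charpoly ∣ X ^ j - C c) : g ^ j = c • (1 : Matrix (Fin n) (Fin n) K) := by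
  obtain ⟨R, hR⟩ := h
  have h1 := congrArg (aeval g) hR
  rw [map_mul, Matrix.aeval_self_charpoly, zero_mul, map_sub, map_pow, aeval_X, aeval_C,
    sub_eq_zero] at h1
  rw [h1, Algebra.algebraMap_eq_smul_one]

theorem det_eq_one_of_charpoly_coeff {g : Matrix (Fin 3) (Fin 3) K}
    (h : g.charpoly.coeff 0 = -1) : g.det = 1 := by
  have h1 := Matrix.det_eq_sign_charpoly_coeff g
  rw [Fintype.card_fin, h] at h1
  rw [h1]
  norm_num

end criterion

section torus
variable {F : Type*} [Field F] [Fintype F] {q : ℕ}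

/-- the torus of order `(q ^ 2 - 1) / d` of `PSU_3(q)` -/
theorem exists_torus2_U (hF : Fintype.card F = q ^ 2) (p : ℕ) [Fact p.Prime] [CharP F p]
    (hp2 : p ≠ 2) :
    ∃ y : Cfsg.PSU 3 F q, orderOf y = (q ^ 2 - 1) / Nat.gcd 3 (q + 1) := by
  classical
  have hq2 := two_le_q' hF
  have hq3 : 3 ≤ q := by
    obtain ⟨k, hk⟩ := odd_q hF p hp2
    omega
  obtain ⟨φ, hφ⟩ := exists_frob hF
  have hφ2 := frob_frob' hF hφ
  -- the generator
  obtain ⟨ω, hω⟩ := exists_unit_orderOf (F := F) (dvd_refl (Fintype.card F - 1))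
  obtain ⟨α, hα⟩ : ∃ α : F, α = (ω : F) := ⟨_, rfl⟩
  have hα0 : α ≠ 0 := hα ▸ ω.ne_zero
  have hαj : ∀ j : ℕ, α ^ j = 1 ↔ q ^ 2 - 1 ∣ j := by
    intro j
    rw [← hF, ← hω, orderOf_dvd_iff_pow_eq_one, hα]
    constructor
    · intro h
      apply Units.ext
      rw [Units.val_pow_eq_pow_val, h, Units.val_one]
    · intro h
      rw [← Units.val_pow_eq_pow_val, h, Units.val_one]
  have hnd : ∀ j : ℕ, 0 < j → j < q ^ 2 - 1 → α ^ j ≠ 1 := by
    intro j hj0 hj1 h
    have := Nat.le_of_dvd hj0 ((hαj j).1 h)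
    omega
  have hqq : q * q = q ^ 2 := (sq q).symm
  obtain ⟨β, hβ⟩ : ∃ β : F, β = (α ^ q)⁻¹ := ⟨_, rfl⟩
  obtain ⟨γ, hγ⟩ : ∃ γ : F, γ = (α * β)⁻¹ := ⟨_, rfl⟩
  have hβ0 : β ≠ 0 := by rw [hβ]; exact inv_ne_zero (pow_ne_zero _ hα0)
  have hγ0 : γ ≠ 0 := by rw [hγ]; exact inv_ne_zero (mul_ne_zero hα0 hβ0)
  have hαβ : α ^ q * β = 1 := by rw [hβ]; exact mul_inv_cancel₀ (pow_ne_zero _ hα0)
  have hαβγ : α * β * γ = 1 := by rw [hγ]; exact mul_inv_cancel₀ (mul_ne_zero hα0 hβ0)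
  have hβα : β ^ q * α = 1 := rel_symm hF hαβ
  have hγγ : γ ^ q * γ = 1 := by
    have h1 : (α * β * γ) ^ q * (α * β * γ) = 1 := by rw [hαβγ, one_pow, one_mul]
    have h2 : (α * β * γ) ^ q * (α * β * γ) = (α ^ q * β) * (β ^ q * α) * (γ ^ q * γ) := by
      rw [mul_pow, mul_pow]
      ring
    rw [h2, hαβ, hβα, one_mul, one_mul] at h1
    exact h1
  -- distinctness
  have hne : α ≠ β := by
    intro h
    rw [← h, ← pow_succ] at hαβ
    refine hnd (q + 1) (by omega) ?_ hαβ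
    have : q + 1 < q * q - 1 := by
      have : 3 * q ≤ q * q := Nat.mul_le_mul_right q hq3
      omega
    rwa [hqq] at this
  -- the polynomial
  obtain ⟨P, hP⟩ : ∃ P : F[X], P = (X - C α) * (X - C β) * (X - C γ) := ⟨_, rfl⟩
  have hmon : P.Monic := by
    rw [hP]
    exact ((monic_X_sub_C α).mul (monic_X_sub_C β)).mul (monic_X_sub_C γ)
  have hdeg : P.natDegree = 3 := by
    rw [hP, ((monic_X_sub_C α).mul (monic_X_sub_C β)).natDegree_mul (monic_X_sub_C γ),
      (monic_X_sub_C α).natDegree_mul (monic_X_sub_C β), natDegree_X_sub_C, natDegree_X_sub_C,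
      natDegree_X_sub_C]
  have hcoeff : P.coeff 0 = -1 := by
    rw [hP, mul_coeff_zero, mul_coeff_zero]
    simp only [coeff_sub, coeff_X_zero, coeff_C_zero, zero_sub]
    linear_combination -hαβγ
  have hevalP : ∀ x : F, aeval x P = (x - α) * (x - β) * (x - γ) := by
    intro x
    rw [hP]
    simp only [map_mul, map_sub, aeval_X, aeval_C, Algebra.algebraMap_self, RingHom.id_apply]
  have hγα : γ ≠ α := by
    intro h
    rw [h] at hγγ
    exact hne (rel_unique hαβ hγγ).symm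
  have hγβ : γ ≠ β := by
    intro h
    rw [h] at hγγ
    exact hne (rel_unique hβα hγγ)
  obtain ⟨l, hl⟩ := case_swap hF hαβγ hαβ hne hγα hγβ
  rw [← hP] at hl
  -- conjugate-palindromic
  have hcp : CPal φ P := by
    apply cpal_of_dvd φ hmon
    have hroot : ∀ x μ : F, x ≠ 0 → aeval μ P = 0 → φ μ = x⁻¹ →
        X - C x ∣ (P.map φ).reverse := by
      intro x μ hx hμ hμx
      rw [dvd_iff_isRoot, IsRoot.def, ← coe_aeval_eq_eval]
      exact aeval_reverse_eq_zero φ hφ φ hφ P hx hμ hμx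
    have hdvd : (X - C α) * (X - C β) * (X - C γ) ∣ (P.map φ).reverse := by
      apply IsCoprime.mul_dvd
      · exact IsCoprime.mul_left (coprime_X_sub_C (Ne.symm hγα)) (coprime_X_sub_C (Ne.symm hγβ))
      · apply IsCoprime.mul_dvd (coprime_X_sub_C hne)
        · apply hroot α β hα0
          · rw [hevalP]; ring
          · rw [hφ]
            exact eq_inv_of_mul_eq_one_left hβα
        · apply hroot β α hβ0
          · rw [hevalP]; ring
          · rw [hφ]
            exact eq_inv_of_mul_eq_one_left hαβ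
      · apply hroot γ γ hγ0
        · rw [hevalP]; ring
        · rw [hφ]
          exact eq_inv_of_mul_eq_one_left hγγ
    rw [← hP] at hdvd
    exact hdvd
  obtain ⟨g, hg1, hg2, -⟩ := exists_unitary_of_cpal hF p φ hφ 3 P hmon hdeg hcp
  have hdet : g.det = 1 := det_eq_one_of_charpoly_coeff (by rw [hg2]; exact hcoeff)
  obtain ⟨y, hy⟩ := exists_PSU_of_matrix hF 0 g hdet hg1
  refine ⟨y, ?_⟩
  -- arithmetic
  obtain ⟨d, hd⟩ : ∃ d, d = Nat.gcd 3 (q + 1) := ⟨_, rfl⟩
  rw [← hd] at hl ⊢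
  obtain ⟨e, he⟩ : d ∣ q + 1 := hd ▸ Nat.gcd_dvd_right 3 (q + 1)
  have hdpos : 0 < d := hd ▸ Nat.gcd_pos_of_pos_left _ (by norm_num)
  have hjd : q ^ 2 - 1 = d * (e * (q - 1)) := by
    rw [sq_sub_one_eq (by omega), he]
    ring
  have hN : (q ^ 2 - 1) / d = e * (q - 1) := Nat.div_eq_of_eq_mul_right hdpos hjd
  rw [hN] at hl ⊢
  apply orderOf_eq_of_pow_iff
  intro j
  rw [hy j]
  constructor
  · rintro ⟨c, hc⟩
    have h1 : α ^ j = c := pow_eq_of_isRoot_charpoly g hc
      (by rw [hg2, IsRoot.def, ← coe_aeval_eq_eval, hevalP]; ring)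
    have h2 : β ^ j = c := pow_eq_of_isRoot_charpoly g hc
      (by rw [hg2, IsRoot.def, ← coe_aeval_eq_eval, hevalP]; ring)
    have h3 : γ ^ j = c := pow_eq_of_isRoot_charpoly g hc
      (by rw [hg2, IsRoot.def, ← coe_aeval_eq_eval, hevalP]; ring)
    have h4 : α ^ ((q + 1) * j) = 1 := by
      have e1 : (α ^ q * β) ^ j = 1 := by rw [hαβ, one_pow]
      rw [mul_pow, ← pow_mul, h2, ← h1, ← pow_add] at e1
      rw [← e1]
      congr 1
      ring
    have h5 : α ^ (3 * j) = 1 := by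
      have e1 : (α * β * γ) ^ j = 1 := by rw [hαβγ, one_pow]
      rw [mul_pow, mul_pow, h2, h3, ← h1, ← pow_add, ← pow_add] at e1
      rw [← e1]
      congr 1
      ring
    have h6 : q ^ 2 - 1 ∣ (q + 1) * j := (hαj _).1 h4
    have h7 : q ^ 2 - 1 ∣ 3 * j := (hαj _).1 h5
    rw [sq_sub_one_eq (by omega)] at h6 h7
    obtain ⟨j', rfl⟩ : q - 1 ∣ j := Nat.dvd_of_mul_dvd_mul_left (by omega) h6
    have h8 : q + 1 ∣ 3 * j' := by
      have : (q - 1) * (q + 1) ∣ (q - 1) * (3 * j') := by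
        have e2 : (q - 1) * (3 * j') = 3 * ((q - 1) * j') := by ring
        rw [e2, mul_comm (q - 1) (q + 1)]
        exact h7
      exact Nat.dvd_of_mul_dvd_mul_left (by omega) this
    have h9 := div_gcd_dvd_of_dvd_mul (by omega : 0 < q + 1) h8
    rw [Nat.gcd_comm, ← hd, Nat.div_eq_of_eq_mul_right hdpos he] at h9
    rw [mul_comm e (q - 1)]
    exact Nat.mul_dvd_mul_left _ h9
  · rintro ⟨i, rfl⟩
    refine ⟨l ^ i, pow_eq_smul_of_charpoly_dvd g ?_⟩
    rw [hg2]
    have : (X : F[X]) ^ (e * (q - 1) * i) - C (l ^ i) = (X ^ (e * (q - 1))) ^ i - (C l) ^ i := by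
      rw [pow_mul, map_pow]
    rw [this]
    exact hl.trans (sub_dvd_pow_sub_pow _ _ _)

end torus

section singer

theorem sing_arith {q s : ℕ} (hq : 2 ≤ q) (hs : s + q = q ^ 2 + 1) :
    s * (q + 1) = q ^ 3 + 1 ∧ s * (q ^ 2 + q + 1) = q ^ 4 + q ^ 2 + 1 ∧
      s * ((q + 1) * (q ^ 3 - 1)) = (q ^ 2) ^ 3 - 1 := by
  have h1 : s * (q + 1) = q ^ 3 + 1 := by
    have h : (s + q) * (q + 1) = (q ^ 2 + 1) * (q + 1) := by rw [hs]
    ring_nf at h ⊢
    omega
  have h2 : s * (q ^ 2 + q + 1) = q ^ 4 + q ^ 2 + 1 := by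
    have h : (s + q) * (q ^ 2 + q + 1) = (q ^ 2 + 1) * (q ^ 2 + q + 1) := by rw [hs]
    ring_nf at h ⊢
    omega
  refine ⟨h1, h2, ?_⟩
  rw [← mul_assoc, h1]
  have h3 : (q ^ 2) ^ 3 = (q ^ 3) ^ 2 := by ring
  rw [h3, sq_sub_one_eq (Nat.one_le_pow _ _ (by omega))]

theorem gcd_sing {q s : ℕ} (hq : 2 ≤ q) (hs : s + q = q ^ 2 + 1) :
    Nat.gcd s (q ^ 2 - 1) = Nat.gcd 3 (q + 1) := by
  obtain ⟨t, rfl⟩ : ∃ t, q = t + 2 := ⟨q - 2, by omega⟩
  have hs1 : s = (t + 2 - 1) * (t + 2) + 1 := by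
    have : (t + 2 - 1) * (t + 2) + 1 + (t + 2) = (t + 2) ^ 2 + 1 := by
      have : t + 2 - 1 = t + 1 := by omega
      rw [this]
      ring
    omega
  have hs2 : s = (t + 2 + 1) * t + 3 := by
    have : (t + 2 + 1) * t + 3 + (t + 2) = (t + 2) ^ 2 + 1 := by ring
    omega
  have hcop : Nat.Coprime (t + 2 - 1) s := by
    rw [Nat.coprime_comm, Nat.Coprime, hs1, Nat.gcd_mul_left_add_left, Nat.gcd_one_left]
  rw [sq_sub_one_eq (by omega), hcop.gcd_mul_right_cancel_right, hs2, Nat.gcd_mul_left_add_left]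

variable {F : Type*} [Field F] [Fintype F] {q : ℕ}

/-- the Singer-type torus of order `(q ^ 2 - q + 1) / d` of `PSU_3(q)` -/
theorem exists_singer_U (hF : Fintype.card F = q ^ 2) (p : ℕ) [Fact p.Prime] [CharP F p]
    (hp2 : p ≠ 2) :
    ∃ y : Cfsg.PSU 3 F q, orderOf y = (q ^ 2 - q + 1) / Nat.gcd 3 (q + 1) := by
  classical
  have hq2 := two_le_q' hF
  have hq3 : 3 ≤ q := by
    obtain ⟨k, hk⟩ := odd_q hF p hp2
    omega
  obtain ⟨φ, hφ⟩ := exists_frob hF
  have hφ2 := frob_frob' hF hφ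
  haveI : NeZero 3 := ⟨by norm_num⟩
  obtain ⟨s, hs⟩ : ∃ s, s = q ^ 2 - q + 1 := ⟨_, rfl⟩
  have hsq : s + q = q ^ 2 + 1 := by
    have : q ≤ q ^ 2 := by nlinarith
    omega
  obtain ⟨hs1, hs2, hs3⟩ := sing_arith hq2 hsq
  have hspos : 0 < s := by omega
  have hsdvd : s ∣ Fintype.card F ^ 3 - 1 := by
    rw [hF, ← hs3]
    exact dvd_mul_right _ _
  obtain ⟨z, hz⟩ := exists_orderOf_units_extension (F := F) p 3 hsdvd
  haveI : Finite (FiniteField.Extension F p 3) := Module.finite_of_finite F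
  have hfin : finrank F (FiniteField.Extension F p 3) = 3 := FiniteField.finrank_extension F p 3
  obtain ⟨θ, hθ⟩ : ∃ θ : FiniteField.Extension F p 3, θ = (z : FiniteField.Extension F p 3) :=
    ⟨_, rfl⟩
  have hθ0 : θ ≠ 0 := hθ ▸ z.ne_zero
  have hθj : ∀ j : ℕ, θ ^ j = 1 ↔ s ∣ j := by
    intro j
    rw [← hz, orderOf_dvd_iff_pow_eq_one, hθ]
    constructor
    · intro h
      apply Units.ext
      rw [Units.val_pow_eq_pow_val, h, Units.val_one]
    · intro h
      rw [← Units.val_pow_eq_pow_val, h, Units.val_one]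
  obtain ⟨ψ, hψ⟩ := exists_frob_ext hF p (FiniteField.Extension F p 3)
  -- the minimal polynomial
  have hint : IsIntegral F θ := Algebra.IsIntegral.isIntegral θ
  obtain ⟨P, hP⟩ : ∃ P, P = minpoly F θ := ⟨_, rfl⟩
  have hmon : P.Monic := hP ▸ minpoly.monic hint
  have hirr : Irreducible P := hP ▸ minpoly.irreducible hint
  have hPθ : aeval θ P = 0 := hP ▸ minpoly.aeval F θ
  have hdeg : P.natDegree = 3 := by
    have h1 : P.natDegree ∣ 3 := by
      have := minpoly.degree_dvd hint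
      rw [hfin] at this
      rw [hP]
      exact this
    have h2 : P.natDegree ≠ 1 := by
      rw [hP, Ne, minpoly.natDegree_eq_one_iff]
      rintro ⟨c, hc⟩
      have hc0 : c ≠ 0 := by
        rintro rfl
        rw [map_zero] at hc
        exact hθ0 hc.symm
      have h3 : θ ^ (Fintype.card F - 1) = 1 := by
        rw [← hc, ← map_pow, FiniteField.pow_card_sub_one_eq_one c hc0, map_one]
      have h4 : s ∣ q ^ 2 - 1 := by
        rw [← hF]
        exact (hθj _).1 h3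
      have h5 : q ^ 2 - 1 = s + (q - 2) := by omega
      rw [h5, Nat.dvd_add_right dvd_rfl] at h4
      have h6 := Nat.le_of_dvd (by omega) h4
      have h7 : 3 * q ≤ q ^ 2 := by nlinarith
      omega
    rcases (Nat.dvd_prime Nat.prime_three).1 h1 with h | h
    · exact absurd h h2
    · exact h
  have hcoeff : P.coeff 0 = -1 := by
    have h1 := root_pow_sum hirr hmon
    rw [hdeg] at h1
    have h2 : ∑ i ∈ Finset.range 3, Fintype.card F ^ i = s * (q ^ 2 + q + 1) := by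
      rw [Finset.sum_range_succ, Finset.sum_range_succ, Finset.sum_range_one, hF, hs2]
      ring
    rw [h2] at h1
    obtain ⟨ι, hι⟩ : ∃ ι : AdjoinRoot P →ₐ[F] FiniteField.Extension F p 3,
        ι (AdjoinRoot.root P) = θ :=
      ⟨AdjoinRoot.liftAlgHom P (Algebra.ofId F (FiniteField.Extension F p 3)) θ hPθ,
        AdjoinRoot.liftAlgHom_root _ _ _ _⟩
    have h3 := congrArg ι h1
    rw [map_pow, hι, AlgHom.commutes, pow_mul, (hθj s).2 dvd_rfl,
      one_pow, ← map_one (algebraMap F (FiniteField.Extension F p 3))] at h3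
    have h4 := (algebraMap F (FiniteField.Extension F p 3)).injective h3
    linear_combination h4
  -- conjugate-palindromic
  have hcp : CPal φ P := by
    apply cpal_of_dvd φ hmon
    have hμ : aeval (ψ (ψ θ)) P = 0 := by
      have e1 := aeval_frob_map φ hφ ψ hψ P θ
      rw [hPθ, map_zero] at e1
      have e2 := aeval_frob_map φ hφ ψ hψ (P.map φ) (ψ θ)
      rw [e1, map_zero, map_map_self' hφ2] at e2
      exact e2
    have hμθ : ψ (ψ (ψ θ)) = θ⁻¹ := by
      apply eq_inv_of_mul_eq_one_left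
      rw [hψ, hψ, hψ, ← pow_mul, ← pow_mul, ← pow_succ]
      apply (hθj _).2
      refine ⟨q + 1, ?_⟩
      rw [hs1]
      ring
    have h1 := aeval_reverse_eq_zero φ hφ ψ hψ P hθ0 hμ hμθ
    have h2 := minpoly.dvd F θ h1
    rw [← hP] at h2
    exact h2
  obtain ⟨g, hg1, hg2, -⟩ := exists_unitary_of_cpal hF p φ hφ 3 P hmon hdeg hcp
  have hdet : g.det = 1 := det_eq_one_of_charpoly_coeff (by rw [hg2]; exact hcoeff)
  obtain ⟨y, hy⟩ := exists_PSU_of_matrix hF 0 g hdet hg1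
  refine ⟨y, ?_⟩
  rw [← hs]
  obtain ⟨d, hd⟩ : ∃ d, d = Nat.gcd 3 (q + 1) := ⟨_, rfl⟩
  rw [← hd]
  have hdpos : 0 < d := hd ▸ Nat.gcd_pos_of_pos_left _ (by norm_num)
  have hds : d ∣ s := by
    rw [hd, hs]
    exact gcd_dvd_sq_sub_add hq2
  have hdq : d ∣ Fintype.card F - 1 := by
    rw [card_sub_one_eq hF, hd]
    exact (Nat.gcd_dvd_right 3 (q + 1)).mul_right _
  apply orderOf_eq_of_pow_iff
  intro j
  rw [hy j]
  constructor
  · rintro ⟨c, hc⟩
    -- the minimal polynomial of `g` is `P`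
    have h1 : aeval g (X ^ j - C c : F[X]) = 0 := by
      rw [map_sub, map_pow, aeval_X, aeval_C, hc, Algebra.algebraMap_eq_smul_one, sub_self]
    have h2 : minpoly F g ∣ X ^ j - C c := minpoly.dvd F g h1
    have h3 : P ∣ minpoly F g := by
      obtain ⟨R, hR⟩ := Matrix.minpoly_dvd_charpoly g
      rw [hg2] at hR
      rcases hirr.isUnit_or_isUnit hR with h | h
      · exact absurd h (minpoly.not_isUnit F g)
      · rw [hR]
        exact (IsUnit.mul_right_dvd h).2 dvd_rfl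
    obtain ⟨R, hR⟩ := h3.trans h2
    have h4 := congrArg (aeval θ) hR
    rw [map_mul, hPθ, zero_mul, map_sub, map_pow, aeval_X, aeval_C, sub_eq_zero] at h4
    have hc0 : c ≠ 0 := by
      rintro rfl
      rw [map_zero] at h4
      exact (pow_ne_zero j hθ0) h4
    have h5 : θ ^ ((Fintype.card F - 1) * j) = 1 := by
      rw [mul_comm, pow_mul, h4, ← map_pow, FiniteField.pow_card_sub_one_eq_one c hc0, map_one]
    have h6 : s ∣ (Fintype.card F - 1) * j := (hθj _).1 h5
    have h7 := div_gcd_dvd_of_dvd_mul hspos h6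
    rw [hF, gcd_sing hq2 hsq, ← hd] at h7
    exact h7
  · rintro ⟨i, rfl⟩
    have h1 : (θ ^ (s / d)) ^ (Fintype.card F - 1) = 1 := by
      obtain ⟨k, hk⟩ := hdq
      rw [hk, ← pow_mul, ← mul_assoc, Nat.div_mul_cancel hds, pow_mul, (hθj s).2 dvd_rfl, one_pow]
    obtain ⟨c₀, hc₀⟩ := exists_algebraMap_eq_of_pow_card_sub_one (F := F) h1
    refine ⟨c₀ ^ i, pow_eq_smul_of_charpoly_dvd g ?_⟩
    rw [hg2, hP]
    apply minpoly.dvd
    rw [map_sub, map_pow, aeval_X, aeval_C, pow_mul, ← hc₀, map_pow, sub_self]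

end singer

end PSU3Spec
end Cfsg.Agent.Helper12
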