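import Mathlib
import Cfsg.Agent.Lib.Helper12.PSU3SpecPoly
import Cfsg.Agent.Lib.Helper12.PSU3SpecExist
import Cfsg.Agent.Lib.Helper12.PSL3SpecMain

/-!
# The spectrum of `PSU_3(q)`, `q` odd: assembling
-/

set_option autoImplicit false

open Polynomial Module

namespace Cfsg.Agent.Helper12
namespace PSU3Spec

open Cfsg.Agent.Helper12.PSL3Spec Cfsg.Agent.Helper13.Uni Cfsg.Agent.Helper11.Herm

theorem AllowedU.mono {p q j m : ℕ} (h : AllowedU p q j) (hm : m ∣ j) : AllowedU p q m := by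
  rcases h with h | h | h | h
  · exact Or.inl (hm.trans h)
  · exact Or.inr (Or.inl (hm.trans h))
  · exact Or.inr (Or.inr (Or.inl (hm.trans h)))
  · exact Or.inr (Or.inr (Or.inr (hm.trans h)))

section sub
variable {F : Type*} [Field F] [Fintype F] {q : ℕ}

/-- every element order of `PSU_3(q)` is allowed -/
theorem allowed_orderOf_U (hF : Fintype.card F = q ^ 2) (p : ℕ) [Fact p.Prime] [CharP F p]
    (hp2 : p ≠ 2) (y : Cfsg.PSU 3 F q) : AllowedU p q (orderOf y) := by
  classical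
  obtain ⟨φ, hφ⟩ := exists_frob hF
  obtain ⟨g, rfl⟩ := QuotientGroup.mk_surjective y
  obtain ⟨M, hM⟩ : ∃ M : Matrix (Fin 3) (Fin 3) F,
      M = ((g : Matrix.SpecialLinearGroup (Fin 3) F) : Matrix (Fin 3) (Fin 3) F) := ⟨_, rfl⟩
  have hmon : M.charpoly.Monic := Matrix.charpoly_monic _
  have hdeg : M.charpoly.natDegree = 3 := by
    rw [Matrix.charpoly_natDegree_eq_dim, Fintype.card_fin]
  have h0 : M.charpoly.coeff 0 = -1 := by
    have h1 := Matrix.det_eq_sign_charpoly_coeff M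
    rw [hM, (g : Matrix.SpecialLinearGroup (Fin 3) F).det_coe, Fintype.card_fin, ← hM] at h1
    linear_combination h1
  have hcp : CPal φ M.charpoly := by
    apply cpal_charpoly
    rw [isU_iff_preserves]
    intro u v
    rw [← hermForm_eq_hdot φ hφ, ← hermForm_eq_hdot φ hφ, hM]
    exact g.2 u v
  obtain ⟨j, l, hdvd, hall⟩ := exists_dvd_X_pow_sub_C_U p hp2 hF φ hφ hmon hdeg h0 hcp
  refine hall.mono (orderOf_dvd_of_pow_eq_one ?_)
  rw [mk_pow_eq_one_iff_U hF 0, ← hM]
  exact ⟨l, pow_eq_smul_of_charpoly_dvd M hdvd⟩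

/-- every allowed number is an element order of `PSU_3(q)` -/
theorem exists_orderOf_of_allowedU (hF : Fintype.card F = q ^ 2) (p : ℕ) [Fact p.Prime]
    [CharP F p] (hp2 : p ≠ 2) {m : ℕ} (h : AllowedU p q m) :
    ∃ y : Cfsg.PSU 3 F q, orderOf y = m := by
  classical
  rcases h with h | h | h | h
  · obtain ⟨y, hy⟩ := exists_diag_U (F := F) hF
    exact exists_orderOf_of_dvd y (hy ▸ h)
  · obtain ⟨y, hy⟩ := exists_mixed_U (F := F) hF p hp2
    exact exists_orderOf_of_dvd y (hy ▸ h)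
  · obtain ⟨y, hy⟩ := exists_torus2_U (F := F) hF p hp2
    exact exists_orderOf_of_dvd y (hy ▸ h)
  · obtain ⟨y, hy⟩ := exists_singer_U (F := F) hF p hp2
    exact exists_orderOf_of_dvd y (hy ▸ h)

end sub

end PSU3Spec
end Cfsg.Agent.Helper12
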