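import Mathlib
import Cfsg.Agent.Lib.Helper11.Unitary3

/-!
# Arithmetic for the prime graph of `PSU_m(q)`: primes not dividing `|SU_{m-2}(q)|` (helper12)
-/

set_option autoImplicit false

namespace Cfsg.Agent.Helper12
namespace PSUAdj

open Cfsg.Agent.Helper11.Herm

/-- the factor `q ^ (i + 1) - (-1) ^ (i + 1)` -/
def cfac (q i : ℕ) : ℕ := if Even i then q ^ (i + 1) + 1 else q ^ (i + 1) - 1

section card

variable {F : Type*} [Field F] [Fintype F] {q : ℕ}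

theorem card_SU_eq (hF : Fintype.card F = q ^ 2) (k : ℕ) (hk : 1 ≤ k) :
    Nat.card (Cfsg.SU k F q) = q ^ (k * (k - 1) / 2) * ∏ i ∈ Finset.Ico 1 k, cfac q i := by
  have h1 := card_GU_eq_SU hF k hk
  rw [card_GU hF k] at h1
  unfold guOrder at h1
  rw [Finset.range_eq_Ico, Finset.prod_eq_prod_Ico_succ_bot (by omega : 0 < k)] at h1
  have h2 : (if Even 0 then q ^ (0 + 1) + 1 else q ^ (0 + 1) - 1) = q + 1 := by simp
  rw [h2] at h1
  have h3 : (q + 1) * Nat.card (Cfsg.SU k F q) =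
      (q + 1) * (q ^ (k * (k - 1) / 2) * ∏ i ∈ Finset.Ico (0 + 1) k,
        (if Even i then q ^ (i + 1) + 1 else q ^ (i + 1) - 1)) := by
    rw [h1]; ring
  have h4 := Nat.eq_of_mul_eq_mul_left (by omega : 0 < q + 1) h3
  rw [h4]
  rfl

end card

section zmod

variable {r : ℕ} [Fact r.Prime]

theorem dvd_cfac_of_pow (q i : ℕ) (h : (-(q : ZMod r)) ^ (i + 1) = 1) : r ∣ cfac q i := by
  unfold cfac
  split_ifs with hi
  · have hodd : Odd (i + 1) := hi.add_one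
    rw [hodd.neg_pow] at h
    rw [← ZMod.natCast_eq_zero_iff]
    push_cast
    linear_combination (-1 : ZMod r) * h
  · have heven : Even (i + 1) := by
      rw [Nat.not_even_iff_odd] at hi
      exact hi.add_one
    rw [heven.neg_pow] at h
    rw [← ZMod.natCast_eq_zero_iff, Nat.cast_sub (Nat.one_le_pow _ _ (by
      rcases Nat.eq_zero_or_pos q with rfl | hq
      · exfalso
        rw [Nat.cast_zero, zero_pow (by omega)] at h
        exact zero_ne_one h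
      · exact hq))]
    push_cast
    rw [h, sub_self]

end zmod

section main

variable {F : Type*} [Field F] [Fintype F] {q : ℕ}

theorem char_dvd_q (hF : Fintype.card F = q ^ 2) (p : ℕ) [Fact p.Prime] [CharP F p] : p ∣ q := by
  have hp : p.Prime := Fact.out
  have h1 : p ∣ Fintype.card F := by
    obtain ⟨e, he⟩ := FiniteField.card F p
    rw [he.2]
    exact dvd_pow_self p e.ne_zero
  rw [hF] at h1
  exact hp.dvd_of_dvd_pow h1

theorem char_coprime_q_add_one (hF : Fintype.card F = q ^ 2) (p : ℕ) [Fact p.Prime] [CharP F p] :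
    Nat.Coprime p (q + 1) := by
  have hp : p.Prime := Fact.out
  rw [Nat.Prime.coprime_iff_not_dvd hp]
  intro h
  have h1 := char_dvd_q hF p
  have h2 : p ∣ 1 := (Nat.dvd_add_right h1).1 h
  exact hp.one_lt.ne' (Nat.dvd_one.1 h2)

/-- consequences of `r ∤ |SU_{m-2}(q)|` -/
theorem arith_of_not_dvd (hF : Fintype.card F = q ^ 2) (p : ℕ) [Fact p.Prime] [CharP F p]
    {m : ℕ} (hm : 4 ≤ m) {r : ℕ} (hr : r.Prime)
    (hnd : ¬ r ∣ Nat.card (Cfsg.SU (m - 2) F q)) :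
    r ≠ p ∧ r ≠ 2 ∧ Nat.Coprime r (q + 1) ∧
      m ≤ 2 * orderOf ((Fintype.card F : ℕ) : ZMod r) + 1 ∧
      (orderOf (q : ZMod r) % 4 = 2 → m ≤ orderOf ((Fintype.card F : ℕ) : ZMod r) + 1) := by
  haveI : Fact r.Prime := ⟨hr⟩
  have hp : p.Prime := Fact.out
  obtain ⟨k, hk⟩ : ∃ k, k = m - 2 := ⟨_, rfl⟩
  have hk2 : 2 ≤ k := by omega
  rw [← hk, card_SU_eq hF k (by omega)] at hnd
  have hrq : ¬ r ∣ q := by
    intro h
    apply hnd
    apply Dvd.dvd.mul_right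
    apply dvd_pow h
    have : 2 ≤ k * (k - 1) := by
      have : 1 ≤ k - 1 := by omega
      nlinarith
    omega
  have hfac : ∀ i, 1 ≤ i → i < k → ¬ r ∣ cfac q i := by
    intro i hi1 hik h
    apply hnd
    apply Dvd.dvd.mul_left
    exact dvd_trans h (Finset.dvd_prod_of_mem _ (Finset.mem_Ico.2 ⟨hi1, hik⟩))
  obtain ⟨Q, hQ⟩ : ∃ Q : ZMod r, Q = (q : ZMod r) := ⟨_, rfl⟩
  have hQ0 : Q ≠ 0 := by
    rw [hQ, Ne, ZMod.natCast_eq_zero_iff]
    exact hrq
  obtain ⟨ρ, hρ⟩ : ∃ ρ : ZMod r, ρ = -Q := ⟨_, rfl⟩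
  have hρ0 : ρ ≠ 0 := by rw [hρ]; exact neg_ne_zero.2 hQ0
  have hpow2 : ∀ j, 2 ≤ j → j ≤ k → ρ ^ j ≠ 1 := by
    intro j hj2 hjk h
    obtain ⟨i, rfl⟩ : ∃ i, j = i + 1 := ⟨j - 1, by omega⟩
    rw [hρ, hQ] at h
    exact hfac i (by omega) (by omega) (dvd_cfac_of_pow q i h)
  have hpow : ∀ j, 1 ≤ j → j ≤ k → ρ ^ j ≠ 1 := by
    intro j hj1 hjk h
    rcases Nat.lt_or_ge j 2 with hlt | hge
    · have hj : j = 1 := by omega
      subst hj
      apply hpow2 2 le_rfl hk2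
      rw [pow_one] at h
      rw [h, one_pow]
    · exact hpow2 j hge hjk h
  have hfermat : ∀ x : ZMod r, x ≠ 0 → x ^ (r - 1) = 1 := fun x hx =>
    ZMod.pow_card_sub_one_eq_one hx
  have hr1 : 0 < r - 1 := by have := hr.two_le; omega
  have hfin : ∀ x : ZMod r, x ≠ 0 → 0 < orderOf x := by
    intro x hx
    apply orderOf_pos_iff.2
    exact isOfFinOrder_iff_pow_eq_one.2 ⟨r - 1, hr1, hfermat x hx⟩
  obtain ⟨d, hd⟩ : ∃ d, d = orderOf ρ := ⟨_, rfl⟩
  have hdpos : 0 < d := by rw [hd]; exact hfin ρ hρ0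
  have hdk : k + 1 ≤ d := by
    by_contra hlt
    push Not at hlt
    apply hpow d hdpos (by omega)
    rw [hd]
    exact pow_orderOf_eq_one ρ
  have hdr : d ∣ r - 1 := by rw [hd]; exact orderOf_dvd_of_pow_eq_one (hfermat ρ hρ0)
  have hdr' : d ≤ r - 1 := Nat.le_of_dvd hr1 hdr
  obtain ⟨b, hb⟩ : ∃ b, b = orderOf ((Fintype.card F : ℕ) : ZMod r) := ⟨_, rfl⟩
  have hcast : ((Fintype.card F : ℕ) : ZMod r) = Q ^ 2 := by
    rw [hF, hQ]; push_cast; rfl
  have hbpos : 0 < b := by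
    rw [hb, hcast]
    exact hfin _ (pow_ne_zero 2 hQ0)
  have hQb : (Q ^ 2) ^ b = 1 := by
    rw [hb, hcast]
    exact pow_orderOf_eq_one _
  have hd2b : d ∣ 2 * b := by
    rw [hd]
    apply orderOf_dvd_of_pow_eq_one
    rw [pow_mul, hρ, neg_sq, hQb]
  have hd2b' : d ≤ 2 * b := Nat.le_of_dvd (by omega) hd2b
  rw [← hb]
  refine ⟨?_, ?_, ?_, by omega, ?_⟩
  · rintro rfl
    exact hrq (char_dvd_q hF r)
  · rintro rfl
    omega
  · rw [Nat.Prime.coprime_iff_not_dvd hr]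
    intro h
    apply hpow 1 le_rfl (by omega)
    rw [pow_one, hρ, hQ]
    have : ((q + 1 : ℕ) : ZMod r) = 0 := (ZMod.natCast_eq_zero_iff _ _).2 h
    push_cast at this
    linear_combination (-1 : ZMod r) * this
  · intro h4
    rw [← hQ] at h4
    obtain ⟨i0, hi0⟩ : ∃ i0, i0 = orderOf Q := ⟨_, rfl⟩
    rw [← hi0] at h4
    obtain ⟨c, hc⟩ : ∃ c, i0 = 2 * (2 * c + 1) := ⟨i0 / 4, by omega⟩
    obtain ⟨h, hh⟩ : ∃ h, h = 2 * c + 1 := ⟨_, rfl⟩
    rw [← hh] at hc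
    have hQi : Q ^ i0 = 1 := by rw [hi0]; exact pow_orderOf_eq_one Q
    have hQh1 : Q ^ h ≠ 1 := by
      rw [hi0] at hc
      apply pow_ne_one_of_lt_orderOf (by omega)
      omega
    have hQh : Q ^ h = -1 := by
      have h1 : (Q ^ h - 1) * (Q ^ h + 1) = 0 := by
        have : Q ^ h * Q ^ h = 1 := by rw [← pow_add, ← two_mul, ← hc, hQi]
        linear_combination this
      rcases mul_eq_zero.1 h1 with h2 | h2
      · exact absurd (sub_eq_zero.1 h2) hQh1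
      · exact eq_neg_of_add_eq_zero_left h2
    have hodd : Odd h := ⟨c, hh⟩
    have hρh : ρ ^ h = 1 := by
      rw [hρ, hodd.neg_pow, hQh, neg_neg]
    have hdh : d ∣ h := by rw [hd]; exact orderOf_dvd_of_pow_eq_one hρh
    have hdh' : d ≤ h := Nat.le_of_dvd (by omega) hdh
    have hi2b : i0 ∣ 2 * b := by
      rw [hi0]
      apply orderOf_dvd_of_pow_eq_one
      rw [pow_mul, hQb]
    rw [hc] at hi2b
    have hhb : h ∣ b := (Nat.mul_dvd_mul_iff_left (by omega : 0 < 2)).1 hi2b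
    have hhb' : h ≤ b := Nat.le_of_dvd hbpos hhb
    omega

end main

end PSUAdj
end Cfsg.Agent.Helper12
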