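import Mathlib
import Cfsg.Agent.Lib.Helper12.CommUnip
import Cfsg.Agent.Lib.Helper12.CentralLift
import Cfsg.Agent.Lib.Helper12.PSLAdjNo
import Cfsg.Agent.Lib.Helper13.SympPrime
import Cfsg.Agent.Lib.Helper2.SpCenter

/-!
# Prime graph of `PSp_{2n}(q)`: non-adjacency of `r` and `p` (helper12)
-/

set_option autoImplicit false

open Polynomial Module

namespace Cfsg.Agent.Helper12
namespace PSpAdj

open Cfsg.Agent.Helper13.SympSS Cfsg.Agent.Helper13.SS Cfsg.Agent.Helper13.Dual

section core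

variable {F : Type*} [Field F] {V : Type*} [AddCommGroup V] [Module F V]

/-- a nilpotent endomorphism kills a nonzero vector of every nonzero invariant subspace -/
theorem exists_mem_ker_of_nilpotent (N : Module.End F V) {m : ℕ} (hN : N ^ m = 0)
    (K : Submodule F V) (hK : ∀ w ∈ K, N w ∈ K) (hK0 : K ≠ ⊥) :
    ∃ w ∈ K, w ≠ 0 ∧ N w = 0 := by
  classical
  obtain ⟨x, hxK, hx0⟩ := (Submodule.ne_bot_iff K).1 hK0
  have hex : ∃ j, (N ^ j) x = 0 := ⟨m, by rw [hN]; rfl⟩
  obtain ⟨j, hjdef⟩ : ∃ j, j = Nat.find hex := ⟨_, rfl⟩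
  have hj : (N ^ j) x = 0 := by rw [hjdef]; exact Nat.find_spec hex
  have hj1 : 1 ≤ j := by
    by_contra hlt
    have : j = 0 := by omega
    rw [this, pow_zero] at hj
    exact hx0 hj
  have hj2 : (N ^ (j - 1)) x ≠ 0 := by
    have := Nat.find_min hex (m := j - 1) (by omega)
    exact this
  have hinv : ∀ i : ℕ, (N ^ i) x ∈ K := by
    intro i
    induction i with
    | zero => simpa using hxK
    | succ i ih =>
      rw [pow_succ', Module.End.mul_apply]
      exact hK _ ih
  refine ⟨(N ^ (j - 1)) x, hinv _, hj2, ?_⟩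
  rw [← Module.End.mul_apply, ← pow_succ', show j - 1 + 1 = j by omega, hj]

end core

section odd

variable {F : Type*} [Field F] [Fintype F] {p : ℕ} [Fact p.Prime] [CharP F p]
  {V : Type*} [AddCommGroup V] [Module F V] [FiniteDimensional F V]

/-- `k = ord_r(q)` odd and `dim V = 2k`: a symplectic isometry of order `r` commutes with no
nontrivial unipotent element -/
theorem no_commuting_unipotent_odd {r : ℕ} (hr : r.Prime) (hr2 : r ≠ 2) (hrp : r ≠ p)
    (A U : Module.End F V) (B : LinearMap.BilinForm F V) (hAB : AltInv A B) (hAr : A ^ r = 1)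
    (hA1 : A ≠ 1) (hAU : Commute A U) (hU : U ^ p = 1) (hU1 : U ≠ 1)
    (hodd : Odd (orderOf ((Fintype.card F : ℕ) : ZMod r)))
    (hdim : finrank F V = 2 * orderOf ((Fintype.card F : ℕ) : ZMod r)) : False := by
  classical
  haveI : Fact r.Prime := ⟨hr⟩
  have hp : p.Prime := Fact.out
  have hr1 : 1 ≤ r := hr.one_lt.le
  have hrq : ¬ r ∣ Fintype.card F := by
    intro h
    obtain ⟨e, he⟩ := FiniteField.card F p
    rw [he.2] at h
    exact hrp ((Nat.prime_dvd_prime_iff_eq hr hp).1 (hr.dvd_of_dvd_pow h))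
  obtain ⟨i, hi⟩ : ∃ i, i = orderOf ((Fintype.card F : ℕ) : ZMod r) := ⟨_, rfl⟩
  rw [← hi] at hodd hdim
  have hi0 : 0 < i := hodd.pos
  obtain ⟨S, hS⟩ : ∃ S, S = insert (X - 1 : F[X]) (cycFactors F r) := ⟨_, rfl⟩
  have hkill : aeval A (∏ f ∈ S, f) = 0 := by
    rw [hS, X_sub_one_mul_prod hr hrp, map_sub, map_pow, aeval_X, map_one, hAr, sub_self]
  have hcop : (S : Set F[X]).Pairwise IsCoprime := by
    rw [hS]; exact insert_pairwise_coprime (F := F) hr hrp
  have hfin := finrank_eq_sum_kdim A S hcop hkill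
  have hdeg : ∀ f ∈ cycFactors F r, f.natDegree = i := by
    intro f hf
    rw [hi]
    exact cycFactors_natDegree (p := p) rfl hr hrp hf
  have hker1 : LinearMap.ker (aeval A (X - 1 : F[X])) = LinearMap.ker (A - 1) := by
    rw [map_sub, aeval_X, map_one]
  -- Step 1: some cyclotomic factor occurs
  obtain ⟨f, hf, hkf⟩ : ∃ f ∈ cycFactors F r, kdim A f ≠ 0 := by
    by_contra hcon
    push Not at hcon
    apply hA1
    rw [hS, Finset.sum_insert (X_sub_one_notMem hr hrp), Finset.sum_eq_zero hcon, add_zero] at hfin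
    have h1 : LinearMap.ker (aeval A (X - 1 : F[X])) = ⊤ :=
      Submodule.eq_top_of_finrank_eq hfin.symm
    rw [hker1] at h1
    have h2 : A - 1 = 0 := LinearMap.ker_eq_top.1 h1
    exact sub_eq_zero.1 h2
  have hfirr := cycFactors_irreducible hf
  have hfmon := cycFactors_monic hf
  have hfm := cycFactors_dvd_X_pow hf
  obtain ⟨f', hf'def⟩ : ∃ f', f' = dualPoly r f := ⟨_, rfl⟩
  have hf' : f' ∈ cycFactors F r := hf'def ▸ dualPoly_mem_cycFactors hr hr2 hrp hf
  have hne : f' ≠ f := by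
    rw [hf'def]
    exact dualPoly_ne_self_of_odd (p := p) rfl hr hr2 hrp (by rw [← hi]; exact hodd) hf
  have hkd : kdim A f' = kdim A f := by
    rw [hf'def]
    exact kdim_dual hr1 (cast_ne_zero_of_prime_ne hr hrp) hAr hAB hfirr hfmon hfm
  have hdvd : i ∣ kdim A f := by
    rw [← hdeg f hf]
    exact dvd_kdim A f hfirr
  have hge : i ≤ kdim A f := Nat.le_of_dvd (Nat.pos_of_ne_zero hkf) hdvd
  have hX1 : (X - 1 : F[X]) ∉ cycFactors F r := X_sub_one_notMem hr hrp
  have hsub : ({X - 1, f, f'} : Finset F[X]) ⊆ S := by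
    intro g hg
    rw [Finset.mem_insert, Finset.mem_insert, Finset.mem_singleton] at hg
    rw [hS, Finset.mem_insert]
    rcases hg with rfl | rfl | rfl
    · left; rfl
    · right; exact hf
    · right; exact hf'
  have hsum3 : ∑ g ∈ ({X - 1, f, f'} : Finset F[X]), kdim A g =
      kdim A (X - 1) + (kdim A f + kdim A f') := by
    rw [Finset.sum_insert, Finset.sum_insert, Finset.sum_singleton]
    · rw [Finset.mem_singleton]; exact hne.symm
    · rw [Finset.mem_insert, Finset.mem_singleton]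
      rintro (h | h)
      · exact hX1 (h ▸ hf)
      · exact hX1 (h ▸ hf')
  have hle3 := Finset.sum_le_sum_of_subset (f := fun g => kdim A g) hsub
  rw [hsum3, ← hfin, hdim, hkd] at hle3
  have hkf_eq : kdim A f = i := by omega
  have hk1 : kdim A (X - 1 : F[X]) = 0 := by omega
  have hfix : LinearMap.ker (A - 1) = ⊥ := by
    rw [← hker1]
    exact Submodule.finrank_eq_zero.1 hk1
  -- Step 3: the two primary components span
  obtain ⟨K, hKdef⟩ : ∃ K : F[X] → Submodule F V, K = fun g => LinearMap.ker (aeval A g) :=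
    ⟨_, rfl⟩
  have hKdim : ∀ g, finrank F (K g) = kdim A g := fun g => by rw [hKdef]; rfl
  have hdisj : Disjoint (K f) (K f') := by
    rw [hKdef]
    exact Polynomial.disjoint_ker_aeval_of_isCoprime A
      (coprime_of_monic_irreducible hfirr (cycFactors_irreducible hf') hfmon
        (cycFactors_monic hf') hne.symm)
  have hsup : K f ⊔ K f' = ⊤ := by
    apply Submodule.eq_top_of_finrank_eq
    have h1 := Submodule.finrank_sup_add_finrank_inf_eq (K f) (K f')
    rw [disjoint_iff.1 hdisj, finrank_bot, add_zero, hKdim, hKdim, hkd, hkf_eq] at h1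
    rw [h1, hdim]
    ring
  -- Step 4: `U` is trivial on each component
  haveI : CharP (Module.End F V) p := by
    haveI : Nontrivial V := Module.nontrivial_of_finrank_pos (R := F) (by omega)
    exact charP_of_injective_algebraMap (algebraMap F (Module.End F V)).injective p
  obtain ⟨N, hN⟩ : ∃ N, N = U - 1 := ⟨_, rfl⟩
  have hNp : N ^ p = 0 := by
    rw [hN, sub_pow_char_of_commute p (Commute.one_right U), hU, one_pow, sub_self]
  have hAN : Commute A N := by rw [hN]; exact hAU.sub_right (Commute.one_right A)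
  have hcomm : ∀ v, N (A v) = A (N v) := by
    intro v
    rw [← Module.End.mul_apply, ← hAN.eq, Module.End.mul_apply]
  have hNK : ∀ g, ∀ w ∈ K g, N w ∈ K g := by
    intro g w hw
    rw [hKdef] at hw ⊢
    rw [LinearMap.mem_ker] at hw ⊢
    rw [← aeval_intertwine N A A hcomm g w, hw, map_zero]
  have hAK : ∀ g, ∀ w ∈ K g, A w ∈ K g := by
    intro g w hw
    rw [hKdef] at hw ⊢
    exact ker_aeval_invariant A g w hw
  have hcomp : ∀ g, finrank F (K g) = i → K g ≤ LinearMap.ker N := by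
    intro g hg
    obtain ⟨W, hW⟩ : ∃ W, W = K g ⊓ LinearMap.ker N := ⟨_, rfl⟩
    have hWinv : ∀ w ∈ W, A w ∈ W := by
      intro w hw
      rw [hW] at hw ⊢
      refine ⟨hAK g w hw.1, ?_⟩
      show A w ∈ LinearMap.ker N
      have hw2 : w ∈ LinearMap.ker N := hw.2
      rw [LinearMap.mem_ker] at hw2 ⊢
      rw [hcomm, hw2, map_zero]
    have hK0 : K g ≠ ⊥ := by
      intro h
      rw [h, finrank_bot] at hg
      omega
    obtain ⟨w, hwK, hw0, hNw⟩ := exists_mem_ker_of_nilpotent N hNp (K g) (hNK g) hK0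
    have hwW : w ∈ W := by rw [hW]; exact ⟨hwK, LinearMap.mem_ker.2 hNw⟩
    have hWpos : 1 ≤ finrank F W := one_le_finrank_of_mem hwW hw0
    have h1 := orderOf_dvd_finrank_sub hrq A hAr W hWinv
    rw [← hi, hfix, inf_bot_eq, finrank_bot, Nat.sub_zero] at h1
    have hWle : W ≤ K g := by rw [hW]; exact inf_le_left
    have h2 : finrank F W ≤ finrank F (K g) := Submodule.finrank_mono hWle
    have h3 := Nat.le_of_dvd (by omega) h1
    have h4 : W = K g := Submodule.eq_of_le_of_finrank_eq hWle (by omega)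
    rw [← h4, hW]
    exact inf_le_right
  have hf1 := hcomp f (by rw [hKdim, hkf_eq])
  have hf2 := hcomp f' (by rw [hKdim, hkd, hkf_eq])
  have htop : LinearMap.ker N = ⊤ := by
    rw [eq_top_iff, ← hsup]
    exact sup_le hf1 hf2
  apply hU1
  have h5 : N = 0 := LinearMap.ker_eq_top.1 htop
  rw [hN] at h5
  exact sub_eq_zero.1 h5

end odd

section psp

variable {F : Type*} [Field F] [Fintype F] (p : ℕ) [Fact p.Prime] [CharP F p]

/-- the exponent of the centre of `Sp_{2n}(F)` -/
def cexp (p : ℕ) : ℕ := if p = 2 then 1 else 2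

theorem cexp_coprime {s : ℕ} (hs : s.Prime) (h : s = 2 → p = 2) : Nat.Coprime s (cexp p) := by
  unfold cexp
  split_ifs with h2
  · exact Nat.coprime_one_right s
  · have hs2 : s ≠ 2 := fun h' => h2 (h h')
    exact (Nat.coprime_primes hs Nat.prime_two).2 hs2

theorem center_pow_cexp {n : ℕ} (hn : 1 ≤ n)
    (c : Matrix.symplecticGroup (Fin n) F)
    (hc : c ∈ Subgroup.center (Matrix.symplecticGroup (Fin n) F)) : c ^ cexp p = 1 := by
  haveI : Nonempty (Fin n) := ⟨⟨0, by omega⟩⟩
  rw [Cfsg.Agent.Helper2.Sp.mem_center_iff] at hc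
  rcases hc with rfl | rfl
  · exact one_pow _
  · unfold cexp
    split_ifs with h2
    · subst h2
      rw [pow_one, Cfsg.Agent.Helper2.Sp.negOne_eq_one_iff]
      have h2 : ((2 : ℕ) : F) = 0 := CharP.cast_eq_zero F 2
      push_cast at h2
      linear_combination (-1 : F) * h2
    · apply Subtype.ext
      rw [SubmonoidClass.coe_pow, Cfsg.Agent.Helper2.Sp.negOne_coe]
      simp

open Cfsg.Agent.Helper13.SympSS Cfsg.Agent.Helper12.PSLAdj in
theorem no_elt_PSp {n : ℕ} (hn : 2 ≤ n) {r : ℕ} (hr : r.Prime) (hr2 : r ≠ 2) (hrp : r ≠ p)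
    (hk : orderOf ((Fintype.card F : ℕ) : ZMod r) = 2 * n ∨
      (orderOf ((Fintype.card F : ℕ) : ZMod r) = n ∧ Odd n))
    (y : Matrix.symplecticGroup (Fin n) F ⧸
      Subgroup.center (Matrix.symplecticGroup (Fin n) F)) : orderOf y ≠ r * p := by
  intro hy
  have hp : p.Prime := Fact.out
  haveI : Fact r.Prime := ⟨hr⟩
  obtain ⟨ha, hb⟩ := orderOf_pow_pair hr.pos hp.pos y hy
  have hcomm : Commute (y ^ p) (y ^ r) := (Commute.refl y).pow_pow p r
  have hZ : ∀ c ∈ Subgroup.center (Matrix.symplecticGroup (Fin n) F), c ^ cexp p = 1 :=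
    fun c hc => center_pow_cexp p (by omega) c hc
  have hcr : Nat.Coprime r (cexp p) := cexp_coprime p hr (fun h => absurd h hr2)
  have hcp : Nat.Coprime p (cexp p) := cexp_coprime p hp (fun h => h)
  obtain ⟨x, hx1, hx2⟩ := exists_lift_pow_eq_one
    (Subgroup.center (Matrix.symplecticGroup (Fin n) F)) hZ hr.one_lt hcr (y ^ p)
    (by rw [← ha]; exact pow_orderOf_eq_one _)
  obtain ⟨u, hu1, hu2⟩ := exists_lift_pow_eq_one
    (Subgroup.center (Matrix.symplecticGroup (Fin n) F)) hZ hp.one_lt hcp (y ^ r)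
    (by rw [← hb]; exact pow_orderOf_eq_one _)
  have hxu : Commute x u := by
    apply commute_of_commute_mk
      (Subgroup.center (Matrix.symplecticGroup (Fin n) F)) le_rfl hZ hcr hx2
    rw [hx1, hu1]
    exact hcomm
  have hx_ne : x ≠ 1 := by
    rintro rfl
    have h1 : y ^ p = 1 := by rw [← hx1]; rfl
    rw [h1, orderOf_one] at ha
    exact hr.one_lt.ne ha
  have hu_ne : u ≠ 1 := by
    rintro rfl
    have h1 : y ^ r = 1 := by rw [← hu1]; rfl
    rw [h1, orderOf_one] at hb
    exact hp.one_lt.ne hb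
  have hLSinj : ∀ g : Matrix.symplecticGroup (Fin n) F, LS g = 1 → g = 1 := by
    intro g hg
    apply Subtype.ext
    unfold LS at hg
    rw [← map_one (Matrix.toLinAlgEquiv' (R := F) (n := Fin n ⊕ Fin n))] at hg
    exact Matrix.toLinAlgEquiv'.injective hg
  have hLScomm : Commute (LS x) (LS u) := by
    have h1 : Commute (x : Matrix (Fin n ⊕ Fin n) (Fin n ⊕ Fin n) F)
        (u : Matrix (Fin n ⊕ Fin n) (Fin n ⊕ Fin n) F) := by
      have := hxu.eq
      exact congrArg Subtype.val this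
    exact h1.map (Matrix.toLinAlgEquiv' (R := F) (n := Fin n ⊕ Fin n))
  have hdim : Module.finrank F (Fin n ⊕ Fin n → F) = 2 * n := by
    rw [Module.finrank_fintype_fun_eq_card, Fintype.card_sum, Fintype.card_fin, two_mul]
  have hrq : ¬ r ∣ Fintype.card F := not_dvd_card_of_ne p hr hrp
  rcases hk with hk | ⟨hk, hodd⟩
  · exact not_commute_unipotent hrq (LS x) (LS u) hLScomm (LS_pow_eq_one x r hx2)
      (fun h => hx_ne (hLSinj x h)) (LS_pow_eq_one u p hu2) (fun h => hu_ne (hLSinj u h))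
      (by rw [hdim]; omega) (by rw [hdim, hk]; omega)
  · exact no_commuting_unipotent_odd hr hr2 hrp (LS x) (LS u) _ (LS_altInv x)
      (LS_pow_eq_one x r hx2) (fun h => hx_ne (hLSinj x h)) hLScomm (LS_pow_eq_one u p hu2)
      (fun h => hu_ne (hLSinj u h)) (by rw [hk]; exact hodd) (by rw [hdim, hk])

end psp

end PSpAdj
end Cfsg.Agent.Helper12
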