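import Mathlib
import Cfsg.Agent.Lib.Helper12.CommUnip
import Cfsg.Agent.Lib.Helper12.PSpAdjNo
import Cfsg.Agent.Lib.Helper13.UnitaryPrime
import Cfsg.Agent.Lib.Helper13.UnitaryConj

/-!
# Unitary groups: an element of prime order `r` with large `ord_r(-q)` commutes with no
nontrivial unipotent element (helper12)
-/

set_option autoImplicit false

open Polynomial Module

namespace Cfsg.Agent.Helper12
namespace PSUAdj

open Cfsg.Agent.Helper13.SS Cfsg.Agent.Helper13.HermSS Cfsg.Agent.Helper13.SympSS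
  Cfsg.Agent.Helper13.Dual Cfsg.Agent.Helper13.Uni Cfsg.Agent.Helper12.PSpAdj
  Cfsg.Agent.Helper12.PSLAdj

section ker

variable {F : Type*} [Field F] {V : Type*} [AddCommGroup V] [Module F V]

theorem ker_prod_le (A : Module.End F V) (S : Finset F[X])
    (hS : (S : Set F[X]).Pairwise IsCoprime) (W : Submodule F V)
    (hW : ∀ g ∈ S, LinearMap.ker (aeval A g) ≤ W) :
    LinearMap.ker (aeval A (∏ g ∈ S, g)) ≤ W := by
  classical
  induction S using Finset.induction_on with
  | empty =>
    rw [Finset.prod_empty, map_one]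
    intro v hv
    rw [LinearMap.mem_ker, Module.End.one_apply] at hv
    rw [hv]
    exact W.zero_mem
  | insert a s ha ih =>
    rw [Finset.prod_insert ha]
    have hcop : IsCoprime a (∏ g ∈ s, g) := by
      apply IsCoprime.prod_right
      intro g hg
      apply hS (Finset.mem_coe.2 (Finset.mem_insert_self a s))
        (Finset.mem_coe.2 (Finset.mem_insert_of_mem hg))
      rintro rfl
      exact ha hg
    rw [← Polynomial.sup_ker_aeval_eq_ker_aeval_mul_of_coprime A hcop]
    apply sup_le (hW a (Finset.mem_insert_self a s))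
    apply ih
    · apply hS.mono
      intro g hg
      exact Finset.mem_coe.2 (Finset.mem_insert_of_mem (Finset.mem_coe.1 hg))
    · intro g hg
      exact hW g (Finset.mem_insert_of_mem hg)

theorem sum_ge_two {ι : Type*} [DecidableEq ι] (S : Finset ι) (φ : ι → ℕ) {a b : ι} (ha : a ∈ S)
    (hb : b ∈ S) (hab : a ≠ b) : φ a + φ b ≤ ∑ i ∈ S, φ i := by
  rw [← Finset.add_sum_erase S φ ha]
  have hb' : b ∈ S.erase a := Finset.mem_erase.2 ⟨hab.symm, hb⟩
  have := Finset.single_le_sum (f := φ) (fun i _ => Nat.zero_le _) hb'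
  omega

theorem sum_ge_three {ι : Type*} [DecidableEq ι] (S : Finset ι) (φ : ι → ℕ) {a b c : ι}
    (ha : a ∈ S) (hb : b ∈ S) (hc : c ∈ S) (hab : a ≠ b) (hac : a ≠ c) (hbc : b ≠ c) :
    φ a + φ b + φ c ≤ ∑ i ∈ S, φ i := by
  rw [← Finset.add_sum_erase S φ ha]
  have hb' : b ∈ S.erase a := Finset.mem_erase.2 ⟨hab.symm, hb⟩
  have hc' : c ∈ S.erase a := Finset.mem_erase.2 ⟨hac.symm, hc⟩
  have := sum_ge_two (S.erase a) φ hb' hc' hbc
  omega

end ker

section core

variable {K : Type*} [Field K] [Fintype K] {p : ℕ} [Fact p.Prime] [CharP K p]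
  {V : Type*} [AddCommGroup V] [Module K V] [FiniteDimensional K V]

/-- if every cyclotomic component of `A` is irreducible or zero and the fixed space has dimension
at most one, then no nontrivial unipotent map commutes with `A` -/
theorem unipotent_trivial_of_kdim {r : ℕ} (hr : r.Prime) (hrp : r ≠ p)
    (A U : Module.End K V) (hAr : A ^ r = 1) (hAU : Commute A U) (hU : U ^ p = 1)
    (hb : ∀ g ∈ cycFactors K r,
      kdim A g = 0 ∨ kdim A g = orderOf ((Fintype.card K : ℕ) : ZMod r))
    (h1 : kdim A (X - 1 : K[X]) ≤ 1) : U = 1 := by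
  classical
  rcases subsingleton_or_nontrivial V with hV | hV
  · apply LinearMap.ext
    intro v
    exact Subsingleton.elim _ _
  haveI : Fact r.Prime := ⟨hr⟩
  have hrq : ¬ r ∣ Fintype.card K := not_dvd_card_of_ne p hr hrp
  haveI : CharP (Module.End K V) p :=
    charP_of_injective_algebraMap (algebraMap K (Module.End K V)).injective p
  obtain ⟨N, hN⟩ : ∃ N, N = U - 1 := ⟨_, rfl⟩
  have hNp : N ^ p = 0 := by
    rw [hN, sub_pow_char_of_commute p (Commute.one_right U), hU, one_pow, sub_self]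
  have hAN : Commute A N := by rw [hN]; exact hAU.sub_right (Commute.one_right A)
  have hcomm : ∀ v, N (A v) = A (N v) := by
    intro v
    rw [← Module.End.mul_apply, ← hAN.eq, Module.End.mul_apply]
  obtain ⟨Kr, hKdef⟩ : ∃ Kr : K[X] → Submodule K V, Kr = fun g => LinearMap.ker (aeval A g) :=
    ⟨_, rfl⟩
  have hNK : ∀ g, ∀ w ∈ Kr g, N w ∈ Kr g := by
    intro g w hw
    rw [hKdef] at hw ⊢
    rw [LinearMap.mem_ker] at hw ⊢
    rw [← aeval_intertwine N A A hcomm g w, hw, map_zero]
  have hAK : ∀ g, ∀ w ∈ Kr g, A w ∈ Kr g := by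
    intro g w hw
    rw [hKdef] at hw ⊢
    exact ker_aeval_invariant A g w hw
  have hKdim : ∀ g, finrank K (Kr g) = kdim A g := fun g => by rw [hKdef]; rfl
  -- the key step: a component of dimension `≤` the dimension of every nonzero invariant
  -- subspace is killed by `N`
  have hcomp : ∀ g, (∀ W : Submodule K V, W ≤ Kr g → (∀ w ∈ W, A w ∈ W) → W ≠ ⊥ →
      finrank K (Kr g) ≤ finrank K W) → Kr g ≤ LinearMap.ker N := by
    intro g hg
    by_cases hK0 : Kr g = ⊥
    · rw [hK0]; exact bot_le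
    obtain ⟨W, hW⟩ : ∃ W, W = Kr g ⊓ LinearMap.ker N := ⟨_, rfl⟩
    have hWinv : ∀ w ∈ W, A w ∈ W := by
      intro w hw
      rw [hW] at hw ⊢
      refine ⟨hAK g w hw.1, ?_⟩
      show A w ∈ LinearMap.ker N
      have hw2 : w ∈ LinearMap.ker N := hw.2
      rw [LinearMap.mem_ker] at hw2 ⊢
      rw [hcomm, hw2, map_zero]
    obtain ⟨w, hwK, hw0, hNw⟩ := exists_mem_ker_of_nilpotent N hNp (Kr g) (hNK g) hK0
    have hwW : w ∈ W := by rw [hW]; exact ⟨hwK, LinearMap.mem_ker.2 hNw⟩
    have hWle : W ≤ Kr g := by rw [hW]; exact inf_le_left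
    have hW0 : W ≠ ⊥ := by
      intro h
      rw [h, Submodule.mem_bot] at hwW
      exact hw0 hwW
    have h2 := hg W hWle hWinv hW0
    have h4 : W = Kr g := Submodule.eq_of_le_of_finrank_le hWle h2
    rw [← h4, hW]
    exact inf_le_right
  obtain ⟨S, hS⟩ : ∃ S, S = insert (X - 1 : K[X]) (cycFactors K r) := ⟨_, rfl⟩
  have hkill : aeval A (∏ f ∈ S, f) = 0 := by
    rw [hS, X_sub_one_mul_prod hr hrp, map_sub, map_pow, aeval_X, map_one, hAr, sub_self]
  have hcop : (S : Set K[X]).Pairwise IsCoprime := by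
    rw [hS]; exact insert_pairwise_coprime (F := K) hr hrp
  have hker1 : LinearMap.ker (aeval A (X - 1 : K[X])) = LinearMap.ker (A - 1) := by
    rw [map_sub, aeval_X, map_one]
  have hall : ∀ g ∈ S, LinearMap.ker (aeval A g) ≤ LinearMap.ker N := by
    intro g hg
    rw [hS, Finset.mem_insert] at hg
    have hgoal : Kr g ≤ LinearMap.ker N := by
      rcases hg with rfl | hg
      · apply hcomp
        intro W hWle hWinv hW0
        obtain ⟨w, hwW, hw0⟩ := (Submodule.ne_bot_iff W).1 hW0
        have := one_le_finrank_of_mem hwW hw0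
        rw [hKdim]
        omega
      · rcases hb g hg with h0 | hbb
        · have : Kr g = ⊥ := by
            apply Submodule.finrank_eq_zero.1
            rw [hKdim, h0]
          rw [this]; exact bot_le
        · apply hcomp
          intro W hWle hWinv hW0
          obtain ⟨w, hwW, hw0⟩ := (Submodule.ne_bot_iff W).1 hW0
          have hpos := one_le_finrank_of_mem hwW hw0
          have h1 := orderOf_dvd_finrank_sub hrq A hAr W hWinv
          have hdisj : W ⊓ LinearMap.ker (A - 1) = ⊥ := by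
            rw [eq_bot_iff]
            have hd := Polynomial.disjoint_ker_aeval_of_isCoprime A
              (coprime_of_monic_irreducible (cycFactors_irreducible hg) (irreducible_X_sub_C (1 : K))
                (cycFactors_monic hg) (monic_X_sub_C (1 : K))
                (fun h => X_sub_one_notMem (F := K) hr hrp (by rw [← map_one C, ← h]; exact hg)))
            rw [map_one, hker1] at hd
            have hle : W ⊓ LinearMap.ker (A - 1) ≤
                LinearMap.ker (aeval A g) ⊓ LinearMap.ker (A - 1) := by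
              apply inf_le_inf_right
              rw [hKdef] at hWle
              exact hWle
            exact le_trans hle (disjoint_iff.1 hd).le
          rw [hdisj, finrank_bot, Nat.sub_zero] at h1
          rw [hKdim, hbb]
          exact Nat.le_of_dvd (by omega) h1
    rw [hKdef] at hgoal
    exact hgoal
  have htop := ker_prod_le A S hcop (LinearMap.ker N) hall
  rw [hkill, LinearMap.ker_zero, top_le_iff] at htop
  have h5 : N = 0 := LinearMap.ker_eq_top.1 htop
  rw [hN] at h5
  exact sub_eq_zero.1 h5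

end core

section bounds

variable {F₀ : Type*} {K : Type*} [Field F₀] [Field K] [Fintype K] [Algebra F₀ K]
  [FiniteDimensional F₀ K] {p : ℕ} [Fact p.Prime] [CharP K p]
  {V : Type*} [AddCommGroup V] [Module F₀ V] [Module K V] [IsScalarTower F₀ K V]
  [FiniteDimensional K V] {q : ℕ}

/-- dimension bounds for the cyclotomic components of a unitary element of prime order `r` when the
order of `q ^ 2` modulo `r` is large -/
theorem kdim_bounds (hK : Fintype.card K = q ^ 2) {σ : K →ₐ[F₀] K} (hσ : ∀ x, σ x = x ^ q)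
    (hσ2 : ∀ x, σ (σ x) = x) {A : Module.End K V} {B : LinearMap.BilinForm F₀ V}
    (hAB : HInv σ 1 A B) {r : ℕ} (hr : r.Prime) (hr2 : r ≠ 2) (hrp : r ≠ p) (hAr : A ^ r = 1)
    (hA1 : A ≠ 1) (hn : 4 ≤ finrank K V)
    (hb1 : finrank K V ≤ 2 * orderOf ((Fintype.card K : ℕ) : ZMod r) + 1)
    (hb2 : orderOf (q : ZMod r) % 4 = 2 →
      finrank K V ≤ orderOf ((Fintype.card K : ℕ) : ZMod r) + 1) :
    (∀ g ∈ cycFactors K r,
      kdim A g = 0 ∨ kdim A g = orderOf ((Fintype.card K : ℕ) : ZMod r)) ∧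
      kdim A (X - 1 : K[X]) ≤ 1 := by
  classical
  haveI : Fact r.Prime := ⟨hr⟩
  have hr1 : 1 ≤ r := hr.one_lt.le
  have hσ' : ∀ x, (σ : K →+* K) x = x ^ q := hσ
  have hσ2' : ∀ x, (σ : K →+* K) ((σ : K →+* K) x) = x := hσ2
  obtain ⟨b, hbdef⟩ : ∃ b, b = orderOf ((Fintype.card K : ℕ) : ZMod r) := ⟨_, rfl⟩
  rw [← hbdef] at hb1 hb2 ⊢
  obtain ⟨n, hndef⟩ : ∃ n, n = finrank K V := ⟨_, rfl⟩
  rw [← hndef] at hn hb1 hb2
  obtain ⟨S, hS⟩ : ∃ S, S = insert (X - 1 : K[X]) (cycFactors K r) := ⟨_, rfl⟩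
  have hkill : aeval A (∏ f ∈ S, f) = 0 := by
    rw [hS, X_sub_one_mul_prod hr hrp, map_sub, map_pow, aeval_X, map_one, hAr, sub_self]
  have hcop : (S : Set K[X]).Pairwise IsCoprime := by
    rw [hS]; exact insert_pairwise_coprime (F := K) hr hrp
  have hfin := finrank_eq_sum_kdim A S hcop hkill
  rw [← hndef] at hfin
  have hdeg : ∀ f ∈ cycFactors K r, f.natDegree = b := by
    intro f hf
    rw [hbdef]
    exact cycFactors_natDegree (p := p) rfl hr hrp hf
  have hdvd : ∀ f ∈ cycFactors K r, b ∣ kdim A f := by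
    intro f hf
    rw [← hdeg f hf]
    exact dvd_kdim A f (cycFactors_irreducible hf)
  have hX1 : (X - 1 : K[X]) ∉ cycFactors K r := X_sub_one_notMem hr hrp
  have hXS : (X - 1 : K[X]) ∈ S := by rw [hS]; exact Finset.mem_insert_self _ _
  have hcS : ∀ f ∈ cycFactors K r, f ∈ S := fun f hf => by
    rw [hS]; exact Finset.mem_insert_of_mem hf
  have hneX : ∀ f ∈ cycFactors K r, (X - 1 : K[X]) ≠ f := fun f hf h => hX1 (h ▸ hf)
  have hker1 : LinearMap.ker (aeval A (X - 1 : K[X])) = LinearMap.ker (A - 1) := by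
    rw [map_sub, aeval_X, map_one]
  obtain ⟨f, hf, hkf⟩ : ∃ f ∈ cycFactors K r, kdim A f ≠ 0 := by
    by_contra hcon
    push Not at hcon
    apply hA1
    rw [hS, Finset.sum_insert hX1, Finset.sum_eq_zero hcon, add_zero, hndef] at hfin
    have h1 : LinearMap.ker (aeval A (X - 1 : K[X])) = ⊤ :=
      Submodule.eq_top_of_finrank_eq hfin.symm
    rw [hker1] at h1
    have h2 : A - 1 = 0 := LinearMap.ker_eq_top.1 h1
    exact sub_eq_zero.1 h2
  have hbpos : 0 < b := by
    rw [← hdeg f hf]
    exact (cycFactors_irreducible hf).natDegree_pos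
  have hge : b ≤ kdim A f := Nat.le_of_dvd (Nat.pos_of_ne_zero hkf) (hdvd f hf)
  by_cases h4 : orderOf (q : ZMod r) % 4 = 2
  · have hbn := hb2 h4
    constructor
    · intro g hg
      obtain ⟨c, hc⟩ := hdvd g hg
      have hle : kdim A g ≤ n := by
        rw [hfin]
        exact Finset.single_le_sum (f := fun g => kdim A g) (fun i _ => Nat.zero_le _) (hcS g hg)
      rcases Nat.eq_zero_or_pos c with rfl | hcpos
      · left; rw [hc, mul_zero]
      · right
        have hc1 : c = 1 := by
          by_contra hc1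
          have h2c : 2 ≤ c := by omega
          have : 2 * b ≤ kdim A g := by rw [hc]; nlinarith
          omega
        rw [hc, hc1, mul_one]
    · have h2 := sum_ge_two S (fun g => kdim A g) hXS (hcS f hf) (hneX f hf)
      rw [← hfin] at h2
      omega
  · have hdual : ∀ g ∈ cycFactors K r, ∃ g' ∈ cycFactors K r, g' ≠ g ∧ kdim A g' = kdim A g := by
      intro g hg
      exact ⟨cdual r (σ : K →+* K) g, cdual_mem_cycFactors hσ2' hr hr2 hrp hg,
        cdual_ne_self_of_not_mod4 hK hσ' hσ2' hr hr2 hrp h4 hg,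
        kdim_cdual hσ2 hr1 (cast_ne_zero_of_prime_ne hr hrp) hAr hAB (cycFactors_irreducible hg)
          (cycFactors_monic hg) (cycFactors_dvd_X_pow hg)⟩
    constructor
    · intro g hg
      obtain ⟨g', hg', hne, hk⟩ := hdual g hg
      obtain ⟨c, hc⟩ := hdvd g hg
      have h2 := sum_ge_two S (fun g => kdim A g) (hcS g hg) (hcS g' hg') hne.symm
      rw [← hfin] at h2
      rw [hk] at h2
      rcases Nat.eq_zero_or_pos c with rfl | hcpos
      · left; rw [hc, mul_zero]
      · right
        have hc1 : c = 1 := by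
          by_contra hc1
          have h2c : 2 ≤ c := by omega
          have : 2 * b ≤ kdim A g := by rw [hc]; nlinarith
          omega
        rw [hc, hc1, mul_one]
    · obtain ⟨f', hf', hne, hk⟩ := hdual f hf
      have h3 := sum_ge_three S (fun g => kdim A g) hXS (hcS f hf) (hcS f' hf') (hneX f hf)
        (hneX f' hf') hne.symm
      rw [← hfin] at h3
      rw [hk] at h3
      omega

end bounds

section matrix

variable {K : Type*} [Field K] [Fintype K] {q : ℕ}

/-- a unitary matrix of prime order `r`, with `ord_r (q ^ 2)` large, commutes with no nontrivial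
unipotent matrix -/
theorem not_commute_unipotent_U (hK : Fintype.card K = q ^ 2) (p : ℕ) [Fact p.Prime] [CharP K p]
    {n : ℕ} (hn : 4 ≤ n) {r : ℕ} (hr : r.Prime) (hrp : r ≠ p) (hr2 : r ≠ 2)
    (hb1 : n ≤ 2 * orderOf ((Fintype.card K : ℕ) : ZMod r) + 1)
    (hb2 : orderOf (q : ZMod r) % 4 = 2 → n ≤ orderOf ((Fintype.card K : ℕ) : ZMod r) + 1)
    (x u : Matrix (Fin n) (Fin n) K) (hx : Pres q x) (hxr : x ^ r = 1) (hx1 : x ≠ 1)
    (hxu : Commute x u) (hu : u ^ p = 1) : u = 1 := by
  letI := ZMod.algebra K p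
  obtain ⟨σ, hσ, hσ2, hσ1⟩ := exists_frobAlg hK p
  haveI : FiniteDimensional (ZMod p) K := Module.Finite.of_finite
  obtain ⟨tr, htr, htrσ⟩ := exists_tr σ hσ2 hσ1
  have hH : IsSesq σ (Cfsg.hermForm n K q) := hermForm_isSesq σ hσ hσ2 n
  obtain ⟨A, hAdef⟩ : ∃ A : Module.End K (Fin n → K), A = Matrix.toLinAlgEquiv' x := ⟨_, rfl⟩
  obtain ⟨U, hUdef⟩ : ∃ U : Module.End K (Fin n → K), U = Matrix.toLinAlgEquiv' u := ⟨_, rfl⟩
  have hA : ∀ v, A v = x.mulVec v := fun v => by
    rw [hAdef]; exact Matrix.toLinAlgEquiv'_apply _ _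
  have hinv : ∀ a b, Cfsg.hermForm n K q (A a) (A b) = Cfsg.hermForm n K q a b := by
    intro a b
    rw [hA, hA]
    exact hx a b
  have hAB := trForm_hinv tr htr htrσ hσ2 hH A hinv
  have hAr : A ^ r = 1 := by rw [hAdef, ← map_pow, hxr, map_one]
  have hU : U ^ p = 1 := by rw [hUdef, ← map_pow, hu, map_one]
  have hA1 : A ≠ 1 := by
    intro h
    apply hx1
    rw [hAdef, ← map_one (Matrix.toLinAlgEquiv' (R := K) (n := Fin n))] at h
    exact Matrix.toLinAlgEquiv'.injective h
  have hAU : Commute A U := by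
    rw [hAdef, hUdef]
    exact hxu.map (Matrix.toLinAlgEquiv' (R := K) (n := Fin n))
  have hdim : finrank K (Fin n → K) = n := by
    rw [Module.finrank_fintype_fun_eq_card, Fintype.card_fin]
  obtain ⟨hb, h1⟩ := kdim_bounds (p := p) hK hσ hσ2 hAB hr hr2 hrp hAr hA1 (by rw [hdim]; exact hn)
    (by rw [hdim]; exact hb1) (by rw [hdim]; exact hb2)
  have hU1 := unipotent_trivial_of_kdim (p := p) hr hrp A U hAr hAU hU hb h1
  rw [hUdef, ← map_one (Matrix.toLinAlgEquiv' (R := K) (n := Fin n))] at hU1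
  exact Matrix.toLinAlgEquiv'.injective hU1

end matrix

end PSUAdj
end Cfsg.Agent.Helper12
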