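import Mathlib
import Cfsg.Agent.Lib.Helper12.PSLnSingerArith

/-!
# Arithmetic of the torus `GL_1(q^{2m}) ∩ SU_{2m}(q)` (helper12)
-/

set_option autoImplicit false

namespace Cfsg.Agent.Helper12
namespace PSUnTorus

open PSLnSinger

/-- the order of the determinant-one part of the torus `GL_1(q^{2m})` of `GU_{2m}(q)` -/
def tor (q m : ℕ) : ℕ := (q - 1) * geom (q ^ 2) m

theorem sq_sub_one {q : ℕ} (hq : 1 ≤ q) : q ^ 2 - 1 = (q + 1) * (q - 1) := by
  obtain ⟨t, rfl⟩ : ∃ t, q = t + 1 := ⟨q - 1, by omega⟩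
  simp only [Nat.add_sub_cancel]
  have : (t + 1) ^ 2 = (t + 1 + 1) * t + 1 := by ring
  rw [this, Nat.add_sub_cancel]

theorem add_one_mul_tor {q : ℕ} (hq : 1 ≤ q) (m : ℕ) : (q + 1) * tor q m = q ^ (2 * m) - 1 := by
  unfold tor
  have h1 := sub_one_mul_geom (q := q ^ 2) (Nat.one_le_pow _ _ hq) m
  rw [← mul_assoc, ← sq_sub_one hq, h1, pow_mul]

theorem tor_two_mul {q : ℕ} (hq : 2 ≤ q) (k : ℕ) :
    tor q (2 * k) = (q ^ (2 * k) + 1) * tor q k := by
  unfold tor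
  rw [geom_two_mul (q := q ^ 2) (by nlinarith) k, ← pow_mul]
  ring

theorem odd_geom_iff {x : ℕ} (hx : Odd x) (m : ℕ) : Odd (geom x m) ↔ Odd m := by
  induction m with
  | zero => simp [geom]
  | succ m ih =>
    rw [geom_succ, Nat.odd_add, ih, Nat.odd_add_one, ← Nat.not_odd_iff_even]
    have : Odd (x ^ m) := hx.pow
    tauto

theorem tor_pos {q m : ℕ} (hq : 2 ≤ q) (hm : 0 < m) : 0 < tor q m := by
  unfold tor
  exact Nat.mul_pos (by omega) (geom_pos hm)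

theorem padicValNat_two_mul {m : ℕ} (hm : 0 < m) :
    padicValNat 2 (2 * m) = 1 + padicValNat 2 m := by
  haveI : Fact (Nat.Prime 2) := ⟨Nat.prime_two⟩
  rw [padicValNat.mul (by norm_num) (by omega), padicValNat_self]

/-- the arithmetic behind the sufficiency of the 2-adic condition -/
theorem order_of_padic_lt_U {q m : ℕ} (hq : 3 ≤ q) (hodd : Odd q) (hm : 0 < m)
    (hv : padicValNat 2 (q + 1) < padicValNat 2 (2 * m)) :
    Even m ∧ (q ^ m + 1) * 2 ^ padicValNat 2 (q + 1) ∣ tor q m ∧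
      ∀ j : ℕ, (q ^ m + 1) * 2 ^ padicValNat 2 (q + 1) ∣ j * (q + 1) ↔ (q ^ m + 1) ∣ j := by
  have hq1 : 1 ≤ q := by omega
  have hm0 : m ≠ 0 := by omega
  obtain ⟨s, hsdef⟩ : ∃ s, s = padicValNat 2 (q + 1) := ⟨_, rfl⟩
  rw [← hsdef] at hv ⊢
  rw [padicValNat_two_mul hm] at hv
  have hs1 : 2 ^ s ∣ q + 1 := hsdef ▸ pow_padicValNat_dvd
  have hs_pos : 1 ≤ s := by
    rw [hsdef]
    apply one_le_padicValNat_of_dvd (by omega)
    obtain ⟨t, ht⟩ := hodd
    exact ⟨t + 1, by omega⟩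
  have hsm : 2 ^ s ∣ m := (padicValNat_dvd_iff_le hm0).2 (by omega)
  obtain ⟨s', hs'⟩ : ∃ s', s = s' + 1 := ⟨s - 1, by omega⟩
  have h2m : 2 ∣ m := dvd_trans (dvd_pow_self 2 (by omega)) hsm
  obtain ⟨k, hk⟩ := h2m
  have hs'k : 2 ^ s' ∣ k := by
    rw [hs', pow_succ, hk, mul_comm] at hsm
    exact Nat.dvd_of_mul_dvd_mul_left (by norm_num) hsm
  have hq2 : 1 ≤ q ^ 2 := Nat.one_le_pow _ _ hq1
  have hs'q : 2 ^ s' ∣ q ^ 2 - 1 := by
    rw [sq_sub_one hq1]
    apply Dvd.dvd.mul_right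
    exact dvd_trans (pow_dvd_pow 2 (by omega)) hs1
  have hg : 2 ^ s' ∣ geom (q ^ 2) k := dvd_geom_of_dvd hq2 hs'k hs'q
  have h2q : 2 ∣ q - 1 := by
    obtain ⟨t, ht⟩ := hodd
    exact ⟨t, by omega⟩
  refine ⟨⟨k, by omega⟩, ?_, ?_⟩
  · rw [hk, tor_two_mul (by omega) k]
    apply Nat.mul_dvd_mul_left
    unfold tor
    rw [hs', pow_succ, mul_comm (2 ^ s') 2]
    exact Nat.mul_dvd_mul h2q hg
  · obtain ⟨u, hu⟩ := hs1
    have hu2 : ¬ 2 ∣ u := by
      intro h2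
      have h3 : 2 ^ (s + 1) ∣ q + 1 := by
        rw [hu, pow_succ]
        exact Nat.mul_dvd_mul_left _ h2
      have := (padicValNat_dvd_iff_le (by omega : q + 1 ≠ 0)).1 h3
      omega
    have hcop : Nat.Coprime (q ^ m + 1) u := by
      have h1 : u ∣ q ^ 2 - 1 := by
        rw [sq_sub_one hq1, hu]
        exact Dvd.dvd.mul_right (Dvd.intro_left _ rfl) _
      have := coprime_pow_add_one hq2 k h1 hu2
      rwa [← pow_mul, ← hk] at this
    intro j
    have h2v : 0 < 2 ^ s := by positivity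
    constructor
    · intro h
      have h1 : (q ^ m + 1) * 2 ^ s ∣ (j * u) * 2 ^ s := by
        have : j * u * 2 ^ s = j * (q + 1) := by rw [hu]; ring
        rw [this]
        exact h
      have h2 := Nat.dvd_of_mul_dvd_mul_right h2v h1
      exact hcop.dvd_of_dvd_mul_right h2
    · rintro ⟨i, rfl⟩
      rw [hu]
      exact ⟨i * u, by ring⟩

/-- the arithmetic behind the necessity of the 2-adic condition -/
theorem padic_lt_of_order_U {q m o : ℕ} (hq : 3 ≤ q) (hodd : Odd q) (hm : 2 ≤ m) (ho0 : 0 < o)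
    (ho : o ∣ tor q m)
    (h : ∀ j : ℕ, (if Even m then q ^ m + 1 else q ^ m - 1) ∣ j ↔ o ∣ j * (q + 1)) :
    padicValNat 2 (q + 1) < padicValNat 2 (2 * m) := by
  have hq1 : 1 ≤ q := by omega
  have hm0 : m ≠ 0 := by omega
  have hq2 : 1 ≤ q ^ 2 := Nat.one_le_pow _ _ hq1
  have hqm : 2 ≤ q ^ m := by
    calc 2 ≤ q := by omega
      _ = q ^ 1 := (pow_one q).symm
      _ ≤ q ^ m := Nat.pow_le_pow_right hq1 (by omega)
  obtain ⟨N, hN⟩ : ∃ N, N = if Even m then q ^ m + 1 else q ^ m - 1 := ⟨_, rfl⟩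
  rw [← hN] at h
  have hNpos : 0 < N := by
    rw [hN]; split_ifs <;> omega
  have hqm_odd : Odd (q ^ m) := hodd.pow
  have hNeven : 2 ∣ N := by
    obtain ⟨t, ht⟩ := hqm_odd
    rw [hN]
    split_ifs
    · exact ⟨t + 1, by omega⟩
    · exact ⟨t, by omega⟩
  obtain ⟨e, he⟩ : ∃ e, e = Nat.gcd o (q + 1) := ⟨_, rfl⟩
  have hepos : 0 < e := by
    rw [he]
    exact Nat.gcd_pos_of_pos_left _ ho0
  have he1 : e ∣ o := he ▸ Nat.gcd_dvd_left _ _
  have he2 : e ∣ q + 1 := he ▸ Nat.gcd_dvd_right _ _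
  have h1 : o / e ∣ N := by
    have h2 : o ∣ (q + 1) * N := by
      rw [mul_comm]
      exact (h N).1 dvd_rfl
    rw [he]
    exact PSL3Spec.div_gcd_dvd_of_dvd_mul ho0 h2
  have h2 : N ∣ o / e := by
    apply (h _).2
    obtain ⟨u', hu'⟩ := he2
    obtain ⟨j0, hj0⟩ := he1
    rw [hj0, Nat.mul_div_cancel_left _ hepos, hu']
    exact ⟨u', by ring⟩
  have h3 : o / e = N := Nat.dvd_antisymm h1 h2
  have ho' : o = N * e := by
    rw [← h3]
    exact (Nat.div_mul_cancel he1).symm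
  have hcop : Nat.Coprime (o / e) ((q + 1) / e) := by
    rw [he]
    exact Nat.coprime_div_gcd_div_gcd (he ▸ hepos)
  rw [h3] at hcop
  have hodd' : ¬ 2 ∣ (q + 1) / e := by
    intro h2'
    have := Nat.dvd_gcd hNeven h2'
    rw [hcop] at this
    omega
  have hv : 2 ^ padicValNat 2 (q + 1) ∣ q + 1 := pow_padicValNat_dvd
  have hv2 : 2 ^ padicValNat 2 (q + 1) ∣ e := by
    have h4 : q + 1 = e * ((q + 1) / e) := (Nat.mul_div_cancel' he2).symm
    have hv' : 2 ^ padicValNat 2 (q + 1) ∣ e * ((q + 1) / e) := h4 ▸ hv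
    have hc : Nat.Coprime (2 ^ padicValNat 2 (q + 1)) ((q + 1) / e) := by
      apply Nat.Coprime.pow_left
      exact (Nat.Prime.coprime_iff_not_dvd Nat.prime_two).2 hodd'
    exact hc.dvd_of_dvd_mul_right hv'
  have hs_pos : 1 ≤ padicValNat 2 (q + 1) := by
    apply one_le_padicValNat_of_dvd (by omega)
    obtain ⟨t, ht⟩ := hodd
    exact ⟨t + 1, by omega⟩
  have h2e : 2 ∣ e := dvd_trans (dvd_pow_self 2 (by omega)) hv2
  rw [padicValNat_two_mul (by omega)]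
  rcases Nat.even_or_odd m with hme | hmo
  · rw [if_pos hme] at hN
    obtain ⟨k, hk⟩ := hme
    have hk' : m = 2 * k := by omega
    rw [hk', tor_two_mul (by omega) k, ← hk', ← hN, ho'] at ho
    have he3 : e ∣ tor q k := Nat.dvd_of_mul_dvd_mul_left hNpos ho
    unfold tor at he3
    have he4 : e ∣ (q + 1) * geom (q ^ 2) k := Dvd.dvd.mul_right he2 _
    have he5 : e ∣ (q + 1) * geom (q ^ 2) k - (q - 1) * geom (q ^ 2) k := Nat.dvd_sub he4 he3
    have he6 : (q + 1) * geom (q ^ 2) k - (q - 1) * geom (q ^ 2) k = 2 * geom (q ^ 2) k := by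
      rw [← Nat.sub_mul]
      congr 1
      omega
    rw [he6] at he5
    have hmod : 2 * geom (q ^ 2) k ≡ 2 * k [MOD q ^ 2 - 1] := (geom_modEq hq2 k).mul_left 2
    have he7 : e ∣ q ^ 2 - 1 := by
      rw [sq_sub_one hq1]
      exact Dvd.dvd.mul_right he2 _
    have he8 : e ∣ 2 * k := (hmod.dvd_iff he7).1 he5
    rw [← hk'] at he8
    have hvm : 2 ^ padicValNat 2 (q + 1) ∣ m := hv2.trans he8
    have := (padicValNat_dvd_iff_le hm0).1 hvm
    omega
  · exfalso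
    have hne : ¬ Even m := Nat.not_even_iff_odd.2 hmo
    rw [if_neg hne] at hN
    have hN' : N = (q - 1) * geom q m := by
      rw [hN, sub_one_mul_geom hq1]
    unfold tor at ho
    rw [ho', hN', mul_assoc] at ho
    have h5 : geom q m * e ∣ geom (q ^ 2) m := Nat.dvd_of_mul_dvd_mul_left (by omega) ho
    have h6 : e ∣ geom (q ^ 2) m := dvd_trans (Dvd.intro_left _ rfl) h5
    have h7 : Odd (geom (q ^ 2) m) := (odd_geom_iff hodd.pow m).2 hmo
    have h8 : 2 ∣ geom (q ^ 2) m := h2e.trans h6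
    obtain ⟨t, ht⟩ := h7
    omega

/-- `q ^ m + 1 ∣ q ^ (2 e) - 1` with `1 ≤ e ≤ m` forces `e = m` -/
theorem eq_of_dvd_pow_sub_one {q m e : ℕ} (hq : 2 ≤ q) (he1 : 1 ≤ e) (hem : e ≤ m)
    (h : q ^ m + 1 ∣ q ^ (2 * e) - 1) : e = m := by
  by_contra hne
  have hlt : e < m := lt_of_le_of_ne hem hne
  have h1 : q ^ m + 1 ∣ q ^ (2 * m) - 1 := by
    have h2 : q ^ (2 * m) - 1 = (q ^ m - 1) * (q ^ m + 1) := by
      have h4 : 1 ≤ q ^ m := Nat.one_le_pow _ _ (by omega)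
      obtain ⟨s, hs⟩ : ∃ s, q ^ m = s + 1 := ⟨q ^ m - 1, by omega⟩
      rw [mul_comm 2 m, pow_mul, hs, Nat.add_sub_cancel]
      have : (s + 1) ^ 2 = s * (s + 1 + 1) + 1 := by ring
      rw [this, Nat.add_sub_cancel]
    rw [h2]
    exact Dvd.intro_left _ rfl
  have h2 := Nat.dvd_gcd h h1
  rw [Nat.pow_sub_one_gcd_pow_sub_one] at h2
  obtain ⟨g, hg⟩ : ∃ g, g = Nat.gcd (2 * e) (2 * m) := ⟨_, rfl⟩
  rw [← hg] at h2
  have hg1 : g ∣ 2 * m := hg ▸ Nat.gcd_dvd_right _ _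
  have hg2 : g ≤ 2 * e := by
    rw [hg]
    exact Nat.le_of_dvd (by omega) (Nat.gcd_dvd_left _ _)
  have hgpos : 0 < g := by
    rw [hg]
    exact Nat.gcd_pos_of_pos_left _ (by omega)
  have hgm : g ≤ m := by
    obtain ⟨c, hc⟩ := hg1
    have hc2 : 2 ≤ c := by
      by_contra hc1
      have : c = 0 ∨ c = 1 := by omega
      rcases this with rfl | rfl
      · omega
      · omega
    nlinarith
  have h3 : q ^ g ≤ q ^ m := Nat.pow_le_pow_right (by omega) hgm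
  have h4 : 2 ≤ q ^ g := by
    calc 2 ≤ q := hq
      _ = q ^ 1 := (pow_one q).symm
      _ ≤ q ^ g := Nat.pow_le_pow_right (by omega) hgpos
  have h5 := Nat.le_of_dvd (by omega) h2
  omega

/-- `q ^ m + 1` does not divide `q ^ (2 i) + q` for `i < m`, `m` even -/
theorem not_dvd_pow_add {q m i : ℕ} (hq : 2 ≤ q) (hm : Even m) (hm2 : 2 ≤ m) (him : i < m)
    (h : q ^ m + 1 ∣ q ^ (2 * i) + q) : False := by
  have hq1 : 1 ≤ q := by omega
  have hqm : q ^ 2 ≤ q ^ m := Nat.pow_le_pow_right hq1 hm2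
  rcases Nat.eq_zero_or_pos i with rfl | hi
  · rw [mul_zero, pow_zero] at h
    have := Nat.le_of_dvd (by omega) h
    nlinarith
  · haveI : NeZero (q ^ m + 1) := ⟨by omega⟩
    obtain ⟨x, hx⟩ : ∃ x : ZMod (q ^ m + 1), x = (q : ZMod (q ^ m + 1)) := ⟨_, rfl⟩
    have hxm : x ^ m = -1 := by
      have : ((q ^ m + 1 : ℕ) : ZMod (q ^ m + 1)) = 0 := ZMod.natCast_self _
      push_cast at this
      rw [hx]
      linear_combination this
    have hxu : IsUnit x := by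
      apply IsUnit.of_pow_eq_one (n := 2 * m) _ (by omega)
      rw [mul_comm, pow_mul, hxm]
      norm_num
    have hxi : x ^ (2 * i - 1) = -1 := by
      have h1 : ((q ^ (2 * i) + q : ℕ) : ZMod (q ^ m + 1)) = 0 :=
        (ZMod.natCast_eq_zero_iff _ _).2 h
      push_cast at h1
      rw [← hx] at h1
      have h2 : x * (x ^ (2 * i - 1) + 1) = 0 := by
        have : x ^ (2 * i) = x * x ^ (2 * i - 1) := by
          rw [← pow_succ', show 2 * i - 1 + 1 = 2 * i by omega]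
        rw [mul_add, mul_one, ← this]
        exact h1
      have h3 := (hxu.mul_right_eq_zero).1 h2
      exact eq_neg_of_add_eq_zero_left h3
    obtain ⟨t, ht⟩ : ∃ t, t = 2 * i - 1 := ⟨_, rfl⟩
    rw [← ht] at hxi
    have hodd_t : Odd t := ⟨i - 1, by omega⟩
    have h1 : x ^ (2 * t) = 1 := by
      rw [mul_comm, pow_mul, hxi]; norm_num
    have h2 : x ^ (2 * m) = 1 := by
      rw [mul_comm, pow_mul, hxm]; norm_num
    have h3 : orderOf x ∣ Nat.gcd (2 * t) (2 * m) :=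
      Nat.dvd_gcd (orderOf_dvd_of_pow_eq_one h1) (orderOf_dvd_of_pow_eq_one h2)
    rw [Nat.gcd_mul_left] at h3
    obtain ⟨g, hg⟩ : ∃ g, g = Nat.gcd t m := ⟨_, rfl⟩
    rw [← hg] at h3
    have hgt : g ∣ t := hg ▸ Nat.gcd_dvd_left _ _
    have hgm : g ∣ m := hg ▸ Nat.gcd_dvd_right _ _
    have hgodd : Odd g := Odd.of_dvd_nat hodd_t hgt
    have h2g : 2 * g ∣ m := by
      obtain ⟨k, hk⟩ := hm
      have hk' : m = 2 * k := by omega
      rw [hk']
      apply Nat.mul_dvd_mul_left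
      have hc : Nat.Coprime g 2 := (Nat.coprime_comm.1 (Nat.coprime_two_left.2 hgodd))
      have : g ∣ 2 * k := hk' ▸ hgm
      exact hc.dvd_of_dvd_mul_left this
    have h4 : x ^ m = 1 := orderOf_dvd_iff_pow_eq_one.1 (h3.trans h2g)
    rw [hxm] at h4
    have h5 : (2 : ZMod (q ^ m + 1)) = 0 := by linear_combination (-1 : ZMod (q ^ m + 1)) * h4
    have h6 : ((2 : ℕ) : ZMod (q ^ m + 1)) = 0 := by exact_mod_cast h5
    rw [ZMod.natCast_eq_zero_iff] at h6
    have := Nat.le_of_dvd (by norm_num) h6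
    nlinarith

end PSUnTorus
end Cfsg.Agent.Helper12
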