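import Mathlib
import Cfsg.Agent.Lib.Helper12.PSL3SpecPoly
import Cfsg.Agent.Lib.Helper12.PSU3SpecExist
import Cfsg.Agent.Lib.Helper12.PSUnTorusArith
import Cfsg.Agent.Lib.Helper13.UnitaryPrime
import Cfsg.Agent.Lib.Helper13.UnitaryPalin
import Cfsg.Agent.Lib.Helper13.UnitaryReal

/-!
# The torus `GL_1(q^{2m})` of `GU_{2m}(q)` through characteristic polynomials (helper12)

`μ` is a monic irreducible polynomial over the field `K` with `q ^ 2` elements, `μ'` its conjugate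
dual.  For a unitary matrix `g` with characteristic polynomial `μ * μ'`, `μ' ≠ μ`, the determinant
and the scalar powers of `g` are read off from the order of the root of `μ`.
-/

set_option autoImplicit false

open Polynomial Module

namespace Cfsg.Agent.Helper12
namespace PSUnTorus

open Cfsg.Agent.Helper13.SS Cfsg.Agent.Helper13.HermSS Cfsg.Agent.Helper13.SympSS
  Cfsg.Agent.Helper13.Dual Cfsg.Agent.Helper13.Uni PSLnSinger

section conj

variable {K : Type*} [Field K] [Fintype K]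

/-- the roots of an irreducible polynomial over a finite field are Frobenius conjugates -/
theorem root_conj {μ : K[X]} (hirr : Irreducible μ) (y : AdjoinRoot μ) (hy : aeval y μ = 0) :
    ∃ i : ℕ, i < μ.natDegree ∧ y = (AdjoinRoot.root μ) ^ (Fintype.card K ^ i) := by
  haveI : Fact (Irreducible μ) := ⟨hirr⟩
  haveI : FiniteDimensional K (AdjoinRoot μ) := (AdjoinRoot.powerBasis hirr.ne_zero).finite
  haveI : Finite (AdjoinRoot μ) := Module.finite_of_finite K
  have hfin : finrank K (AdjoinRoot μ) = μ.natDegree := by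
    rw [(AdjoinRoot.powerBasis hirr.ne_zero).finrank, AdjoinRoot.powerBasis_dim]
  obtain ⟨θ, hθ⟩ : ∃ θ : AdjoinRoot μ →ₐ[K] AdjoinRoot μ, θ (AdjoinRoot.root μ) = y :=
    ⟨AdjoinRoot.liftAlgHom μ (Algebra.ofId K (AdjoinRoot μ)) y hy,
      AdjoinRoot.liftAlgHom_root _ _ _ _⟩
  obtain ⟨i, hi⟩ := (FiniteField.bijective_frobeniusAlgHom_pow K (AdjoinRoot μ)).2 θ
  refine ⟨i.1, hfin ▸ i.2, ?_⟩
  have hi' : (FiniteField.frobeniusAlgHom K (AdjoinRoot μ)) ^ i.1 = θ := hi
  rw [← hθ, ← hi', AlgHom.coe_pow, FiniteField.coe_frobeniusAlgHom, pow_iterate]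

end conj

section core

variable {K : Type*} [Field K] [Fintype K] {q : ℕ} {σ : K →+* K} {μ : K[X]} {M : ℕ}

theorem coeff_zero_ne_zero (hM : 1 ≤ M) (hμM : μ ∣ X ^ M - 1) : μ.coeff 0 ≠ 0 := by
  intro h0
  have h1 : X ∣ μ := Polynomial.X_dvd_iff.2 h0
  have h2 : (X : K[X]) ∣ X ^ M - 1 := h1.trans hμM
  have h3 := Polynomial.X_dvd_iff.1 h2
  rw [coeff_sub, coeff_X_pow, coeff_one_zero, if_neg (by omega)] at h3
  simp at h3

/-- the dual polynomial is the normalised reverse -/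
theorem dualPoly_eq_reverse (hirr : Irreducible μ) (hmon : μ.Monic) (hM : 1 ≤ M)
    (hμM : μ ∣ X ^ M - 1) : dualPoly M μ = C (μ.coeff 0)⁻¹ * μ.reverse := by
  haveI : Fact (Irreducible μ) := ⟨hirr⟩
  have h0 := coeff_zero_ne_zero hM hμM
  have htr : μ.natTrailingDegree = 0 := by
    rw [Polynomial.natTrailingDegree_eq_zero]
    right; exact h0
  have hdeg : μ.reverse.natDegree = μ.natDegree := by
    rw [reverse_natDegree, htr, Nat.sub_zero]
  have hlead : μ.reverse.leadingCoeff = μ.coeff 0 := by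
    rw [reverse_leadingCoeff, Polynomial.trailingCoeff, htr]
  obtain ⟨δ, hδ⟩ : ∃ δ, δ = C (μ.coeff 0)⁻¹ * μ.reverse := ⟨_, rfl⟩
  have hC0 : C (μ.coeff 0)⁻¹ ≠ 0 := by
    rw [Ne, C_eq_zero]
    exact inv_ne_zero h0
  have hrev0 : μ.reverse ≠ 0 := by
    rw [Ne, reverse_eq_zero]
    exact hmon.ne_zero
  have hδdeg : δ.natDegree = μ.natDegree := by
    rw [hδ, natDegree_mul hC0 hrev0, natDegree_C, zero_add, hdeg]
  have hδmon : δ.Monic := by
    unfold Monic
    rw [hδ, leadingCoeff_mul, leadingCoeff_C, hlead, inv_mul_cancel₀ h0]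
  obtain ⟨s, hs⟩ : ∃ s, s = AdjoinRoot.root μ := ⟨_, rfl⟩
  have h1 : s * s ^ (M - 1) = 1 := by rw [hs]; exact root_mul_inv hM hμM
  have hδroot : aeval (s ^ (M - 1)) δ = 0 := by
    rw [hδ, map_mul, aeval_C]
    let _ : Invertible s := ⟨s ^ (M - 1), by rw [mul_comm]; exact h1, h1⟩
    have h2 := eval₂_reverse_eq_zero_iff (algebraMap K (AdjoinRoot μ)) s μ
    have h3 : eval₂ (algebraMap K (AdjoinRoot μ)) s μ = 0 := by
      rw [hs, ← aeval_def, AdjoinRoot.aeval_eq, AdjoinRoot.mk_self]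
    have h4 : ⅟s = s ^ (M - 1) := rfl
    rw [h4] at h2
    rw [aeval_def, h2.2 h3, mul_zero]
  have hdvd : dualPoly M μ ∣ δ := by
    unfold dualPoly
    rw [← hs]
    exact minpoly.dvd K _ hδroot
  rw [← hδ]
  exact (Polynomial.eq_of_monic_of_dvd_of_natDegree_le (dualPoly_monic hirr) hδmon hdvd
    (by rw [hδdeg, natDegree_dualPoly hM hirr hmon hμM])).symm

/-- the constant coefficient of the conjugate dual -/
theorem cdual_coeff_zero (hirr : Irreducible μ) (hmon : μ.Monic) (hM : 1 ≤ M)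
    (hμM : μ ∣ X ^ M - 1) : (cdual M σ μ).coeff 0 = (σ (μ.coeff 0))⁻¹ := by
  unfold cdual
  rw [dualPoly_eq_reverse hirr hmon hM hμM, coeff_map, mul_coeff_zero, coeff_C_zero,
    coeff_zero_reverse, hmon.leadingCoeff, mul_one, map_inv₀]

/-- if `μ` is conjugate self-dual, its root satisfies `ξ ^ (Q ^ i + q) = 1` for some `i` -/
theorem pow_eq_one_of_cdual_eq_self (hK : Fintype.card K = q ^ 2) (p : ℕ) [Fact p.Prime]
    [CharP K p] (hσ : ∀ x, σ x = x ^ q) (hσ2 : ∀ x, σ (σ x) = x) (hirr : Irreducible μ)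
    (hM : 1 ≤ M) (hμM : μ ∣ X ^ M - 1) (hcd : cdual M σ μ = μ) :
    ∃ i : ℕ, i < μ.natDegree ∧ (AdjoinRoot.root μ) ^ (Fintype.card K ^ i + q) = 1 := by
  haveI : Fact (Irreducible μ) := ⟨hirr⟩
  obtain ⟨s, hs⟩ : ∃ s, s = AdjoinRoot.root μ := ⟨_, rfl⟩
  have h1 : s * s ^ (M - 1) = 1 := by rw [hs]; exact root_mul_inv hM hμM
  have h2 : dualPoly M μ = μ.map σ := by
    have := congrArg (fun g => g.map σ) hcd
    simp only [cdual] at this
    rwa [map_map_self (σ := σ) hσ2] at this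
  have h3 : aeval (s ^ (M - 1)) (μ.map σ) = 0 := by
    rw [← h2, hs]
    exact aeval_inv_dualPoly M μ
  have h4 := frob_aeval p hK hσ (μ.map σ) (s ^ (M - 1))
  rw [h3, zero_pow (by
    rintro rfl
    have := hσ 0
    simp at this), map_map_self (σ := σ) hσ2] at h4
  obtain ⟨i, hi, hi2⟩ := root_conj hirr _ h4
  refine ⟨i, hi, ?_⟩
  rw [← hs] at hi2 ⊢
  rw [pow_add, ← hi2, ← mul_pow, mul_comm, h1, one_pow]

/-- the constant coefficient of `μ * μ'` and the norm-one condition -/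
theorem coeff_zero_mul_cdual (hK : Fintype.card K = q ^ 2) (hq : Odd q)
    (hσ : ∀ x, σ x = x ^ q) (hirr : Irreducible μ) (hmon : μ.Monic) (hM : 1 ≤ M)
    (hμM : μ ∣ X ^ M - 1) :
    (μ * cdual M σ μ).coeff 0 = 1 ↔ (AdjoinRoot.root μ) ^ tor q μ.natDegree = 1 := by
  haveI : Fact (Irreducible μ) := ⟨hirr⟩
  have h0 := coeff_zero_ne_zero hM hμM
  have hq1 : 1 ≤ q := hq.pos
  rw [mul_coeff_zero, cdual_coeff_zero hirr hmon hM hμM, hσ]
  have hrp := PSL3Spec.root_pow_sum hirr hmon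
  have hsum : ∑ i ∈ Finset.range μ.natDegree, Fintype.card K ^ i = geom (q ^ 2) μ.natDegree := by
    rw [hK]; rfl
  rw [hsum] at hrp
  have h1 : (AdjoinRoot.root μ) ^ tor q μ.natDegree =
      algebraMap K (AdjoinRoot μ) ((μ.coeff 0) ^ (q - 1)) := by
    unfold tor
    rw [mul_comm, pow_mul, hrp, ← map_pow, mul_pow, ← pow_mul]
    have heven : Even (μ.natDegree * (q - 1)) := by
      apply Even.mul_left
      obtain ⟨t, ht⟩ := hq
      exact ⟨t, by omega⟩
    rw [heven.neg_one_pow, one_mul]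
  rw [h1]
  have hinj : Function.Injective (algebraMap K (AdjoinRoot μ)) :=
    (algebraMap K (AdjoinRoot μ)).injective
  rw [← map_one (algebraMap K (AdjoinRoot μ)), hinj.eq_iff]
  have hpow : (μ.coeff 0) ^ q = (μ.coeff 0) ^ (q - 1) * μ.coeff 0 := by
    rw [← pow_succ, Nat.sub_add_cancel hq1]
  constructor
  · intro h
    have h2 : μ.coeff 0 = (μ.coeff 0) ^ q := by
      have := congrArg (fun t => t * (μ.coeff 0) ^ q) h
      rw [mul_assoc, inv_mul_cancel₀ (pow_ne_zero q h0), mul_one, one_mul] at this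
      exact this
    rw [hpow] at h2
    have h3 : 1 * μ.coeff 0 = (μ.coeff 0) ^ (q - 1) * μ.coeff 0 := by rw [one_mul]; exact h2
    exact (mul_right_cancel₀ h0 h3).symm
  · intro h
    rw [hpow, h, one_mul, mul_inv_cancel₀ h0]

end core

section matrix

variable {K : Type*} [Field K] [Fintype K] {q : ℕ} {σ : K →+* K} {μ : K[X]} {M : ℕ}

theorem pres_pow {n : ℕ} {g : Matrix (Fin n) (Fin n) K} (hg : Pres q g) (j : ℕ) :
    Pres q (g ^ j) := by
  induction j with
  | zero =>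
    intro u v
    rw [pow_zero, Matrix.one_mulVec, Matrix.one_mulVec]
  | succ j ih =>
    intro u v
    rw [pow_succ, ← Matrix.mulVec_mulVec, ← Matrix.mulVec_mulVec, ih, hg]

theorem scalar_norm_of_pres {n : ℕ} (hn : 0 < n) {c : K}
    (h : Pres q (c • (1 : Matrix (Fin n) (Fin n) K))) : c ^ (q + 1) = 1 := by
  have h1 := h (Pi.single ⟨0, hn⟩ 1) (Pi.single ⟨0, hn⟩ 1)
  rw [Matrix.smul_mulVec, Matrix.one_mulVec] at h1
  unfold Cfsg.hermForm at h1
  rw [Finset.sum_eq_single (⟨0, hn⟩ : Fin n), Finset.sum_eq_single (⟨0, hn⟩ : Fin n)] at h1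
  · simp only [Pi.smul_apply, Pi.single_eq_same, smul_eq_mul, mul_one, one_pow] at h1
    rw [pow_succ, mul_comm]
    exact h1
  · intro j _ hj
    rw [Pi.single_eq_of_ne hj, zero_mul]
  · intro h'
    exact absurd (Finset.mem_univ _) h'
  · intro j _ hj
    rw [Pi.smul_apply, Pi.single_eq_of_ne hj, smul_zero, zero_mul]
  · intro h'
    exact absurd (Finset.mem_univ _) h'

theorem cpal_X_pow_sub_C (hσ : ∀ x, σ x = x ^ q) {j : ℕ} (hj : 1 ≤ j) {c : K}
    (hc : c ^ (q + 1) = 1) : CPal σ (X ^ j - C c : K[X]) := by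
  unfold CPal
  have hc0 : c ≠ 0 := by
    rintro rfl
    rw [zero_pow (by omega)] at hc
    exact zero_ne_one hc
  have hσc : σ c ≠ 0 := by
    rw [Ne, map_eq_zero]; exact hc0
  have hmap : (X ^ j - C c : K[X]).map σ = X ^ j - C (σ c) := by
    rw [Polynomial.map_sub, Polynomial.map_pow, map_X, map_C]
  have hdeg : (X ^ j - C (σ c) : K[X]).natDegree = j := natDegree_X_pow_sub_C
  have hcoeff : (X ^ j - C c : K[X]).coeff 0 = -c := by
    rw [coeff_sub, coeff_X_pow, coeff_C_zero, if_neg (by omega), zero_sub]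
  rw [hmap, hcoeff]
  unfold reverse
  rw [hdeg, reflect_sub, reflect_C, reflect_monomial, revAt_le le_rfl, Nat.sub_self, pow_zero,
    map_neg, hσ, C_neg]
  have h1 : C (c ^ q) * C c = (1 : K[X]) := by
    rw [← C_mul, ← pow_succ, hc, C_1]
  linear_combination (-1 : K[X]) * h1

/-- the scalar powers of a unitary matrix with characteristic polynomial `μ * μ'` -/
theorem pow_scalar_iff (hK : Fintype.card K = q ^ 2) (hσ : ∀ x, σ x = x ^ q)
    (hσ2 : ∀ x, σ (σ x) = x) (hirr : Irreducible μ) (hmon : μ.Monic) (hM : 1 ≤ M)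
    (hμM : μ ∣ X ^ M - 1) (hne : cdual M σ μ ≠ μ) {n : ℕ} (hn : 0 < n)
    (g : Matrix (Fin n) (Fin n) K) (hg : Pres q g) (hchar : g.charpoly = μ * cdual M σ μ)
    (j : ℕ) :
    (∃ c : K, g ^ j = c • (1 : Matrix (Fin n) (Fin n) K)) ↔
      orderOf (AdjoinRoot.root μ) ∣ j * (q + 1) := by
  haveI : Fact (Irreducible μ) := ⟨hirr⟩
  haveI : NeZero n := ⟨by omega⟩
  obtain ⟨L, hL⟩ : ∃ L : K →+* AdjoinRoot μ, L = algebraMap K (AdjoinRoot μ) := ⟨_, rfl⟩
  rw [orderOf_dvd_iff_pow_eq_one]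
  constructor
  · rintro ⟨c, hc⟩
    have hcn : c ^ (q + 1) = 1 := by
      apply scalar_norm_of_pres hn
      rw [← hc]
      exact pres_pow hg j
    have h1 : (L.mapMatrix g) ^ j = (L c) • (1 : Matrix (Fin n) (Fin n) (AdjoinRoot μ)) := by
      rw [← map_pow, hc]
      ext a b
      simp [Matrix.one_apply]
      split_ifs <;> simp
    have h2 : (L.mapMatrix g).charpoly.IsRoot (AdjoinRoot.root μ) := by
      rw [RingHom.mapMatrix_apply, Matrix.charpoly_map, hchar, IsRoot.def, eval_map, hL,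
        ← aeval_def, map_mul, AdjoinRoot.aeval_eq, AdjoinRoot.mk_self, zero_mul]
    have h3 := PSU3Spec.pow_eq_of_isRoot_charpoly (L.mapMatrix g) h1 h2
    rw [pow_mul, h3, ← map_pow, hcn, map_one]
  · intro h
    rcases Nat.eq_zero_or_pos j with rfl | hj
    · exact ⟨1, by rw [pow_zero, one_smul]⟩
    have h1 : ((AdjoinRoot.root μ) ^ j) ^ (Fintype.card K - 1) = 1 := by
      rw [PSU3Spec.card_sub_one_eq hK, ← pow_mul, ← mul_assoc, pow_mul, h, one_pow]
    obtain ⟨c, hc⟩ := PSL3Spec.exists_algebraMap_eq_of_pow_card_sub_one (F := K) h1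
    have hcn : c ^ (q + 1) = 1 := by
      apply (algebraMap K (AdjoinRoot μ)).injective
      rw [map_pow, hc, ← pow_mul, h, map_one]
    refine ⟨c, ?_⟩
    apply PSU3Spec.pow_eq_smul_of_charpoly_dvd
    rw [hchar]
    have hμT : μ ∣ X ^ j - C c := by
      rw [← AdjoinRoot.mk_eq_zero, map_sub, map_pow, AdjoinRoot.mk_X, AdjoinRoot.mk_C]
      rw [← hc]
      exact sub_self _
    have hT := cpal_X_pow_sub_C hσ hj hcn
    have hμ'T := cdual_dvd_of_cpal hσ2 hM hirr hμM hT hμT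
    have hcop : IsCoprime μ (cdual M σ μ) :=
      coprime_of_monic_irreducible hirr (cdual_irreducible hσ2 hirr) hmon (cdual_monic hirr)
        (Ne.symm hne)
    exact hcop.mul_dvd hμT hμ'T

/-- the determinant of a matrix with characteristic polynomial `μ * μ'` -/
theorem det_eq_one_iff (hK : Fintype.card K = q ^ 2) (hq : Odd q) (hσ : ∀ x, σ x = x ^ q)
    (hσ2 : ∀ x, σ (σ x) = x) (hirr : Irreducible μ) (hmon : μ.Monic) (hM : 1 ≤ M)
    (hμM : μ ∣ X ^ M - 1) {n : ℕ} (g : Matrix (Fin n) (Fin n) K)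
    (hchar : g.charpoly = μ * cdual M σ μ) :
    g.det = 1 ↔ (AdjoinRoot.root μ) ^ tor q μ.natDegree = 1 := by
  rw [← coeff_zero_mul_cdual hK hq hσ hirr hmon hM hμM, ← hchar, Matrix.det_eq_sign_charpoly_coeff,
    Fintype.card_fin]
  have hn : n = 2 * μ.natDegree := by
    have h1 := Matrix.charpoly_natDegree_eq_dim g
    rw [hchar, hmon.natDegree_mul (cdual_monic hirr), natDegree_cdual hM hirr hmon hμM,
      Fintype.card_fin] at h1
    omega
  have hneg : (-1 : K) ^ n = 1 := by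
    rw [hn, pow_mul]
    norm_num
  rw [hneg, one_mul]

end matrix

end PSUnTorus
end Cfsg.Agent.Helper12
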