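import Mathlib
import Cfsg.Agent.Lib.Helper12.PSpAdjNo
import Cfsg.Agent.Lib.Helper2.SympBasic

/-!
# Prime graph of `PSp_{2n}(q)`: elements of order `r p` (helper12)
-/

set_option autoImplicit false

open Polynomial Module

namespace Cfsg.Agent.Helper12
namespace PSpAdj

open Cfsg.Agent.Helper13.SympSS Cfsg.Agent.Helper13.SS Cfsg.Agent.Helper13.Dual
open Cfsg.Agent.Helper2.Symp

/-- the order of the image of an element of order coprime to the exponent of a subgroup -/
theorem orderOf_mk_of_coprime {G : Type*} [Group G] (Z : Subgroup G) [Z.Normal] {m : ℕ}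
    (hZ : ∀ c ∈ Z, c ^ m = 1) (y : G) (hy : 0 < orderOf y) (hcop : Nat.Coprime (orderOf y) m) :
    orderOf (y : G ⧸ Z) = orderOf y := by
  apply Nat.dvd_antisymm
  · apply orderOf_dvd_of_pow_eq_one
    rw [← QuotientGroup.mk_pow, pow_orderOf_eq_one]
    rfl
  · have h1 : y ^ orderOf (y : G ⧸ Z) ∈ Z := by
      rw [← QuotientGroup.eq_one_iff, QuotientGroup.mk_pow, pow_orderOf_eq_one]
    have h2 := hZ _ h1
    rw [← pow_mul] at h2
    exact hcop.dvd_of_dvd_mul_right (orderOf_dvd_of_pow_eq_one h2)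

section trans

variable {F : Type*} [Field F] {m : ℕ}

theorem tv_pow (v : Fin m ⊕ Fin m → F) (c : F) (j : ℕ) : tv v c ^ j = tv v (j * c) := by
  induction j with
  | zero => rw [pow_zero, Nat.cast_zero, zero_mul, tv_zero_right]
  | succ j ih =>
    rw [pow_succ, ih, tv_mul_tv]
    congr 1
    push_cast
    ring

theorem orderOf_tv (p : ℕ) [Fact p.Prime] [CharP F p] {v : Fin m ⊕ Fin m → F} (hv : v ≠ 0) :
    orderOf (tv v (1 : F)) = p := by
  apply orderOf_eq_prime
  · rw [tv_pow, mul_one, CharP.cast_eq_zero F p, tv_zero_right]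
  · intro h
    obtain ⟨x, hx⟩ := exists_Bf_ne_zero hv
    have h1 : tv v (1 : F) • x = x := by rw [h, one_smul]
    rw [tv_smul, one_mul, add_eq_left] at h1
    have h2 : Bf x v = 0 := (smul_eq_zero.1 h1).resolve_right hv
    apply hx
    rw [Bf_skew, h2, neg_zero]

theorem commute_tv {g : Matrix.symplecticGroup (Fin m) F} {v : Fin m ⊕ Fin m → F}
    (hgv : g • v = v) (c : F) : Commute g (tv v c) := by
  have h1 := conj_tv g v c
  rw [hgv] at h1
  show g * tv v c = tv v c * g
  calc g * tv v c = g * tv v c * g⁻¹ * g := by group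
    _ = tv v c * g := by rw [h1]

end trans

section exist

universe u
variable {F : Type u} [Field F] [Fintype F] (p : ℕ) [Fact p.Prime] [CharP F p]

theorem cycFactors_nonempty' {r : ℕ} (hr : r.Prime) :
    ∃ f : F[X], f ∈ cycFactors F r := by
  classical
  have h0 : cyclotomic r F ≠ 0 := cyclotomic_ne_zero r F
  have hu : ¬ IsUnit (cyclotomic r F) := by
    intro h
    have h1 := natDegree_eq_zero_of_isUnit h
    rw [natDegree_cyclotomic, Nat.totient_prime hr] at h1
    have := hr.two_le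
    omega
  obtain ⟨f, hf⟩ := UniqueFactorizationMonoid.exists_mem_normalizedFactors h0 hu
  exact ⟨f, mem_cycFactors.2 hf⟩

/-- an element of order `r p` in `Sp_{2n}(q)` when `η(ord_r q) ≤ n - 1` -/
theorem exists_elt_Sp {n : ℕ} {r : ℕ} (hr : r.Prime) (hr2 : r ≠ 2) (hrp : r ≠ p) {η : ℕ}
    (hη : (Odd (orderOf ((Fintype.card F : ℕ) : ZMod r)) ∧
        η = orderOf ((Fintype.card F : ℕ) : ZMod r)) ∨
      (Even (orderOf ((Fintype.card F : ℕ) : ZMod r)) ∧
        2 * η = orderOf ((Fintype.card F : ℕ) : ZMod r)))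
    (hηn : η + 1 ≤ n) :
    ∃ y : Matrix.symplecticGroup (Fin n) F, orderOf y = r * p := by
  classical
  have hp : p.Prime := Fact.out
  haveI : Fact r.Prime := ⟨hr⟩
  have hr1 : 1 ≤ r := hr.one_lt.le
  have hrq : ¬ r ∣ Fintype.card F := PSLAdj.not_dvd_card_of_ne p hr hrp
  obtain ⟨k, hk⟩ : ∃ k, k = orderOf ((Fintype.card F : ℕ) : ZMod r) := ⟨_, rfl⟩
  rw [← hk] at hη
  have hk0 : 0 < k := by
    rw [hk]
    apply orderOf_pos_iff.mpr
    have hunit : IsUnit ((Fintype.card F : ℕ) : ZMod r) := by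
      rw [isUnit_iff_ne_zero, Ne, ZMod.natCast_eq_zero_iff]
      exact hrq
    exact hunit.isOfFinOrder
  obtain ⟨f, hf⟩ := cycFactors_nonempty' (F := F) hr
  have hfirr := cycFactors_irreducible hf
  have hfmon := cycFactors_monic hf
  have hfm := cycFactors_dvd_X_pow hf
  have hfdeg : f.natDegree = k := by
    rw [hk]
    exact cycFactors_natDegree (p := p) rfl hr hrp hf
  -- the nontrivial block
  obtain ⟨Q, hQ, hQdeg, hfQ⟩ : ∃ Q : F[X], SReal r Q ∧ Q.natDegree = 2 * η ∧ f ∣ Q := by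
    rcases hη with ⟨hodd, hηk⟩ | ⟨heven, hηk⟩
    · refine ⟨f * dualPoly r f, sreal_pair hr1 hfirr hfmon hfm, ?_, dvd_mul_right _ _⟩
      rw [Polynomial.Monic.natDegree_mul hfmon (dualPoly_monic hfirr),
        natDegree_dualPoly hr1 hfirr hfmon hfm, hfdeg, hηk]
      ring
    · refine ⟨f, sreal_selfdual hr1 hfirr hfmon hfm ?_ (root_pow_ne_root hr hr2 hrp hf), ?_,
        dvd_rfl⟩
      · exact dualPoly_eq_self_of_even rfl hr (by rw [← hk]; exact hk0)
          (by rw [← hk]; exact heven) hf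
      · rw [hfdeg, hηk]
  have hsc : SReal r ((X - C (1 : F)) ^ 2) := sreal_scalar 1 (by ring) (one_pow r)
  obtain ⟨P, hPdef⟩ : ∃ P, P = Q * ((X - C (1 : F)) ^ 2) ^ (n - η) := ⟨_, rfl⟩
  have hP : SReal r P := hPdef ▸ sreal_mul hQ (sreal_pow hsc (n - η))
  have hPdeg : P.natDegree = 2 * n := by
    have hm2 : ((X - C (1 : F)) ^ 2).Monic := (monic_X_sub_C 1).pow 2
    rw [hPdef, Polynomial.Monic.natDegree_mul hQ.monic (hm2.pow _), hQdeg,
      Polynomial.Monic.natDegree_pow hm2, Polynomial.Monic.natDegree_pow (monic_X_sub_C 1),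
      natDegree_X_sub_C]
    omega
  obtain ⟨g, hgr, hgc⟩ := hP.exists_matrix n hPdeg
  -- `g ≠ 1`
  have hg1 : g ≠ 1 := by
    rintro rfl
    have h1 : ((1 : Matrix.symplecticGroup (Fin n) F) :
        Matrix (Fin n ⊕ Fin n) (Fin n ⊕ Fin n) F) = 1 := rfl
    rw [h1, Matrix.charpoly_one] at hgc
    have h2 : f ∣ (X - 1 : F[X]) ^ Fintype.card (Fin n ⊕ Fin n) := by
      rw [hgc, hPdef]
      exact hfQ.mul_right _
    have hX1 : (X - 1 : F[X]) = X - C 1 := by rw [map_one]
    have h3 : IsCoprime f (X - 1 : F[X]) := by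
      apply coprime_of_monic_irreducible hfirr _ hfmon _ _
      · rw [hX1]; exact irreducible_X_sub_C 1
      · rw [hX1]; exact monic_X_sub_C 1
      · rintro rfl
        exact X_sub_one_notMem hr hrp hf
    have h4 := (h3.pow_right (n := Fintype.card (Fin n ⊕ Fin n))).isUnit_of_dvd' dvd_rfl h2
    exact hfirr.not_isUnit h4
  have hgo : orderOf g = r := orderOf_eq_prime hgr hg1
  -- a fixed vector
  have hroot : (LS g).charpoly.IsRoot 1 := by
    rw [LS_charpoly, hgc, hPdef, IsRoot.def, eval_mul, eval_pow, eval_pow, eval_sub, eval_X,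
      eval_C, sub_self]
    have h1 : n - η ≠ 0 := by omega
    rw [zero_pow (by norm_num), zero_pow h1, mul_zero]
  have heig := (Module.End.hasEigenvalue_iff_isRoot_charpoly (LS g) 1).2 hroot
  obtain ⟨v, hv⟩ := heig.exists_hasEigenvector
  have hv0 : v ≠ 0 := hv.2
  have hgv : g • v = v := by
    have h1 := hv.apply_eq_smul
    rw [one_smul, LS_apply] at h1
    exact h1
  -- the product
  have hcomm : Commute g (tv v (1 : F)) := commute_tv hgv 1
  have hto : orderOf (tv v (1 : F)) = p := orderOf_tv p hv0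
  refine ⟨g * tv v (1 : F), ?_⟩
  rw [hcomm.orderOf_mul_eq_mul_orderOf_of_coprime, hgo, hto]
  rw [hgo, hto]
  exact (Nat.coprime_primes hr hp).2 hrp

/-- the same in `PSp` -/
theorem exists_elt_PSp {n : ℕ} (hn : 1 ≤ n) {r : ℕ} (hr : r.Prime) (hr2 : r ≠ 2) (hrp : r ≠ p)
    {η : ℕ}
    (hη : (Odd (orderOf ((Fintype.card F : ℕ) : ZMod r)) ∧
        η = orderOf ((Fintype.card F : ℕ) : ZMod r)) ∨
      (Even (orderOf ((Fintype.card F : ℕ) : ZMod r)) ∧
        2 * η = orderOf ((Fintype.card F : ℕ) : ZMod r)))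
    (hηn : η + 1 ≤ n) :
    ∃ y : Matrix.symplecticGroup (Fin n) F ⧸
      Subgroup.center (Matrix.symplecticGroup (Fin n) F), orderOf y = r * p := by
  have hp : p.Prime := Fact.out
  obtain ⟨y, hy⟩ := exists_elt_Sp p hr hr2 hrp hη hηn
  refine ⟨(y : Matrix.symplecticGroup (Fin n) F ⧸
      Subgroup.center (Matrix.symplecticGroup (Fin n) F)), ?_⟩
  rw [orderOf_mk_of_coprime _ (fun c hc => center_pow_cexp p hn c hc) y
    (by rw [hy]; exact Nat.mul_pos hr.pos hp.pos), hy]
  rw [hy]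
  exact Nat.Coprime.mul_left (cexp_coprime p hr (fun h => absurd h hr2))
    (cexp_coprime p hp (fun h => h))

end exist

end PSpAdj
end Cfsg.Agent.Helper12
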