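import Mathlib
import Cfsg.Agent.Lib.Helper12.PSpAdjYes

/-!
# Prime graph of `PSp_{2n}(q)`: two odd primes, basic lemmas (helper12)

Irreducible factors of `X ^ m - 1` over a finite field, orders of their roots, duality.
-/

set_option autoImplicit false

open Polynomial Module

namespace Cfsg.Agent.Helper12
namespace PSpRS

open Cfsg.Agent.Helper13.SympSS Cfsg.Agent.Helper13.SS Cfsg.Agent.Helper13.Dual

universe u

section general
variable {F : Type u} [Field F]

theorem sreal_mono {a b : ℕ} {P : F[X]} (h : SReal a P) (hab : a ∣ b) : SReal b P := by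
  obtain ⟨V, i1, i2, i3, A, B, hA, hAB, hc⟩ := h
  refine ⟨V, i1, i2, i3, A, B, ?_, hAB, hc⟩
  obtain ⟨c, rfl⟩ := hab
  rw [pow_mul, hA, one_pow]

theorem dvd_X_pow_sub_one_iff {f : F[X]} (e : ℕ) :
    f ∣ X ^ e - 1 ↔ (AdjoinRoot.root f) ^ e = 1 := by
  rw [← AdjoinRoot.mk_eq_zero, map_sub, map_pow, AdjoinRoot.mk_X, map_one, sub_eq_zero]

theorem dualPoly_dvd_X_pow {f : F[X]} (hf : Irreducible f) {e : ℕ} (hfe : f ∣ X ^ e - 1)
    (m : ℕ) : dualPoly m f ∣ X ^ e - 1 := by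
  haveI : Fact (Irreducible f) := ⟨hf⟩
  apply minpoly.dvd
  rw [map_sub, map_pow, aeval_X, map_one, ← pow_mul, mul_comm, pow_mul,
    (dvd_X_pow_sub_one_iff e).1 hfe, one_pow, sub_self]

theorem root_ne_zero {f : F[X]} [Fact (Irreducible f)] {m : ℕ} (hm : 1 ≤ m)
    (hfm : f ∣ X ^ m - 1) : AdjoinRoot.root f ≠ 0 := by
  intro h
  have h1 := (dvd_X_pow_sub_one_iff m).1 hfm
  rw [h, zero_pow (by omega)] at h1
  exact zero_ne_one h1

/-- `ρ ^ a = ρ⁻¹` means `ρ ^ (a + 1) = 1` -/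
theorem root_pow_eq_inv_iff {f : F[X]} {m : ℕ} (hm : 1 ≤ m) (hfm : f ∣ X ^ m - 1) (a : ℕ) :
    AdjoinRoot.root f ^ a = AdjoinRoot.root f ^ (m - 1) ↔ AdjoinRoot.root f ^ (a + 1) = 1 := by
  have h2 : AdjoinRoot.root f * AdjoinRoot.root f ^ (m - 1) = 1 := root_mul_inv hm hfm
  constructor
  · intro h
    rw [pow_succ, h, mul_comm, h2]
  · intro h
    rw [pow_succ] at h
    calc AdjoinRoot.root f ^ a
        = AdjoinRoot.root f ^ a * (AdjoinRoot.root f * AdjoinRoot.root f ^ (m - 1)) := by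
          rw [h2, mul_one]
      _ = (AdjoinRoot.root f ^ a * AdjoinRoot.root f) * AdjoinRoot.root f ^ (m - 1) := by
          rw [mul_assoc]
      _ = AdjoinRoot.root f ^ (m - 1) := by rw [h, one_mul]

end general

section finite
variable {F : Type u} [Field F] [Fintype F]

/-- the root of an irreducible factor of `X ^ m - 1` has order dividing `q ^ deg - 1` -/
theorem root_pow_card_pow_sub_one {f : F[X]} (hf : Irreducible f) {m : ℕ} (hm : 1 ≤ m)
    (hfm : f ∣ X ^ m - 1) :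
    AdjoinRoot.root f ^ (Fintype.card F ^ f.natDegree - 1) = 1 := by
  haveI : Fact (Irreducible f) := ⟨hf⟩
  haveI : FiniteDimensional F (AdjoinRoot f) := (AdjoinRoot.powerBasis hf.ne_zero).finite
  haveI : Finite (AdjoinRoot f) := Module.finite_of_finite F
  haveI : Fintype (AdjoinRoot f) := Fintype.ofFinite _
  have h1 : Fintype.card (AdjoinRoot f) = Fintype.card F ^ f.natDegree := by
    rw [Module.card_eq_pow_finrank (K := F) (V := AdjoinRoot f), finrank_adjoinRoot]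
  rw [← h1]
  exact FiniteField.pow_card_sub_one_eq_one _ (root_ne_zero hm hfm)

/-- a self-dual irreducible factor: the inverse of the root is a Frobenius conjugate -/
theorem exists_pow_of_dualPoly_eq_self {f : F[X]} (hf : Irreducible f) {m : ℕ} (hm : 1 ≤ m)
    (hfm : f ∣ X ^ m - 1) (hd : dualPoly m f = f) :
    ∃ j : ℕ, AdjoinRoot.root f ^ (Fintype.card F ^ j + 1) = 1 := by
  haveI : Fact (Irreducible f) := ⟨hf⟩
  haveI : FiniteDimensional F (AdjoinRoot f) := (AdjoinRoot.powerBasis hf.ne_zero).finite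
  haveI : Finite (AdjoinRoot f) := Module.finite_of_finite F
  have hσ0 : aeval (AdjoinRoot.root f ^ (m - 1)) f = 0 := by
    have := aeval_inv_dualPoly m f
    rwa [hd] at this
  obtain ⟨σ, hσ⟩ : ∃ σ : AdjoinRoot f →ₐ[F] AdjoinRoot f,
      σ = AdjoinRoot.liftAlgHom f (Algebra.ofId F (AdjoinRoot f))
        (AdjoinRoot.root f ^ (m - 1)) hσ0 := ⟨_, rfl⟩
  have hσroot : σ (AdjoinRoot.root f) = AdjoinRoot.root f ^ (m - 1) := by
    rw [hσ]
    exact AdjoinRoot.liftAlgHom_root _ _ _ _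
  obtain ⟨j, hj⟩ := (FiniteField.bijective_frobeniusAlgHom_pow F (AdjoinRoot f)).2 σ
  refine ⟨j.1, ?_⟩
  rw [← root_pow_eq_inv_iff hm hfm, ← hσroot, ← hj]
  show _ = (FiniteField.frobeniusAlgHom F (AdjoinRoot f) ^ j.1) (AdjoinRoot.root f)
  rw [AlgHom.coe_pow, FiniteField.coe_frobeniusAlgHom, pow_iterate]

/-- conversely, if the inverse of the root is a Frobenius conjugate, the factor is self-dual -/
theorem dualPoly_eq_self_of_pow {f : F[X]} (hf : Irreducible f) (hmon : f.Monic) {m : ℕ}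
    (hm : 1 ≤ m) (hfm : f ∣ X ^ m - 1) {h : ℕ}
    (hh : AdjoinRoot.root f ^ (Fintype.card F ^ h + 1) = 1) : dualPoly m f = f := by
  have hs2 := (root_pow_eq_inv_iff hm hfm _).2 hh
  have hs3 : aeval (AdjoinRoot.root f ^ (m - 1)) f = 0 := by
    rw [← hs2, aeval_pow_card_pow, AdjoinRoot.aeval_eq, AdjoinRoot.mk_self,
      zero_pow (pow_ne_zero _ Fintype.card_ne_zero)]
  have hd : dualPoly m f ∣ f := minpoly.dvd F _ hs3
  exact Polynomial.eq_of_monic_of_associated (dualPoly_monic hf) hmon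
    ((dualPoly_irreducible hf).associated_of_dvd hf hd)

end finite

section charpoly
variable {F : Type u} [Field F] {V : Type*} [AddCommGroup V] [Module F V] [FiniteDimensional F V]

theorem squarefree_X_pow_sub_one {o : ℕ} (hoF : (o : F) ≠ 0) : Squarefree (X ^ o - 1 : F[X]) := by
  have h := Polynomial.separable_X_pow_sub_C (1 : F) hoF one_ne_zero
  rw [map_one] at h
  exact h.squarefree

theorem irrFactors_X_pow_prod {o : ℕ} (hoF : (o : F) ≠ 0) :
    ∏ f ∈ irrFactors (X ^ o - 1 : F[X]), f = X ^ o - 1 := by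
  have ho : o ≠ 0 := by
    rintro rfl
    exact hoF Nat.cast_zero
  exact irrFactors_prod (monic_X_pow_sub_C (1 : F) ho) (squarefree_X_pow_sub_one hoF)

theorem aeval_X_pow_sub_one (A : Module.End F V) (o : ℕ) :
    aeval A (X ^ o - 1 : F[X]) = A ^ o - 1 := by
  rw [map_sub, map_pow, aeval_X, map_one]

/-- irreducible factors of the characteristic polynomial of an endomorphism of order prime to
the characteristic divide `X ^ o - 1` -/
theorem dvd_X_pow_of_dvd_charpoly (A : Module.End F V) {o : ℕ} (hoF : (o : F) ≠ 0)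
    (hA : A ^ o = 1) {f : F[X]} (hf : Irreducible f) (hfc : f ∣ A.charpoly) :
    f ∣ X ^ o - 1 := by
  classical
  have hkill : aeval A (∏ g ∈ irrFactors (X ^ o - 1 : F[X]), g) = 0 := by
    rw [irrFactors_X_pow_prod hoF, aeval_X_pow_sub_one, hA, sub_self]
  rw [charpoly_eq_prod (irrFactors (X ^ o - 1 : F[X])) (fun g hg => irrFactors_irreducible hg)
    (fun g hg => irrFactors_monic hg) A hkill] at hfc
  obtain ⟨g, hg, hfg⟩ := (Prime.dvd_finsetProd_iff hf.prime _).1 hfc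
  exact (hf.prime.dvd_of_dvd_pow hfg).trans (irrFactors_dvd hg)

end charpoly

section arith

theorem natCast_pow_eq_one_iff {q n e : ℕ} (hq : 1 ≤ q) :
    ((q : ℕ) : ZMod n) ^ e = 1 ↔ n ∣ q ^ e - 1 := by
  rw [← ZMod.natCast_eq_zero_iff, Nat.cast_sub (Nat.one_le_pow _ _ hq), Nat.cast_pow,
    Nat.cast_one, sub_eq_zero]

theorem natCast_pow_eq_neg_one_iff {q n e : ℕ} :
    ((q : ℕ) : ZMod n) ^ e = -1 ↔ n ∣ q ^ e + 1 := by
  rw [← ZMod.natCast_eq_zero_iff, Nat.cast_add, Nat.cast_pow, Nat.cast_one,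
    eq_neg_iff_add_eq_zero]

theorem orderOf_dvd_iff_dvd_pow_sub_one {q n e : ℕ} (hq : 1 ≤ q) :
    orderOf ((q : ℕ) : ZMod n) ∣ e ↔ n ∣ q ^ e - 1 := by
  rw [orderOf_dvd_iff_pow_eq_one, natCast_pow_eq_one_iff hq]

/-- if `s ∣ q ^ j + 1` for an odd prime `s` then `2 j` is an odd multiple of the order of `q` -/
theorem odd_mul_of_dvd_pow_add_one {q s j : ℕ} (hs : s.Prime) (hs2 : s ≠ 2)
    (h : s ∣ q ^ j + 1) : ∃ b : ℕ, Odd b ∧ 2 * j = orderOf ((q : ℕ) : ZMod s) * b := by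
  haveI : Fact s.Prime := ⟨hs⟩
  have h1 : ((q : ℕ) : ZMod s) ^ j = -1 := natCast_pow_eq_neg_one_iff.2 h
  have h2 : ((q : ℕ) : ZMod s) ^ (2 * j) = 1 := by
    rw [mul_comm, pow_mul, h1]
    norm_num
  obtain ⟨b, hb⟩ := orderOf_dvd_iff_pow_eq_one.2 h2
  refine ⟨b, ?_, hb⟩
  rcases Nat.even_or_odd b with ⟨c, hc⟩ | hodd
  · exfalso
    have h3 : j = orderOf ((q : ℕ) : ZMod s) * c := by
      rw [hc] at hb
      have : 2 * j = 2 * (orderOf ((q : ℕ) : ZMod s) * c) := by rw [hb]; ring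
      omega
    rw [h3, pow_mul, pow_orderOf_eq_one, one_pow] at h1
    have h4 : (2 : ZMod s) = 0 := by
      have : (1 : ZMod s) + 1 = 0 := by
        nth_rewrite 1 [h1]
        exact neg_add_cancel 1
      rw [← this]
      norm_num
    have h5 : ((2 : ℕ) : ZMod s) = 0 := by exact_mod_cast h4
    rw [ZMod.natCast_eq_zero_iff] at h5
    exact hs2 ((Nat.prime_dvd_prime_iff_eq hs Nat.prime_two).1 h5)
  · exact hodd

theorem even_of_odd_mul {a b j : ℕ} (hb : Odd b) (h : 2 * j = a * b) : Even a := by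
  have h1 : Even (a * b) := ⟨j, by omega⟩
  rcases Nat.even_mul.1 h1 with h2 | h2
  · exact h2
  · exact absurd hb (Nat.not_odd_iff_even.2 h2)

/-- for an odd prime `s` with the order `l` of `q` even, `s ∣ q ^ (l / 2) + 1` -/
theorem dvd_pow_half_add_one {q s h : ℕ} (hs : s.Prime)
    (hl0 : 0 < orderOf ((q : ℕ) : ZMod s)) (hh : orderOf ((q : ℕ) : ZMod s) = 2 * h) :
    s ∣ q ^ h + 1 := by
  haveI : Fact s.Prime := ⟨hs⟩
  rw [← natCast_pow_eq_neg_one_iff]
  have huu : ((q : ℕ) : ZMod s) ^ h * ((q : ℕ) : ZMod s) ^ h = 1 := by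
    rw [← pow_add, ← two_mul, ← hh, pow_orderOf_eq_one]
  have hu1 : ((q : ℕ) : ZMod s) ^ h ≠ 1 := pow_ne_one_of_lt_orderOf (by omega) (by omega)
  rcases mul_self_eq_one_iff.1 huu with h1 | h1
  · exact absurd h1 hu1
  · exact h1

theorem dvd_pow_mul_add_one {q r h t : ℕ} (ht : Odd t) (h1 : r ∣ q ^ h + 1) :
    r ∣ q ^ (h * t) + 1 := by
  have h2 := Odd.nat_add_dvd_pow_add_pow (q ^ h) 1 ht
  rw [one_pow, ← pow_mul] at h2
  exact h1.trans h2

end arith

end PSpRS
end Cfsg.Agent.Helper12
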