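import Mathlib
import Cfsg.Agent.Lib.Helper12.PSpRSBasic

/-!
# Prime graph of `PSp_{2n}(q)`: two odd primes, non-existence (helper12)
-/

set_option autoImplicit false

open Polynomial Module

namespace Cfsg.Agent.Helper12
namespace PSpRS

open Cfsg.Agent.Helper13.SympSS Cfsg.Agent.Helper13.SS Cfsg.Agent.Helper13.Dual

universe u

section arith2

theorem eta_le {e η : ℕ} (hη : (Odd e ∧ η = e) ∨ (Even e ∧ 2 * η = e)) : η ≤ e := by
  rcases hη with ⟨-, h⟩ | ⟨-, h⟩ <;> omega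

theorem eq_of_dvd_of_lt_two_mul {l D : ℕ} (hlD : l ∣ D) (hD0 : 0 < D) (hlt : D < 2 * l) :
    D = l := by
  obtain ⟨y, rfl⟩ := hlD
  have hy0 : 0 < y := Nat.pos_of_ne_zero (by rintro rfl; simp at hD0)
  have hy2 : y < 2 := by
    by_contra h
    push Not at h
    have : l * 2 ≤ l * y := Nat.mul_le_mul_left l h
    omega
  have : y = 1 := by omega
  rw [this, mul_one]

theorem arith_nsd {k l ηk ηl n D : ℕ} (hk0 : 0 < k) (hl0 : 0 < l)
    (hηk : (Odd k ∧ ηk = k) ∨ (Even k ∧ 2 * ηk = k))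
    (hηl : (Odd l ∧ ηl = l) ∨ (Even l ∧ 2 * ηl = l)) (hkl : ηk ≤ ηl)
    (hkD : k ∣ D) (hlD : l ∣ D) (hD0 : 0 < D) (hDn : D ≤ n) (hlt : n < ηk + ηl) :
    ∃ t : ℕ, Odd t ∧ l = k * t := by
  have h1 := eta_le hηl
  have h2 := eta_le hηk
  have hDl : D = l := eq_of_dvd_of_lt_two_mul hlD hD0 (by omega)
  rw [hDl] at hkD
  obtain ⟨x, hx⟩ := hkD
  rcases Nat.even_or_odd x with ⟨c, hc⟩ | hodd
  · exfalso
    have hc0 : 0 < c := Nat.pos_of_ne_zero (by
      intro h0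
      rw [h0] at hc
      rw [hx, hc] at hl0
      simp at hl0)
    have hl2 : l = 2 * (k * c) := by rw [hx, hc]; ring
    have hkc : k ≤ k * c := Nat.le_mul_of_pos_right k hc0
    have hηl' : ηl = k * c := by
      rcases hηl with ⟨ho, -⟩ | ⟨-, h⟩
      · exfalso
        rw [hl2] at ho
        exact (Nat.not_odd_iff_even.2 (even_two_mul _)) ho
      · omega
    omega
  · exact ⟨x, hodd, hx⟩

theorem arith_sd {k l ηk ηl n D j a b : ℕ} (hk0 : 0 < k) (hl0 : 0 < l) (ha : Odd a) (hb : Odd b)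
    (hja : 2 * j = k * a) (hjb : 2 * j = l * b)
    (hηk : (Odd k ∧ ηk = k) ∨ (Even k ∧ 2 * ηk = k))
    (hηl : (Odd l ∧ ηl = l) ∨ (Even l ∧ 2 * ηl = l)) (hkl : ηk ≤ ηl)
    (hkD : k ∣ D) (hlD : l ∣ D) (hD0 : 0 < D) (hDn : D ≤ 2 * n) (hlt : n < ηk + ηl) :
    ∃ t : ℕ, Odd t ∧ l = k * t := by
  have hke : Even k := even_of_odd_mul ha hja
  have hle : Even l := even_of_odd_mul hb hjb
  have hk2 : 2 * ηk = k := by
    rcases hηk with ⟨ho, -⟩ | ⟨-, h⟩
    · exact absurd hke (Nat.not_even_iff_odd.2 ho)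
    · exact h
  have hl2 : 2 * ηl = l := by
    rcases hηl with ⟨ho, -⟩ | ⟨-, h⟩
    · exact absurd hle (Nat.not_even_iff_odd.2 ho)
    · exact h
  have hDl : D = l := eq_of_dvd_of_lt_two_mul hlD hD0 (by omega)
  rw [hDl] at hkD
  obtain ⟨x, hx⟩ := hkD
  refine ⟨x, ?_, hx⟩
  have h1 : k * a = k * (x * b) := by rw [← hja, hjb, hx]; ring
  have h2 : a = x * b := Nat.eq_of_mul_eq_mul_left hk0 h1
  rw [h2] at ha
  exact (Nat.odd_mul.1 ha).1

end arith2

section factors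
variable {F : Type u} [Field F] {V : Type*} [AddCommGroup V] [Module F V] [FiniteDimensional F V]

theorem X_pow_sub_one_ne_zero {m : ℕ} (hm : 1 ≤ m) : (X ^ m - 1 : F[X]) ≠ 0 :=
  (monic_X_pow_sub_C (1 : F) (by omega)).ne_zero

theorem dual_mem_irrFactors {m : ℕ} (hm : 1 ≤ m) {f : F[X]}
    (hf : f ∈ irrFactors (X ^ m - 1 : F[X])) : dualPoly m f ∈ irrFactors (X ^ m - 1 : F[X]) :=
  mem_irrFactors_of_dvd (X_pow_sub_one_ne_zero hm)
    (dualPoly_irreducible (irrFactors_irreducible hf))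
    (dualPoly_monic (irrFactors_irreducible hf))
    (dualPoly_dvd (irrFactors_irreducible hf) (irrFactors_dvd hf))

/-- if `A ^ e ≠ 1` some irreducible factor not dividing `X ^ e - 1` occurs in `A` -/
theorem exists_factor_of_pow_ne_one (A : Module.End F V) {m e : ℕ} (hmF : (m : F) ≠ 0)
    (hAm : A ^ m = 1) (hAe : A ^ e ≠ 1) :
    ∃ f ∈ irrFactors (X ^ m - 1 : F[X]), ¬ f ∣ X ^ e - 1 ∧ 0 < kdim A f := by
  classical
  by_contra hcon
  push Not at hcon
  have hcop : ((irrFactors (X ^ m - 1 : F[X]) : Finset F[X]) : Set F[X]).Pairwise IsCoprime :=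
    irrFactors_pairwise_coprime _
  have hsplit : (∏ f ∈ (irrFactors (X ^ m - 1 : F[X])).filter (fun f => f ∣ X ^ e - 1), f) *
      (∏ f ∈ (irrFactors (X ^ m - 1 : F[X])).filter (fun f => ¬ f ∣ X ^ e - 1), f) =
      X ^ m - 1 := by
    rw [Finset.prod_filter_mul_prod_filter_not, irrFactors_X_pow_prod hmF]
  have hk0 : kdim A
      (∏ f ∈ (irrFactors (X ^ m - 1 : F[X])).filter (fun f => ¬ f ∣ X ^ e - 1), f) = 0 := by
    rw [kdim_prod A _ (hcop.mono (by
      intro x hx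
      exact Finset.mem_of_mem_filter x hx))]
    apply Finset.sum_eq_zero
    intro f hf
    rw [Finset.mem_filter] at hf
    exact Nat.le_zero.1 (hcon f hf.1 hf.2)
  have hker : LinearMap.ker (aeval A
      (∏ f ∈ (irrFactors (X ^ m - 1 : F[X])).filter (fun f => ¬ f ∣ X ^ e - 1), f)) = ⊥ :=
    Submodule.finrank_eq_zero.1 hk0
  have hdvd : (∏ f ∈ (irrFactors (X ^ m - 1 : F[X])).filter (fun f => f ∣ X ^ e - 1), f) ∣
      X ^ e - 1 := by
    apply Finset.prod_dvd_of_coprime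
    · intro a ha b hb hab
      exact hcop (Finset.mem_of_mem_filter a ha) (Finset.mem_of_mem_filter b hb) hab
    · intro f hf
      exact (Finset.mem_filter.1 hf).2
  have h0 : aeval A
      (∏ f ∈ (irrFactors (X ^ m - 1 : F[X])).filter (fun f => f ∣ X ^ e - 1), f) = 0 := by
    apply LinearMap.ext
    intro v
    have h1 : aeval A
        (∏ f ∈ (irrFactors (X ^ m - 1 : F[X])).filter (fun f => ¬ f ∣ X ^ e - 1), f)
        (aeval A
          (∏ f ∈ (irrFactors (X ^ m - 1 : F[X])).filter (fun f => f ∣ X ^ e - 1), f) v) = 0 := by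
      rw [← Module.End.mul_apply, ← map_mul, mul_comm, hsplit, aeval_X_pow_sub_one, hAm,
        sub_self]
      rfl
    exact (LinearMap.ker_eq_bot'.1 hker) _ h1
  obtain ⟨c, hc⟩ := hdvd
  apply hAe
  have h2 : aeval A (X ^ e - 1 : F[X]) = 0 := by rw [hc, map_mul, h0, zero_mul]
  rwa [aeval_X_pow_sub_one, sub_eq_zero] at h2

open scoped Classical in
/-- the contribution of a factor and its dual to the dimension -/
theorem two_eta_le_pair {m : ℕ} (hm : 1 ≤ m) (hmF : (m : F) ≠ 0) {A : Module.End F V}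
    {B : LinearMap.BilinForm F V} (hAm : A ^ m = 1) (hAB : AltInv A B) {f : F[X]}
    (hf : Irreducible f) (hmon : f.Monic) (hfm : f ∣ X ^ m - 1) (hpos : 0 < kdim A f)
    {e η : ℕ} (he : e ∣ f.natDegree) (hη : (Odd e ∧ η = e) ∨ (Even e ∧ 2 * η = e))
    (hsd : dualPoly m f = f → Even e) :
    2 * η ≤ ∑ g ∈ ({f, dualPoly m f} : Finset F[X]), kdim A g := by
  have h1 : f.natDegree ≤ kdim A f := Nat.le_of_dvd hpos (dvd_kdim A f hf)
  have h2 : e ≤ f.natDegree := Nat.le_of_dvd hf.natDegree_pos he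
  by_cases hd : dualPoly m f = f
  · rw [hd, Finset.pair_eq_singleton, Finset.sum_singleton]
    have h3 := hsd hd
    rcases hη with ⟨ho, -⟩ | ⟨-, h⟩
    · exact absurd h3 (Nat.not_even_iff_odd.2 ho)
    · omega
  · rw [Finset.sum_pair (Ne.symm hd), kdim_dual hm hmF hAm hAB hf hmon hfm]
    have := eta_le hη
    omega

theorem prime_dvd_orderOf_root {r s : ℕ} (hs : s.Prime) {f : F[X]}
    (hfm : f ∣ X ^ (r * s) - 1) (hnr : ¬ f ∣ X ^ r - 1) : s ∣ orderOf (AdjoinRoot.root f) := by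
  have h1 : orderOf (AdjoinRoot.root f) ∣ r * s :=
    orderOf_dvd_of_pow_eq_one ((dvd_X_pow_sub_one_iff _).1 hfm)
  by_contra hnd
  have hcop : Nat.Coprime (orderOf (AdjoinRoot.root f)) s :=
    (Nat.Coprime.symm ((Nat.Prime.coprime_iff_not_dvd hs).2 hnd))
  have h2 : orderOf (AdjoinRoot.root f) ∣ r := hcop.dvd_of_dvd_mul_right h1
  apply hnr
  rw [dvd_X_pow_sub_one_iff]
  exact orderOf_dvd_iff_pow_eq_one.1 h2

end factors

section main
variable {F : Type u} [Field F] [Fintype F] {V : Type*} [AddCommGroup V] [Module F V]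
  [FiniteDimensional F V]

theorem key_facts {r s : ℕ} (hr1 : 1 ≤ r) (hs : s.Prime) (hs2 : s ≠ 2) {f : F[X]}
    (hf : Irreducible f) (hfm : f ∣ X ^ (r * s) - 1) (hnr : ¬ f ∣ X ^ r - 1) :
    orderOf ((Fintype.card F : ℕ) : ZMod s) ∣ f.natDegree ∧
      ∀ j : ℕ, orderOf (AdjoinRoot.root f) ∣ Fintype.card F ^ j + 1 →
        ∃ b : ℕ, Odd b ∧ 2 * j = orderOf ((Fintype.card F : ℕ) : ZMod s) * b := by
  have hq1 : 1 ≤ Fintype.card F := Fintype.card_pos
  have hm1 : 1 ≤ r * s := Nat.mul_pos hr1 hs.pos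
  have hsd : s ∣ orderOf (AdjoinRoot.root f) := prime_dvd_orderOf_root hs hfm hnr
  constructor
  · rw [orderOf_dvd_iff_dvd_pow_sub_one hq1]
    exact hsd.trans (orderOf_dvd_of_pow_eq_one (root_pow_card_pow_sub_one hf hm1 hfm))
  · intro j hj
    exact odd_mul_of_dvd_pow_add_one hs hs2 (hsd.trans hj)

/-- an isometry of order `r s` of a symplectic space of dimension `2 n < 2 (η(k) + η(l))` exists
only if `l / k` is an odd integer -/
theorem no_isometry (A : Module.End F V) (B : LinearMap.BilinForm F V) (hAB : AltInv A B)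
    {r s : ℕ} (hr : r.Prime) (hs : s.Prime) (hr2 : r ≠ 2) (hs2 : s ≠ 2)
    (hmF : ((r * s : ℕ) : F) ≠ 0) (hAm : A ^ (r * s) = 1) (hAr : A ^ r ≠ 1) (hAs : A ^ s ≠ 1)
    {n k l ηk ηl : ℕ} (hfin : finrank F V = 2 * n)
    (hk : k = orderOf ((Fintype.card F : ℕ) : ZMod r))
    (hl : l = orderOf ((Fintype.card F : ℕ) : ZMod s)) (hk0 : 0 < k) (hl0 : 0 < l)
    (hηk : (Odd k ∧ ηk = k) ∨ (Even k ∧ 2 * ηk = k))
    (hηl : (Odd l ∧ ηl = l) ∨ (Even l ∧ 2 * ηl = l)) (hkl : ηk ≤ ηl) (hlt : n < ηk + ηl) :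
    ∃ t : ℕ, Odd t ∧ l = k * t := by
  classical
  have hm1 : 1 ≤ r * s := Nat.mul_pos hr.pos hs.pos
  obtain ⟨S, hS⟩ : ∃ S, S = irrFactors (X ^ (r * s) - 1 : F[X]) := ⟨_, rfl⟩
  have hSirr : ∀ f ∈ S, Irreducible f := fun f hf => irrFactors_irreducible (hS ▸ hf)
  have hSmon : ∀ f ∈ S, f.Monic := fun f hf => irrFactors_monic (hS ▸ hf)
  have hSdvd : ∀ f ∈ S, f ∣ X ^ (r * s) - 1 := fun f hf => irrFactors_dvd (hS ▸ hf)
  have hSdvd' : ∀ f ∈ S, f ∣ X ^ (s * r) - 1 := fun f hf => by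
    rw [mul_comm]
    exact hSdvd f hf
  have hSdual : ∀ f ∈ S, dualPoly (r * s) f ∈ S := fun f hf => by
    rw [hS] at hf ⊢
    exact dual_mem_irrFactors hm1 hf
  have hsum : 2 * n = ∑ f ∈ S, kdim A f := by
    rw [← hfin]
    apply finrank_eq_sum_kdim A S
    · rw [hS]
      exact irrFactors_pairwise_coprime _
    · rw [hS, irrFactors_X_pow_prod hmF, aeval_X_pow_sub_one, hAm, sub_self]
  have key_s := fun f (hf : f ∈ S) (hnr : ¬ f ∣ X ^ r - 1) =>
    key_facts (F := F) hr.one_lt.le hs hs2 (hSirr f hf) (hSdvd f hf) hnr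
  have key_r := fun f (hf : f ∈ S) (hns : ¬ f ∣ X ^ s - 1) =>
    key_facts (F := F) hs.one_lt.le hr hr2 (hSirr f hf) (hSdvd' f hf) hns
  rw [← hl] at key_s
  rw [← hk] at key_r
  have sdj : ∀ f ∈ S, dualPoly (r * s) f = f →
      ∃ j : ℕ, orderOf (AdjoinRoot.root f) ∣ Fintype.card F ^ j + 1 := by
    intro f hf hd
    obtain ⟨j, hj⟩ := exists_pow_of_dualPoly_eq_self (hSirr f hf) hm1 (hSdvd f hf) hd
    exact ⟨j, orderOf_dvd_of_pow_eq_one hj⟩
  -- a factor of mixed type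
  have mixed : ∀ φ ∈ S, ¬ φ ∣ X ^ r - 1 → ¬ φ ∣ X ^ s - 1 → 0 < kdim A φ →
      ∃ t : ℕ, Odd t ∧ l = k * t := by
    intro φ hφ hnr hns hpos
    obtain ⟨hlD, hsl⟩ := key_s φ hφ hnr
    obtain ⟨hkD, hsk⟩ := key_r φ hφ hns
    have hD0 : 0 < φ.natDegree := (hSirr φ hφ).natDegree_pos
    have hDk : φ.natDegree ≤ kdim A φ := Nat.le_of_dvd hpos (dvd_kdim A φ (hSirr φ hφ))
    by_cases hd : dualPoly (r * s) φ = φ
    · obtain ⟨j, hj⟩ := sdj φ hφ hd
      obtain ⟨b, hb, hjb⟩ := hsl j hj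
      obtain ⟨a, ha, hja⟩ := hsk j hj
      have hle : kdim A φ ≤ 2 * n := by
        rw [hsum]
        exact Finset.single_le_sum (f := fun f => kdim A f) (fun _ _ => Nat.zero_le _) hφ
      exact arith_sd hk0 hl0 ha hb hja hjb hηk hηl hkl hkD hlD hD0 (by omega) hlt
    · have hφ' := hSdual φ hφ
      have hle : kdim A φ + kdim A (dualPoly (r * s) φ) ≤ 2 * n := by
        rw [hsum, ← Finset.sum_pair (f := fun f => kdim A f) (Ne.symm hd)]
        apply Finset.sum_le_sum_of_subset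
        intro x hx
        rw [Finset.mem_insert, Finset.mem_singleton] at hx
        rcases hx with rfl | rfl
        · exact hφ
        · exact hφ'
      rw [kdim_dual hm1 hmF hAm hAB (hSirr φ hφ) (hSmon φ hφ) (hSdvd φ hφ)] at hle
      exact arith_nsd hk0 hl0 hηk hηl hkl hkD hlD hD0 (by omega) hlt
  obtain ⟨f1, hf1, hf1r, hf1pos⟩ := exists_factor_of_pow_ne_one A hmF hAm hAr
  obtain ⟨f2, hf2, hf2s, hf2pos⟩ := exists_factor_of_pow_ne_one A hmF hAm hAs
  rw [← hS] at hf1 hf2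
  by_cases h1s : f1 ∣ X ^ s - 1
  swap
  · exact mixed f1 hf1 hf1r h1s hf1pos
  by_cases h2r : f2 ∣ X ^ r - 1
  swap
  · exact mixed f2 hf2 h2r hf2s hf2pos
  exfalso
  have hp1 := two_eta_le_pair hm1 hmF hAm hAB (hSirr f1 hf1) (hSmon f1 hf1) (hSdvd f1 hf1) hf1pos
    (e := l) (η := ηl) (key_s f1 hf1 hf1r).1 hηl (fun hd => by
      obtain ⟨j, hj⟩ := sdj f1 hf1 hd
      obtain ⟨b, hb, hjb⟩ := (key_s f1 hf1 hf1r).2 j hj
      exact even_of_odd_mul hb hjb)
  have hp2 := two_eta_le_pair hm1 hmF hAm hAB (hSirr f2 hf2) (hSmon f2 hf2) (hSdvd f2 hf2) hf2pos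
    (e := k) (η := ηk) (key_r f2 hf2 hf2s).1 hηk (fun hd => by
      obtain ⟨j, hj⟩ := sdj f2 hf2 hd
      obtain ⟨b, hb, hjb⟩ := (key_r f2 hf2 hf2s).2 j hj
      exact even_of_odd_mul hb hjb)
  have hdisj : Disjoint ({f1, dualPoly (r * s) f1} : Finset F[X])
      {f2, dualPoly (r * s) f2} := by
    rw [Finset.disjoint_left]
    intro x hx1 hx2
    have hA1 : ¬ x ∣ X ^ r - 1 := by
      rw [Finset.mem_insert, Finset.mem_singleton] at hx1
      rcases hx1 with rfl | rfl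
      · exact hf1r
      · intro h
        apply hf1r
        have h3 := dualPoly_dvd_X_pow (dualPoly_irreducible (m := r * s) (hSirr f1 hf1)) h (r * s)
        rwa [dualPoly_dualPoly hm1 (hSirr f1 hf1) (hSmon f1 hf1) (hSdvd f1 hf1)] at h3
    have hA2 : x ∣ X ^ r - 1 := by
      rw [Finset.mem_insert, Finset.mem_singleton] at hx2
      rcases hx2 with rfl | rfl
      · exact h2r
      · exact dualPoly_dvd_X_pow (hSirr f2 hf2) h2r _
    exact hA1 hA2
  have hsub : ({f1, dualPoly (r * s) f1} : Finset F[X]) ∪ {f2, dualPoly (r * s) f2} ⊆ S := by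
    intro x hx
    rw [Finset.mem_union, Finset.mem_insert, Finset.mem_singleton, Finset.mem_insert,
      Finset.mem_singleton] at hx
    rcases hx with (rfl | rfl) | (rfl | rfl)
    · exact hf1
    · exact hSdual _ hf1
    · exact hf2
    · exact hSdual _ hf2
  have h4 := Finset.sum_le_sum_of_subset (f := fun f => kdim A f) hsub
  rw [Finset.sum_union hdisj, ← hsum] at h4
  omega

end main

section psp
variable {F : Type u} [Field F] [Fintype F] (p : ℕ) [Fact p.Prime] [CharP F p]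

open Cfsg.Agent.Helper12.PSpAdj Cfsg.Agent.Helper12.PSLAdj

theorem LS_pow' {m : ℕ} (g : Matrix.symplecticGroup (Fin m) F) (e : ℕ) :
    LS g ^ e = LS (g ^ e) := by
  unfold LS
  rw [← map_pow, SubmonoidClass.coe_pow]

theorem LS_eq_one {m : ℕ} (g : Matrix.symplecticGroup (Fin m) F) (hg : LS g = 1) : g = 1 := by
  apply Subtype.ext
  unfold LS at hg
  rw [← map_one (Matrix.toLinAlgEquiv' (R := F) (n := Fin m ⊕ Fin m))] at hg
  exact Matrix.toLinAlgEquiv'.injective hg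

theorem natCast_mul_ne_zero {r s : ℕ} (hr : r.Prime) (hs : s.Prime) (hrp : r ≠ p) (hsp : s ≠ p) :
    ((r * s : ℕ) : F) ≠ 0 := by
  rw [Nat.cast_mul]
  exact mul_ne_zero (cast_ne_zero_of_prime_ne hr hrp) (cast_ne_zero_of_prime_ne hs hsp)

theorem orderOf_natCast_pos {r : ℕ} (hr : r.Prime) (hrp : r ≠ p) :
    0 < orderOf ((Fintype.card F : ℕ) : ZMod r) := by
  haveI : Fact r.Prime := ⟨hr⟩
  have hrq : ¬ r ∣ Fintype.card F := not_dvd_card_of_ne p hr hrp
  apply orderOf_pos_iff.mpr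
  have hunit : IsUnit ((Fintype.card F : ℕ) : ZMod r) := by
    rw [isUnit_iff_ne_zero, Ne, ZMod.natCast_eq_zero_iff]
    exact hrq
  exact hunit.isOfFinOrder

/-- no element of order `r s` in `PSp_{2n}(q)` when `n < η(k) + η(l)` and `l / k` is not an odd
integer -/
theorem no_elt_PSp_rs {n : ℕ} (hn : 1 ≤ n) {r s : ℕ} (hr : r.Prime) (hs : s.Prime)
    (hr2 : r ≠ 2) (hs2 : s ≠ 2) (hrp : r ≠ p) (hsp : s ≠ p) (hrs : r ≠ s)
    {k l ηk ηl : ℕ} (hk : k = orderOf ((Fintype.card F : ℕ) : ZMod r))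
    (hl : l = orderOf ((Fintype.card F : ℕ) : ZMod s))
    (hηk : (Odd k ∧ ηk = k) ∨ (Even k ∧ 2 * ηk = k))
    (hηl : (Odd l ∧ ηl = l) ∨ (Even l ∧ 2 * ηl = l)) (hkl : ηk ≤ ηl) (hlt : n < ηk + ηl)
    (hno : ¬ ∃ t : ℕ, Odd t ∧ l = k * t)
    (y : Matrix.symplecticGroup (Fin n) F ⧸
      Subgroup.center (Matrix.symplecticGroup (Fin n) F)) : orderOf y ≠ r * s := by
  intro hy
  have hZ : ∀ c ∈ Subgroup.center (Matrix.symplecticGroup (Fin n) F), c ^ cexp p = 1 :=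
    fun c hc => center_pow_cexp p hn c hc
  have hcr : Nat.Coprime r (cexp p) := cexp_coprime p hr (fun h => absurd h hr2)
  have hcs : Nat.Coprime s (cexp p) := cexp_coprime p hs (fun h => absurd h hs2)
  have hrs1 : 1 < r * s := by
    have := hr.two_le
    have := hs.two_le
    nlinarith
  obtain ⟨u, hu1, hu2⟩ := exists_lift_pow_eq_one
    (Subgroup.center (Matrix.symplecticGroup (Fin n) F)) hZ hrs1 (Nat.Coprime.mul_left hcr hcs) y
    (by rw [← hy]; exact pow_orderOf_eq_one _)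
  have hur : u ^ r ≠ 1 := by
    intro h
    have h1 : y ^ r = 1 := by
      rw [← hu1, ← QuotientGroup.mk_pow, h]
      rfl
    have h2 := orderOf_dvd_of_pow_eq_one h1
    rw [hy] at h2
    have h3 := Nat.le_of_dvd hr.pos h2
    have := hs.two_le
    nlinarith [hr.pos]
  have hus : u ^ s ≠ 1 := by
    intro h
    have h1 : y ^ s = 1 := by
      rw [← hu1, ← QuotientGroup.mk_pow, h]
      rfl
    have h2 := orderOf_dvd_of_pow_eq_one h1
    rw [hy] at h2
    have h3 := Nat.le_of_dvd hs.pos h2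
    have := hr.two_le
    nlinarith [hs.pos]
  have hdim : Module.finrank F (Fin n ⊕ Fin n → F) = 2 * n := by
    rw [Module.finrank_fintype_fun_eq_card, Fintype.card_sum, Fintype.card_fin, two_mul]
  apply hno
  exact no_isometry (LS u) _ (LS_altInv u) hr hs hr2 hs2 (natCast_mul_ne_zero p hr hs hrp hsp)
    (LS_pow_eq_one u _ hu2)
    (fun h => hur (LS_eq_one _ (by rw [← LS_pow']; exact h)))
    (fun h => hus (LS_eq_one _ (by rw [← LS_pow']; exact h))) hdim hk hl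
    (by rw [hk]; exact orderOf_natCast_pos p hr hrp)
    (by rw [hl]; exact orderOf_natCast_pos p hs hsp) hηk hηl hkl hlt

end psp

end PSpRS
end Cfsg.Agent.Helper12
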