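import Mathlib
import Cfsg.Agent.Lib.Helper12.PSpRSNo
import Cfsg.Agent.Lib.Helper2.SympCard

/-!
# Prime graph of `PSp_{2n}(q)`: two odd primes, existence (helper12)
-/

set_option autoImplicit false

open Polynomial Module

namespace Cfsg.Agent.Helper12
namespace PSpRS

open Cfsg.Agent.Helper13.SympSS Cfsg.Agent.Helper13.SS Cfsg.Agent.Helper13.Dual
open Cfsg.Agent.Helper12.PSpAdj Cfsg.Agent.Helper12.PSLAdj

universe u

section cyc
variable {F : Type u} [Field F] [Fintype F] {p : ℕ} [Fact p.Prime] [CharP F p]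

theorem cycFactors_nonempty_of_two_le {d : ℕ} (hd : 1 ≤ d) :
    ∃ f : F[X], f ∈ cycFactors F d := by
  classical
  have h0 : cyclotomic d F ≠ 0 := cyclotomic_ne_zero d F
  have hu : ¬ IsUnit (cyclotomic d F) := by
    intro h
    have h1 := natDegree_eq_zero_of_isUnit h
    rw [natDegree_cyclotomic] at h1
    have := Nat.totient_pos.2 hd
    omega
  obtain ⟨f, hf⟩ := UniqueFactorizationMonoid.exists_mem_normalizedFactors h0 hu
  exact ⟨f, mem_cycFactors.2 hf⟩

theorem orderOf_root_of_mem_cycFactors {d : ℕ} (hdF : (d : F) ≠ 0) {f : F[X]}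
    (hf : f ∈ cycFactors F d) : orderOf (AdjoinRoot.root f) = d := by
  have hfirr := cycFactors_irreducible hf
  haveI : Fact (Irreducible f) := ⟨hfirr⟩
  haveI : NeZero (d : AdjoinRoot f) := ⟨by
    have h1 : (d : AdjoinRoot f) = AdjoinRoot.of f (d : F) := (map_natCast _ d).symm
    rw [h1]
    exact fun h => hdF ((map_eq_zero _).1 h)⟩
  have h1 : IsRoot (cyclotomic d (AdjoinRoot f)) (AdjoinRoot.root f) := by
    rw [← map_cyclotomic d (AdjoinRoot.of f)]
    exact (AdjoinRoot.isRoot_root f).dvd (Polynomial.map_dvd _ (cycFactors_dvd hf))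
  exact ((isRoot_cyclotomic_iff).1 h1).eq_orderOf.symm

theorem natDegree_of_mem_cycFactors {d q : ℕ} (hF : Fintype.card F = q) (hcop : p.Coprime d)
    {f : F[X]} (hf : f ∈ cycFactors F d) : f.natDegree = orderOf ((q : ℕ) : ZMod d) := by
  classical
  obtain ⟨k, hk, rfl⟩ := exists_card_pow (p := p) hF
  rw [natDegree_of_dvd_cyclotomic_of_irreducible hF hcop (cycFactors_dvd hf)
    (cycFactors_irreducible hf), ← orderOf_units, ZMod.coe_unitOfCoprime]

theorem cycFactors_dvd_X_pow' {d m : ℕ} (hdm : d ∣ m) (hm : 1 ≤ m) {f : F[X]}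
    (hf : f ∈ cycFactors F d) : f ∣ X ^ m - 1 := by
  have h1 : f ∣ X ^ d - 1 := (cycFactors_dvd hf).trans (cyclotomic.dvd_X_pow_sub_one d F)
  rw [dvd_X_pow_sub_one_iff] at h1 ⊢
  obtain ⟨c, rfl⟩ := hdm
  rw [pow_mul, h1, one_pow]

end cyc

section blocks
variable {F : Type u} [Field F] [Fintype F]

theorem root_pow_ne_root_of_odd {m : ℕ} (hmodd : Odd m) {f : F[X]} (hfm : f ∣ X ^ m - 1)
    (hord : orderOf (AdjoinRoot.root f) ≠ 1) :
    AdjoinRoot.root f ^ (m - 1) ≠ AdjoinRoot.root f := by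
  intro h
  have hm1 : 1 ≤ m := hmodd.pos
  have h1 : AdjoinRoot.root f * AdjoinRoot.root f = 1 := by
    have := root_mul_inv hm1 hfm
    rwa [h] at this
  have h2 : orderOf (AdjoinRoot.root f) ∣ 2 :=
    orderOf_dvd_of_pow_eq_one (by rw [pow_two]; exact h1)
  have h3 : orderOf (AdjoinRoot.root f) ∣ m :=
    orderOf_dvd_of_pow_eq_one ((dvd_X_pow_sub_one_iff m).1 hfm)
  have h4 : orderOf (AdjoinRoot.root f) ∣ Nat.gcd 2 m := Nat.dvd_gcd h2 h3
  have h5 : Nat.gcd 2 m = 1 := (Nat.coprime_two_left).2 hmodd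
  rw [h5, Nat.dvd_one] at h4
  exact hord h4

/-- the symplectic block containing an irreducible factor -/
theorem exists_block_le {m : ℕ} (hmodd : Odd m) {d : ℕ} (hd1 : d ≠ 1) {f : F[X]}
    (hfirr : Irreducible f) (hfmon : f.Monic) (hfm : f ∣ X ^ m - 1)
    (hord : orderOf (AdjoinRoot.root f) = d) {e η : ℕ} (hdeg : f.natDegree = e)
    (hη : (Odd e ∧ η = e) ∨ (Even e ∧ 2 * η = e))
    (hhalf : Even e → d ∣ Fintype.card F ^ η + 1) :
    ∃ Q : F[X], SReal m Q ∧ f ∣ Q ∧ Q.natDegree ≤ 2 * η := by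
  have hm1 : 1 ≤ m := hmodd.pos
  rcases hη with ⟨-, hη⟩ | ⟨heven, hη⟩
  · refine ⟨f * dualPoly m f, sreal_pair hm1 hfirr hfmon hfm, dvd_mul_right _ _, ?_⟩
    rw [Polynomial.Monic.natDegree_mul hfmon (dualPoly_monic hfirr),
      natDegree_dualPoly hm1 hfirr hfmon hfm, hdeg, hη]
    omega
  · have hpow : AdjoinRoot.root f ^ (Fintype.card F ^ η + 1) = 1 := by
      obtain ⟨c, hc⟩ := hhalf heven
      rw [hc, pow_mul, ← hord, pow_orderOf_eq_one, one_pow]
    have hsd : dualPoly m f = f := dualPoly_eq_self_of_pow hfirr hfmon hm1 hfm hpow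
    refine ⟨f, sreal_selfdual hm1 hfirr hfmon hfm hsd
      (root_pow_ne_root_of_odd hmodd hfm (by rw [hord]; exact hd1)), dvd_rfl, ?_⟩
    rw [hdeg, hη]

/-- pad a realisable polynomial to the full dimension -/
theorem exists_Sp_of_sreal {m n : ℕ} {Q : F[X]} (hQ : SReal m Q) (hdeg : Q.natDegree ≤ 2 * n) :
    ∃ g : Matrix.symplecticGroup (Fin n) F, g ^ m = 1 ∧
      Q ∣ (g : Matrix (Fin n ⊕ Fin n) (Fin n ⊕ Fin n) F).charpoly := by
  obtain ⟨j, hj⟩ := hQ.even_natDegree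
  have hsc : SReal m ((X - C (1 : F)) ^ 2) := sreal_scalar 1 (by ring) (one_pow m)
  obtain ⟨P, hPdef⟩ : ∃ P, P = Q * ((X - C (1 : F)) ^ 2) ^ (n - j) := ⟨_, rfl⟩
  have hP : SReal m P := hPdef ▸ sreal_mul hQ (sreal_pow hsc (n - j))
  have hPdeg : P.natDegree = 2 * n := by
    have hm2 : ((X - C (1 : F)) ^ 2).Monic := (monic_X_sub_C 1).pow 2
    rw [hPdef, Polynomial.Monic.natDegree_mul hQ.monic (hm2.pow _), hj,
      Polynomial.Monic.natDegree_pow hm2, Polynomial.Monic.natDegree_pow (monic_X_sub_C 1),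
      natDegree_X_sub_C]
    omega
  obtain ⟨g, hgr, hgc⟩ := hP.exists_matrix n hPdeg
  refine ⟨g, hgr, ?_⟩
  rw [hgc, hPdef]
  exact dvd_mul_right _ _

/-- the order of the root of an irreducible factor of the characteristic polynomial divides the
order of the element -/
theorem orderOf_root_dvd_orderOf {m n : ℕ} (hmF : (m : F) ≠ 0)
    (g : Matrix.symplecticGroup (Fin n) F) (hg : g ^ m = 1) {f : F[X]} (hf : Irreducible f)
    (hfc : f ∣ (g : Matrix (Fin n ⊕ Fin n) (Fin n ⊕ Fin n) F).charpoly) :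
    orderOf (AdjoinRoot.root f) ∣ orderOf g := by
  have ho : orderOf g ∣ m := orderOf_dvd_of_pow_eq_one hg
  have hoF : ((orderOf g : ℕ) : F) ≠ 0 := by
    obtain ⟨c, hc⟩ := ho
    intro h
    apply hmF
    rw [hc, Nat.cast_mul, h, zero_mul]
  rw [← LS_charpoly] at hfc
  have h1 := dvd_X_pow_of_dvd_charpoly (LS g) hoF (LS_pow_eq_one g _ (pow_orderOf_eq_one g)) hf hfc
  exact orderOf_dvd_of_pow_eq_one ((dvd_X_pow_sub_one_iff _).1 h1)

end blocks

section arith3

theorem orderOf_natCast_mul_of_dvd {q r s : ℕ} (hq : 1 ≤ q) (hcop : Nat.Coprime r s)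
    (hkl : orderOf ((q : ℕ) : ZMod r) ∣ orderOf ((q : ℕ) : ZMod s)) :
    orderOf ((q : ℕ) : ZMod (r * s)) = orderOf ((q : ℕ) : ZMod s) := by
  apply Nat.dvd_antisymm
  · rw [orderOf_dvd_iff_dvd_pow_sub_one hq]
    apply Nat.Coprime.mul_dvd_of_dvd_of_dvd hcop
    · exact (orderOf_dvd_iff_dvd_pow_sub_one hq).1 hkl
    · exact (orderOf_dvd_iff_dvd_pow_sub_one hq).1 dvd_rfl
  · rw [orderOf_dvd_iff_dvd_pow_sub_one hq]
    exact (dvd_mul_left s r).trans ((orderOf_dvd_iff_dvd_pow_sub_one hq).1 dvd_rfl)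

end arith3

section exist
variable {F : Type u} [Field F] [Fintype F] (p : ℕ) [Fact p.Prime] [CharP F p]

/-- an element of order `r s` in `Sp_{2n}(q)` -/
theorem exists_elt_Sp_rs {n : ℕ} {r s : ℕ} (hr : r.Prime) (hs : s.Prime) (hr2 : r ≠ 2)
    (hs2 : s ≠ 2) (hrp : r ≠ p) (hsp : s ≠ p) (hrs : r ≠ s) {k l ηk ηl : ℕ}
    (hk : k = orderOf ((Fintype.card F : ℕ) : ZMod r))
    (hl : l = orderOf ((Fintype.card F : ℕ) : ZMod s))
    (hηk : (Odd k ∧ ηk = k) ∨ (Even k ∧ 2 * ηk = k))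
    (hηl : (Odd l ∧ ηl = l) ∨ (Even l ∧ 2 * ηl = l)) (hηln : ηl ≤ n)
    (hcase : ηk + ηl ≤ n ∨ ∃ t : ℕ, Odd t ∧ l = k * t) :
    ∃ g : Matrix.symplecticGroup (Fin n) F, orderOf g = r * s := by
  classical
  have hp : p.Prime := Fact.out
  have hq1 : 1 ≤ Fintype.card F := Fintype.card_pos
  have hmodd : Odd (r * s) := (hr.odd_of_ne_two hr2).mul (hs.odd_of_ne_two hs2)
  have hm1 : 1 ≤ r * s := hmodd.pos
  have hmF : ((r * s : ℕ) : F) ≠ 0 := natCast_mul_ne_zero p hr hs hrp hsp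
  have hcop : Nat.Coprime r s := (Nat.coprime_primes hr hs).2 hrs
  have hk0 : 0 < orderOf ((Fintype.card F : ℕ) : ZMod r) := orderOf_natCast_pos p hr hrp
  have hl0 : 0 < orderOf ((Fintype.card F : ℕ) : ZMod s) := orderOf_natCast_pos p hs hsp
  have hrF : (r : F) ≠ 0 := cast_ne_zero_of_prime_ne hr hrp
  have hsF : (s : F) ≠ 0 := cast_ne_zero_of_prime_ne hs hsp
  have hpr : p.Coprime r := (Nat.coprime_primes hp hr).2 (Ne.symm hrp)
  have hps : p.Coprime s := (Nat.coprime_primes hp hs).2 (Ne.symm hsp)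
  -- the halves
  have halfr : Even k → r ∣ Fintype.card F ^ ηk + 1 := by
    intro he
    rcases hηk with ⟨ho, -⟩ | ⟨-, h⟩
    · exact absurd he (Nat.not_even_iff_odd.2 ho)
    · exact dvd_pow_half_add_one hr hk0 (by rw [← hk, h])
  have halfs : Even l → s ∣ Fintype.card F ^ ηl + 1 := by
    intro he
    rcases hηl with ⟨ho, -⟩ | ⟨-, h⟩
    · exact absurd he (Nat.not_even_iff_odd.2 ho)
    · exact dvd_pow_half_add_one hs hl0 (by rw [← hl, h])
  rcases hcase with hA | ⟨t, ht, hlt⟩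
  · obtain ⟨fr, hfr⟩ := cycFactors_nonempty_of_two_le (F := F) (d := r) hr.one_lt.le
    obtain ⟨fs, hfs⟩ := cycFactors_nonempty_of_two_le (F := F) (d := s) hs.one_lt.le
    have hordr := orderOf_root_of_mem_cycFactors hrF hfr
    have hords := orderOf_root_of_mem_cycFactors hsF hfs
    obtain ⟨Qr, hQr, hfQr, hQrdeg⟩ := exists_block_le hmodd (d := r) hr.ne_one
      (cycFactors_irreducible hfr) (cycFactors_monic hfr)
      (cycFactors_dvd_X_pow' (dvd_mul_right r s) hm1 hfr) hordr (e := k) (η := ηk)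
      (by rw [hk]; exact natDegree_of_mem_cycFactors (p := p) rfl hpr hfr) hηk halfr
    obtain ⟨Qs, hQs, hfQs, hQsdeg⟩ := exists_block_le hmodd (d := s) hs.ne_one
      (cycFactors_irreducible hfs) (cycFactors_monic hfs)
      (cycFactors_dvd_X_pow' (dvd_mul_left s r) hm1 hfs) hords (e := l) (η := ηl)
      (by rw [hl]; exact natDegree_of_mem_cycFactors (p := p) rfl hps hfs) hηl halfs
    obtain ⟨g, hg, hQg⟩ := exists_Sp_of_sreal (n := n) (sreal_mul hQr hQs) (by
      rw [Polynomial.Monic.natDegree_mul hQr.monic hQs.monic]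
      omega)
    have h1 : r ∣ orderOf g := by
      rw [← hordr]
      exact orderOf_root_dvd_orderOf hmF g hg (cycFactors_irreducible hfr)
        ((hfQr.trans (dvd_mul_right _ _)).trans hQg)
    have h2 : s ∣ orderOf g := by
      rw [← hords]
      exact orderOf_root_dvd_orderOf hmF g hg (cycFactors_irreducible hfs)
        ((hfQs.trans (dvd_mul_left _ _)).trans hQg)
    exact ⟨g, Nat.dvd_antisymm (orderOf_dvd_of_pow_eq_one hg)
      (hcop.mul_dvd_of_dvd_of_dvd h1 h2)⟩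
  · have hkl : orderOf ((Fintype.card F : ℕ) : ZMod r) ∣
        orderOf ((Fintype.card F : ℕ) : ZMod s) := by
      rw [← hk, ← hl, hlt]
      exact dvd_mul_right _ _
    obtain ⟨φ, hφ⟩ := cycFactors_nonempty_of_two_le (F := F) (d := r * s) hm1
    have hord := orderOf_root_of_mem_cycFactors hmF hφ
    have hdeg : φ.natDegree = l := by
      rw [natDegree_of_mem_cycFactors (p := p) rfl (Nat.Coprime.mul_right hpr hps) hφ,
        orderOf_natCast_mul_of_dvd hq1 hcop hkl, hl]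
    have hrs1 : r * s ≠ 1 := by
      have := hr.two_le
      have := hs.two_le
      nlinarith
    obtain ⟨Q, hQ, hφQ, hQdeg⟩ := exists_block_le hmodd (d := r * s) hrs1
      (cycFactors_irreducible hφ) (cycFactors_monic hφ)
      (cycFactors_dvd_X_pow' dvd_rfl hm1 hφ) hord hdeg hηl (fun he => by
        have h1 := halfs he
        have hke : Even k := by
          rw [hlt] at he
          rcases Nat.even_mul.1 he with h | h
          · exact h
          · exact absurd h (Nat.not_even_iff_odd.2 ht)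
        have h2 := halfr hke
        have h3 : ηl = ηk * t := by
          rcases hηl with ⟨ho, -⟩ | ⟨-, h2l⟩
          · exact absurd he (Nat.not_even_iff_odd.2 ho)
          · rcases hηk with ⟨ho, -⟩ | ⟨-, h2k⟩
            · exact absurd hke (Nat.not_even_iff_odd.2 ho)
            · have : 2 * ηl = 2 * (ηk * t) := by rw [h2l, hlt, ← h2k]; ring
              omega
        have h4 : r ∣ Fintype.card F ^ ηl + 1 := by
          rw [h3]
          exact dvd_pow_mul_add_one ht h2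
        exact hcop.mul_dvd_of_dvd_of_dvd h4 h1)
    obtain ⟨g, hg, hQg⟩ := exists_Sp_of_sreal (n := n) hQ (by omega)
    have h5 := orderOf_root_dvd_orderOf hmF g hg (cycFactors_irreducible hφ) (hφQ.trans hQg)
    rw [hord] at h5
    exact ⟨g, Nat.dvd_antisymm (orderOf_dvd_of_pow_eq_one hg) h5⟩

/-- the same in `PSp` -/
theorem exists_elt_PSp_rs {n : ℕ} (hn : 1 ≤ n) {r s : ℕ} (hr : r.Prime) (hs : s.Prime)
    (hr2 : r ≠ 2) (hs2 : s ≠ 2) (hrp : r ≠ p) (hsp : s ≠ p) (hrs : r ≠ s) {k l ηk ηl : ℕ}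
    (hk : k = orderOf ((Fintype.card F : ℕ) : ZMod r))
    (hl : l = orderOf ((Fintype.card F : ℕ) : ZMod s))
    (hηk : (Odd k ∧ ηk = k) ∨ (Even k ∧ 2 * ηk = k))
    (hηl : (Odd l ∧ ηl = l) ∨ (Even l ∧ 2 * ηl = l)) (hηln : ηl ≤ n)
    (hcase : ηk + ηl ≤ n ∨ ∃ t : ℕ, Odd t ∧ l = k * t) :
    ∃ y : Matrix.symplecticGroup (Fin n) F ⧸
      Subgroup.center (Matrix.symplecticGroup (Fin n) F), orderOf y = r * s := by
  obtain ⟨y, hy⟩ := exists_elt_Sp_rs p hr hs hr2 hs2 hrp hsp hrs hk hl hηk hηl hηln hcase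
  refine ⟨(y : Matrix.symplecticGroup (Fin n) F ⧸
      Subgroup.center (Matrix.symplecticGroup (Fin n) F)), ?_⟩
  rw [orderOf_mk_of_coprime _ (fun c hc => center_pow_cexp p hn c hc) y
    (by rw [hy]; exact Nat.mul_pos hr.pos hs.pos), hy]
  rw [hy]
  exact Nat.Coprime.mul_left (cexp_coprime p hr (fun h => absurd h hr2))
    (cexp_coprime p hs (fun h => absurd h hs2))

end exist

end PSpRS
end Cfsg.Agent.Helper12
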