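import Mathlib

namespace Cfsg.Agent.Helper12.RedSyl

open Matrix

section basic

variable {F : Type*} [Field F] {p : ℕ} [NeZero p]

/-- Monomial matrix `diag d * S^j`, where `S` is the cyclic shift. -/
def mono (j : Fin p) (d : Fin p → F) : Matrix (Fin p) (Fin p) F :=
  fun k l => if l = k + j then d k else 0

omit [NeZero p] in
lemma mono_apply (j : Fin p) (d : Fin p → F) (k l : Fin p) :
    mono j d k l = if l = k + j then d k else 0 := rfl

lemma mono_mul (j j' : Fin p) (d d' : Fin p → F) :
    mono j d * mono j' d' = mono (j + j') (fun k => d k * d' (k + j)) := by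
  ext k l
  simp only [Matrix.mul_apply, mono_apply]
  rw [Finset.sum_eq_single (k + j)]
  · simp [add_assoc]
  · intro m _ hm
    simp [hm]
  · simp

lemma mono_zero_one : mono (0 : Fin p) (fun _ => (1 : F)) = 1 := by
  ext k l
  simp only [mono_apply, add_zero, Matrix.one_apply]
  by_cases h : k = l
  · simp [h]
  · have : ¬ l = k := fun h' => h h'.symm
    simp [h, this]

lemma mono_zero_eq_diagonal (d : Fin p → F) : mono (0 : Fin p) d = Matrix.diagonal d := by
  ext k l
  simp only [mono_apply, add_zero, Matrix.diagonal_apply]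
  by_cases h : k = l
  · simp [h]
  · have : ¬ l = k := fun h' => h h'.symm
    simp [h, this]

lemma mono_injective {j j' : Fin p} {d d' : Fin p → F} (hd : ∀ k, d k ≠ 0)
    (h : mono j d = mono j' d') : j = j' ∧ d = d' := by
  have hj : j = j' := by
    have h0 := congrFun (congrFun h 0) (0 + j)
    simp only [mono_apply, if_true] at h0
    by_contra hne
    have : ¬ (0 + j = 0 + j') := by simpa using hne
    rw [if_neg this] at h0
    exact hd 0 h0
  subst hj
  refine ⟨rfl, ?_⟩
  funext k
  have h0 := congrFun (congrFun h k) (k + j)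
  simpa [mono_apply] using h0

lemma mono_mul_inv (j : Fin p) (d : Fin p → F) (hd : ∀ k, d k ≠ 0) :
    mono j d * mono (-j) (fun k => (d (k - j))⁻¹) = 1 := by
  rw [mono_mul, ← mono_zero_one]
  congr 1
  · simp
  · funext k
    simp [hd k]

lemma mono_inv_mul (j : Fin p) (d : Fin p → F) (hd : ∀ k, d k ≠ 0) :
    mono (-j) (fun k => (d (k - j))⁻¹) * mono j d = 1 := by
  rw [mono_mul, ← mono_zero_one]
  congr 1
  · simp
  · funext k
    have : k + -j = k - j := (sub_eq_add_neg k j).symm
    simp [this, hd (k - j)]

end basic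

end Cfsg.Agent.Helper12.RedSyl
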