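import Mathlib
import Cfsg.Agent.Lib.Helper12.RedSylA

namespace Cfsg.Agent.Helper12.RedSyl

open Matrix

section Qdef

variable (F : Type*) [Field F] (p : ℕ) [NeZero p]

/-- The monomial subgroup `μ_p ≀ C_p` of `GL_p(F)`. -/
def Qsub : Subgroup (GL (Fin p) F) where
  carrier := {g | ∃ (j : Fin p) (d : Fin p → F), (∀ i, d i ^ p = 1) ∧
    (g : Matrix (Fin p) (Fin p) F) = mono j d}
  mul_mem' := by
    rintro a b ⟨j, d, hd, ha⟩ ⟨j', d', hd', hb⟩
    refine ⟨j + j', fun k => d k * d' (k + j), fun i => by rw [mul_pow, hd, hd', one_mul], ?_⟩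
    rw [Units.val_mul, ha, hb, mono_mul]
  one_mem' := ⟨0, fun _ => 1, fun _ => one_pow _, by rw [Units.val_one, mono_zero_one]⟩
  inv_mem' := by
    rintro a ⟨j, d, hd, ha⟩
    have hd0 : ∀ k, d k ≠ 0 := fun k h => by
      have := hd k
      rw [h, zero_pow (NeZero.ne p)] at this
      exact zero_ne_one this
    refine ⟨-j, fun k => (d (k - j))⁻¹, fun i => by rw [inv_pow, hd, inv_one], ?_⟩
    apply Units.inv_eq_of_mul_eq_one_right
    rw [ha]
    exact mono_mul_inv j d hd0

variable {F p}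

lemma mem_Qsub_iff {g : GL (Fin p) F} : g ∈ Qsub F p ↔
    ∃ (j : Fin p) (d : Fin p → F), (∀ i, d i ^ p = 1) ∧
      (g : Matrix (Fin p) (Fin p) F) = mono j d := Iff.rfl

lemma ne_zero_of_pow_eq_one {a : F} (h : a ^ p = 1) : a ≠ 0 := by
  intro h0
  rw [h0, zero_pow (NeZero.ne p)] at h
  exact zero_ne_one h

/-- The element of `GL` given by a monomial matrix with root-of-unity entries. -/
def toGL (j : Fin p) (d : Fin p → {a : F // a ^ p = 1}) : GL (Fin p) F :=
  ⟨mono j (fun k => (d k).1), mono (-j) (fun k => ((d (k - j)).1)⁻¹),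
    mono_mul_inv j (fun k => (d k).1) (fun k => ne_zero_of_pow_eq_one (d k).2),
    mono_inv_mul j (fun k => (d k).1) (fun k => ne_zero_of_pow_eq_one (d k).2)⟩

lemma toGL_val (j : Fin p) (d : Fin p → {a : F // a ^ p = 1}) :
    ((toGL j d : GL (Fin p) F) : Matrix (Fin p) (Fin p) F) = mono j (fun k => (d k).1) := rfl

lemma toGL_mem (j : Fin p) (d : Fin p → {a : F // a ^ p = 1}) : toGL j d ∈ Qsub F p :=
  ⟨j, fun k => (d k).1, fun k => (d k).2, rfl⟩

lemma card_roots {ζ : F} (hζ : IsPrimitiveRoot ζ p) : Nat.card {a : F // a ^ p = 1} = p := by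
  classical
  have e : {a : F // a ^ p = 1} ≃ ↥(Polynomial.nthRootsFinset p (1 : F)) :=
    Equiv.subtypeEquivRight (fun a => (Polynomial.mem_nthRootsFinset (NeZero.pos p) _).symm)
  rw [Nat.card_congr e, Nat.card_eq_fintype_card, Fintype.card_coe, hζ.card_nthRootsFinset]

lemma card_Qsub {ζ : F} (hζ : IsPrimitiveRoot ζ p) : Nat.card (Qsub F p) = p ^ (p + 1) := by
  classical
  let f : Fin p × (Fin p → {a : F // a ^ p = 1}) → Qsub F p :=
    fun x => ⟨toGL x.1 x.2, toGL_mem x.1 x.2⟩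
  have hf : Function.Bijective f := by
    constructor
    · rintro ⟨j, d⟩ ⟨j', d'⟩ h
      have h1 : (toGL j d : GL (Fin p) F) = toGL j' d' := congrArg Subtype.val h
      have h2 : mono j (fun k => (d k).1) = mono j' (fun k => (d' k).1) := by
        rw [← toGL_val, ← toGL_val, h1]
      obtain ⟨hj, hd⟩ := mono_injective (fun k => ne_zero_of_pow_eq_one (d k).2) h2
      subst hj
      congr 1
      funext k
      exact Subtype.ext (congrFun hd k)
    · rintro ⟨g, j, d, hd, hg⟩
      refine ⟨(j, fun k => ⟨d k, hd k⟩), ?_⟩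
      apply Subtype.ext
      apply Units.ext
      exact hg.symm
  rw [← Nat.card_congr (Equiv.ofBijective f hf), Nat.card_prod, Nat.card_fun, card_roots hζ,
    Nat.card_fin, pow_succ, mul_comm]

end Qdef

end Cfsg.Agent.Helper12.RedSyl
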