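import Mathlib
import Cfsg.Agent.Lib.Helper12.RedSylB

namespace Cfsg.Agent.Helper12.RedSyl

open Matrix

section sylow

variable {F : Type*} [Field F] [Fintype F] {p : ℕ} [Fact p.Prime]

lemma exists_primitive_root (h1 : p ∣ Fintype.card F - 1) : ∃ ζ : F, IsPrimitiveRoot ζ p := by
  classical
  have hcard : Nat.card Fˣ = Fintype.card F - 1 := by
    rw [Nat.card_eq_fintype_card, Fintype.card_units]
  obtain ⟨x, hx⟩ := exists_prime_orderOf_dvd_card' (G := Fˣ) p (by rw [hcard]; exact h1)
  refine ⟨(x : F), ?_⟩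
  rw [IsPrimitiveRoot.coe_units_iff, ← hx]
  exact IsPrimitiveRoot.orderOf x

lemma padic_q_sub_one (h1 : p ∣ Fintype.card F - 1) (h2 : ¬ p ^ 2 ∣ Fintype.card F - 1) :
    padicValNat p (Fintype.card F - 1) = 1 := by
  have hq : Fintype.card F - 1 ≠ 0 := by
    have := Fintype.one_lt_card (α := F)
    omega
  have ha : 1 ≤ padicValNat p (Fintype.card F - 1) := one_le_padicValNat_of_dvd hq h1
  have hb : ¬ 2 ≤ padicValNat p (Fintype.card F - 1) := by
    intro h
    exact h2 ((padicValNat_dvd_iff_le hq).2 h)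
  omega

lemma not_dvd_q (h1 : p ∣ Fintype.card F - 1) : ¬ p ∣ Fintype.card F := by
  intro h
  have hq := Fintype.one_lt_card (α := F)
  have : p ∣ 1 := by
    have h3 : p ∣ Fintype.card F - (Fintype.card F - 1) := Nat.dvd_sub h h1
    have h4 : Fintype.card F - (Fintype.card F - 1) = 1 := by omega
    rwa [h4] at h3
  exact (Fact.out : p.Prime).one_lt.ne' (Nat.dvd_one.1 this)

lemma factorization_card_GL (hp : p ≠ 2) (h1 : p ∣ Fintype.card F - 1)
    (h2 : ¬ p ^ 2 ∣ Fintype.card F - 1) :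
    (Nat.card (GL (Fin p) F)).factorization p = p + 1 := by
  have hpp : p.Prime := Fact.out
  have hodd : Odd p := hpp.odd_of_ne_two hp
  have hq := Fintype.one_lt_card (α := F)
  rw [Matrix.card_GL_field, Nat.factorization_prod]
  swap
  · intro i _
    have : Fintype.card F ^ (i : ℕ) < Fintype.card F ^ p :=
      Nat.pow_lt_pow_right hq i.2
    omega
  rw [Finsupp.finsetSum_apply]
  have key : ∀ i : Fin p, (Fintype.card F ^ p - Fintype.card F ^ (i : ℕ)).factorization p
      = 1 + if (i : ℕ) = 0 then 1 else 0 := by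
    intro i
    have hi : (i : ℕ) < p := i.2
    have e1 : Fintype.card F ^ p - Fintype.card F ^ (i : ℕ)
        = Fintype.card F ^ (i : ℕ) * (Fintype.card F ^ (p - i) - 1 ^ (p - i)) := by
      rw [one_pow, Nat.mul_sub, mul_one, ← pow_add]
      congr 2
      omega
    have hne1 : Fintype.card F ^ (i : ℕ) ≠ 0 := by positivity
    have hne2 : Fintype.card F ^ (p - i) - 1 ^ (p - i) ≠ 0 := by
      rw [one_pow]
      have : 1 < Fintype.card F ^ (p - (i : ℕ)) := Nat.one_lt_pow (by omega) hq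
      omega
    rw [e1, Nat.factorization_mul hne1 hne2, Finsupp.add_apply, Nat.factorization_pow,
      Finsupp.smul_apply, Nat.factorization_eq_zero_of_not_dvd (not_dvd_q h1), smul_zero, zero_add,
      Nat.factorization_def _ hpp,
      padicValNat.pow_sub_pow hodd hq h1 (not_dvd_q h1) (by omega : p - (i : ℕ) ≠ 0),
      padic_q_sub_one h1 h2]
    congr 1
    by_cases h0 : (i : ℕ) = 0
    · rw [if_pos h0, h0, Nat.sub_zero, padicValNat_self]
    · rw [if_neg h0]
      apply padicValNat.eq_zero_of_not_dvd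
      intro hd
      have := Nat.le_of_dvd (by omega) hd
      omega
  rw [Finset.sum_congr rfl (fun i _ => key i), Finset.sum_add_distrib, Finset.sum_const,
    Finset.card_univ, Fintype.card_fin, smul_eq_mul, mul_one]
  congr 1
  have : NeZero p := ⟨hpp.ne_zero⟩
  rw [Finset.sum_eq_single (0 : Fin p)]
  · simp
  · intro i _ hi
    have : (i : ℕ) ≠ 0 := fun h => hi (Fin.ext (by simpa using h))
    rw [if_neg this]
  · intro h
    exact absurd (Finset.mem_univ _) h

/-- The monomial subgroup as a Sylow `p`-subgroup. -/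
noncomputable def QSyl (hp : p ≠ 2) (h1 : p ∣ Fintype.card F - 1)
    (h2 : ¬ p ^ 2 ∣ Fintype.card F - 1) : Sylow p (GL (Fin p) F) :=
  haveI : NeZero p := ⟨(Fact.out : p.Prime).ne_zero⟩
  Sylow.ofCard (Qsub F p) (by
    obtain ⟨ζ, hζ⟩ := exists_primitive_root (F := F) h1
    rw [card_Qsub hζ, factorization_card_GL hp h1 h2])

lemma coe_QSyl (hp : p ≠ 2) (h1 : p ∣ Fintype.card F - 1)
    (h2 : ¬ p ^ 2 ∣ Fintype.card F - 1) :
    haveI : NeZero p := ⟨(Fact.out : p.Prime).ne_zero⟩
    ((QSyl hp h1 h2 : Sylow p (GL (Fin p) F)) : Subgroup (GL (Fin p) F)) = Qsub F p := rfl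

end sylow

end Cfsg.Agent.Helper12.RedSyl
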