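import Mathlib
import Cfsg.Agent.Lib.Helper12.RedSylB

namespace Cfsg.Agent.Helper12.RedSyl

open Matrix

section normalizer

variable {F : Type*} [Field F] {p : ℕ} [NeZero p]

/-- Diagonal test function: `η` at position `k₀` and `1` elsewhere. -/
def dtest (k₀ : Fin p) (η : F) (hη : η ^ p = 1) : Fin p → {a : F // a ^ p = 1} :=
  fun k => if k = k₀ then ⟨η, hη⟩ else ⟨1, one_pow p⟩

lemma dtest_val (k₀ : Fin p) (η : F) (hη : η ^ p = 1) (k : Fin p) :
    (dtest k₀ η hη k).1 = if k = k₀ then η else 1 := by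
  unfold dtest
  split_ifs <;> rfl

lemma trace_mono_of_ne {j : Fin p} (hj : j ≠ 0) (d : Fin p → F) : Matrix.trace (mono j d) = 0 := by
  unfold Matrix.trace
  apply Finset.sum_eq_zero
  intro k _
  rw [Matrix.diag_apply, mono_apply, if_neg]
  intro h
  apply hj
  have : k + 0 = k + j := by rw [add_zero]; exact h
  exact (add_left_cancel this).symm

lemma trace_dtest (k₀ : Fin p) (η : F) (hη : η ^ p = 1) :
    Matrix.trace (mono (0 : Fin p) (fun k => (dtest k₀ η hη k).1)) = (p : F) - 1 + η := by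
  classical
  unfold Matrix.trace
  simp only [Matrix.diag_apply, mono_apply, add_zero, if_true, dtest_val]
  rw [Finset.sum_ite, Finset.sum_const, Finset.sum_const]
  have h1 : (Finset.univ.filter (fun k : Fin p => k = k₀)) = {k₀} := by
    ext k; simp
  have h2 : (Finset.univ.filter (fun k : Fin p => ¬ k = k₀)).card = p - 1 := by
    rw [Finset.filter_not, Finset.card_sdiff_of_subset (Finset.subset_univ _), h1]
    simp
  rw [h1, h2, Finset.card_singleton, one_smul, nsmul_eq_mul, mul_one,
    Nat.cast_sub (NeZero.one_le), Nat.cast_one]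
  ring

lemma mul_mono_zero_apply (A : Matrix (Fin p) (Fin p) F) (d : Fin p → F) (k l : Fin p) :
    (A * mono (0 : Fin p) d) k l = A k l * d l := by
  rw [mono_zero_eq_diagonal, Matrix.mul_diagonal]

lemma mono_zero_mul_apply (A : Matrix (Fin p) (Fin p) F) (d : Fin p → F) (k l : Fin p) :
    (mono (0 : Fin p) d * A) k l = d k * A k l := by
  rw [mono_zero_eq_diagonal, Matrix.diagonal_mul]

/-- An element of `GL_p(F)` having a column with two nonzero entries does not normalize the
monomial subgroup. -/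
lemma not_mem_of_col {η : F} (hη : η ^ p = 1) (hη1 : η ≠ 1) (htr : (p : F) - 1 + η ≠ 0)
    (g : GL (Fin p) F) {k₀ r₁ r₂ : Fin p} (hr : r₁ ≠ r₂)
    (h1 : (g : Matrix (Fin p) (Fin p) F) r₁ k₀ ≠ 0)
    (h2 : (g : Matrix (Fin p) (Fin p) F) r₂ k₀ ≠ 0) :
    g * toGL 0 (dtest k₀ η hη) * g⁻¹ ∉ Qsub F p := by
  rintro ⟨j', d', hd', hh⟩
  by_cases hj : j' = 0
  · subst hj
    -- g * t = diag d' * g
    have hcomm : (g : Matrix (Fin p) (Fin p) F) * mono (0 : Fin p) (fun k => (dtest k₀ η hη k).1)
        = mono (0 : Fin p) d' * (g : Matrix (Fin p) (Fin p) F) := by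
      rw [← hh, ← toGL_val, ← Units.val_mul, ← Units.val_mul]
      congr 1
      group
    have hent : ∀ k l, (g : Matrix (Fin p) (Fin p) F) k l * (if l = k₀ then η else 1)
        = d' k * (g : Matrix (Fin p) (Fin p) F) k l := by
      intro k l
      have := congrFun (congrFun hcomm k) l
      rw [mul_mono_zero_apply, mono_zero_mul_apply, dtest_val] at this
      exact this
    have hrow : ∀ r, (g : Matrix (Fin p) (Fin p) F) r k₀ ≠ 0 → ∀ l, l ≠ k₀ →
        (g : Matrix (Fin p) (Fin p) F) r l = 0 := by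
      intro r hr0 l hl
      have e1 := hent r k₀
      rw [if_pos rfl, mul_comm] at e1
      have hd : d' r = η := (mul_right_cancel₀ hr0 e1).symm
      have e2 := hent r l
      rw [if_neg hl, mul_one, hd] at e2
      by_contra hne
      have : (1 : F) * (g : Matrix (Fin p) (Fin p) F) r l = η * (g : Matrix (Fin p) (Fin p) F) r l := by
        rw [one_mul]; exact e2
      exact hη1 (mul_right_cancel₀ hne this).symm
    have hinv : (g : Matrix (Fin p) (Fin p) F) * ((g⁻¹ : GL (Fin p) F) : Matrix (Fin p) (Fin p) F) = 1 := by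
      rw [← Units.val_mul, mul_inv_cancel, Units.val_one]
    have hsum : ∀ r, (g : Matrix (Fin p) (Fin p) F) r k₀ ≠ 0 → ∀ m,
        (g : Matrix (Fin p) (Fin p) F) r k₀ * ((g⁻¹ : GL (Fin p) F) : Matrix (Fin p) (Fin p) F) k₀ m
          = (1 : Matrix (Fin p) (Fin p) F) r m := by
      intro r hr0 m
      rw [← hinv, Matrix.mul_apply, Finset.sum_eq_single k₀]
      · intro l _ hl
        rw [hrow r hr0 l hl, zero_mul]
      · intro h
        exact absurd (Finset.mem_univ _) h
    have e1 := hsum r₁ h1 r₁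
    have e2 := hsum r₂ h2 r₁
    rw [Matrix.one_apply_eq] at e1
    rw [Matrix.one_apply_ne hr.symm] at e2
    have h3 : ((g⁻¹ : GL (Fin p) F) : Matrix (Fin p) (Fin p) F) k₀ r₁ ≠ 0 := by
      intro h0
      rw [h0, mul_zero] at e1
      exact zero_ne_one e1
    rcases mul_eq_zero.1 e2 with h | h
    · exact h2 h
    · exact h3 h
  · have ht : Matrix.trace ((g * toGL 0 (dtest k₀ η hη) * g⁻¹ : GL (Fin p) F) :
        Matrix (Fin p) (Fin p) F) = (p : F) - 1 + η := by
      rw [Units.val_mul, Units.val_mul, Matrix.trace_units_conj, toGL_val, trace_dtest]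
    rw [hh, trace_mono_of_ne hj] at ht
    exact htr ht.symm

end normalizer

end Cfsg.Agent.Helper12.RedSyl
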