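import Mathlib
import Cfsg.Agent.Lib.Helper12.RedSylD

namespace Cfsg.Agent.Helper12.RedSyl

open Matrix

section cycle

open scoped Fin.CommRing Fin.NatCast

variable {p : ℕ} [Fact p.Prime]

scoped instance instNeZeroOfFactPrime : NeZero p := ⟨(Fact.out : p.Prime).ne_zero⟩

lemma exists_mul_eq_one {j : Fin p} (hj : j ≠ 0) : ∃ j' : Fin p, j * j' = 1 := by
  let e := ZMod.finEquiv p
  have hej : e j ≠ 0 := by
    intro h
    apply hj
    apply e.injective
    rw [h, map_zero]
  refine ⟨e.symm (e j)⁻¹, ?_⟩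
  apply e.injective
  rw [map_mul, RingEquiv.apply_symm_apply, map_one, mul_inv_cancel₀ hej]

lemma exists_nsmul_eq {j : Fin p} (hj : j ≠ 0) (k : Fin p) : ∃ n : ℕ, n • j = k := by
  obtain ⟨j', hj'⟩ := exists_mul_eq_one hj
  refine ⟨(k * j').val, ?_⟩
  rw [nsmul_eq_mul, Fin.cast_val_eq_self, mul_assoc, mul_comm j' j, hj', mul_one]

lemma cycle_induction {j : Fin p} (hj : j ≠ 0) (P : Fin p → Prop) (k₁ : Fin p) (h0 : P k₁)
    (hs : ∀ k, P k → P (k + j)) : ∀ k, P k := by
  have h : ∀ n : ℕ, P (k₁ + n • j) := by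
    intro n
    induction n with
    | zero => simpa using h0
    | succ n ih =>
      have := hs _ ih
      rwa [add_assoc, ← succ_nsmul] at this
  intro k
  obtain ⟨n, hn⟩ := exists_nsmul_eq hj (k - k₁)
  have := h n
  rwa [hn, add_sub_cancel] at this

lemma nsmul_ne_zero_of_lt {j : Fin p} (hj : j ≠ 0) {i : ℕ} (hi0 : 0 < i) (hip : i < p) :
    i • j ≠ 0 := by
  intro h
  obtain ⟨j', hj'⟩ := exists_mul_eq_one hj
  have h1 : ((i : ℕ) : Fin p) = 0 := by
    have : ((i : ℕ) : Fin p) * j * j' = 0 := by rw [← nsmul_eq_mul, h, zero_mul]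
    rwa [mul_assoc, hj', mul_one] at this
  rw [Fin.natCast_eq_zero] at h1
  have := Nat.le_of_dvd hi0 h1
  omega

lemma prime_nsmul_eq_zero (j : Fin p) : p • j = 0 := by
  rw [nsmul_eq_mul, Fin.natCast_self, zero_mul]

end cycle

section powers

variable {F : Type*} [Field F] {p : ℕ} [Fact p.Prime]

lemma mono_pow (j : Fin p) (d : Fin p → F) (hd : ∀ k, d k ^ p = 1) (n : ℕ) :
    ∃ D : Fin p → F, (∀ k, D k ^ p = 1) ∧ (mono j d) ^ n = mono (n • j) D := by
  induction n with
  | zero =>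
    exact ⟨fun _ => 1, fun _ => one_pow _, by rw [pow_zero, zero_smul, mono_zero_one]⟩
  | succ n ih =>
    obtain ⟨D, hD, h⟩ := ih
    refine ⟨fun k => D k * d (k + n • j), fun k => by rw [mul_pow, hD, hd, one_mul], ?_⟩
    rw [pow_succ, h, mono_mul, succ_nsmul]

lemma mul_mono_apply (A : Matrix (Fin p) (Fin p) F) (j : Fin p) (d : Fin p → F) (k l : Fin p) :
    (A * mono j d) k l = A k (l - j) * d (l - j) := by
  rw [Matrix.mul_apply, Finset.sum_eq_single (l - j)]
  · rw [mono_apply, if_pos (sub_add_cancel l j).symm]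
  · intro m _ hm
    rw [mono_apply, if_neg, mul_zero]
    intro h
    apply hm
    rw [h, add_sub_cancel_right]
  · intro h
    exact absurd (Finset.mem_univ _) h

omit [Fact p.Prime] in
lemma mono_mul_apply (A : Matrix (Fin p) (Fin p) F) (j : Fin p) (d : Fin p → F) (k l : Fin p) :
    (mono j d * A) k l = d k * A (k + j) l := by
  rw [Matrix.mul_apply, Finset.sum_eq_single (k + j)]
  · rw [mono_apply, if_pos rfl]
  · intro m _ hm
    rw [mono_apply, if_neg hm, zero_mul]
  · intro h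
    exact absurd (Finset.mem_univ _) h

/-- The `p`-th power of a monomial matrix with nonzero shift is a scalar. -/
lemma mono_pow_prime {j : Fin p} (hj : j ≠ 0) (d : Fin p → F) (hd : ∀ k, d k ^ p = 1) :
    ∃ c : F, c ^ p = 1 ∧ (mono j d) ^ p = c • (1 : Matrix (Fin p) (Fin p) F) := by
  obtain ⟨D, hD, h⟩ := mono_pow j d hd p
  rw [prime_nsmul_eq_zero] at h
  have hcomm : mono (0 : Fin p) D * mono j d = mono j d * mono (0 : Fin p) D := by
    rw [← h, ← pow_succ, ← pow_succ']
  rw [mono_mul, mono_mul] at hcomm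
  have hd0 : ∀ k, d k ≠ 0 := fun k => ne_zero_of_pow_eq_one (hd k)
  have hD0 : ∀ k, D k ≠ 0 := fun k => ne_zero_of_pow_eq_one (hD k)
  obtain ⟨-, h2⟩ := mono_injective (fun k => mul_ne_zero (hD0 k) (hd0 (k + 0))) hcomm
  have h3 : ∀ k, D k = D (k + j) := by
    intro k
    have := congrFun h2 k
    simp only [add_zero] at this
    rw [mul_comm] at this
    exact mul_left_cancel₀ (hd0 k) this
  have h4 : ∀ k, D k = D 0 :=
    cycle_induction hj (fun k => D k = D 0) 0 rfl (fun k hk => by rw [← hk]; exact (h3 k).symm)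
  refine ⟨D 0, hD 0, ?_⟩
  rw [h, ← mono_zero_one, mono_zero_eq_diagonal, mono_zero_eq_diagonal]
  ext k l
  simp only [Matrix.diagonal_apply, Matrix.smul_apply, smul_eq_mul]
  split_ifs
  · rw [h4 k, mul_one]
  · rw [mul_zero]

end powers

end Cfsg.Agent.Helper12.RedSyl
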