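import Mathlib
import Cfsg.Agent.Lib.Helper12.RedSylE

namespace Cfsg.Agent.Helper12.RedSyl

open Matrix

section cases

variable {F : Type*} [Field F] {p : ℕ} [Fact p.Prime]

/-- `g` does not normalize the monomial subgroup. -/
def Moves (g : GL (Fin p) F) : Prop := ∃ q ∈ Qsub F p, g * q * g⁻¹ ∉ Qsub F p

/-- A test root of unity. -/
structure TestRoot (F : Type*) [Field F] (p : ℕ) (η : F) : Prop where
  pow : η ^ p = 1
  ne_one : η ≠ 1
  tr : (p : F) - 1 + η ≠ 0
  pne : (p : F) ≠ 0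

lemma moves_of_col {η : F} (h : TestRoot F p η) (g : GL (Fin p) F) {k₀ r₁ r₂ : Fin p}
    (hr : r₁ ≠ r₂) (h1 : (g : Matrix (Fin p) (Fin p) F) r₁ k₀ ≠ 0)
    (h2 : (g : Matrix (Fin p) (Fin p) F) r₂ k₀ ≠ 0) : Moves g :=
  ⟨toGL 0 (dtest k₀ η h.pow), toGL_mem _ _, not_mem_of_col h.pow h.ne_one h.tr g hr h1 h2⟩

/-- `x` is conjugated into the monomial subgroup by an element not normalizing it. -/
def Good (x : GL (Fin p) F) : Prop :=
  ∃ g : GL (Fin p) F, Moves g ∧ g * x * g⁻¹ ∈ Qsub F p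

lemma good_of_commute {x g : GL (Fin p) F} (hx : x ∈ Qsub F p) (hg : Moves g)
    (hc : (g : Matrix (Fin p) (Fin p) F) * (x : Matrix (Fin p) (Fin p) F)
      = (x : Matrix (Fin p) (Fin p) F) * (g : Matrix (Fin p) (Fin p) F)) : Good x := by
  refine ⟨g, hg, ?_⟩
  have : g * x = x * g := Units.ext (by rw [Units.val_mul, Units.val_mul, hc])
  rw [this, mul_inv_cancel_right]
  exact hx

/-- Case A: diagonal element with a repeated entry. -/
lemma good_caseA {η : F} (h : TestRoot F p η) (x : GL (Fin p) F) (d : Fin p → F)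
    (hd : ∀ k, d k ^ p = 1) (hx : (x : Matrix (Fin p) (Fin p) F) = mono 0 d)
    {i₁ i₂ : Fin p} (hi : i₁ ≠ i₂) (he : d i₁ = d i₂) : Good x := by
  have hE : Matrix.single i₁ i₂ (1 : F) * Matrix.single i₁ i₂ (1 : F) = 0 :=
    Matrix.single_mul_single_of_ne (c := 1) (h := hi.symm) ..
  have h1 : (1 + Matrix.single i₁ i₂ (1 : F)) * (1 - Matrix.single i₁ i₂ (1 : F)) = 1 := by
    have : (1 + Matrix.single i₁ i₂ (1 : F)) * (1 - Matrix.single i₁ i₂ (1 : F))
        = 1 - Matrix.single i₁ i₂ (1 : F) * Matrix.single i₁ i₂ (1 : F) := by noncomm_ring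
    rw [this, hE, sub_zero]
  have h2 : (1 - Matrix.single i₁ i₂ (1 : F)) * (1 + Matrix.single i₁ i₂ (1 : F)) = 1 := by
    have : (1 - Matrix.single i₁ i₂ (1 : F)) * (1 + Matrix.single i₁ i₂ (1 : F))
        = 1 - Matrix.single i₁ i₂ (1 : F) * Matrix.single i₁ i₂ (1 : F) := by noncomm_ring
    rw [this, hE, sub_zero]
  let g : GL (Fin p) F := ⟨1 + Matrix.single i₁ i₂ (1 : F), 1 - Matrix.single i₁ i₂ (1 : F), h1, h2⟩
  have hgv : (g : Matrix (Fin p) (Fin p) F) = 1 + Matrix.single i₁ i₂ (1 : F) := rfl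
  apply good_of_commute (g := g) ⟨0, d, hd, hx⟩
  · apply moves_of_col h g (k₀ := i₂) (r₁ := i₁) (r₂ := i₂) hi
    · rw [hgv, Matrix.add_apply, Matrix.one_apply_ne hi, Matrix.single_apply_same, zero_add]
      exact one_ne_zero
    · rw [hgv, Matrix.add_apply, Matrix.one_apply_eq,
        Matrix.single_apply_of_ne (h := fun h => hi h.1), add_zero]
      exact one_ne_zero
  · rw [hgv, hx]
    ext k l
    rw [mul_mono_zero_apply, mono_zero_mul_apply, Matrix.add_apply, Matrix.one_apply]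
    by_cases hkl : k = l
    · subst hkl
      ring
    · rw [if_neg hkl, zero_add]
      by_cases h12 : i₁ = k ∧ i₂ = l
      · obtain ⟨rfl, rfl⟩ := h12
        rw [he]
        ring
      · rw [Matrix.single_apply_of_ne (h := h12)]
        ring

/-- Case B: diagonal element with pairwise distinct entries. -/
lemma good_caseB {η : F} (h : TestRoot F p η) (x : GL (Fin p) F) (d : Fin p → F)
    (hd : ∀ k, d k ^ p = 1) (hx : (x : Matrix (Fin p) (Fin p) F) = mono 0 d)
    (hinj : Function.Injective d) : Good x := by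
  have hdet : ((Matrix.vandermonde d)ᵀ).det ≠ 0 := by
    rw [Matrix.det_transpose]
    exact Matrix.det_vandermonde_ne_zero_iff.2 hinj
  let g : GL (Fin p) F := Matrix.GeneralLinearGroup.mkOfDetNeZero _ hdet
  have hgv : ∀ i k, (g : Matrix (Fin p) (Fin p) F) i k = d k ^ (i : ℕ) := fun i k => rfl
  have hd0 : ∀ k, d k ≠ 0 := fun k => ne_zero_of_pow_eq_one (hd k)
  refine ⟨g, ?_, ?_⟩
  · obtain ⟨a, b, hab⟩ : ∃ a b : Fin p, a ≠ b := by
      have : Nontrivial (Fin p) := Fin.nontrivial_iff_two_le.2 (Fact.out : p.Prime).two_le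
      exact exists_pair_ne _
    apply moves_of_col h g (k₀ := 0) hab
    · rw [hgv]; exact pow_ne_zero _ (hd0 0)
    · rw [hgv]; exact pow_ne_zero _ (hd0 0)
  · have key : g * x = toGL 1 (fun _ => ⟨1, one_pow p⟩) * g := by
      apply Units.ext
      rw [Units.val_mul, Units.val_mul, hx, toGL_val]
      ext i k
      rw [mul_mono_zero_apply, mono_mul_apply, hgv, hgv, one_mul, Fin.val_add, Fin.val_one',
        Nat.add_mod_mod, ← pow_eq_pow_mod _ (hd k), pow_succ]
    rw [key, mul_inv_cancel_right]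
    exact toGL_mem _ _

end cases

end Cfsg.Agent.Helper12.RedSyl
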