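import Mathlib
import Cfsg.Agent.Lib.Helper12.RedSylF

namespace Cfsg.Agent.Helper12.RedSyl

open Matrix

section caseC

variable {F : Type*} [Field F] {p : ℕ} [Fact p.Prime]

/-- Case C2: nonzero shift, `p`-th power a nontrivial scalar. -/
lemma good_caseC2 (hp2 : p ≠ 2) {η : F} (h : TestRoot F p η) (x : GL (Fin p) F) {j : Fin p}
    (hj : j ≠ 0) (d : Fin p → F) (hd : ∀ k, d k ^ p = 1)
    (hx : (x : Matrix (Fin p) (Fin p) F) = mono j d) {c : F} (hc : c ^ p = 1) (hc1 : c ≠ 1)
    (hpow : (mono j d) ^ p = c • (1 : Matrix (Fin p) (Fin p) F)) : Good x := by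
  have hodd : Odd p := (Fact.out : p.Prime).odd_of_ne_two hp2
  have hd0 : ∀ k, d k ≠ 0 := fun k => ne_zero_of_pow_eq_one (hd k)
  have hc2 : 1 + c ≠ 0 := by
    intro h0
    have hc' : c = -1 := by linear_combination h0
    rw [hc', hodd.neg_one_pow] at hc
    exact hc1 (by rw [hc', hc])
  have h1 : (1 + mono j d) * ((1 + c)⁻¹ • ∑ i ∈ Finset.range p, (-(mono j d)) ^ i) = 1 := by
    rw [Matrix.mul_smul]
    have : (1 + mono j d) * ∑ i ∈ Finset.range p, (-(mono j d)) ^ i
        = (1 + c) • (1 : Matrix (Fin p) (Fin p) F) := by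
      have e := mul_neg_geom_sum (-(mono j d)) p
      rw [sub_neg_eq_add, hodd.neg_pow, sub_neg_eq_add, hpow] at e
      rw [e, add_smul, one_smul]
    rw [this, smul_smul, inv_mul_cancel₀ hc2, one_smul]
  have h2 := _root_.mul_eq_one_comm.1 h1
  let g : GL (Fin p) F := ⟨1 + mono j d, _, h1, h2⟩
  have hgv : (g : Matrix (Fin p) (Fin p) F) = 1 + mono j d := rfl
  apply good_of_commute (g := g) ⟨j, d, hd, hx⟩
  · have h0j : (0 : Fin p) ≠ j := fun h => hj h.symm
    apply moves_of_col h g (k₀ := j) (r₁ := 0) (r₂ := j) h0j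
    · rw [hgv, Matrix.add_apply, Matrix.one_apply_ne h0j, mono_apply, if_pos (zero_add j).symm,
        zero_add]
      exact hd0 0
    · rw [hgv, Matrix.add_apply, Matrix.one_apply_eq, mono_apply, if_neg, add_zero]
      · exact one_ne_zero
      · intro h'
        apply hj
        have : j + 0 = j + j := by rw [add_zero]; exact h'
        exact (add_left_cancel this).symm
  · rw [hgv, hx, add_mul, mul_add, one_mul, mul_one]

/-- Case C1: nonzero shift, `p`-th power trivial. -/
lemma good_caseC1 (hp2 : p ≠ 2) {η : F} (h : TestRoot F p η) (x : GL (Fin p) F) {j : Fin p}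
    (hj : j ≠ 0) (d : Fin p → F) (hd : ∀ k, d k ^ p = 1)
    (hx : (x : Matrix (Fin p) (Fin p) F) = mono j d)
    (hpow : (mono j d) ^ p = (1 : Matrix (Fin p) (Fin p) F)) : Good x := by
  have hpp : p.Prime := Fact.out
  have hp3 : 2 < p := lt_of_le_of_ne hpp.two_le (Ne.symm hp2)
  have hd0 : ∀ k, d k ≠ 0 := fun k => ne_zero_of_pow_eq_one (hd k)
  have hη0 : η ≠ 0 := ne_zero_of_pow_eq_one h.pow
  set A := mono j d with hA
  set N : Matrix (Fin p) (Fin p) F := ∑ i ∈ Finset.range p, A ^ i with hN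
  have hNA : N * A = N := by
    have e := geom_sum_mul A p
    rw [hpow, sub_self, mul_sub, mul_one, sub_eq_zero] at e
    exact e
  have hAN : A * N = N := by
    have e := mul_geom_sum A p
    rw [hpow, sub_self, sub_mul, one_mul, sub_eq_zero] at e
    exact e
  have hNpow : ∀ i : ℕ, N * A ^ i = N := by
    intro i
    induction i with
    | zero => rw [pow_zero, mul_one]
    | succ i ih => rw [pow_succ, ← mul_assoc, ih, hNA]
  have hNN : N * N = (p : F) • N := by
    conv_lhs => rw [hN, Finset.mul_sum]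
    rw [← hN, Finset.sum_congr rfl (fun i _ => hNpow i), Finset.sum_const, Finset.card_range,
      Nat.cast_smul_eq_nsmul]
  -- entries of N
  have hN00 : N 0 0 = 1 := by
    rw [hN, Matrix.sum_apply, Finset.sum_eq_single 0]
    · rw [pow_zero, Matrix.one_apply_eq]
    · intro i hi hi0
      obtain ⟨D, -, hD⟩ := mono_pow j d hd i
      rw [hA, hD, mono_apply, if_neg]
      rw [zero_add]
      exact (nsmul_ne_zero_of_lt hj (Nat.pos_of_ne_zero hi0) (Finset.mem_range.1 hi)).symm
    · intro h0
      exact absurd (Finset.mem_range.2 hpp.pos) h0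
  have hrow : ∀ k m, N k m ≠ 0 → N k (m + j) ≠ 0 := by
    intro k m hkm
    have e := congrFun (congrFun hNA k) (m + j)
    rw [hA, mul_mono_apply, add_sub_cancel_right] at e
    rw [← e]
    exact mul_ne_zero hkm (hd0 m)
  have hcol : ∀ k l, N k l ≠ 0 → N (k + j) l ≠ 0 := by
    intro k l hkl
    have e := congrFun (congrFun hAN k) l
    rw [hA, mono_mul_apply] at e
    intro h0
    rw [h0, mul_zero] at e
    exact hkl e.symm
  have hN0 : ∀ m, N 0 m ≠ 0 :=
    cycle_induction hj (fun m => N 0 m ≠ 0) 0 (by rw [hN00]; exact one_ne_zero)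
      (fun m hm => hrow 0 m hm)
  have hNall : ∀ k l, N k l ≠ 0 := fun k l =>
    cycle_induction hj (fun k => N k l ≠ 0) 0 (hN0 l) (fun k hk => hcol k l hk) k
  -- the element g
  set α : F := (η - 1) / p with hα
  set β : F := (η⁻¹ - 1) / p with hβ
  have hα0 : α ≠ 0 := div_ne_zero (sub_ne_zero.2 h.ne_one) h.pne
  have hsc : α + β + α * β * p = 0 := by
    rw [hα, hβ]
    have := h.pne
    field_simp
    ring
  have hsc' : β + α + β * α * p = 0 := by rw [← hsc]; ring
  have hprod : ∀ a b : F, a + b + a * b * p = 0 → (1 + a • N) * (1 + b • N) = 1 := by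
    intro a b hab
    simp only [add_mul, mul_add, one_mul, mul_one, Matrix.smul_mul, Matrix.mul_smul,
      hNN, smul_smul]
    have : (1 : Matrix (Fin p) (Fin p) F) + a • N + (b • N + (b * (a * (p : F))) • N)
        = 1 + (a + b + a * b * p) • N := by module
    rw [this, hab, zero_smul, add_zero]
  let g : GL (Fin p) F := ⟨1 + α • N, 1 + β • N, hprod α β hsc, hprod β α hsc'⟩
  have hgv : (g : Matrix (Fin p) (Fin p) F) = 1 + α • N := rfl
  apply good_of_commute (g := g) ⟨j, d, hd, hx⟩
  · have hjj : j + j ≠ 0 := by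
      rw [← two_nsmul]
      exact nsmul_ne_zero_of_lt hj (by norm_num) hp3
    have hne : j ≠ j + j := by
      intro h'
      apply hj
      have : j + 0 = j + j := by rw [add_zero]; exact h'
      exact (add_left_cancel this).symm
    apply moves_of_col h g (k₀ := 0) (r₁ := j) (r₂ := j + j) hne
    · rw [hgv, Matrix.add_apply, Matrix.one_apply_ne hj, zero_add, Matrix.smul_apply, smul_eq_mul]
      exact mul_ne_zero hα0 (hNall _ _)
    · rw [hgv, Matrix.add_apply, Matrix.one_apply_ne hjj, zero_add, Matrix.smul_apply, smul_eq_mul]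
      exact mul_ne_zero hα0 (hNall _ _)
  · rw [hgv, hx, add_mul, mul_add, one_mul, mul_one, Matrix.smul_mul, Matrix.mul_smul, hNA, hAN]

end caseC

end Cfsg.Agent.Helper12.RedSyl
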