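import Mathlib
import Cfsg.Agent.Lib.Helper12.RedSylC
import Cfsg.Agent.Lib.Helper12.RedSylG

namespace Cfsg.Agent.Helper12.RedSyl

open Matrix

section assembly

variable {F : Type*} [Field F] {p : ℕ} [Fact p.Prime]

theorem good_of_mem (hp2 : p ≠ 2) {η : F} (h : TestRoot F p η) (x : GL (Fin p) F)
    (hx : x ∈ Qsub F p) : Good x := by
  obtain ⟨j, d, hd, hxv⟩ := hx
  by_cases hj : j = 0
  · subst hj
    by_cases hinj : Function.Injective d
    · exact good_caseB h x d hd hxv hinj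
    · rw [Function.Injective] at hinj
      push Not at hinj
      obtain ⟨i₁, i₂, he, hi⟩ := hinj
      exact good_caseA h x d hd hxv hi he
  · obtain ⟨c, hc, hpow⟩ := mono_pow_prime hj d hd
    by_cases hc1 : c = 1
    · subst hc1
      rw [one_smul] at hpow
      exact good_caseC1 hp2 h x hj d hd hxv hpow
    · exact good_caseC2 hp2 h x hj d hd hxv hc hc1 hpow

lemma exists_testRoot (hp2 : p ≠ 2) {ζ : F} (hζ : IsPrimitiveRoot ζ p) :
    ∃ η : F, TestRoot F p η := by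
  have hpp : p.Prime := Fact.out
  have hpne : (p : F) ≠ 0 := (hζ.neZero').ne
  have hζ1 : ζ ≠ 1 := hζ.ne_one hpp.one_lt
  have hζ0 : ζ ≠ 0 := hζ.ne_zero hpp.ne_zero
  by_cases h : (p : F) - 1 + ζ = 0
  · refine ⟨ζ ^ 2, ?_, ?_, ?_, hpne⟩
    · rw [← pow_mul, mul_comm, pow_mul, hζ.pow_eq_one, one_pow]
    · intro h2
      have h3 := hζ.dvd_of_pow_eq_one 2 h2
      have h4 := Nat.le_of_dvd (by norm_num) h3
      have h5 := hpp.two_le
      omega
    · intro h3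
      have h4 : ζ * ζ = ζ * 1 := by linear_combination h3 - h
      exact hζ1 (mul_left_cancel₀ hζ0 h4)
  · exact ⟨ζ, hζ.pow_eq_one, hζ1, h, hpne⟩

end assembly

section main

variable {F : Type*} [Field F] [Fintype F] {p : ℕ} [Fact p.Prime]

theorem redundant_sylow (hp : p ≠ 2) (h1 : p ∣ Fintype.card F - 1)
    (h2 : ¬ p ^ 2 ∣ Fintype.card F - 1) :
    ∃ Q : Sylow p (GL (Fin p) F), ∀ x : GL (Fin p) F,
      (∃ k : ℕ, orderOf x = p ^ k) → ∃ P : Sylow p (GL (Fin p) F), P ≠ Q ∧ x ∈ P := by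
  obtain ⟨ζ, hζ⟩ := exists_primitive_root (F := F) h1
  obtain ⟨η, hη⟩ := exists_testRoot hp hζ
  refine ⟨QSyl hp h1 h2, ?_⟩
  rintro x ⟨k, hk⟩
  have hpg : IsPGroup p (Subgroup.zpowers x) := by
    apply IsPGroup.of_card (n := k)
    rw [Nat.card_zpowers, hk]
  obtain ⟨P, hP⟩ := hpg.exists_le_sylow
  have hxP : x ∈ P := hP (Subgroup.mem_zpowers x)
  by_cases hPQ : P = QSyl hp h1 h2
  · have hxQ : x ∈ Qsub F p := by
      rw [hPQ] at hxP
      exact hxP
    obtain ⟨g, ⟨q, hq, hgq⟩, hgx⟩ := good_of_mem hp hη x hxQ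
    refine ⟨g⁻¹ • QSyl hp h1 h2, ?_, ?_⟩
    · intro heq
      rw [Sylow.smul_eq_iff_mem_normalizer, inv_mem_iff, Subgroup.mem_set_normalizer_iff] at heq
      exact hgq ((heq q).1 hq)
    · change x ∈ ((g⁻¹ • QSyl hp h1 h2 : Sylow p (GL (Fin p) F)) : Subgroup (GL (Fin p) F))
      rw [Sylow.coe_subgroup_smul, Subgroup.mem_smul_pointwise_iff_exists]
      refine ⟨g * x * g⁻¹, hgx, ?_⟩
      rw [MulAut.smul_def, MulAut.conj_apply]
      group
  · exact ⟨P, hPQ, hxP⟩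

end main

end Cfsg.Agent.Helper12.RedSyl
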