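import Mathlib
import Cfsg.Agent.Lib.Helper12.SLGen

/-!
# Generation of `SL_n` by conjugate regular unipotent elements: bookkeeping tools

`Mset H` = the matrices of the elements of a subgroup `H` of `SL_n`; path matrices.
-/

set_option autoImplicit false

namespace Cfsg.Agent.Helper12.RegUnip

open Matrix

section mset

variable {ι : Type*} [Fintype ι] [DecidableEq ι] {F : Type*} [Field F]

/-- the matrices of the elements of a subgroup of `SL` -/
def Mset (H : Subgroup (SpecialLinearGroup ι F)) : Set (Matrix ι ι F) :=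
  {A | ∃ g ∈ H, (g : Matrix ι ι F) = A}

variable {H : Subgroup (SpecialLinearGroup ι F)} {A B X Y g : Matrix ι ι F}

theorem mset_coe {a : SpecialLinearGroup ι F} (ha : a ∈ H) : (a : Matrix ι ι F) ∈ Mset H :=
  ⟨a, ha, rfl⟩

theorem mset_one : (1 : Matrix ι ι F) ∈ Mset H := ⟨1, H.one_mem, rfl⟩

theorem mset_mul (hA : A ∈ Mset H) (hB : B ∈ Mset H) : A * B ∈ Mset H := by
  obtain ⟨a, ha, rfl⟩ := hA
  obtain ⟨b, hb, rfl⟩ := hB
  exact ⟨a * b, H.mul_mem ha hb, by simp⟩

theorem mset_cancel_left (hA : A ∈ Mset H) (hAB : A * B ∈ Mset H) : B ∈ Mset H := by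
  obtain ⟨a, ha, rfl⟩ := hA
  obtain ⟨c, hc, hc'⟩ := hAB
  refine ⟨a⁻¹ * c, H.mul_mem (H.inv_mem ha) hc, ?_⟩
  have h1 : ((a⁻¹ : SpecialLinearGroup ι F) : Matrix ι ι F) * (a : Matrix ι ι F) = 1 := by
    rw [← Matrix.SpecialLinearGroup.coe_mul, inv_mul_cancel, Matrix.SpecialLinearGroup.coe_one]
  rw [Matrix.SpecialLinearGroup.coe_mul, hc', ← Matrix.mul_assoc, h1, Matrix.one_mul]

theorem mset_cancel_right (hB : B ∈ Mset H) (hAB : A * B ∈ Mset H) : A ∈ Mset H := by
  obtain ⟨b, hb, rfl⟩ := hB
  obtain ⟨c, hc, hc'⟩ := hAB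
  refine ⟨c * b⁻¹, H.mul_mem hc (H.inv_mem hb), ?_⟩
  have h1 : (b : Matrix ι ι F) * ((b⁻¹ : SpecialLinearGroup ι F) : Matrix ι ι F) = 1 := by
    rw [← Matrix.SpecialLinearGroup.coe_mul, mul_inv_cancel, Matrix.SpecialLinearGroup.coe_one]
  rw [Matrix.SpecialLinearGroup.coe_mul, hc', Matrix.mul_assoc, h1, Matrix.mul_one]

/-- if `g X = Y g` with `g, X ∈ H` then `Y ∈ H` -/
theorem mset_conj (hg : g ∈ Mset H) (hX : X ∈ Mset H) (h : g * X = Y * g) : Y ∈ Mset H :=
  mset_cancel_right hg (h ▸ mset_mul hg hX)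

/-- if `X g = g Y` with `g, X ∈ H` then `Y ∈ H` -/
theorem mset_conj' (hg : g ∈ Mset H) (hX : X ∈ Mset H) (h : X * g = g * Y) : Y ∈ Mset H :=
  mset_cancel_left hg (h ▸ mset_mul hX hg)

theorem transvection_mem_iff {i j : ι} (hij : i ≠ j) (t : F) :
    Matrix.SpecialLinearGroup.transvection hij t ∈ H ↔ (1 + single i j t : Matrix ι ι F) ∈ Mset H := by
  constructor
  · intro h
    exact ⟨_, h, rfl⟩
  · rintro ⟨g, hg, hg'⟩
    have : g = Matrix.SpecialLinearGroup.transvection hij t := by
      apply Subtype.ext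
      rw [hg']
      rfl
    rwa [← this]

/-- the parameters of the root elements `x_{ij}(t)` lying in `H` -/
def P (H : Subgroup (SpecialLinearGroup ι F)) {i j : ι} (hij : i ≠ j) : AddSubgroup F where
  carrier := {t | Matrix.SpecialLinearGroup.transvection hij t ∈ H}
  zero_mem' := by
    change Matrix.SpecialLinearGroup.transvection hij 0 ∈ H
    rw [Matrix.SpecialLinearGroup.transvection_coeff_zero]
    exact H.one_mem
  add_mem' := by
    intro a b ha hb
    change Matrix.SpecialLinearGroup.transvection hij (a + b) ∈ H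
    have : Matrix.SpecialLinearGroup.transvection hij (a + b) =
        Matrix.SpecialLinearGroup.transvection hij a * Matrix.SpecialLinearGroup.transvection hij b := by
      apply Subtype.ext
      simp [Matrix.SpecialLinearGroup.transvection_coe, mul_add, add_mul,
        single_mul_single_of_ne _ _ _ _ hij.symm, single_add]
      abel
    rw [this]
    exact H.mul_mem ha hb
  neg_mem' := by
    intro a ha
    change Matrix.SpecialLinearGroup.transvection hij (-a) ∈ H
    have : Matrix.SpecialLinearGroup.transvection hij (-a) =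
        (Matrix.SpecialLinearGroup.transvection hij a)⁻¹ := by
      rw [eq_inv_iff_mul_eq_one]
      apply Subtype.ext
      simp [Matrix.SpecialLinearGroup.transvection_coe, mul_add, add_mul,
        single_mul_single_of_ne _ _ _ _ hij.symm, ← single_neg]
    rw [this]
    exact H.inv_mem ha

theorem mem_P {i j : ι} (hij : i ≠ j) (t : F) :
    t ∈ P H hij ↔ (1 + single i j t : Matrix ι ι F) ∈ Mset H :=
  transvection_mem_iff hij t

/-- commutator relation -/
theorem P_comm {i j k : ι} (hij : i ≠ j) (hjk : j ≠ k) (hik : i ≠ k) {a b : F}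
    (ha : a ∈ P H hij) (hb : b ∈ P H hjk) : a * b ∈ P H hik := by
  change Matrix.SpecialLinearGroup.transvection hik (a * b) ∈ H
  rw [← Cfsg.Agent.Helper12.tv_comm_rel hij hjk hik a b]
  exact H.mul_mem (H.mul_mem (H.mul_mem ha hb) ((P H hij).neg_mem ha)) ((P H hjk).neg_mem hb)

/-- transfer along the column action of `1 + A`: if `A e_j = w e_{j'}` and row `b` of `A`
vanishes, then `x_{jb}(t) ∈ H` implies `x_{j'b}(w t) ∈ H` -/
theorem P_col_transfer {j j' b : ι} (hjb : j ≠ b) (hj'b : j' ≠ b) (w : F)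
    (hg : (1 + A : Matrix ι ι F) ∈ Mset H)
    (hcol : ∀ t : F, A * single j b t = single j' b (w * t))
    (hrow : ∀ (x : ι) (t : F), single x b t * A = 0) {t : F} (ht : t ∈ P H hjb) :
    w * t ∈ P H hj'b := by
  rw [mem_P] at ht ⊢
  have key : (1 + A) * (1 + single j b t) =
      ((1 + single j b t) * (1 + single j' b (w * t))) * (1 + A) := by
    simp only [mul_add, add_mul, Matrix.one_mul, Matrix.mul_one, hcol, hrow,
      single_mul_single_of_ne _ _ _ _ hj'b.symm, Matrix.zero_mul]
    abel
  exact mset_cancel_left ht (mset_conj hg ht key)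

/-- transfer along the row action of `1 + A`: if `e_k^T A = w e_{k'}^T` and column `a` of `A`
vanishes, then `x_{ak}(t) ∈ H` implies `x_{ak'}(t w) ∈ H` -/
theorem P_row_transfer {a k k' : ι} (hak : a ≠ k) (hak' : a ≠ k') (w : F)
    (hg : (1 + A : Matrix ι ι F) ∈ Mset H)
    (hrow : ∀ t : F, single a k t * A = single a k' (t * w))
    (hcol : ∀ (y : ι) (t : F), A * single a y t = 0) {t : F} (ht : t ∈ P H hak) :
    t * w ∈ P H hak' := by
  rw [mem_P] at ht ⊢
  have key : (1 + single a k t) * (1 + A) =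
      (1 + A) * ((1 + single a k t) * (1 + single a k' (t * w))) := by
    simp only [mul_add, add_mul, Matrix.one_mul, Matrix.mul_one, hcol, hrow,
      single_mul_single_of_ne _ _ _ _ hak.symm, Matrix.mul_zero]
    abel
  exact mset_cancel_left ht (mset_conj' hg ht key)

end mset

end Cfsg.Agent.Helper12.RegUnip

namespace Cfsg.Agent.Helper12.RegUnip

open Matrix

section mset2

variable {ι : Type*} [Fintype ι] [DecidableEq ι] {F : Type*} [Field F]
variable {H : Subgroup (Matrix.SpecialLinearGroup ι F)} {A : Matrix ι ι F}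

/-- `Mset`-level column transfer -/
theorem mset_col_transfer {j j' b : ι} (hj'b : j' ≠ b) (w : F)
    (hg : (1 + A : Matrix ι ι F) ∈ Mset H)
    (hcol : ∀ t : F, A * single j b t = single j' b (w * t))
    (hrow : ∀ (x : ι) (t : F), single x b t * A = 0) {t : F}
    (ht : (1 + single j b t : Matrix ι ι F) ∈ Mset H) :
    (1 + single j' b (w * t) : Matrix ι ι F) ∈ Mset H := by
  have key : (1 + A) * (1 + single j b t) =
      ((1 + single j b t) * (1 + single j' b (w * t))) * (1 + A) := by
    simp only [mul_add, add_mul, Matrix.one_mul, Matrix.mul_one, hcol, hrow,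
      single_mul_single_of_ne _ _ _ _ hj'b.symm, Matrix.zero_mul]
    abel
  exact mset_cancel_left ht (mset_conj hg ht key)

/-- `Mset`-level row transfer -/
theorem mset_row_transfer {a k k' : ι} (hak : a ≠ k) (w : F)
    (hg : (1 + A : Matrix ι ι F) ∈ Mset H)
    (hrow : ∀ t : F, single a k t * A = single a k' (t * w))
    (hcol : ∀ (y : ι) (t : F), A * single a y t = 0) {t : F}
    (ht : (1 + single a k t : Matrix ι ι F) ∈ Mset H) :
    (1 + single a k' (t * w) : Matrix ι ι F) ∈ Mset H := by
  have key : (1 + single a k t) * (1 + A) =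
      (1 + A) * ((1 + single a k t) * (1 + single a k' (t * w))) := by
    simp only [mul_add, add_mul, Matrix.one_mul, Matrix.mul_one, hcol, hrow,
      single_mul_single_of_ne _ _ _ _ hak.symm, Matrix.mul_zero]
    abel
  exact mset_cancel_left ht (mset_conj' hg ht key)

/-- `Mset`-level commutator relation -/
theorem mset_comm {i j k : ι} (hij : i ≠ j) (hjk : j ≠ k) (hik : i ≠ k) {a b : F}
    (ha : (1 + single i j a : Matrix ι ι F) ∈ Mset H)
    (hb : (1 + single j k b : Matrix ι ι F) ∈ Mset H) :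
    (1 + single i k (a * b) : Matrix ι ι F) ∈ Mset H := by
  rw [← mem_P hij] at ha
  rw [← mem_P hjk] at hb
  rw [← mem_P hik]
  exact P_comm hij hjk hik ha hb

/-- the whole root group `X_{ij}` lies in `H` -/
def Full (H : Subgroup (Matrix.SpecialLinearGroup ι F)) (i j : ι) : Prop :=
  ∀ t : F, (1 + single i j t : Matrix ι ι F) ∈ Mset H

theorem eq_top_of_full [Nontrivial ι] (h : ∀ i j : ι, i ≠ j → Full H i j) : H = ⊤ := by
  apply Cfsg.Agent.Helper12.eq_top_of_forall_transvection
  intro i j hij c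
  rw [transvection_mem_iff]
  exact h i j hij c

end mset2

end Cfsg.Agent.Helper12.RegUnip
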