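import Mathlib
import Cfsg.Agent.Lib.Helper12.RegUnipA

/-!
# Path matrices

`pathMat wt c` has the entry `wt i` at `(i, i+1)` and the entry `c` at `(n-1, 0)`.
-/

set_option autoImplicit false

namespace Cfsg.Agent.Helper12.RegUnip

open Matrix

variable {F : Type*} [Field F] {n : ℕ}

/-- weighted path matrix with a closing entry -/
def pathMat (wt : ℕ → F) (c : F) : Matrix (Fin n) (Fin n) F :=
  Matrix.of fun i j => if i.val + 1 = j.val then wt i.val else
    if i.val + 1 = n ∧ j.val = 0 then c else 0

theorem pathMat_apply (wt : ℕ → F) (c : F) (i j : Fin n) :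
    pathMat wt c i j = if i.val + 1 = j.val then wt i.val else
      if i.val + 1 = n ∧ j.val = 0 then c else 0 := rfl

/-- column action: `A e_j = wt(j') e_{j'}` for `j = j' + 1` -/
theorem pathMat_mul_single_succ (wt : ℕ → F) (c : F) {j j' : Fin n} (b : Fin n) (t : F)
    (h : j'.val + 1 = j.val) :
    pathMat wt c * single j b t = single j' b (wt j'.val * t) := by
  ext x y
  by_cases hy : y = b
  · subst hy
    rw [mul_single_apply_same, pathMat_apply, single_apply]
    by_cases hx : x = j'
    · subst hx
      simp [h]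
    · have h1 : ¬ x.val + 1 = j.val := by
        intro h2
        apply hx
        apply Fin.ext
        omega
      have h2 : ¬ (x.val + 1 = n ∧ j.val = 0) := by
        rintro ⟨_, h3⟩
        omega
      have h3 : ¬ (j' = x ∧ y = y) := by
        rintro ⟨h4, _⟩
        exact hx h4.symm
      rw [if_neg h1, if_neg h2, if_neg h3, zero_mul]
  · rw [mul_single_apply_of_ne _ _ _ _ _ hy, single_apply]
    have h3 : ¬ (j' = x ∧ b = y) := by
      rintro ⟨_, h4⟩
      exact hy h4.symm
    rw [if_neg h3]

/-- column action: `A e_0 = c e_{n-1}` -/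
theorem pathMat_mul_single_zero (wt : ℕ → F) (c : F) {j0 L : Fin n} (b : Fin n) (t : F)
    (h0 : j0.val = 0) (hL : L.val + 1 = n) :
    pathMat wt c * single j0 b t = single L b (c * t) := by
  ext x y
  by_cases hy : y = b
  · subst hy
    rw [mul_single_apply_same, pathMat_apply, single_apply]
    by_cases hx : x = L
    · subst hx
      have h1 : ¬ x.val + 1 = j0.val := by omega
      rw [if_neg h1, if_pos ⟨hL, h0⟩, if_pos ⟨rfl, rfl⟩]
    · have h1 : ¬ x.val + 1 = j0.val := by omega
      have h2 : ¬ (x.val + 1 = n ∧ j0.val = 0) := by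
        rintro ⟨h3, _⟩
        apply hx
        apply Fin.ext
        omega
      have h3 : ¬ (L = x ∧ y = y) := by
        rintro ⟨h4, _⟩
        exact hx h4.symm
      rw [if_neg h1, if_neg h2, if_neg h3, zero_mul]
  · rw [mul_single_apply_of_ne _ _ _ _ _ hy, single_apply]
    have h3 : ¬ (L = x ∧ b = y) := by
      rintro ⟨_, h4⟩
      exact hy h4.symm
    rw [if_neg h3]

/-- row action: `e_k^T A = wt(k) e_{k+1}^T` -/
theorem single_mul_pathMat_succ (wt : ℕ → F) (c : F) {k k' : Fin n} (a : Fin n) (t : F)
    (h : k.val + 1 = k'.val) :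
    single a k t * pathMat wt c = single a k' (t * wt k.val) := by
  ext x y
  by_cases hx : x = a
  · subst hx
    rw [single_mul_apply_same, pathMat_apply, single_apply]
    by_cases hy : y = k'
    · subst hy
      simp [h]
    · have h1 : ¬ k.val + 1 = y.val := by
        intro h2
        apply hy
        apply Fin.ext
        omega
      have h2 : ¬ (k.val + 1 = n ∧ y.val = 0) := by
        rintro ⟨h3, _⟩
        have := k'.isLt
        omega
      have h3 : ¬ (x = x ∧ k' = y) := by
        rintro ⟨_, h4⟩
        exact hy h4.symm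
      rw [if_neg h1, if_neg h2, if_neg h3, mul_zero]
  · rw [single_mul_apply_of_ne _ _ _ _ _ hx, single_apply]
    have h3 : ¬ (a = x ∧ k' = y) := by
      rintro ⟨h4, _⟩
      exact hx h4.symm
    rw [if_neg h3]

/-- row action: `e_{n-1}^T A = c e_0^T` -/
theorem single_mul_pathMat_last (wt : ℕ → F) (c : F) {j0 L : Fin n} (a : Fin n) (t : F)
    (h0 : j0.val = 0) (hL : L.val + 1 = n) :
    single a L t * pathMat wt c = single a j0 (t * c) := by
  ext x y
  by_cases hx : x = a
  · subst hx
    rw [single_mul_apply_same, pathMat_apply, single_apply]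
    by_cases hy : y = j0
    · subst hy
      have h1 : ¬ L.val + 1 = y.val := by omega
      rw [if_neg h1, if_pos ⟨hL, h0⟩, if_pos ⟨rfl, rfl⟩]
    · have h1 : ¬ L.val + 1 = y.val := by
        have := y.isLt
        omega
      have h2 : ¬ (L.val + 1 = n ∧ y.val = 0) := by
        rintro ⟨_, h3⟩
        apply hy
        apply Fin.ext
        omega
      have h3 : ¬ (x = x ∧ j0 = y) := by
        rintro ⟨_, h4⟩
        exact hy h4.symm
      rw [if_neg h1, if_neg h2, if_neg h3, mul_zero]
  · rw [single_mul_apply_of_ne _ _ _ _ _ hx, single_apply]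
    have h3 : ¬ (a = x ∧ j0 = y) := by
      rintro ⟨h4, _⟩
      exact hx h4.symm
    rw [if_neg h3]

/-- additivity in the weights -/
theorem pathMat_add (wt wt' : ℕ → F) (c c' : F) :
    (pathMat (fun k => wt k + wt' k) (c + c') : Matrix (Fin n) (Fin n) F) =
      pathMat wt c + pathMat wt' c' := by
  ext i j
  rw [Matrix.add_apply, pathMat_apply, pathMat_apply, pathMat_apply]
  split_ifs <;> simp

/-- a path matrix with a single non-zero weight -/
theorem pathMat_single (k0 : ℕ) (d : F) {i j : Fin n} (hi : i.val = k0) (hj : j.val = k0 + 1) :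
    (pathMat (fun k => if k = k0 then d else 0) 0 : Matrix (Fin n) (Fin n) F) = single i j d := by
  ext x y
  rw [pathMat_apply, single_apply]
  by_cases h : i = x ∧ j = y
  · obtain ⟨rfl, rfl⟩ := h
    rw [if_pos (by omega), if_pos hi, if_pos ⟨rfl, rfl⟩]
  · rw [if_neg h]
    split_ifs with h1 h2 h3
    · exfalso
      apply h
      constructor <;> apply Fin.ext <;> omega
    · rfl
    · rfl
    · rfl

/-- a path matrix with only the closing entry -/
theorem pathMat_closing (c : F) {j0 L : Fin n} (h0 : j0.val = 0) (hL : L.val + 1 = n) :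
    (pathMat (fun _ => 0) c : Matrix (Fin n) (Fin n) F) = single L j0 c := by
  ext x y
  rw [pathMat_apply, single_apply]
  by_cases h : L = x ∧ j0 = y
  · obtain ⟨rfl, rfl⟩ := h
    have h1 : ¬ L.val + 1 = j0.val := by omega
    rw [if_neg h1, if_pos (⟨hL, h0⟩ : L.val + 1 = n ∧ j0.val = 0),
      if_pos (⟨rfl, rfl⟩ : L = L ∧ j0 = j0)]
  · rw [if_neg h]
    split_ifs with h1 h2
    · rfl
    · exfalso
      apply h
      constructor <;> apply Fin.ext <;> omega
    · rfl

/-- splitting off one weight -/
theorem pathMat_eq_add_single (wt wt' : ℕ → F) (c : F) (k0 : ℕ) (d : F) {i j : Fin n}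
    (hi : i.val = k0) (hj : j.val = k0 + 1)
    (h : ∀ k, wt k = wt' k + if k = k0 then d else 0) :
    (pathMat wt c : Matrix (Fin n) (Fin n) F) = pathMat wt' c + single i j d := by
  have h1 : wt = fun k => wt' k + (fun k => if k = k0 then d else 0) k := funext h
  have h2 := pathMat_add (n := n) wt' (fun k => if k = k0 then d else 0) c 0
  rw [add_zero] at h2
  rw [h1, h2, pathMat_single k0 d hi hj]

/-- splitting off the closing entry -/
theorem pathMat_eq_add_closing (wt : ℕ → F) (r : F) {j0 L : Fin n} (h0 : j0.val = 0)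
    (hL : L.val + 1 = n) :
    (pathMat wt r : Matrix (Fin n) (Fin n) F) = pathMat wt 0 + single L j0 r := by
  have h2 := pathMat_add (n := n) wt (fun _ => 0) 0 r
  simp only [add_zero, zero_add] at h2
  rw [h2, pathMat_closing r h0 hL]

end Cfsg.Agent.Helper12.RegUnip
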