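import Mathlib
import Cfsg.Agent.Lib.Helper12.RegUnipB

/-!
# Three explicit unipotent matrices generate `SL_{m+3}(F)`
-/

set_option autoImplicit false

namespace Cfsg.Agent.Helper12.RegUnip

open Matrix

variable {F : Type*} [Field F] {m : ℕ}

/-- index `0` -/
def i0 (m : ℕ) : Fin (m + 3) := ⟨0, by omega⟩
/-- index `1` -/
def i1 (m : ℕ) : Fin (m + 3) := ⟨1, by omega⟩
/-- the last but one index -/
def iP (m : ℕ) : Fin (m + 3) := ⟨m + 1, by omega⟩
/-- the last index -/
def iL (m : ℕ) : Fin (m + 3) := ⟨m + 2, by omega⟩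

@[simp] theorem i0_val : (i0 m).val = 0 := rfl
@[simp] theorem i1_val : (i1 m).val = 1 := rfl
@[simp] theorem iP_val : (iP m).val = m + 1 := rfl
@[simp] theorem iL_val : (iL m).val = m + 2 := rfl

/-- weights of `N₁` -/
def wN1 (F : Type*) [Field F] : ℕ → F := fun k => if k = 0 then 0 else 1
/-- weights of `W₀` -/
def wW (F : Type*) [Field F] (m : ℕ) : ℕ → F := fun k => if k = 0 then 0 else if k = m + 1 then 0 else 1
/-- weights of `M` -/
def wM (m : ℕ) (lam : F) : ℕ → F := fun k => if k = 0 then 0 else if k = m + 1 then lam else 1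

/-- the nilpotent Jordan block -/
def Nmat (F : Type*) [Field F] (m : ℕ) : Matrix (Fin (m + 3)) (Fin (m + 3)) F := pathMat (fun _ => 1) 0
/-- `N` without the `(0,1)` entry -/
def N1mat (F : Type*) [Field F] (m : ℕ) : Matrix (Fin (m + 3)) (Fin (m + 3)) F := pathMat (wN1 F) 0
/-- the middle part -/
def Wmat (F : Type*) [Field F] (m : ℕ) : Matrix (Fin (m + 3)) (Fin (m + 3)) F := pathMat (wW F m) 0
/-- `M` without the closing entry -/
def M0mat (m : ℕ) (lam : F) : Matrix (Fin (m + 3)) (Fin (m + 3)) F := pathMat (wM m lam) 0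
/-- the second nilpotent matrix -/
def Mmat (m : ℕ) (lam r : F) : Matrix (Fin (m + 3)) (Fin (m + 3)) F := pathMat (wM m lam) r

theorem Nmat_eq : Nmat F m = N1mat F m + single (i0 m) (i1 m) 1 := by
  unfold Nmat N1mat
  apply pathMat_eq_add_single _ _ _ 0 (1 : F) rfl rfl
  intro k
  unfold wN1
  split_ifs <;> simp

theorem N1mat_eq : N1mat F m = Wmat F m + single (iP m) (iL m) 1 := by
  unfold N1mat Wmat
  apply pathMat_eq_add_single _ _ _ (m + 1) (1 : F) rfl rfl
  intro k
  unfold wN1 wW
  split_ifs <;> first | omega | simp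

theorem M0mat_eq (lam : F) : M0mat m lam = Wmat F m + single (iP m) (iL m) lam := by
  unfold M0mat Wmat
  apply pathMat_eq_add_single _ _ _ (m + 1) lam rfl rfl
  intro k
  unfold wM wW
  split_ifs <;> first | omega | simp

theorem Mmat_eq (lam r : F) : Mmat m lam r = M0mat m lam + single (iL m) (i0 m) r := by
  unfold Mmat M0mat
  exact pathMat_eq_add_closing _ r rfl rfl

end Cfsg.Agent.Helper12.RegUnip
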