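import Mathlib
import Cfsg.Agent.Lib.Helper12.RegUnipC
import Cfsg.Agent.Lib.Helper12.SLGen2

/-!
# Three explicit unipotent matrices generate `SL_{m+3}(F)`: the group-theoretic argument
-/

set_option autoImplicit false

namespace Cfsg.Agent.Helper12.RegUnip

open Matrix

variable {F : Type*} [Field F] {m : ℕ}

theorem i0_ne_iL : i0 m ≠ iL m := by
  intro h
  have := congrArg Fin.val h
  simp at this

theorem i0_ne_i1 : i0 m ≠ i1 m := by
  intro h
  have := congrArg Fin.val h
  simp at this

theorem i1_ne_iL : i1 m ≠ iL m := by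
  intro h
  have := congrArg Fin.val h
  simp at this

theorem iP_ne_iL : iP m ≠ iL m := by
  intro h
  have := congrArg Fin.val h
  simp at this

theorem iP_ne_i0 : iP m ≠ i0 m := by
  intro h
  have := congrArg Fin.val h
  simp at this

section facts

variable (lam r : F)

theorem M_col0 (b : Fin (m + 3)) (t : F) :
    Mmat m lam r * single (i0 m) b t = single (iL m) b (r * t) :=
  pathMat_mul_single_zero _ _ b t rfl rfl

theorem M_row0 (a : Fin (m + 3)) (t : F) : single a (i0 m) t * Mmat m lam r = 0 := by
  have := single_mul_pathMat_succ (wM m lam) r (k := i0 m) (k' := i1 m) a t rfl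
  unfold Mmat
  rw [this]
  simp [wM]

theorem M_rowL (a : Fin (m + 3)) (t : F) :
    single a (iL m) t * Mmat m lam r = single a (i0 m) (t * r) :=
  single_mul_pathMat_last _ _ a t rfl rfl

theorem M_colL (b : Fin (m + 3)) (t : F) :
    Mmat m lam r * single (iL m) b t = single (iP m) b (lam * t) := by
  have := pathMat_mul_single_succ (wM m lam) r (j := iL m) (j' := iP m) b t rfl
  unfold Mmat
  rw [this]
  simp [wM]

theorem M_col_mid {j j' : Fin (m + 3)} (h : j'.val + 1 = j.val) (h1 : 1 ≤ j'.val)
    (h2 : j'.val ≤ m) (b : Fin (m + 3)) (t : F) :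
    Mmat m lam r * single j b t = single j' b (1 * t) := by
  have := pathMat_mul_single_succ (wM m lam) r (j := j) (j' := j') b t h
  unfold Mmat
  rw [this]
  have h3 : wM m lam j'.val = 1 := by
    unfold wM
    rw [if_neg (by omega), if_neg (by omega)]
  rw [h3]

theorem M0_row0 (a : Fin (m + 3)) (t : F) : single a (i0 m) t * M0mat m lam = 0 := by
  have := single_mul_pathMat_succ (wM m lam) 0 (k := i0 m) (k' := i1 m) a t rfl
  unfold M0mat
  rw [this]
  simp [wM]

theorem W_rowL (a : Fin (m + 3)) (t : F) : single a (iL m) t * Wmat F m = 0 := by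
  have := single_mul_pathMat_last (wW F m) 0 (j0 := i0 m) (L := iL m) a t rfl rfl
  unfold Wmat
  rw [this]
  simp

theorem N1_col0 (b : Fin (m + 3)) (t : F) : N1mat F m * single (i0 m) b t = 0 := by
  have := pathMat_mul_single_zero (wN1 F) 0 (j0 := i0 m) (L := iL m) b t rfl rfl
  unfold N1mat
  rw [this]
  simp

theorem N_col {j j' : Fin (m + 3)} (h : j'.val + 1 = j.val) (b : Fin (m + 3)) (t : F) :
    Nmat F m * single j b t = single j' b (1 * t) :=
  pathMat_mul_single_succ _ _ b t h

theorem N_col0 (b : Fin (m + 3)) (t : F) : Nmat F m * single (i0 m) b t = 0 := by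
  have := pathMat_mul_single_zero (fun _ => (1 : F)) 0 (j0 := i0 m) (L := iL m) b t rfl rfl
  unfold Nmat
  rw [this]
  simp

theorem N_row {k k' : Fin (m + 3)} (h : k.val + 1 = k'.val) (a : Fin (m + 3)) (t : F) :
    single a k t * Nmat F m = single a k' (t * 1) :=
  single_mul_pathMat_succ _ _ a t h

theorem N_rowL (a : Fin (m + 3)) (t : F) : single a (iL m) t * Nmat F m = 0 := by
  have := single_mul_pathMat_last (fun _ => (1 : F)) 0 (j0 := i0 m) (L := iL m) a t rfl rfl
  unfold Nmat
  rw [this]
  simp

end facts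

end Cfsg.Agent.Helper12.RegUnip
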