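import Mathlib
import Cfsg.Agent.Lib.Helper12.RegUnipD

/-!
# The Weyl element and its action on root elements
-/

set_option autoImplicit false

namespace Cfsg.Agent.Helper12.RegUnip

open Matrix

variable {F : Type*} [Field F] {m : ℕ}

/-- the monomial element `e_0 ↦ -r e_L`, `e_L ↦ ζ e_0` -/
def Wn (m : ℕ) (zeta r : F) : Matrix (Fin (m + 3)) (Fin (m + 3)) F :=
  1 - single (i0 m) (i0 m) 1 - single (iL m) (iL m) 1 + single (i0 m) (iL m) zeta -
    single (iL m) (i0 m) r

/-- the conjugate `v z v⁻¹` -/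
def Yc (m : ℕ) (zeta r : F) : Matrix (Fin (m + 3)) (Fin (m + 3)) F :=
  1 + single (i0 m) (iL m) zeta - single (i0 m) (i0 m) 1 + single (iL m) (iL m) 1 -
    single (iL m) (i0 m) r

theorem Yc_conj (lam r zeta : F) (hzr : zeta * r = 1) :
    (1 + Mmat m lam r) * (1 + single (i0 m) (iL m) zeta) = Yc m zeta r * (1 + Mmat m lam r) := by
  have hrz : r * zeta = 1 := by rw [mul_comm]; exact hzr
  unfold Yc
  simp only [mul_add, add_mul, sub_mul, Matrix.one_mul, Matrix.mul_one, M_col0, M_row0, M_rowL,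
    hzr, hrz, one_mul]
  abel

theorem Wn_eq (zeta r : F) (hzr : zeta * r = 1) :
    Yc m zeta r * (1 + single (i0 m) (iL m) zeta) * (1 + single (i0 m) (iL m) zeta) =
      Wn m zeta r := by
  have hrz : r * zeta = 1 := by rw [mul_comm]; exact hzr
  have h0L : i0 m ≠ iL m := i0_ne_iL
  unfold Yc Wn
  simp only [mul_add, add_mul, sub_mul, Matrix.one_mul, Matrix.mul_one,
    single_mul_single_same, single_mul_single_of_ne _ _ _ _ h0L,
    single_mul_single_of_ne _ _ _ _ h0L.symm, hzr, hrz, one_mul, mul_one, sub_zero, add_zero,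
    zero_add]
  abel

/-- unit elementary matrix, used as an atom -/
def Eu (a b : Fin (m + 3)) : Matrix (Fin (m + 3)) (Fin (m + 3)) F := single a b 1

theorem single_eq_smul (a b : Fin (m + 3)) (c : F) : single a b c = c • (Eu a b : Matrix _ _ F) := by
  unfold Eu
  rw [smul_single, smul_eq_mul, mul_one]

/-- `W x_{0L}(t) W⁻¹ = x_{L0}(-r² t)` -/
theorem Wn_conj_0L (zeta r : F) (hzr : zeta * r = 1) (t : F) :
    Wn m zeta r * (1 + single (i0 m) (iL m) t) =
      (1 + single (iL m) (i0 m) (-(r * r * t))) * Wn m zeta r := by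
  have hrz : r * zeta = 1 := by rw [mul_comm]; exact hzr
  have h0L : i0 m ≠ iL m := i0_ne_iL
  unfold Wn
  simp only [mul_add, add_mul, sub_mul, mul_sub, Matrix.one_mul, Matrix.mul_one,
    single_mul_single_same, single_mul_single_of_ne _ _ _ _ h0L,
    single_mul_single_of_ne _ _ _ _ h0L.symm, sub_zero, add_zero, zero_add]
  simp only [single_eq_smul]
  linear_combination (norm := module) (r * t * hrz) • (Eu (iL m) (iL m) : Matrix _ _ F)

/-- `W x_{j0}(t) W⁻¹ = x_{jL}(-ζ t)` for `j ≠ 0, L` -/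
theorem Wn_conj_j0 (zeta r : F) (hzr : zeta * r = 1) {j : Fin (m + 3)} (hj0 : j ≠ i0 m)
    (hjL : j ≠ iL m) (t : F) :
    Wn m zeta r * (1 + single j (i0 m) t) =
      (1 + single j (iL m) (-(zeta * t))) * Wn m zeta r := by
  have h0L : i0 m ≠ iL m := i0_ne_iL
  unfold Wn
  simp only [mul_add, add_mul, sub_mul, mul_sub, Matrix.one_mul, Matrix.mul_one,
    single_mul_single_same, single_mul_single_of_ne _ _ _ _ h0L,
    single_mul_single_of_ne _ _ _ _ h0L.symm, single_mul_single_of_ne _ _ _ _ hj0,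
    single_mul_single_of_ne _ _ _ _ hj0.symm, single_mul_single_of_ne _ _ _ _ hjL,
    single_mul_single_of_ne _ _ _ _ hjL.symm, sub_zero, add_zero, zero_add]
  simp only [single_eq_smul]
  linear_combination (norm := module) (-t * hzr) • (Eu j (i0 m) : Matrix _ _ F)

end Cfsg.Agent.Helper12.RegUnip
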