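import Mathlib
import Cfsg.Agent.Lib.Helper12.RegUnipE

/-!
# Three explicit unipotent matrices generate `SL_{m+3}(F)`: main argument
-/

set_option autoImplicit false

namespace Cfsg.Agent.Helper12.RegUnip

open Matrix

variable {F : Type*} [Field F] {m : ℕ}
variable {H : Subgroup (Matrix.SpecialLinearGroup (Fin (m + 3)) F)}

/-- moving up the last column with `u` -/
theorem chainU (hu : (1 + Nmat F m) ∈ Mset H) :
    ∀ (k : ℕ) (j : Fin (m + 3)), j.val = k → j ≠ iL m → ∀ s : F,
      (1 + single j (iL m) s) ∈ Mset H → (1 + single (i0 m) (iL m) s) ∈ Mset H := by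
  intro k
  induction k with
  | zero =>
    intro j hj _ s hs
    have : j = i0 m := Fin.ext (by simp [hj])
    rwa [this] at hs
  | succ k ih =>
    intro j hj hjL s hs
    have hk : k < m + 3 := by
      have := j.isLt
      omega
    have hj' : (⟨k, hk⟩ : Fin (m + 3)) ≠ iL m := by
      intro h
      have h1 := congrArg Fin.val h
      have h2 : j.val ≠ m + 2 := fun h3 => hjL (Fin.ext (by simp [h3]))
      have := j.isLt
      simp at h1
      omega
    have h1 := mset_col_transfer (H := H) (j := j) (j' := ⟨k, hk⟩) (b := iL m) hj' 1 hu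
      (fun t => N_col (by simp [hj]) _ t) (fun x t => N_rowL x t) hs
    rw [one_mul] at h1
    exact ih ⟨k, hk⟩ rfl hj' s h1

section main

variable [Fintype F] (lam r zeta : F)

theorem gen_top (hzr : zeta * r = 1) (hlam : lam ≠ 0)
    (hu : (1 + Nmat F m) ∈ Mset H) (hz : (1 + single (i0 m) (iL m) zeta) ∈ Mset H)
    (hv : (1 + Mmat m lam r) ∈ Mset H)
    (hgen : ∀ K : Subfield F, lam * r ∈ K → K = ⊤) : H = ⊤ := by
  have hr : r ≠ 0 := right_ne_zero_of_mul_eq_one hzr
  have hzeta : zeta ≠ 0 := left_ne_zero_of_mul_eq_one hzr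
  have hY : Yc m zeta r ∈ Mset H := mset_conj hv hz (Yc_conj lam r zeta hzr)
  have hW : Wn m zeta r ∈ Mset H := by
    rw [← Wn_eq zeta r hzr]
    exact mset_mul (mset_mul hY hz) hz
  -- step 1 : (0,L) → (L,0)
  have s1 : ∀ t : F, (1 + single (i0 m) (iL m) t) ∈ Mset H →
      (1 + single (iL m) (i0 m) (-(r * r * t))) ∈ Mset H :=
    fun t ht => mset_conj hW ht (Wn_conj_0L zeta r hzr t)
  -- step 2 : (L,0) → (P,0)
  have s2 : ∀ t : F, (1 + single (iL m) (i0 m) t) ∈ Mset H →
      (1 + single (iP m) (i0 m) (lam * t)) ∈ Mset H :=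
    fun t ht => mset_col_transfer iP_ne_i0 lam hv (fun t => M_colL lam r _ t)
      (fun x t => M_row0 lam r x t) ht
  -- step 3 : (j,0) → (j,L)
  have s3 : ∀ (j : Fin (m + 3)), j ≠ i0 m → j ≠ iL m → ∀ t : F,
      (1 + single j (i0 m) t) ∈ Mset H → (1 + single j (iL m) (-(zeta * t))) ∈ Mset H :=
    fun j hj0 hjL t ht => mset_conj hW ht (Wn_conj_j0 zeta r hzr hj0 hjL t)
  -- the loop
  have loop : ∀ t : F, (1 + single (i0 m) (iL m) t) ∈ Mset H →
      (1 + single (i0 m) (iL m) (lam * r * t)) ∈ Mset H := by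
    intro t ht
    have h3 := s3 _ iP_ne_i0 iP_ne_iL _ (s2 _ (s1 t ht))
    have h4 := chainU hu _ (iP m) rfl iP_ne_iL _ h3
    have e : lam * r * t = -(zeta * (lam * -(r * r * t))) := by
      linear_combination (-(lam * r * t)) * hzr
    rw [e]
    exact h4
  -- the root group (0,L) is full
  have hS : ∀ t : F, t ∈ P H (i0_ne_iL (m := m)) := by
    have hk : lam * r ∈ Cfsg.Agent.Helper12.multiplierSubfield (P H (i0_ne_iL (m := m))) := by
      intro a ha
      rw [mem_P] at ha ⊢
      exact loop a ha
    have htop := hgen _ hk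
    intro t
    have h1 : t * zeta⁻¹ ∈ Cfsg.Agent.Helper12.multiplierSubfield (P H (i0_ne_iL (m := m))) := by
      rw [htop]
      trivial
    have h2 := h1 zeta ((mem_P _ _).mpr hz)
    rwa [mul_assoc, inv_mul_cancel₀ hzeta, mul_one] at h2
  have f0L : Full H (i0 m) (iL m) := fun t => (mem_P _ _).mp (hS t)
  have fL0 : Full H (iL m) (i0 m) := by
    intro s
    have h := s1 (-(s / (r * r))) (f0L _)
    have e : -(r * r * -(s / (r * r))) = s := by
      field_simp
    rwa [e] at h
  have fP0 : Full H (iP m) (i0 m) := by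
    intro s
    have h := s2 (s / lam) (fL0 _)
    have e : lam * (s / lam) = s := by
      field_simp
    rwa [e] at h
  -- all of column 0 below the diagonal
  have fj0mid : ∀ (d : ℕ) (j : Fin (m + 3)), j.val + d = m + 1 → 1 ≤ j.val → Full H j (i0 m) := by
    intro d
    induction d with
    | zero =>
      intro j hj _
      have : j = iP m := Fin.ext (by simp; omega)
      rw [this]
      exact fP0
    | succ d ih =>
      intro j hj h1 t
      have hlt : j.val + 1 < m + 3 := by omega
      have hj0 : j ≠ i0 m := by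
        intro h
        rw [h] at h1
        simp at h1
      have h2 := ih ⟨j.val + 1, hlt⟩ (by simp; omega) (by simp) t
      have h3 := mset_col_transfer (H := H) (j := ⟨j.val + 1, hlt⟩) (j' := j) (b := i0 m) hj0 1 hv
        (fun t => M_col_mid lam r (by simp) h1 (by omega) _ t) (fun x t => M_row0 lam r x t) h2
      rwa [one_mul] at h3
  have fj0 : ∀ j : Fin (m + 3), j ≠ i0 m → Full H j (i0 m) := by
    intro j hj
    by_cases hL : j = iL m
    · rw [hL]
      exact fL0
    · have h1 : 1 ≤ j.val := by
        rcases Nat.eq_zero_or_pos j.val with h | h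
        · exact absurd (Fin.ext (by simp [h])) hj
        · exact h
      have h2 : j.val ≠ m + 2 := fun h => hL (Fin.ext (by simp [h]))
      have h3 := j.isLt
      exact fj0mid (m + 1 - j.val) j (by omega) h1
  -- the element x_{01}(1)
  have hM0 : (1 + M0mat m lam) ∈ Mset H := by
    have e : 1 + Mmat m lam r = (1 + single (iL m) (i0 m) r) * (1 + M0mat m lam) := by
      rw [Mmat_eq]
      simp only [mul_add, add_mul, Matrix.one_mul, Matrix.mul_one, M0_row0]
      abel
    rw [e] at hv
    exact mset_cancel_left (fL0 r) hv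
  have fPL : Full H (iP m) (iL m) := by
    intro s
    have h := s3 _ iP_ne_i0 iP_ne_iL _ (fP0 (-(s / zeta)))
    have e : -(zeta * -(s / zeta)) = s := by
      field_simp
    rwa [e] at h
  have hW0 : (1 + Wmat F m) ∈ Mset H := by
    have e : 1 + M0mat m lam = (1 + single (iP m) (iL m) lam) * (1 + Wmat F m) := by
      rw [M0mat_eq]
      simp only [mul_add, add_mul, Matrix.one_mul, Matrix.mul_one, W_rowL]
      abel
    rw [e] at hM0
    exact mset_cancel_left (fPL lam) hM0
  have hN1 : (1 + N1mat F m) ∈ Mset H := by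
    have e : 1 + N1mat F m = (1 + single (iP m) (iL m) 1) * (1 + Wmat F m) := by
      rw [N1mat_eq]
      simp only [mul_add, add_mul, Matrix.one_mul, Matrix.mul_one, W_rowL]
      abel
    rw [e]
    exact mset_mul (fPL 1) hW0
  have h01 : (1 + single (i0 m) (i1 m) (1 : F)) ∈ Mset H := by
    have e : 1 + Nmat F m = (1 + N1mat F m) * (1 + single (i0 m) (i1 m) 1) := by
      rw [Nmat_eq]
      simp only [mul_add, add_mul, Matrix.one_mul, Matrix.mul_one, N1_col0]
      abel
    rw [e] at hu
    exact mset_cancel_left hN1 hu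
  have fL1 : Full H (iL m) (i1 m) := by
    intro t
    have h := mset_comm (i0_ne_iL (m := m)).symm i0_ne_i1 i1_ne_iL.symm (fL0 t) h01
    rwa [mul_one] at h
  have f01 : Full H (i0 m) (i1 m) := by
    intro t
    have h := mset_comm (i0_ne_iL (m := m)) i1_ne_iL.symm i0_ne_i1 (f0L t) (fL1 1)
    rwa [mul_one] at h
  -- the first row
  have f0k : ∀ (d : ℕ) (k : Fin (m + 3)), k.val = d + 1 → Full H (i0 m) k := by
    intro d
    induction d with
    | zero =>
      intro k hk
      have : k = i1 m := Fin.ext (by simp [hk])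
      rw [this]
      exact f01
    | succ d ih =>
      intro k hk t
      have hlt : d + 1 < m + 3 := by
        have := k.isLt
        omega
      have h0k' : i0 m ≠ (⟨d + 1, hlt⟩ : Fin (m + 3)) := by
        intro h
        have := congrArg Fin.val h
        simp at this
      have h2 := ih ⟨d + 1, hlt⟩ rfl t
      have h3 := mset_row_transfer (H := H) (a := i0 m) (k := ⟨d + 1, hlt⟩) (k' := k) h0k' 1 hu
        (fun t => N_row (by simp [hk]) _ t) (fun y t => N_col0 y t) h2
      rwa [mul_one] at h3
  have f0j : ∀ j : Fin (m + 3), j ≠ i0 m → Full H (i0 m) j := by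
    intro j hj
    have h1 : 1 ≤ j.val := by
      rcases Nat.eq_zero_or_pos j.val with h | h
      · exact absurd (Fin.ext (by simp [h])) hj
      · exact h
    exact f0k (j.val - 1) j (by omega)
  have : Nontrivial (Fin (m + 3)) := ⟨⟨i0 m, iL m, i0_ne_iL⟩⟩
  apply eq_top_of_full
  intro i j hij
  by_cases hi : i = i0 m
  · rw [hi]
    exact f0j j (fun h => hij (hi.trans h.symm))
  · by_cases hj : j = i0 m
    · rw [hj]
      exact fj0 i hi
    · intro t
      have h := mset_comm hi (Ne.symm hj) hij (fj0 i hi t) (f0j j hj 1)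
      rwa [mul_one] at h

end main

end Cfsg.Agent.Helper12.RegUnip
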