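import Mathlib
import Cfsg.Agent.Lib.Helper12.RegUnipF

/-!
# Construction of the three conjugate regular unipotent elements
-/

set_option autoImplicit false

namespace Cfsg.Agent.Helper12.RegUnip

open Matrix

variable {F : Type*} [Field F] {m : ℕ}

theorem ext_mul_single {n : ℕ} {A B : Matrix (Fin n) (Fin n) F}
    (h : ∀ k : Fin n, A * single k k 1 = B * single k k 1) : A = B := by
  ext x k
  have h1 := congrFun (congrFun (h k) x) k
  rwa [mul_single_apply_same, mul_single_apply_same, mul_one, mul_one] at h1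

/-! ### powers of `N` -/

theorem Npow_col : ∀ (k : ℕ) (j j' : Fin (m + 3)), j'.val + k = j.val → ∀ (b : Fin (m + 3)) (t : F),
    Nmat F m ^ k * single j b t = single j' b t := by
  intro k
  induction k with
  | zero =>
    intro j j' h b t
    have : j' = j := Fin.ext (by omega)
    rw [pow_zero, Matrix.one_mul, this]
  | succ k ih =>
    intro j j' h b t
    have hlt : j'.val + k < m + 3 := by
      have := j.isLt
      omega
    rw [pow_succ, Matrix.mul_assoc, N_col (j := j) (j' := ⟨j'.val + k, hlt⟩) (by simp; omega),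
      one_mul]
    exact ih _ _ rfl b t

theorem Npow_col_zero (k : ℕ) (j : Fin (m + 3)) (h : j.val < k) (b : Fin (m + 3)) (t : F) :
    Nmat F m ^ k * single j b t = 0 := by
  obtain ⟨d, rfl⟩ : ∃ d, k = d + (j.val + 1) := ⟨k - (j.val + 1), by omega⟩
  rw [pow_add, pow_succ', Matrix.mul_assoc, Matrix.mul_assoc,
    Npow_col j.val j (i0 m) (by simp) b t, N_col0, Matrix.mul_zero]

theorem N_nilpotent : IsNilpotent (Nmat F m) := by
  refine ⟨m + 3, ?_⟩
  apply ext_mul_single
  intro k
  rw [Npow_col_zero (m + 3) k k.isLt, Matrix.zero_mul]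

theorem Npow_ne_zero : Nmat F m ^ (m + 2) ≠ 0 := by
  intro h
  have h1 := Npow_col (F := F) (m + 2) (iL m) (i0 m) (by simp) (iL m) 1
  rw [h, Matrix.zero_mul] at h1
  have h2 := congrFun (congrFun h1 (i0 m)) (iL m)
  simp at h2

/-! ### the element `u` -/

theorem det_one_add_N : (1 + Nmat F m).det = 1 := by
  have h : (1 + Nmat F m).BlockTriangular id := by
    intro i j hij
    have hij' : j.val < i.val := hij
    rw [Matrix.add_apply, Matrix.one_apply_ne (by intro h; rw [h] at hij'; omega)]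
    unfold Nmat
    rw [pathMat_apply, if_neg (by omega)]
    simp
  rw [Matrix.det_of_upperTriangular h]
  apply Finset.prod_eq_one
  intro i _
  rw [Matrix.add_apply, Matrix.one_apply_eq]
  unfold Nmat
  rw [pathMat_apply, if_neg (by omega)]
  simp

/-- the regular unipotent element -/
def uSL (F : Type*) [Field F] (m : ℕ) : Matrix.SpecialLinearGroup (Fin (m + 3)) F :=
  ⟨1 + Nmat F m, det_one_add_N⟩

theorem uSL_coe : ((uSL F m : Matrix.SpecialLinearGroup (Fin (m + 3)) F) :
    Matrix (Fin (m + 3)) (Fin (m + 3)) F) = 1 + Nmat F m := rfl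

/-- conjugation in `SL` from a matrix identity -/
theorem coe_conj_eq {ι : Type*} [Fintype ι] [DecidableEq ι] (a b : Matrix.SpecialLinearGroup ι F)
    (X : Matrix ι ι F) (h : (a : Matrix ι ι F) * (b : Matrix ι ι F) = X * (a : Matrix ι ι F)) :
    ((a * b * a⁻¹ : Matrix.SpecialLinearGroup ι F) : Matrix ι ι F) = X := by
  have h1 : (a : Matrix ι ι F) * ((a⁻¹ : Matrix.SpecialLinearGroup ι F) : Matrix ι ι F) = 1 := by
    rw [← Matrix.SpecialLinearGroup.coe_mul, mul_inv_cancel, Matrix.SpecialLinearGroup.coe_one]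
  rw [Matrix.SpecialLinearGroup.coe_mul, Matrix.SpecialLinearGroup.coe_mul, h, Matrix.mul_assoc,
    h1, Matrix.mul_one]

/-- the first conjugating element -/
def gSL (m : ℕ) (zeta : F) : Matrix.SpecialLinearGroup (Fin (m + 3)) F :=
  Matrix.SpecialLinearGroup.transvection (iP_ne_i0 (m := m)).symm zeta

theorem gSL_conj (zeta : F) :
    ((gSL m zeta * uSL F m * (gSL m zeta)⁻¹ : Matrix.SpecialLinearGroup (Fin (m + 3)) F) :
      Matrix (Fin (m + 3)) (Fin (m + 3)) F) =
      (1 + Nmat F m) * (1 + single (i0 m) (iL m) zeta) := by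
  apply coe_conj_eq
  have h0L : i0 m ≠ iL m := i0_ne_iL
  have h0P : i0 m ≠ iP m := (iP_ne_i0 (m := m)).symm
  have e1 : single (i0 m) (iP m) zeta * Nmat F m = single (i0 m) (iL m) (zeta * 1) :=
    N_row (k := iP m) (k' := iL m) rfl _ _
  have hg : ((gSL m zeta : Matrix.SpecialLinearGroup (Fin (m + 3)) F) :
      Matrix (Fin (m + 3)) (Fin (m + 3)) F) = 1 + single (i0 m) (iP m) zeta := rfl
  rw [uSL_coe, hg]
  simp only [mul_add, add_mul, Matrix.one_mul, Matrix.mul_one, e1, N_col0,
    single_mul_single_of_ne _ _ _ _ h0L.symm, single_mul_single_of_ne _ _ _ _ h0P.symm,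
    mul_one, Matrix.mul_zero, Matrix.zero_mul, add_zero]
  abel

end Cfsg.Agent.Helper12.RegUnip
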