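import Mathlib
import Cfsg.Agent.Lib.Helper12.RegUnipG

/-!
# The monomial conjugating element
-/

set_option autoImplicit false

namespace Cfsg.Agent.Helper12.RegUnip

open Matrix

variable {F : Type*} [Field F] {m : ℕ}

/-- weights of the monomial element -/
def wA (m : ℕ) (mu : F) : ℕ → F := fun k => if k = m + 1 then mu else 1

/-- the monomial matrix `e_j ↦ α_j e_{j+1}`, `e_L ↦ β e_0` -/
def hmat (m : ℕ) (mu beta : F) : Matrix (Fin (m + 3)) (Fin (m + 3)) F :=
  (pathMat (wA m mu) beta)ᵀ

theorem hmat_col {j j' : Fin (m + 3)} (h : j.val + 1 = j'.val) (mu beta : F) (b : Fin (m + 3))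
    (t : F) : hmat m mu beta * single j b t = single j' b (t * wA m mu j.val) := by
  have h1 := single_mul_pathMat_succ (wA m mu) beta (k := j) (k' := j') b t h
  have h2 := congrArg Matrix.transpose h1
  rw [Matrix.transpose_mul, Matrix.transpose_single, Matrix.transpose_single] at h2
  exact h2

theorem hmat_colL (mu beta : F) (b : Fin (m + 3)) (t : F) :
    hmat m mu beta * single (iL m) b t = single (i0 m) b (t * beta) := by
  have h1 := single_mul_pathMat_last (wA m mu) beta (j0 := i0 m) (L := iL m) b t rfl rfl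
  have h2 := congrArg Matrix.transpose h1
  rw [Matrix.transpose_mul, Matrix.transpose_single, Matrix.transpose_single] at h2
  exact h2

/-- the conjugation relation `h N = M h` -/
theorem hmat_conj (mu : F) (hmu : mu ≠ 0) :
    hmat m mu ((-1) ^ m * mu⁻¹) * Nmat F m =
      Mmat m mu⁻¹ ((-1) ^ m * mu ^ 2) * hmat m mu ((-1) ^ m * mu⁻¹) := by
  apply ext_mul_single
  intro k
  rw [Matrix.mul_assoc, Matrix.mul_assoc]
  by_cases h0 : k.val = 0
  · have hk : k = i0 m := Fin.ext (by simp [h0])
    rw [hk, N_col0, Matrix.mul_zero, hmat_col (j := i0 m) (j' := i1 m) rfl]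
    have := pathMat_mul_single_succ (wM m mu⁻¹) ((-1) ^ m * mu ^ 2) (j := i1 m) (j' := i0 m)
      (i0 m) ((1 : F) * wA m mu (i0 m).val) rfl
    unfold Mmat
    rw [this]
    simp [wM]
  · by_cases hL : k.val = m + 2
    · have hk : k = iL m := Fin.ext (by simp [hL])
      rw [hk, N_col (j := iL m) (j' := iP m) rfl, hmat_col (j := iP m) (j' := iL m) rfl,
        hmat_colL, M_col0]
      congr 1
      simp only [wA, iP_val, if_true, one_mul]
      have e : ((-1 : F) ^ m) * ((-1) ^ m) = 1 := by
        rw [← mul_pow]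
        simp
      calc mu = (((-1 : F) ^ m) * ((-1) ^ m)) * (mu * (mu * mu⁻¹)) := by
            rw [e, mul_inv_cancel₀ hmu, mul_one, one_mul]
        _ = (-1) ^ m * mu ^ 2 * ((-1) ^ m * mu⁻¹) := by ring
    · have h1 : 1 ≤ k.val := Nat.one_le_iff_ne_zero.mpr h0
      have h2 : k.val ≤ m + 1 := by
        have := k.isLt
        omega
      have hlt : k.val - 1 < m + 3 := by omega
      have hlt' : k.val + 1 < m + 3 := by omega
      rw [N_col (j := k) (j' := ⟨k.val - 1, hlt⟩) (by simp; omega),
        hmat_col (j := ⟨k.val - 1, hlt⟩) (j' := k) (by simp; omega),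
        hmat_col (j := k) (j' := ⟨k.val + 1, hlt'⟩) (by simp)]
      have := pathMat_mul_single_succ (wM m mu⁻¹) ((-1) ^ m * mu ^ 2) (j := ⟨k.val + 1, hlt'⟩)
        (j' := k) k ((1 : F) * wA m mu k.val) (by simp)
      unfold Mmat
      rw [this]
      congr 1
      simp only [wA, wM, one_mul]
      by_cases h3 : k.val = m + 1
      · rw [if_neg (by omega), if_neg h0, if_pos h3, if_pos h3, inv_mul_cancel₀ hmu]
      · rw [if_neg (by omega), if_neg h0, if_neg h3, if_neg h3, mul_one]

end Cfsg.Agent.Helper12.RegUnip
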