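import Mathlib
import Cfsg.Agent.Lib.Helper12.RegUnipH

/-!
# Determinant of the monomial element and the final theorem
-/

set_option autoImplicit false

namespace Cfsg.Agent.Helper12.RegUnip

open Matrix

variable {F : Type*} [Field F] {m : ℕ}

/-- the diagonal entries of the monomial matrix -/
def dvec (m : ℕ) (mu beta : F) : Fin (m + 3) → F :=
  fun i => if i.val + 1 = m + 3 then beta else wA m mu i.val

theorem pathMat_eq_submatrix (mu beta : F) :
    (pathMat (wA m mu) beta : Matrix (Fin (m + 3)) (Fin (m + 3)) F) =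
      (Matrix.diagonal (dvec m mu beta)).submatrix id (finRotate (m + 3)).symm := by
  ext i j
  rw [pathMat_apply, Matrix.submatrix_apply, id, Matrix.diagonal_apply]
  have key : (i = (finRotate (m + 3)).symm j) ↔
      (i.val + 1 = j.val ∨ (i.val + 1 = m + 3 ∧ j.val = 0)) := by
    rw [Equiv.eq_symm_apply]
    constructor
    · intro h
      have h1 := congrArg Fin.val h
      rw [coe_finRotate] at h1
      split_ifs at h1 with h2
      · right
        refine ⟨?_, h1.symm⟩
        rw [h2]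
        simp
      · left
        exact h1
    · intro h
      apply Fin.ext
      rw [coe_finRotate]
      rcases h with h | ⟨h1, h2⟩
      · have h3 : i ≠ Fin.last (m + 2) := by
          intro h4
          rw [h4] at h
          have := j.isLt
          simp at h
          omega
        rw [if_neg h3]
        exact h
      · have h3 : i = Fin.last (m + 2) := Fin.ext (by simp; omega)
        rw [if_pos h3]
        exact h2.symm
  by_cases h1 : i.val + 1 = j.val
  · rw [if_pos h1, if_pos (key.mpr (Or.inl h1))]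
    unfold dvec
    rw [if_neg]
    have := j.isLt
    omega
  · rw [if_neg h1]
    by_cases h2 : i.val + 1 = m + 3 ∧ j.val = 0
    · rw [if_pos h2, if_pos (key.mpr (Or.inr h2))]
      unfold dvec
      rw [if_pos h2.1]
    · rw [if_neg h2, if_neg]
      intro h3
      rcases key.mp h3 with h | h
      · exact h1 h
      · exact h2 h

theorem prod_dvec (mu beta : F) : ∏ i, dvec m mu beta i = mu * beta := by
  rw [Fin.prod_univ_castSucc, Fin.prod_univ_castSucc]
  have h1 : ∀ i : Fin (m + 1), dvec m mu beta (Fin.castSucc (Fin.castSucc i)) = 1 := by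
    intro i
    unfold dvec wA
    have := i.isLt
    simp only [Fin.val_castSucc]
    rw [if_neg (by omega), if_neg (by omega)]
  have h2 : dvec m mu beta (Fin.castSucc (Fin.last (m + 1))) = mu := by
    unfold dvec wA
    simp
  have h3 : dvec m mu beta (Fin.last (m + 2)) = beta := by
    unfold dvec
    simp
  rw [Finset.prod_congr rfl (fun i _ => h1 i), Finset.prod_const_one, h2, h3, one_mul]

theorem det_hmat (mu : F) (hmu : mu ≠ 0) : (hmat m mu ((-1) ^ m * mu⁻¹)).det = 1 := by
  unfold hmat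
  rw [Matrix.det_transpose, pathMat_eq_submatrix, Matrix.det_permute', Matrix.det_diagonal,
    prod_dvec, Equiv.Perm.sign_symm, sign_finRotate]
  have e : ((-1 : F) ^ m) * ((-1) ^ m) = 1 := by
    rw [← mul_pow]
    simp
  have e2 : m + 3 - 1 = m + 2 := by omega
  rw [e2]
  push_cast
  calc (-1 : F) ^ (m + 2) * (mu * ((-1) ^ m * mu⁻¹))
      = (((-1 : F) ^ m) * ((-1) ^ m)) * (mu * mu⁻¹) := by ring
    _ = 1 := by rw [e, mul_inv_cancel₀ hmu, one_mul]

/-- the monomial conjugating element -/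
def hSL (m : ℕ) (mu : F) (hmu : mu ≠ 0) : Matrix.SpecialLinearGroup (Fin (m + 3)) F :=
  ⟨hmat m mu ((-1) ^ m * mu⁻¹), det_hmat mu hmu⟩

theorem hSL_conj (mu : F) (hmu : mu ≠ 0) :
    ((hSL m mu hmu * uSL F m * (hSL m mu hmu)⁻¹ : Matrix.SpecialLinearGroup (Fin (m + 3)) F) :
      Matrix (Fin (m + 3)) (Fin (m + 3)) F) = 1 + Mmat m mu⁻¹ ((-1) ^ m * mu ^ 2) := by
  apply coe_conj_eq
  have hh : ((hSL m mu hmu : Matrix.SpecialLinearGroup (Fin (m + 3)) F) :
      Matrix (Fin (m + 3)) (Fin (m + 3)) F) = hmat m mu ((-1) ^ m * mu⁻¹) := rfl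
  rw [uSL_coe, hh, mul_add, add_mul, Matrix.mul_one, Matrix.one_mul, hmat_conj mu hmu]

/-- **Three conjugate regular unipotent elements generate `SL_{m+3}(F)`.** -/
theorem three_conj_regular_unipotent [Fintype F] :
    ∃ u g h : Matrix.SpecialLinearGroup (Fin (m + 3)) F,
      (IsNilpotent ((u : Matrix (Fin (m + 3)) (Fin (m + 3)) F) - 1) ∧
        ((u : Matrix (Fin (m + 3)) (Fin (m + 3)) F) - 1) ^ (m + 2) ≠ 0) ∧
      Subgroup.closure ({u, g * u * g⁻¹, h * u * h⁻¹} :
        Set (Matrix.SpecialLinearGroup (Fin (m + 3)) F)) = ⊤ := by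
  obtain ⟨mu, hgen⟩ := IsCyclic.exists_generator (α := Fˣ)
  have hmu : (mu : F) ≠ 0 := mu.ne_zero
  set r : F := (-1) ^ m * (mu : F) ^ 2 with hr
  set zeta : F := (-1) ^ m * ((mu : F)⁻¹) ^ 2 with hzeta
  have e : ((-1 : F) ^ m) * ((-1) ^ m) = 1 := by
    rw [← mul_pow]
    simp
  have hzr : zeta * r = 1 := by
    rw [hr, hzeta]
    calc (-1 : F) ^ m * ((mu : F)⁻¹) ^ 2 * ((-1) ^ m * (mu : F) ^ 2)
        = (((-1 : F) ^ m) * ((-1) ^ m)) * (((mu : F)⁻¹ * (mu : F)) ^ 2) := by ring
      _ = 1 := by rw [e, inv_mul_cancel₀ hmu, one_pow, one_mul]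
  refine ⟨uSL F m, gSL m zeta, hSL m (mu : F) hmu, ⟨?_, ?_⟩, ?_⟩
  · rw [uSL_coe, add_sub_cancel_left]
    exact N_nilpotent
  · rw [uSL_coe, add_sub_cancel_left]
    exact Npow_ne_zero
  · set H := Subgroup.closure ({uSL F m, gSL m zeta * uSL F m * (gSL m zeta)⁻¹,
      hSL m (mu : F) hmu * uSL F m * (hSL m (mu : F) hmu)⁻¹} :
        Set (Matrix.SpecialLinearGroup (Fin (m + 3)) F)) with hH
    have hu : (1 + Nmat F m) ∈ Mset H := by
      rw [← uSL_coe]
      exact mset_coe (Subgroup.subset_closure (by simp))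
    have hz : (1 + single (i0 m) (iL m) zeta) ∈ Mset H := by
      have h1 : (1 + Nmat F m) * (1 + single (i0 m) (iL m) zeta) ∈ Mset H := by
        rw [← gSL_conj]
        exact mset_coe (Subgroup.subset_closure (by simp))
      exact mset_cancel_left hu h1
    have hv : (1 + Mmat m (mu : F)⁻¹ r) ∈ Mset H := by
      rw [hr, ← hSL_conj (mu : F) hmu]
      exact mset_coe (Subgroup.subset_closure (by simp))
    apply gen_top (mu : F)⁻¹ r zeta hzr (inv_ne_zero hmu) hu hz hv
    intro K hK
    have h1 : ((-1 : F) ^ m) ∈ K := pow_mem (neg_mem (one_mem K)) m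
    have h2 : (mu : F) ∈ K := by
      have h3 : (mu : F) = (-1) ^ m * ((mu : F)⁻¹ * r) := by
        rw [hr]
        calc (mu : F) = (((-1 : F) ^ m) * ((-1) ^ m)) * ((mu : F)⁻¹ * (mu : F)) * (mu : F) := by
              rw [e, inv_mul_cancel₀ hmu, one_mul, one_mul]
          _ = (-1) ^ m * ((mu : F)⁻¹ * ((-1) ^ m * (mu : F) ^ 2)) := by ring
      rw [h3]
      exact mul_mem h1 hK
    rw [eq_top_iff]
    intro x _
    by_cases hx : x = 0
    · rw [hx]
      exact zero_mem K
    · obtain ⟨k, hk⟩ := Subgroup.mem_zpowers_iff.mp (hgen (Units.mk0 x hx))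
      have h4 : x = ((mu ^ k : Fˣ) : F) := by
        rw [hk]
        rfl
      rw [h4, Units.val_zpow_eq_zpow_val]
      exact zpow_mem h2 k

end Cfsg.Agent.Helper12.RegUnip
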