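import Mathlib
import Cfsg.Agent.Lib.Helper15.S74Defs

/-!
# S2474 farm-out (helper15), piece S74-CENT (helper12): an endomorphism commuting with `g` acts on
the field model `U ≅ L = F[ζ]` as a multiplication.
-/

set_option autoImplicit false

open Cfsg.Agent.Helper15.S62

namespace Cfsg.Agent.Helper15.S74

universe u

variable {F : Type u} [Field F]

/-- S74-CENT: the centraliser of `g` in a field model consists of multiplications. -/
theorem exists_mul_of_commute' {U : Type u} [AddCommGroup U] [Module F U]
    {L : Type u} [Field L] [Algebra F L] (φ : L ≃ₗ[F] U) (ζ : L)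
    (hζ : Algebra.adjoin F {ζ} = ⊤) (g a : Module.End F U) (hφ : ∀ x : L, φ (ζ * x) = g (φ x))
    (hcomm : Commute a g) : ∃ μ : L, ∀ x : L, a (φ x) = φ (μ * x) := by
  let a' : L →ₗ[F] L := (φ.symm.toLinearMap.comp a).comp φ.toLinearMap
  have ha' : ∀ x, φ (a' x) = a (φ x) := by
    intro x
    show φ (φ.symm (a (φ x))) = _
    rw [LinearEquiv.apply_symm_apply]
  have hζa : ∀ x, a' (ζ * x) = ζ * a' x := by
    intro x
    apply φ.injective
    rw [ha', hφ, hφ, ha']
    have h1 := congrArg (fun f : Module.End F U => f (φ x)) hcomm.eq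
    simpa [Module.End.mul_apply] using h1
  have hall : ∀ y : L, ∀ x, a' (y * x) = y * a' x := by
    intro y
    have hy : y ∈ Algebra.adjoin F {ζ} := by
      rw [hζ]
      exact Algebra.mem_top
    induction hy using Algebra.adjoin_induction with
    | mem z hz =>
      rw [Set.mem_singleton_iff] at hz
      subst hz
      exact hζa
    | algebraMap c =>
      intro x
      rw [← Algebra.smul_def, ← Algebra.smul_def, map_smul]
    | add y z _ _ hy hz =>
      intro x
      rw [add_mul, map_add, hy, hz, add_mul]
    | mul y z _ _ hy hz =>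
      intro x
      rw [mul_assoc, hy, hz, mul_assoc]
  refine ⟨a' 1, fun x => ?_⟩
  have h1 : a' x = a' 1 * x := by
    have h2 := hall x 1
    rw [mul_one] at h2
    rw [h2, mul_comm]
  rw [← ha', h1]

end Cfsg.Agent.Helper15.S74
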