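import Mathlib
import Cfsg.Agent.Lib.Helper15.S74Defs
import Cfsg.Agent.Lib.Helper19.S62COMPL
import Cfsg.Agent.Lib.Helper25.S74RESTR

/-!
# S2474 farm-out (helper15), piece S74-WSMALL, core (helper12): `wpart_small` with the statement of
`exists_small_of_form` (piece S74-EVENGEN) for `U = Wpart y t` as a hypothesis.
-/

set_option autoImplicit false

open Cfsg.Agent.Helper15.S62

namespace Cfsg.Agent.Helper15.S74

universe u

variable {F : Type u} [Field F]

/-- `Wpart y t` is nonzero when `y ≠ 1` has order dividing `t`, `t` invertible in `F` -/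
theorem s74_wsmall_ne_bot {V : Type u} [AddCommGroup V] [Module F V] (y : Module.End F V) (t : ℕ)
    (ht0 : 0 < t) (htF : (t : F) ≠ 0) (hyt : y ^ t = 1) (hy1 : y ≠ 1) : Wpart y t ≠ ⊥ := by
  intro hbot
  have hc := isCompl_Cpart_Wpart y t ht0 htF hyt
  rw [hbot] at hc
  have htop : Cpart y = ⊤ := by
    have := hc.sup_eq_top
    rwa [sup_bot_eq] at this
  apply hy1
  ext v
  have hv : v ∈ Cpart y := by rw [htop]; exact Submodule.mem_top
  rw [mem_Cpart] at hv
  rw [hv, Module.End.one_apply]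

/-- the core of S74-WSMALL: `hEG` is the statement of `exists_small_of_form` on `Wpart y t` -/
theorem s74_wsmall_core [Fintype F] {V : Type u} [AddCommGroup V] [Module F V]
    [FiniteDimensional F V]
    (B : LinearMap.BilinForm F V) (hnd : LND B) (y : Module.End F V) (hy : Isom B y) (t : ℕ)
    (ht : t.Prime) (ht2 : t ≠ 2) (htF : (t : F) ≠ 0) (hyt : y ^ t = 1) (hy1 : y ≠ 1)
    (hEG : Nontrivial (Wpart y t) → ∀ (y' : Module.End F (Wpart y t)),
      ∑ i ∈ Finset.range t, y' ^ i = 0 →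
      ∀ β : LinearMap.BilinForm F (Wpart y t), LND β → Isom β y' →
      ∃ d : ℕ, 1 ≤ d ∧ 2 * d ≤ Module.finrank F (Wpart y t) ∧
        t ∣ Fintype.card F ^ (2 * d) - 1) :
    ∃ d : ℕ, 1 ≤ d ∧ 2 * d ≤ Module.finrank F (Wpart y t) ∧
      t ∣ Fintype.card F ^ (2 * d) - 1 := by
  have ht0 : 0 < t := ht.pos
  have hW : Invar y (Wpart y t) := invar_wpart y y t (Commute.refl y)
  have hnt : Nontrivial (Wpart y t) :=
    Submodule.nontrivial_iff_ne_bot.2 (s74_wsmall_ne_bot y t ht0 htF hyt hy1)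
  exact hEG hnt (y.restrict hW)
    (restrict_geom_sum y (Wpart y t) hW t le_rfl) (B.restrict (Wpart y t))
    (lnd_restrict_wpart B hnd y hy t ht0 htF hyt) (isom_restrict B y (Wpart y t) hW hy)

end Cfsg.Agent.Helper15.S74
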