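import Mathlib
import Cfsg.Agent.Lib.Helper12.S74WSMALLCore
import Cfsg.Agent.Lib.Helper25.S74EVENGEN

/-!
# S2474 farm-out (helper15), piece S74-WSMALL (helper12): `exists_small_of_form` applied to the
restriction of `y` to `Wpart y t`.
-/

set_option autoImplicit false

open Cfsg.Agent.Helper15.S62

namespace Cfsg.Agent.Helper15.S74

universe u

variable {F : Type u} [Field F]

/-- S74-WSMALL (uses EVENGEN, RESTR): the same for `Wpart y t` inside `V`. -/
theorem wpart_small [Fintype F] {V : Type u} [AddCommGroup V] [Module F V] [FiniteDimensional F V]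
    (B : LinearMap.BilinForm F V) (hnd : LND B) (y : Module.End F V) (hy : Isom B y) (t : ℕ)
    (ht : t.Prime) (ht2 : t ≠ 2) (htF : (t : F) ≠ 0) (hyt : y ^ t = 1) (hy1 : y ≠ 1) :
    ∃ d : ℕ, 1 ≤ d ∧ 2 * d ≤ Module.finrank F (Wpart y t) ∧
      t ∣ Fintype.card F ^ (2 * d) - 1 :=
  s74_wsmall_core B hnd y hy t ht ht2 htF hyt hy1
    (fun _ y' hsum β hβ hiso => exists_small_of_form y' t ht ht2 htF hsum β hβ hiso)

end Cfsg.Agent.Helper15.S74
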