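import Mathlib
import Cfsg.Agent.Lib.Helper12.SL2CuspConv

set_option autoImplicit false

namespace Cfsg.Agent.Helper12

open Cfsg Cfsg.Agent.Helper24 Cfsg.Agent.Helper5

open scoped ComplexConjugate

open Matrix

variable {F : Type*} [Field F] [Fintype F] [DecidableEq F]

/-- a multiplicative character with the same value at `-1` as `θ` -/
noncomputable def alphaOf {g₀ : Matrix.SpecialLinearGroup (Fin 2) F} (θ : torus g₀ →* ℂˣ) :
    MulChar F ℂ :=
  Classical.epsilon (fun α : MulChar F ℂ =>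
    α (-1) = ((θ ⟨negOneSL, negOneSL_mem_torus g₀⟩ : ℂˣ) : ℂ))

omit [Fintype F] [DecidableEq F] in
theorem theta_neg_one {g₀ : Matrix.SpecialLinearGroup (Fin 2) F} (θ : torus g₀ →* ℂˣ) :
    ((θ ⟨negOneSL, negOneSL_mem_torus g₀⟩ : ℂˣ) : ℂ) = 1 ∨
      ((θ ⟨negOneSL, negOneSL_mem_torus g₀⟩ : ℂˣ) : ℂ) = -1 := by
  have h1 := theta_sq_of_scalar θ ⟨negOneSL, negOneSL_mem_torus g₀⟩
    ((isScalar2_iff_eq _).2 (Or.inr rfl))
  have : (((θ ⟨negOneSL, negOneSL_mem_torus g₀⟩ : ℂˣ) : ℂ) - 1) *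
      (((θ ⟨negOneSL, negOneSL_mem_torus g₀⟩ : ℂˣ) : ℂ) + 1) = 0 := by
    linear_combination h1
  rcases mul_eq_zero.1 this with h | h
  · left; exact sub_eq_zero.1 h
  · right; exact eq_neg_of_add_eq_zero_left h

omit [DecidableEq F] in
theorem alphaOf_spec (h2 : (2 : F) ≠ 0) {g₀ : Matrix.SpecialLinearGroup (Fin 2) F}
    (θ : torus g₀ →* ℂˣ) :
    alphaOf θ (-1) = ((θ ⟨negOneSL, negOneSL_mem_torus g₀⟩ : ℂˣ) : ℂ) :=
  Classical.epsilon_spec (exists_mulChar_neg_one h2 _ (theta_neg_one θ))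

/-- the cuspidal character attached to `θ` -/
noncomputable def cuspOf {g₀ : Matrix.SpecialLinearGroup (Fin 2) F} (θ : torus g₀ →* ℂˣ) :
    Matrix.SpecialLinearGroup (Fin 2) F → ℂ :=
  cuspChar g₀ θ (alphaOf θ)

theorem isIrrCharacter_cuspOf (hF : ringChar F ≠ 2) {g₀ : Matrix.SpecialLinearGroup (Fin 2) F}
    (hg₀ : IsElliptic g₀) (θ : torus g₀ →* ℂˣ) (hθ : ∃ c : torus g₀, θ c ^ 2 ≠ 1) :
    IsIrrCharacter (Matrix.SpecialLinearGroup (Fin 2) F) (cuspOf θ) :=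
  isIrrCharacter_cuspChar hF hg₀ θ _ hθ (alphaOf_spec (Ring.two_ne_zero hF) θ)

theorem cuspOf_one (hF : ringChar F ≠ 2) {g₀ : Matrix.SpecialLinearGroup (Fin 2) F}
    (hg₀ : IsElliptic g₀) (θ : torus g₀ →* ℂˣ) : cuspOf θ 1 = (Fintype.card F : ℂ) - 1 :=
  cuspChar_one hF hg₀ θ _

theorem cuspOf_apply_torus (hF : ringChar F ≠ 2) {g₀ : Matrix.SpecialLinearGroup (Fin 2) F}
    (hg₀ : IsElliptic g₀) (θ : torus g₀ →* ℂˣ) (c : torus g₀)
    (hns : ¬ IsScalar2 ((c : Matrix.SpecialLinearGroup (Fin 2) F) : Matrix (Fin 2) (Fin 2) F)) :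
    cuspOf θ c = -(((θ c : ℂˣ) : ℂ) + (((θ c)⁻¹ : ℂˣ) : ℂ)) :=
  cuspChar_apply_torus hF hg₀ θ _ c hns

/-- the sum of the values at a non-central element of the torus of a linear character -/
theorem sum_hom_torus_apply {g₀ : Matrix.SpecialLinearGroup (Fin 2) F}
    (hg₀ : IsElliptic g₀) [Fintype (torus g₀ →* ℂˣ)] (c : torus g₀) (hc : c ≠ 1) :
    ∑ θ : torus g₀ →* ℂˣ, ((θ c : ℂˣ) : ℂ) = 0 := by
  letI : CommGroup (torus g₀) :=
    { (inferInstance : Group (torus g₀)) with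
      mul_comm := fun a b => Subtype.ext (torus_comm g₀ hg₀.not_scalar a.1 b.1 a.2 b.2) }
  obtain ⟨θ₁, hθ₁⟩ := CommGroup.exists_apply_ne_one_of_hasEnoughRootsOfUnity (torus g₀) ℂ hc
  have h1 : ((θ₁ c : ℂˣ) : ℂ) * ∑ θ : torus g₀ →* ℂˣ, ((θ c : ℂˣ) : ℂ) =
      ∑ θ : torus g₀ →* ℂˣ, ((θ c : ℂˣ) : ℂ) := by
    rw [Finset.mul_sum]
    apply Fintype.sum_equiv (Equiv.mulLeft θ₁)
    intro θ
    simp only [Equiv.coe_mulLeft, MonoidHom.mul_apply, Units.val_mul]
  have h3 : (((θ₁ c : ℂˣ) : ℂ) - 1) * ∑ θ : torus g₀ →* ℂˣ, ((θ c : ℂˣ) : ℂ) = 0 := by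
    linear_combination h1
  rcases mul_eq_zero.1 h3 with h | h
  · exfalso
    apply hθ₁
    exact Units.ext (sub_eq_zero.1 h)
  · exact h

open Classical in
/-- the sum of the values at a non-central element of the non-split torus of the irreducible
characters of degree `q - 1` -/
theorem sum_irr_degree_sub_one (hodd : Odd (Fintype.card F)) (hq5 : 5 ≤ Fintype.card F)
    {g₀ : Matrix.SpecialLinearGroup (Fin 2) F} (hg₀ : IsElliptic g₀) (hC : IsCyclic (torus g₀))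
    [Fintype (IrrCharacter (Matrix.SpecialLinearGroup (Fin 2) F))] (c : torus g₀)
    (hns : ¬ IsScalar2 ((c : Matrix.SpecialLinearGroup (Fin 2) F) : Matrix (Fin 2) (Fin 2) F)) :
    ∃ θ₀ : torus g₀ →* ℂˣ, θ₀ ≠ 1 ∧ (∀ x : torus g₀, θ₀ x ^ 2 = 1) ∧
      ∑ ψ ∈ Finset.univ.filter (fun ψ : IrrCharacter (Matrix.SpecialLinearGroup (Fin 2) F) =>
        (ψ : Matrix.SpecialLinearGroup (Fin 2) F → ℂ) 1 = (Fintype.card F : ℂ) - 1),
          (ψ : Matrix.SpecialLinearGroup (Fin 2) F → ℂ) c = 1 + ((θ₀ c : ℂˣ) : ℂ) := by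
  have hF : ringChar F ≠ 2 := by
    intro h
    have := FiniteField.even_card_of_char_two h
    rw [Nat.odd_iff] at hodd
    omega
  have h2 : (2 : F) ≠ 0 := Ring.two_ne_zero hF
  obtain ⟨c₁, hgen⟩ := hC.exists_generator
  have hcardT : Nat.card (torus g₀) = Fintype.card F + 1 := card_centralizer_elliptic hF g₀ hg₀
  have hord : orderOf c₁ = Fintype.card F + 1 := by
    rw [orderOf_eq_card_of_forall_mem_zpowers hgen, hcardT]
  have hns₁ : ¬ IsScalar2 ((c₁ : Matrix.SpecialLinearGroup (Fin 2) F) :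
      Matrix (Fin 2) (Fin 2) F) := by
    intro hs
    have h1 : c₁ ^ 2 = 1 := by
      apply Subtype.ext
      rw [pow_two]
      change c₁.1 * c₁.1 = 1
      rcases (isScalar2_iff_eq c₁.1).1 hs with h | h
      · rw [h, one_mul]
      · rw [h, negOneSL_mul_self]
    have h3 := orderOf_dvd_of_pow_eq_one h1
    rw [hord] at h3
    have := Nat.le_of_dvd (by norm_num) h3
    omega
  have hcardH := card_hom_torus hF hg₀
  haveI : Finite (torus g₀ →* ℂˣ) := Nat.finite_of_card_ne_zero (by rw [hcardH]; omega)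
  letI : Fintype (torus g₀ →* ℂˣ) := Fintype.ofFinite _
  set Ψ : (torus g₀ →* ℂˣ) → IrrCharacter (Matrix.SpecialLinearGroup (Fin 2) F) := fun θ =>
    if h : ∃ c : torus g₀, θ c ^ 2 ≠ 1 then
      ⟨cuspOf θ, isIrrCharacter_cuspOf hF hg₀ θ h⟩
    else ⟨stSL, isIrrCharacter_stSL⟩ with hΨ
  have hΨ_pos : ∀ θ : torus g₀ →* ℂˣ, (∃ c : torus g₀, θ c ^ 2 ≠ 1) →
      ((Ψ θ : IrrCharacter (Matrix.SpecialLinearGroup (Fin 2) F)) :
        Matrix.SpecialLinearGroup (Fin 2) F → ℂ) = cuspOf θ := by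
    intro θ h
    rw [hΨ]
    simp only [dif_pos h]
  set Θ : Finset (torus g₀ →* ℂˣ) := Finset.univ.filter (fun θ => ∃ c : torus g₀, θ c ^ 2 ≠ 1)
    with hΘ
  have hmemc : ∀ θ : torus g₀ →* ℂˣ, θ ∈ Θᶜ → ∀ c : torus g₀, θ c ^ 2 = 1 := by
    intro θ hθ
    rw [Finset.mem_compl, hΘ, Finset.mem_filter] at hθ
    by_contra hcon
    push Not at hcon
    exact hθ ⟨Finset.mem_univ _, hcon⟩
  have hΘc : Θᶜ.card ≤ 2 := by
    have hinj : Set.InjOn (fun θ : torus g₀ →* ℂˣ => θ c₁) (Θᶜ : Finset (torus g₀ →* ℂˣ)) := by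
      intro θ _ θ' _ h
      exact hom_ext_of_generator c₁ hgen θ θ' h
    have hmaps : ∀ θ ∈ Θᶜ, (fun θ : torus g₀ →* ℂˣ => θ c₁) θ ∈ ({1, -1} : Finset ℂˣ) := by
      intro θ hθ
      have h1 := hmemc θ hθ c₁
      rw [Finset.mem_insert, Finset.mem_singleton]
      have : (θ c₁ - 1 : ℂ) * ((θ c₁ : ℂ) + 1) = 0 := by
        have h3 : ((θ c₁ : ℂˣ) : ℂ) ^ 2 = 1 := by
          rw [← Units.val_pow_eq_pow_val, h1, Units.val_one]
        linear_combination h3
      rcases mul_eq_zero.1 this with h | h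
      · left
        exact Units.ext (sub_eq_zero.1 h)
      · right
        apply Units.ext
        rw [Units.val_neg, Units.val_one]
        exact eq_neg_of_add_eq_zero_left h
    exact (Finset.card_le_card_of_injOn _ hmaps hinj).trans Finset.card_le_two
  have hcompl := Finset.card_add_card_compl Θ
  rw [← Nat.card_eq_fintype_card, hcardH] at hcompl
  have hΘcard : Fintype.card F - 1 ≤ Θ.card := by omega
  have hfib : ∀ ψ ∈ Θ.image Ψ, (Θ.filter (fun θ => Ψ θ = ψ)).card ≤ 2 := by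
    intro ψ hψ
    obtain ⟨θ₁, hθ₁, rfl⟩ := Finset.mem_image.1 hψ
    rw [hΘ, Finset.mem_filter] at hθ₁
    have hsub : Θ.filter (fun θ => Ψ θ = Ψ θ₁) ⊆ {θ₁, θ₁⁻¹} := by
      intro θ hθ
      rw [Finset.mem_filter, hΘ, Finset.mem_filter] at hθ
      have h1 : ((Ψ θ : IrrCharacter (Matrix.SpecialLinearGroup (Fin 2) F)) :
          Matrix.SpecialLinearGroup (Fin 2) F → ℂ) = Ψ θ₁ := by rw [hθ.2]
      rw [hΨ_pos θ hθ.1.2, hΨ_pos θ₁ hθ₁.2] at h1
      have h3 := congrFun h1 c₁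
      rw [cuspOf_apply_torus hF hg₀ θ c₁ hns₁, cuspOf_apply_torus hF hg₀ θ₁ c₁ hns₁] at h3
      set x := ((θ c₁ : ℂˣ) : ℂ) with hx
      set y := ((θ₁ c₁ : ℂˣ) : ℂ) with hy
      have hx0 : x ≠ 0 := (θ c₁).ne_zero
      have hy0 : y ≠ 0 := (θ₁ c₁).ne_zero
      have h4 : (x - y) * (x * y - 1) = 0 := by
        rw [Units.val_inv_eq_inv_val, Units.val_inv_eq_inv_val, ← hx, ← hy] at h3
        field_simp at h3
        linear_combination -h3
      rw [Finset.mem_insert, Finset.mem_singleton]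
      rcases mul_eq_zero.1 h4 with h | h
      · left
        apply hom_ext_of_generator c₁ hgen
        exact Units.ext (sub_eq_zero.1 h)
      · right
        apply hom_ext_of_generator c₁ hgen
        rw [MonoidHom.inv_apply]
        apply Units.ext
        rw [Units.val_inv_eq_inv_val, ← hx, ← hy]
        field_simp
        linear_combination h
    exact (Finset.card_le_card hsub).trans Finset.card_le_two
  set D := Finset.univ.filter (fun ψ : IrrCharacter (Matrix.SpecialLinearGroup (Fin 2) F) =>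
    (ψ : Matrix.SpecialLinearGroup (Fin 2) F → ℂ) 1 = (Fintype.card F : ℂ) - 1) with hD
  have hDcard : D.card = (Fintype.card F - 1) / 2 := by
    have := ((Cfsg.Agent.S2299.result hodd).2 hq5).2.2.2.1
    rw [Nat.card_eq_fintype_card, Fintype.card_subtype] at this
    exact this
  have hsubD : Θ.image Ψ ⊆ D := by
    intro ψ hψ
    obtain ⟨θ, hθ, rfl⟩ := Finset.mem_image.1 hψ
    rw [hΘ, Finset.mem_filter] at hθ
    rw [hD, Finset.mem_filter]
    refine ⟨Finset.mem_univ _, ?_⟩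
    rw [hΨ_pos θ hθ.2]
    exact cuspOf_one hF hg₀ θ
  have h3 := Finset.card_le_mul_card_image Θ 2 hfib
  have heq : Θ.image Ψ = D := by
    apply Finset.eq_of_subset_of_card_le hsubD
    rw [hDcard]
    omega
  rw [heq] at h3 hfib
  obtain ⟨k, hk⟩ := hodd
  have hΘeq : Θ.card = Fintype.card F - 1 := by
    rw [hDcard] at h3
    omega
  -- all fibres have exactly two elements
  have hfib2 : ∀ ψ ∈ D, (Θ.filter (fun θ => Ψ θ = ψ)).card = 2 := by
    by_contra hcon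
    push Not at hcon
    obtain ⟨ψ₀, hψ₀, hne⟩ := hcon
    have hlt : ∑ ψ ∈ D, (Θ.filter (fun θ => Ψ θ = ψ)).card < ∑ _ψ ∈ D, 2 := by
      apply Finset.sum_lt_sum hfib
      exact ⟨ψ₀, hψ₀, lt_of_le_of_ne (hfib ψ₀ hψ₀) hne⟩
    rw [← heq, ← Finset.card_eq_sum_card_image Ψ Θ, heq, Finset.sum_const, hDcard, hΘeq,
      smul_eq_mul] at hlt
    omega
  -- the sum over the characters as a sum over the parameters
  have hsumΨ : ∑ ψ ∈ D, 2 * (ψ : Matrix.SpecialLinearGroup (Fin 2) F → ℂ) c =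
      ∑ θ ∈ Θ, ((Ψ θ : IrrCharacter (Matrix.SpecialLinearGroup (Fin 2) F)) :
        Matrix.SpecialLinearGroup (Fin 2) F → ℂ) c := by
    rw [← heq]
    apply Finset.sum_image'
    intro θ hθ
    have hmem : Ψ θ ∈ D := by
      rw [← heq]
      exact Finset.mem_image_of_mem _ hθ
    have : ∀ j ∈ Θ.filter (fun j => Ψ j = Ψ θ),
        ((Ψ j : IrrCharacter (Matrix.SpecialLinearGroup (Fin 2) F)) :
          Matrix.SpecialLinearGroup (Fin 2) F → ℂ) c =
        ((Ψ θ : IrrCharacter (Matrix.SpecialLinearGroup (Fin 2) F)) :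
          Matrix.SpecialLinearGroup (Fin 2) F → ℂ) c := by
      intro j hj
      rw [Finset.mem_filter] at hj
      rw [hj.2]
    rw [Finset.sum_congr rfl this, Finset.sum_const, hfib2 _ hmem]
    simp
  have hval : ∀ θ ∈ Θ, ((Ψ θ : IrrCharacter (Matrix.SpecialLinearGroup (Fin 2) F)) :
      Matrix.SpecialLinearGroup (Fin 2) F → ℂ) c =
      -(((θ c : ℂˣ) : ℂ) + (((θ c)⁻¹ : ℂˣ) : ℂ)) := by
    intro θ hθ
    rw [hΘ, Finset.mem_filter] at hθ
    rw [hΨ_pos θ hθ.2, cuspOf_apply_torus hF hg₀ θ c hns]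
  have hinv : ∑ θ ∈ Θ, (((θ c)⁻¹ : ℂˣ) : ℂ) = ∑ θ ∈ Θ, ((θ c : ℂˣ) : ℂ) := by
    apply Finset.sum_equiv (Equiv.inv (torus g₀ →* ℂˣ))
    · intro θ
      rw [hΘ, Finset.mem_filter, Finset.mem_filter]
      simp only [Finset.mem_univ, true_and, Equiv.inv_apply, MonoidHom.inv_apply, inv_pow]
      constructor
      · rintro ⟨x, hx⟩
        exact ⟨x, fun h => hx (inv_eq_one.1 h)⟩
      · rintro ⟨x, hx⟩
        exact ⟨x, fun h => hx (by rw [h, inv_one])⟩
    · intro θ _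
      simp only [Equiv.inv_apply, MonoidHom.inv_apply]
  have hc1 : c ≠ 1 := by
    intro h
    apply hns
    rw [h, OneMemClass.coe_one, isScalar2_iff_eq]
    left; rfl
  have hall := sum_hom_torus_apply hg₀ c hc1
  rw [← Finset.sum_add_sum_compl Θ] at hall
  -- the two characters of square one
  have hcard2 : Θᶜ.card = 2 := by omega
  have h1mem : (1 : torus g₀ →* ℂˣ) ∈ Θᶜ := by
    rw [Finset.mem_compl, hΘ, Finset.mem_filter]
    rintro ⟨-, x, hx⟩
    apply hx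
    simp
  obtain ⟨x, y, hxy, hΘxy⟩ := Finset.card_eq_two.1 hcard2
  obtain ⟨θ₀, hθ₀1, hΘ0⟩ : ∃ θ₀ : torus g₀ →* ℂˣ, θ₀ ≠ 1 ∧ Θᶜ = {1, θ₀} := by
    rw [hΘxy, Finset.mem_insert, Finset.mem_singleton] at h1mem
    rcases h1mem with h | h
    · exact ⟨y, by rw [h]; exact hxy.symm, by rw [hΘxy, h]⟩
    · exact ⟨x, by rw [h]; exact hxy, by rw [hΘxy, h, Finset.pair_comm]⟩
  have hθ₀mem : θ₀ ∈ Θᶜ := by
    rw [hΘ0]
    simp
  refine ⟨θ₀, hθ₀1, hmemc θ₀ hθ₀mem, ?_⟩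
  rw [hΘ0, Finset.sum_pair hθ₀1.symm] at hall
  have hfinal : 2 * ∑ ψ ∈ D, (ψ : Matrix.SpecialLinearGroup (Fin 2) F → ℂ) c =
      2 * (1 + ((θ₀ c : ℂˣ) : ℂ)) := by
    rw [Finset.mul_sum, hsumΨ, Finset.sum_congr rfl hval, Finset.sum_neg_distrib,
      Finset.sum_add_distrib, hinv]
    simp only [MonoidHom.one_apply, Units.val_one] at hall
    linear_combination (-2) * hall
  exact mul_left_cancel₀ (two_ne_zero) hfinal

omit [DecidableEq F] in
/-- the values of the character of order two of the non-split torus -/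
theorem theta0_apply (hF : ringChar F ≠ 2) (hodd : Odd (Fintype.card F))
    {g₀ : Matrix.SpecialLinearGroup (Fin 2) F} (hg₀ : IsElliptic g₀) (hC : IsCyclic (torus g₀))
    (θ₀ : torus g₀ →* ℂˣ) (h1 : θ₀ ≠ 1) (hsq : ∀ x : torus g₀, θ₀ x ^ 2 = 1) (c : torus g₀) :
    (c ^ ((Fintype.card F + 1) / 2) = 1 → θ₀ c = 1) ∧
      (c ^ ((Fintype.card F + 1) / 2) ≠ 1 → θ₀ c = -1) := by
  classical
  obtain ⟨c₁, hgen⟩ := hC.exists_generator
  have hcardT : Nat.card (torus g₀) = Fintype.card F + 1 := card_centralizer_elliptic hF g₀ hg₀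
  have hord : orderOf c₁ = Fintype.card F + 1 := by
    rw [orderOf_eq_card_of_forall_mem_zpowers hgen, hcardT]
  obtain ⟨k, hk⟩ := hodd
  set m := (Fintype.card F + 1) / 2 with hm
  have hm2 : Fintype.card F + 1 = 2 * m := by omega
  have hmpos : 0 < m := by omega
  have hc1 : θ₀ c₁ = -1 := by
    have h3 := hsq c₁
    have h4 : (θ₀ c₁ - 1 : ℂ) * ((θ₀ c₁ : ℂ) + 1) = 0 := by
      have h5 : ((θ₀ c₁ : ℂˣ) : ℂ) ^ 2 = 1 := by
        rw [← Units.val_pow_eq_pow_val, h3, Units.val_one]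
      linear_combination h5
    rcases mul_eq_zero.1 h4 with h | h
    · exfalso
      apply h1
      apply hom_ext_of_generator c₁ hgen
      rw [MonoidHom.one_apply]
      exact Units.ext (sub_eq_zero.1 h)
    · apply Units.ext
      rw [Units.val_neg, Units.val_one]
      exact eq_neg_of_add_eq_zero_left h
  have hpow2m : c₁ ^ (2 * m) = 1 := by
    rw [← hm2, ← hord]
    exact pow_orderOf_eq_one c₁
  obtain ⟨j, rfl⟩ := Subgroup.mem_zpowers_iff.1 (hgen c)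
  rcases Int.even_or_odd j with ⟨i, hi⟩ | ⟨i, hi⟩
  · have hj : j = 2 * i := by omega
    have hθ : θ₀ (c₁ ^ j) = 1 := by
      rw [map_zpow, hc1, hj]
      exact Even.neg_one_zpow ⟨i, by ring⟩
    exact ⟨fun _ => hθ, fun h => by
      exfalso
      apply h
      rw [hj, ← zpow_natCast, ← _root_.zpow_mul]
      have : (2 * i * (m : ℤ)) = ((2 * m : ℕ) : ℤ) * i := by push_cast; ring
      rw [this, _root_.zpow_mul, zpow_natCast, hpow2m, _root_.one_zpow]⟩
  · have hθ : θ₀ (c₁ ^ j) = -1 := by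
      rw [map_zpow, hc1, hi]
      exact Odd.neg_one_zpow ⟨i, rfl⟩
    refine ⟨fun h => ?_, fun _ => hθ⟩
    exfalso
    have h3 : (c₁ ^ j) ^ m = c₁ ^ m := by
      rw [hi, ← zpow_natCast, ← _root_.zpow_mul]
      have : ((2 * i + 1) * (m : ℤ)) = ((2 * m : ℕ) : ℤ) * i + (m : ℤ) := by push_cast; ring
      rw [this, _root_.zpow_add, _root_.zpow_mul, zpow_natCast, hpow2m, _root_.one_zpow, one_mul, zpow_natCast]
    rw [h3] at h
    have h4 := orderOf_dvd_of_pow_eq_one h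
    rw [hord, hm2] at h4
    have := Nat.le_of_dvd hmpos h4
    omega

end Cfsg.Agent.Helper12
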