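import Mathlib
import Cfsg.Agent.Lib.Helper12.SL2Elliptic

set_option autoImplicit false

namespace Cfsg.Agent.Helper12

open Cfsg Cfsg.Agent.Helper24 Cfsg.Agent.Helper5

open scoped ComplexConjugate

variable {F : Type*} [Field F] [Fintype F] [DecidableEq F]

/-- the Steinberg character at an elliptic element -/
theorem stSL_apply_elliptic (g : Matrix.SpecialLinearGroup (Fin 2) F) (hg : IsElliptic g) :
    stSL g = -1 := by
  unfold stSL st
  have hg' : ∀ (c : F) (v : Fin 2 → F), v ≠ 0 →
      ((Matrix.SpecialLinearGroup.toGL g : GL (Fin 2) F) : Matrix (Fin 2) (Fin 2) F).mulVec v ≠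
        c • v := hg
  rw [resSL_apply, Pi.sub_apply, detChar_apply, toGL_coe, g.2, map_one,
    ps_apply_elliptic 1 1 _ hg']
  ring

/-- a character of degree one has values of modulus one -/
theorem linear_mul_conj {G : Type*} [Group G] [Finite G] {χ : G → ℂ} (hχ : IsCharacter G χ)
    (h1 : χ 1 = 1) (g : G) : χ g * conj (χ g) = 1 := by
  rw [← irr_inv hχ, ← char_mul_of_degree_one hχ h1, mul_inv_cancel, h1]

/-- for `q = 3` all multiplicative characters are quadratic -/
theorem mulChar_sq_eq_one_of_card_three (h3 : Fintype.card F = 3) (μ : MulChar F ℂ) :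
    μ ^ 2 = 1 := by
  have := MulChar.pow_card_eq_one (χ := μ)
  rwa [Fintype.card_units, h3] at this

/-- the degrees of the irreducible characters of `SL₂(3)` -/
theorem SL2_three_degrees (h3 : Fintype.card F = 3)
    {χ : Matrix.SpecialLinearGroup (Fin 2) F → ℂ}
    (hχ : IsIrrCharacter (Matrix.SpecialLinearGroup (Fin 2) F) χ) :
    charDegree χ = 1 ∨ charDegree χ = 2 ∨ (charDegree χ = 3 ∧ χ = stSL) := by
  have hd := irr_one_eq_charDegree hχ
  rcases SL2_degree_cases hχ _ hd with ⟨h, -⟩ | ⟨h, hst⟩ | ⟨-, μ, hμ, -⟩ | ⟨h, -⟩ | ⟨h, -⟩ | ⟨h, -⟩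
  · left; exact h
  · right; right; exact ⟨by omega, hst⟩
  · exact absurd (mulChar_sq_eq_one_of_card_three h3 μ) hμ
  · right; left; omega
  · right; left; omega
  · left; omega

/-- `SL₂(3)` has exactly three linear characters -/
theorem SL2_three_card_linear (h3 : Fintype.card F = 3) :
    Nat.card {χ : IrrCharacter (Matrix.SpecialLinearGroup (Fin 2) F) //
      (χ : Matrix.SpecialLinearGroup (Fin 2) F → ℂ) 1 = ((1 : ℕ) : ℂ)} = 3 := by
  classical
  have hF : ringChar F ≠ 2 := by
    intro h
    have := FiniteField.even_card_of_char_two h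
    omega
  have hD : ∀ χ : Matrix.SpecialLinearGroup (Fin 2) F → ℂ,
      IsIrrCharacter (Matrix.SpecialLinearGroup (Fin 2) F) χ →
      charDegree χ ∈ ({1, 2, 3} : Finset ℕ) := by
    intro χ hχ
    simp only [Finset.mem_insert, Finset.mem_singleton]
    rcases SL2_three_degrees h3 hχ with h | h | ⟨h, -⟩
    · left; exact h
    · right; left; exact h
    · right; right; exact h
  obtain ⟨hcls, hord⟩ := card_irr_fiberwise _ hD
  rw [card_SL2, h3] at hord
  rw [card_conjClasses_SL2 hF, h3] at hcls
  have hn3 : Nat.card {χ : IrrCharacter (Matrix.SpecialLinearGroup (Fin 2) F) //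
      (χ : Matrix.SpecialLinearGroup (Fin 2) F → ℂ) 1 = ((3 : ℕ) : ℂ)} = 1 := by
    apply card_irr_unique _ stSL isIrrCharacter_stSL (by rw [stSL_one_apply, h3])
    intro χ hχ h1
    rcases SL2_three_degrees h3 hχ with h | h | ⟨-, h⟩
    · have := charDegree_natCast 3 h1
      omega
    · have := charDegree_natCast 3 h1
      omega
    · exact h
  have e1 : (1 : ℕ) ∉ ({2, 3} : Finset ℕ) := by simp
  have e2 : (2 : ℕ) ∉ ({3} : Finset ℕ) := by simp
  rw [Finset.sum_insert e1, Finset.sum_insert e2, Finset.sum_singleton, hn3] at hord hcls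
  omega

open Classical in
/-- the characters of degree two of `SL₂(3)` vanish at the elliptic elements -/
theorem SL2_three_vanish (h3 : Fintype.card F = 3)
    {χ : Matrix.SpecialLinearGroup (Fin 2) F → ℂ}
    (hχ : IsIrrCharacter (Matrix.SpecialLinearGroup (Fin 2) F) χ) (h2 : χ 1 = 2)
    (g : Matrix.SpecialLinearGroup (Fin 2) F) (hg : IsElliptic g) : χ g = 0 := by
  letI : Fintype (IrrCharacter (Matrix.SpecialLinearGroup (Fin 2) F)) := irrFintype
  have hF : ringChar F ≠ 2 := by
    intro h
    have := FiniteField.even_card_of_char_two h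
    omega
  have hso := second_orthogonality' g g
  rw [if_pos (IsConj.refl g), card_centralizer_elliptic hF g hg, h3] at hso
  -- real form
  set w : IrrCharacter (Matrix.SpecialLinearGroup (Fin 2) F) → ℝ :=
    fun ψ => Complex.normSq ((ψ : Matrix.SpecialLinearGroup (Fin 2) F → ℂ) g) with hw
  have hsum : ∑ ψ : IrrCharacter (Matrix.SpecialLinearGroup (Fin 2) F), w ψ = 4 := by
    have h1 : ((∑ ψ : IrrCharacter (Matrix.SpecialLinearGroup (Fin 2) F), w ψ : ℝ) : ℂ) = 4 := by
      push_cast
      have hso' : ∑ ψ : IrrCharacter (Matrix.SpecialLinearGroup (Fin 2) F),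
          (ψ : Matrix.SpecialLinearGroup (Fin 2) F → ℂ) g *
            conj ((ψ : Matrix.SpecialLinearGroup (Fin 2) F → ℂ) g) = 4 := by
        rw [hso]; norm_num
      rw [← hso']
      apply Finset.sum_congr rfl
      intro ψ _
      rw [Complex.mul_conj]
    exact_mod_cast h1
  set L := Finset.univ.filter (fun ψ : IrrCharacter (Matrix.SpecialLinearGroup (Fin 2) F) =>
    (ψ : Matrix.SpecialLinearGroup (Fin 2) F → ℂ) 1 = ((1 : ℕ) : ℂ)) with hL
  have hLcard : L.card = 3 := by
    rw [hL, ← Fintype.card_subtype, ← Nat.card_eq_fintype_card]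
    exact SL2_three_card_linear h3
  set s : IrrCharacter (Matrix.SpecialLinearGroup (Fin 2) F) := ⟨stSL, isIrrCharacter_stSL⟩ with hs
  set c : IrrCharacter (Matrix.SpecialLinearGroup (Fin 2) F) := ⟨χ, hχ⟩ with hc
  have hsL : s ∉ L := by
    rw [hL, Finset.mem_filter]
    rintro ⟨-, h⟩
    change stSL (F := F) 1 = ((1 : ℕ) : ℂ) at h
    rw [stSL_one_apply, h3] at h
    norm_num at h
  have hcL : c ∉ L := by
    rw [hL, Finset.mem_filter]
    rintro ⟨-, h⟩
    change χ 1 = ((1 : ℕ) : ℂ) at h
    rw [h2] at h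
    norm_num at h
  have hcs : c ≠ s := by
    intro h
    have h' : χ = stSL := congrArg Subtype.val h
    rw [h', stSL_one_apply, h3] at h2
    norm_num at h2
  have hcT : c ∉ insert s L := by
    rw [Finset.mem_insert]
    push Not
    exact ⟨hcs, hcL⟩
  have hle : ∑ ψ ∈ insert c (insert s L), w ψ ≤ ∑ ψ : IrrCharacter (Matrix.SpecialLinearGroup (Fin 2) F), w ψ := by
    apply Finset.sum_le_univ_sum_of_nonneg
    intro ψ
    exact Complex.normSq_nonneg _
  rw [Finset.sum_insert hcT, Finset.sum_insert hsL, hsum] at hle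
  have hwL : ∑ ψ ∈ L, w ψ = 3 := by
    have : ∀ ψ ∈ L, w ψ = 1 := by
      intro ψ hψ
      rw [hL, Finset.mem_filter] at hψ
      have h1 : (ψ : Matrix.SpecialLinearGroup (Fin 2) F → ℂ) 1 = 1 := by
        rw [hψ.2]; simp
      have := linear_mul_conj (isCharacter_of_isIrrCharacter ψ.2) h1 g
      rw [Complex.mul_conj] at this
      exact_mod_cast this
    rw [Finset.sum_congr rfl this, Finset.sum_const, hLcard]
    norm_num
  have hws : w s = 1 := by
    simp only [hw, hs]
    rw [stSL_apply_elliptic g hg]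
    simp
  rw [hwL, hws] at hle
  have hwc : w c = 0 := by
    have : 0 ≤ w c := Complex.normSq_nonneg _
    linarith
  exact Complex.normSq_eq_zero.1 hwc

end Cfsg.Agent.Helper12
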