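import Mathlib
import Cfsg.Agent.Lib.Helper12.SL2CuspSum
import Cfsg.Agent.S2322

set_option autoImplicit false

namespace Cfsg.Agent.Helper12

open Cfsg Cfsg.Agent.Helper24 Cfsg.Agent.Helper5

open scoped ComplexConjugate

variable {F : Type*} [Field F] [Fintype F] [DecidableEq F]

/-- a sum over a finset on which the summand is constant -/
theorem sum_eq_card_mul_of_forall {ι : Type*} (s : Finset ι) (f : ι → ℂ) (v : ℂ)
    (h : ∀ i ∈ s, f i = v) : ∑ i ∈ s, f i = (s.card : ℂ) * v := by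
  rw [Finset.sum_congr rfl h, Finset.sum_const, nsmul_eq_mul]

open Classical in
/-- the value of an irreducible character of degree `(q - 1) / 2` at a non-central element
of the non-split torus -/
theorem half_sub_apply_torus (hodd : Odd (Fintype.card F)) (hq5 : 5 ≤ Fintype.card F)
    {g₀ : Matrix.SpecialLinearGroup (Fin 2) F} (hg₀ : IsElliptic g₀) (hC : IsCyclic (torus g₀))
    {χ : Matrix.SpecialLinearGroup (Fin 2) F → ℂ}
    (hχ : IsIrrCharacter (Matrix.SpecialLinearGroup (Fin 2) F) χ)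
    (hdeg : χ 1 = (((Fintype.card F - 1) / 2 : ℕ) : ℂ)) (c : torus g₀)
    (hns : ¬ IsScalar2 ((c : Matrix.SpecialLinearGroup (Fin 2) F) : Matrix (Fin 2) (Fin 2) F)) :
    ∃ θ₀ : torus g₀ →* ℂˣ, θ₀ ≠ 1 ∧ (∀ x : torus g₀, θ₀ x ^ 2 = 1) ∧
      χ c = -((θ₀ c : ℂˣ) : ℂ) := by
  letI : Fintype (IrrCharacter (Matrix.SpecialLinearGroup (Fin 2) F)) := irrFintype
  have hF : ringChar F ≠ 2 := by
    intro h
    have := FiniteField.even_card_of_char_two h
    rw [Nat.odd_iff] at hodd
    omega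
  have h2 : (2 : F) ≠ 0 := Ring.two_ne_zero hF
  obtain ⟨θ₀, hθ1, hθsq, hsum⟩ := sum_irr_degree_sub_one hodd hq5 hg₀ hC c hns
  refine ⟨θ₀, hθ1, hθsq, ?_⟩
  have hcounts := (Cfsg.Agent.S2299.result hodd).2 hq5
  have hS2322 := fun ψ hψ => (Cfsg.Agent.S2322.result hodd ψ hψ
    (c : Matrix.SpecialLinearGroup (Fin 2) F)).2
  obtain ⟨k, hk⟩ := hodd
  have hk2 : 2 ≤ k := by omega
  have hcell : IsElliptic (c : Matrix.SpecialLinearGroup (Fin 2) F) :=
    (torus_eq_of_mem hg₀ c.2 hns).1
  have hc1 : (c : Matrix.SpecialLinearGroup (Fin 2) F) ≠ 1 := by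
    intro h
    apply hns
    rw [h, isScalar2_iff_eq]
    left; rfl
  -- second orthogonality
  have hso := second_orthogonality' (c : Matrix.SpecialLinearGroup (Fin 2) F) 1
  rw [if_neg (by rw [isConj_one_right]; exact hc1)] at hso
  have hconj : ∀ ψ : IrrCharacter (Matrix.SpecialLinearGroup (Fin 2) F),
      conj ((ψ : Matrix.SpecialLinearGroup (Fin 2) F → ℂ) 1) =
        (charDegree (ψ : Matrix.SpecialLinearGroup (Fin 2) F → ℂ) : ℂ) := by
    intro ψ
    rw [irr_one_eq_charDegree ψ.2, Complex.conj_natCast]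
  simp only [hconj] at hso
  -- the degrees
  have hmaps : ∀ ψ ∈ (Finset.univ : Finset (IrrCharacter (Matrix.SpecialLinearGroup (Fin 2) F))),
      charDegree (ψ : Matrix.SpecialLinearGroup (Fin 2) F → ℂ) ∈
        ({1, 2 * k + 1, 2 * k + 2, 2 * k, k + 1, k} : Finset ℕ) := by
    intro ψ _
    have := SL2_degree_cases ψ.2 _ (irr_one_eq_charDegree ψ.2)
    simp only [Finset.mem_insert, Finset.mem_singleton]
    rcases this with h | h | h | h | h | h <;> have := h.1 <;> omega
  rw [← Finset.sum_fiberwise_of_maps_to hmaps] at hso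
  rw [Finset.sum_insert (by simp only [Finset.mem_insert, Finset.mem_singleton]; omega),
    Finset.sum_insert (by simp only [Finset.mem_insert, Finset.mem_singleton]; omega),
    Finset.sum_insert (by simp only [Finset.mem_insert, Finset.mem_singleton]; omega),
    Finset.sum_insert (by simp only [Finset.mem_insert, Finset.mem_singleton]; omega),
    Finset.sum_insert (by simp only [Finset.mem_singleton]; omega),
    Finset.sum_singleton] at hso
  -- the fibres
  have hfib : ∀ (d : ℕ) (v : ℂ), v = (d : ℂ) →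
      Finset.univ.filter (fun ψ : IrrCharacter (Matrix.SpecialLinearGroup (Fin 2) F) =>
        charDegree (ψ : Matrix.SpecialLinearGroup (Fin 2) F → ℂ) = d) =
      Finset.univ.filter (fun ψ : IrrCharacter (Matrix.SpecialLinearGroup (Fin 2) F) =>
        (ψ : Matrix.SpecialLinearGroup (Fin 2) F → ℂ) 1 = v) := by
    intro d v hv
    ext ψ
    simp only [Finset.mem_filter, Finset.mem_univ, true_and]
    rw [irr_one_eq_charDegree ψ.2, hv]
    exact Nat.cast_inj.symm
  have hcard : ∀ (d : ℕ) (v : ℂ), v = (d : ℂ) →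
      (Finset.univ.filter (fun ψ : IrrCharacter (Matrix.SpecialLinearGroup (Fin 2) F) =>
        charDegree (ψ : Matrix.SpecialLinearGroup (Fin 2) F → ℂ) = d)).card =
      Nat.card {ψ : IrrCharacter (Matrix.SpecialLinearGroup (Fin 2) F) //
        (ψ : Matrix.SpecialLinearGroup (Fin 2) F → ℂ) 1 = v} := by
    intro d v hv
    rw [hfib d v hv, Nat.card_eq_fintype_card, Fintype.card_subtype]
  have hkq : (Fintype.card F : ℂ) = 2 * (k : ℂ) + 1 := by
    rw [hk]; push_cast; ring
  -- degree one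
  have hs1 : ∑ ψ ∈ Finset.univ.filter
      (fun ψ : IrrCharacter (Matrix.SpecialLinearGroup (Fin 2) F) =>
        charDegree (ψ : Matrix.SpecialLinearGroup (Fin 2) F → ℂ) = 1),
      (ψ : Matrix.SpecialLinearGroup (Fin 2) F → ℂ) c *
        (charDegree (ψ : Matrix.SpecialLinearGroup (Fin 2) F → ℂ) : ℂ) = 1 := by
    rw [sum_eq_card_mul_of_forall _ _ 1, hcard 1 1 (by norm_num), hcounts.1]
    · norm_num
    · intro ψ hψ
      rw [Finset.mem_filter] at hψ
      have := SL2_degree_cases ψ.2 1 (by rw [irr_one_eq_charDegree ψ.2, hψ.2])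
      rcases this with h | h | h | h | h | h
      · rw [hψ.2, h.2]
        norm_num
      all_goals (have := h.1; omega)
  -- the Steinberg character
  have hsq : ∑ ψ ∈ Finset.univ.filter
      (fun ψ : IrrCharacter (Matrix.SpecialLinearGroup (Fin 2) F) =>
        charDegree (ψ : Matrix.SpecialLinearGroup (Fin 2) F → ℂ) = 2 * k + 1),
      (ψ : Matrix.SpecialLinearGroup (Fin 2) F → ℂ) c *
        (charDegree (ψ : Matrix.SpecialLinearGroup (Fin 2) F → ℂ) : ℂ) = -(2 * (k : ℂ) + 1) := by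
    rw [sum_eq_card_mul_of_forall _ _ (-(2 * (k : ℂ) + 1)),
      hcard (2 * k + 1) (Fintype.card F : ℂ) (by rw [hk]), hcounts.2.1]
    · norm_num
    · intro ψ hψ
      rw [Finset.mem_filter] at hψ
      have := SL2_degree_cases ψ.2 (2 * k + 1) (by rw [irr_one_eq_charDegree ψ.2, hψ.2])
      rcases this with h | h | h | h | h | h
      · have := h.1; omega
      · rw [hψ.2, h.2, stSL_apply_elliptic _ hcell]
        push_cast
        ring
      all_goals (have := h.1; omega)
  -- the principal series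
  have hsp : ∑ ψ ∈ Finset.univ.filter
      (fun ψ : IrrCharacter (Matrix.SpecialLinearGroup (Fin 2) F) =>
        charDegree (ψ : Matrix.SpecialLinearGroup (Fin 2) F → ℂ) = 2 * k + 2),
      (ψ : Matrix.SpecialLinearGroup (Fin 2) F → ℂ) c *
        (charDegree (ψ : Matrix.SpecialLinearGroup (Fin 2) F → ℂ) : ℂ) = 0 := by
    apply Finset.sum_eq_zero
    intro ψ hψ
    rw [Finset.mem_filter] at hψ
    rw [hS2322 ψ.1 ψ.2 (Or.inl (by
      rw [irr_one_eq_charDegree ψ.2, hψ.2, hkq]; push_cast; ring)) hcell, zero_mul]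
  have hsh : ∑ ψ ∈ Finset.univ.filter
      (fun ψ : IrrCharacter (Matrix.SpecialLinearGroup (Fin 2) F) =>
        charDegree (ψ : Matrix.SpecialLinearGroup (Fin 2) F → ℂ) = k + 1),
      (ψ : Matrix.SpecialLinearGroup (Fin 2) F → ℂ) c *
        (charDegree (ψ : Matrix.SpecialLinearGroup (Fin 2) F → ℂ) : ℂ) = 0 := by
    apply Finset.sum_eq_zero
    intro ψ hψ
    rw [Finset.mem_filter] at hψ
    have hh : (Fintype.card F + 1) / 2 = k + 1 := by omega
    rw [hS2322 ψ.1 ψ.2 (Or.inr (by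
      rw [irr_one_eq_charDegree ψ.2, hψ.2, hh])) hcell, zero_mul]
  -- the cuspidal characters
  have hsc : ∑ ψ ∈ Finset.univ.filter
      (fun ψ : IrrCharacter (Matrix.SpecialLinearGroup (Fin 2) F) =>
        charDegree (ψ : Matrix.SpecialLinearGroup (Fin 2) F → ℂ) = 2 * k),
      (ψ : Matrix.SpecialLinearGroup (Fin 2) F → ℂ) c *
        (charDegree (ψ : Matrix.SpecialLinearGroup (Fin 2) F → ℂ) : ℂ) =
        (1 + ((θ₀ c : ℂˣ) : ℂ)) * (2 * (k : ℂ)) := by
    have : ∀ ψ ∈ Finset.univ.filter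
        (fun ψ : IrrCharacter (Matrix.SpecialLinearGroup (Fin 2) F) =>
          charDegree (ψ : Matrix.SpecialLinearGroup (Fin 2) F → ℂ) = 2 * k),
        (ψ : Matrix.SpecialLinearGroup (Fin 2) F → ℂ) c *
          (charDegree (ψ : Matrix.SpecialLinearGroup (Fin 2) F → ℂ) : ℂ) =
        (ψ : Matrix.SpecialLinearGroup (Fin 2) F → ℂ) c * (2 * (k : ℂ)) := by
      intro ψ hψ
      rw [Finset.mem_filter] at hψ
      rw [hψ.2]
      push_cast
      ring
    rw [Finset.sum_congr rfl this, ← Finset.sum_mul,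
      hfib (2 * k) ((Fintype.card F : ℂ) - 1) (by rw [hkq]; push_cast; ring), hsum]
  -- the other half
  have hhalf : (Fintype.card F - 1) / 2 = k := by omega
  obtain ⟨π, χ', hP⟩ : ∃ (π : GL (Fin 2) F → ℂ)
      (χ' : Matrix.SpecialLinearGroup (Fin 2) F → ℂ), IsHalfPair (resSL π) χ χ' := by
    have := SL2_degree_cases hχ k (by rw [hdeg, hhalf])
    rcases this with h | h | h | h | h | h
    · have := h.1; omega
    · have := h.1; omega
    · have := h.1; omega
    · have := h.1; omega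
    · have := h.1; omega
    · obtain ⟨-, π, -, -, -, -, χ', hP⟩ := h
      exact ⟨π, χ', hP⟩
  have hχ'c : χ' c = χ c := hP.eq_of_trace_sq_ne hF c (hcell.trace_sq_ne h2)
  have hdχ : charDegree χ = k := charDegree_natCast k (by rw [hdeg, hhalf])
  have hdχ' : charDegree χ' = k := charDegree_natCast k (by rw [hP.one_eq, hdeg, hhalf])
  have hne : (⟨χ, hχ⟩ : IrrCharacter (Matrix.SpecialLinearGroup (Fin 2) F)) ≠ ⟨χ', hP.irr'⟩ :=
    fun h => hP.ne (congrArg Subtype.val h)
  have hpair : ({⟨χ, hχ⟩, ⟨χ', hP.irr'⟩} :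
      Finset (IrrCharacter (Matrix.SpecialLinearGroup (Fin 2) F))) =
      Finset.univ.filter (fun ψ : IrrCharacter (Matrix.SpecialLinearGroup (Fin 2) F) =>
        charDegree (ψ : Matrix.SpecialLinearGroup (Fin 2) F → ℂ) = k) := by
    apply Finset.eq_of_subset_of_card_le
    · intro ψ hψ
      rw [Finset.mem_insert, Finset.mem_singleton] at hψ
      rw [Finset.mem_filter]
      rcases hψ with rfl | rfl
      · exact ⟨Finset.mem_univ _, hdχ⟩
      · exact ⟨Finset.mem_univ _, hdχ'⟩
    · rw [hcard k (((Fintype.card F - 1) / 2 : ℕ) : ℂ) (by rw [hhalf]), hcounts.2.2.2.2.2,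
        Finset.card_pair hne]
  have hsk : ∑ ψ ∈ Finset.univ.filter
      (fun ψ : IrrCharacter (Matrix.SpecialLinearGroup (Fin 2) F) =>
        charDegree (ψ : Matrix.SpecialLinearGroup (Fin 2) F → ℂ) = k),
      (ψ : Matrix.SpecialLinearGroup (Fin 2) F → ℂ) c *
        (charDegree (ψ : Matrix.SpecialLinearGroup (Fin 2) F → ℂ) : ℂ) =
        χ c * (2 * (k : ℂ)) := by
    rw [← hpair, Finset.sum_pair hne]
    change χ c * (charDegree χ : ℂ) + χ' c * (charDegree χ' : ℂ) = _
    rw [hdχ, hdχ', hχ'c]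
    ring
  rw [hs1, hsq, hsp, hsh, hsc, hsk] at hso
  have hk0 : (2 * (k : ℂ)) ≠ 0 := by
    have : (k : ℂ) ≠ 0 := by
      rw [Nat.cast_ne_zero]
      omega
    exact mul_ne_zero two_ne_zero this
  have hfin : (χ c + ((θ₀ c : ℂˣ) : ℂ)) * (2 * (k : ℂ)) = 0 := by
    linear_combination hso
  rcases mul_eq_zero.1 hfin with h | h
  · exact eq_neg_of_add_eq_zero_left h
  · exact absurd h hk0

end Cfsg.Agent.Helper12
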