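import Mathlib
import Cfsg.Agent.S2299
import Cfsg.Agent.Lib.Helper12.SL2Count
import Cfsg.Agent.Lib.Helper12.McKayGen

set_option autoImplicit false

namespace Cfsg.Agent.Helper12

open Cfsg Cfsg.Agent.Helper24 Cfsg.Agent.Helper5

variable {F : Type*} [Field F] [Fintype F] [DecidableEq F]

/-- the number of irreducible characters of `SL₂(q)` of degree prime to `ℓ` -/
theorem card_irr_not_dvd_SL2 (hodd : Odd (Fintype.card F)) (hq5 : 5 ≤ Fintype.card F) (ℓ : ℕ) :
    Nat.card {χ : IrrCharacter (Matrix.SpecialLinearGroup (Fin 2) F) //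
      ¬ ℓ ∣ charDegree (χ : Matrix.SpecialLinearGroup (Fin 2) F → ℂ)} =
      (if ℓ ∣ 1 then 0 else 1) + ((if ℓ ∣ Fintype.card F then 0 else 1) +
      ((if ℓ ∣ Fintype.card F + 1 then 0 else (Fintype.card F - 3) / 2) +
      ((if ℓ ∣ Fintype.card F - 1 then 0 else (Fintype.card F - 1) / 2) +
      ((if ℓ ∣ (Fintype.card F + 1) / 2 then 0 else 2) +
      (if ℓ ∣ (Fintype.card F - 1) / 2 then 0 else 2))))) := by
  classical
  letI : Fintype (IrrCharacter (Matrix.SpecialLinearGroup (Fin 2) F)) := irrFintype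
  have hcounts := (Cfsg.Agent.S2299.result hodd).2 hq5
  obtain ⟨k, hk⟩ := hodd
  have hk2 : 2 ≤ k := by omega
  have hfib : ∀ (d : ℕ) (v : ℂ), v = (d : ℂ) →
      (Finset.univ.filter (fun ψ : IrrCharacter (Matrix.SpecialLinearGroup (Fin 2) F) =>
        charDegree (ψ : Matrix.SpecialLinearGroup (Fin 2) F → ℂ) = d)).card =
      Nat.card {ψ : IrrCharacter (Matrix.SpecialLinearGroup (Fin 2) F) //
        (ψ : Matrix.SpecialLinearGroup (Fin 2) F → ℂ) 1 = v} := by
    intro d v hv
    rw [Nat.card_eq_fintype_card, Fintype.card_subtype]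
    congr 1
    ext ψ
    simp only [Finset.mem_filter, Finset.mem_univ, true_and]
    rw [irr_one_eq_charDegree ψ.2, hv]
    exact Nat.cast_inj.symm
  have hkq : (Fintype.card F : ℂ) = 2 * (k : ℂ) + 1 := by
    rw [hk]; push_cast; ring
  have h1 := hfib 1 1 (by norm_num)
  have h2 := hfib (Fintype.card F) (Fintype.card F : ℂ) rfl
  have h3 := hfib (Fintype.card F + 1) ((Fintype.card F : ℂ) + 1) (by push_cast; ring)
  have h4 := hfib (Fintype.card F - 1) ((Fintype.card F : ℂ) - 1) (by
    rw [Nat.cast_sub (by omega)]; push_cast; ring)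
  have h5 := hfib ((Fintype.card F + 1) / 2) (((Fintype.card F + 1) / 2 : ℕ) : ℂ) rfl
  have h6 := hfib ((Fintype.card F - 1) / 2) (((Fintype.card F - 1) / 2 : ℕ) : ℂ) rfl
  rw [hcounts.1] at h1
  rw [hcounts.2.1] at h2
  rw [hcounts.2.2.1] at h3
  rw [hcounts.2.2.2.1] at h4
  rw [hcounts.2.2.2.2.1] at h5
  rw [hcounts.2.2.2.2.2] at h6
  rw [Nat.card_eq_fintype_card, Fintype.card_subtype]
  have hmaps : ∀ ψ ∈ Finset.univ.filter
      (fun ψ : IrrCharacter (Matrix.SpecialLinearGroup (Fin 2) F) =>
        ¬ ℓ ∣ charDegree (ψ : Matrix.SpecialLinearGroup (Fin 2) F → ℂ)),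
      charDegree (ψ : Matrix.SpecialLinearGroup (Fin 2) F → ℂ) ∈
        ({1, Fintype.card F, Fintype.card F + 1, Fintype.card F - 1, (Fintype.card F + 1) / 2,
          (Fintype.card F - 1) / 2} : Finset ℕ) := by
    intro ψ _
    have := SL2_degree_cases ψ.2 _ (irr_one_eq_charDegree ψ.2)
    simp only [Finset.mem_insert, Finset.mem_singleton]
    rcases this with h | h | h | h | h | h <;> have := h.1 <;> omega
  rw [Finset.card_eq_sum_card_fiberwise hmaps]
  have hfilt : ∀ d : ℕ, ((Finset.univ.filter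
      (fun ψ : IrrCharacter (Matrix.SpecialLinearGroup (Fin 2) F) =>
        ¬ ℓ ∣ charDegree (ψ : Matrix.SpecialLinearGroup (Fin 2) F → ℂ))).filter
      (fun ψ : IrrCharacter (Matrix.SpecialLinearGroup (Fin 2) F) =>
        charDegree (ψ : Matrix.SpecialLinearGroup (Fin 2) F → ℂ) = d)).card =
      if ℓ ∣ d then 0 else (Finset.univ.filter
        (fun ψ : IrrCharacter (Matrix.SpecialLinearGroup (Fin 2) F) =>
        charDegree (ψ : Matrix.SpecialLinearGroup (Fin 2) F → ℂ) = d)).card := by
    intro d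
    split_ifs with hd
    · rw [Finset.card_eq_zero, Finset.filter_eq_empty_iff]
      intro ψ hψ hψd
      rw [Finset.mem_filter] at hψ
      rw [hψd] at hψ
      exact hψ.2 hd
    · congr 1
      ext ψ
      simp only [Finset.mem_filter, Finset.mem_univ, true_and]
      constructor
      · exact fun h => h.2
      · intro h
        exact ⟨by rw [h]; exact hd, h⟩
  simp only [hfilt]
  rw [Finset.sum_insert (by simp only [Finset.mem_insert, Finset.mem_singleton]; omega),
    Finset.sum_insert (by simp only [Finset.mem_insert, Finset.mem_singleton]; omega),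
    Finset.sum_insert (by simp only [Finset.mem_insert, Finset.mem_singleton]; omega),
    Finset.sum_insert (by simp only [Finset.mem_insert, Finset.mem_singleton]; omega),
    Finset.sum_insert (by simp only [Finset.mem_singleton]; omega),
    Finset.sum_singleton, h1, h2, h3, h4, h5, h6]

end Cfsg.Agent.Helper12
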