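import Mathlib
import Cfsg.Agent.S2430
import Cfsg.Agent.Lib.Helper12.SL2McKay
import Cfsg.Agent.Lib.Helper12.SL2Unip
import Cfsg.Agent.Lib.Helper12.SL2Quat

set_option autoImplicit false

namespace Cfsg.Agent.Helper12

open Cfsg Cfsg.Agent.Helper24 Cfsg.Agent.Helper5
open scoped commutatorElement

universe u

section general

variable {G : Type u} [Group G] [Finite G]

theorem card_irr_not_dvd_of_eq {H K : Subgroup G} (h : H = K) (ℓ : ℕ) :
    Nat.card {ψ : IrrCharacter H // ¬ ℓ ∣ charDegree (ψ : H → ℂ)} =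
      Nat.card {ψ : IrrCharacter K // ¬ ℓ ∣ charDegree (ψ : K → ℂ)} := by
  subst h; rfl

theorem not_dvd_charDegree_of_not_dvd_card (ℓ : ℕ) (h : ¬ ℓ ∣ Nat.card G)
    (χ : IrrCharacter G) : ¬ ℓ ∣ charDegree (χ : G → ℂ) := by
  haveI : Fintype G := Fintype.ofFinite G
  intro hdvd
  exact h (dvd_trans hdvd (charDegree_dvd_card χ.2))

/-- the McKay equality for primes not dividing the group order -/
theorem mckay_of_not_dvd (ℓ : ℕ) [Fact ℓ.Prime] (h : ¬ ℓ ∣ Nat.card G) (S : Sylow ℓ G) :
    Nat.card {χ : IrrCharacter G // ¬ ℓ ∣ charDegree (χ : G → ℂ)} =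
    Nat.card {ψ : IrrCharacter (Subgroup.normalizer ((S : Subgroup G) : Set G)) //
      ¬ ℓ ∣ charDegree (ψ : Subgroup.normalizer ((S : Subgroup G) : Set G) → ℂ)} := by
  have hS : (S : Subgroup G) = ⊥ := by
    apply Subgroup.card_eq_one.1
    rw [S.card_eq_multiplicity, Nat.factorization_eq_zero_of_not_dvd h, pow_zero]
  have hN : Subgroup.normalizer ((S : Subgroup G) : Set G) = ⊤ := by
    rw [hS]
    exact Subgroup.normalizer_eq_top (⊥ : Subgroup G)
  have h2 : ∀ ψ : IrrCharacter (Subgroup.normalizer ((S : Subgroup G) : Set G)),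
      ¬ ℓ ∣ charDegree (ψ : Subgroup.normalizer ((S : Subgroup G) : Set G) → ℂ) := by
    apply not_dvd_charDegree_of_not_dvd_card
    intro hdvd
    exact h (dvd_trans hdvd (Subgroup.card_subgroup_dvd_card _))
  rw [card_irr_not_dvd_of_forall ℓ (not_dvd_charDegree_of_not_dvd_card ℓ h),
    card_irr_not_dvd_of_forall ℓ h2, card_conjClasses_of_eq hN]
  exact (card_conjClasses_congr Subgroup.topEquiv).symm

omit [Finite G] in
theorem commutator_index_dvd_of_hurwitz (S : Subgroup G) (c w u : G)
    (hS : ∀ s ∈ S, ∃ i : ℕ, s = c ^ i ∨ s = w * c ^ i)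
    (huc : u * c * u⁻¹ = w) (huw : u * w * u⁻¹ = c * w) :
    (commutator G).index ∣ S.index := by
  apply Subgroup.index_dvd_of_le
  have hc : c ∈ commutator G := by
    have : c = ⁅u, w⁆ := by
      rw [commutatorElement_def, huw]; group
    rw [this, commutator_def]
    exact Subgroup.commutator_mem_commutator (Subgroup.mem_top _) (Subgroup.mem_top _)
  have hw : w ∈ commutator G := by
    rw [← huc]
    exact (inferInstance : (commutator G).Normal).conj_mem c hc u
  intro s hs
  obtain ⟨i, h | h⟩ := hS s hs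
  · rw [h]; exact pow_mem hc i
  · rw [h]; exact mul_mem hw (pow_mem hc i)

end general

variable {F : Type u} [Field F] [Fintype F] [DecidableEq F]

/-- the number of characters of degree prime to the characteristic -/
theorem card_irr_not_dvd_char (hF : ringChar F ≠ 2) (p : ℕ) [Fact p.Prime] [CharP F p] :
    Nat.card {χ : IrrCharacter (Matrix.SpecialLinearGroup (Fin 2) F) //
      ¬ p ∣ charDegree (χ : Matrix.SpecialLinearGroup (Fin 2) F → ℂ)} = Fintype.card F + 3 := by
  classical
  letI : Fintype (IrrCharacter (Matrix.SpecialLinearGroup (Fin 2) F)) := irrFintype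
  have hpp : p.Prime := Fact.out
  have hp1 : p ≠ 1 := hpp.one_lt.ne'
  have hpq : p ∣ Fintype.card F := by
    obtain ⟨n, -, hq⟩ := FiniteField.card F p
    rw [hq]
    exact dvd_pow_self p n.ne_zero
  obtain ⟨St, hSt⟩ : ∃ St : IrrCharacter (Matrix.SpecialLinearGroup (Fin 2) F),
      (St : Matrix.SpecialLinearGroup (Fin 2) F → ℂ) = stSL := ⟨⟨stSL, isIrrCharacter_stSL⟩, rfl⟩
  have hSt1 : (St : Matrix.SpecialLinearGroup (Fin 2) F → ℂ) 1 = (Fintype.card F : ℂ) := by
    rw [hSt, stSL_one_apply]
  have hStd : charDegree (St : Matrix.SpecialLinearGroup (Fin 2) F → ℂ) = Fintype.card F :=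
    charDegree_natCast _ hSt1
  have hdeg : ∀ χ : IrrCharacter (Matrix.SpecialLinearGroup (Fin 2) F), χ ≠ St →
      ¬ p ∣ charDegree (χ : Matrix.SpecialLinearGroup (Fin 2) F → ℂ) := by
    intro χ hχ hdvd
    have hc := SL2_degree_cases χ.2 _ (irr_one_eq_charDegree χ.2)
    have key : ∀ m : ℕ, p ∣ m → (m = Fintype.card F + 1 ∨ m + 1 = Fintype.card F) → False := by
      intro m hm hmq
      rcases hmq with h | h
      · have : p ∣ m - Fintype.card F := Nat.dvd_sub hm hpq
        have e : m - Fintype.card F = 1 := by omega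
        rw [e] at this
        exact hp1 (Nat.dvd_one.1 this)
      · have : p ∣ Fintype.card F - m := Nat.dvd_sub hpq hm
        have e : Fintype.card F - m = 1 := by omega
        rw [e] at this
        exact hp1 (Nat.dvd_one.1 this)
    rcases hc with h | h | h | h | h | h
    · rw [h.1] at hdvd
      exact hp1 (Nat.dvd_one.1 hdvd)
    · apply hχ
      apply Subtype.ext
      rw [h.2, hSt]
    · exact key _ hdvd (Or.inl h.1)
    · exact key _ (Dvd.dvd.mul_left hdvd 2) (Or.inl h.1)
    · exact key _ hdvd (Or.inr h.1)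
    · exact key _ (Dvd.dvd.mul_left hdvd 2) (Or.inr h.1)
  have hcardIrr : Fintype.card (IrrCharacter (Matrix.SpecialLinearGroup (Fin 2) F)) =
      Fintype.card F + 4 := by
    rw [← Nat.card_eq_fintype_card, card_irr_eq_card_conjClasses, card_conjClasses_SL2 hF]
  have e : {χ : IrrCharacter (Matrix.SpecialLinearGroup (Fin 2) F) //
      ¬ p ∣ charDegree (χ : Matrix.SpecialLinearGroup (Fin 2) F → ℂ)} ≃
      {χ : IrrCharacter (Matrix.SpecialLinearGroup (Fin 2) F) // ¬ χ = St} := by
    apply Equiv.subtypeEquivRight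
    intro χ
    constructor
    · rintro h rfl
      apply h
      rw [hStd]
      exact hpq
    · exact hdeg χ
  rw [Nat.card_congr e, Nat.card_eq_fintype_card, Fintype.card_subtype_compl,
    Fintype.card_subtype_eq, hcardIrr]
  rfl

/-- the class number of a subgroup of the normaliser of a torus meeting the torus in a
subgroup of index two -/
theorem card_conjClasses_of_le_normalizer_torus (hF : ringChar F ≠ 2)
    {g : Matrix.SpecialLinearGroup (Fin 2) F} (hr : IsRegularSL g)
    (M : Subgroup (Matrix.SpecialLinearGroup (Fin 2) F))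
    (hM : M ≤ Subgroup.normalizer ((torus g : Subgroup (Matrix.SpecialLinearGroup (Fin 2) F)) :
        Set (Matrix.SpecialLinearGroup (Fin 2) F)))
    (hidx : ((torus g).subgroupOf M).index = 2) (hz : negOneSL ∈ M) :
    2 * Nat.card (ConjClasses M) = Nat.card ((torus g).subgroupOf M) + 6 := by
  have h2 : (2 : F) ≠ 0 := Ring.two_ne_zero hF
  apply card_conjClasses_of_inverting ((torus g).subgroupOf M) hidx
    ?_ ?_ ⟨negOneSL, hz⟩ ?_ ?_ ?_ ?_
  · rintro ⟨a, ha⟩ ha' ⟨b, hb⟩ hb'
    rw [Subgroup.mem_subgroupOf] at ha' hb'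
    apply Subtype.ext
    exact torus_comm g hr.ns a b ha' hb'
  · rintro ⟨x, hx⟩ hxT ⟨t, ht'⟩ htT
    rw [Subgroup.mem_subgroupOf] at hxT htT
    apply Subtype.ext
    change x * t * x⁻¹ = t⁻¹
    rcases (mem_normalizer_torus_iff hr x).1 (hM hx) with h | h
    · exfalso
      apply hxT
      change x ∈ torus g
      rw [mem_torus_iff]
      rw [mul_inv_eq_iff_eq_mul] at h
      exact h.symm
    · exact inverts_torus hr.ns x h t htT
  · rw [Subgroup.mem_subgroupOf]
    exact negOneSL_mem_torus g
  · intro h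
    apply negOneSL_ne_one h2
    exact congrArg Subtype.val h
  · apply Subtype.ext
    exact negOneSL_mul_self
  · rintro ⟨t, ht'⟩ _ htt
    have h1 : t * t = 1 := congrArg Subtype.val htt
    rcases SL2_sq_eq_one h2 t h1 with h | h
    · left; exact Subtype.ext h
    · right; exact Subtype.ext h

end Cfsg.Agent.Helper12
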