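import Mathlib
import Cfsg.Agent.Lib.Helper12.SL2McKayCases

set_option autoImplicit false

namespace Cfsg.Agent.Helper12

open Cfsg Cfsg.Agent.Helper24 Cfsg.Agent.Helper5

universe u

variable {F : Type u} [Field F] [Fintype F] [DecidableEq F]

/-- the generators of a quaternion Sylow `2`-subgroup of order eight together with an element
of order three of its normaliser -/
theorem exists_hurwitz_data (S : Sylow 2 (Matrix.SpecialLinearGroup (Fin 2) F))
    {c : Matrix.SpecialLinearGroup (Fin 2) F}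
    (h : QuatData (S : Subgroup (Matrix.SpecialLinearGroup (Fin 2) F)) c)
    (hF : ringChar F ≠ 2) (h8 : ¬ 8 ∣ Nat.card (torus c)) :
    Nat.card (S : Subgroup (Matrix.SpecialLinearGroup (Fin 2) F)) = 8 ∧
    ∃ w u : Matrix.SpecialLinearGroup (Fin 2) F,
      w ∈ (S : Subgroup (Matrix.SpecialLinearGroup (Fin 2) F)) ∧
      u ∈ Subgroup.normalizer ((S : Subgroup (Matrix.SpecialLinearGroup (Fin 2) F)) :
        Set (Matrix.SpecialLinearGroup (Fin 2) F)) ∧
      u * c * u⁻¹ = w ∧ u * w * u⁻¹ = c * w ∧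
      ∀ s ∈ (S : Subgroup (Matrix.SpecialLinearGroup (Fin 2) F)),
        ∃ i : ℕ, s = c ^ i ∨ s = w * c ^ i := by
  classical
  have h2 : (2 : F) ≠ 0 := Ring.two_ne_zero hF
  have htr := trace_sq_ne_of_sq h2 h.sq
  obtain ⟨hr, hcyc, -⟩ := regular_of_trace_sq_ne hF c htr
  have hcS := h.self_mem hF
  -- the orders
  have hcardK : Nat.card ((S : Subgroup (Matrix.SpecialLinearGroup (Fin 2) F)) ⊓ torus c :
      Subgroup (Matrix.SpecialLinearGroup (Fin 2) F)) = 4 := by
    have h4 := four_dvd_card_torus h2 h.sq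
    have hlt : (Nat.card (torus c)).factorization 2 < 3 := by
      by_contra hcon
      push Not at hcon
      apply h8
      have : (8 : ℕ) = 2 ^ 3 := by norm_num
      rw [this]
      exact (Nat.Prime.pow_dvd_iff_le_factorization Nat.prime_two Nat.card_pos.ne').2 hcon
    have hge : 2 ≤ (Nat.card (torus c)).factorization 2 := by
      have : (4 : ℕ) = 2 ^ 2 := by norm_num
      rw [this] at h4
      exact (Nat.Prime.pow_dvd_iff_le_factorization Nat.prime_two Nat.card_pos.ne').1 h4
    have : (Nat.card (torus c)).factorization 2 = 2 := by omega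
    rw [h.cardT, this]
    norm_num
  have hcardS : Nat.card (S : Subgroup (Matrix.SpecialLinearGroup (Fin 2) F)) = 8 := by
    rw [h.card, hcardK]
  refine ⟨hcardS, ?_⟩
  obtain ⟨w, hwS, hwT⟩ := h.exists_not_mem
  have hwc := h.inverts hF w hwS hwT
  have hww : w * w = negOneSL := by
    apply Subtype.ext
    rw [negOneSL_coe]
    exact sq_of_mem_normalizer_torus hr w (h.le hwS) hwT
  obtain ⟨u, huc, huw⟩ := exists_hurwitz h2 c w h.sq hww hwc
  -- the intersection with the torus is generated by `c`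
  have hKc : ∀ k ∈ ((S : Subgroup (Matrix.SpecialLinearGroup (Fin 2) F)) ⊓ torus c :
      Subgroup (Matrix.SpecialLinearGroup (Fin 2) F)), ∃ i : ℕ, k = c ^ i := by
    have hle : Subgroup.zpowers c ≤ ((S : Subgroup (Matrix.SpecialLinearGroup (Fin 2) F)) ⊓
        torus c : Subgroup (Matrix.SpecialLinearGroup (Fin 2) F)) := by
      rw [Subgroup.zpowers_le]
      exact ⟨hcS, self_mem_torus c⟩
    have hcardz : Nat.card (Subgroup.zpowers c) = 4 := by
      rw [Nat.card_zpowers, orderOf_of_sq h2 h.sq]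
    have heq := Subgroup.eq_of_le_of_card_ge hle (by rw [hcardK, hcardz])
    intro k hk
    rw [← heq] at hk
    obtain ⟨i, hi⟩ := mem_powers_iff_mem_zpowers.2 hk
    exact ⟨i, hi.symm⟩
  have hgen : ∀ s ∈ (S : Subgroup (Matrix.SpecialLinearGroup (Fin 2) F)),
      ∃ i : ℕ, s = c ^ i ∨ s = w * c ^ i := by
    intro s hs'
    by_cases hsT : s ∈ torus c
    · obtain ⟨i, hi⟩ := hKc s ⟨hs', hsT⟩
      exact ⟨i, Or.inl hi⟩
    · have h1 : w⁻¹ * s ∈ torus c :=
        inv_mul_mem_torus_of_inverts hwc (h.inverts hF s hs' hsT)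
      obtain ⟨i, hi⟩ := hKc (w⁻¹ * s)
        ⟨(S : Subgroup (Matrix.SpecialLinearGroup (Fin 2) F)).mul_mem
          ((S : Subgroup (Matrix.SpecialLinearGroup (Fin 2) F)).inv_mem hwS) hs', h1⟩
      refine ⟨i, Or.inr ?_⟩
      rw [← hi]
      group
  refine ⟨w, u, hwS, ?_, huc, huw, hgen⟩
  -- `u` normalises `S`
  apply Subgroup.mem_normalizer_fintype
  intro s hs
  have hs' : s ∈ (S : Subgroup (Matrix.SpecialLinearGroup (Fin 2) F)) := hs
  have hcw : c * w ∈ (S : Subgroup (Matrix.SpecialLinearGroup (Fin 2) F)) := mul_mem hcS hwS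
  obtain ⟨i, hi | hi⟩ := hgen s hs'
  · have : u * c ^ i * u⁻¹ = w ^ i := by
      rw [← huc, conj_pow]
    rw [hi, this]
    exact pow_mem hwS i
  · have hci : u * c ^ i * u⁻¹ = w ^ i := by
      rw [← huc, conj_pow]
    have : u * s * u⁻¹ = (c * w) * w ^ i := by
      have e : u * (w * c ^ i) * u⁻¹ = (u * w * u⁻¹) * (u * c ^ i * u⁻¹) := by group
      rw [hi, e, huw, hci]
    rw [this]
    exact mul_mem hcw (pow_mem hwS i)

/-- the number of odd degree characters of the normaliser of a quaternion Sylow `2`-subgroup of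
order eight -/
theorem card_irr_odd_normalizer_of_not_eight_dvd
    (S : Sylow 2 (Matrix.SpecialLinearGroup (Fin 2) F))
    {c : Matrix.SpecialLinearGroup (Fin 2) F}
    (h : QuatData (S : Subgroup (Matrix.SpecialLinearGroup (Fin 2) F)) c)
    (hF : ringChar F ≠ 2) (h8 : ¬ 8 ∣ Nat.card (torus c)) :
    Nat.card {ψ : IrrCharacter (Subgroup.normalizer
      ((S : Subgroup (Matrix.SpecialLinearGroup (Fin 2) F)) :
        Set (Matrix.SpecialLinearGroup (Fin 2) F))) //
      ¬ 2 ∣ charDegree (ψ : Subgroup.normalizer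
      ((S : Subgroup (Matrix.SpecialLinearGroup (Fin 2) F)) :
        Set (Matrix.SpecialLinearGroup (Fin 2) F)) → ℂ)} = 4 := by
  obtain ⟨hS8, w, u, hwS, huN, huc, huw, hgen⟩ := exists_hurwitz_data S h hF h8
  have h24 : Nat.card (Subgroup.normalizer
      ((S : Subgroup (Matrix.SpecialLinearGroup (Fin 2) F)) :
        Set (Matrix.SpecialLinearGroup (Fin 2) F))) = 24 := by
    rw [card_normalizer_of_not_eight_dvd S h hF h8, hS8]
  apply card_irr_odd_of_card_24 h24
  have hcS := h.self_mem hF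
  have hle : (S : Subgroup (Matrix.SpecialLinearGroup (Fin 2) F)) ≤ Subgroup.normalizer
      ((S : Subgroup (Matrix.SpecialLinearGroup (Fin 2) F)) :
        Set (Matrix.SpecialLinearGroup (Fin 2) F)) := Subgroup.le_normalizer
  have hidx : ((S : Subgroup (Matrix.SpecialLinearGroup (Fin 2) F)).subgroupOf
      (Subgroup.normalizer ((S : Subgroup (Matrix.SpecialLinearGroup (Fin 2) F)) :
        Set (Matrix.SpecialLinearGroup (Fin 2) F)))).index = 3 := by
    have := Subgroup.card_mul_index ((S : Subgroup (Matrix.SpecialLinearGroup (Fin 2) F)).subgroupOf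
      (Subgroup.normalizer ((S : Subgroup (Matrix.SpecialLinearGroup (Fin 2) F)) :
        Set (Matrix.SpecialLinearGroup (Fin 2) F))))
    rw [Nat.card_congr (Subgroup.subgroupOfEquivOfLe hle).toEquiv, hS8, h24] at this
    omega
  rw [← hidx]
  apply commutator_index_dvd_of_hurwitz _ ⟨c, hle hcS⟩ ⟨w, hle hwS⟩ ⟨u, huN⟩ ?_
    (Subtype.ext huc) (Subtype.ext huw)
  rintro ⟨s, hsN⟩ hs
  rw [Subgroup.mem_subgroupOf] at hs
  obtain ⟨i, hi | hi⟩ := hgen s hs
  · exact ⟨i, Or.inl (Subtype.ext (by rw [Subgroup.coe_pow]; exact hi))⟩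
  · exact ⟨i, Or.inr (Subtype.ext (by rw [Subgroup.coe_mul, Subgroup.coe_pow]; exact hi))⟩

/-- for `q = 3` the group `SL₂(q)` has exactly four characters of odd degree -/
theorem card_irr_odd_SL2_of_card_three
    (S : Sylow 2 (Matrix.SpecialLinearGroup (Fin 2) F))
    {c : Matrix.SpecialLinearGroup (Fin 2) F}
    (h : QuatData (S : Subgroup (Matrix.SpecialLinearGroup (Fin 2) F)) c)
    (hF : ringChar F ≠ 2) (h8 : ¬ 8 ∣ Nat.card (torus c)) (hq : Fintype.card F = 3) :
    Nat.card {χ : IrrCharacter (Matrix.SpecialLinearGroup (Fin 2) F) //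
      ¬ 2 ∣ charDegree (χ : Matrix.SpecialLinearGroup (Fin 2) F → ℂ)} = 4 := by
  obtain ⟨hS8, w, u, hwS, huN, huc, huw, hgen⟩ := exists_hurwitz_data S h hF h8
  have h24 : Nat.card (Matrix.SpecialLinearGroup (Fin 2) F) = 24 := by
    rw [card_SL2, hq]
    norm_num
  apply card_irr_odd_of_card_24 h24
  have hidx : (S : Subgroup (Matrix.SpecialLinearGroup (Fin 2) F)).index = 3 := by
    have := Subgroup.card_mul_index (S : Subgroup (Matrix.SpecialLinearGroup (Fin 2) F))
    rw [hS8, h24] at this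
    omega
  rw [← hidx]
  exact commutator_index_dvd_of_hurwitz _ c w u hgen huc huw

/-- a quaternion Sylow `2`-subgroup has exactly four characters of odd degree -/
theorem card_irr_odd_of_quatData {S : Subgroup (Matrix.SpecialLinearGroup (Fin 2) F)}
    {c : Matrix.SpecialLinearGroup (Fin 2) F} (h : QuatData S c) (hF : ringChar F ≠ 2) :
    Nat.card {ψ : IrrCharacter S // ¬ 2 ∣ charDegree (ψ : S → ℂ)} = 4 := by
  have h2 : (2 : F) ≠ 0 := Ring.two_ne_zero hF
  have htr := trace_sq_ne_of_sq h2 h.sq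
  obtain ⟨hr, hcyc, -⟩ := regular_of_trace_sq_ne hF c htr
  have hcS := h.self_mem hF
  have hz : negOneSL ∈ S := by
    rw [← h.sq]
    exact mul_mem hcS hcS
  have hcardA : Nat.card ((torus c).subgroupOf S) =
      Nat.card (S ⊓ torus c : Subgroup (Matrix.SpecialLinearGroup (Fin 2) F)) := by
    rw [inf_comm, ← Subgroup.inf_subgroupOf_right]
    exact Nat.card_congr (Subgroup.subgroupOfEquivOfLe inf_le_right).toEquiv
  have hidx : ((torus c).subgroupOf S).index = 2 := by
    have h1 := Subgroup.card_mul_index ((torus c).subgroupOf S)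
    rw [hcardA, h.card] at h1
    have hpos : 0 < Nat.card (S ⊓ torus c : Subgroup (Matrix.SpecialLinearGroup (Fin 2) F)) :=
      Nat.card_pos
    rw [mul_comm 2] at h1
    exact Nat.eq_of_mul_eq_mul_left hpos h1
  have hk := card_conjClasses_of_le_normalizer_torus hF hr S h.le hidx hz
  apply card_irr_odd_of_index_two ((torus c).subgroupOf S) ?_ hidx
  · rw [h.card, ← hcardA]
    omega
  · rintro ⟨a, ha⟩ ha' ⟨b, hb⟩ hb'
    rw [Subgroup.mem_subgroupOf] at ha' hb'
    apply Subtype.ext
    exact torus_comm c hr.ns a b ha' hb'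

end Cfsg.Agent.Helper12
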