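import Mathlib
import Cfsg.Agent.Lib.Helper12.SLVecChar

/-!
# The permutation character of `SL ι F` on nonzero vectors is `1 +` a sum of `q - 1` distinct
irreducible characters (`|ι| ≥ 3`)
-/

set_option autoImplicit false

namespace Cfsg.Agent.Helper12

open Cfsg Cfsg.Agent.Helper24

variable {F : Type*} [Field F] [Fintype F] [DecidableEq F] {ι : Type*} [Fintype ι] [DecidableEq ι]

theorem permChar_nz_decomp (hι : 2 < Fintype.card ι) :
    ∃ χ : Fin (Fintype.card F - 1) → (Matrix.SpecialLinearGroup ι F → ℂ),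
      (∀ i, IsIrrCharacter (Matrix.SpecialLinearGroup ι F) (χ i)) ∧ Function.Injective χ ∧
      ∀ g : Matrix.SpecialLinearGroup ι F,
        Cfsg.Agent.Helper18.permChar (Matrix.SpecialLinearGroup ι F) (NZ ι F) g =
          1 + ∑ i, χ i g := by
  classical
  letI : Fintype (MulChar F ℂ) := Fintype.ofFinite _
  obtain ⟨i₀⟩ : Nonempty ι := Fintype.card_pos_iff.mp (by omega)
  have hι1 : 1 < Fintype.card ι := by omega
  haveI := isPretransitive_nz (F := F) (ι := ι) hι1
  obtain ⟨ψ, hψ⟩ : ∃ ψ : MulChar F ℂ → Matrix.SpecialLinearGroup ι F → ℂ,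
      ψ = fun μ => indFun (lineStab i₀) (lineChar i₀ μ) := ⟨_, rfl⟩
  have hψchar : ∀ μ, IsCharacter (Matrix.SpecialLinearGroup ι F) (ψ μ) := by
    intro μ
    rw [hψ]
    exact isCharacter_indFun _ (isCharacter_of_isIrrCharacter (isIrrCharacter_lineChar i₀ μ))
  have hπ : Cfsg.Agent.Helper18.permChar (Matrix.SpecialLinearGroup ι F) (NZ ι F) =
      ∑ μ, ψ μ := by
    funext g
    rw [Finset.sum_apply, hψ]
    simp only
    rw [sum_indFun_lineChar hι1 i₀ g]
    exact congrFun (Cfsg.Agent.S0190.result (NZ ι F) (e0 i₀ : NZ ι F)) g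
  have hnorm : classInner (Cfsg.Agent.Helper18.permChar (Matrix.SpecialLinearGroup ι F) (NZ ι F))
      (Cfsg.Agent.Helper18.permChar (Matrix.SpecialLinearGroup ι F) (NZ ι F)) =
      (Fintype.card F : ℂ) := by
    rw [Cfsg.Agent.Helper18.inner_permChar_self (e0 i₀ : NZ ι F),
      card_orbits_stabilizer_nz hι i₀, Nat.card_eq_fintype_card]
  have hone : IsIrrCharacter (Matrix.SpecialLinearGroup ι F) (fun _ => (1 : ℂ)) :=
    isIrrCharacter_one
  have h11 : classInner (ψ 1) (fun _ => (1 : ℂ)) ≠ 0 := by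
    rw [hψ]
    simp only
    rw [frobenius_reciprocity (lineStab i₀) _
      (isClassFunction_of_isCharacter (isCharacter_of_isIrrCharacter hone))]
    unfold classInner
    simp only [lineChar_one_apply, map_one, mul_one, Finset.sum_const, Finset.card_univ,
      nsmul_eq_mul]
    rw [← Nat.card_eq_fintype_card]
    have : (Nat.card (lineStab (F := F) i₀) : ℂ) ≠ 0 := by
      have : Nat.card (lineStab (F := F) i₀) ≠ 0 := Nat.card_pos.ne'
      exact_mod_cast this
    rw [inv_mul_cancel₀ this]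
    exact one_ne_zero
  have hindex : (lineStab (F := F) i₀).index ≠ 1 := by
    rw [Ne, Subgroup.index_eq_one]
    exact lineStab_ne_top hι1 i₀
  have hindex0 : (lineStab (F := F) i₀).index ≠ 0 := Subgroup.index_ne_zero_of_finite
  have hψ1 : ∀ μ, ψ μ 1 = ((lineStab (F := F) i₀).index : ℂ) := by
    intro μ
    rw [hψ]
    simp only
    rw [indFun_one]
    have : lineChar i₀ μ (1 : lineStab (F := F) i₀) = 1 := by
      show μ (lam i₀ (1 : Matrix.SpecialLinearGroup ι F)) = 1
      rw [lam_one, map_one]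
    rw [this, mul_one]
  obtain ⟨Φ, hΦ⟩ : ∃ Φ : Option (MulChar F ℂ) → Matrix.SpecialLinearGroup ι F → ℂ,
      Φ = fun o => match o with
        | none => fun _ => (1 : ℂ)
        | some μ => if μ = 1 then ψ 1 - (fun _ => (1 : ℂ)) else ψ μ := ⟨_, rfl⟩
  have hΦnone : Φ none = fun _ => (1 : ℂ) := by rw [hΦ]
  have hΦsome : ∀ μ, Φ (some μ) = if μ = 1 then ψ 1 - (fun _ => (1 : ℂ)) else ψ μ := by
    intro μ
    rw [hΦ]
  have hΦchar : ∀ o, IsCharacter (Matrix.SpecialLinearGroup ι F) (Φ o) := by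
    intro o
    cases o with
    | none =>
      rw [hΦnone]
      exact isCharacter_of_isIrrCharacter hone
    | some μ =>
      rw [hΦsome]
      by_cases hμ : μ = 1
      · rw [if_pos hμ]
        exact Cfsg.Agent.Helper8.isCharacter_sub_constituent (hψchar 1) hone h11
      · rw [if_neg hμ]
        exact hψchar μ
  have hΦne : ∀ o, Φ o ≠ 0 := by
    intro o h0
    have h1 := congrFun h0 1
    cases o with
    | none =>
      rw [hΦnone] at h1
      simp at h1
    | some μ =>
      rw [hΦsome] at h1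
      by_cases hμ : μ = 1
      · rw [if_pos hμ, Pi.sub_apply, hψ1, Pi.zero_apply, sub_eq_zero] at h1
        apply hindex
        exact_mod_cast h1
      · rw [if_neg hμ, hψ1, Pi.zero_apply] at h1
        apply hindex0
        exact_mod_cast h1
  have hΦsum : ∑ o, Φ o =
      Cfsg.Agent.Helper18.permChar (Matrix.SpecialLinearGroup ι F) (NZ ι F) := by
    rw [Fintype.sum_option, hΦnone, hπ]
    have : ∀ μ, Φ (some μ) = ψ μ - (if μ = 1 then
        (fun _ : Matrix.SpecialLinearGroup ι F => (1 : ℂ)) else 0) := by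
      intro μ
      rw [hΦsome]
      by_cases hμ : μ = 1
      · rw [if_pos hμ, if_pos hμ, hμ]
      · rw [if_neg hμ, if_neg hμ, sub_zero]
    simp only [this]
    rw [Finset.sum_sub_distrib, Finset.sum_ite_eq' Finset.univ (1 : MulChar F ℂ),
      if_pos (Finset.mem_univ _)]
    abel
  have hcard : (Fintype.card (Option (MulChar F ℂ)) : ℂ) = (Fintype.card F : ℂ) := by
    rw [Fintype.card_option, card_mulChar]
    have : 1 ≤ Fintype.card F := Fintype.card_pos
    have h2 : Fintype.card F - 1 + 1 = Fintype.card F := by omega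
    rw [h2]
  obtain ⟨hirr, hinj⟩ := irr_of_sum_norm Φ hΦchar hΦne (by rw [hΦsum, hnorm, hcard])
  obtain ⟨e⟩ : Nonempty (Fin (Fintype.card F - 1) ≃ MulChar F ℂ) :=
    ⟨(Fintype.equivFinOfCardEq card_mulChar).symm⟩
  refine ⟨fun i => Φ (some (e i)), fun i => hirr _, ?_, ?_⟩
  · intro i j hij
    exact e.injective (Option.some_injective _ (hinj hij))
  · intro g
    rw [← hΦsum, Finset.sum_apply, Fintype.sum_option, hΦnone]
    congr 1
    exact (Equiv.sum_comp e (fun μ => Φ (some μ) g)).symm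

end Cfsg.Agent.Helper12
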