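import Mathlib
import Cfsg.Agent.Lib.Helper17.SLkDefs

/-!
# S2479 (helper17 farm-out) PIECE SLK-DET (helper12): determinant of an invertible matrix from a
primary decomposition of its `F[X]`-module.
-/

set_option autoImplicit false

open Polynomial

namespace Cfsg.Agent.Helper17.SLk

open Cfsg.Agent.Helper17.GLk

universe u

variable {F : Type u} [Field F]

/-- the quotient `F[X] ⧸ (g)` is finite-dimensional for `g ≠ 0` -/
theorem slk_det_finite (g : F[X]) (hg : g ≠ 0) :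
    FiniteDimensional F (F[X] ⧸ Ideal.span {g}) :=
  (AdjoinRoot.powerBasis hg).finite

/-- `X • w = mulQ g X w` on the quotient -/
theorem slk_det_X_smul (g : F[X]) (w : F[X] ⧸ Ideal.span {g}) :
    (X : F[X]) • w = mulQ g X w := by
  obtain ⟨x, rfl⟩ := Ideal.Quotient.mk_surjective w
  rfl

/-- PIECE SLK-DET. -/
theorem det_of_decomp
    (hpi : ∀ {ι : Type u} [Fintype ι] {M : ι → Type u} [∀ i, AddCommGroup (M i)]
      [∀ i, Module F (M i)] [∀ i, FiniteDimensional F (M i)] (f : ∀ i, M i →ₗ[F] M i),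
      LinearMap.det (LinearMap.pi fun i => (f i).comp (LinearMap.proj i)) =
        ∏ i, LinearMap.det (f i))
    (hX : ∀ g : F[X], g ≠ 0 → LinearMap.det (mulQ g X) = uconst (nrm g))
    (hU : ∀ (p : F[X]), p ≠ 0 → ∀ e : ℕ, uconst (nrm (p ^ e)) = uconst (nrm p) ^ e)
    {n : ℕ} (A : Matrix.GeneralLinearGroup (Fin n) F) {ι : Type u} [Fintype ι]
    {p : ι → F[X]} {e : ι → ℕ} (h : IsDecomp (endOf A) ι p e) :
    (A : Matrix (Fin n) (Fin n) F).det = ∏ i, uconst (nrm (p i)) ^ e i := by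
  obtain ⟨hirr, he, ⟨φ⟩⟩ := h
  have hne : ∀ i, p i ^ e i ≠ 0 := fun i => pow_ne_zero _ (hirr i).ne_zero
  haveI : ∀ i, FiniteDimensional F (F[X] ⧸ Ideal.span {p i ^ e i}) :=
    fun i => slk_det_finite _ (hne i)
  -- the `F`-linear equivalence `F^n ≃ Π i, F[X]/(p i ^ e i)`
  let ψ : (Fin n → F) ≃ₗ[F] ((i : ι) → F[X] ⧸ Ideal.span {p i ^ e i}) :=
    (Module.AEval'.of (endOf A)).trans (φ.restrictScalars F)
  have hconj : (ψ : (Fin n → F) →ₗ[F] _) ∘ₗ (endOf A) ∘ₗ (ψ.symm : _ →ₗ[F] (Fin n → F)) =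
      LinearMap.pi fun i => (mulQ (p i ^ e i) X).comp (LinearMap.proj i) := by
    apply LinearMap.ext
    intro w
    obtain ⟨v, rfl⟩ := ψ.surjective w
    funext i
    simp only [LinearMap.comp_apply, LinearEquiv.coe_coe, LinearEquiv.symm_apply_apply,
      LinearMap.pi_apply, LinearMap.proj_apply]
    show φ (Module.AEval'.of (endOf A) (endOf A v)) i = _
    rw [← Module.AEval'.X_smul_of, map_smul, Pi.smul_apply, slk_det_X_smul]
    rfl
  have h1 : (A : Matrix (Fin n) (Fin n) F).det = LinearMap.det (endOf A) :=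
    (LinearMap.det_toLin' _).symm
  rw [h1, ← LinearMap.det_conj (endOf A) ψ, hconj, hpi]
  refine Finset.prod_congr rfl (fun i _ => ?_)
  rw [hX _ (hne i), hU _ (hirr i).ne_zero]

end Cfsg.Agent.Helper17.SLk
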