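import Mathlib
import Cfsg.Agent.Lib.Helper17.SLkDefs

/-!
# S2479 (helper17 farm-out) PIECE SLK-DETT (helper12): `detT` of the type tuple of a decomposition.
-/

set_option autoImplicit false

open Polynomial

namespace Cfsg.Agent.Helper17.SLk

open Cfsg.Agent.Helper17.GLk

universe u

variable {F : Type u} [Field F]

/-- `uconst` of a finite product of nonzero polynomials -/
theorem slk_dett_uconst_prod
    (hmul : ∀ f g : F[X], f ≠ 0 → g ≠ 0 → uconst (f * g) = uconst f * uconst g)
    (hone : uconst (1 : F[X]) = 1) {ι : Type*} (s : Finset ι) (g : ι → F[X])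
    (hg : ∀ i ∈ s, g i ≠ 0) : uconst (∏ i ∈ s, g i) = ∏ i ∈ s, uconst (g i) := by
  classical
  induction s using Finset.induction_on with
  | empty => simpa using hone
  | insert a s ha ih =>
    rw [Finset.prod_insert ha, Finset.prod_insert ha,
      hmul _ _ (hg a (Finset.mem_insert_self a s))
        (Finset.prod_ne_zero_iff.mpr (fun i hi => hg i (Finset.mem_insert_of_mem hi))),
      ih (fun i hi => hg i (Finset.mem_insert_of_mem hi))]

/-- regrouping a product over `ι` by the value of `e i ∈ [1, n]` -/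
theorem slk_dett_regroup {ι : Type*} [Fintype ι] [DecidableEq ι] {M : Type*} [CommMonoid M]
    (e : ι → ℕ) (n : ℕ) (g : ι → M) (he : ∀ i, 1 ≤ e i) (hen : ∀ i, e i ≤ n) :
    ∏ j : Fin n, ∏ i ∈ Finset.univ.filter (fun i => e i = (j : ℕ) + 1), g i = ∏ i, g i := by
  have hlt : ∀ i, e i - 1 < n := fun i => by have := he i; have := hen i; omega
  rw [← Finset.prod_fiberwise_of_maps_to (s := (Finset.univ : Finset ι))
    (t := (Finset.univ : Finset (Fin n))) (g := fun i => (⟨e i - 1, hlt i⟩ : Fin n))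
    (fun _ _ => Finset.mem_univ _) g]
  refine Finset.prod_congr rfl (fun j _ => ?_)
  refine Finset.prod_congr ?_ (fun _ _ => rfl)
  ext i
  simp only [Finset.mem_filter, Finset.mem_univ, true_and, Fin.ext_iff]
  have := he i
  omega

/-- PIECE SLK-DETT. -/
theorem detT_tuple
    (hmul : ∀ f g : F[X], f ≠ 0 → g ≠ 0 → uconst (f * g) = uconst f * uconst g)
    (hone : uconst (1 : F[X]) = 1)
    {ι : Type u} [Fintype ι] {p : ι → F[X]} {e : ι → ℕ} (n : ℕ)
    (hp : ∀ i, Irreducible (p i)) (he : ∀ i, 1 ≤ e i)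
    (hdim : ∑ i, e i * (p i).natDegree = n) :
    detT (fun j : Fin n => tupleOfDecomp p e ((j : ℕ) + 1)) =
      ∏ i, uconst (nrm (p i)) ^ e i := by
  classical
  have hdeg : ∀ i, 1 ≤ (p i).natDegree := fun i => (hp i).natDegree_pos
  have hen : ∀ i, e i ≤ n := by
    intro i
    have h1 : e i * (p i).natDegree ≤ ∑ i, e i * (p i).natDegree :=
      Finset.single_le_sum (f := fun i => e i * (p i).natDegree) (fun _ _ => Nat.zero_le _)
        (Finset.mem_univ i)
    rw [hdim] at h1
    have h2 : e i * 1 ≤ e i * (p i).natDegree := Nat.mul_le_mul_left _ (hdeg i)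
    omega
  have hnz : ∀ i, nrm (p i) ≠ 0 := by
    intro i
    rw [nrm_eq]
    apply mul_ne_zero (hp i).ne_zero
    rw [Ne, C_eq_zero, inv_eq_zero, leadingCoeff_eq_zero]
    exact (hp i).ne_zero
  unfold detT
  have h1 : ∀ j : Fin n, uconst (tupleOfDecomp p e ((j : ℕ) + 1)) ^ ((j : ℕ) + 1) =
      ∏ i ∈ Finset.univ.filter (fun i => e i = (j : ℕ) + 1), uconst (nrm (p i)) ^ e i := by
    intro j
    rw [tupleOfDecomp_eq, slk_dett_uconst_prod hmul hone _ _ (fun i _ => hnz i),
      ← Finset.prod_pow]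
    refine Finset.prod_congr rfl (fun i hi => ?_)
    rw [(Finset.mem_filter.mp hi).2]
  rw [Finset.prod_congr rfl (fun j _ => h1 j)]
  exact slk_dett_regroup e n (fun i => uconst (nrm (p i)) ^ e i) he hen

end Cfsg.Agent.Helper17.SLk
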