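import Mathlib
import Cfsg.Agent.Lib.Helper12.RegUnipA
import Cfsg.Agent.Lib.Helper12.SLGen2

/-!
# Two conjugate regular unipotent elements generating `SL_n`: rank one calculus

The matrices `Mm a b φ x = 1 + e_a ⊗ φ + x ⊗ e_b` form a group of Heisenberg type; we record the
conjugation rule, the product rule and the commutator step used to produce a root element.
-/

set_option autoImplicit false

namespace Cfsg.Agent.Helper12.SLtwo

open Matrix Cfsg.Agent.Helper12.RegUnip

variable {ι : Type*} [Fintype ι] [DecidableEq ι] {F : Type*} [Field F]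

/-- standard basis vector -/
def eV (i : ι) : ι → F := Pi.single i 1

theorem eV_apply (i j : ι) : (eV i : ι → F) j = if j = i then 1 else 0 := by
  unfold eV
  rw [Pi.single_apply]

theorem eV_same (i : ι) : (eV i : ι → F) i = 1 := by
  rw [eV_apply, if_pos rfl]

theorem eV_ne {i j : ι} (h : j ≠ i) : (eV i : ι → F) j = 0 := by
  rw [eV_apply, if_neg h]

theorem dot_eV (φ : ι → F) (i : ι) : φ ⬝ᵥ eV i = φ i := by
  unfold eV
  rw [dotProduct_single, mul_one]

theorem eV_dot (i : ι) (x : ι → F) : eV i ⬝ᵥ x = x i := by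
  unfold eV
  rw [single_dotProduct, one_mul]

/-- `single` as a rank one matrix -/
theorem single_eq_vmv (i j : ι) (t : F) :
    (single i j t : Matrix ι ι F) = vecMulVec (eV i) (t • eV j) := by
  ext a b
  rw [single_apply, vecMulVec_apply, Pi.smul_apply, eV_apply, eV_apply, smul_eq_mul]
  by_cases ha : a = i
  · by_cases hb : b = j
    · subst ha; subst hb; simp
    · have : ¬ (i = a ∧ j = b) := fun h => hb h.2.symm
      rw [if_neg this, if_neg hb, mul_zero, mul_zero]
  · have : ¬ (i = a ∧ j = b) := fun h => ha h.1.symm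
    rw [if_neg this, if_neg ha, zero_mul]

/-- row vector times `1 + x ⊗ ψ` -/
theorem vecMul_one_add_vmv (φ x ψ : ι → F) :
    φ ᵥ* (1 + vecMulVec x ψ) = φ + (φ ⬝ᵥ x) • ψ := by
  rw [vecMul_add, vecMul_one, vecMul_vecMulVec]

/-- `1 + x ⊗ ψ` times a column vector -/
theorem one_add_vmv_mulVec (x ψ z : ι → F) :
    (1 + vecMulVec x ψ) *ᵥ z = z + (ψ ⬝ᵥ z) • x := by
  rw [add_mulVec, one_mulVec, vecMulVec_mulVec]
  simp

/-- the matrix `1 + e_a ⊗ φ + x ⊗ e_b` -/
def Mm (a b : ι) (φ x : ι → F) : Matrix ι ι F :=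
  1 + vecMulVec (eV a) φ + vecMulVec x (eV b)

/-- conjugation rule -/
theorem Mm_conj (a b : ι) (A : Matrix ι ι F) (φ x : ι → F)
    (ha : A *ᵥ eV a = eV a) (hb : eV b ᵥ* A = eV b) :
    A * Mm a b (φ ᵥ* A) x = Mm a b φ (A *ᵥ x) * A := by
  unfold Mm
  rw [mul_add, mul_add, add_mul, add_mul, Matrix.mul_one, Matrix.one_mul, mul_vecMulVec,
    mul_vecMulVec, vecMulVec_mul, vecMulVec_mul, ha, hb]

/-- product rule -/
theorem Mm_mul (a b : ι) (hab : a ≠ b) (φ x φ' x' : ι → F) (hφ : φ a = 0) (hx' : x' b = 0) :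
    Mm a b φ x * Mm a b φ' x' = Mm a b (φ + φ' + (φ ⬝ᵥ x') • eV b) (x + x') := by
  unfold Mm
  have h1 : (eV b : ι → F) ⬝ᵥ eV a = 0 := by
    rw [dot_eV, eV_ne hab]
  simp only [mul_add, add_mul, Matrix.mul_one, Matrix.one_mul, vecMulVec_mul_vecMulVec, dot_eV,
    eV_dot, hφ, hx', h1, zero_smul, vecMulVec_zero, vecMulVec_add, add_vecMulVec, add_zero]
  abel

/-- `Mm` with only a multiple of `e_b` in the row part is a root element -/
theorem Mm_root (a b : ι) (c : F) :
    Mm a b (c • eV b) (0 : ι → F) = 1 + single a b c := by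
  unfold Mm
  rw [zero_vecMulVec, add_zero, single_eq_vmv]

end Cfsg.Agent.Helper12.SLtwo
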