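import Mathlib
import Cfsg.Agent.Lib.Helper12.SLtwoA

/-!
# The commutator step producing the seed root element
-/

set_option autoImplicit false

namespace Cfsg.Agent.Helper12.SLtwo

open Matrix Cfsg.Agent.Helper12.RegUnip

variable {ι : Type*} [Fintype ι] [DecidableEq ι] {F : Type*} [Field F]
variable {H : Subgroup (SpecialLinearGroup ι F)}

/-- the element `a = (1 + e_{k1} ⊗ y)(1 - κ e_{i1} ⊗ e_{i0})` -/
def Aelt (i0 i1 k1 : ι) (κ : F) (y : ι → F) : Matrix ι ι F :=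
  (1 + vecMulVec (eV k1) y) * (1 - κ • vecMulVec (eV i1) (eV i0))

theorem Aelt_mulVec (i0 i1 k1 : ι) (κ : F) (y x : ι → F) (hx0 : x i0 = 0) :
    Aelt i0 i1 k1 κ y *ᵥ x = x + (y ⬝ᵥ x) • eV k1 := by
  unfold Aelt
  rw [← mulVec_mulVec]
  have h1 : (1 - κ • vecMulVec (eV i1) (eV i0) : Matrix ι ι F) *ᵥ x = x := by
    rw [sub_mulVec, one_mulVec, smul_mulVec, vecMulVec_mulVec, eV_dot, hx0]
    simp
  rw [h1, one_add_vmv_mulVec]

theorem vecMul_Aelt (i0 i1 k1 : ι) (κ : F) (y φ : ι → F) :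
    φ ᵥ* Aelt i0 i1 k1 κ y =
      (φ + (φ k1) • y) - (κ * (φ i1 + φ k1 * y i1)) • eV i0 := by
  unfold Aelt
  rw [← vecMul_vecMul, vecMul_one_add_vmv, dot_eV, vecMul_sub, vecMul_one, vecMul_smul,
    vecMul_vecMulVec, dot_eV]
  ext j
  simp only [Pi.sub_apply, Pi.add_apply, Pi.smul_apply, smul_eq_mul]
  ring

/-- the commutator step -/
theorem seed_step (i0 i1 iL k1 : ι) (h01 : i0 ≠ i1) (h0L : i0 ≠ iL) (hk0 : k1 ≠ i0)
    (κ : F) (y : ι → F) (hyk : y k1 = 0) (hyL : y iL = 0)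
    (hA : Aelt i0 i1 k1 κ y ∈ Mset H)
    (ψ x : ι → F) (hψL : ψ iL = 0) (hx0 : x i0 = 0) (hc : Mm iL i0 ψ x ∈ Mset H) :
    Mm iL i0 (-(ψ k1) • y + (κ * ψ i1 + ψ k1 * (y ⬝ᵥ x)) • eV i0) ((y ⬝ᵥ x) • eV k1) ∈ Mset H := by
  set A := Aelt i0 i1 k1 κ y with hAdef
  -- `A` fixes `e_L` and `e_0^*`
  have hAL : A *ᵥ eV iL = eV iL := by
    rw [hAdef, Aelt_mulVec _ _ _ _ _ _ (eV_ne h0L), dot_eV, hyL, zero_smul, add_zero]
  have hA0 : eV i0 ᵥ* A = eV i0 := by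
    rw [hAdef, vecMul_Aelt]
    rw [eV_ne hk0, eV_ne h01.symm]
    simp
  -- the preimage of `ψ`
  set φ : ι → F := ψ + (κ * ψ i1) • eV i0 - (ψ k1) • y with hφ
  have hφk : φ k1 = ψ k1 := by
    rw [hφ]
    simp only [Pi.sub_apply, Pi.add_apply, Pi.smul_apply, smul_eq_mul]
    rw [eV_ne hk0, hyk]
    ring
  have hφ1 : φ i1 = ψ i1 - ψ k1 * y i1 := by
    rw [hφ]
    simp only [Pi.sub_apply, Pi.add_apply, Pi.smul_apply, smul_eq_mul]
    rw [eV_ne h01.symm]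
    ring
  have hφA : φ ᵥ* A = ψ := by
    rw [hAdef, vecMul_Aelt, hφk, hφ1, hφ]
    ext j
    simp only [Pi.sub_apply, Pi.add_apply, Pi.smul_apply, smul_eq_mul]
    ring
  -- conjugate
  have h1 : Mm iL i0 φ (A *ᵥ x) ∈ Mset H := by
    have key := Mm_conj iL i0 A φ x hAL hA0
    rw [hφA] at key
    exact mset_conj hA hc key
  rw [hAdef, Aelt_mulVec _ _ _ _ _ _ hx0] at h1
  -- divide by `c`
  set φ3 : ι → F := -(ψ k1) • y + (κ * ψ i1 + ψ k1 * (y ⬝ᵥ x)) • eV i0 with hφ3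
  have hφ3L : φ3 iL = 0 := by
    rw [hφ3]
    simp only [Pi.add_apply, Pi.smul_apply, smul_eq_mul]
    rw [hyL, eV_ne h0L.symm]
    ring
  have hdot : φ3 ⬝ᵥ x = -(ψ k1) * (y ⬝ᵥ x) := by
    rw [hφ3, add_dotProduct, smul_dotProduct, smul_dotProduct, eV_dot, hx0]
    simp
  have key2 : Mm iL i0 φ3 ((y ⬝ᵥ x) • eV k1) * Mm iL i0 ψ x =
      Mm iL i0 φ (x + (y ⬝ᵥ x) • eV k1) := by
    rw [Mm_mul iL i0 h0L.symm _ _ _ _ hφ3L hx0, hdot]
    congr 1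
    · rw [hφ3, hφ]
      ext j
      simp only [Pi.sub_apply, Pi.add_apply, Pi.smul_apply, smul_eq_mul]
      ring
    · rw [add_comm]
  rw [← key2] at h1
  exact mset_cancel_right hc h1

/-- the starting element -/
theorem seed_base (i0 i1 iL : ι) (κ : F) (y : ι → F) (hyL : y iL = 0) :
    Aelt i0 i1 iL κ y = Mm iL i0 (y - (κ * y i1) • eV i0) (-(κ • eV i1)) := by
  unfold Aelt Mm
  simp only [mul_sub, add_mul, Matrix.mul_one, Matrix.one_mul, Matrix.mul_smul,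
    vecMulVec_mul_vecMulVec, dot_eV, vecMulVec_sub, neg_vecMulVec, smul_vecMulVec, vecMulVec_smul,
    smul_smul]
  abel

end Cfsg.Agent.Helper12.SLtwo
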