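import Mathlib
import Cfsg.Agent.Lib.Helper12.SLtwoB

/-!
# The companion type matrix `C` and the vectors `y_k`
-/

set_option autoImplicit false

namespace Cfsg.Agent.Helper12.SLtwo

open Matrix Cfsg.Agent.Helper12.RegUnip

variable {F : Type*} [Field F] {L : ℕ}

/-- the companion type matrix: `C e_i = e_{i+1}` for `i < L` and `C e_L = γ` -/
def Cm (γ : Fin (L + 1) → F) : Matrix (Fin (L + 1)) (Fin (L + 1)) F :=
  Matrix.of fun i j => if j.val = L then γ i else if i.val = j.val + 1 then 1 else 0

theorem Cm_apply (γ : Fin (L + 1) → F) (i j : Fin (L + 1)) :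
    Cm γ i j = if j.val = L then γ i else if i.val = j.val + 1 then 1 else 0 := rfl

/-- column action -/
theorem Cm_mul_single (γ : Fin (L + 1) → F) {i i' : Fin (L + 1)} (h : i'.val = i.val + 1)
    (b : Fin (L + 1)) (t : F) : Cm γ * single i b t = single i' b t := by
  have hi : ¬ i.val = L := by
    have := i'.isLt
    omega
  ext x y
  by_cases hy : y = b
  · subst hy
    rw [mul_single_apply_same, Cm_apply, if_neg hi, single_apply]
    by_cases hx : x = i'
    · subst hx
      rw [if_pos h, if_pos ⟨rfl, rfl⟩, one_mul]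
    · have h1 : ¬ x.val = i.val + 1 := by
        intro h2
        apply hx
        apply Fin.ext
        omega
      have h3 : ¬ (i' = x ∧ y = y) := by
        rintro ⟨h4, _⟩
        exact hx h4.symm
      rw [if_neg h1, if_neg h3, zero_mul]
  · rw [mul_single_apply_of_ne _ _ _ _ _ hy, single_apply]
    have h3 : ¬ (i' = x ∧ b = y) := by
      rintro ⟨_, h4⟩
      exact hy h4.symm
    rw [if_neg h3]

/-- row action for a row of positive index -/
theorem single_mul_Cm (γ : Fin (L + 1) → F) {j j' : Fin (L + 1)} (h : j.val = j'.val + 1)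
    (a : Fin (L + 1)) (t : F) :
    single a j t * Cm γ = single a j' t + single a (Fin.last L) (t * γ j) := by
  have hj' : ¬ j'.val = L := by
    have := j.isLt
    omega
  have hne : j' ≠ Fin.last L := by
    intro h1
    apply hj'
    rw [h1]
    rfl
  ext x y
  by_cases hx : x = a
  · subst hx
    rw [single_mul_apply_same, Cm_apply, Matrix.add_apply, single_apply, single_apply]
    by_cases hy : y.val = L
    · have hyl : y = Fin.last L := Fin.ext hy
      have h1 : ¬ (x = x ∧ j' = y) := by
        rintro ⟨_, h2⟩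
        exact hne (h2.trans hyl)
      rw [if_pos hy, if_neg h1, if_pos ⟨rfl, hyl.symm⟩, zero_add]
    · have hyl : ¬ (x = x ∧ Fin.last L = y) := by
        rintro ⟨_, h2⟩
        apply hy
        rw [← h2]
        rfl
      rw [if_neg hy, if_neg hyl, add_zero]
      by_cases hyj : y = j'
      · subst hyj
        rw [if_pos h, if_pos ⟨rfl, rfl⟩, mul_one]
      · have h1 : ¬ j.val = y.val + 1 := by
          intro h2
          apply hyj
          apply Fin.ext
          omega
        have h2 : ¬ (x = x ∧ j' = y) := by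
          rintro ⟨_, h3⟩
          exact hyj h3.symm
        rw [if_neg h1, if_neg h2, mul_zero]
  · rw [single_mul_apply_of_ne _ _ _ _ _ hx, Matrix.add_apply, single_apply, single_apply]
    have h1 : ¬ (a = x ∧ j' = y) := fun h2 => hx h2.1.symm
    have h2 : ¬ (a = x ∧ Fin.last L = y) := fun h2 => hx h2.1.symm
    rw [if_neg h1, if_neg h2, add_zero]

/-- row action for the row of index zero -/
theorem single_mul_Cm_zero (γ : Fin (L + 1) → F) {j0 : Fin (L + 1)} (h : j0.val = 0)
    (a : Fin (L + 1)) (t : F) :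
    single a j0 t * Cm γ = single a (Fin.last L) (t * γ j0) := by
  ext x y
  by_cases hx : x = a
  · subst hx
    rw [single_mul_apply_same, Cm_apply, single_apply]
    by_cases hy : y.val = L
    · have hyl : y = Fin.last L := Fin.ext hy
      rw [if_pos hy, if_pos ⟨rfl, hyl.symm⟩]
    · have hyl : ¬ (x = x ∧ Fin.last L = y) := by
        rintro ⟨_, h2⟩
        apply hy
        rw [← h2]
        rfl
      have h1 : ¬ j0.val = y.val + 1 := by omega
      rw [if_neg hy, if_neg hyl, if_neg h1, mul_zero]
  · rw [single_mul_apply_of_ne _ _ _ _ _ hx, single_apply]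
    have h2 : ¬ (a = x ∧ Fin.last L = y) := fun h2 => hx h2.1.symm
    rw [if_neg h2]

/-- column action on basis vectors -/
theorem Cm_mulVec_eV (γ : Fin (L + 1) → F) {i i' : Fin (L + 1)} (h : i'.val = i.val + 1) :
    Cm γ *ᵥ eV i = eV i' := by
  have hi : ¬ i.val = L := by
    have := i'.isLt
    omega
  unfold eV
  rw [mulVec_single_one]
  ext x
  rw [col_apply, Cm_apply, if_neg hi, Pi.single_apply]
  by_cases hx : x = i'
  · subst hx
    rw [if_pos h, if_pos rfl]
  · have h1 : ¬ x.val = i.val + 1 := by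
      intro h2
      apply hx
      apply Fin.ext
      omega
    rw [if_neg h1, if_neg hx]

theorem vecMul_apply_sum {ι : Type*} [Fintype ι] (φ : ι → F) (M : Matrix ι ι F) (j : ι) :
    (φ ᵥ* M) j = ∑ i, φ i * M i j := rfl

/-- the row action of `C` -/
theorem vecMul_Cm_last (γ φ : Fin (L + 1) → F) :
    (φ ᵥ* Cm γ) (Fin.last L) = ∑ i, φ i * γ i := by
  rw [vecMul_apply_sum]
  apply Finset.sum_congr rfl
  intro i _
  rw [Cm_apply, if_pos (by rfl)]

theorem vecMul_Cm_castSucc (γ φ : Fin (L + 1) → F) (j : Fin L) :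
    (φ ᵥ* Cm γ) j.castSucc = φ j.succ := by
  rw [vecMul_apply_sum, Finset.sum_eq_single j.succ]
  · rw [Cm_apply]
    have h1 : ¬ (j.castSucc : Fin (L + 1)).val = L := by
      have := j.isLt
      simp
      omega
    rw [if_neg h1, if_pos (by simp), mul_one]
  · intro i _ hi
    rw [Cm_apply]
    have h1 : ¬ (j.castSucc : Fin (L + 1)).val = L := by
      have := j.isLt
      simp
      omega
    have h2 : ¬ i.val = (j.castSucc : Fin (L + 1)).val + 1 := by
      intro h3
      apply hi
      apply Fin.ext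
      simp at h3 ⊢
      exact h3
    rw [if_neg h1, if_neg h2, mul_zero]
  · intro h
    exact absurd (Finset.mem_univ _) h

/-- the inverse shift on row vectors -/
def Sop (γ φ : Fin (L + 1) → F) : Fin (L + 1) → F :=
  Fin.cases (γ 0 * (φ (Fin.last L) - ∑ i : Fin L, φ i.castSucc * γ i.succ))
    (fun i => φ i.castSucc)

theorem Sop_zero (γ φ : Fin (L + 1) → F) :
    Sop γ φ 0 = γ 0 * (φ (Fin.last L) - ∑ i : Fin L, φ i.castSucc * γ i.succ) := by
  unfold Sop
  rw [Fin.cases_zero]

theorem Sop_succ (γ φ : Fin (L + 1) → F) (i : Fin L) : Sop γ φ i.succ = φ i.castSucc := by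
  unfold Sop
  rw [Fin.cases_succ]

theorem Sop_vecMul (γ : Fin (L + 1) → F) (hγ : γ 0 * γ 0 = 1) (φ : Fin (L + 1) → F) :
    Sop γ φ ᵥ* Cm γ = φ := by
  ext j
  refine Fin.lastCases ?_ (fun j' => ?_) j
  · rw [vecMul_Cm_last, Fin.sum_univ_succ, Sop_zero]
    simp only [Sop_succ]
    linear_combination (φ (Fin.last L) - ∑ i : Fin L, φ i.castSucc * γ i.succ) * hγ
  · rw [vecMul_Cm_castSucc, Sop_succ]

end Cfsg.Agent.Helper12.SLtwo
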