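import Mathlib
import Cfsg.Agent.Lib.Helper12.SLtwoC

/-!
# The vectors `y_k`, the elements `a_k` and the seed root element
-/

set_option autoImplicit false

namespace Cfsg.Agent.Helper12.SLtwo

open Matrix Cfsg.Agent.Helper12.RegUnip

variable {F : Type*} [Field F] {L : ℕ}

/-- the row vectors `y_k = κ e_0^* C^{-k}` -/
def yv (γ : Fin (L + 1) → F) (κ : F) : ℕ → Fin (L + 1) → F
  | 0 => κ • eV 0
  | k + 1 => Sop γ (yv γ κ k)

theorem yv_zero (γ : Fin (L + 1) → F) (κ : F) : yv γ κ 0 = κ • eV 0 := rfl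

theorem yv_succ (γ : Fin (L + 1) → F) (κ : F) (k : ℕ) : yv γ κ (k + 1) = Sop γ (yv γ κ k) := rfl

theorem yv_beyond (γ : Fin (L + 1) → F) (κ : F) :
    ∀ (k : ℕ) (j : Fin (L + 1)), k < j.val → yv γ κ k j = 0 := by
  intro k
  induction k with
  | zero =>
    intro j hj
    have : j ≠ 0 := by
      intro h
      rw [h] at hj
      simp at hj
    rw [yv_zero, Pi.smul_apply, eV_ne this, smul_zero]
  | succ k ih =>
    intro j
    refine Fin.cases ?_ (fun i => ?_) j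
    · intro hj
      simp at hj
    · intro hj
      rw [yv_succ, Sop_succ]
      apply ih
      simp at hj ⊢
      omega

theorem yv_diag (γ : Fin (L + 1) → F) (κ : F) :
    ∀ (k : ℕ) (j : Fin (L + 1)), j.val = k → yv γ κ k j = κ := by
  intro k
  induction k with
  | zero =>
    intro j hj
    have : j = 0 := Fin.ext (by simp [hj])
    rw [this, yv_zero, Pi.smul_apply, eV_same, smul_eq_mul, mul_one]
  | succ k ih =>
    intro j
    refine Fin.cases ?_ (fun i => ?_) j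
    · intro hj
      simp at hj
    · intro hj
      rw [yv_succ, Sop_succ]
      apply ih
      simp at hj ⊢
      omega

theorem yv_vecMul (γ : Fin (L + 1) → F) (hγ : γ 0 * γ 0 = 1) (κ : F) (k : ℕ) :
    yv γ κ (k + 1) ᵥ* Cm γ = yv γ κ k := by
  rw [yv_succ, Sop_vecMul γ hγ]

/-- `G_{k+1} C = C G_k` -/
theorem G_step (γ : Fin (L + 1) → F) (hγ : γ 0 * γ 0 = 1) (κ : F) (k : ℕ) {i i' : Fin (L + 1)}
    (h : i'.val = i.val + 1) :
    (1 + vecMulVec (eV i') (yv γ κ (k + 1))) * Cm γ =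
      Cm γ * (1 + vecMulVec (eV i) (yv γ κ k)) := by
  rw [add_mul, mul_add, Matrix.one_mul, Matrix.mul_one, vecMulVec_mul, mul_vecMulVec,
    Cm_mulVec_eV γ h, yv_vecMul γ hγ]

/-- `G_k C^k = C^k g` -/
theorem G_pow (γ : Fin (L + 1) → F) (hγ : γ 0 * γ 0 = 1) (κ : F) (i1 : Fin (L + 1))
    (h1 : i1.val = 1) :
    ∀ (k : ℕ) (i : Fin (L + 1)), i.val = k + 1 →
      (1 + vecMulVec (eV i) (yv γ κ k)) * Cm γ ^ k = Cm γ ^ k * (1 + single i1 (0 : Fin (L + 1)) κ) := by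
  intro k
  induction k with
  | zero =>
    intro i hi
    have : i = i1 := Fin.ext (by rw [hi, h1])
    rw [this, pow_zero, Matrix.mul_one, Matrix.one_mul, yv_zero, single_eq_vmv]
  | succ k ih =>
    intro i hi
    have hk : k + 1 < L + 1 := by
      have := i.isLt
      omega
    have h2 := G_step γ hγ κ k (i := ⟨k + 1, hk⟩) (i' := i) (by simp [hi])
    rw [pow_succ', ← Matrix.mul_assoc, h2, Matrix.mul_assoc, ih ⟨k + 1, hk⟩ rfl,
      ← Matrix.mul_assoc]

section mem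

variable {H : Subgroup (SpecialLinearGroup (Fin (L + 1)) F)}

theorem mset_pow {ι : Type*} [Fintype ι] [DecidableEq ι] {H : Subgroup (SpecialLinearGroup ι F)}
    {A : Matrix ι ι F} (hA : A ∈ Mset H) : ∀ k : ℕ, A ^ k ∈ Mset H := by
  intro k
  induction k with
  | zero =>
    rw [pow_zero]
    exact mset_one
  | succ k ih =>
    rw [pow_succ]
    exact mset_mul ih hA

theorem gm_inv (i1 : Fin (L + 1)) (h1 : i1.val = 1) (κ : F) :
    (1 - κ • vecMulVec (eV i1) (eV 0) : Matrix (Fin (L + 1)) (Fin (L + 1)) F) =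
      1 - single i1 (0 : Fin (L + 1)) κ := by
  rw [single_eq_vmv, vecMulVec_smul]

theorem zero_ne_i1 (i1 : Fin (L + 1)) (h1 : i1.val = 1) : (0 : Fin (L + 1)) ≠ i1 := by
  intro h
  rw [← h] at h1
  simp at h1

theorem gm_mul_inv (i1 : Fin (L + 1)) (h1 : i1.val = 1) (κ : F) :
    (1 + single i1 (0 : Fin (L + 1)) κ : Matrix (Fin (L + 1)) (Fin (L + 1)) F) * (1 - single i1 (0 : Fin (L + 1)) κ) = 1 := by
  simp only [mul_sub, add_mul, Matrix.mul_one, Matrix.one_mul,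
    single_mul_single_of_ne _ _ _ _ (zero_ne_i1 i1 h1)]
  abel

theorem gm_inv_mul (i1 : Fin (L + 1)) (h1 : i1.val = 1) (κ : F) :
    (1 - single i1 (0 : Fin (L + 1)) κ : Matrix (Fin (L + 1)) (Fin (L + 1)) F) * (1 + single i1 (0 : Fin (L + 1)) κ) = 1 := by
  simp only [mul_add, sub_mul, Matrix.mul_one, Matrix.one_mul,
    single_mul_single_of_ne _ _ _ _ (zero_ne_i1 i1 h1)]
  abel

/-- the elements `a_k = C^k v^{-k}` lie in `H` -/
theorem Aelt_mem (γ : Fin (L + 1) → F) (hγ : γ 0 * γ 0 = 1) (κ : F) (i1 : Fin (L + 1))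
    (h1 : i1.val = 1) (V : Matrix (Fin (L + 1)) (Fin (L + 1)) F) (hC : Cm γ ∈ Mset H)
    (hV : V ∈ Mset H) (hVg : V * (1 + single i1 (0 : Fin (L + 1)) κ) = (1 + single i1 (0 : Fin (L + 1)) κ) * Cm γ)
    (k : ℕ) (i : Fin (L + 1)) (hi : i.val = k + 1) :
    Aelt 0 i1 i κ (yv γ κ k) ∈ Mset H := by
  have hpow : ∀ m : ℕ, V ^ m * (1 + single i1 (0 : Fin (L + 1)) κ) = (1 + single i1 (0 : Fin (L + 1)) κ) * Cm γ ^ m := by
    intro m
    induction m with
    | zero => rw [pow_zero, pow_zero, Matrix.mul_one, Matrix.one_mul]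
    | succ m ih =>
      rw [pow_succ, Matrix.mul_assoc, hVg, ← Matrix.mul_assoc, ih, Matrix.mul_assoc, ← pow_succ]
  have h2 : (1 - single i1 (0 : Fin (L + 1)) κ) * V ^ k = Cm γ ^ k * (1 - single i1 (0 : Fin (L + 1)) κ) := by
    calc (1 - single i1 (0 : Fin (L + 1)) κ) * V ^ k
        = (1 - single i1 (0 : Fin (L + 1)) κ) * (V ^ k * ((1 + single i1 (0 : Fin (L + 1)) κ) * (1 - single i1 (0 : Fin (L + 1)) κ))) := by
          rw [gm_mul_inv i1 h1, Matrix.mul_one]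
      _ = ((1 - single i1 (0 : Fin (L + 1)) κ) * (1 + single i1 (0 : Fin (L + 1)) κ)) * Cm γ ^ k * (1 - single i1 (0 : Fin (L + 1)) κ) := by
          rw [← Matrix.mul_assoc (V ^ k), hpow k]
          simp only [Matrix.mul_assoc]
      _ = Cm γ ^ k * (1 - single i1 (0 : Fin (L + 1)) κ) := by
          rw [gm_inv_mul i1 h1, Matrix.one_mul]
  have h3 : Aelt 0 i1 i κ (yv γ κ k) * V ^ k = Cm γ ^ k := by
    unfold Aelt
    rw [gm_inv i1 h1, Matrix.mul_assoc, h2, ← Matrix.mul_assoc, G_pow γ hγ κ i1 h1 k i hi,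
      Matrix.mul_assoc, gm_mul_inv i1 h1, Matrix.mul_one]
  have h4 : Aelt 0 i1 i κ (yv γ κ k) * V ^ k ∈ Mset H := by
    rw [h3]
    exact mset_pow hC k
  exact mset_cancel_right (mset_pow hV k) h4

end mem

end Cfsg.Agent.Helper12.SLtwo
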