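import Mathlib
import Cfsg.Agent.Lib.Helper12.SLtwoD

/-!
# The chain of commutators giving the root element `x_{L0}((-κ)^L)`
-/

set_option autoImplicit false

namespace Cfsg.Agent.Helper12.SLtwo

open Matrix Cfsg.Agent.Helper12.RegUnip

variable {F : Type*} [Field F] {L : ℕ}
variable {H : Subgroup (SpecialLinearGroup (Fin (L + 1)) F)}

/-- the invariant of the chain of commutators -/
def ChainInv (H : Subgroup (SpecialLinearGroup (Fin (L + 1)) F)) (κ : F) (k : ℕ) : Prop :=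
  ∃ ψ x : Fin (L + 1) → F, Mm (Fin.last L) 0 ψ x ∈ Mset H ∧ ψ (Fin.last L) = 0 ∧ x 0 = 0 ∧
    (∀ j : Fin (L + 1), k < j.val → ψ j = 0) ∧
    (∀ j : Fin (L + 1), j.val = k → ψ j = -(-κ) ^ (L - k)) ∧
    (k + 2 ≤ L → ∀ j : Fin (L + 1), j.val ≤ 1 → x j = 0)

theorem last_ne_zero (hL : 1 ≤ L) : (Fin.last L : Fin (L + 1)) ≠ 0 := by
  intro h
  have := congrArg Fin.val h
  simp at this
  omega

theorem chain_base (hL : 3 ≤ L) (γ : Fin (L + 1) → F) (κ : F) (i1 : Fin (L + 1))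
    (h1 : i1.val = 1)
    (hA : Aelt 0 i1 (Fin.last L) κ (yv γ κ (L - 1)) ∈ Mset H) : ChainInv H κ (L - 1) := by
  have hyL : yv γ κ (L - 1) (Fin.last L) = 0 := yv_beyond γ κ _ _ (by simp; omega)
  rw [seed_base 0 i1 (Fin.last L) κ _ hyL] at hA
  refine ⟨_, _, hA, ?_, ?_, ?_, ?_, ?_⟩
  · rw [Pi.sub_apply, hyL, Pi.smul_apply, eV_ne (last_ne_zero (by omega)), smul_zero, sub_zero]
  · rw [Pi.neg_apply, Pi.smul_apply, eV_ne (zero_ne_i1 i1 h1), smul_zero, neg_zero]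
  · intro j hj
    have : j = Fin.last L := by
      apply Fin.ext
      have := j.isLt
      simp
      omega
    rw [this, Pi.sub_apply, hyL, Pi.smul_apply, eV_ne (last_ne_zero (by omega)), smul_zero,
      sub_zero]
  · intro j hj
    have hj0 : j ≠ 0 := by
      intro h
      rw [h] at hj
      simp at hj
      omega
    have e : L - (L - 1) = 1 := by omega
    rw [Pi.sub_apply, yv_diag γ κ _ j hj, Pi.smul_apply, eV_ne hj0, smul_zero, sub_zero, e, pow_one,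
      neg_neg]
  · intro h
    omega

theorem chain_step (γ : Fin (L + 1) → F) (κ : F) (i1 : Fin (L + 1)) (h1 : i1.val = 1)
    (k : ℕ) (hk1 : 1 ≤ k) (hk2 : k + 2 ≤ L) (i : Fin (L + 1)) (hi : i.val = k + 1)
    (hA : Aelt 0 i1 i κ (yv γ κ k) ∈ Mset H) (hinv : ChainInv H κ (k + 1)) : ChainInv H κ k := by
  obtain ⟨ψ, x, hM, hψL, hx0, hbey, hdiag, _⟩ := hinv
  have hi0 : i ≠ 0 := by
    intro h
    rw [h] at hi
    simp at hi
  have hyk : yv γ κ k i = 0 := yv_beyond γ κ _ _ (by omega)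
  have hyL : yv γ κ k (Fin.last L) = 0 := yv_beyond γ κ _ _ (by simp; omega)
  have h := seed_step (H := H) 0 i1 (Fin.last L) i (zero_ne_i1 i1 h1)
    (last_ne_zero (by omega)).symm hi0 κ (yv γ κ k) hyk hyL hA ψ x hψL hx0 hM
  refine ⟨_, _, h, ?_, ?_, ?_, ?_, ?_⟩
  · simp only [Pi.add_apply, Pi.smul_apply, smul_eq_mul]
    rw [hyL, eV_ne (last_ne_zero (by omega))]
    ring
  · rw [Pi.smul_apply, eV_ne hi0.symm, smul_zero]
  · intro j hj
    have hj0 : j ≠ 0 := by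
      intro h
      rw [h] at hj
      simp at hj
    simp only [Pi.add_apply, Pi.smul_apply, smul_eq_mul]
    rw [yv_beyond γ κ _ _ hj, eV_ne hj0]
    ring
  · intro j hj
    have hj0 : j ≠ 0 := by
      intro h
      rw [h] at hj
      simp at hj
      omega
    simp only [Pi.add_apply, Pi.smul_apply, smul_eq_mul]
    have e : L - k = (L - (k + 1)) + 1 := by omega
    rw [yv_diag γ κ _ j hj, eV_ne hj0, hdiag i hi, e, pow_succ]
    ring
  · intro _ j hj
    have hji : j ≠ i := by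
      intro h
      rw [h] at hj
      omega
    rw [Pi.smul_apply, eV_ne hji, smul_zero]

theorem chain_all (hL : 3 ≤ L) (γ : Fin (L + 1) → F) (κ : F) (i1 : Fin (L + 1))
    (h1 : i1.val = 1)
    (hA : ∀ (k : ℕ) (i : Fin (L + 1)), 1 ≤ k → i.val = k + 1 →
      Aelt 0 i1 i κ (yv γ κ k) ∈ Mset H) :
    ∀ (d k : ℕ), k + d = L - 1 → 1 ≤ k → ChainInv H κ k := by
  intro d
  induction d with
  | zero =>
    intro k hk _
    have : k = L - 1 := by omega
    rw [this]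
    apply chain_base hL γ κ i1 h1
    apply hA (L - 1) (Fin.last L) (by omega)
    simp
    omega
  | succ d ih =>
    intro k hk hk1
    have hlt : k + 1 < L + 1 := by omega
    exact chain_step γ κ i1 h1 k hk1 (by omega) ⟨k + 1, hlt⟩ rfl (hA k ⟨k + 1, hlt⟩ hk1 rfl)
      (ih (k + 1) (by omega) (by omega))

/-- the seed: `x_{L0}((-κ)^L) ∈ H` -/
theorem seed (hL : 3 ≤ L) (γ : Fin (L + 1) → F) (κ : F) (i1 : Fin (L + 1))
    (h1 : i1.val = 1)
    (hA : ∀ (k : ℕ) (i : Fin (L + 1)), 1 ≤ k → i.val = k + 1 →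
      Aelt 0 i1 i κ (yv γ κ k) ∈ Mset H) :
    (1 + single (Fin.last L) (0 : Fin (L + 1)) ((-κ) ^ L) : Matrix (Fin (L + 1)) (Fin (L + 1)) F) ∈
      Mset H := by
  obtain ⟨ψ, x, hM, hψL, hx0, hbey, hdiag, hxs⟩ :=
    chain_all hL γ κ i1 h1 hA (L - 2) 1 (by omega) le_rfl
  have h2lt : 2 < L + 1 := by omega
  set i2 : Fin (L + 1) := ⟨2, h2lt⟩ with hi2
  have hi20 : i2 ≠ 0 := by
    intro h
    have := congrArg Fin.val h
    simp [hi2] at this
  have hyk : yv γ κ 1 i2 = 0 := yv_beyond γ κ _ _ (by simp [hi2])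
  have hyL : yv γ κ 1 (Fin.last L) = 0 := yv_beyond γ κ _ _ (by simp; omega)
  have h := seed_step (H := H) 0 i1 (Fin.last L) i2 (zero_ne_i1 i1 h1)
    (last_ne_zero (by omega)).symm hi20 κ (yv γ κ 1) hyk hyL (hA 1 i2 le_rfl rfl) ψ x hψL hx0 hM
  have hψ2 : ψ i2 = 0 := hbey i2 (by simp [hi2])
  have hdot : yv γ κ 1 ⬝ᵥ x = 0 := by
    unfold dotProduct
    apply Finset.sum_eq_zero
    intro j _
    by_cases hj : j.val ≤ 1
    · rw [hxs (by omega) j hj, mul_zero]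
    · rw [yv_beyond γ κ 1 j (by omega), zero_mul]
  rw [hψ2, hdot, neg_zero, zero_smul, zero_add, zero_smul, mul_zero, add_zero, Mm_root] at h
  have e : κ * ψ i1 = (-κ) ^ L := by
    have e2 : L = (L - 1) + 1 := by omega
    rw [hdiag i1 h1]
    conv_rhs => rw [e2, pow_succ]
    ring
  rw [← e]
  exact h

end Cfsg.Agent.Helper12.SLtwo
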