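import Mathlib
import Cfsg.Agent.Lib.Helper12.SLtwoE

/-!
# Transfer rules for root elements
-/

set_option autoImplicit false

namespace Cfsg.Agent.Helper12.SLtwo

open Matrix Cfsg.Agent.Helper12.RegUnip

section general

variable {ι : Type*} [Fintype ι] [DecidableEq ι] {F : Type*} [Field F]

theorem vmv_eV_mul_single (i : ι) (y : ι → F) (j b : ι) (t : F) :
    vecMulVec (eV i) y * single j b t = single i b (y j * t) := by
  rw [single_eq_vmv j b t, vecMulVec_mul_vecMulVec, dot_eV, smul_smul, ← single_eq_vmv]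

theorem single_mul_vmv_eV_of_ne (a j : ι) (t : F) (i : ι) (y : ι → F) (h : j ≠ i) :
    single a j t * vecMulVec (eV i) y = 0 := by
  rw [single_eq_vmv a j t, vecMulVec_mul_vecMulVec, smul_dotProduct, eV_dot, eV_ne h]
  simp

/-- `Aelt` acts on columns not of index `i0` -/
theorem Aelt_mul_single (i0 i1 k1 : ι) (κ : F) (y : ι → F) (j b : ι) (hj : j ≠ i0) (t : F) :
    Aelt i0 i1 k1 κ y * single j b t = single j b t + single k1 b (y j * t) := by
  rw [single_eq_vmv j b t, mul_vecMulVec, Aelt_mulVec _ _ _ _ _ _ (eV_ne hj.symm), dot_eV,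
    add_vecMulVec, smul_vecMulVec, single_eq_vmv k1 b, ← vecMulVec_smul, smul_smul]

/-- rows of index different from `k1`, `i1` are not changed by `Aelt` -/
theorem single_mul_Aelt (i0 i1 k1 : ι) (κ : F) (y : ι → F) (a j : ι) (hjk : j ≠ k1) (hj1 : j ≠ i1)
    (t : F) : single a j t * Aelt i0 i1 k1 κ y = single a j t := by
  rw [single_eq_vmv a j t, vecMulVec_mul, vecMul_Aelt]
  congr 1
  simp only [Pi.smul_apply, smul_eq_mul]
  rw [eV_ne hjk.symm, eV_ne hj1.symm]
  simp

end general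

variable {F : Type*} [Field F] {L : ℕ}
variable {H : Subgroup (SpecialLinearGroup (Fin (L + 1)) F)}

/-- column `0` to column `L` -/
theorem col0_to_colL (γ : Fin (L + 1) → F) (hC : Cm γ ∈ Mset H) {i i' : Fin (L + 1)}
    (h : i'.val = i.val + 1) {t : F}
    (ht : (1 + single i' (0 : Fin (L + 1)) t : Matrix (Fin (L + 1)) (Fin (L + 1)) F) ∈ Mset H) :
    (1 + single i (Fin.last L) (t * γ 0) : Matrix (Fin (L + 1)) (Fin (L + 1)) F) ∈ Mset H := by
  apply mset_conj' hC ht
  rw [add_mul, mul_add, Matrix.one_mul, Matrix.mul_one, single_mul_Cm_zero γ rfl,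
    Cm_mul_single γ h]

/-- column `L` to column `0` -/
theorem colL_to_col0 (γ : Fin (L + 1) → F) (hγ : γ 0 * γ 0 = 1) (hC : Cm γ ∈ Mset H)
    {i i' : Fin (L + 1)} (h : i'.val = i.val + 1) {t : F}
    (ht : (1 + single i (Fin.last L) t : Matrix (Fin (L + 1)) (Fin (L + 1)) F) ∈ Mset H) :
    (1 + single i' (0 : Fin (L + 1)) (t * γ 0) : Matrix (Fin (L + 1)) (Fin (L + 1)) F) ∈
      Mset H := by
  apply mset_conj hC ht
  rw [add_mul, mul_add, Matrix.one_mul, Matrix.mul_one, single_mul_Cm_zero γ rfl,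
    Cm_mul_single γ h, mul_assoc, hγ, mul_one]

/-- moving down a diagonal -/
theorem diag_down (γ : Fin (L + 1) → F) (hγ : γ 0 * γ 0 = 1) (hC : Cm γ ∈ Mset H)
    {i i' j j' : Fin (L + 1)} (hi : i'.val = i.val + 1) (hj : j'.val = j.val + 1) (hij : i ≠ j)
    {t : F} (ht : (1 + single i j t : Matrix (Fin (L + 1)) (Fin (L + 1)) F) ∈ Mset H) :
    ((1 + single i' j' t) * (1 + single i' (0 : Fin (L + 1)) (-(t * γ 0 * γ j')) :
      Matrix (Fin (L + 1)) (Fin (L + 1)) F)) ∈ Mset H := by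
  apply mset_conj hC ht
  have hne : j' ≠ i' := by
    intro h
    apply hij
    apply Fin.ext
    rw [h] at hj
    omega
  have e : t * γ j' + -(t * γ 0 * γ j') * γ 0 = 0 := by
    linear_combination (-(t * γ j')) * hγ
  simp only [mul_add, add_mul, Matrix.one_mul, Matrix.mul_one, Cm_mul_single γ hi,
    single_mul_Cm γ hj, single_mul_Cm_zero γ (j0 := (0 : Fin (L + 1))) rfl,
    single_mul_single_of_ne _ _ _ _ hne, add_zero]
  rw [add_assoc, add_assoc, ← single_add, e, single_zero, add_zero]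

/-- moving up a diagonal -/
theorem diag_up (γ : Fin (L + 1) → F) (hC : Cm γ ∈ Mset H)
    {i i' j j' : Fin (L + 1)} (hi : i'.val = i.val + 1) (hj : j'.val = j.val + 1) (hij : i ≠ j)
    {t : F} (ht : (1 + single i' j' t : Matrix (Fin (L + 1)) (Fin (L + 1)) F) ∈ Mset H) :
    ((1 + single i j t) * (1 + single i (Fin.last L) (t * γ j') :
      Matrix (Fin (L + 1)) (Fin (L + 1)) F)) ∈ Mset H := by
  apply mset_conj' hC ht
  simp only [mul_add, add_mul, Matrix.one_mul, Matrix.mul_one, Cm_mul_single γ hi,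
    single_mul_Cm γ hj, single_mul_single_of_ne _ _ _ _ hij.symm, add_zero]
  rw [add_assoc]

/-- transfer in the last column by means of `a_m` -/
theorem colL_step_A (γ : Fin (L + 1) → F) (κ : F) (i1 : Fin (L + 1)) (h1 : i1.val = 1)
    (m : ℕ) (hm : 1 ≤ m) {im i : Fin (L + 1)} (him : im.val = m) (hi : i.val = m + 1)
    (hiL : i.val < L) (hA : Aelt 0 i1 i κ (yv γ κ m) ∈ Mset H) {t : F}
    (ht : (1 + single im (Fin.last L) t : Matrix (Fin (L + 1)) (Fin (L + 1)) F) ∈ Mset H) :
    (1 + single i (Fin.last L) (κ * t) : Matrix (Fin (L + 1)) (Fin (L + 1)) F) ∈ Mset H := by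
  have hne : i ≠ Fin.last L := by
    intro h
    rw [h] at hiL
    simp at hiL
  have him0 : im ≠ 0 := by
    intro h
    rw [h] at him
    simp at him
    omega
  have hL1 : Fin.last L ≠ i1 := by
    intro h
    rw [← h] at h1
    simp at h1
    omega
  have hg : (1 + (Aelt 0 i1 i κ (yv γ κ m) - 1) : Matrix (Fin (L + 1)) (Fin (L + 1)) F) ∈
      Mset H := by
    rw [add_sub_cancel]
    exact hA
  refine mset_col_transfer (H := H) (j := im) (j' := i) (b := Fin.last L) hne κ hg ?_ ?_ ht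
  · intro s
    rw [sub_mul, Matrix.one_mul, Aelt_mul_single _ _ _ _ _ _ _ him0, yv_diag γ κ m im him,
      add_sub_cancel_left]
  · intro x s
    rw [mul_sub, Matrix.mul_one, single_mul_Aelt _ _ _ _ _ _ _ hne.symm hL1, sub_self]

/-- transfer in the last column by means of `g_m` -/
theorem colL_step_G (γ : Fin (L + 1) → F) (κ : F)
    (m : ℕ) {im i : Fin (L + 1)} (him : im.val = m) (hi : i.val = m + 1)
    (hiL : i.val < L)
    (hG : (1 + vecMulVec (eV i) (yv γ κ m) : Matrix (Fin (L + 1)) (Fin (L + 1)) F) ∈ Mset H)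
    {t : F}
    (ht : (1 + single im (Fin.last L) t : Matrix (Fin (L + 1)) (Fin (L + 1)) F) ∈ Mset H) :
    (1 + single i (Fin.last L) (κ * t) : Matrix (Fin (L + 1)) (Fin (L + 1)) F) ∈ Mset H := by
  have hne : i ≠ Fin.last L := by
    intro h
    rw [h] at hiL
    simp at hiL
  refine mset_col_transfer (H := H) (j := im) (j' := i) (b := Fin.last L) hne κ hG ?_ ?_ ht
  · intro s
    rw [vmv_eV_mul_single, yv_diag γ κ m im him]
  · intro x s
    exact single_mul_vmv_eV_of_ne _ _ _ _ _ hne.symm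

/-- from column `0` to the corner by means of `g_{L-1}` -/
theorem col0_to_corner (hL : 1 ≤ L) (y : Fin (L + 1) → F)
    (hG : (1 + vecMulVec (eV (Fin.last L)) y : Matrix (Fin (L + 1)) (Fin (L + 1)) F) ∈ Mset H)
    (j : Fin (L + 1)) {t : F}
    (ht : (1 + single j (0 : Fin (L + 1)) t : Matrix (Fin (L + 1)) (Fin (L + 1)) F) ∈ Mset H) :
    (1 + single (Fin.last L) (0 : Fin (L + 1)) (y j * t) :
      Matrix (Fin (L + 1)) (Fin (L + 1)) F) ∈ Mset H := by
  refine mset_col_transfer (H := H) (j := j) (j' := Fin.last L) (b := 0) (last_ne_zero hL) (y j) hG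
    ?_ ?_ ht
  · intro s
    rw [vmv_eV_mul_single]
  · intro x s
    exact single_mul_vmv_eV_of_ne _ _ _ _ _ (last_ne_zero hL).symm

end Cfsg.Agent.Helper12.SLtwo
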