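import Mathlib
import Cfsg.Agent.Lib.Helper12.SLtwoF

/-!
# The root element `g = x_{10}(κ)` lies in `H`
-/

set_option autoImplicit false

namespace Cfsg.Agent.Helper12.SLtwo

open Matrix Cfsg.Agent.Helper12.RegUnip

variable {F : Type*} [Field F] [Fintype F] {L : ℕ}
variable {H : Subgroup (SpecialLinearGroup (Fin (L + 1)) F)}

theorem fin_ne_of_val_ne {n : ℕ} {a b : Fin n} (h : a.val ≠ b.val) : a ≠ b :=
  fun h' => h (congrArg Fin.val h')

/-- membership of a root element is stable under negation of the parameter -/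
theorem root_neg {i j : Fin (L + 1)} (hij : i ≠ j) {t : F}
    (ht : (1 + single i j t : Matrix (Fin (L + 1)) (Fin (L + 1)) F) ∈ Mset H) :
    (1 + single i j (-t) : Matrix (Fin (L + 1)) (Fin (L + 1)) F) ∈ Mset H := by
  rw [← mem_P hij] at ht ⊢
  exact (P H hij).neg_mem ht

/-- the descent along column `0` -/
theorem descent (hL : 3 ≤ L) (γ : Fin (L + 1) → F) (hγ : γ 0 * γ 0 = 1)
    (hC : Cm γ ∈ Mset H) (κ ν : F) (hν : ν * (γ 0 * κ) = 1)
    (hνm : (1 + single (Fin.last L) (0 : Fin (L + 1)) ν :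
      Matrix (Fin (L + 1)) (Fin (L + 1)) F) ∈ Mset H) :
    ∀ (j : ℕ) (i : Fin (L + 1)), j + 2 ≤ L → i.val + j = L →
      ∃ c : F, (1 + single i (0 : Fin (L + 1)) c :
        Matrix (Fin (L + 1)) (Fin (L + 1)) F) ∈ Mset H ∧ c * (γ 0 * κ ^ (j + 1)) = 1 := by
  intro j
  induction j with
  | zero =>
    intro i _ hi
    have : i = Fin.last L := Fin.ext (by rw [Fin.val_last]; omega)
    rw [this]
    exact ⟨ν, hνm, by rw [zero_add, pow_one]; exact hν⟩
  | succ j ih =>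
    intro i hj hi
    have hlt : i.val + 1 < L + 1 := by omega
    obtain ⟨c, hc, hc1⟩ := ih ⟨i.val + 1, hlt⟩ (by omega) (by simp; omega)
    have h1 := col0_to_colL γ hC (i := i) (i' := ⟨i.val + 1, hlt⟩) rfl hc
    have hiL : i ≠ Fin.last L := fin_ne_of_val_ne (by rw [Fin.val_last]; omega)
    have hi0 : i ≠ 0 := fin_ne_of_val_ne (by rw [Fin.val_zero]; omega)
    have h2 := mset_comm hiL (last_ne_zero (by omega)) hi0 h1 hνm
    refine ⟨_, h2, ?_⟩
    have e : κ ^ (j + 1 + 1) = κ ^ (j + 1) * κ := pow_succ _ _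
    rw [e]
    linear_combination (ν * γ 0 * κ) * hc1 + hν

/-- the root element `x_{10}(κ)` lies in `H` -/
theorem g_mem (hL : 3 ≤ L) (γ : Fin (L + 1) → F) (hγ : γ 0 * γ 0 = 1) (κ : F) (hκ : κ ≠ 0)
    (i1 : Fin (L + 1)) (h1 : i1.val = 1) (hC : Cm γ ∈ Mset H)
    (hA : ∀ (k : ℕ) (i : Fin (L + 1)), 1 ≤ k → i.val = k + 1 →
      Aelt 0 i1 i κ (yv γ κ k) ∈ Mset H) :
    (1 + single i1 (0 : Fin (L + 1)) κ : Matrix (Fin (L + 1)) (Fin (L + 1)) F) ∈ Mset H := by
  have hseed := seed hL γ κ i1 h1 hA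
  set w0 : F := (-κ) ^ L with hw0
  have hw0ne : w0 ≠ 0 := pow_ne_zero _ (neg_ne_zero.mpr hκ)
  have hγ0 : γ 0 ≠ 0 := by
    intro h
    rw [h, mul_zero] at hγ
    exact zero_ne_one hγ
  have hL0 : (Fin.last L : Fin (L + 1)) ≠ 0 := last_ne_zero (by omega)
  -- indices
  have hlt1 : L - 1 < L + 1 := by omega
  have hlt2 : L - 2 < L + 1 := by omega
  set iA : Fin (L + 1) := ⟨L - 1, hlt1⟩ with hiA
  set iB : Fin (L + 1) := ⟨L - 2, hlt2⟩ with hiB
  have hAL : iA ≠ Fin.last L := fin_ne_of_val_ne (by simp [hiA]; omega)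
  have hA0 : iA ≠ 0 := fin_ne_of_val_ne (by simp [hiA]; omega)
  have hlastA : (Fin.last L : Fin (L + 1)).val = iA.val + 1 := by simp [hiA]; omega
  have hAB : iA.val = iB.val + 1 := by simp [hiA, hiB]; omega
  -- the multiplier
  have hmult : κ * w0 * γ 0 ∈ multiplierSubfield (P H hL0) := by
    intro t ht
    rw [mem_P] at ht ⊢
    have s1 := col0_to_colL γ hC hlastA hseed
    have s2 := mset_comm hAL hL0 hA0 s1 ht
    have s3 := col0_to_colL γ hC hAB s2
    have s4 := colL_step_A γ κ i1 h1 (L - 2) (by omega) (im := iB) (i := iA) rfl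
      (by simp [hiA]; omega) (by simp [hiA]; omega)
      (hA (L - 2) iA (by omega) (by simp [hiA]; omega)) s3
    have s5 := colL_to_col0 γ hγ hC hlastA s4
    have e : κ * (w0 * γ 0 * t * γ 0) * γ 0 = κ * w0 * γ 0 * t := by
      linear_combination (κ * w0 * t * γ 0) * hγ
    rwa [e] at s5
  have hμne : κ * w0 * γ 0 ≠ 0 := mul_ne_zero (mul_ne_zero hκ hw0ne) hγ0
  have hinv := (multiplierSubfield (P H hL0)).inv_mem hmult
  have hνm : (κ * w0 * γ 0)⁻¹ * w0 ∈ P H hL0 := hinv w0 ((mem_P hL0 w0).mpr hseed)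
  rw [mem_P] at hνm
  have hν : (κ * w0 * γ 0)⁻¹ * w0 * (γ 0 * κ) = 1 := by
    field_simp
  -- descent to row `2`
  have hlt3 : 2 < L + 1 := by omega
  obtain ⟨c, hc, hc1⟩ := descent hL γ hγ hC κ _ hν hνm (L - 2) ⟨2, hlt3⟩ (by omega)
    (by simp; omega)
  have h12 : (⟨2, hlt3⟩ : Fin (L + 1)).val = i1.val + 1 := by simp [h1]
  have s6 := col0_to_colL γ hC h12 hc
  have h1L : i1 ≠ Fin.last L := fin_ne_of_val_ne (by simp [h1]; omega)
  have h10 : i1 ≠ 0 := (zero_ne_i1 i1 h1).symm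
  have s7 := mset_comm h1L hL0 h10 s6 hseed
  -- the value
  have e1 : L - 2 + 1 = L - 1 := by omega
  rw [e1] at hc1
  have e2 : c * γ 0 * w0 = (-1) ^ L * κ := by
    have e3 : w0 = (-1) ^ L * (κ ^ (L - 1) * κ) := by
      have e4 : L - 1 + 1 = L := by omega
      rw [hw0, neg_pow, ← pow_succ, e4]
    rw [e3]
    linear_combination ((-1) ^ L * κ) * hc1
  rw [e2] at s7
  rcases neg_one_pow_eq_or F L with h | h
  · rwa [h, one_mul] at s7
  · rw [h, neg_one_mul] at s7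
    have := root_neg h10 s7
    rwa [neg_neg] at this

end Cfsg.Agent.Helper12.SLtwo
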