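import Mathlib
import Cfsg.Agent.Lib.Helper12.SLtwoG

/-!
# Fullness of the root groups and generation
-/

set_option autoImplicit false

namespace Cfsg.Agent.Helper12.SLtwo

open Matrix Cfsg.Agent.Helper12.RegUnip

variable {F : Type*} [Field F] [Fintype F] {L : ℕ}
variable {H : Subgroup (SpecialLinearGroup (Fin (L + 1)) F)}

omit [Fintype F] in
/-- the elements `g_k = C^k g C^{-k}` lie in `H` -/
theorem G_mem (γ : Fin (L + 1) → F) (hγ : γ 0 * γ 0 = 1) (κ : F) (i1 : Fin (L + 1))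
    (h1 : i1.val = 1) (hC : Cm γ ∈ Mset H)
    (hg : (1 + single i1 (0 : Fin (L + 1)) κ : Matrix (Fin (L + 1)) (Fin (L + 1)) F) ∈ Mset H)
    (k : ℕ) (i : Fin (L + 1)) (hi : i.val = k + 1) :
    (1 + vecMulVec (eV i) (yv γ κ k) : Matrix (Fin (L + 1)) (Fin (L + 1)) F) ∈ Mset H :=
  mset_conj (mset_pow hC k) hg (G_pow γ hγ κ i1 h1 k i hi).symm

omit [Fintype F] in
/-- `x_{i0}(κ^i) ∈ H` -/
theorem pw_mem (γ : Fin (L + 1) → F) (hγ : γ 0 * γ 0 = 1) (κ : F) (i1 : Fin (L + 1))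
    (h1 : i1.val = 1) (hC : Cm γ ∈ Mset H)
    (hg : (1 + single i1 (0 : Fin (L + 1)) κ : Matrix (Fin (L + 1)) (Fin (L + 1)) F) ∈ Mset H) :
    ∀ (m : ℕ) (i : Fin (L + 1)), i.val = m + 1 →
      (1 + single i (0 : Fin (L + 1)) (κ ^ (m + 1)) :
        Matrix (Fin (L + 1)) (Fin (L + 1)) F) ∈ Mset H := by
  intro m
  induction m with
  | zero =>
    intro i hi
    have : i = i1 := Fin.ext (by rw [hi, h1])
    rw [this, zero_add, pow_one]
    exact hg
  | succ m ih =>
    intro i' hi'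
    have hlt : m + 1 < L + 1 := by
      have := i'.isLt
      omega
    have hlt0 : m < L + 1 := by omega
    set i : Fin (L + 1) := ⟨m + 1, hlt⟩ with hi
    set im : Fin (L + 1) := ⟨m, hlt0⟩ with him
    have s1 := col0_to_colL γ hC (i := im) (i' := i) rfl (ih i rfl)
    have s2 := colL_step_G γ κ m (im := im) (i := i) rfl rfl
      (by
        have := i'.isLt
        simp [hi]
        omega)
      (G_mem γ hγ κ i1 h1 hC hg m i rfl) s1
    have s3 := colL_to_col0 γ hγ hC (i := i) (i' := i') (by simp [hi, hi']) s2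
    have e : κ * (κ ^ (m + 1) * γ 0) * γ 0 = κ ^ (m + 1 + 1) := by
      rw [pow_succ κ (m + 1)]
      linear_combination (κ * κ ^ (m + 1)) * hγ
    rwa [e] at s3

/-- the corner root group is full -/
theorem full_corner (hL : 3 ≤ L) (γ : Fin (L + 1) → F) (hγ : γ 0 * γ 0 = 1) (κ : F) (hκ : κ ≠ 0)
    (i1 : Fin (L + 1)) (h1 : i1.val = 1) (hC : Cm γ ∈ Mset H)
    (hg : (1 + single i1 (0 : Fin (L + 1)) κ : Matrix (Fin (L + 1)) (Fin (L + 1)) F) ∈ Mset H)
    (hfield : ∀ K : Subfield F, (∀ j : Fin (L + 1), 1 ≤ j.val → j.val + 1 ≤ L →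
      yv γ κ (L - 1) j * κ ^ (j.val + 1) ∈ K) → K = ⊤) :
    Full H (Fin.last L) (0 : Fin (L + 1)) := by
  have hL0 : (Fin.last L : Fin (L + 1)) ≠ 0 := last_ne_zero (by omega)
  have hcorner : (1 + single (Fin.last L) (0 : Fin (L + 1)) (κ ^ L) :
      Matrix (Fin (L + 1)) (Fin (L + 1)) F) ∈ Mset H := by
    have := pw_mem γ hγ κ i1 h1 hC hg (L - 1) (Fin.last L) (by rw [Fin.val_last]; omega)
    have e : L - 1 + 1 = L := by omega
    rwa [e] at this
  have hγ0K : ∀ K : Subfield F, γ 0 ∈ K := by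
    intro K
    have h : (γ 0 - 1) * (γ 0 + 1) = 0 := by linear_combination hγ
    rcases mul_eq_zero.mp h with h | h
    · rw [sub_eq_zero.mp h]
      exact K.one_mem
    · rw [eq_neg_of_add_eq_zero_left h]
      exact K.neg_mem K.one_mem
  have hlastG : (1 + vecMulVec (eV (Fin.last L)) (yv γ κ (L - 1)) :
      Matrix (Fin (L + 1)) (Fin (L + 1)) F) ∈ Mset H :=
    G_mem γ hγ κ i1 h1 hC hg (L - 1) (Fin.last L) (by rw [Fin.val_last]; omega)
  have hK : multiplierSubfield (P H hL0) = ⊤ := by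
    apply hfield
    intro j hj1 hj2
    have hmul : yv γ κ (L - 1) j * κ ^ (j.val + 1) * γ 0 ∈ multiplierSubfield (P H hL0) := by
      intro t ht
      rw [mem_P] at ht ⊢
      have hlt : j.val + 1 < L + 1 := by omega
      have s0 := pw_mem γ hγ κ i1 h1 hC hg j.val ⟨j.val + 1, hlt⟩ rfl
      have s1 := col0_to_colL γ hC (i := j) (i' := ⟨j.val + 1, hlt⟩) rfl s0
      have hjL : j ≠ Fin.last L := fin_ne_of_val_ne (by rw [Fin.val_last]; omega)
      have hj0 : j ≠ 0 := fin_ne_of_val_ne (by rw [Fin.val_zero]; omega)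
      have s2 := mset_comm hjL hL0 hj0 s1 ht
      have s3 := col0_to_corner (by omega) _ hlastG j s2
      have e : yv γ κ (L - 1) j * (κ ^ (j.val + 1) * γ 0 * t) =
          yv γ κ (L - 1) j * κ ^ (j.val + 1) * γ 0 * t := by ring
      rwa [e] at s3
    have h2 := (multiplierSubfield (P H hL0)).mul_mem hmul (hγ0K _)
    have e : yv γ κ (L - 1) j * κ ^ (j.val + 1) * γ 0 * γ 0 =
        yv γ κ (L - 1) j * κ ^ (j.val + 1) := by
      linear_combination (yv γ κ (L - 1) j * κ ^ (j.val + 1)) * hγ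
    rwa [e] at h2
  intro t
  have h1 : t / κ ^ L ∈ multiplierSubfield (P H hL0) := by
    rw [hK]
    exact Subfield.mem_top _
  have h2 := h1 (κ ^ L) ((mem_P hL0 _).mpr hcorner)
  rw [div_mul_cancel₀ _ (pow_ne_zero _ hκ)] at h2
  exact (mem_P hL0 t).mp h2

end Cfsg.Agent.Helper12.SLtwo
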