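import Mathlib
import Cfsg.Agent.Lib.Helper12.SLtwoH

/-!
# From the corner root group to all of `SL`
-/

set_option autoImplicit false

namespace Cfsg.Agent.Helper12.SLtwo

open Matrix Cfsg.Agent.Helper12.RegUnip

variable {F : Type*} [Field F] {L : ℕ}
variable {H : Subgroup (SpecialLinearGroup (Fin (L + 1)) F)}

/-- column `0` and column `L` are full -/
theorem full_cols (hL : 1 ≤ L) (γ : Fin (L + 1) → F) (hγ : γ 0 * γ 0 = 1) (hC : Cm γ ∈ Mset H)
    (hcorner : Full H (Fin.last L) (0 : Fin (L + 1))) :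
    ∀ (d : ℕ) (i : Fin (L + 1)), i.val + d = L → 1 ≤ i.val → Full H i (0 : Fin (L + 1)) := by
  have hL0 : (Fin.last L : Fin (L + 1)) ≠ 0 := last_ne_zero hL
  intro d
  induction d with
  | zero =>
    intro i hi _
    have : i = Fin.last L := Fin.ext (by rw [Fin.val_last]; omega)
    rw [this]
    exact hcorner
  | succ d ih =>
    intro i hi h1 t
    have hlt : i.val + 1 < L + 1 := by omega
    have h2 := ih ⟨i.val + 1, hlt⟩ (by simp; omega) (by simp) (t * γ 0)
    have h3 := col0_to_colL γ hC (i := i) (i' := ⟨i.val + 1, hlt⟩) rfl h2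
    have e : t * γ 0 * γ 0 = t := by linear_combination t * hγ
    rw [e] at h3
    have hiL : i ≠ Fin.last L := fin_ne_of_val_ne (by rw [Fin.val_last]; omega)
    have hi0 : i ≠ 0 := fin_ne_of_val_ne (by rw [Fin.val_zero]; omega)
    have h4 := mset_comm hiL hL0 hi0 h3 (hcorner 1)
    rwa [mul_one] at h4

theorem full_col0 (hL : 1 ≤ L) (γ : Fin (L + 1) → F) (hγ : γ 0 * γ 0 = 1) (hC : Cm γ ∈ Mset H)
    (hcorner : Full H (Fin.last L) (0 : Fin (L + 1))) (i : Fin (L + 1)) (hi : 1 ≤ i.val) :
    Full H i (0 : Fin (L + 1)) := by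
  have := i.isLt
  exact full_cols hL γ hγ hC hcorner (L - i.val) i (by omega) hi

theorem full_colL (hL : 1 ≤ L) (γ : Fin (L + 1) → F) (hγ : γ 0 * γ 0 = 1) (hC : Cm γ ∈ Mset H)
    (hcorner : Full H (Fin.last L) (0 : Fin (L + 1))) (i : Fin (L + 1)) (hi : i.val < L) :
    Full H i (Fin.last L) := by
  intro t
  have hlt : i.val + 1 < L + 1 := by omega
  have h2 := full_col0 hL γ hγ hC hcorner ⟨i.val + 1, hlt⟩ (by simp) (t * γ 0)
  have h3 := col0_to_colL γ hC (i := i) (i' := ⟨i.val + 1, hlt⟩) rfl h2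
  have e : t * γ 0 * γ 0 = t := by linear_combination t * hγ
  rwa [e] at h3

/-- the lower triangle -/
theorem full_lower (hL : 1 ≤ L) (γ : Fin (L + 1) → F) (hγ : γ 0 * γ 0 = 1) (hC : Cm γ ∈ Mset H)
    (hcorner : Full H (Fin.last L) (0 : Fin (L + 1))) :
    ∀ (d : ℕ) (i j : Fin (L + 1)), j.val = d → j.val < i.val → Full H i j := by
  intro d
  induction d with
  | zero =>
    intro i j hj hji
    have : j = 0 := Fin.ext (by rw [Fin.val_zero]; exact hj)
    rw [this]
    exact full_col0 hL γ hγ hC hcorner i (by omega)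
  | succ d ih =>
    intro i' j' hj' hji t
    have hltj : d < L + 1 := by
      have := j'.isLt
      omega
    have hlti : i'.val - 1 < L + 1 := by
      have := i'.isLt
      omega
    set i : Fin (L + 1) := ⟨i'.val - 1, hlti⟩ with hi
    set j : Fin (L + 1) := ⟨d, hltj⟩ with hj
    have hij : i ≠ j := fin_ne_of_val_ne (by simp [hi, hj]; omega)
    have h1 := ih i j rfl (by simp [hi, hj]; omega) t
    have h2 := diag_down γ hγ hC (i := i) (i' := i') (j := j) (j' := j') (by simp [hi]; omega)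
      (by simp [hj]; omega) hij h1
    exact mset_cancel_right (full_col0 hL γ hγ hC hcorner i' (by omega) _) h2

/-- the upper triangle -/
theorem full_upper (hL : 1 ≤ L) (γ : Fin (L + 1) → F) (hγ : γ 0 * γ 0 = 1) (hC : Cm γ ∈ Mset H)
    (hcorner : Full H (Fin.last L) (0 : Fin (L + 1))) :
    ∀ (d : ℕ) (i j : Fin (L + 1)), j.val + d = L → i.val < j.val → Full H i j := by
  intro d
  induction d with
  | zero =>
    intro i j hj hij
    have : j = Fin.last L := Fin.ext (by rw [Fin.val_last]; omega)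
    rw [this]
    exact full_colL hL γ hγ hC hcorner i (by omega)
  | succ d ih =>
    intro i j hj hij t
    have hltj : j.val + 1 < L + 1 := by omega
    have hlti : i.val + 1 < L + 1 := by omega
    set i' : Fin (L + 1) := ⟨i.val + 1, hlti⟩ with hi'
    set j' : Fin (L + 1) := ⟨j.val + 1, hltj⟩ with hj'
    have hne : i ≠ j := fin_ne_of_val_ne (by omega)
    have h1 := ih i' j' (by simp [hj']; omega) (by simp [hi', hj']; omega) t
    have h2 := diag_up γ hC (i := i) (i' := i') (j := j) (j' := j') rfl rfl hne h1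
    exact mset_cancel_right (full_colL hL γ hγ hC hcorner i (by omega) _) h2

/-- everything is generated -/
theorem eq_top_of_corner (hL : 1 ≤ L) (γ : Fin (L + 1) → F) (hγ : γ 0 * γ 0 = 1)
    (hC : Cm γ ∈ Mset H) (hcorner : Full H (Fin.last L) (0 : Fin (L + 1))) : H = ⊤ := by
  have : Nontrivial (Fin (L + 1)) := ⟨⟨Fin.last L, 0, last_ne_zero hL⟩⟩
  apply eq_top_of_full
  intro i j hij
  rcases Nat.lt_or_gt_of_ne (fun h => hij (Fin.ext h)) with h | h
  · have := j.isLt
    exact full_upper hL γ hγ hC hcorner (L - j.val) i j (by omega) h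
  · exact full_lower hL γ hγ hC hcorner j.val i j rfl h

end Cfsg.Agent.Helper12.SLtwo
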