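import Mathlib
import Cfsg.Agent.Lib.Helper12.SLtwoD

/-!
# Entries of the vectors `y_k`
-/

set_option autoImplicit false

namespace Cfsg.Agent.Helper12.SLtwo

open Matrix

variable {F : Type*} [Field F] {L : ℕ}

theorem Sop_smul (γ φ : Fin (L + 1) → F) (c : F) : Sop γ (c • φ) = c • Sop γ φ := by
  ext j
  refine Fin.cases ?_ (fun i => ?_) j
  · rw [Pi.smul_apply, Sop_zero, Sop_zero, smul_eq_mul]
    simp only [Pi.smul_apply, smul_eq_mul]
    have e : ∑ x : Fin L, c * φ x.castSucc * γ x.succ = c * ∑ x : Fin L, φ x.castSucc * γ x.succ := by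
      rw [Finset.mul_sum]
      apply Finset.sum_congr rfl
      intro x _
      ring
    rw [e]
    ring
  · rw [Pi.smul_apply, Sop_succ, Sop_succ, Pi.smul_apply]

theorem yv_smul (γ : Fin (L + 1) → F) (κ : F) : ∀ k : ℕ, yv γ κ k = κ • yv γ 1 k := by
  intro k
  induction k with
  | zero => rw [yv_zero, yv_zero, one_smul]
  | succ k ih => rw [yv_succ, yv_succ, ih, Sop_smul]

/-- the shift structure -/
theorem yv_shift (γ : Fin (L + 1) → F) :
    ∀ (k : ℕ) (j : Fin (L + 1)), j.val ≤ k → yv γ 1 k j = yv γ 1 (k - j.val) 0 := by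
  intro k
  induction k with
  | zero =>
    intro j hj
    have : j = 0 := Fin.ext (by rw [Fin.val_zero]; omega)
    rw [this]
    rfl
  | succ k ih =>
    intro j
    refine Fin.cases ?_ (fun i => ?_) j
    · intro _
      rfl
    · intro hj
      rw [yv_succ, Sop_succ, ih _ (by simp at hj ⊢; omega)]
      congr 1
      simp

/-- the recursion at index zero, when the coefficients `γ_1, …, γ_{m}` vanish -/
theorem yv_zero_entry (γ : Fin (L + 1) → F) (m : ℕ) (hm : m < L)
    (hvan : ∀ i : Fin L, i.val < m → γ i.succ = 0) :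
    yv γ 1 (m + 1) 0 = -(γ 0 * γ (⟨m, hm⟩ : Fin L).succ) := by
  rw [yv_succ, Sop_zero]
  have h1 : yv γ 1 m (Fin.last L) = 0 := yv_beyond γ 1 m _ (by rw [Fin.val_last]; exact hm)
  have h2 : ∑ i : Fin L, yv γ 1 m i.castSucc * γ i.succ = γ (⟨m, hm⟩ : Fin L).succ := by
    rw [Finset.sum_eq_single (⟨m, hm⟩ : Fin L)]
    · rw [yv_diag γ 1 m _ (by simp), one_mul]
    · intro i _ hi
      rcases Nat.lt_or_gt_of_ne (fun h => hi (Fin.ext h)) with h | h
      · rw [hvan i h, mul_zero]
      · rw [yv_beyond γ 1 m _ (by simpa using h), zero_mul]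
    · intro h
      exact absurd (Finset.mem_univ _) h
  rw [h1, h2]
  ring

/-- the entry of `y_{L-1}` at distance `q` from the diagonal -/
theorem yv_entry (γ : Fin (L + 1) → F) (κ : F) (q : ℕ) (hq1 : 1 ≤ q) (hq : q + 1 ≤ L)
    (hvan : ∀ i : Fin L, i.val + 1 < q → γ i.succ = 0) (j : Fin (L + 1))
    (hj : j.val + q = L - 1) (jq : Fin (L + 1)) (hjq : jq.val = q) :
    yv γ κ (L - 1) j = -(κ * (γ 0 * γ jq)) := by
  have hm : q - 1 < L := by omega
  have e1 : L - 1 - j.val = (q - 1) + 1 := by omega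
  rw [yv_smul, Pi.smul_apply, yv_shift γ (L - 1) j (by omega), e1,
    yv_zero_entry γ (q - 1) hm (fun i hi => hvan i (by omega)), smul_eq_mul]
  have : (⟨q - 1, hm⟩ : Fin L).succ = jq := by
    apply Fin.ext
    simp [hjq]
    omega
  rw [this]
  ring

end Cfsg.Agent.Helper12.SLtwo
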