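import Mathlib
import Cfsg.Agent.Lib.Helper12.SLtwoK

/-!
# The binomial coefficients: the multipliers generate the field
-/

set_option autoImplicit false

namespace Cfsg.Agent.Helper12.SLtwo

open Matrix

section nat

/-- `p ∣ C(p^e n', j)` for `0 < j < p^e` -/
theorem dvd_choose_pow_mul {p : ℕ} (hp : p.Prime) (e n' j : ℕ) (hj0 : 0 < j) (hj : j < p ^ e) :
    p ∣ (p ^ e * n').choose j := by
  by_contra hnd
  have hcop : Nat.Coprime (p ^ e) ((p ^ e * n').choose j) :=
    Nat.Coprime.pow_left e ((Nat.Prime.coprime_iff_not_dvd hp).mpr hnd)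
  by_cases hn : p ^ e * n' = 0
  · rw [hn, Nat.choose_eq_zero_of_lt hj0] at hnd
    exact hnd (dvd_zero p)
  obtain ⟨N, hN⟩ : ∃ N, p ^ e * n' = N + 1 := ⟨p ^ e * n' - 1, by omega⟩
  obtain ⟨j', rfl⟩ : ∃ j', j = j' + 1 := ⟨j - 1, by omega⟩
  have h1 := Nat.add_one_mul_choose_eq N j'
  rw [← hN] at h1
  have h2 : p ^ e ∣ (p ^ e * n').choose (j' + 1) * (j' + 1) := by
    rw [← h1, mul_assoc]
    exact Dvd.intro _ rfl
  have h3 : p ^ e ∣ j' + 1 := hcop.dvd_of_dvd_mul_left h2
  have := Nat.le_of_dvd (by omega) h3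
  omega

/-- `C(p^e n', p^e) ≡ n'` modulo `p` -/
theorem choose_pow_mul_modEq {p : ℕ} (hp : p.Prime) (e n' : ℕ) :
    (p ^ e * n').choose (p ^ e) ≡ n' [MOD p] := by
  haveI : Fact p.Prime := ⟨hp⟩
  have h := Choose.choose_pow_mul_pow_mul_modEq_choose_nat (p := p) (k := e) (a := n') (b := 1)
  rwa [mul_one, Nat.choose_one_right] at h

/-- the prime power part of `n ≥ 4` is `n` or at most `n - 3` -/
theorem pow_le_sub_three {p : ℕ} (hp : p.Prime) (e n' n : ℕ) (hn : 4 ≤ n) (hnn : n = p ^ e * n')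
    (hnd : ¬ p ∣ n') (hne : p ^ e ≠ n) : p ^ e + 3 ≤ n := by
  have hp2 := hp.two_le
  have hpos : 0 < p ^ e := pow_pos (by omega) e
  have hn' : 2 ≤ n' := by
    rcases Nat.lt_or_ge n' 2 with h | h
    · interval_cases n'
      · omega
      · rw [mul_one] at hnn
        exact absurd hnn.symm hne
    · exact h
  by_cases h3 : 3 ≤ p ^ e
  · nlinarith
  · have h12 : p ^ e = 1 ∨ p ^ e = 2 := by omega
    rcases h12 with h | h
    · omega
    · -- `p = 2`, `e = 1`, `n'` odd
      have hp2' : p = 2 := by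
        have hpd : p ∣ 2 := by
          rw [← h]
          have he : e ≠ 0 := by
            intro he
            rw [he, pow_zero] at h
            omega
          exact dvd_pow_self p he
        have := Nat.le_of_dvd (by norm_num) hpd
        omega
      have : n' ≠ 2 := by
        intro h2
        apply hnd
        rw [h2, hp2']
      have : 3 ≤ n' := by omega
      nlinarith

end nat

variable {F : Type*} [Field F] {L : ℕ}

/-- the coefficients of `(z - 1)^{L+1}` -/
def gam (F : Type*) [Field F] (L : ℕ) : Fin (L + 1) → F :=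
  fun i => (-1) ^ (L + i.val) * ((L + 1).choose i.val : F)

theorem gam_zero_sq : gam F L 0 * gam F L 0 = 1 := by
  unfold gam
  rw [Fin.val_zero, Nat.choose_zero_right, Nat.cast_one, mul_one, add_zero, ← mul_pow]
  simp

section finite

variable [Fintype F]

/-- a subfield of a finite field is perfect -/
theorem mem_of_pow_char_pow_mem (p : ℕ) [CharP F p] (K : Subfield F) (e : ℕ) (x : F)
    (hx : x ^ (p ^ e) ∈ K) : x ∈ K := by
  obtain ⟨f, _, hcard⟩ := FiniteField.card F p
  have h1 : x ^ (Fintype.card F) ^ e = x := FiniteField.pow_card_pow e x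
  have hf : 1 ≤ (f : ℕ) := f.pos
  have e1 : (Fintype.card F) ^ e = p ^ e * p ^ ((f : ℕ) * e - e) := by
    rw [hcard, ← pow_mul, ← pow_add]
    congr 1
    have : e ≤ (f : ℕ) * e := Nat.le_mul_of_pos_left e hf
    omega
  rw [e1, pow_mul] at h1
  rw [← h1]
  exact pow_mem hx _

/-- the multipliers generate the field -/
theorem hfield_gam (hL : 3 ≤ L) (κ : F) (hκ : κ ≠ 0) (hgen : ∀ K : Subfield F, κ ∈ K → K = ⊤)
    (K : Subfield F)
    (hK : ∀ j : Fin (L + 1), 1 ≤ j.val → j.val + 1 ≤ L →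
      yv (gam F L) κ (L - 1) j * κ ^ (j.val + 1) ∈ K) : K = ⊤ := by
  apply hgen
  obtain ⟨p, hchar⟩ := CharP.exists F
  have hp : p.Prime := CharP.char_is_prime F p
  obtain ⟨e, n', hnd, hnn⟩ := Nat.exists_eq_pow_mul_and_not_dvd (n := L + 1) (by omega) p
    hp.ne_one
  -- `κ ^ (L + 1) ∈ K`
  have hlt : L - 1 < L + 1 := by omega
  have hpowK : κ ^ (L + 1) ∈ K := by
    have h := hK ⟨L - 1, hlt⟩ (by simp; omega) (by simp; omega)
    rw [yv_diag (gam F L) κ (L - 1) _ rfl] at h
    have e1 : κ * κ ^ ((⟨L - 1, hlt⟩ : Fin (L + 1)).val + 1) = κ ^ (L + 1) := by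
      rw [← pow_succ']
      congr 1
      simp
      omega
    rwa [e1] at h
  by_cases hq : p ^ e = L + 1
  · apply mem_of_pow_char_pow_mem p K e
    rw [hq]
    exact hpowK
  · have hq3 := pow_le_sub_three hp e n' (L + 1) (by omega) hnn hnd hq
    have hq1 : 1 ≤ p ^ e := Nat.one_le_pow _ _ hp.pos
    -- the index `j`
    have hjlt : L - 1 - p ^ e < L + 1 := by omega
    have hqlt : p ^ e < L + 1 := by omega
    have h := hK ⟨L - 1 - p ^ e, hjlt⟩ (by simp; omega) (by simp; omega)
    have hvan : ∀ i : Fin L, i.val + 1 < p ^ e → gam F L i.succ = 0 := by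
      intro i hi
      unfold gam
      have hd : p ∣ (L + 1).choose (i.val + 1) := by
        have h := dvd_choose_pow_mul hp e n' (i.val + 1) (by omega) hi
        rwa [← hnn] at h
      rw [Fin.val_succ, (CharP.cast_eq_zero_iff F p _).mpr hd, mul_zero]
    rw [yv_entry (gam F L) κ (p ^ e) hq1 (by omega) hvan _ (by simp; omega) ⟨p ^ e, hqlt⟩ rfl] at h
    -- the binomial coefficient is a non-zero element of the prime field
    have hbin : ((L + 1).choose (p ^ e) : F) = (n' : F) := by
      apply CharP.natCast_eq_natCast' F p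
      rw [hnn]
      exact choose_pow_mul_modEq hp e n'
    have hn'ne : (n' : F) ≠ 0 := by
      intro h0
      exact hnd ((CharP.cast_eq_zero_iff F p n').mp h0)
    set c : F := gam F L 0 * gam F L ⟨p ^ e, hqlt⟩ with hc
    have hcK : c ∈ K := by
      rw [hc]
      unfold gam
      apply mul_mem
      · exact mul_mem (pow_mem (neg_mem (one_mem K)) _) (natCast_mem K _)
      · exact mul_mem (pow_mem (neg_mem (one_mem K)) _) (natCast_mem K _)
    have hcne : c ≠ 0 := by
      rw [hc]
      unfold gam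
      simp only [Fin.val_zero, Nat.choose_zero_right, Nat.cast_one, mul_one]
      rw [hbin]
      apply mul_ne_zero
      · exact pow_ne_zero _ (neg_ne_zero.mpr one_ne_zero)
      · apply mul_ne_zero
        · exact pow_ne_zero _ (neg_ne_zero.mpr one_ne_zero)
        · exact hn'ne
    -- `κ ^ (L + 1 - p^e) ∈ K`
    have hpow2 : κ ^ (L + 1 - p ^ e) ∈ K := by
      have e1 : -(κ * c) * κ ^ ((⟨L - 1 - p ^ e, hjlt⟩ : Fin (L + 1)).val + 1) =
          -c * κ ^ (L + 1 - p ^ e) := by
        have e2 : L + 1 - p ^ e = (L - 1 - p ^ e + 1) + 1 := by omega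
        rw [e2, pow_succ κ (L - 1 - p ^ e + 1)]
        simp only []
        ring
      rw [e1] at h
      have h2 := mul_mem (inv_mem (neg_mem hcK)) h
      rwa [← mul_assoc, inv_mul_cancel₀ (neg_ne_zero.mpr hcne), one_mul] at h2
    apply mem_of_pow_char_pow_mem p K e
    have e3 : κ ^ (p ^ e) = κ ^ (L + 1) * (κ ^ (L + 1 - p ^ e))⁻¹ := by
      have e4 : κ ^ (L + 1) = κ ^ (L + 1 - p ^ e) * κ ^ (p ^ e) := by
        rw [← pow_add]
        congr 1
        omega
      rw [e4]
      have : κ ^ (L + 1 - p ^ e) ≠ 0 := pow_ne_zero _ hκ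
      field_simp
    rw [e3]
    exact mul_mem hpowK (inv_mem hpow2)

end finite

end Cfsg.Agent.Helper12.SLtwo
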