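import Mathlib
import Cfsg.Agent.Lib.Helper12.SLtwoL

/-!
# The companion matrix of `(z - 1)^{L+1}` is a regular unipotent element of `SL`
-/

set_option autoImplicit false

namespace Cfsg.Agent.Helper12.SLtwo

open Matrix

variable {F : Type*} [Field F] {L : ℕ}

/-- the action of `C` on column vectors -/
theorem Cm_mulVec_zero (γ x : Fin (L + 1) → F) :
    (Cm γ *ᵥ x) 0 = γ 0 * x (Fin.last L) := by
  change ∑ j, Cm γ 0 j * x j = _
  rw [Fin.sum_univ_castSucc]
  have h1 : ∑ j : Fin L, Cm γ 0 j.castSucc * x j.castSucc = 0 := by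
    apply Finset.sum_eq_zero
    intro j _
    rw [Cm_apply]
    have hj : ¬ (j.castSucc : Fin (L + 1)).val = L := by
      have := j.isLt
      simp
      omega
    rw [if_neg hj, if_neg (by simp), zero_mul]
  rw [h1, zero_add, Cm_apply, if_pos (by simp)]

theorem Cm_mulVec_succ (γ x : Fin (L + 1) → F) (i : Fin L) :
    (Cm γ *ᵥ x) i.succ = x i.castSucc + γ i.succ * x (Fin.last L) := by
  change ∑ j, Cm γ i.succ j * x j = _
  rw [Fin.sum_univ_castSucc]
  have h1 : ∑ j : Fin L, Cm γ i.succ j.castSucc * x j.castSucc = x i.castSucc := by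
    rw [Finset.sum_eq_single i]
    · rw [Cm_apply]
      have hj : ¬ (i.castSucc : Fin (L + 1)).val = L := by
        have := i.isLt
        simp
        omega
      rw [if_neg hj, if_pos (by simp), one_mul]
    · intro j _ hji
      rw [Cm_apply]
      have hj : ¬ (j.castSucc : Fin (L + 1)).val = L := by
        have := j.isLt
        simp
        omega
      have h2 : ¬ (i.succ : Fin (L + 1)).val = (j.castSucc : Fin (L + 1)).val + 1 := by
        intro h3
        apply hji
        apply Fin.ext
        simp at h3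
        omega
      rw [if_neg hj, if_neg h2, zero_mul]
    · intro h
      exact absurd (Finset.mem_univ _) h
  rw [h1, Cm_apply, if_pos (by simp)]

/-- the vectors `(C - 1)^m e_0` -/
def bv (F : Type*) [Field F] (L m : ℕ) : Fin (L + 1) → F :=
  fun i => (-1) ^ (m + i.val) * (m.choose i.val : F)

theorem bv_zero : bv F L 0 = eV 0 := by
  ext i
  unfold bv
  refine Fin.cases ?_ (fun j => ?_) i
  · rw [eV_same]
    simp
  · rw [eV_ne (Fin.succ_ne_zero j)]
    simp

theorem bv_last_of_lt (m : ℕ) (hm : m < L) : bv F L m (Fin.last L) = 0 := by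
  unfold bv
  rw [Fin.val_last, Nat.choose_eq_zero_of_lt hm, Nat.cast_zero, mul_zero]

theorem bv_last_self : bv F L L (Fin.last L) = 1 := by
  unfold bv
  rw [Fin.val_last, Nat.choose_self, Nat.cast_one, mul_one, ← two_mul, pow_mul]
  simp

theorem D_bv (m : ℕ) (hm : m < L) : (Cm (gam F L) - 1) *ᵥ bv F L m = bv F L (m + 1) := by
  ext i
  rw [sub_mulVec, one_mulVec, Pi.sub_apply]
  refine Fin.cases ?_ (fun j => ?_) i
  · rw [Cm_mulVec_zero, bv_last_of_lt m hm, mul_zero]
    unfold bv
    simp only [Fin.val_zero, Nat.choose_zero_right, Nat.cast_one, mul_one, add_zero]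
    rw [pow_succ]
    ring
  · rw [Cm_mulVec_succ, bv_last_of_lt m hm, mul_zero, add_zero]
    unfold bv
    simp only [Fin.val_succ, Fin.val_castSucc]
    rw [Nat.choose_succ_succ, Nat.cast_add]
    have e1 : (-1 : F) ^ (m + (j.val + 1)) = -(-1) ^ (m + j.val) := by
      rw [← add_assoc, pow_succ]
      ring
    have e2 : (-1 : F) ^ (m + 1 + (j.val + 1)) = (-1) ^ (m + j.val) := by
      have : m + 1 + (j.val + 1) = (m + j.val) + 2 := by ring
      rw [this, pow_add]
      simp
    rw [e1, e2]
    ring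

theorem D_bv_last : (Cm (gam F L) - 1) *ᵥ bv F L L = 0 := by
  ext i
  rw [sub_mulVec, one_mulVec, Pi.sub_apply, Pi.zero_apply]
  refine Fin.cases ?_ (fun j => ?_) i
  · rw [Cm_mulVec_zero, bv_last_self, mul_one]
    unfold bv gam
    simp
  · rw [Cm_mulVec_succ, bv_last_self, mul_one]
    unfold bv gam
    simp only [Fin.val_succ, Fin.val_castSucc]
    rw [Nat.choose_succ_succ, Nat.cast_add]
    have e1 : (-1 : F) ^ (L + (j.val + 1)) = -(-1) ^ (L + j.val) := by
      rw [← add_assoc, pow_succ]
      ring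
    rw [e1]
    ring

theorem Dpow_e0 : ∀ m : ℕ, m ≤ L → (Cm (gam F L) - 1) ^ m *ᵥ eV 0 = bv F L m := by
  intro m
  induction m with
  | zero =>
    intro _
    rw [pow_zero, one_mulVec, bv_zero]
  | succ m ih =>
    intro hm
    rw [pow_succ', ← mulVec_mulVec, ih (by omega), D_bv m (by omega)]

theorem Dpow_top_e0 : (Cm (gam F L) - 1) ^ (L + 1) *ᵥ eV 0 = 0 := by
  rw [pow_succ', ← mulVec_mulVec, Dpow_e0 L le_rfl, D_bv_last]

theorem Cpow_e0 (γ : Fin (L + 1) → F) :
    ∀ (k : ℕ) (i : Fin (L + 1)), i.val = k → Cm γ ^ k *ᵥ eV 0 = eV i := by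
  intro k
  induction k with
  | zero =>
    intro i hi
    have : i = 0 := Fin.ext (by rw [Fin.val_zero]; exact hi)
    rw [this, pow_zero, one_mulVec]
  | succ k ih =>
    intro i hi
    have hlt : k < L + 1 := by
      have := i.isLt
      omega
    rw [pow_succ', ← mulVec_mulVec, ih ⟨k, hlt⟩ rfl]
    exact Cm_mulVec_eV γ (by simp [hi])

theorem D_nilpotent : (Cm (gam F L) - 1) ^ (L + 1) = 0 := by
  have hcomm : Commute (Cm (gam F L) - 1) (Cm (gam F L)) :=
    (Commute.refl _).sub_left (Commute.one_left _)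
  ext i k
  have h1 : ((Cm (gam F L) - 1) ^ (L + 1) *ᵥ eV k) i = ((Cm (gam F L) - 1) ^ (L + 1)) i k := by
    unfold eV
    rw [mulVec_single_one]
    rfl
  rw [← h1, ← Cpow_e0 (gam F L) k.val k rfl, mulVec_mulVec, (hcomm.pow_pow (L + 1) k.val).eq,
    ← mulVec_mulVec, Dpow_top_e0, mulVec_zero]
  rfl

theorem D_pow_ne_zero : (Cm (gam F L) - 1) ^ L ≠ 0 := by
  intro h
  have h1 := Dpow_e0 (F := F) L le_rfl
  rw [h, zero_mulVec] at h1
  have h2 := congrFun h1 (Fin.last L)
  rw [bv_last_self, Pi.zero_apply] at h2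
  exact zero_ne_one h2

theorem det_Cm : (Cm (gam F L)).det = 1 := by
  rw [Matrix.det_succ_row_zero, Finset.sum_eq_single (Fin.last L)]
  · have hsub : (Cm (gam F L)).submatrix Fin.succ (Fin.last L).succAbove = 1 := by
      ext a b
      rw [submatrix_apply, Fin.succAbove_last, Cm_apply, Matrix.one_apply]
      have hb : ¬ (b.castSucc : Fin (L + 1)).val = L := by
        have := b.isLt
        simp
        omega
      rw [if_neg hb]
      by_cases hab : a = b
      · subst hab
        rw [if_pos (by simp), if_pos rfl]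
      · have : ¬ (a.succ : Fin (L + 1)).val = (b.castSucc : Fin (L + 1)).val + 1 := by
          intro h
          apply hab
          apply Fin.ext
          simp at h
          exact h
        rw [if_neg this, if_neg hab]
    rw [hsub, det_one, mul_one, Cm_apply, if_pos (by simp)]
    unfold gam
    simp only [Fin.val_last, Fin.val_zero, Nat.choose_zero_right, Nat.cast_one, mul_one, add_zero]
    rw [← mul_pow]
    simp
  · intro j _ hj
    rw [Cm_apply]
    have h1 : ¬ j.val = L := by
      intro h
      apply hj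
      apply Fin.ext
      rw [Fin.val_last]
      exact h
    rw [if_neg h1, if_neg (by simp)]
    simp
  · intro h
    exact absurd (Finset.mem_univ _) h

end Cfsg.Agent.Helper12.SLtwo
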