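import Mathlib
import Cfsg.Agent.Lib.Helper12.SLtwoI
import Cfsg.Agent.Lib.Helper12.SLtwoM

/-!
# `SL_n(F)`, `n ≥ 4`, is generated by two conjugate regular unipotent elements
-/

set_option autoImplicit false

namespace Cfsg.Agent.Helper12.SLtwo

open Matrix Cfsg.Agent.Helper12.RegUnip

variable {F : Type*} [Field F] {L : ℕ}

/-- the group theoretic statement -/
theorem gen_top_two [Fintype F] (hL : 3 ≤ L) (γ : Fin (L + 1) → F) (hγ : γ 0 * γ 0 = 1) (κ : F)
    (hκ : κ ≠ 0) (i1 : Fin (L + 1)) (h1 : i1.val = 1)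
    {H : Subgroup (Matrix.SpecialLinearGroup (Fin (L + 1)) F)}
    (V : Matrix (Fin (L + 1)) (Fin (L + 1)) F) (hC : Cm γ ∈ Mset H) (hV : V ∈ Mset H)
    (hVg : V * (1 + single i1 (0 : Fin (L + 1)) κ) = (1 + single i1 (0 : Fin (L + 1)) κ) * Cm γ)
    (hfield : ∀ K : Subfield F, (∀ j : Fin (L + 1), 1 ≤ j.val → j.val + 1 ≤ L →
      yv γ κ (L - 1) j * κ ^ (j.val + 1) ∈ K) → K = ⊤) : H = ⊤ := by
  have hA : ∀ (k : ℕ) (i : Fin (L + 1)), 1 ≤ k → i.val = k + 1 →
      Aelt 0 i1 i κ (yv γ κ k) ∈ Mset H :=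
    fun k i _ hi => Aelt_mem γ hγ κ i1 h1 V hC hV hVg k i hi
  have hg := g_mem hL γ hγ κ hκ i1 h1 hC hA
  exact eq_top_of_corner (by omega) γ hγ hC (full_corner hL γ hγ κ hκ i1 h1 hC hg hfield)

/-- conjugates of regular unipotent elements are regular unipotent -/
theorem conj_regular {ι : Type*} [Fintype ι] [DecidableEq ι]
    (a g : Matrix.SpecialLinearGroup ι F) (k : ℕ)
    (h : IsNilpotent ((a : Matrix ι ι F) - 1) ∧ ((a : Matrix ι ι F) - 1) ^ k ≠ 0) :
    IsNilpotent (((g * a * g⁻¹ : Matrix.SpecialLinearGroup ι F) : Matrix ι ι F) - 1) ∧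
      (((g * a * g⁻¹ : Matrix.SpecialLinearGroup ι F) : Matrix ι ι F) - 1) ^ k ≠ 0 := by
  have h1 : (g : Matrix ι ι F) * ((g⁻¹ : Matrix.SpecialLinearGroup ι F) : Matrix ι ι F) = 1 := by
    rw [← Matrix.SpecialLinearGroup.coe_mul, mul_inv_cancel, Matrix.SpecialLinearGroup.coe_one]
  have h2 : ((g⁻¹ : Matrix.SpecialLinearGroup ι F) : Matrix ι ι F) * (g : Matrix ι ι F) = 1 := by
    rw [← Matrix.SpecialLinearGroup.coe_mul, inv_mul_cancel, Matrix.SpecialLinearGroup.coe_one]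
  have h3 : ((g * a * g⁻¹ : Matrix.SpecialLinearGroup ι F) : Matrix ι ι F) - 1 =
      (g : Matrix ι ι F) * ((a : Matrix ι ι F) - 1) *
        ((g⁻¹ : Matrix.SpecialLinearGroup ι F) : Matrix ι ι F) := by
    rw [Matrix.SpecialLinearGroup.coe_mul, Matrix.SpecialLinearGroup.coe_mul, mul_sub, sub_mul,
      Matrix.mul_one, h1]
  generalize (g : Matrix ι ι F) = G at h1 h2 h3
  generalize ((g⁻¹ : Matrix.SpecialLinearGroup ι F) : Matrix ι ι F) = G' at h1 h2 h3
  generalize (a : Matrix ι ι F) - 1 = D at h h3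
  have hpow : ∀ m : ℕ, (G * D * G') ^ m = G * D ^ m * G' := by
    intro m
    induction m with
    | zero => rw [pow_zero, pow_zero, Matrix.mul_one, h1]
    | succ m ih =>
      rw [pow_succ, ih, pow_succ]
      calc G * D ^ m * G' * (G * D * G') = G * D ^ m * (G' * G) * D * G' := by
            simp only [Matrix.mul_assoc]
        _ = G * (D ^ m * D) * G' := by
            rw [h2, Matrix.mul_one]
            simp only [Matrix.mul_assoc]
  rw [h3]
  constructor
  · obtain ⟨N, hN⟩ := h.1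
    exact ⟨N, by rw [hpow, hN, Matrix.mul_zero, Matrix.zero_mul]⟩
  · intro h0
    apply h.2
    rw [hpow] at h0
    calc D ^ k = (G' * G) * D ^ k * (G' * G) := by rw [h2, Matrix.one_mul, Matrix.mul_one]
      _ = G' * (G * D ^ k * G') * G := by simp only [Matrix.mul_assoc]
      _ = 0 := by rw [h0, Matrix.mul_zero, Matrix.zero_mul]

/-- the regular unipotent element -/
def uC (F : Type*) [Field F] (L : ℕ) : Matrix.SpecialLinearGroup (Fin (L + 1)) F :=
  ⟨Cm (gam F L), det_Cm⟩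

theorem uC_coe : ((uC F L : Matrix.SpecialLinearGroup (Fin (L + 1)) F) :
    Matrix (Fin (L + 1)) (Fin (L + 1)) F) = Cm (gam F L) := rfl

/-- the index `1` -/
def idx1 (L : ℕ) (hL : 3 ≤ L) : Fin (L + 1) := ⟨1, by omega⟩

theorem idx1_ne_zero (hL : 3 ≤ L) : idx1 L hL ≠ 0 := fun h => by
  have := congrArg Fin.val h
  simp [idx1] at this

/-- the conjugating root element -/
def gC (hL : 3 ≤ L) (κ : F) : Matrix.SpecialLinearGroup (Fin (L + 1)) F :=
  Matrix.SpecialLinearGroup.transvection (idx1_ne_zero hL) κ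

theorem gC_coe (hL : 3 ≤ L) (κ : F) : ((gC hL κ : Matrix.SpecialLinearGroup (Fin (L + 1)) F) :
    Matrix (Fin (L + 1)) (Fin (L + 1)) F) = 1 + single (idx1 L hL) (0 : Fin (L + 1)) κ := rfl

theorem conj_mul_eq (hL : 3 ≤ L) (κ : F) :
    ((gC hL κ * uC F L * (gC hL κ)⁻¹ : Matrix.SpecialLinearGroup (Fin (L + 1)) F) :
      Matrix (Fin (L + 1)) (Fin (L + 1)) F) * (1 + single (idx1 L hL) (0 : Fin (L + 1)) κ) =
      (1 + single (idx1 L hL) (0 : Fin (L + 1)) κ) * Cm (gam F L) := by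
  rw [← gC_coe, ← uC_coe, ← Matrix.SpecialLinearGroup.coe_mul,
    ← Matrix.SpecialLinearGroup.coe_mul, inv_mul_cancel_right]

/-- **Two conjugate regular unipotent elements generate `SL_{L+1}(F)`, `L ≥ 3`.** -/
theorem two_conj_regular_unipotent [Fintype F] (hL : 3 ≤ L) :
    ∃ u g : Matrix.SpecialLinearGroup (Fin (L + 1)) F,
      (IsNilpotent ((u : Matrix (Fin (L + 1)) (Fin (L + 1)) F) - 1) ∧
        ((u : Matrix (Fin (L + 1)) (Fin (L + 1)) F) - 1) ^ L ≠ 0) ∧
      Subgroup.closure ({u, g * u * g⁻¹} :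
        Set (Matrix.SpecialLinearGroup (Fin (L + 1)) F)) = ⊤ := by
  obtain ⟨mu, hmugen⟩ := IsCyclic.exists_generator (α := Fˣ)
  have hmu : (mu : F) ≠ 0 := mu.ne_zero
  refine ⟨uC F L, gC hL (mu : F), ⟨?_, ?_⟩, ?_⟩
  · rw [uC_coe]
    exact ⟨L + 1, D_nilpotent⟩
  · rw [uC_coe]
    exact D_pow_ne_zero
  · have hC : Cm (gam F L) ∈ Mset (Subgroup.closure ({uC F L,
        gC hL (mu : F) * uC F L * (gC hL (mu : F))⁻¹} :
          Set (Matrix.SpecialLinearGroup (Fin (L + 1)) F))) := by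
      rw [← uC_coe]
      exact mset_coe (Subgroup.subset_closure (by simp))
    have hV : ((gC hL (mu : F) * uC F L * (gC hL (mu : F))⁻¹ :
        Matrix.SpecialLinearGroup (Fin (L + 1)) F) : Matrix (Fin (L + 1)) (Fin (L + 1)) F) ∈
        Mset (Subgroup.closure ({uC F L, gC hL (mu : F) * uC F L * (gC hL (mu : F))⁻¹} :
          Set (Matrix.SpecialLinearGroup (Fin (L + 1)) F))) :=
      mset_coe (Subgroup.subset_closure (by simp))
    apply gen_top_two hL (gam F L) gam_zero_sq (mu : F) hmu (idx1 L hL) rfl _ hC hV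
      (conj_mul_eq hL (mu : F))
    intro K hK
    apply hfield_gam hL (mu : F) hmu _ K hK
    intro K' hK'
    rw [eq_top_iff]
    intro x _
    by_cases hx : x = 0
    · rw [hx]
      exact zero_mem K'
    · obtain ⟨k, hk⟩ := Subgroup.mem_zpowers_iff.mp (hmugen (Units.mk0 x hx))
      have h4 : x = ((mu ^ k : Fˣ) : F) := by
        rw [hk]
        rfl
      rw [h4, Units.val_zpow_eq_zpow_val]
      exact zpow_mem hK' k

end Cfsg.Agent.Helper12.SLtwo
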