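import Mathlib
import Cfsg.Agent.Lib.Helper23.SlhDefs
import Cfsg.Prelude.Def_BaumannBlocks

/-!
# S3050 (helper23 farm-out) PIECE SLH-DECOMP (helper12): from the normal form to the subgroups `V i`.
-/

set_option autoImplicit false
set_option linter.unusedSectionVars false
set_option linter.unusedVariables false
set_option linter.style.haveILetI false

namespace Cfsg.Agent.Helper23.Slh

open Cfsg.Agent.Helper12.NatMod

local notation "SL2" => Matrix.SpecialLinearGroup (Fin 2)

section PartF

variable {G : Type*} [Group G] {K : Type*} [Field K]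

/-- the `i`-th coordinate subgroup of `Q` -/
def slh_decomp_W {Q : Subgroup G} {k : ℕ} (ψ : ↥Q ≃* Multiplicative (Fin k → Fin 2 → K))
    (i : Fin k) : Subgroup ↥Q where
  carrier := {y | ∀ j, j ≠ i → Multiplicative.toAdd (ψ y) j = 0}
  one_mem' := by intro j _; simp
  mul_mem' := by
    intro a b ha hb j hj
    have h1 := ha j hj
    have h2 := hb j hj
    simp only [map_mul, toAdd_mul, Pi.add_apply, h1, h2, add_zero]
  inv_mem' := by
    intro a ha j hj
    have h1 := ha j hj
    simp only [map_inv, toAdd_inv, Pi.neg_apply, h1, neg_zero]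

theorem slh_decomp_mem_W {Q : Subgroup G} {k : ℕ} (ψ : ↥Q ≃* Multiplicative (Fin k → Fin 2 → K))
    (i : Fin k) (y : ↥Q) :
    y ∈ slh_decomp_W ψ i ↔ ∀ j, j ≠ i → Multiplicative.toAdd (ψ y) j = 0 := Iff.rfl

/-- every element of `Q` lies in the join of the coordinate subgroups -/
theorem slh_decomp_iSup_W {Q : Subgroup G} {k : ℕ} (ψ : ↥Q ≃* Multiplicative (Fin k → Fin 2 → K)) :
    ⨆ i, slh_decomp_W ψ i = ⊤ := by
  classical
  rw [eq_top_iff]
  intro y _
  have key : ∀ (s : Finset (Fin k)) (f : Fin k → Fin 2 → K), (∀ j, j ∉ s → f j = 0) →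
      ψ.symm (Multiplicative.ofAdd f) ∈ ⨆ i, slh_decomp_W ψ i := by
    intro s
    induction s using Finset.induction_on with
    | empty =>
      intro f hf
      have : f = 0 := by funext j; exact hf j (Finset.notMem_empty j)
      rw [this]
      simp
    | insert a s ha ih =>
      intro f hf
      have hsplit : f = Pi.single a (f a) + Function.update f a 0 := by
        funext j
        by_cases hj : j = a
        · subst hj; simp
        · simp [hj]
      rw [hsplit, ofAdd_add, map_mul]
      apply Subgroup.mul_mem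
      · apply Subgroup.mem_iSup_of_mem a
        rw [slh_decomp_mem_W]
        intro j hj
        simp [hj]
      · apply ih
        intro j hj
        by_cases hja : j = a
        · subst hja; simp
        · rw [Function.update_of_ne hja]
          apply hf
          simp [hja, hj]
  have := key Finset.univ (Multiplicative.toAdd (ψ y)) (fun j hj => absurd (Finset.mem_univ j) hj)
  simpa using this

/-- PIECE SLH-DECOMP. -/
theorem decomp (Q : Subgroup G) [Q.Normal] (π : G →* SL2 K) (hπ : Function.Surjective π) (k : ℕ)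
    (ψ : ↥Q ≃* Multiplicative (Fin k → Fin 2 → K))
    (hψ : ∀ (g : G) (y y' : ↥Q), (y' : G) = g * (y : G) * g⁻¹ → ∀ i : Fin k,
      Multiplicative.toAdd (ψ y') i =
        ((π g : SL2 K) : Matrix (Fin 2) (Fin 2) K).mulVec (Multiplicative.toAdd (ψ y) i)) :
    ∃ V : Fin k → Subgroup G, (∀ i, V i ≤ Q ∧ (V i).Normal ∧
      Cfsg.ActsAsSL2OnSection K ⊤ ⊤ (V i) ⊥) ∧ iSupIndep V ∧ ⨆ i, V i = Q := by
  classical
  let V : Fin k → Subgroup G := fun i => (slh_decomp_W ψ i).map Q.subtype
  have hVQ : ∀ i, V i ≤ Q := fun i => Subgroup.map_subtype_le _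
  have hmemV : ∀ i (x : G), x ∈ V i ↔
      ∃ hx : x ∈ Q, ∀ j, j ≠ i → Multiplicative.toAdd (ψ ⟨x, hx⟩) j = 0 := by
    intro i x
    constructor
    · rintro ⟨y, hy, rfl⟩
      exact ⟨y.2, hy⟩
    · rintro ⟨hx, h⟩
      exact ⟨⟨x, hx⟩, h, rfl⟩
  have hVn : ∀ i, (V i).Normal := by
    intro i
    constructor
    intro x hx g
    obtain ⟨hxQ, h⟩ := (hmemV i x).mp hx
    have hgQ : g * x * g⁻¹ ∈ Q := Subgroup.Normal.conj_mem inferInstance x hxQ g
    refine (hmemV i _).mpr ⟨hgQ, fun j hj => ?_⟩
    rw [hψ g ⟨x, hxQ⟩ ⟨g * x * g⁻¹, hgQ⟩ rfl j, h j hj, Matrix.mulVec_zero]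
  have hact : ∀ i, Cfsg.ActsAsSL2OnSection K ⊤ ⊤ (V i) ⊥ := by
    intro i
    haveI := hVn i
    refine ⟨?_, bot_le, ?_⟩
    · rw [Subgroup.normalizer_eq_top]
    · let ρ : ↥(⊤ : Subgroup G) →* SL2 K := π.comp (⊤ : Subgroup G).subtype
      let ev : Multiplicative (Fin k → Fin 2 → K) →* Multiplicative (Fin 2 → K) :=
        AddMonoidHom.toMultiplicative (Pi.evalAddMonoidHom (fun _ => Fin 2 → K) i)
      let ψi : ↥(V i) →* Multiplicative (Fin 2 → K) :=
        ev.comp (ψ.toMonoidHom.comp (Subgroup.inclusion (hVQ i)))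
      have hψi : ∀ u : ↥(V i), Multiplicative.toAdd (ψi u) =
          Multiplicative.toAdd (ψ ⟨(u : G), hVQ i u.2⟩) i := fun u => rfl
      refine ⟨ρ, ψi, ?_, ?_, ?_, ?_⟩
      · rw [eq_top_iff]
        intro s _
        obtain ⟨g, rfl⟩ := hπ s
        exact ⟨⟨g, Subgroup.mem_top g⟩, rfl⟩
      · intro v
        let y : ↥Q := ψ.symm (Multiplicative.ofAdd (Pi.single i (Multiplicative.toAdd v)))
        have hy : (y : G) ∈ V i := by
          refine (hmemV i _).mpr ⟨y.2, fun j hj => ?_⟩
          show Multiplicative.toAdd (ψ y) j = 0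
          simp [y, hj]
        refine ⟨⟨(y : G), hy⟩, ?_⟩
        apply Multiplicative.toAdd.injective
        rw [hψi]
        show Multiplicative.toAdd (ψ y) i = _
        simp [y]
      · intro u
        constructor
        · intro h
          obtain ⟨hxQ, hx⟩ := (hmemV i (u : G)).mp u.2
          have h0 : Multiplicative.toAdd (ψ ⟨(u : G), hxQ⟩) = 0 := by
            funext j
            by_cases hj : j = i
            · subst hj
              have := congrArg Multiplicative.toAdd h
              rw [hψi] at this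
              exact this
            · exact hx j hj
          have h1 : ψ ⟨(u : G), hxQ⟩ = 1 := Multiplicative.toAdd.injective h0
          have h2 : (⟨(u : G), hxQ⟩ : ↥Q) = 1 := by
            rw [← ψ.map_eq_one_iff]; exact h1
          rw [Subgroup.mem_bot]
          exact congrArg Subtype.val h2
        · intro h
          rw [Subgroup.mem_bot] at h
          have : u = 1 := Subtype.ext h
          rw [this, map_one]
      · intro e u
        have hw : (e : G) * (u : G) * (e : G)⁻¹ ∈ V i := (hVn i).conj_mem _ u.2 _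
        refine ⟨⟨_, hw⟩, rfl, ?_⟩
        rw [hψi, hψi]
        exact hψ (e : G) ⟨(u : G), hVQ i u.2⟩ ⟨_, hVQ i hw⟩ rfl i
  refine ⟨V, fun i => ⟨hVQ i, hVn i, hact i⟩, ?_, ?_⟩
  · rw [iSupIndep_def]
    intro i
    rw [Subgroup.disjoint_def]
    intro x hx1 hx2
    -- the join of the other `V j` has vanishing `i`-th coordinate
    let U : Subgroup ↥Q :=
      { carrier := {y | Multiplicative.toAdd (ψ y) i = 0}
        one_mem' := by simp
        mul_mem' := by
          intro a b ha hb
          have h1 : Multiplicative.toAdd (ψ a) i = 0 := ha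
          have h2 : Multiplicative.toAdd (ψ b) i = 0 := hb
          show Multiplicative.toAdd (ψ (a * b)) i = 0
          simp only [map_mul, toAdd_mul, Pi.add_apply, h1, h2, add_zero]
        inv_mem' := by
          intro a ha
          have h1 : Multiplicative.toAdd (ψ a) i = 0 := ha
          show Multiplicative.toAdd (ψ a⁻¹) i = 0
          simp only [map_inv, toAdd_inv, Pi.neg_apply, h1, neg_zero] }
    have hle : (⨆ (j) (_ : j ≠ i), V j) ≤ U.map Q.subtype := by
      apply iSup_le
      intro j
      apply iSup_le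
      intro hj
      intro z hz
      obtain ⟨hzQ, h⟩ := (hmemV j z).mp hz
      exact ⟨⟨z, hzQ⟩, h i (Ne.symm hj), rfl⟩
    obtain ⟨y, hy, hyx⟩ := hle hx2
    obtain ⟨hxQ, h⟩ := (hmemV i x).mp hx1
    have hyeq : y = ⟨x, hxQ⟩ := Subtype.ext hyx
    have h0 : Multiplicative.toAdd (ψ ⟨x, hxQ⟩) = 0 := by
      funext j
      by_cases hj : j = i
      · subst hj
        rw [← hyeq]; exact hy
      · exact h j hj
    have h1 : ψ ⟨x, hxQ⟩ = 1 := Multiplicative.toAdd.injective h0
    have h2 : (⟨x, hxQ⟩ : ↥Q) = 1 := by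
      rw [← ψ.map_eq_one_iff]; exact h1
    exact congrArg Subtype.val h2
  · show ⨆ i, (slh_decomp_W ψ i).map Q.subtype = Q
    rw [← Subgroup.map_iSup, slh_decomp_iSup_W, ← MonoidHom.range_eq_map, Subgroup.range_subtype]

end PartF

end Cfsg.Agent.Helper23.Slh
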