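import Mathlib
import Cfsg.Agent.Lib.Helper23.SlhDefs

/-!
# S3050 (helper23 farm-out) PIECE SLH-E4NF (helper12): the relations in a module in normal form.
-/

set_option autoImplicit false
set_option linter.unusedSectionVars false
set_option linter.unusedVariables false

namespace Cfsg.Agent.Helper23.Slh

open Cfsg.Agent.Helper12.NatMod

local notation "SL2" => Matrix.SpecialLinearGroup (Fin 2)

section PartN

variable {F : Type*} [Field F] [CharP F 2]

theorem slh_e4nf_uu_mulVec (c : F) (w : Fin 2 → F) :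
    ((uu c : SL2 F) : Matrix (Fin 2) (Fin 2) F).mulVec w = ![w 0 + c * w 1, w 1] := by
  rw [uu_coe]
  funext j
  fin_cases j <;> simp [Matrix.mulVec, dotProduct, Fin.sum_univ_two]

theorem slh_e4nf_ll_mulVec (c : F) (w : Fin 2 → F) :
    ((ll c : SL2 F) : Matrix (Fin 2) (Fin 2) F).mulVec w = ![w 0, c * w 0 + w 1] := by
  rw [ll_coe]
  funext j
  fin_cases j <;> simp [Matrix.mulVec, dotProduct, Fin.sum_univ_two]

/-- PIECE SLH-E4NF. -/
theorem nf_relations [Fintype F] {V : Type*} [AddCommGroup V] {k : ℕ} (ψ : V ≃+ (Fin k → Fin 2 → F))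
    (c : F) (hc0 : c ≠ 0) (T B T' : AddMonoid.End V)
    (hT : ∀ v i, ψ (T v) i = ((uu (1 : F) : SL2 F) : Matrix (Fin 2) (Fin 2) F).mulVec (ψ v i))
    (hB : ∀ v i, ψ (B v) i = ((uu c : SL2 F) : Matrix (Fin 2) (Fin 2) F).mulVec (ψ v i))
    (hT' : ∀ v i, ψ (T' v) i = ((ll (1 : F) : SL2 F) : Matrix (Fin 2) (Fin 2) F).mulVec (ψ v i))
    (a b a' C : AddMonoid.End V) (ha : a = T - 1) (hb : b = B - 1) (ha' : a' = T' - 1)
    (hC : C = b * a' + a' * b) :
    b - a * C = 0 ∧ a * C - C * a = 0 ∧ C ^ (Fintype.card F - 1) - 1 = 0 ∧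
      ∀ v i, ψ ((a * (C - 1)) v) i = ![(c - 1) * ψ v i 1, 0] := by
  have hA : ∀ v i, ψ (a v) i = ![ψ v i 1, 0] := by
    intro v i
    have h1 : a v = T v - v := by rw [ha]; rfl
    rw [h1, map_sub, Pi.sub_apply, hT, slh_e4nf_uu_mulVec]
    funext j
    fin_cases j <;> simp
  have hBb : ∀ v i, ψ (b v) i = ![c * ψ v i 1, 0] := by
    intro v i
    have h1 : b v = B v - v := by rw [hb]; rfl
    rw [h1, map_sub, Pi.sub_apply, hB, slh_e4nf_uu_mulVec]
    funext j
    fin_cases j <;> simp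
  have hA' : ∀ v i, ψ (a' v) i = ![0, ψ v i 0] := by
    intro v i
    have h1 : a' v = T' v - v := by rw [ha']; rfl
    rw [h1, map_sub, Pi.sub_apply, hT', slh_e4nf_ll_mulVec]
    funext j
    fin_cases j <;> simp
  have hCc : ∀ v i, ψ (C v) i = c • ψ v i := by
    intro v i
    have h1 : C v = b (a' v) + a' (b v) := by rw [hC]; rfl
    rw [h1, map_add, Pi.add_apply, hBb, hA', hA', hBb]
    funext j
    fin_cases j <;> simp
  have hCpow : ∀ (m : ℕ) v i, ψ ((C ^ m) v) i = c ^ m • ψ v i := by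
    intro m
    induction m with
    | zero => intro v i; simp
    | succ m ih =>
      intro v i
      have h1 : (C ^ (m + 1)) v = C ((C ^ m) v) := by rw [pow_succ']; rfl
      rw [h1, hCc, ih, smul_smul, pow_succ']
  have hext : ∀ f g : AddMonoid.End V, (∀ v i, ψ (f v) i = ψ (g v) i) → f = g := by
    intro f g h
    apply AddMonoidHom.ext
    intro v
    apply ψ.injective
    funext i
    exact h v i
  refine ⟨?_, ?_, ?_, ?_⟩
  · rw [sub_eq_zero]
    apply hext
    intro v i
    have h1 : (a * C) v = a (C v) := rfl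
    rw [h1, hBb, hA, hCc]
    simp
  · rw [sub_eq_zero]
    apply hext
    intro v i
    have h1 : (a * C) v = a (C v) := rfl
    have h2 : (C * a) v = C (a v) := rfl
    rw [h1, h2, hA, hCc, hCc, hA]
    funext j
    fin_cases j <;> simp
  · rw [sub_eq_zero]
    apply hext
    intro v i
    rw [hCpow, FiniteField.pow_card_sub_one_eq_one c hc0, one_smul]
    rfl
  · intro v i
    have h1 : (a * (C - 1)) v = a (C v - v) := rfl
    rw [h1, hA, map_sub, Pi.sub_apply, hCc]
    funext j
    fin_cases j <;> simp [sub_mul]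

end PartN

end Cfsg.Agent.Helper23.Slh
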