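import Mathlib
import Cfsg.Agent.Lib.Helper12.AbelWt

/-!
# Minimal cross-characteristic degree of `Sp_{2n}(q)`, `q` odd

Weight-space argument for the abelian subgroup `{[[1, e₀aᵀ + ae₀ᵀ],[0,1]]}` of the Siegel
unipotent radical, normalised by suitable Levi elements.
-/

set_option autoImplicit false

open Matrix Module
open scoped Matrix

namespace Cfsg.Agent.Helper12
namespace SpMin

variable {F : Type*} [Field F] {l : Type*} [Fintype l] [DecidableEq l]

/-- The symmetric matrix `e₀ aᵀ + a e₀ᵀ`. -/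
def symS (i₀ : l) (a : l → F) : Matrix l l F :=
  vecMulVec (Pi.single i₀ 1) a + vecMulVec a (Pi.single i₀ 1)

omit [Fintype l] in
theorem symS_transpose (i₀ : l) (a : l → F) : (symS i₀ a)ᵀ = symS i₀ a := by
  unfold symS
  rw [transpose_add, transpose_vecMulVec, transpose_vecMulVec, add_comm]

omit [Fintype l] in
theorem symS_zero (i₀ : l) : symS i₀ (0 : l → F) = 0 := by
  unfold symS
  simp

omit [Fintype l] in
theorem symS_add (i₀ : l) (a b : l → F) : symS i₀ (a + b) = symS i₀ a + symS i₀ b := by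
  unfold symS
  rw [vecMulVec_add, add_vecMulVec]
  abel

/-- The Siegel-type unipotent element `[[1, S(a)],[0,1]]`. -/
def uS (i₀ : l) (a : l → F) : symplecticGroup l F :=
  ⟨fromBlocks 1 (symS i₀ a) 0 1, by
    rw [SymplecticGroup.fromBlocks_mem_iff]
    simp [symS_transpose]⟩

theorem uS_zero (i₀ : l) : uS i₀ (0 : l → F) = 1 := by
  apply Subtype.ext
  show fromBlocks 1 (symS i₀ (0 : l → F)) 0 1 = 1
  rw [symS_zero, fromBlocks_one]

theorem uS_add (i₀ : l) (a b : l → F) : uS i₀ (a + b) = uS i₀ a * uS i₀ b := by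
  apply Subtype.ext
  show fromBlocks 1 (symS i₀ (a + b)) 0 1 =
    fromBlocks 1 (symS i₀ a) 0 1 * fromBlocks 1 (symS i₀ b) 0 1
  rw [fromBlocks_multiply, symS_add]
  simp [add_comm]

/-- The Levi element `diag(g, g⁻ᵀ)`. -/
def lev (g : GL l F) : symplecticGroup l F :=
  ⟨fromBlocks (g : Matrix l l F) 0 0 ((g⁻¹ : GL l F) : Matrix l l F)ᵀ, by
    rw [SymplecticGroup.fromBlocks_mem_iff]
    refine ⟨by simp, by simp, ?_⟩
    rw [transpose_zero, Matrix.zero_mul, sub_zero, ← transpose_mul, ← Units.val_mul,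
      inv_mul_cancel, Units.val_one, transpose_one]⟩

theorem symS_conj (i₀ : l) (g : Matrix l l F) (t : F)
    (hg : g *ᵥ (Pi.single i₀ 1 : l → F) = t • (Pi.single i₀ 1 : l → F)) (a : l → F) :
    symS i₀ (t • (g *ᵥ a)) = g * symS i₀ a * gᵀ := by
  unfold symS
  rw [Matrix.mul_add, Matrix.add_mul, mul_vecMulVec, mul_vecMulVec, vecMulVec_mul, vecMulVec_mul,
    vecMul_transpose, vecMul_transpose, hg, vecMulVec_smul, smul_vecMulVec, vecMulVec_smul,
    smul_vecMulVec]

theorem lev_mul_uS (i₀ : l) (g : GL l F) (t : F)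
    (hg : (g : Matrix l l F) *ᵥ (Pi.single i₀ 1 : l → F) = t • (Pi.single i₀ 1 : l → F))
    (a : l → F) :
    lev g * uS i₀ a = uS i₀ (t • ((g : Matrix l l F) *ᵥ a)) * lev g := by
  apply Subtype.ext
  show fromBlocks (g : Matrix l l F) 0 0 ((g⁻¹ : GL l F) : Matrix l l F)ᵀ *
      fromBlocks 1 (symS i₀ a) 0 1 =
    fromBlocks 1 (symS i₀ (t • ((g : Matrix l l F) *ᵥ a))) 0 1 *
      fromBlocks (g : Matrix l l F) 0 0 ((g⁻¹ : GL l F) : Matrix l l F)ᵀ
  rw [fromBlocks_multiply, fromBlocks_multiply, symS_conj i₀ _ t hg]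
  have h1 : (g : Matrix l l F)ᵀ * ((g⁻¹ : GL l F) : Matrix l l F)ᵀ = 1 := by
    rw [← transpose_mul, ← Units.val_mul, inv_mul_cancel, Units.val_one, transpose_one]
  have h2 : (g : Matrix l l F) * symS i₀ a * (g : Matrix l l F)ᵀ *
      ((g⁻¹ : GL l F) : Matrix l l F)ᵀ = (g : Matrix l l F) * symS i₀ a := by
    rw [Matrix.mul_assoc, h1, Matrix.mul_one]
  simp only [Matrix.mul_one, Matrix.zero_mul, Matrix.mul_zero, add_zero, zero_add, Matrix.one_mul,
    h2]

theorem uS_not_mem_center (i₀ : l) {a : l → F} (ha : symS i₀ a ≠ 0) :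
    uS i₀ a ∉ Subgroup.center (symplecticGroup l F) := by
  intro hc
  rw [Subgroup.mem_center_iff] at hc
  have h1 := hc (SymplecticGroup.symJ l F)
  have h2 := congrArg (fun x : symplecticGroup l F => (x : Matrix (l ⊕ l) (l ⊕ l) F)) h1
  have h3 : (J l F) * fromBlocks 1 (symS i₀ a) 0 1 = fromBlocks 1 (symS i₀ a) 0 1 * J l F := h2
  unfold Matrix.J at h3
  rw [fromBlocks_multiply, fromBlocks_multiply] at h3
  have h4 := (fromBlocks_inj.mp h3).1
  apply ha
  simpa using h4.symm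

/-- The element `1 + e₀ φᵀ` of `GL`, invertible when `1 + φ i₀ ≠ 0`. -/
noncomputable def gPhi (i₀ : l) (φ : l → F) (h : 1 + φ i₀ ≠ 0) : GL l F :=
  Matrix.GeneralLinearGroup.mkOfDetNeZero (1 + vecMulVec (Pi.single i₀ 1) φ) (by
    rw [vecMulVec_eq Unit, det_one_add_replicateCol_mul_replicateRow, dotProduct_single, mul_one]
    exact h)

theorem gPhi_mulVec (i₀ : l) (φ : l → F) (h : 1 + φ i₀ ≠ 0) (a : l → F) :
    (gPhi i₀ φ h : Matrix l l F) *ᵥ a = a + (φ ⬝ᵥ a) • (Pi.single i₀ 1 : l → F) := by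
  show (1 + vecMulVec (Pi.single i₀ 1) φ) *ᵥ a = _
  rw [add_mulVec, one_mulVec, vecMulVec_mulVec, op_smul_eq_smul]

section Core

variable {L : Type*} [Field L] {V : Type*} [AddCommGroup V] [Module L V]

theorem wt_transport (R : symplecticGroup l F →* Module.End L V) (ψ : AddChar F L) (i₀ : l)
    (b c : l → F) (t : F) (ht : t ≠ 0) (hb : b i₀ ≠ 0) (hc : c i₀ = t ^ 2 * b i₀)
    (hW : AbelWt.wt (uS i₀) R ψ b ≠ ⊥) : AbelWt.wt (uS i₀) R ψ c ≠ ⊥ := by
  obtain ⟨φ, hφdef⟩ : ∃ φ : l → F, φ = (b i₀)⁻¹ • (t⁻¹ • c - b) := ⟨_, rfl⟩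
  have hφ : 1 + φ i₀ = t := by
    rw [hφdef, Pi.smul_apply, Pi.sub_apply, Pi.smul_apply, hc, smul_eq_mul, smul_eq_mul]
    field_simp
    ring
  have hne : 1 + φ i₀ ≠ 0 := by rw [hφ]; exact ht
  have hdot : ∀ a : l → F, b i₀ * (φ ⬝ᵥ a) = t⁻¹ * (a ⬝ᵥ c) - a ⬝ᵥ b := by
    intro a
    rw [hφdef, smul_dotProduct, sub_dotProduct, smul_dotProduct, smul_eq_mul, smul_eq_mul,
      dotProduct_comm c a, dotProduct_comm b a, ← mul_assoc, mul_inv_cancel₀ hb, one_mul]
  refine AbelWt.wt_ne_bot_of_conj (uS i₀) R ψ (lev (gPhi i₀ φ hne))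
    (fun a => t • ((gPhi i₀ φ hne : Matrix l l F) *ᵥ a))
    (fun a => lev_mul_uS i₀ _ t ?_ a) b c ?_ hW
  · rw [gPhi_mulVec, dotProduct_single, mul_one, ← hφ, add_smul, one_smul]
  · intro a
    show (t • ((gPhi i₀ φ hne : Matrix l l F) *ᵥ a)) ⬝ᵥ b = a ⬝ᵥ c
    rw [gPhi_mulVec, smul_dotProduct, add_dotProduct, smul_dotProduct, single_dotProduct, one_mul,
      smul_eq_mul, smul_eq_mul, mul_comm (φ ⬝ᵥ a) (b i₀), hdot a]
    field_simp
    ring

variable [Fintype F]

theorem exists_wt_ne_bot (h2 : (2 : F) ≠ 0)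
    (R : symplecticGroup l F →* Module.End L V)
    (hker : R.ker ≤ Subgroup.center (symplecticGroup l F)) (ψ : AddChar F L)
    (hψ : ∃ t, ψ t ≠ 1) (hq : (Fintype.card F : L) ≠ 0) (i₀ : l) :
    ∃ b : l → F, b i₀ ≠ 0 ∧ AbelWt.wt (uS i₀) R ψ b ≠ ⊥ := by
  by_contra hcon
  push Not at hcon
  have h1 : R (uS i₀ (Pi.single i₀ 1)) = 1 := by
    apply AbelWt.map_eq_one_of_forall (uS i₀) (uS_zero i₀) (uS_add i₀) R ψ hψ hq
    intro b hb
    rw [single_dotProduct, one_mul]
    by_contra h0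
    exact hb (hcon b h0)
  apply uS_not_mem_center i₀ (a := (Pi.single i₀ 1 : l → F)) _ (hker (MonoidHom.mem_ker.mpr h1))
  intro h0
  have h3 := congrFun (congrFun h0 i₀) i₀
  unfold symS at h3
  rw [Matrix.add_apply, vecMulVec_apply, Pi.single_eq_same, mul_one, Matrix.zero_apply] at h3
  apply h2
  rw [← h3]
  norm_num

/-- **Core bound** for the symplectic group in odd characteristic. -/
theorem sp_min_degree_core [FiniteDimensional L V] (h2 : (2 : F) ≠ 0) (i₀ : l)
    (R : symplecticGroup l F →* Module.End L V)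
    (hker : R.ker ≤ Subgroup.center (symplecticGroup l F)) (ψ : AddChar F L)
    (hψ : ∃ t, ψ t ≠ 1) (hq : (Fintype.card F : L) ≠ 0) :
    Fintype.card F ^ (Fintype.card l - 1) * (Fintype.card F - 1) ≤ 2 * finrank L V := by
  classical
  obtain ⟨b, hb0, hWb⟩ := exists_wt_ne_bot h2 R hker ψ hψ hq i₀
  -- the parametrisation of weights in the orbit
  let f : ({i : l // i ≠ i₀} → F) × Fˣ → (l → F) := fun x i =>
    if h : i = i₀ then (x.2 : F) ^ 2 * b i₀ else x.1 ⟨i, h⟩
  have hf0 : ∀ x, f x i₀ = (x.2 : F) ^ 2 * b i₀ := fun x => by simp [f]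
  have hf1 : ∀ x (i : l) (h : i ≠ i₀), f x i = x.1 ⟨i, h⟩ := fun x i h => by simp [f, h]
  have hT : ∀ c ∈ (Finset.univ.image f), AbelWt.wt (uS i₀) R ψ c ≠ ⊥ := by
    intro c hcm
    obtain ⟨x, -, rfl⟩ := Finset.mem_image.mp hcm
    exact wt_transport R ψ i₀ b (f x) (x.2 : F) x.2.ne_zero hb0 (hf0 x) hWb
  have hle := AbelWt.card_le_finrank (uS i₀) (uS_add i₀) R ψ hψ _ hT
  have hfib := Finset.card_le_mul_card_image (f := f) Finset.univ 2 (by
    intro c hcm
    obtain ⟨x, -, rfl⟩ := Finset.mem_image.mp hcm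
    have hsub : (Finset.univ.filter fun y => f y = f x) ⊆ {x, (x.1, -x.2)} := by
      intro y hy
      rw [Finset.mem_filter] at hy
      have hy2 := hy.2
      have e1 : y.1 = x.1 := by
        funext i
        have := congrFun hy2 i.1
        rw [hf1 y i.1 i.2, hf1 x i.1 i.2] at this
        exact this
      have e2 : (y.2 : F) ^ 2 = (x.2 : F) ^ 2 := by
        have := congrFun hy2 i₀
        rw [hf0, hf0] at this
        exact mul_right_cancel₀ hb0 this
      rw [Finset.mem_insert, Finset.mem_singleton]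
      rcases sq_eq_sq_iff_eq_or_eq_neg.mp e2 with e | e
      · left
        exact Prod.ext e1 (Units.ext e)
      · right
        refine Prod.ext e1 (Units.ext ?_)
        rw [e]
        simp
    exact le_trans (Finset.card_le_card hsub) Finset.card_le_two)
  rw [Finset.card_univ, Fintype.card_prod, Fintype.card_units, Fintype.card_fun,
    Fintype.card_subtype_compl, Fintype.card_subtype_eq] at hfib
  calc Fintype.card F ^ (Fintype.card l - 1) * (Fintype.card F - 1)
      ≤ 2 * (Finset.univ.image f).card := hfib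
    _ ≤ 2 * finrank L V := Nat.mul_le_mul_left 2 hle

end Core

end SpMin
end Cfsg.Agent.Helper12
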