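import Mathlib
import Cfsg.Agent.Lib.Helper12.GLSylowVal
import Cfsg.Agent.Lib.Helper12.GLHomocyclic
import Cfsg.Agent.Lib.Helper12.SpMinDeg
import Cfsg.Agent.Lib.Helper2.SympCard

/-!
# Sylow `r`-subgroups of `Sp_{2n}(q)` for `r > n` odd (helper12)
-/

set_option autoImplicit false

open Matrix
open scoped Matrix

namespace Cfsg.Agent.Helper12
namespace SpSyl

theorem factorization_pow_sub_one' {q r : ℕ} (hr : r.Prime) (hq : 1 < q)
    (j : ℕ) (hj0 : 0 < j)
    (hjr : ∀ t, j = orderOf ((q : ℕ) : ZMod r) * t → ¬ r ∣ t) :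
    (q ^ j - 1).factorization r =
      if orderOf ((q : ℕ) : ZMod r) ∣ j then
        (q ^ orderOf ((q : ℕ) : ZMod r) - 1).factorization r else 0 := by
  haveI := Fact.mk hr
  obtain ⟨d, hd⟩ : ∃ d, d = orderOf ((q : ℕ) : ZMod r) := ⟨_, rfl⟩
  rw [← hd] at hjr ⊢
  split_ifs with h
  · obtain ⟨t, rfl⟩ := h
    have ht0 : 0 < t := by
      rcases Nat.eq_zero_or_pos t with h0 | h0
      · rw [h0, mul_zero] at hj0
        omega
      · exact h0
    have hd0 : 0 < d := by
      rcases Nat.eq_zero_or_pos d with h0 | h0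
      · rw [h0, zero_mul] at hj0
        omega
      · exact h0
    have hqd : 1 ≤ q ^ d := Nat.one_le_pow _ _ (by omega)
    have h1 : q ^ (d * t) - 1 = (∑ i ∈ Finset.range t, (q ^ d) ^ i) * (q ^ d - 1) := by
      have := geom_sum_mul_add (q ^ d - 1) t
      rw [Nat.sub_add_cancel hqd] at this
      rw [pow_mul]
      omega
    have hsum0 : (∑ i ∈ Finset.range t, (q ^ d) ^ i) ≠ 0 := by
      have h2 : (q ^ d) ^ 0 ≤ ∑ i ∈ Finset.range t, (q ^ d) ^ i :=
        Finset.single_le_sum (f := fun i => (q ^ d) ^ i) (fun _ _ => Nat.zero_le _)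
          (Finset.mem_range.mpr ht0)
      rw [pow_zero] at h2
      omega
    have hqd1 : q ^ d - 1 ≠ 0 := by
      have : 1 < q ^ d := Nat.one_lt_pow (by omega) hq
      omega
    rw [h1, Nat.factorization_mul hsum0 hqd1, Finsupp.add_apply,
      Nat.factorization_eq_zero_of_not_dvd, zero_add]
    intro hdiv
    have h3 : ((∑ i ∈ Finset.range t, (q ^ d) ^ i : ℕ) : ZMod r) = 0 :=
      (ZMod.natCast_eq_zero_iff _ _).mpr hdiv
    push_cast at h3
    rw [hd, pow_orderOf_eq_one] at h3
    simp only [one_pow, Finset.sum_const, Finset.card_range, nsmul_eq_mul, mul_one] at h3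
    rw [ZMod.natCast_eq_zero_iff] at h3
    exact hjr t rfl h3
  · apply Nat.factorization_eq_zero_of_not_dvd
    intro hdiv
    apply h
    rw [hd]
    exact orderOf_dvd_of_dvd_pow_sub_one (by omega) hdiv

theorem factorization_card_GL' {q r n : ℕ} (hr : r.Prime) (hq : 1 < q) (hrq : ¬ r ∣ q)
    (hnr : n / orderOf ((q : ℕ) : ZMod r) < r) :
    (∏ i : Fin n, (q ^ n - q ^ (i : ℕ))).factorization r =
      (n / orderOf ((q : ℕ) : ZMod r)) *
        (q ^ orderOf ((q : ℕ) : ZMod r) - 1).factorization r := by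
  obtain ⟨g, hg⟩ : ∃ g : ℕ → ℕ, g = fun j => (q ^ j - 1).factorization r := ⟨_, rfl⟩
  have hne : ∀ i ∈ (Finset.univ : Finset (Fin n)), q ^ n - q ^ (i : ℕ) ≠ 0 := by
    intro i _
    have : q ^ (i : ℕ) < q ^ n := Nat.pow_lt_pow_right hq i.2
    omega
  rw [Nat.factorization_prod hne, Finsupp.finset_sum_apply]
  have h1 : ∀ i : Fin n, (q ^ n - q ^ (i : ℕ)).factorization r = g (n - (i : ℕ)) := by
    intro i
    have hi : (i : ℕ) < n := i.2
    rw [pow_sub_pow_eq_mul q n i (le_of_lt hi), Nat.factorization_mul, Finsupp.add_apply,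
      Nat.factorization_eq_zero_of_not_dvd, zero_add, hg]
    · intro h
      exact hrq (hr.dvd_of_dvd_pow h)
    · exact pow_ne_zero _ (by omega)
    · have : 1 < q ^ (n - (i : ℕ)) := Nat.one_lt_pow (by omega) hq
      omega
  simp only [h1]
  rw [Fin.sum_univ_eq_sum_range (fun i => g (n - i)) n]
  have h2 : ∑ i ∈ Finset.range n, g (n - i) = ∑ j ∈ Finset.range n, g (j + 1) := by
    rw [← Finset.sum_range_reflect (fun j => g (j + 1)) n]
    refine Finset.sum_congr rfl fun j hj => ?_
    have := Finset.mem_range.mp hj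
    congr 1
    omega
  rw [h2]
  have h3 : ∀ j ∈ Finset.range n, g (j + 1) =
      if orderOf ((q : ℕ) : ZMod r) ∣ j + 1 then
        (q ^ orderOf ((q : ℕ) : ZMod r) - 1).factorization r else 0 := by
    intro j hj
    have hjn := Finset.mem_range.mp hj
    rw [hg]
    refine factorization_pow_sub_one' hr hq (j + 1) (by omega) (fun t ht hrt => ?_)
    have ht0 : t ≠ 0 := by
      rintro rfl
      rw [mul_zero] at ht
      omega
    have hd0 : 0 < orderOf ((q : ℕ) : ZMod r) := by
      rcases Nat.eq_zero_or_pos (orderOf ((q : ℕ) : ZMod r)) with h0 | h0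
      · rw [h0, zero_mul] at ht
        omega
      · exact h0
    have h4 : t ≤ n / orderOf ((q : ℕ) : ZMod r) := by
      rw [Nat.le_div_iff_mul_le hd0, mul_comm, ← ht]
      omega
    have h5 := Nat.le_of_dvd (Nat.pos_of_ne_zero ht0) hrt
    omega
  rw [Finset.sum_congr rfl h3, ← Finset.sum_filter, Finset.sum_const, Nat.card_multiples,
    smul_eq_mul]

theorem factorization_card_Sp {q r n : ℕ} (hr : r.Prime) (hr2 : r ≠ 2) (hq : 1 < q)
    (hrq : ¬ r ∣ q) (hnr : n < r) :
    (q ^ (n ^ 2) * ∏ i ∈ Finset.range n, (q ^ (2 * (i + 1)) - 1)).factorization r =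
      ((Finset.Icc 1 n).filter (fun i => orderOf ((q : ℕ) : ZMod r) ∣ 2 * i)).card *
        (q ^ orderOf ((q : ℕ) : ZMod r) - 1).factorization r := by
  have hne : ∀ i ∈ Finset.range n, q ^ (2 * (i + 1)) - 1 ≠ 0 := by
    intro i _
    have : 1 < q ^ (2 * (i + 1)) := Nat.one_lt_pow (by omega) hq
    omega
  rw [Nat.factorization_mul (pow_ne_zero _ (by omega)) (Finset.prod_ne_zero_iff.2 hne),
    Finsupp.add_apply, Nat.factorization_eq_zero_of_not_dvd (fun h => hrq (hr.dvd_of_dvd_pow h)),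
    zero_add, Nat.factorization_prod hne, Finsupp.finset_sum_apply]
  have h3 : ∀ j ∈ Finset.range n, (q ^ (2 * (j + 1)) - 1).factorization r =
      if orderOf ((q : ℕ) : ZMod r) ∣ 2 * (j + 1) then
        (q ^ orderOf ((q : ℕ) : ZMod r) - 1).factorization r else 0 := by
    intro j hj
    have hjn := Finset.mem_range.mp hj
    refine factorization_pow_sub_one' hr hq (2 * (j + 1)) (by omega) (fun t ht hrt => ?_)
    have ht0 : t ≠ 0 := by
      rintro rfl
      rw [mul_zero] at ht
      omega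
    have hd0 : 0 < orderOf ((q : ℕ) : ZMod r) := by
      rcases Nat.eq_zero_or_pos (orderOf ((q : ℕ) : ZMod r)) with h0 | h0
      · rw [h0, zero_mul] at ht
        omega
      · exact h0
    have h4 : r ∣ 2 * (j + 1) := by rw [ht]; exact Dvd.dvd.mul_left hrt _
    have h5 : r ∣ j + 1 := by
      rcases (Nat.Prime.dvd_mul hr).1 h4 with h6 | h6
      · exact absurd ((Nat.prime_dvd_prime_iff_eq hr Nat.prime_two).1 h6) hr2
      · exact h6
    have h7 := Nat.le_of_dvd (by omega) h5
    omega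
  rw [Finset.sum_congr rfl h3, ← Finset.sum_filter, Finset.sum_const, smul_eq_mul]
  congr 1
  apply Finset.card_nbij' (fun i => i + 1) (fun i => i - 1)
  · intro i hi
    simp only [Finset.coe_filter, Finset.mem_range, Set.mem_setOf_eq] at hi
    simp only [Finset.coe_filter, Finset.mem_Icc, Set.mem_setOf_eq]
    exact ⟨⟨by omega, by omega⟩, hi.2⟩
  · intro i hi
    simp only [Finset.coe_filter, Finset.mem_Icc, Set.mem_setOf_eq] at hi
    simp only [Finset.coe_filter, Finset.mem_range, Set.mem_setOf_eq]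
    have : i - 1 + 1 = i := by omega
    exact ⟨by omega, by rw [this]; exact hi.2⟩
  · intro i _
    simp
  · intro i hi
    simp only [Finset.coe_filter, Finset.mem_Icc, Set.mem_setOf_eq] at hi
    show i - 1 + 1 = i
    omega

theorem Icc_one_eq_Ioc (n : ℕ) : Finset.Icc 1 n = Finset.Ioc 0 n := by
  ext i
  simp only [Finset.mem_Icc, Finset.mem_Ioc]
  omega

theorem card_filter_odd {d n : ℕ} (hd : Odd d) :
    ((Finset.Icc 1 n).filter (fun i => d ∣ 2 * i)).card = n / d := by
  rw [← Nat.Ioc_filter_dvd_card_eq_div, Icc_one_eq_Ioc]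
  congr 1
  apply Finset.filter_congr
  intro i _
  have hc : Nat.Coprime d 2 := (Nat.coprime_two_right).2 hd
  exact ⟨fun h => hc.dvd_of_dvd_mul_left h, fun h => Dvd.dvd.mul_left h 2⟩

theorem card_filter_even {d n : ℕ} (hd0 : 0 < d) (hd : Even d) :
    ((Finset.Icc 1 n).filter (fun i => d ∣ 2 * i)).card = (n + n) / d := by
  obtain ⟨e, rfl⟩ := hd
  have he : 0 < e := by omega
  have h1 : (n + n) / (e + e) = n / e := by
    rw [← two_mul, ← two_mul, Nat.mul_div_mul_left _ _ (by norm_num : 0 < 2)]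
  rw [h1, ← Nat.Ioc_filter_dvd_card_eq_div, Icc_one_eq_Ioc]
  congr 1
  apply Finset.filter_congr
  intro i _
  rw [← two_mul]
  exact Nat.mul_dvd_mul_iff_left (by norm_num : 0 < 2)

section hom

variable {F : Type*} [Field F] {l : Type*} [Fintype l] [DecidableEq l]

/-- the Levi embedding `g ↦ diag(g, g⁻ᵀ)` as a homomorphism -/
def levHom : GL l F →* symplecticGroup l F where
  toFun := SpMin.lev
  map_one' := by
    apply Subtype.ext
    show fromBlocks ((1 : GL l F) : Matrix l l F) 0 0 (((1 : GL l F)⁻¹ : GL l F) : Matrix l l F)ᵀ = 1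
    rw [inv_one, Units.val_one, transpose_one, fromBlocks_one]
  map_mul' g h := by
    apply Subtype.ext
    show fromBlocks ((g * h : GL l F) : Matrix l l F) 0 0
        (((g * h)⁻¹ : GL l F) : Matrix l l F)ᵀ =
      fromBlocks (g : Matrix l l F) 0 0 ((g⁻¹ : GL l F) : Matrix l l F)ᵀ *
        fromBlocks (h : Matrix l l F) 0 0 ((h⁻¹ : GL l F) : Matrix l l F)ᵀ
    rw [fromBlocks_multiply, _root_.mul_inv_rev, Units.val_mul, Units.val_mul, transpose_mul]
    simp

theorem levHom_injective : Function.Injective (levHom (F := F) (l := l)) := by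
  intro g h hgh
  have h1 := congrArg (fun x : symplecticGroup l F => (x : Matrix (l ⊕ l) (l ⊕ l) F)) hgh
  have h2 : fromBlocks (g : Matrix l l F) 0 0 ((g⁻¹ : GL l F) : Matrix l l F)ᵀ =
      fromBlocks (h : Matrix l l F) 0 0 ((h⁻¹ : GL l F) : Matrix l l F)ᵀ := h1
  rw [fromBlocks_inj] at h2
  exact Units.ext h2.1

/-- symplectic matrices as invertible matrices -/
def spToGL : symplecticGroup l F →* GL (l ⊕ l) F where
  toFun g := ⟨(g : Matrix (l ⊕ l) (l ⊕ l) F),
    ((g⁻¹ : symplecticGroup l F) : Matrix (l ⊕ l) (l ⊕ l) F),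
    congrArg Subtype.val (mul_inv_cancel g), congrArg Subtype.val (inv_mul_cancel g)⟩
  map_one' := Units.ext rfl
  map_mul' _ _ := Units.ext rfl

theorem spToGL_injective : Function.Injective (spToGL (F := F) (l := l)) := by
  intro g h hgh
  apply Subtype.ext
  exact congrArg (fun x : GL (l ⊕ l) F => (x : Matrix (l ⊕ l) (l ⊕ l) F)) hgh

/-- reindexing `GL` -/
def glReindex {l' : Type*} [Fintype l'] [DecidableEq l'] (e : l ≃ l') : GL l F ≃* GL l' F :=
  Units.mapEquiv (Matrix.reindexAlgEquiv F F e).toMulEquiv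

end hom

section main

variable {F : Type*} [Field F] [Fintype F]

theorem card_homocyclic (m t : ℕ) [NeZero t] :
    Nat.card (Fin m → Multiplicative (ZMod t)) = t ^ m := by
  rw [Nat.card_fun, Nat.card_congr Multiplicative.toAdd, Nat.card_zmod,
    Nat.card_eq_fintype_card, Fintype.card_fin]

theorem sylow_Sp (n r : ℕ) [Fact r.Prime] (hr2 : r ≠ 2) (hrn : n < r)
    (hrq : ¬ r ∣ Fintype.card F) (P : Sylow r ↥(symplecticGroup (Fin n) F)) :
    Nonempty (↥(P : Subgroup ↥(symplecticGroup (Fin n) F)) ≃*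
      (Fin ((Finset.Icc 1 n).filter
          (fun i => orderOf ((Fintype.card F : ℕ) : ZMod r) ∣ 2 * i)).card →
        Multiplicative (ZMod (r ^ (Fintype.card F ^ orderOf ((Fintype.card F : ℕ) : ZMod r) -
          1).factorization r)))) := by
  classical
  have hr : r.Prime := Fact.out
  obtain ⟨p, hp⟩ := CharP.exists F
  haveI := hp
  haveI : Fact p.Prime := ⟨CharP.char_is_prime F p⟩
  have hq1 : 1 < Fintype.card F := Fintype.one_lt_card
  obtain ⟨d, hd⟩ : ∃ d, d = orderOf ((Fintype.card F : ℕ) : ZMod r) := ⟨_, rfl⟩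
  have hq0 : ((Fintype.card F : ℕ) : ZMod r) ≠ 0 := by
    rw [Ne, ZMod.natCast_eq_zero_iff]
    exact hrq
  have hd0 : 0 < d := by
    rw [hd]
    exact (IsUnit.mk0 _ hq0).isOfFinOrder.orderOf_pos
  haveI : NeZero d := ⟨hd0.ne'⟩
  obtain ⟨v, hv⟩ : ∃ v, v = (Fintype.card F ^ d - 1).factorization r := ⟨_, rfl⟩
  have hdvd : r ^ v ∣ Fintype.card F ^ d - 1 := by
    rw [hv]
    exact Nat.ordProj_dvd _ _
  haveI : NeZero (r ^ v) := ⟨pow_ne_zero _ hr.ne_zero⟩
  have hcardSp : (Nat.card ↥(symplecticGroup (Fin n) F)).factorization r =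
      ((Finset.Icc 1 n).filter (fun i => d ∣ 2 * i)).card * v := by
    rw [Cfsg.Agent.Helper2.Symp.card_symplecticGroup, factorization_card_Sp hr hr2 hq1 hrq hrn,
      ← hd, ← hv]
  rw [← hd, ← hv]
  rcases Nat.even_or_odd d with hde | hdo
  · -- `d` even: compare with `GL_{2n}`
    have ha : ((Finset.Icc 1 n).filter (fun i => d ∣ 2 * i)).card = (n + n) / d :=
      card_filter_even hd0 hde
    rw [ha] at hcardSp ⊢
    obtain ⟨H, ⟨e⟩⟩ := exists_homocyclic_subgroup_GL (F := F) p (n + n) d ((n + n) / d) (r ^ v)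
      (Nat.div_mul_le_self (n + n) d) hdvd
    have hlt : (n + n) / d < r := by
      have h2 : 2 ≤ d := by
        obtain ⟨e', he'⟩ := hde
        omega
      have h3 : (n + n) / d ≤ n := by
        apply Nat.div_le_of_le_mul
        calc n + n = 2 * n := (two_mul n).symm
          _ ≤ d * n := Nat.mul_le_mul_right n h2
      omega
    have hcardH : Nat.card H = r ^ (Nat.card (GL (Fin (n + n)) F)).factorization r := by
      rw [Nat.card_congr e.toEquiv, card_homocyclic, ← pow_mul, Matrix.card_GL_field,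
        factorization_card_GL' hr hq1 hrq (by rw [← hd]; exact hlt), ← hd, ← hv, mul_comm]
    let φ : ↥(symplecticGroup (Fin n) F) →* GL (Fin (n + n)) F :=
      (glReindex (F := F) finSumFinEquiv).toMonoidHom.comp spToGL
    have hφ : Function.Injective φ := by
      intro x y hxy
      apply spToGL_injective
      exact (glReindex (F := F) finSumFinEquiv).injective hxy
    have hcardP : Nat.card ↥((P : Subgroup ↥(symplecticGroup (Fin n) F)).map φ) =
        r ^ (Nat.card (GL (Fin (n + n)) F)).factorization r := by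
      rw [← Nat.card_congr (Subgroup.equivMapOfInjective _ φ hφ).toEquiv,
        Sylow.card_eq_multiplicity, hcardSp, Matrix.card_GL_field,
        factorization_card_GL' hr hq1 hrq (by rw [← hd]; exact hlt), ← hd, ← hv]
    have e1 : ↥(P : Subgroup ↥(symplecticGroup (Fin n) F)) ≃*
        ↥((P : Subgroup ↥(symplecticGroup (Fin n) F)).map φ) :=
      Subgroup.equivMapOfInjective _ φ hφ
    have e2 : ↥((P : Subgroup ↥(symplecticGroup (Fin n) F)).map φ) ≃* H :=
      Sylow.equiv (Sylow.ofCard _ hcardP) (Sylow.ofCard H hcardH)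
    exact ⟨e1.trans (e2.trans e)⟩
  · -- `d` odd: the Levi subgroup `GL_n`
    have ha : ((Finset.Icc 1 n).filter (fun i => d ∣ 2 * i)).card = n / d :=
      card_filter_odd hdo
    rw [ha] at hcardSp ⊢
    obtain ⟨H, ⟨e⟩⟩ := exists_homocyclic_subgroup_GL (F := F) p n d (n / d) (r ^ v)
      (Nat.div_mul_le_self n d) hdvd
    have hcardK : Nat.card ↥(H.map (levHom (F := F) (l := Fin n))) =
        r ^ (Nat.card ↥(symplecticGroup (Fin n) F)).factorization r := by
      rw [← Nat.card_congr (Subgroup.equivMapOfInjective _ _ levHom_injective).toEquiv,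
        Nat.card_congr e.toEquiv, card_homocyclic, ← pow_mul, hcardSp, mul_comm]
    have e1 : ↥(P : Subgroup ↥(symplecticGroup (Fin n) F)) ≃*
        ↥(H.map (levHom (F := F) (l := Fin n))) :=
      Sylow.equiv P (Sylow.ofCard _ hcardK)
    have e2 : ↥(H.map (levHom (F := F) (l := Fin n))) ≃* H :=
      (Subgroup.equivMapOfInjective _ _ levHom_injective).symm
    exact ⟨e1.trans (e2.trans e)⟩

end main

end SpSyl
end Cfsg.Agent.Helper12
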