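import Mathlib
import Cfsg.Prelude.Def_Sporadic

set_option autoImplicit false

namespace Cfsg.Agent.Helper12

/-- the product of the prime powers listed -/
def ppProd (l : List (ℕ × ℕ)) : ℕ := (l.map fun x => x.1 ^ x.2).prod

/-- the exponent of `p` read off a list of prime powers -/
def ppExp (l : List (ℕ × ℕ)) (p : ℕ) : ℕ := (l.map fun x => if x.1 = p then x.2 else 0).sum

theorem ppProd_ne_zero (l : List (ℕ × ℕ)) (hl : ∀ x ∈ l, x.1.Prime) : ppProd l ≠ 0 := by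
  unfold ppProd
  apply List.prod_ne_zero
  intro h
  rw [List.mem_map] at h
  obtain ⟨x, hx, h0⟩ := h
  exact pow_ne_zero _ (hl x hx).ne_zero h0

theorem factorization_ppProd (l : List (ℕ × ℕ)) (hl : ∀ x ∈ l, x.1.Prime) (p : ℕ) :
    (ppProd l).factorization p = ppExp l p := by
  induction l with
  | nil => simp [ppProd, ppExp]
  | cons x l ih =>
    have hx : x.1.Prime := hl x List.mem_cons_self
    have hl' : ∀ y ∈ l, y.1.Prime := fun y hy => hl y (List.mem_cons_of_mem _ hy)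
    have h1 : ppProd (x :: l) = x.1 ^ x.2 * ppProd l := by simp [ppProd]
    have h2 : ppExp (x :: l) p = (if x.1 = p then x.2 else 0) + ppExp l p := by simp [ppExp]
    rw [h1, h2, Nat.factorization_mul (pow_ne_zero _ hx.ne_zero) (ppProd_ne_zero l hl'),
      Finsupp.add_apply, hx.factorization_pow, Finsupp.single_apply, ih hl']

theorem exists_mem_of_ppExp_ne_zero (l : List (ℕ × ℕ)) (p : ℕ) (h : ppExp l p ≠ 0) :
    ∃ x ∈ l, x.1 = p := by
  by_contra hcon
  push Not at hcon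
  apply h
  unfold ppExp
  apply List.sum_eq_zero
  intro n hn
  rw [List.mem_map] at hn
  obtain ⟨x, hx, rfl⟩ := hn
  rw [if_neg (hcon x hx)]

/-- the prime factorizations of the orders of the 26 sporadic groups -/
def sporadicFactorizations : List (List (ℕ × ℕ)) :=
  [[(2, 4), (3, 2), (5, 1), (11, 1)],
   [(2, 6), (3, 3), (5, 1), (11, 1)],
   [(2, 7), (3, 2), (5, 1), (7, 1), (11, 1)],
   [(2, 7), (3, 2), (5, 1), (7, 1), (11, 1), (23, 1)],
   [(2, 10), (3, 3), (5, 1), (7, 1), (11, 1), (23, 1)],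
   [(2, 3), (3, 1), (5, 1), (7, 1), (11, 1), (19, 1)],
   [(2, 7), (3, 3), (5, 2), (7, 1)],
   [(2, 7), (3, 5), (5, 1), (17, 1), (19, 1)],
   [(2, 21), (3, 3), (5, 1), (7, 1), (11, 3), (23, 1), (29, 1), (31, 1), (37, 1), (43, 1)],
   [(2, 21), (3, 9), (5, 4), (7, 2), (11, 1), (13, 1), (23, 1)],
   [(2, 18), (3, 6), (5, 3), (7, 1), (11, 1), (23, 1)],
   [(2, 10), (3, 7), (5, 3), (7, 1), (11, 1), (23, 1)],
   [(2, 17), (3, 9), (5, 2), (7, 1), (11, 1), (13, 1)],
   [(2, 18), (3, 13), (5, 2), (7, 1), (11, 1), (13, 1), (17, 1), (23, 1)],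
   [(2, 21), (3, 16), (5, 2), (7, 3), (11, 1), (13, 1), (17, 1), (23, 1), (29, 1)],
   [(2, 9), (3, 2), (5, 3), (7, 1), (11, 1)],
   [(2, 7), (3, 6), (5, 3), (7, 1), (11, 1)],
   [(2, 10), (3, 3), (5, 2), (7, 3), (17, 1)],
   [(2, 14), (3, 3), (5, 3), (7, 1), (13, 1), (29, 1)],
   [(2, 13), (3, 7), (5, 2), (7, 1), (11, 1), (13, 1)],
   [(2, 9), (3, 4), (5, 1), (7, 3), (11, 1), (19, 1), (31, 1)],
   [(2, 14), (3, 6), (5, 6), (7, 1), (11, 1), (19, 1)],
   [(2, 8), (3, 7), (5, 6), (7, 1), (11, 1), (31, 1), (37, 1), (67, 1)],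
   [(2, 15), (3, 10), (5, 3), (7, 2), (13, 1), (19, 1), (31, 1)],
   [(2, 41), (3, 13), (5, 6), (7, 2), (11, 1), (13, 1), (17, 1), (19, 1), (23, 1), (31, 1), (47, 1)],
   [(2, 46), (3, 20), (5, 9), (7, 6), (11, 2), (13, 3), (17, 1), (19, 1), (23, 1), (29, 1), (31, 1), (41, 1), (47, 1), (59, 1), (71, 1)]]

theorem sporadicFactorizations_prime :
    ∀ l ∈ sporadicFactorizations, ∀ x ∈ l, x.1.Prime := by
  have key : ∀ q ∈ [2, 3, 5, 7, 11, 13, 17, 19, 23, 29, 31, 37, 41, 43, 47, 59, 67, 71],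
      Nat.Prime q := by
    intro q hq
    simp only [List.mem_cons, List.not_mem_nil, or_false] at hq
    rcases hq with rfl | rfl | rfl | rfl | rfl | rfl | rfl | rfl | rfl | rfl | rfl | rfl | rfl |
      rfl | rfl | rfl | rfl | rfl <;> norm_num
  have hsub : ∀ l ∈ sporadicFactorizations, ∀ x ∈ l,
      x.1 ∈ [2, 3, 5, 7, 11, 13, 17, 19, 23, 29, 31, 37, 41, 43, 47, 59, 67, 71] := by
    decide
  intro l hl x hx
  exact key _ (hsub l hl x hx)

theorem card_of_isSporadic {G : Type*} [Group G] (h : Cfsg.IsSporadic G) :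
    ∃ l ∈ sporadicFactorizations, Nat.card G = ppProd l := by
  unfold Cfsg.IsSporadic at h
  rcases h with ⟨-, h⟩ | ⟨-, h⟩ | ⟨-, h⟩ | ⟨-, h⟩ | ⟨-, h⟩ | ⟨-, h⟩ | ⟨-, h⟩ | ⟨-, h⟩ | ⟨-, h⟩ | ⟨-, h⟩ | ⟨-, h⟩ | ⟨-, h⟩ | ⟨-, h⟩ | ⟨-, h⟩ | ⟨-, h⟩ | ⟨-, h⟩ | ⟨-, h⟩ | ⟨-, h⟩ | ⟨-, h⟩ | ⟨-, h⟩ | ⟨-, h⟩ | ⟨-, h⟩ | ⟨-, h⟩ | ⟨-, h⟩ | ⟨-, h⟩ | ⟨-, h⟩
  · exact ⟨[(2, 4), (3, 2), (5, 1), (11, 1)], by simp [sporadicFactorizations], h.trans (by decide +kernel)⟩
  · exact ⟨[(2, 6), (3, 3), (5, 1), (11, 1)], by simp [sporadicFactorizations], h.trans (by decide +kernel)⟩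
  · exact ⟨[(2, 7), (3, 2), (5, 1), (7, 1), (11, 1)], by simp [sporadicFactorizations], h.trans (by decide +kernel)⟩
  · exact ⟨[(2, 7), (3, 2), (5, 1), (7, 1), (11, 1), (23, 1)], by simp [sporadicFactorizations], h.trans (by decide +kernel)⟩
  · exact ⟨[(2, 10), (3, 3), (5, 1), (7, 1), (11, 1), (23, 1)], by simp [sporadicFactorizations], h.trans (by decide +kernel)⟩
  · exact ⟨[(2, 3), (3, 1), (5, 1), (7, 1), (11, 1), (19, 1)], by simp [sporadicFactorizations], h.trans (by decide +kernel)⟩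
  · exact ⟨[(2, 7), (3, 3), (5, 2), (7, 1)], by simp [sporadicFactorizations], h.trans (by decide +kernel)⟩
  · exact ⟨[(2, 7), (3, 5), (5, 1), (17, 1), (19, 1)], by simp [sporadicFactorizations], h.trans (by decide +kernel)⟩
  · exact ⟨[(2, 21), (3, 3), (5, 1), (7, 1), (11, 3), (23, 1), (29, 1), (31, 1), (37, 1), (43, 1)], by simp [sporadicFactorizations], h.trans (by decide +kernel)⟩
  · exact ⟨[(2, 21), (3, 9), (5, 4), (7, 2), (11, 1), (13, 1), (23, 1)], by simp [sporadicFactorizations], h.trans (by decide +kernel)⟩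
  · exact ⟨[(2, 18), (3, 6), (5, 3), (7, 1), (11, 1), (23, 1)], by simp [sporadicFactorizations], h.trans (by decide +kernel)⟩
  · exact ⟨[(2, 10), (3, 7), (5, 3), (7, 1), (11, 1), (23, 1)], by simp [sporadicFactorizations], h.trans (by decide +kernel)⟩
  · exact ⟨[(2, 17), (3, 9), (5, 2), (7, 1), (11, 1), (13, 1)], by simp [sporadicFactorizations], h.trans (by decide +kernel)⟩
  · exact ⟨[(2, 18), (3, 13), (5, 2), (7, 1), (11, 1), (13, 1), (17, 1), (23, 1)], by simp [sporadicFactorizations], h.trans (by decide +kernel)⟩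
  · exact ⟨[(2, 21), (3, 16), (5, 2), (7, 3), (11, 1), (13, 1), (17, 1), (23, 1), (29, 1)], by simp [sporadicFactorizations], h.trans (by decide +kernel)⟩
  · exact ⟨[(2, 9), (3, 2), (5, 3), (7, 1), (11, 1)], by simp [sporadicFactorizations], h.trans (by decide +kernel)⟩
  · exact ⟨[(2, 7), (3, 6), (5, 3), (7, 1), (11, 1)], by simp [sporadicFactorizations], h.trans (by decide +kernel)⟩
  · exact ⟨[(2, 10), (3, 3), (5, 2), (7, 3), (17, 1)], by simp [sporadicFactorizations], h.trans (by decide +kernel)⟩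
  · exact ⟨[(2, 14), (3, 3), (5, 3), (7, 1), (13, 1), (29, 1)], by simp [sporadicFactorizations], h.trans (by decide +kernel)⟩
  · exact ⟨[(2, 13), (3, 7), (5, 2), (7, 1), (11, 1), (13, 1)], by simp [sporadicFactorizations], h.trans (by decide +kernel)⟩
  · exact ⟨[(2, 9), (3, 4), (5, 1), (7, 3), (11, 1), (19, 1), (31, 1)], by simp [sporadicFactorizations], h.trans (by decide +kernel)⟩
  · exact ⟨[(2, 14), (3, 6), (5, 6), (7, 1), (11, 1), (19, 1)], by simp [sporadicFactorizations], h.trans (by decide +kernel)⟩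
  · exact ⟨[(2, 8), (3, 7), (5, 6), (7, 1), (11, 1), (31, 1), (37, 1), (67, 1)], by simp [sporadicFactorizations], h.trans (by decide +kernel)⟩
  · exact ⟨[(2, 15), (3, 10), (5, 3), (7, 2), (13, 1), (19, 1), (31, 1)], by simp [sporadicFactorizations], h.trans (by decide +kernel)⟩
  · exact ⟨[(2, 41), (3, 13), (5, 6), (7, 2), (11, 1), (13, 1), (17, 1), (19, 1), (23, 1), (31, 1), (47, 1)], by simp [sporadicFactorizations], h.trans (by decide +kernel)⟩
  · exact ⟨[(2, 46), (3, 20), (5, 9), (7, 6), (11, 2), (13, 3), (17, 1), (19, 1), (23, 1), (29, 1), (31, 1), (41, 1), (47, 1), (59, 1), (71, 1)], by simp [sporadicFactorizations], h.trans (by decide +kernel)⟩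

/-- Any decidable property of the list of prime powers, checked on the 26 lists, holds of the
order of a sporadic group. -/
theorem sporadic_order_induction {G : Type*} [Group G] (h : Cfsg.IsSporadic G)
    (P : List (ℕ × ℕ) → Prop) (hP : ∀ l ∈ sporadicFactorizations, P l) :
    ∃ l : List (ℕ × ℕ), (∀ x ∈ l, x.1.Prime) ∧ Nat.card G = ppProd l ∧ P l := by
  obtain ⟨l, hl, hc⟩ := card_of_isSporadic h
  exact ⟨l, sporadicFactorizations_prime l hl, hc, hP l hl⟩

end Cfsg.Agent.Helper12
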