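import Mathlib
import Cfsg.Agent.Lib.Helper14.StGLDefs

/-!
# S2425 piece FIXFLAG (core): the fixed points of `x` on `GL_n(F) / P_D` are the `x`-invariant flags with dimension set `D`
(with the transitivity of `GL_n(F)` on flags as a hypothesis)
-/

set_option autoImplicit false

namespace Cfsg.Agent.Helper14.StGL

open Module Polynomial Cfsg.Agent.Helper13.SS

open scoped Classical MatrixGroups

section gl

variable {F : Type*} [Field F] {n : ℕ}

/-- the linear automorphism attached to an element of `GL_n(F)` -/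
noncomputable def stglfixflag_Leq (g : GL (Fin n) F) : (Fin n → F) ≃ₗ[F] (Fin n → F) :=
  LinearEquiv.ofLinear (L g) (L g⁻¹)
    (by rw [← Module.End.mul_eq_comp, ← Cfsg.Agent.Helper13.SS.L_mul, mul_inv_cancel, L_one]; rfl)
    (by rw [← Module.End.mul_eq_comp, ← Cfsg.Agent.Helper13.SS.L_mul, inv_mul_cancel, L_one]; rfl)

theorem stglfixflag_Leq_apply (g : GL (Fin n) F) (v : Fin n → F) : stglfixflag_Leq g v = L g v := rfl

theorem stglfixflag_inv_apply (g : GL (Fin n) F) (v : Fin n → F) : L g⁻¹ (L g v) = v := by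
  rw [← Module.End.mul_apply, ← Cfsg.Agent.Helper13.SS.L_mul, inv_mul_cancel, L_one]
  rfl

theorem stglfixflag_apply_inv (g : GL (Fin n) F) (v : Fin n → F) : L g (L g⁻¹ v) = v := by
  rw [← Module.End.mul_apply, ← Cfsg.Agent.Helper13.SS.L_mul, mul_inv_cancel, L_one]
  rfl

theorem stglfixflag_finrank_map (g : GL (Fin n) F) (W : Submodule F (Fin n → F)) :
    finrank F ↥(W.map (L g)) = finrank F ↥W :=
  LinearEquiv.finrank_map_eq (stglfixflag_Leq g) W

theorem stglfixflag_map_mul (g h : GL (Fin n) F) (W : Submodule F (Fin n → F)) :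
    W.map (L (g * h)) = (W.map (L h)).map (L g) := by
  rw [Cfsg.Agent.Helper13.SS.L_mul, Module.End.mul_eq_comp, Submodule.map_comp]

theorem stglfixflag_map_one (W : Submodule F (Fin n → F)) : W.map (L (1 : GL (Fin n) F)) = W := by
  rw [L_one]
  exact Submodule.map_id W

/-- extension by zero -/
def stglfixflag_ext (F : Type*) [Field F] (n d : ℕ) : (Fin d → F) →ₗ[F] (Fin n → F) where
  toFun := fun v i => if h : i.val < d then v ⟨i.val, h⟩ else 0
  map_add' := fun v w => by
    funext i
    by_cases h : i.val < d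
    · simp only [dif_pos h, Pi.add_apply]
    · simp only [dif_neg h, Pi.add_apply, add_zero]
  map_smul' := fun c v => by
    funext i
    by_cases h : i.val < d
    · simp only [dif_pos h, Pi.smul_apply, RingHom.id_apply]
    · simp only [dif_neg h, Pi.smul_apply, RingHom.id_apply, smul_zero]

theorem stglfixflag_ext_injective (d : ℕ) (hd : d ≤ n) : Function.Injective (stglfixflag_ext F n d) := by
  intro v w h
  funext j
  have h1 := congrFun h ⟨j.val, lt_of_lt_of_le j.2 hd⟩
  simp only [stglfixflag_ext, LinearMap.coe_mk, AddHom.coe_mk, dif_pos j.2] at h1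
  exact h1

theorem stglfixflag_range_ext (d : ℕ) : LinearMap.range (stglfixflag_ext F n d) = std F n d := by
  ext v
  constructor
  · rintro ⟨w, rfl⟩
    intro i hi
    show (if h : i.val < d then w ⟨i.val, h⟩ else 0) = 0
    rw [dif_neg (not_lt.2 hi)]
  · intro hv
    refine ⟨fun j => if h : j.val < n then v ⟨j.val, h⟩ else 0, ?_⟩
    funext i
    show (if h : i.val < d then (if h' : i.val < n then v ⟨i.val, h'⟩ else 0) else 0) = v i
    by_cases h : i.val < d
    · rw [dif_pos h, dif_pos i.2]
    · rw [dif_neg h]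
      exact (hv i (not_lt.1 h)).symm

theorem stglfixflag_finrank_std (d : ℕ) (hd : d ≤ n) : finrank F ↥(std F n d) = d := by
  rw [← stglfixflag_range_ext, LinearMap.finrank_range_of_inj (stglfixflag_ext_injective d hd)]
  simp

theorem stglfixflag_std_mono {d d' : ℕ} (h : d ≤ d') : std F n d ≤ std F n d' := by
  intro v hv i hi
  exact hv i (le_trans h hi)

/-- an invertible map leaving `W` invariant maps `W` onto `W` -/
theorem stglfixflag_map_eq_of_inv (g : GL (Fin n) F) (W : Submodule F (Fin n → F)) (h : Inv (L g) W) :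
    W.map (L g) = W := by
  apply Submodule.eq_of_le_of_finrank_eq
  · rintro _ ⟨v, hv, rfl⟩
    exact h v hv
  · exact stglfixflag_finrank_map g W

/-- the flag attached to `g` -/
noncomputable def stglfixflag_flag (D : Finset ℕ) (g : GL (Fin n) F) : Finset (Submodule F (Fin n → F)) :=
  D.image fun d => (std F n d).map (L g)

theorem stglfixflag_inv_conj (g x : GL (Fin n) F) (W : Submodule F (Fin n → F)) :
    Inv (L (g⁻¹ * x * g)) W ↔ Inv (L x) (W.map (L g)) := by
  constructor
  · rintro h _ ⟨v, hv, rfl⟩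
    refine ⟨L (g⁻¹ * x * g) v, h v hv, ?_⟩
    rw [Cfsg.Agent.Helper13.SS.L_mul, Cfsg.Agent.Helper13.SS.L_mul, Module.End.mul_apply, Module.End.mul_apply, stglfixflag_apply_inv]
  · intro h v hv
    obtain ⟨v', hv', e⟩ := h (L g v) ⟨v, hv, rfl⟩
    rw [Cfsg.Agent.Helper13.SS.L_mul, Cfsg.Agent.Helper13.SS.L_mul, Module.End.mul_apply, Module.End.mul_apply, ← e, stglfixflag_inv_apply]
    exact hv'

variable (P : Subgroup (GL (Fin n) F)) (D : Finset ℕ) (hD : ∀ d ∈ D, 0 < d ∧ d < n)
  (hP : ∀ g : GL (Fin n) F, g ∈ P ↔ ∀ d ∈ D, Inv (L g) (std F n d))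
include hD hP

theorem stglfixflag_flag_eq_iff (g g' : GL (Fin n) F) :
    stglfixflag_flag D g = stglfixflag_flag D g' ↔ g⁻¹ * g' ∈ P := by
  constructor
  · intro h
    rw [hP]
    intro d hd
    have h1 : (std F n d).map (L g') ∈ stglfixflag_flag D g := by
      rw [h]
      exact Finset.mem_image_of_mem _ hd
    obtain ⟨d', hd', e⟩ := Finset.mem_image.1 h1
    have h2 : d' = d := by
      have := congrArg (fun W : Submodule F (Fin n → F) => finrank F ↥W) e
      simp only [stglfixflag_finrank_map] at this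
      rwa [stglfixflag_finrank_std d' (hD d' hd').2.le, stglfixflag_finrank_std d (hD d hd).2.le] at this
    subst h2
    intro v hv
    have h3 : L g' v ∈ (std F n d').map (L g) := by
      rw [e]
      exact ⟨v, hv, rfl⟩
    obtain ⟨v', hv', e'⟩ := h3
    rw [Cfsg.Agent.Helper13.SS.L_mul, Module.End.mul_apply, ← e', stglfixflag_inv_apply]
    exact hv'
  · intro h
    rw [hP] at h
    unfold stglfixflag_flag
    apply Finset.image_congr
    intro d hd
    have e : g' = g * (g⁻¹ * g') := by group
    show (std F n d).map (L g) = (std F n d).map (L g')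
    rw [e, stglfixflag_map_mul, stglfixflag_map_eq_of_inv _ _ (h d hd)]

omit hP in
theorem stglfixflag_flag_chain (g : GL (Fin n) F) :
    IsChain (· ≤ ·) ((stglfixflag_flag D g : Finset (Submodule F (Fin n → F))) : Set (Submodule F (Fin n → F))) := by
  intro a ha b hb _
  obtain ⟨d, -, rfl⟩ := Finset.mem_image.1 (Finset.mem_coe.1 ha)
  obtain ⟨d', -, rfl⟩ := Finset.mem_image.1 (Finset.mem_coe.1 hb)
  rcases le_total d d' with h | h
  · exact Or.inl (Submodule.map_mono (stglfixflag_std_mono h))
  · exact Or.inr (Submodule.map_mono (stglfixflag_std_mono h))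

omit hP in
theorem stglfixflag_flag_dims (g : GL (Fin n) F) :
    (stglfixflag_flag D g).image (fun W : Submodule F (Fin n → F) => finrank F ↥W) = D := by
  unfold stglfixflag_flag
  rw [Finset.image_image]
  conv_rhs => rw [← Finset.image_id (s := D)]
  apply Finset.image_congr
  intro d hd
  show finrank F ↥((std F n d).map (L g)) = d
  rw [stglfixflag_finrank_map, stglfixflag_finrank_std d (hD d hd).2.le]

theorem stglfixflag_flag_inv_iff (g x : GL (Fin n) F) :
    (∀ W ∈ stglfixflag_flag D g, Inv (L x) W) ↔ g⁻¹ * x * g ∈ P := by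
  rw [hP]
  unfold stglfixflag_flag
  rw [Finset.forall_mem_image]
  constructor
  · intro h d hd
    exact (stglfixflag_inv_conj g x _).2 (h hd)
  · intro h d hd
    exact (stglfixflag_inv_conj g x _).1 (h d hd)

/-- the flag of a coset -/
noncomputable def stglfixflag_qflag (q : GL (Fin n) F ⧸ P) : Finset (Submodule F (Fin n → F)) :=
  Quotient.liftOn' q (stglfixflag_flag D) (fun a b hab =>
    (stglfixflag_flag_eq_iff P D hD hP a b).2 (QuotientGroup.leftRel_apply.1 hab))

theorem stglfixflag_qflag_mk (g : GL (Fin n) F) :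
    stglfixflag_qflag P D hD hP (QuotientGroup.mk g) = stglfixflag_flag D g := rfl

theorem stglfixflag_qflag_injective : Function.Injective (stglfixflag_qflag P D hD hP) := by
  intro a b
  induction a using QuotientGroup.induction_on with
  | H g =>
    induction b using QuotientGroup.induction_on with
    | H g' =>
      intro h
      rw [stglfixflag_qflag_mk, stglfixflag_qflag_mk] at h
      exact QuotientGroup.eq.2 ((stglfixflag_flag_eq_iff P D hD hP g g').1 h)

theorem stglfixflag_mem_fixedBy (x g : GL (Fin n) F) :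
    (QuotientGroup.mk g : GL (Fin n) F ⧸ P) ∈ MulAction.fixedBy (GL (Fin n) F ⧸ P) x ↔
      ∀ W ∈ stglfixflag_flag D g, Inv (L x) W := by
  rw [stglfixflag_flag_inv_iff P D hD hP, MulAction.mem_fixedBy, MulAction.Quotient.smul_mk, QuotientGroup.eq,
    smul_eq_mul]
  have e : (x * g)⁻¹ * g = (g⁻¹ * x * g)⁻¹ := by group
  rw [e, inv_mem_iff]

theorem stglfixflag_core [Fintype F]
    (htrans : ∀ C : Finset (Submodule F (Fin n → F)),
      IsChain (· ≤ ·) (C : Set (Submodule F (Fin n → F))) →
      ∃ g : GL (Fin n) F, ∀ W ∈ C, (std F n (finrank F ↥W)).map (L g) = W)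
    (x : GL (Fin n) F) :
    Cfsg.fixedPointCharacter P x =
      ((Finset.univ.filter (fun C : Finset (Submodule F (Fin n → F)) => IsInvFlag (L x) D C)).card : ℂ) := by
  unfold Cfsg.fixedPointCharacter
  congr 1
  rw [← Fintype.card_subtype, ← Nat.card_eq_fintype_card]
  have hmem : ∀ q : MulAction.fixedBy (GL (Fin n) F ⧸ P) x,
      IsInvFlag (L x) D (stglfixflag_qflag P D hD hP q.1) := by
    rintro ⟨q, hq⟩
    induction q using QuotientGroup.induction_on with
    | H g =>
      show IsInvFlag (L x) D (stglfixflag_flag D g)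
      exact ⟨stglfixflag_flag_chain D hD g, stglfixflag_flag_dims D hD g,
        (stglfixflag_mem_fixedBy P D hD hP x g).1 hq⟩
  apply Nat.card_congr
  refine Equiv.ofBijective (fun q => ⟨stglfixflag_qflag P D hD hP q.1, hmem q⟩) ⟨?_, ?_⟩
  · intro a b h
    have h' : stglfixflag_qflag P D hD hP a.1 = stglfixflag_qflag P D hD hP b.1 := congrArg Subtype.val h
    exact Subtype.ext (stglfixflag_qflag_injective P D hD hP h')
  · rintro ⟨C, hC1, hC2, hC3⟩
    obtain ⟨g, hg⟩ := htrans C hC1
    have e : stglfixflag_flag D g = C := by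
      unfold stglfixflag_flag
      rw [← hC2, Finset.image_image]
      conv_rhs => rw [← Finset.image_id (s := C)]
      apply Finset.image_congr
      intro W hW
      exact hg W hW
    refine ⟨⟨QuotientGroup.mk g, ?_⟩, ?_⟩
    · rw [stglfixflag_mem_fixedBy P D hD hP, e]
      exact hC3
    · apply Subtype.ext
      exact e

end gl

end Cfsg.Agent.Helper14.StGL
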