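import Mathlib
import Cfsg.Agent.Lib.Helper14.StGLDefs
import Cfsg.Agent.Lib.Helper12.StGLFIXFLAGCore
import Cfsg.Agent.Lib.Helper20.StGLTRANS

/-!
# S2425 piece FIXFLAG: the fixed points of `x` on `GL_n(F) / P_D` are the `x`-invariant flags with dimension set `D`
-/

set_option autoImplicit false

namespace Cfsg.Agent.Helper14.StGL

open Module Polynomial Cfsg.Agent.Helper13.SS

open scoped Classical MatrixGroups

section gl

variable {F : Type*} [Field F] {n : ℕ}

theorem fixed_eq_flags [Fintype F] (P : Subgroup (GL (Fin n) F)) (D : Finset ℕ) (hD : ∀ d ∈ D, 0 < d ∧ d < n)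
    (hP : ∀ g : GL (Fin n) F, g ∈ P ↔ ∀ d ∈ D, Inv (L g) (std F n d)) (x : GL (Fin n) F) :
    Cfsg.fixedPointCharacter P x =
      ((Finset.univ.filter (fun C : Finset (Submodule F (Fin n → F)) => IsInvFlag (L x) D C)).card : ℂ) :=
  stglfixflag_core P D hD hP (fun C hC => flag_trans C hC) x

end gl

end Cfsg.Agent.Helper14.StGL
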