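import Mathlib
import Cfsg.Agent.Lib.Helper14.StGLDefs

/-!
# S2425 piece GF1: the multiplicative function on the subspaces of a primary component
-/

set_option autoImplicit false

namespace Cfsg.Agent.Helper14.StGL

open Module Polynomial Cfsg.Agent.Helper13.SS

open scoped Classical MatrixGroups

section mod

variable {F : Type*} [Field F] [Fintype F] {V : Type*} [AddCommGroup V] [Module F V] [Fintype V]

theorem stglgf1_gam_zero (Q : ℕ) : gam Q 0 = 1 := by
  simp [gam]

theorem gfun_primary (q : ℕ) (g : Module.End F V) (S : Finset F[X]) (hirr : ∀ f ∈ S, Irreducible f)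
    (hmon : ∀ f ∈ S, f.Monic) (f : F[X]) (hf : f ∈ S) (W : Submodule F V) (hW : W ≤ Kf g f) :
    Gfun q g S W = gam (q ^ f.natDegree) (finrank F ↥W / f.natDegree) := by
  unfold Gfun
  rw [Finset.prod_eq_single_of_mem f hf]
  · rw [inf_eq_left.2 hW]
  · intro f' hf' hne
    have hcop : IsCoprime f f' := by
      rw [(hirr f hf).coprime_iff_not_dvd]
      intro hd
      exact hne (Polynomial.eq_of_monic_of_associated (hmon f hf) (hmon f' hf')
        ((hirr f hf).associated_of_dvd (hirr f' hf') hd)).symm
    have hdisj : Disjoint (Kf g f) (Kf g f') := Polynomial.disjoint_ker_aeval_of_isCoprime g hcop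
    have hbot : W ⊓ Kf g f' = ⊥ := by
      rw [eq_bot_iff]
      exact le_trans (inf_le_inf_right _ hW) (le_of_eq hdisj.eq_bot)
    rw [hbot, finrank_bot, Nat.zero_div, stglgf1_gam_zero]

end mod

end Cfsg.Agent.Helper14.StGL
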