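import Mathlib
import Cfsg.Prelude
import Cfsg.Agent.Lib.Helper13.SylODefs

/-!
# S4613 / SylO piece SYLO-ASM (helper12), core: the statements of the pieces SYL (`Data.sylow` as a
Sylow subgroup with carrier `D.U`, `Data.exists_conj`, `Data.inf_eq_bot_iff`), BIG (`Data.big_cell`,
`Data.opp_of_mem`), ORB (`Data.mem_of_opp`) and COMMON (`common_opp` at `π P D.n₀`) are hypotheses.
-/

set_option autoImplicit false
set_option linter.unusedSectionVars false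
set_option linter.unusedVariables false

namespace Cfsg.Agent.Helper13.SylO

open Cfsg Cfsg.Agent.Helper2.WordLen Cfsg.Agent.Helper2.BN Cfsg.Agent.Helper17.BNCox

section data
variable {H : Type*} [Group H] {P : Cfsg.BNPair H} {p : ℕ} [Fact p.Prime]

/-- the conjugate `c U c⁻¹` as a Sylow subgroup -/
theorem sylo_asm_conj_sylow (D : Data P p) (S₀ : Sylow p H) (hS₀ : (S₀ : Subgroup H) = D.U)
    (c : H) : ∃ E : Sylow p H, ∀ x : H, x ∈ (E : Subgroup H) ↔ c⁻¹ * x * c ∈ D.U := by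
  refine ⟨c • S₀, fun x => ?_⟩
  rw [Sylow.coe_subgroup_smul, Subgroup.mem_pointwise_smul_iff_inv_smul_mem, hS₀]
  have e : (MulAut.conj c)⁻¹ • x = c⁻¹ * x * c := by
    rw [MulAut.smul_def, ← map_inv, MulAut.conj_apply, inv_inv]
  rw [e]

/-- `B` normalizes `U`, two-sided form -/
theorem sylo_asm_conj_mem_iff (D : Data P p) (γ : H) (hγ : γ ∈ P.B) (y : H) :
    γ⁻¹ * y * γ ∈ D.U ↔ y ∈ D.U := by
  constructor
  · intro h
    have h1 := D.hUn γ hγ _ h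
    have e : γ * (γ⁻¹ * y * γ) * γ⁻¹ = y := by group
    rwa [e] at h1
  · intro h
    have h1 := D.hUn γ⁻¹ (P.B.inv_mem hγ) _ h
    rwa [inv_inv] at h1

/-- core of `sylOpp_of_data` -/
theorem sylo_asm_core [Finite H] (D : Data P p)
    (S₀ : Sylow p H) (hS₀ : (S₀ : Subgroup H) = D.U)
    (hconj : ∀ W : Sylow p H, ∃ a : H, ∀ x : H, x ∈ (W : Subgroup H) ↔ a⁻¹ * x * a ∈ D.U)
    (hinf : ∀ (W W' : Sylow p H) (a b : H),
      (∀ x : H, x ∈ (W : Subgroup H) ↔ a⁻¹ * x * a ∈ D.U) →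
      (∀ x : H, x ∈ (W' : Subgroup H) ↔ b⁻¹ * x * b ∈ D.U) →
      ((W : Subgroup H) ⊓ (W' : Subgroup H) = ⊥ ↔ D.Opp (a⁻¹ * b)))
    (hbig : ∀ g : H, g ∈ C P (π P D.n₀) → ∃ u ∈ D.U, ∃ b ∈ P.B, g = u * (D.n₀ : H) * b)
    (hoppmem : ∀ g : H, g ∈ C P (π P D.n₀) → D.Opp g)
    (hmemopp : ∀ g : H, D.Opp g → g ∈ C P (π P D.n₀))
    (hcommon : ∀ g : H, ∃ h : H, h ∈ C P (π P D.n₀) ∧ g⁻¹ * h ∈ C P (π P D.n₀)) :
    SylOpp p H := by
  refine ⟨⟨S₀, ?_⟩, ?_, ?_⟩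
  · -- (O1)
    obtain ⟨s, hs⟩ := D.hS
    obtain ⟨u, hu, hsu⟩ := D.hs s hs
    intro hbot
    rw [hS₀] at hbot
    have hu1 : u = 1 := by
      have : u ∈ (⊥ : Subgroup H) := hbot ▸ hu
      exact Subgroup.mem_bot.1 this
    apply hsu
    rw [hu1]
    simp [P.B.one_mem]
  · -- (O2)
    intro Ut W W' hW hW'
    obtain ⟨c, hc⟩ := hconj Ut
    obtain ⟨a, ha⟩ := hconj W
    obtain ⟨b, hb⟩ := hconj W'
    have h1 : D.Opp (c⁻¹ * a) := (hinf Ut W c a hc ha).1 hW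
    have h2 : D.Opp (c⁻¹ * b) := (hinf Ut W' c b hc hb).1 hW'
    obtain ⟨u, hu, β, hβ, e1⟩ := hbig _ (hmemopp _ h1)
    obtain ⟨u', hu', β', hβ', e2⟩ := hbig _ (hmemopp _ h2)
    have ea : a = c * (u * (D.n₀ : H) * β) := by rw [← e1]; group
    have eb : b = c * (u' * (D.n₀ : H) * β') := by rw [← e2]; group
    refine ⟨c * (u' * u⁻¹) * c⁻¹, ?_, fun x => ?_⟩
    · rw [hc]
      have e : c⁻¹ * (c * (u' * u⁻¹) * c⁻¹) * c = u' * u⁻¹ := by group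
      rw [e]
      exact D.U.mul_mem hu' (D.U.inv_mem hu)
    · rw [hb, ha]
      have e : a⁻¹ * ((c * (u' * u⁻¹) * c⁻¹)⁻¹ * x * (c * (u' * u⁻¹) * c⁻¹)) * a =
          (β'⁻¹ * β)⁻¹ * (b⁻¹ * x * b) * (β'⁻¹ * β) := by
        rw [ea, eb]; group
      rw [e, sylo_asm_conj_mem_iff D _ (P.B.mul_mem (P.B.inv_mem hβ') hβ)]
  · -- (O3)
    intro W W'
    obtain ⟨a, ha⟩ := hconj W
    obtain ⟨b, hb⟩ := hconj W'
    obtain ⟨h₁, hh₁, hh₁'⟩ := hcommon (a⁻¹ * b)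
    obtain ⟨E, hE⟩ := sylo_asm_conj_sylow D S₀ hS₀ (a * h₁)
    refine ⟨E, ?_, ?_⟩
    · rw [inf_comm, hinf W E a (a * h₁) ha hE]
      have e : a⁻¹ * (a * h₁) = h₁ := by group
      rw [e]
      exact hoppmem _ hh₁
    · rw [inf_comm, hinf W' E b (a * h₁) hb hE]
      have e : b⁻¹ * (a * h₁) = (a⁻¹ * b)⁻¹ * h₁ := by group
      rw [e]
      exact hoppmem _ hh₁'

end data

end Cfsg.Agent.Helper13.SylO
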