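import Mathlib
import Cfsg.Prelude
import Cfsg.Agent.Lib.Helper13.SylODefs

/-!
# S4613 / SylO piece SYLO-BIG (helper12), cores: the statements of `Data.exists_mul` and
`Data.eq_one_of_mem` (piece BSPLIT) are hypotheses.
-/

set_option autoImplicit false
set_option linter.unusedSectionVars false
set_option linter.unusedVariables false

namespace Cfsg.Agent.Helper13.SylO

open Cfsg Cfsg.Agent.Helper2.WordLen Cfsg.Agent.Helper2.BN Cfsg.Agent.Helper17.BNCox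

section data
variable {H : Type*} [Group H] {P : Cfsg.BNPair H} {p : ℕ} [Fact p.Prime] (D : Data P p)

/-- core of `Data.big_cell` -/
theorem sylo_big_big_cell_core [Finite H]
    (hmul : ∀ b : H, b ∈ P.B → ∃ u ∈ D.U, ∃ t ∈ D.T, b = u * t)
    (g : H) (hg : g ∈ C P (π P D.n₀)) :
    ∃ u ∈ D.U, ∃ b ∈ P.B, g = u * (D.n₀ : H) * b := by
  rw [mem_C_iff] at hg
  obtain ⟨b₁, hb₁, b₂, hb₂, rfl⟩ := hg
  obtain ⟨u, hu, t, ht, rfl⟩ := hmul b₁ hb₁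
  have h1 : (D.n₀ : H)⁻¹ * t * D.n₀ ∈ P.B := (D.hT t (D.hTB ht)).1 ht
  exact ⟨u, hu, (D.n₀ : H)⁻¹ * t * D.n₀ * b₂, P.B.mul_mem h1 hb₂, by group⟩

/-- core of `Data.opp_n₀` -/
theorem sylo_big_opp_n₀_core [Finite H]
    (hone : ∀ x : H, x ∈ D.U → x ∈ D.T → x = 1) : D.Opp (D.n₀ : H) := by
  intro x hx hx'
  have h1 : x ∈ D.T := (D.hT x (D.hUB hx)).2 (D.hUB hx')
  exact hone x hx h1

/-- core of `Data.opp_of_mem` -/
theorem sylo_big_opp_of_mem_core [Finite H]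
    (hmul : ∀ b : H, b ∈ P.B → ∃ u ∈ D.U, ∃ t ∈ D.T, b = u * t)
    (hone : ∀ x : H, x ∈ D.U → x ∈ D.T → x = 1)
    (g : H) (hg : g ∈ C P (π P D.n₀)) : D.Opp g := by
  obtain ⟨u, hu, b, hb, rfl⟩ := sylo_big_big_cell_core D hmul g hg
  intro x hx hx'
  have h1 : u⁻¹ * x * u ∈ D.U := D.U.mul_mem (D.U.mul_mem (D.U.inv_mem hu) hx) hu
  have h2 : (D.n₀ : H)⁻¹ * (u⁻¹ * x * u) * D.n₀ ∈ D.U := by
    have h := D.hUn b hb _ hx'
    have e : b * ((u * (D.n₀ : H) * b)⁻¹ * x * (u * (D.n₀ : H) * b)) * b⁻¹ =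
        (D.n₀ : H)⁻¹ * (u⁻¹ * x * u) * D.n₀ := by group
    rwa [e] at h
  have h3 := sylo_big_opp_n₀_core D hone _ h1 h2
  have e : x = u * (u⁻¹ * x * u) * u⁻¹ := by group
  rw [e, h3]
  group

end data

end Cfsg.Agent.Helper13.SylO
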