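import Mathlib
import Cfsg.Prelude
import Cfsg.Agent.Lib.Helper13.SylODefs
import Cfsg.Agent.Lib.Helper12.SylOBIG
import Cfsg.Agent.Lib.Helper18.SYLOBSPLIT

/-!
# S4613 / SylO piece SYLO-BIG (helper12): the exact-name wrappers (BSPLIT on main)
-/

set_option autoImplicit false

namespace Cfsg.Agent.Helper13.SylO

open Cfsg Cfsg.Agent.Helper2.WordLen Cfsg.Agent.Helper2.BN Cfsg.Agent.Helper17.BNCox

section data
variable {H : Type*} [Group H] {P : Cfsg.BNPair H} {p : ℕ} [Fact p.Prime] (D : Data P p)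

/-- PIECE SYLO-BIG (1). -/
theorem Data.big_cell [Finite H] (g : H) (hg : g ∈ C P (π P D.n₀)) :
    ∃ u ∈ D.U, ∃ b ∈ P.B, g = u * (D.n₀ : H) * b :=
  sylo_big_big_cell_core D (Data.exists_mul D) g hg

/-- PIECE SYLO-BIG (2). -/
theorem Data.opp_n₀ [Finite H] : D.Opp (D.n₀ : H) :=
  sylo_big_opp_n₀_core D (Data.eq_one_of_mem D)

/-- PIECE SYLO-BIG (3). -/
theorem Data.opp_of_mem [Finite H] (g : H) (hg : g ∈ C P (π P D.n₀)) : D.Opp g :=
  sylo_big_opp_of_mem_core D (Data.exists_mul D) (Data.eq_one_of_mem D) g hg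

end data

end Cfsg.Agent.Helper13.SylO
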