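import Mathlib
import Cfsg.Prelude
import Cfsg.Agent.Lib.Helper13.SylODefs
import Cfsg.Agent.Lib.Helper12.SylOASMCore
import Cfsg.Agent.Lib.Helper12.SylOBIGW
import Cfsg.Agent.Lib.Helper11.SylOSYL
import Cfsg.Agent.Lib.Helper6.SYLOORB
import Cfsg.Agent.Lib.Helper24.SylOCOMMON

/-!
# S4613 / SylO piece SYLO-ASM (helper12): the exact-name wrapper (all dependencies on main)
-/

set_option autoImplicit false

namespace Cfsg.Agent.Helper13.SylO

open Cfsg Cfsg.Agent.Helper2.WordLen Cfsg.Agent.Helper2.BN Cfsg.Agent.Helper17.BNCox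

section data
variable {H : Type*} [Group H] {P : Cfsg.BNPair H} {p : ℕ} [Fact p.Prime] (D : Data P p)

/-- PIECE SYLO-ASM. -/
theorem sylOpp_of_data [Finite H] (D : Data P p) : SylOpp p H :=
  sylo_asm_core D (Data.sylow D) rfl (Data.exists_conj D) (Data.inf_eq_bot_iff D) (Data.big_cell D)
    (Data.opp_of_mem D) (Data.mem_of_opp D) (common_opp P (π P D.n₀) D.hn₀)

end data

end Cfsg.Agent.Helper13.SylO
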