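import Mathlib
import Cfsg.Agent.Lib.Helper17.Sym4Defs

set_option autoImplicit false

/-! Piece E of S6000: explicit Clifford elements in the normaliser of the standard group `R0 i`. -/

namespace Cfsg.Agent.Helper12.Sym4E

open Matrix Cfsg.Agent.Helper17.Sym4

variable {F : Type*} [Field F]

/-- membership in the normaliser from matrix relations `y s = s' y` -/
theorem mem_norm_of_rel [Finite F] (i : Fˣ) (y s1 s2 s3 s4 : GL (Fin 4) F)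
    (hs1 : s1 ∈ R0 i) (hs2 : s2 ∈ R0 i) (hs3 : s3 ∈ R0 i) (hs4 : s4 ∈ R0 i)
    (h1 : (y : Matrix (Fin 4) (Fin 4) F) * A1m =
      (s1 : Matrix (Fin 4) (Fin 4) F) * (y : Matrix (Fin 4) (Fin 4) F))
    (h2 : (y : Matrix (Fin 4) (Fin 4) F) * A2m =
      (s2 : Matrix (Fin 4) (Fin 4) F) * (y : Matrix (Fin 4) (Fin 4) F))
    (h3 : (y : Matrix (Fin 4) (Fin 4) F) * B1m =
      (s3 : Matrix (Fin 4) (Fin 4) F) * (y : Matrix (Fin 4) (Fin 4) F))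
    (h4 : (y : Matrix (Fin 4) (Fin 4) F) * B2m =
      (s4 : Matrix (Fin 4) (Fin 4) F) * (y : Matrix (Fin 4) (Fin 4) F)) :
    y ∈ Subgroup.normalizer (R0 i : Set (GL (Fin 4) F)) := by
  have key : ∀ (X s : GL (Fin 4) F),
      (y : Matrix (Fin 4) (Fin 4) F) * (X : Matrix (Fin 4) (Fin 4) F) =
        (s : Matrix (Fin 4) (Fin 4) F) * (y : Matrix (Fin 4) (Fin 4) F) → y * X * y⁻¹ = s := by
    intro X s h
    have : y * X = s * y := Units.ext (by simpa only [Units.val_mul] using h)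
    rw [this, mul_inv_cancel_right]
  apply mem_normalizer_R0
  · rw [key A1 s1 h1]; exact hs1
  · rw [key A2 s2 h2]; exact hs2
  · rw [key B1 s3 h3]; exact hs3
  · rw [key B2 s4 h4]; exact hs4

/-! ### `d0` -/

def D0m : Matrix (Fin 4) (Fin 4) F := !![1,0,0,0; 0,1,0,0; 0,0,1,0; 0,0,0,-1]

theorem D0m_sq : (D0m : Matrix (Fin 4) (Fin 4) F) * D0m = 1 := by
  ext a b; fin_cases a <;> fin_cases b <;> simp [D0m, Matrix.mul_apply, Fin.sum_univ_four]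

def D0 : GL (Fin 4) F := ⟨D0m, D0m, D0m_sq, D0m_sq⟩

set_option linter.unusedVariables false in
theorem exists_d0 [Finite F] (i : Fˣ) (hi : (i : F) ^ 2 = -1) (h2 : (2 : F) ≠ 0) :
    ∃ y : GL (Fin 4) F, y ∈ Subgroup.normalizer (R0 i : Set (GL (Fin 4) F)) ∧
      (y : Matrix (Fin 4) (Fin 4) F) = !![1,0,0,0; 0,1,0,0; 0,0,1,0; 0,0,0,-1] := by
  refine ⟨D0, ?_, rfl⟩
  apply mem_norm_of_rel i D0 A1 A2 (A2 * B1) (A1 * B2) (A1_mem_R0 i) (A2_mem_R0 i)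
    (mul_mem (A2_mem_R0 i) (B1_mem_R0 i)) (mul_mem (A1_mem_R0 i) (B2_mem_R0 i))
  · show (D0m : Matrix (Fin 4) (Fin 4) F) * A1m = A1m * D0m
    ext a b; fin_cases a <;> fin_cases b <;>
      simp [D0m, A1m, Matrix.mul_apply, Fin.sum_univ_four]
  · show (D0m : Matrix (Fin 4) (Fin 4) F) * A2m = A2m * D0m
    ext a b; fin_cases a <;> fin_cases b <;>
      simp [D0m, A2m, Matrix.mul_apply, Fin.sum_univ_four]
  · show (D0m : Matrix (Fin 4) (Fin 4) F) * B1m = (A2m * B1m) * D0m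
    ext a b; fin_cases a <;> fin_cases b <;>
      simp [D0m, A2m, B1m, Matrix.mul_apply, Fin.sum_univ_four]
  · show (D0m : Matrix (Fin 4) (Fin 4) F) * B2m = (A1m * B2m) * D0m
    ext a b; fin_cases a <;> fin_cases b <;>
      simp [D0m, A1m, B2m, Matrix.mul_apply, Fin.sum_univ_four]

/-! ### `y0` -/

def Y0m (j : F) : Matrix (Fin 4) (Fin 4) F :=
  !![(-1+j)/2, 0, (-1+j)/2, 0; 0, (-1+j)/2, 0, (-1+j)/2;
     (1+j)/2, 0, (-1-j)/2, 0; 0, (1+j)/2, 0, (-1-j)/2]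

theorem Y0m_quad (j : F) (hj : j ^ 2 = -1) (h2 : (2 : F) ≠ 0) :
    Y0m j * Y0m j + Y0m j + 1 = 0 := by
  ext a b; fin_cases a <;> fin_cases b <;>
    simp [Y0m] <;> field_simp <;> ring_nf <;>
    simp only [hj] <;> ring

theorem Y0m_A1 (j : F) (hj : j ^ 2 = -1) (h2 : (2 : F) ≠ 0) :
    Y0m j * A1m = (j • (1 : Matrix (Fin 4) (Fin 4) F) * (A1m * B1m)) * Y0m j := by
  ext a b; fin_cases a <;> fin_cases b <;>
    simp [Y0m, A1m, B1m] <;> field_simp <;> ring_nf <;>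
    simp only [hj] <;> ring

theorem Y0m_A2 (j : F) : Y0m j * A2m = A2m * Y0m j := by
  ext a b; fin_cases a <;> fin_cases b <;> simp [Y0m, A2m]

theorem Y0m_B1 (j : F) : Y0m j * B1m = A1m * Y0m j := by
  ext a b; fin_cases a <;> fin_cases b <;> simp [Y0m, A1m, B1m] <;> ring

theorem Y0m_B2 (j : F) : Y0m j * B2m = B2m * Y0m j := by
  ext a b; fin_cases a <;> fin_cases b <;> simp [Y0m, B2m]

theorem Y0m_mul_inv (j : F) (hj : j ^ 2 = -1) (h2 : (2 : F) ≠ 0) :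
    Y0m j * (-Y0m j - 1) = 1 := by
  have h := Y0m_quad j hj h2
  have h' : Y0m j * Y0m j = -Y0m j - 1 := by
    rw [← sub_eq_zero]; rw [← h]; abel
  rw [mul_sub, mul_neg, mul_one, h']; abel

theorem Y0m_inv_mul (j : F) (hj : j ^ 2 = -1) (h2 : (2 : F) ≠ 0) :
    (-Y0m j - 1) * Y0m j = 1 := by
  have h := Y0m_quad j hj h2
  have h' : Y0m j * Y0m j = -Y0m j - 1 := by
    rw [← sub_eq_zero]; rw [← h]; abel
  rw [sub_mul, neg_mul, one_mul, h']; abel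

/-- the element `y0` -/
def Y0 (j : F) (hj : j ^ 2 = -1) (h2 : (2 : F) ≠ 0) : GL (Fin 4) F :=
  ⟨Y0m j, -Y0m j - 1, Y0m_mul_inv j hj h2, Y0m_inv_mul j hj h2⟩

theorem exists_y0 [Finite F] (i : Fˣ) (hi : (i : F) ^ 2 = -1) (h2 : (2 : F) ≠ 0) :
    ∃ y : GL (Fin 4) F, y ∈ Subgroup.normalizer (R0 i : Set (GL (Fin 4) F)) ∧
      (y : Matrix (Fin 4) (Fin 4) F) * (y : Matrix (Fin 4) (Fin 4) F) +
        (y : Matrix (Fin 4) (Fin 4) F) + 1 = 0 := by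
  refine ⟨Y0 (i : F) hi h2, ?_, Y0m_quad _ hi h2⟩
  apply mem_norm_of_rel i (Y0 (i : F) hi h2) (sc i * (A1 * B1)) A2 A1 B2
    (mul_mem (sc_mem_R0 i) (mul_mem (A1_mem_R0 i) (B1_mem_R0 i))) (A2_mem_R0 i)
    (A1_mem_R0 i) (B2_mem_R0 i)
  · exact Y0m_A1 _ hi h2
  · exact Y0m_A2 _
  · exact Y0m_B1 _
  · exact Y0m_B2 _

/-! ### `y1` -/

def Y1m (j : F) : Matrix (Fin 4) (Fin 4) F :=
  !![-j/2, -j/2, -j/2, -j/2; -1/2, 1/2, -1/2, 1/2; -1/2, -1/2, 1/2, 1/2; j/2, -j/2, -j/2, j/2]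

def Y1sq (j : F) : Matrix (Fin 4) (Fin 4) F :=
  !![j/2, -1/2, -1/2, -j/2; j/2, 1/2, -1/2, j/2; j/2, -1/2, 1/2, j/2; j/2, 1/2, 1/2, -j/2]

theorem Y1m_mul_self (j : F) (hj : j ^ 2 = -1) (h2 : (2 : F) ≠ 0) : Y1m j * Y1m j = Y1sq j := by
  ext a b; fin_cases a <;> fin_cases b <;>
    simp [Y1m, Y1sq] <;> field_simp <;> ring_nf <;>
    simp only [hj] <;> ring

theorem Y1m_mul_sq (j : F) (hj : j ^ 2 = -1) (h2 : (2 : F) ≠ 0) : Y1m j * Y1sq j = 1 := by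
  ext a b; fin_cases a <;> fin_cases b <;>
    simp [Y1m, Y1sq] <;> field_simp <;> ring_nf <;>
    simp only [hj] <;> ring

theorem Y1sq_mul (j : F) (hj : j ^ 2 = -1) (h2 : (2 : F) ≠ 0) : Y1sq j * Y1m j = 1 := by
  ext a b; fin_cases a <;> fin_cases b <;>
    simp [Y1m, Y1sq] <;> field_simp <;> ring_nf <;>
    simp only [hj] <;> ring

theorem Y1m_A1 (j : F) (hj : j ^ 2 = -1) (h2 : (2 : F) ≠ 0) :
    Y1m j * A1m = (j • (1 : Matrix (Fin 4) (Fin 4) F) * (A1m * B1m)) * Y1m j := by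
  ext a b; fin_cases a <;> fin_cases b <;>
    simp [Y1m, A1m, B1m] <;> field_simp <;> ring_nf <;>
    simp only [hj] <;> ring

theorem Y1m_A2 (j : F) (hj : j ^ 2 = -1) (h2 : (2 : F) ≠ 0) :
    Y1m j * A2m = (j • (1 : Matrix (Fin 4) (Fin 4) F) * (A2m * B2m)) * Y1m j := by
  ext a b; fin_cases a <;> fin_cases b <;>
    simp [Y1m, A2m, B2m] <;> field_simp <;> ring_nf <;>
    simp only [hj] <;> ring

theorem Y1m_B1 (j : F) : Y1m j * B1m = A1m * Y1m j := by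
  ext a b; fin_cases a <;> fin_cases b <;> simp [Y1m, A1m, B1m] <;> ring

theorem Y1m_B2 (j : F) : Y1m j * B2m = A2m * Y1m j := by
  ext a b; fin_cases a <;> fin_cases b <;> simp [Y1m, A2m, B2m] <;> ring

/-- the element `y1` -/
def Y1 (j : F) (hj : j ^ 2 = -1) (h2 : (2 : F) ≠ 0) : GL (Fin 4) F :=
  ⟨Y1m j, Y1sq j, Y1m_mul_sq j hj h2, Y1sq_mul j hj h2⟩

theorem exists_y1 [Finite F] (i : Fˣ) (hi : (i : F) ^ 2 = -1) (h2 : (2 : F) ≠ 0) :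
    ∃ y : GL (Fin 4) F, y ∈ Subgroup.normalizer (R0 i : Set (GL (Fin 4) F)) ∧ y ^ 3 = 1 ∧ y ≠ 1 ∧
      ∃ v : Fin 4 → F, v ≠ 0 ∧ (y : Matrix (Fin 4) (Fin 4) F).mulVec v = v := by
  refine ⟨Y1 (i : F) hi h2, ?_, ?_, ?_, ![0, -1, 1, 0], ?_, ?_⟩
  · apply mem_norm_of_rel i (Y1 (i : F) hi h2) (sc i * (A1 * B1)) (sc i * (A2 * B2)) A1 A2
      (mul_mem (sc_mem_R0 i) (mul_mem (A1_mem_R0 i) (B1_mem_R0 i)))
      (mul_mem (sc_mem_R0 i) (mul_mem (A2_mem_R0 i) (B2_mem_R0 i)))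
      (A1_mem_R0 i) (A2_mem_R0 i)
    · exact Y1m_A1 _ hi h2
    · exact Y1m_A2 _ hi h2
    · exact Y1m_B1 _
    · exact Y1m_B2 _
  · apply Units.ext
    rw [Units.val_pow_eq_pow_val]
    show Y1m (i : F) ^ 3 = 1
    rw [pow_succ, pow_two, Y1m_mul_self _ hi h2, Y1sq_mul _ hi h2]
  · intro h
    have h1 := congrArg (fun y : GL (Fin 4) F => (y : Matrix (Fin 4) (Fin 4) F) 0 1) h
    simp only [Y1, Y1m, Units.val_one] at h1
    have h3 : -(i : F) / 2 = 0 := by simpa using h1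
    have h4 : (i : F) = 0 := by
      rcases div_eq_zero_iff.1 h3 with h | h
      · exact neg_eq_zero.1 h
      · exact absurd h h2
    exact i.ne_zero h4
  · intro h
    have := congrFun h 2
    simp at this
  · show (Y1m (i : F)).mulVec ![0, -1, 1, 0] = ![0, -1, 1, 0]
    ext a; fin_cases a <;> simp [Y1m, Matrix.mulVec, dotProduct, Fin.sum_univ_four] <;>
      field_simp <;> ring

/-! ### `y5` -/

def Y5m (j : F) : Matrix (Fin 4) (Fin 4) F :=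
  !![1, 0, 0, j; 0, j, -1, 0; 1, 0, 0, -j; 0, j, 1, 0]

def Y5sq (j : F) : Matrix (Fin 4) (Fin 4) F :=
  !![1, -1, j, j; -1, -1, -j, j; 1, 1, -j, j; 1, -1, -j, -j]

def Y5q4 (j : F) : Matrix (Fin 4) (Fin 4) F :=
  !![2+2*j, 0, 2+2*j, 0; 0, 2-2*j, 0, 2-2*j; 0, -2-2*j, 0, 2+2*j; 2-2*j, 0, -2+2*j, 0]

theorem Y5m_mul_self (j : F) (hj : j ^ 2 = -1) : Y5m j * Y5m j = Y5sq j := by
  ext a b; fin_cases a <;> fin_cases b <;>
    simp [Y5m, Y5sq] <;> ring_nf <;> simp only [hj] <;> ring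

theorem Y5sq_mul_self (j : F) (hj : j ^ 2 = -1) : Y5sq j * Y5sq j = Y5q4 j := by
  ext a b; fin_cases a <;> fin_cases b <;>
    simp [Y5q4, Y5sq] <;> ring_nf <;> simp only [hj] <;> ring

theorem Y5m_mul_q4 (j : F) (hj : j ^ 2 = -1) :
    Y5m j * Y5q4 j = (4 + 4 * j) • (1 : Matrix (Fin 4) (Fin 4) F) := by
  ext a b; fin_cases a <;> fin_cases b <;>
    simp [Y5m, Y5q4] <;> ring_nf <;> simp only [hj] <;> ring

theorem Y5q4_mul (j : F) (hj : j ^ 2 = -1) :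
    Y5q4 j * Y5m j = (4 + 4 * j) • (1 : Matrix (Fin 4) (Fin 4) F) := by
  ext a b; fin_cases a <;> fin_cases b <;>
    simp [Y5m, Y5q4] <;> ring_nf <;> simp only [hj] <;> ring

theorem four_ne_zero' (j : F) (hj : j ^ 2 = -1) (h2 : (2 : F) ≠ 0) : (4 + 4 * j : F) ≠ 0 := by
  intro h
  have h1 : (4 + 4 * j) * (4 - 4 * j) = (2 : F) ^ 5 := by
    have : (4 + 4 * j) * (4 - 4 * j) = 16 - 16 * j ^ 2 := by ring
    rw [this, hj]; norm_num
  rw [h, zero_mul] at h1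
  exact pow_ne_zero 5 h2 h1.symm

theorem Y5m_A1 (j : F) : Y5m j * A1m = B1m * Y5m j := by
  ext a b; fin_cases a <;> fin_cases b <;> simp [Y5m, A1m, B1m]

theorem Y5m_A2 (j : F) : Y5m j * A2m = (A2m * B1m) * Y5m j := by
  ext a b; fin_cases a <;> fin_cases b <;> simp [Y5m, A2m, B1m]

theorem Y5m_B1 (j : F) : Y5m j * B1m = (A1m * A2m * B1m * B2m) * Y5m j := by
  ext a b; fin_cases a <;> fin_cases b <;> simp [Y5m, A1m, A2m, B1m, B2m]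

theorem Y5m_B2 (j : F) (hj : j ^ 2 = -1) :
    Y5m j * B2m = (j • (1 : Matrix (Fin 4) (Fin 4) F) * (j • (1 : Matrix (Fin 4) (Fin 4) F)) *
      (j • (1 : Matrix (Fin 4) (Fin 4) F)) * (A2m * B2m)) * Y5m j := by
  have hj3 : j ^ 3 = -j := by rw [pow_succ, hj]; ring
  have hj4 : j ^ 4 = 1 := by
    have : j ^ 4 = (j ^ 2) ^ 2 := by ring
    rw [this, hj]; ring
  ext a b; fin_cases a <;> fin_cases b <;>
    simp [Y5m, A2m, B2m] <;> ring_nf <;> simp only [hj, hj3, hj4] <;> ring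

/-- the element `y5` -/
def Y5 (j : F) (hj : j ^ 2 = -1) (h2 : (2 : F) ≠ 0) : GL (Fin 4) F :=
  ⟨Y5m j, (4 + 4 * j)⁻¹ • Y5q4 j, by
    rw [Matrix.mul_smul, Y5m_mul_q4 j hj, smul_smul, inv_mul_cancel₀ (four_ne_zero' j hj h2),
      one_smul], by
    rw [Matrix.smul_mul, Y5q4_mul j hj, smul_smul, inv_mul_cancel₀ (four_ne_zero' j hj h2),
      one_smul]⟩

theorem exists_y5 [Finite F] (i : Fˣ) (hi : (i : F) ^ 2 = -1) (h2 : (2 : F) ≠ 0) :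
    ∃ y : GL (Fin 4) F, y ∈ Subgroup.normalizer (R0 i : Set (GL (Fin 4) F)) ∧
      (∃ c : F, ((y ^ 5 : GL (Fin 4) F) : Matrix (Fin 4) (Fin 4) F) = c • 1) ∧
      (∀ c : F, (y : Matrix (Fin 4) (Fin 4) F) ≠ c • 1) := by
  refine ⟨Y5 (i : F) hi h2, ?_, ⟨4 + 4 * (i : F), ?_⟩, ?_⟩
  · apply mem_norm_of_rel i (Y5 (i : F) hi h2) B1 (A2 * B1) (A1 * A2 * B1 * B2)
      (sc i * sc i * sc i * (A2 * B2)) (B1_mem_R0 i) (mul_mem (A2_mem_R0 i) (B1_mem_R0 i))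
      (mul_mem (mul_mem (mul_mem (A1_mem_R0 i) (A2_mem_R0 i)) (B1_mem_R0 i)) (B2_mem_R0 i))
      (mul_mem (mul_mem (mul_mem (sc_mem_R0 i) (sc_mem_R0 i)) (sc_mem_R0 i))
        (mul_mem (A2_mem_R0 i) (B2_mem_R0 i)))
    · exact Y5m_A1 _
    · exact Y5m_A2 _
    · exact Y5m_B1 _
    · exact Y5m_B2 _ hi
  · rw [Units.val_pow_eq_pow_val]
    show Y5m (i : F) ^ 5 = _
    have h5 : Y5m (i : F) ^ 5 = Y5m (i : F) * ((Y5m (i : F) * Y5m (i : F)) *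
        (Y5m (i : F) * Y5m (i : F))) := by
      simp only [pow_succ, pow_zero, one_mul, mul_assoc]
    rw [h5, Y5m_mul_self _ hi, Y5sq_mul_self _ hi, Y5m_mul_q4 _ hi]
  · intro c h
    have h1 := congrFun (congrFun h 0) 3
    have h3 : (i : F) = 0 := by simpa [Y5, Y5m] using h1
    exact i.ne_zero h3

end Cfsg.Agent.Helper12.Sym4E
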