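import Mathlib
import Cfsg.Agent.Lib.Helper24.CharComplete
import Cfsg.Agent.Lib.Helper24.CharOrtho
import Cfsg.Agent.Lib.Helper24.CharInduced
import Cfsg.Agent.Lib.Helper24.CharLinear
import Cfsg.Agent.Lib.Helper14.TC27Defs
import Cfsg.Agent.Lib.Helper14.TC27Core

/-!
# S3701 piece NORM2 (helper12 for helper14): `(θ, θ) = 2`
-/

set_option autoImplicit false
set_option linter.unusedSectionVars false
set_option linter.unusedVariables false

namespace Cfsg.Agent.Helper14.TC27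

open Cfsg Cfsg.Agent.Helper24
open scoped ComplexConjugate

universe u v

section Chr

variable {G : Type u} [Group G] [Fintype G] {T : Sylow 3 G}

/-- conjugation `t ↦ n⁻¹ t n` on `T` by an element of the normalizer -/
def norm2_cj (n : G) (hn : n ∈ Subgroup.normalizer ((T : Subgroup G) : Set G)) :
    ↥(T : Subgroup G) →* ↥(T : Subgroup G) where
  toFun t := ⟨n⁻¹ * (t : G) * n, (Subgroup.mem_normalizer_iff''.mp hn _).mp t.2⟩
  map_one' := by apply Subtype.ext; simp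
  map_mul' x y := by apply Subtype.ext; simp [mul_assoc]

theorem norm2_cj_coe (n : G) (hn : n ∈ Subgroup.normalizer ((T : Subgroup G) : Set G))
    (t : ↥(T : Subgroup G)) : ((norm2_cj n hn t : ↥(T : Subgroup G)) : G) = n⁻¹ * (t : G) * n := rfl

theorem norm2_E_mem (c : Cfg T) (i : Fin 4) :
    c.E i ∈ Subgroup.normalizer ((T : Subgroup G) : Set G) := by
  fin_cases i
  · exact one_mem _
  · exact c.ha
  · exact c.hb
  · exact mul_mem c.ha c.hb

theorem norm2_a_inv (c : Cfg T) : c.a⁻¹ = c.a := inv_eq_of_mul_eq_one_left c.rel.aa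

theorem norm2_b_inv (c : Cfg T) : c.b⁻¹ = c.b := inv_eq_of_mul_eq_one_left c.rel.bb

theorem norm2_a1 (c : Cfg T) : c.a⁻¹ * c.t1 * c.a = c.t1⁻¹ := by
  have h := c.rel.a1
  rw [norm2_a_inv] at h ⊢
  exact h

theorem norm2_a2 (c : Cfg T) : c.a⁻¹ * c.t2 * c.a = c.t2⁻¹ := by
  have h := c.rel.a2
  rw [norm2_a_inv] at h ⊢
  exact h

theorem norm2_a3 (c : Cfg T) : c.a⁻¹ * c.t3 * c.a = c.t3 := by
  have h := c.rel.a3
  rw [norm2_a_inv] at h ⊢
  exact h

theorem norm2_b1 (c : Cfg T) : c.b⁻¹ * c.t1 * c.b = c.t1⁻¹ := by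
  have h := c.rel.b1
  rw [norm2_b_inv] at h ⊢
  exact h

theorem norm2_b2 (c : Cfg T) : c.b⁻¹ * c.t2 * c.b = c.t2 := by
  have h := c.rel.b2
  rw [norm2_b_inv] at h ⊢
  exact h

theorem norm2_b3 (c : Cfg T) : c.b⁻¹ * c.t3 * c.b = c.t3⁻¹ := by
  have h := c.rel.b3
  rw [norm2_b_inv] at h ⊢
  exact h

theorem norm2_ab1 (c : Cfg T) : (c.a * c.b)⁻¹ * c.t1 * (c.a * c.b) = c.t1 := by
  have e : (c.a * c.b)⁻¹ * c.t1 * (c.a * c.b) = c.b⁻¹ * (c.a⁻¹ * c.t1 * c.a) * c.b := by group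
  rw [e, norm2_a1]
  have e2 : c.b⁻¹ * c.t1⁻¹ * c.b = (c.b⁻¹ * c.t1 * c.b)⁻¹ := by group
  rw [e2, norm2_b1, inv_inv]

theorem norm2_ab2 (c : Cfg T) : (c.a * c.b)⁻¹ * c.t2 * (c.a * c.b) = c.t2⁻¹ := by
  have e : (c.a * c.b)⁻¹ * c.t2 * (c.a * c.b) = c.b⁻¹ * (c.a⁻¹ * c.t2 * c.a) * c.b := by group
  rw [e, norm2_a2]
  have e2 : c.b⁻¹ * c.t2⁻¹ * c.b = (c.b⁻¹ * c.t2 * c.b)⁻¹ := by group
  rw [e2, norm2_b2]

theorem norm2_ab3 (c : Cfg T) : (c.a * c.b)⁻¹ * c.t3 * (c.a * c.b) = c.t3⁻¹ := by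
  have e : (c.a * c.b)⁻¹ * c.t3 * (c.a * c.b) = c.b⁻¹ * (c.a⁻¹ * c.t3 * c.a) * c.b := by group
  rw [e, norm2_a3, norm2_b3]

/-- value of a linear character at a conjugate which is the inverse -/
theorem norm2_val_inv (f : ↥(T : Subgroup G) →* ℂˣ) (n : G)
    (hn : n ∈ Subgroup.normalizer ((T : Subgroup G) : Set G)) (t : G) (ht : t ∈ (T : Subgroup G))
    (h : n⁻¹ * t * n = t⁻¹) :
    ((f (norm2_cj n hn ⟨t, ht⟩) : ℂˣ) : ℂ) = ((f ⟨t, ht⟩ : ℂˣ) : ℂ)⁻¹ := by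
  have e : norm2_cj n hn ⟨t, ht⟩ = (⟨t, ht⟩ : ↥(T : Subgroup G))⁻¹ := by
    apply Subtype.ext
    rw [norm2_cj_coe]
    exact h
  rw [e, map_inv, Units.val_inv_eq_inv_val]

/-- value of a linear character at a conjugate which is the element itself -/
theorem norm2_val_fix (f : ↥(T : Subgroup G) →* ℂˣ) (n : G)
    (hn : n ∈ Subgroup.normalizer ((T : Subgroup G) : Set G)) (t : G) (ht : t ∈ (T : Subgroup G))
    (h : n⁻¹ * t * n = t) :
    ((f (norm2_cj n hn ⟨t, ht⟩) : ℂˣ) : ℂ) = ((f ⟨t, ht⟩ : ℂˣ) : ℂ) := by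
  have e : norm2_cj n hn ⟨t, ht⟩ = (⟨t, ht⟩ : ↥(T : Subgroup G)) := by
    apply Subtype.ext
    rw [norm2_cj_coe]
    exact h
  rw [e]

theorem norm2_inner_ne [Fintype ↥(T : Subgroup G)] (f f' : ↥(T : Subgroup G) →* ℂˣ)
    (x : ↥(T : Subgroup G)) (hx : ((f x : ℂˣ) : ℂ) ≠ ((f' x : ℂˣ) : ℂ)) :
    classInner (fun t => ((f t : ℂˣ) : ℂ)) (fun t => ((f' t : ℂˣ) : ℂ)) = 0 := by
  rw [irr_orthogonality (isIrrCharacter_of_monoidHom f) (isIrrCharacter_of_monoidHom f'), if_neg]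
  intro h
  exact hx (congrFun h x)

theorem norm2_inner_self [Fintype ↥(T : Subgroup G)] (f : ↥(T : Subgroup G) →* ℂˣ) :
    classInner (fun t => ((f t : ℂˣ) : ℂ)) (fun t => ((f t : ℂˣ) : ℂ)) = 1 := by
  rw [irr_orthogonality (isIrrCharacter_of_monoidHom f) (isIrrCharacter_of_monoidHom f), if_pos rfl]

theorem norm2_inner_sub_sub {H : Type u} [Group H] [Fintype H] (a b c d : H → ℂ) :
    classInner (fun t => a t - b t) (fun t => c t - d t) =
      classInner a c - classInner a d - classInner b c + classInner b d := by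
  unfold classInner
  simp only [map_sub, mul_sub, sub_mul, Finset.sum_sub_distrib]
  ring

theorem norm2_omega_ne_inv {c : Cfg T} (l : Lin c) : l.ω ≠ l.ω⁻¹ := by
  intro h
  rw [l.omega_inv] at h
  have h1 : l.ω * (l.ω - 1) = 0 := by linear_combination -h
  rcases mul_eq_zero.mp h1 with h2 | h2
  · exact l.omega_ne_zero h2
  · exact l.omega_ne_one (by linear_combination h2)

/-- the inner product of `δ` with its conjugate under `E i` -/
theorem norm2_inner_cj [Fintype ↥(T : Subgroup G)] (c : Cfg T) (l : Lin c) (i : Fin 4) :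
    classInner l.δ (fun t => l.δ (norm2_cj (c.E i) (norm2_E_mem c i) t)) = if i = 0 then 2 else 0 := by
  have hexp : classInner l.δ (fun t => l.δ (norm2_cj (c.E i) (norm2_E_mem c i) t)) =
      classInner (fun t => ((l.μ t : ℂˣ) : ℂ))
          (fun t => (((l.μ.comp (norm2_cj (c.E i) (norm2_E_mem c i))) t : ℂˣ) : ℂ)) -
        classInner (fun t => ((l.μ t : ℂˣ) : ℂ))
          (fun t => (((l.ν.comp (norm2_cj (c.E i) (norm2_E_mem c i))) t : ℂˣ) : ℂ)) -
        classInner (fun t => ((l.ν t : ℂˣ) : ℂ))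
          (fun t => (((l.μ.comp (norm2_cj (c.E i) (norm2_E_mem c i))) t : ℂˣ) : ℂ)) +
        classInner (fun t => ((l.ν t : ℂˣ) : ℂ))
          (fun t => (((l.ν.comp (norm2_cj (c.E i) (norm2_E_mem c i))) t : ℂˣ) : ℂ)) := by
    rw [← norm2_inner_sub_sub]
    rfl
  rw [hexp]
  have hw1 := l.omega_ne_one
  have hwi := norm2_omega_ne_inv l
  -- the mixed terms always vanish
  have hmn : ∀ j : Fin 4, classInner (fun t => ((l.μ t : ℂˣ) : ℂ))
      (fun t => (((l.ν.comp (norm2_cj (c.E j) (norm2_E_mem c j))) t : ℂˣ) : ℂ)) = 0 := by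
    intro j
    apply norm2_inner_ne _ _ ⟨c.t2, c.ht2⟩
    rw [l.μ2, MonoidHom.comp_apply]
    fin_cases j
    · rw [norm2_val_fix l.ν _ _ c.t2 c.ht2 (by simp [Cfg.E]), l.ν2]; exact hw1
    · rw [norm2_val_inv l.ν _ _ c.t2 c.ht2 (by simpa [Cfg.E] using norm2_a2 c), l.ν2, inv_one]
      exact hw1
    · rw [norm2_val_fix l.ν _ _ c.t2 c.ht2 (by simpa [Cfg.E] using norm2_b2 c), l.ν2]; exact hw1
    · rw [norm2_val_inv l.ν _ _ c.t2 c.ht2 (by simpa [Cfg.E] using norm2_ab2 c), l.ν2, inv_one]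
      exact hw1
  have hnm : ∀ j : Fin 4, classInner (fun t => ((l.ν t : ℂˣ) : ℂ))
      (fun t => (((l.μ.comp (norm2_cj (c.E j) (norm2_E_mem c j))) t : ℂˣ) : ℂ)) = 0 := by
    intro j
    apply norm2_inner_ne _ _ ⟨c.t3, c.ht3⟩
    rw [l.ν3, MonoidHom.comp_apply]
    fin_cases j
    · rw [norm2_val_fix l.μ _ _ c.t3 c.ht3 (by simp [Cfg.E]), l.μ3]; exact hw1
    · rw [norm2_val_fix l.μ _ _ c.t3 c.ht3 (by simpa [Cfg.E] using norm2_a3 c), l.μ3]; exact hw1
    · rw [norm2_val_inv l.μ _ _ c.t3 c.ht3 (by simpa [Cfg.E] using norm2_b3 c), l.μ3, inv_one]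
      exact hw1
    · rw [norm2_val_inv l.μ _ _ c.t3 c.ht3 (by simpa [Cfg.E] using norm2_ab3 c), l.μ3, inv_one]
      exact hw1
  rw [hmn i, hnm i]
  fin_cases i
  · -- `E 0 = 1`
    have e : norm2_cj (c.E 0) (norm2_E_mem c 0) = MonoidHom.id ↥(T : Subgroup G) := by
      ext t
      rw [norm2_cj_coe]
      simp [Cfg.E]
    simp only [Fin.zero_eta, Fin.isValue, e, MonoidHom.comp_id, if_true]
    rw [norm2_inner_self, norm2_inner_self]
    norm_num
  · have h1 : classInner (fun t => ((l.μ t : ℂˣ) : ℂ))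
        (fun t => (((l.μ.comp (norm2_cj (c.E 1) (norm2_E_mem c 1))) t : ℂˣ) : ℂ)) = 0 := by
      apply norm2_inner_ne _ _ ⟨c.t1, c.ht1⟩
      rw [l.μ1, MonoidHom.comp_apply,
        norm2_val_inv l.μ _ _ c.t1 c.ht1 (by simpa [Cfg.E] using norm2_a1 c), l.μ1]
      exact hwi
    have h2 : classInner (fun t => ((l.ν t : ℂˣ) : ℂ))
        (fun t => (((l.ν.comp (norm2_cj (c.E 1) (norm2_E_mem c 1))) t : ℂˣ) : ℂ)) = 0 := by
      apply norm2_inner_ne _ _ ⟨c.t1, c.ht1⟩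
      rw [l.ν1, MonoidHom.comp_apply,
        norm2_val_inv l.ν _ _ c.t1 c.ht1 (by simpa [Cfg.E] using norm2_a1 c), l.ν1]
      exact hwi
    simp only [Fin.mk_one, Fin.isValue, h1, h2]
    rw [if_neg (by decide)]
    norm_num
  · have h1 : classInner (fun t => ((l.μ t : ℂˣ) : ℂ))
        (fun t => (((l.μ.comp (norm2_cj (c.E 2) (norm2_E_mem c 2))) t : ℂˣ) : ℂ)) = 0 := by
      apply norm2_inner_ne _ _ ⟨c.t1, c.ht1⟩
      rw [l.μ1, MonoidHom.comp_apply,
        norm2_val_inv l.μ _ _ c.t1 c.ht1 (by simpa [Cfg.E] using norm2_b1 c), l.μ1]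
      exact hwi
    have h2 : classInner (fun t => ((l.ν t : ℂˣ) : ℂ))
        (fun t => (((l.ν.comp (norm2_cj (c.E 2) (norm2_E_mem c 2))) t : ℂˣ) : ℂ)) = 0 := by
      apply norm2_inner_ne _ _ ⟨c.t1, c.ht1⟩
      rw [l.ν1, MonoidHom.comp_apply,
        norm2_val_inv l.ν _ _ c.t1 c.ht1 (by simpa [Cfg.E] using norm2_b1 c), l.ν1]
      exact hwi
    simp only [Fin.reduceFinMk, Fin.isValue, h1, h2]
    rw [if_neg (by decide)]
    norm_num
  · have h1 : classInner (fun t => ((l.μ t : ℂˣ) : ℂ))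
        (fun t => (((l.μ.comp (norm2_cj (c.E 3) (norm2_E_mem c 3))) t : ℂˣ) : ℂ)) = 0 := by
      apply norm2_inner_ne _ _ ⟨c.t2, c.ht2⟩
      rw [l.μ2, MonoidHom.comp_apply,
        norm2_val_inv l.μ _ _ c.t2 c.ht2 (by simpa [Cfg.E] using norm2_ab2 c), l.μ2]
      exact hwi
    have h2 : classInner (fun t => ((l.ν t : ℂˣ) : ℂ))
        (fun t => (((l.ν.comp (norm2_cj (c.E 3) (norm2_E_mem c 3))) t : ℂˣ) : ℂ)) = 0 := by
      apply norm2_inner_ne _ _ ⟨c.t3, c.ht3⟩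
      rw [l.ν3, MonoidHom.comp_apply,
        norm2_val_inv l.ν _ _ c.t3 c.ht3 (by simpa [Cfg.E] using norm2_ab3 c), l.ν3]
      exact hwi
    simp only [Fin.reduceFinMk, Fin.isValue, h1, h2]
    rw [if_neg (by decide)]
    norm_num

/-- PIECE NORM2: `(θ, θ) = 2` -/
theorem norm_theta (h : Hyp T) (c : Cfg T) (l : Lin c)
    (hval : ∀ t ∈ (T : Subgroup G), t ≠ 1 →
      l.θ t = ∑ i : Fin 4, extendByZero (T : Subgroup G) l.δ ((c.E i)⁻¹ * t * c.E i)) :
    classInner l.θ l.θ = 2 := by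
  classical
  letI : Fintype ↥(T : Subgroup G) := Fintype.ofFinite _
  have hcf : IsClassFunction G l.θ := isClassFunction_indFun (T : Subgroup G) l.δ
  have hA : classInner l.θ l.θ = classInner l.δ (fun t : ↥(T : Subgroup G) => l.θ (t : G)) :=
    frobenius_reciprocity (T : Subgroup G) l.δ hcf
  have hB : classInner l.δ (fun t : ↥(T : Subgroup G) => l.θ (t : G)) =
      classInner l.δ (∑ i : Fin 4, fun t => l.δ (norm2_cj (c.E i) (norm2_E_mem c i) t)) := by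
    unfold classInner
    congr 1
    refine Finset.sum_congr rfl fun t _ => ?_
    by_cases ht : t = 1
    · rw [ht, l.delta_one, zero_mul, zero_mul]
    · have ht' : (t : G) ≠ 1 := fun h1 => ht (Subtype.ext h1)
      beta_reduce
      rw [hval t t.2 ht', Finset.sum_apply]
      congr 2
      refine Finset.sum_congr rfl fun i _ => ?_
      have hm : (c.E i)⁻¹ * (t : G) * c.E i ∈ (T : Subgroup G) :=
        (norm2_cj (c.E i) (norm2_E_mem c i) t).2
      rw [extendByZero_of_mem _ _ hm]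
      rfl
  rw [hA, hB, classInner_sum_right]
  rw [Finset.sum_congr rfl (fun i _ => norm2_inner_cj c l i)]
  simp [Fin.sum_univ_four]

end Chr

end Cfsg.Agent.Helper14.TC27
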