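import Mathlib
import Cfsg.Agent.Lib.Helper14.TC27Defs
import Cfsg.Agent.Lib.Helper14.TC27Core

/-!
# S3701 piece SUMZ (helper12 for helper14): `∑_{z ∈ T} δ(z) a_{t1 t2 z} = 3 K`
-/

set_option autoImplicit false
set_option linter.unusedSectionVars false
set_option linter.unusedVariables false

namespace Cfsg.Agent.Helper14.TC27

open Cfsg
open scoped ComplexConjugate

universe u v

section Chr

variable {G : Type u} [Group G] [Fintype G] {T : Sylow 3 G}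

/-- the four elements `t1^{±1} t2^{±1}` of `T` -/
def sumz_pt (c : Cfg T) (p : Fin 2 × Fin 2) : ↥(T : Subgroup G) :=
  ⟨c.t1 ^ ((p.1 : ℕ) + 1) * c.t2 ^ ((p.2 : ℕ) + 1),
    mul_mem (pow_mem c.ht1 _) (pow_mem c.ht2 _)⟩

theorem sumz_pt_injective (c : Cfg T) : Function.Injective (sumz_pt c) := by
  intro p q hpq
  have h1 : c.t1 ^ ((p.1 : ℕ) + 1) * c.t2 ^ ((p.2 : ℕ) + 1) =
      c.t1 ^ ((q.1 : ℕ) + 1) * c.t2 ^ ((q.2 : ℕ) + 1) := congrArg Subtype.val hpq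
  have hp1 : (p.1 : ℕ) + 1 < 3 := by have := p.1.2; omega
  have hp2 : (p.2 : ℕ) + 1 < 3 := by have := p.2.2; omega
  have hq1 : (q.1 : ℕ) + 1 < 3 := by have := q.1.2; omega
  have hq2 : (q.2 : ℕ) + 1 < 3 := by have := q.2.2; omega
  have h2 := c.rel.inj ⟨(p.1 : ℕ) + 1, hp1⟩ ⟨(p.2 : ℕ) + 1, hp2⟩ 0 ⟨(q.1 : ℕ) + 1, hq1⟩
    ⟨(q.2 : ℕ) + 1, hq2⟩ 0 (by simpa using h1)
  obtain ⟨e1, e2, -⟩ := h2
  have e1' : (p.1 : ℕ) + 1 = (q.1 : ℕ) + 1 := congrArg Fin.val e1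
  have e2' : (p.2 : ℕ) + 1 = (q.2 : ℕ) + 1 := congrArg Fin.val e2
  apply Prod.ext
  · apply Fin.ext; omega
  · apply Fin.ext; omega

theorem sumz_delta_pt (c : Cfg T) (l : Lin c) (p : Fin 2 × Fin 2) :
    l.δ (sumz_pt c p) = l.ω ^ ((p.1 : ℕ) + 1 + ((p.2 : ℕ) + 1)) - l.ω ^ ((p.1 : ℕ) + 1) := by
  have hm : c.t1 ^ ((p.1 : ℕ) + 1) * c.t2 ^ ((p.2 : ℕ) + 1) * c.t3 ^ 0 ∈ (T : Subgroup G) := by
    rw [pow_zero, mul_one]
    exact (sumz_pt c p).2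
  have h := l.delta_apply ((p.1 : ℕ) + 1) ((p.2 : ℕ) + 1) 0 hm
  have e : (⟨c.t1 ^ ((p.1 : ℕ) + 1) * c.t2 ^ ((p.2 : ℕ) + 1) * c.t3 ^ 0, hm⟩ :
      ↥(T : Subgroup G)) = sumz_pt c p := by
    apply Subtype.ext
    simp [sumz_pt]
  rw [e] at h
  rw [h, add_zero]

/-- PIECE SUMZ: `∑_{z ∈ T} δ(z) a_{t1 t2 z} = 3 K` (only the four `z = t1^{±1} t2^{±1}` contribute, `δ(1) = 0`) -/
theorem sum_delta_count (h : Hyp T) (c : Cfg T) (l : Lin c) [Fintype ↥(T : Subgroup G)] (K : ℕ)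
    (hpos : ∀ i j : Fin 2,
      Nat.card {p : G × G // (p.1 * c.t1 * p.1⁻¹) * (p.2 * c.t2 * p.2⁻¹) =
        c.t1 ^ ((i : ℕ) + 1) * c.t2 ^ ((j : ℕ) + 1)} = K)
    (hzero : ∀ z ∈ (T : Subgroup G), z ≠ 1 →
      (∀ i j : Fin 2, z ≠ c.t1 ^ ((i : ℕ) + 1) * c.t2 ^ ((j : ℕ) + 1)) →
      Nat.card {p : G × G // (p.1 * c.t1 * p.1⁻¹) * (p.2 * c.t2 * p.2⁻¹) = z} = 0) :
    ∑ z : ↥(T : Subgroup G), l.δ z *
      (Nat.card {p : G × G // (p.1 * c.t1 * p.1⁻¹) * (p.2 * c.t2 * p.2⁻¹) = (z : G)} : ℂ) = 3 * (K : ℂ) := by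
  classical
  have hsub : ∑ z ∈ (Finset.univ : Finset (Fin 2 × Fin 2)).image (sumz_pt c), l.δ z *
      (Nat.card {p : G × G // (p.1 * c.t1 * p.1⁻¹) * (p.2 * c.t2 * p.2⁻¹) = (z : G)} : ℂ) =
      ∑ z : ↥(T : Subgroup G), l.δ z *
      (Nat.card {p : G × G // (p.1 * c.t1 * p.1⁻¹) * (p.2 * c.t2 * p.2⁻¹) = (z : G)} : ℂ) := by
    apply Finset.sum_subset (Finset.subset_univ _)
    intro z _ hz
    by_cases hz1 : z = 1
    · rw [hz1, l.delta_one, zero_mul]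
    · have hne : ∀ i j : Fin 2, (z : G) ≠ c.t1 ^ ((i : ℕ) + 1) * c.t2 ^ ((j : ℕ) + 1) := by
        intro i j hij
        apply hz
        rw [Finset.mem_image]
        refine ⟨(i, j), Finset.mem_univ _, ?_⟩
        apply Subtype.ext
        rw [hij]
        rfl
      have hz1' : (z : G) ≠ 1 := fun h1 => hz1 (Subtype.ext h1)
      rw [hzero z z.2 hz1' hne, Nat.cast_zero, mul_zero]
  rw [← hsub, Finset.sum_image (fun p _ q _ hpq => sumz_pt_injective c hpq)]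
  have hterm : ∀ p : Fin 2 × Fin 2, l.δ (sumz_pt c p) *
      (Nat.card {q : G × G // (q.1 * c.t1 * q.1⁻¹) * (q.2 * c.t2 * q.2⁻¹) =
        ((sumz_pt c p : ↥(T : Subgroup G)) : G)} : ℂ) =
      (l.ω ^ ((p.1 : ℕ) + 1 + ((p.2 : ℕ) + 1)) - l.ω ^ ((p.1 : ℕ) + 1)) * (K : ℂ) := by
    intro p
    rw [sumz_delta_pt]
    congr 2
    exact hpos p.1 p.2
  rw [Finset.sum_congr rfl (fun p _ => hterm p), Fintype.sum_prod_type]
  simp only [Fin.sum_univ_two, Fin.val_zero, Fin.val_one]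
  have hq := l.ωq
  have h3 := l.omega_cube
  have h4 : l.ω ^ 4 = l.ω := by
    calc l.ω ^ 4 = l.ω ^ 3 * l.ω := by ring
      _ = l.ω := by rw [h3, one_mul]
  norm_num
  rw [h3, h4]
  linear_combination (-(K : ℂ)) * hq

end Chr

end Cfsg.Agent.Helper14.TC27
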