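import Mathlib
import Cfsg.Agent.Lib.Helper16.TC648Defs
import Cfsg.Agent.Lib.Helper16.TC648ArithDefs
import Cfsg.Agent.Lib.Helper16.TC648Core

/-!
# S3702 CHAR farm-out (helper16): PIECE GRAMNUM
-/

set_option autoImplicit false
set_option linter.unusedSectionVars false
set_option linter.unusedVariables false

namespace Cfsg.Agent.Helper16.TC648

open Cfsg Cfsg.Agent.Helper24
open scoped ComplexConjugate

universe u

section Pieces

variable {G : Type u} [Group G]

set_option maxHeartbeats 1600000 in
/-- PIECE GRAMNUM: the Gram matrix of the table -/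
theorem gram_num {s3 : ℂ} (h : s3 ^ 2 = 3) (i j : Fin 9) :
    ∑ a : Fin 9, tab s3 i a * tab s3 j a / (cz a : ℂ) = (M0 i j : ℂ) := by
  fin_cases i <;> fin_cases j <;>
    simp [tab, cz, M0, Fin.sum_univ_succ] <;>
    first
    | ring1
    | linear_combination (1/6 : ℂ) * h
    | linear_combination (-1/6 : ℂ) * h

end Pieces

end Cfsg.Agent.Helper16.TC648
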