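import Mathlib
import Cfsg.Agent.Lib.Helper16.TC648Defs
import Cfsg.Agent.Lib.Helper16.TC648Core
import Cfsg.Agent.Lib.Helper19.TC648SUMF

/-!
# S3702 CHAR farm-out (helper16): PIECE SUME

The sum of `φ · (μ̃ - 1) · (±1)ˡ` over the words of `C_H(t1 t2) = J⟨s⟩`, in terms of the nine class representatives.
-/

set_option autoImplicit false
set_option linter.unusedSectionVars false
set_option linter.unusedVariables false
set_option linter.style.haveILetI false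

namespace Cfsg.Agent.Helper16.TC648

open Cfsg Cfsg.Agent.Helper24
open scoped ComplexConjugate

universe u

/-- the combinatorial part: the distribution of the words `t1^i t2^j t3^k s^l` (`i + j ≠ 0`) over the classes -/
theorem sume_comb (f : Fin 9 → ℂ) (A : Fin 3 → Fin 3 → ℂ) (B : Fin 2 → ℂ) (h00 : A 0 0 = 0)
    (h12 : A 1 2 = 0) (h21 : A 2 1 = 0) :
    ∑ i : Fin 3, ∑ j : Fin 3, ∑ k : Fin 3, ∑ l : Fin 2, f (clsE i j k l) * A i j * B l =
      B 0 * ((A 0 1 + A 0 2 + A 1 0 + A 2 0) * (f 0 + 2 * f 1) + (A 1 1 + A 2 2) * (f 1 + 2 * f 2)) +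
      B 1 * (3 * (A 0 1 + A 0 2 + A 1 0 + A 2 0 + A 1 1 + A 2 2) * f 4) := by
  simp only [Fin.sum_univ_three, Fin.sum_univ_two]
  simp (config := {decide := true}) only [clsE, clsJ, h00, h12, h21, if_true, if_false]
  ring

/-- `μ̃ - 1` vanishes on the kernel -/
theorem sume_A_zero {ω : ℂ} (hω : ω ^ 2 + ω + 1 = 0) (i j : Fin 3) (h : i + j = 0) :
    ω ^ (2 * ((i : ℕ) + (j : ℕ))) - 1 = 0 := by
  have h3 := omega_cube hω
  have key : ∀ i j : Fin 3, i + j = 0 → ((i : ℕ) + (j : ℕ) = 0 ∨ (i : ℕ) + (j : ℕ) = 3) := by decide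
  rcases key i j h with e | e
  · rw [e]; simp
  · rw [e]
    linear_combination (ω ^ 3 + 1) * h3

variable {G : Type u} [Group G]

/-- PIECE SUME -/
theorem sum_E (C : Cfg G) (hF : Facts C) {ω : ℂ} (hω : ω ^ 2 + ω + 1 = 0) {φ : G → ℂ}
    (hφ : IsClassFunction G φ) (n : Fin 2) :
    ∑ i : Fin 3, ∑ j : Fin 3, ∑ k : Fin 3, ∑ l : Fin 2,
      φ (C.wJ i j k * C.s ^ (l : ℕ)) * (ω ^ (2 * ((i : ℕ) + (j : ℕ))) - 1) * (-1) ^ ((n : ℕ) * (l : ℕ)) =
      54 * ∑ a : Fin 9, tab (sq3 ω) (rowE n) a * φ (C.z a) / (cz a : ℂ) := by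
  set f : Fin 9 → ℂ := fun a => φ (C.z a) with hf
  have step : ∀ (i j k : Fin 3) (l : Fin 2),
      φ (C.wJ i j k * C.s ^ (l : ℕ)) * (ω ^ (2 * ((i : ℕ) + (j : ℕ))) - 1) * (-1) ^ ((n : ℕ) * (l : ℕ)) =
        f (clsE i j k l) * (fun i j : Fin 3 => ω ^ (2 * ((i : ℕ) + (j : ℕ))) - 1) i j *
          (fun l : Fin 2 => (-1 : ℂ) ^ ((n : ℕ) * (l : ℕ))) l := by
    intro i j k l
    by_cases hij : i + j = 0
    · simp only [sume_A_zero hω i j hij, mul_zero, zero_mul]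
    · have := sumf_conj hφ (hF.conjE i j k l hij)
      simp only [hf]
      rw [this]
  simp_rw [step]
  rw [sume_comb f _ _ (sume_A_zero hω 0 0 (by decide)) (sume_A_zero hω 1 2 (by decide))
    (sume_A_zero hω 2 1 (by decide)), sumf_tab]
  have h2 : ω ^ 2 = -ω - 1 := by linear_combination hω
  have h4 : ω ^ 4 = ω := by linear_combination (ω ^ 2 - ω) * hω
  have h8 : ω ^ 8 = -ω - 1 := by linear_combination (ω ^ 6 - ω ^ 5 + ω ^ 3 - ω ^ 2 + 1) * hω
  fin_cases n <;> simp [tab, rowE, sq3] <;> (try simp only [h8, h4, h2]) <;> ring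

end Cfsg.Agent.Helper16.TC648
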