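import Mathlib
import Cfsg.Agent.Lib.Helper26.TIDefs2

/-!
# S1786 (helper26 farm-out) PIECE TI-B6 (helper12): `Cfg6.toCfg7`, i.e. `E = C_PA(V) = A`
(proof doc G5.7).
-/

set_option autoImplicit false

namespace Cfsg.Agent.Helper26.TI

variable {G : Type*} [Group G]

section GoalB
variable {V P A PA U : Subgroup G}

/-- elements of a conjugate of `V` have square one -/
theorem ti_b6_sq_cj (hb : Base V) {k u : G} (hu : u ∈ cj k V) : u * u = 1 := by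
  obtain ⟨v, hv, rfl⟩ := mem_cj.1 hu
  have h1 : k * v * k⁻¹ * (k * v * k⁻¹) = k * (v * v) * k⁻¹ := by group
  rw [h1, hb.sq v hv]
  group

/-- an element centralizing `V` fixes `V` under conjugation -/
theorem ti_b6_cj_eq_of_comm {e : G} (heV : ∀ v ∈ V, e * v = v * e) : cj e V = V := by
  ext y
  rw [mem_cj']
  constructor
  · intro hy
    have h1 : y = e * (e⁻¹ * y * e) * e⁻¹ := by group
    rw [h1, heV _ hy]
    have h2 : e⁻¹ * y * e * e * e⁻¹ = e⁻¹ * y * e := by group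
    rw [h2]; exact hy
  · intro hy
    have h1 : e⁻¹ * y * e = e⁻¹ * (y * e) := by group
    rw [h1, ← heV y hy]
    have h2 : e⁻¹ * (e * y) = y := by group
    rw [h2]; exact hy

/-- for `e ∈ E = C_PA(V)` and `u ∈ U` the commutator `[u, e]` lies in `V` -/
theorem ti_b6_step1 [Finite G] (h : Cfg6 V P A PA U) {e : G} (hePA : e ∈ PA)
    (heV : ∀ v ∈ V, e * v = v * e) {u : G} (hu : u ∈ U) : u * e * u⁻¹ * e⁻¹ ∈ V := by
  by_cases hu1 : u = 1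
  · subst hu1
    have : (1 : G) * e * 1⁻¹ * e⁻¹ = 1 := by group
    rw [this]; exact V.one_mem
  have hL := h.loc
  obtain ⟨k, hUk⟩ := h.conjU
  obtain ⟨g, hAg, -⟩ := h.conj
  have heP : cj e P = P := hL.norm e (ti_b6_cj_eq_of_comm heV)
  have huinvP : u⁻¹ ∈ P := h.U_le (U.inv_mem hu)
  -- `x = e u⁻¹ e⁻¹ ∈ P`
  have hxP : e * u⁻¹ * e⁻¹ ∈ P := by
    have := conj_mem_cj (x := e) huinvP
    rwa [heP] at this
  have huu : u * u = 1 := ti_b6_sq_cj hL.base (hUk ▸ hu)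
  have hxx : (e * u⁻¹ * e⁻¹) * (e * u⁻¹ * e⁻¹) = 1 := by
    have h1 : (e * u⁻¹ * e⁻¹) * (e * u⁻¹ * e⁻¹) = e * (u * u)⁻¹ * e⁻¹ := by group
    rw [h1, huu]; group
  -- `c = u x`
  have hcx : u * e * u⁻¹ * e⁻¹ = u * (e * u⁻¹ * e⁻¹) := by group
  have hcP : u * e * u⁻¹ * e⁻¹ ∈ P := by
    rw [hcx]; exact P.mul_mem (h.U_le hu) hxP
  -- `c` centralizes `A`
  have hcA : ∀ a ∈ A, (u * e * u⁻¹ * e⁻¹) * a = a * (u * e * u⁻¹ * e⁻¹) := by
    intro a ha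
    have hea : e * a = a * e := h.locA.cent e hePA a ha
    have ht : u⁻¹ * a * u⁻¹⁻¹ * a⁻¹ ∈ V := hL.comm _ huinvP _ (h.le ha)
    have het := heV _ ht
    -- conjugating the commutator `[u⁻¹, a]` by `e`
    have h1 : e * (u⁻¹ * a * u⁻¹⁻¹ * a⁻¹) * e⁻¹ =
        (e * u⁻¹ * e⁻¹) * (e * a * e⁻¹) * (e * u⁻¹ * e⁻¹)⁻¹ * (e * a * e⁻¹)⁻¹ := by group
    have h2 : e * a * e⁻¹ = a := by rw [hea]; group
    have h3 : e * (u⁻¹ * a * u⁻¹⁻¹ * a⁻¹) * e⁻¹ = u⁻¹ * a * u⁻¹⁻¹ * a⁻¹ := by rw [het]; group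
    rw [h2, h3] at h1
    -- so `x a x⁻¹ = u⁻¹ a u`
    have h4 : (e * u⁻¹ * e⁻¹) * a * (e * u⁻¹ * e⁻¹)⁻¹ = u⁻¹ * a * u := by
      have : (e * u⁻¹ * e⁻¹) * a * (e * u⁻¹ * e⁻¹)⁻¹ =
          ((e * u⁻¹ * e⁻¹) * a * (e * u⁻¹ * e⁻¹)⁻¹ * a⁻¹) * a := by group
      rw [this, ← h1]; group
    rw [hcx]
    have h5 : u * (e * u⁻¹ * e⁻¹) * a =
        u * ((e * u⁻¹ * e⁻¹) * a * (e * u⁻¹ * e⁻¹)⁻¹) * (e * u⁻¹ * e⁻¹) := by group
    rw [h5, h4]; group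
  obtain ⟨v, hv, a0, ha0, hc⟩ := h.D_eq _ hcP hcA
  -- `c² = 1`
  have ha0v : a0 * v = v * a0 := hL.cent a0 (h.le ha0) v hv
  have ha0sq : a0 * a0 = 1 := ti_b6_sq_cj hL.base (hAg ▸ ha0)
  have hcc : (u * e * u⁻¹ * e⁻¹) * (u * e * u⁻¹ * e⁻¹) = 1 := by
    rw [hc]
    have h1 : v * a0 * (v * a0) = v * (a0 * v) * a0 := by group
    rw [h1, ha0v]
    have h2 : v * (v * a0) * a0 = (v * v) * (a0 * a0) := by group
    rw [h2, hL.base.sq v hv, ha0sq]; group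
  -- `u` commutes with `c`
  have huc : u * (u * e * u⁻¹ * e⁻¹) = (u * e * u⁻¹ * e⁻¹) * u := by
    rw [hcx] at hcc ⊢
    -- `u x u x = 1`, `u u = 1`, `x x = 1`
    have h1 : u * (u * (e * u⁻¹ * e⁻¹)) = (u * u) * (e * u⁻¹ * e⁻¹) := by group
    rw [h1, huu, one_mul]
    have h2 : u * (e * u⁻¹ * e⁻¹) * u =
        (u * (e * u⁻¹ * e⁻¹) * (u * (e * u⁻¹ * e⁻¹))) * (e * u⁻¹ * e⁻¹)⁻¹ := by group
    rw [h2, hcc, one_mul]
    exact (inv_eq_of_mul_eq_one_left hxx).symm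
  -- hence `u` commutes with `a0`
  have hua0 : u * a0 = a0 * u := by
    have huv : u * v = v * u := hL.cent u (h.U_le hu) v hv
    rw [hc] at huc
    have h1 : v * (u * a0) = v * (a0 * u) := by
      calc v * (u * a0) = (v * u) * a0 := by group
        _ = (u * v) * a0 := by rw [huv]
        _ = u * (v * a0) := by group
        _ = v * a0 * u := huc
        _ = v * (a0 * u) := by group
    exact mul_left_cancel h1
  by_cases ha01 : a0 = 1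
  · rw [hc, ha01, mul_one]; exact hv
  · exact absurd hua0 (h.U_nc u hu hu1 a0 ha0 ha01)

/-- TI-B6 (G5.7). -/
theorem Cfg6.toCfg7 [Finite G] (h : Cfg6 V P A PA U) : Cfg7 V P A PA U := by
  refine { toCfg6 := h, E_eq := ?_ }
  intro e hePA heV
  have hL := h.loc
  obtain ⟨k, hUk⟩ := h.conjU
  -- a nontrivial element of `U`
  have hVne : ∃ v ∈ V, v ≠ 1 := by
    by_contra hcon
    push Not at hcon
    apply h.hn
    intro v hv
    rw [hcon v hv]; exact PA.one_mem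
  obtain ⟨v1, hv1, hv1ne⟩ := hVne
  have hu1U : k * v1 * k⁻¹ ∈ U := by rw [hUk]; exact conj_mem_cj hv1
  have hu1ne : k * v1 * k⁻¹ ≠ 1 := by
    intro hcon
    apply hv1ne
    have : v1 = k⁻¹ * (k * v1 * k⁻¹) * k := by group
    rw [this, hcon]; group
  set u1 := k * v1 * k⁻¹ with hu1def
  -- `[u1, e] = [u1, a]` for some `a ∈ A`
  have hc1 : u1 * e * u1⁻¹ * e⁻¹ ∈ V := ti_b6_step1 h hePA heV hu1U
  obtain ⟨a, ha, hac⟩ := h.surjA u1 hu1U hu1ne _ hc1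
  have haP : a ∈ P := h.le ha
  have haPA : a ∈ PA := h.locA.V_le ha
  -- `e1 = e a⁻¹`
  have he1PA : e * a⁻¹ ∈ PA := PA.mul_mem hePA (PA.inv_mem haPA)
  have haV : ∀ v ∈ V, a * v = v * a := fun v hv => hL.cent a haP v hv
  have he1V : ∀ v ∈ V, (e * a⁻¹) * v = v * (e * a⁻¹) := by
    intro v hv
    have h1 : a⁻¹ * v = v * a⁻¹ := by
      have := haV v hv
      calc a⁻¹ * v = a⁻¹ * (v * a) * a⁻¹ := by group
        _ = a⁻¹ * (a * v) * a⁻¹ := by rw [this]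
        _ = v * a⁻¹ := by group
    calc e * a⁻¹ * v = e * (a⁻¹ * v) := by group
      _ = e * (v * a⁻¹) := by rw [h1]
      _ = (e * v) * a⁻¹ := by group
      _ = (v * e) * a⁻¹ := by rw [heV v hv]
      _ = v * (e * a⁻¹) := by group
  -- `u1` commutes with `e1`
  have hu1e1 : (e * a⁻¹) * u1 = u1 * (e * a⁻¹) := by
    set c := u1 * e * u1⁻¹ * e⁻¹ with hcdef
    have hce : e * c = c * e := heV c hc1
    have hca : a * c = c * a := haV c hc1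
    have h1 : u1 * e = c * e * u1 := by rw [hcdef]; group
    have h2 : u1 * a = c * a * u1 := by rw [← hac]; group
    -- `u1 a⁻¹ = a⁻¹ c⁻¹ u1`
    have h3 : u1 * a⁻¹ = a⁻¹ * c⁻¹ * u1 := by
      have : u1 * a⁻¹ = (u1 * a * u1⁻¹)⁻¹ * u1 := by group
      rw [this]
      have h4 : u1 * a * u1⁻¹ = c * a := by rw [h2]; group
      rw [h4]; group
    have hca' : a⁻¹ * c⁻¹ = c⁻¹ * a⁻¹ := by
      calc a⁻¹ * c⁻¹ = (c * a)⁻¹ := by group
        _ = (a * c)⁻¹ := by rw [hca]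
        _ = c⁻¹ * a⁻¹ := by group
    calc e * a⁻¹ * u1 = e * (a⁻¹ * u1) := by group
      _ = e * (c * (u1 * a⁻¹)) := by rw [h3, hca']; group
      _ = (e * c) * (u1 * a⁻¹) := by group
      _ = (c * e) * (u1 * a⁻¹) := by rw [hce]
      _ = c * (e * u1) * a⁻¹ := by group
      _ = c * (c⁻¹ * (u1 * e)) * a⁻¹ := by rw [h1]; group
      _ = u1 * (e * a⁻¹) := by group
  -- so `e1` normalizes `U`
  have he1U : cj (e * a⁻¹) U = U := h.normU _ u1 hu1U hu1ne hu1e1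
  -- `U ⊓ V = ⊥`
  have hUV : U ⊓ V = ⊥ := by
    rcases hL.base.ti k with h1 | h1
    · exact absurd (hUk.trans h1) h.U_ne
    · rw [hUk]; exact h1
  -- `e1` centralizes `U`
  have he1cU : ∀ u ∈ U, (e * a⁻¹) * u = u * (e * a⁻¹) := by
    intro u hu
    have hV' : u * (e * a⁻¹) * u⁻¹ * (e * a⁻¹)⁻¹ ∈ V := ti_b6_step1 h he1PA he1V hu
    have hU' : u * (e * a⁻¹) * u⁻¹ * (e * a⁻¹)⁻¹ ∈ U := by
      have h1 : u * (e * a⁻¹) * u⁻¹ * (e * a⁻¹)⁻¹ = u * ((e * a⁻¹) * u⁻¹ * (e * a⁻¹)⁻¹) := by group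
      rw [h1]
      apply U.mul_mem hu
      have := conj_mem_cj (x := e * a⁻¹) (U.inv_mem hu)
      rwa [he1U] at this
    have h1 : u * (e * a⁻¹) * u⁻¹ * (e * a⁻¹)⁻¹ ∈ U ⊓ V := ⟨hU', hV'⟩
    rw [hUV, Subgroup.mem_bot] at h1
    calc e * a⁻¹ * u = (u * (e * a⁻¹) * u⁻¹ * (e * a⁻¹)⁻¹)⁻¹ * (u * (e * a⁻¹)) := by group
      _ = u * (e * a⁻¹) := by rw [h1]; group
  -- `e1` centralizes `P = U D`, `D = V A`
  have he1P : ∀ x ∈ P, (e * a⁻¹) * x = x * (e * a⁻¹) := by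
    intro x hx
    obtain ⟨u, hu, hd⟩ := h.decomp x hx
    have hdP : u⁻¹ * x ∈ P := P.mul_mem (P.inv_mem (h.U_le hu)) hx
    obtain ⟨v, hv, a', ha', hdeq⟩ := h.D_eq _ hdP hd
    have hx' : x = u * (v * a') := by rw [← hdeq]; group
    have e1u := he1cU u hu
    have e1v := he1V v hv
    have e1a : (e * a⁻¹) * a' = a' * (e * a⁻¹) := h.locA.cent _ he1PA a' ha'
    rw [hx']
    calc e * a⁻¹ * (u * (v * a')) = ((e * a⁻¹) * u) * (v * a') := by group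
      _ = (u * (e * a⁻¹)) * (v * a') := by rw [e1u]
      _ = u * ((e * a⁻¹) * v) * a' := by group
      _ = u * (v * (e * a⁻¹)) * a' := by rw [e1v]
      _ = u * v * ((e * a⁻¹) * a') := by group
      _ = u * v * (a' * (e * a⁻¹)) := by rw [e1a]
      _ = u * (v * a') * (e * a⁻¹) := by group
  -- hence `e1 ∈ V ⊓ PA = ⊥`
  have he1inV : e * a⁻¹ ∈ V := hL.self _ he1V he1P
  have he1one : e * a⁻¹ = 1 := h.interV _ he1inV he1PA
  have : e = a := by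
    calc e = (e * a⁻¹) * a := by group
      _ = a := by rw [he1one, one_mul]
  rw [this]; exact ha

end GoalB

end Cfsg.Agent.Helper26.TI
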