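import Mathlib
import Cfsg.Agent.Lib.Helper26.TIDefs2

/-!
# S1786 (helper26 farm-out) PIECE TI-B7 (helper12): `Cfg7.false` (proof doc G5.8).
-/

set_option autoImplicit false

namespace Cfsg.Agent.Helper26.TI

variable {G : Type*} [Group G]

section GoalB
variable {V P A PA U : Subgroup G}

/-- TI-B7 (G5.8). -/
theorem Cfg7.false [Finite G] (h : Cfg7 V P A PA U) : False := by
  -- `[PA, V] ≤ E = A`, so by `noTwist` all of `PA` centralizes `V`
  have hcomm : ∀ y ∈ PA, ∀ v ∈ V, y * v = v * y := by
    intro y hy v hv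
    obtain ⟨hc, hcv⟩ := h.quadV y hy v hv
    exact h.noTwist y hy v hv (h.E_eq _ hc hcv)
  -- hence `V ≤ C_{C(A)}(PA) = A`
  have hVA : V ≤ A := by
    intro v hv
    apply h.locA.self v
    · intro a ha
      exact (hcomm a (h.locA.V_le ha) v hv).symm
    · intro x hx
      exact (hcomm x hx v hv).symm
  exact h.hn (le_trans hVA h.locA.V_le)

end GoalB

end Cfsg.Agent.Helper26.TI
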