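import Mathlib
import Cfsg.Prelude.Def_Solvable
import Cfsg.Prelude.Def_CaseTheorems
import Cfsg.Prelude.Def_Transfer
import Cfsg.Prelude.Def_Classical
import Cfsg.Agent.Lib.Helper17.TSLDefs

/-! # S3366 piece SETUP (helper12): the hypotheses of S3366 give a `Setup` -/

set_option autoImplicit false

namespace Cfsg.Agent.Helper17.TSL

open scoped commutatorElement

theorem exists_setup {X : Type*} [Group X] [Finite X]
    (hR : Cfsg.IsExtraspecial 3 (Cfsg.pCore 3 X)) (hRcard : Nat.card (Cfsg.pCore 3 X) = 27)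
    (hRexp : ∀ r ∈ Cfsg.pCore 3 X, r ^ 3 = 1)
    (e : X ⧸ Cfsg.pCore 3 X ≃* Matrix.SpecialLinearGroup (Fin 2) (ZMod 3))
    (hO2 : Cfsg.pCore 2 X = ⊥)
    (hE : ∃ E : Subgroup X, IsMulCommutative E ∧ (∀ a ∈ E, a ^ 3 = 1) ∧ Nat.card E = 27) :
    Nonempty (Setup X) := by
  have hmemZ : ∀ w : X, w ∈ (Subgroup.center (Cfsg.pCore 3 X)).map (Cfsg.pCore 3 X).subtype ↔
      w ∈ Cfsg.pCore 3 X ∧ ∀ r ∈ Cfsg.pCore 3 X, r * w = w * r := by
    intro w
    constructor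
    · rintro ⟨⟨w', hw'⟩, hc, rfl⟩
      refine ⟨hw', fun r hr => ?_⟩
      have := Subgroup.mem_center_iff.mp hc ⟨r, hr⟩
      exact congrArg Subtype.val this
    · rintro ⟨hw, hc⟩
      refine ⟨⟨w, hw⟩, ?_, rfl⟩
      rw [SetLike.mem_coe, Subgroup.mem_center_iff]
      rintro ⟨r, hr⟩
      exact Subtype.ext (hc r hr)
  refine ⟨{
    R := Cfsg.pCore 3 X
    Z := (Subgroup.center (Cfsg.pCore 3 X)).map (Cfsg.pCore 3 X).subtype
    π := e.toMonoidHom.comp (QuotientGroup.mk' (Cfsg.pCore 3 X))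
    normal := Cfsg.pCore_normal 3 X
    card_R := hRcard
    exp_R := hRexp
    surj := e.surjective.comp (QuotientGroup.mk'_surjective _)
    ker := ?_
    mem_Z := hmemZ
    card_Z := ?_
    comm_mem := ?_
    O2 := ?_
    hE := ?_ }⟩
  · ext x
    rw [MonoidHom.mem_ker]
    change e (QuotientGroup.mk' (Cfsg.pCore 3 X) x) = 1 ↔ _
    rw [EmbeddingLike.map_eq_one_iff, QuotientGroup.mk'_apply, QuotientGroup.eq_one_iff]
  · rw [Nat.card_congr ((Subgroup.center (Cfsg.pCore 3 X)).equivMapOfInjective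
      (Cfsg.pCore 3 X).subtype (Subgroup.subtype_injective _)).symm.toEquiv]
    exact hR.2
  · intro r hr s hs
    rw [hmemZ]
    set r' : Cfsg.pCore 3 X := ⟨r, hr⟩ with hr'
    set s' : Cfsg.pCore 3 X := ⟨s, hs⟩ with hs'
    have h1 : ⁅r', s'⁆ ∈ commutator (Cfsg.pCore 3 X) :=
      Subgroup.commutator_mem_commutator (Subgroup.mem_top _) (Subgroup.mem_top _)
    rw [hR.1.2.2] at h1
    have h2 : ((⁅r', s'⁆ : Cfsg.pCore 3 X) : X) = r * s * r⁻¹ * s⁻¹ := rfl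
    refine ⟨h2 ▸ (⁅r', s'⁆).2, fun u hu => ?_⟩
    have := Subgroup.mem_center_iff.mp h1 ⟨u, hu⟩
    have h3 := congrArg Subtype.val this
    rw [← h2]
    exact h3
  · intro N hN hp
    have : N ≤ Cfsg.pCore 2 X := le_sSup ⟨hN, hp⟩
    rw [hO2] at this
    exact le_bot_iff.mp this
  · obtain ⟨E, hc, h3, h27⟩ := hE
    refine ⟨E, fun a ha b hb => ?_, h3, h27⟩
    have := hc.is_comm.comm (⟨a, ha⟩ : E) ⟨b, hb⟩
    exact congrArg Subtype.val this

end Cfsg.Agent.Helper17.TSL
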