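import Mathlib
import Cfsg.Agent.Lib.Helper17.TSLDefs

/-! # S3366 piece T (helper12): an involution of `X` over the central involution of `SL(2,3)` -/

set_option autoImplicit false

namespace Cfsg.Agent.Helper17.TSL

section abstract

variable {X : Type*} [Group X] [Finite X] (S : Setup X)

theorem exists_t : ∃ t : X, t * t = 1 ∧ S.π t = negOne := by
  obtain ⟨s, hs⟩ := S.surj negOne
  have hs2 : s * s ∈ S.R := by
    rw [← S.ker, MonoidHom.mem_ker, map_mul, hs, negOne_sq]
  have h6 : (s * s) ^ 3 = 1 := S.exp_R _ hs2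
  refine ⟨s ^ 3, ?_, ?_⟩
  · have : s ^ 3 * s ^ 3 = (s * s) ^ 3 := by
      rw [← pow_two, ← pow_mul, ← pow_two s, ← pow_mul]
    rw [this, h6]
  · rw [map_pow, hs]
    have : negOne ^ 3 = negOne * negOne * negOne := by
      rw [pow_succ, pow_two]
    rw [this, negOne_sq, one_mul]

end abstract

end Cfsg.Agent.Helper17.TSL
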