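import Mathlib
import Cfsg.Prelude.Def_SporadicB
import Cfsg.Prelude.Def_Local
import Cfsg.Prelude.Def_CaseTheorems
import Cfsg.Agent.S1265
import Cfsg.Agent.S0012
import Cfsg.Agent.Lib.Helper12.FrattiniAct

set_option autoImplicit false
open Cfsg

/-! Piece A of S5559 / S5555: linearization of a 3-transposition group with `F*(H) = O_2(H)`
on the Frattini quotient of `O_2(H)`. -/

namespace Cfsg.Agent.Helper12.TT232A

open scoped commutatorElement

universe u
variable {H : Type u} [Group H]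

theorem sq_one_of_mem {E : Set H} (hE : Cfsg.IsThreeTranspositionClass E) {d : H} (hd : d ∈ E) :
    d * d = 1 := by
  have h2 := hE.1.1 d hd
  rw [← pow_two, ← h2]
  exact pow_orderOf_eq_one d

theorem inv_of_mem {E : Set H} (hE : Cfsg.IsThreeTranspositionClass E) {d : H} (hd : d ∈ E) :
    d⁻¹ = d := inv_eq_of_mul_eq_one_left (sq_one_of_mem hE hd)

theorem conj_mem {E : Set H} (hE : Cfsg.IsThreeTranspositionClass E) {d : H} (hd : d ∈ E) (h : H) :
    h * d * h⁻¹ ∈ E := by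
  obtain ⟨d0, hd0, hEq⟩ := hE.2.1
  rw [hEq] at hd ⊢
  have hd' : IsConj d0 d := hd
  show IsConj d0 (h * d * h⁻¹)
  exact hd'.trans (isConj_iff.2 ⟨h, rfl⟩)

theorem exists_conj {E : Set H} (hE : Cfsg.IsThreeTranspositionClass E) {d e : H} (hd : d ∈ E)
    (he : e ∈ E) : ∃ h : H, h * d * h⁻¹ = e := by
  obtain ⟨d0, hd0, hEq⟩ := hE.2.1
  rw [hEq] at hd he
  have hd' : IsConj d0 d := hd
  have he' : IsConj d0 e := he
  exact isConj_iff.1 (hd'.symm.trans he')

theorem not_isPGroup {E : Set H} (hE : Cfsg.IsThreeTranspositionClass E)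
    (hE2 : ∃ a ∈ E, ∃ b ∈ E, a ≠ b) : ¬ IsPGroup 2 H := by
  intro hP
  have hcomm : ∀ d ∈ E, ∀ e ∈ E, d * e = e * d := by
    intro d hd e he
    have h2 : (d * e) ^ 2 = 1 := by
      rcases hE.1.2 d hd e he with h | h
      · exact h
      · obtain ⟨k, hk⟩ := hP (d * e)
        have h1 : orderOf (d * e) ∣ 3 := orderOf_dvd_of_pow_eq_one h
        have h2 : orderOf (d * e) ∣ 2 ^ k := orderOf_dvd_of_pow_eq_one hk
        have h3 : orderOf (d * e) ∣ Nat.gcd 3 (2 ^ k) := Nat.dvd_gcd h1 h2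
        have hg : Nat.gcd 3 (2 ^ k) = 1 := Nat.Coprime.pow_right k (by norm_num)
        rw [hg, Nat.dvd_one, orderOf_eq_one_iff] at h3
        rw [h3, one_pow]
    have h3 : d * e = (d * e)⁻¹ := eq_inv_of_mul_eq_one_left (by rw [← pow_two]; exact h2)
    rw [h3, mul_inv_rev, inv_of_mem hE hd, inv_of_mem hE he]
  have hcen : ∀ h : H, ∀ d ∈ E, d * h = h * d := by
    intro h
    have hle : Subgroup.closure E ≤ Subgroup.centralizer E := by
      rw [Subgroup.closure_le]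
      intro e he
      rw [SetLike.mem_coe, Subgroup.mem_centralizer_iff]
      intro d hd
      exact hcomm d hd e he
    have hh : h ∈ Subgroup.centralizer E := hle (by rw [hE.2.2]; exact Subgroup.mem_top h)
    rw [Subgroup.mem_centralizer_iff] at hh
    exact hh
  obtain ⟨a, ha, b, hb, hab⟩ := hE2
  obtain ⟨h, hh⟩ := exists_conj hE ha hb
  apply hab
  rw [← hh, ← hcen h a ha, mul_inv_cancel_right]

variable [Finite H]

theorem isPGroup_Q : IsPGroup 2 ↥(pCore 2 H) := Cfsg.Agent.Helper14.pCore_isPGroup 2 H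

theorem sq_V (v : ↥(pCore 2 H) ⧸ frattini ↥(pCore 2 H)) : v * v = 1 := by
  induction v using QuotientGroup.induction_on with
  | H q =>
    rw [← QuotientGroup.mk_mul, QuotientGroup.eq_one_iff, ← pow_two]
    exact (Cfsg.Agent.S0012.result (G := ↥(pCore 2 H)) 2 isPGroup_Q).2 q

theorem comm_V (a b : ↥(pCore 2 H) ⧸ frattini ↥(pCore 2 H)) : a * b = b * a := by
  have h1 := sq_V (a * b)
  have h2 := sq_V a
  have h3 := sq_V b
  have h4 : a * b = (a * b)⁻¹ := eq_inv_of_mul_eq_one_left h1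
  rw [h4, mul_inv_rev, inv_eq_of_mul_eq_one_left h2, inv_eq_of_mul_eq_one_left h3]

/-- the commutative group structure on the Frattini quotient of `O_2(H)` -/
noncomputable def commGroupV : CommGroup (↥(pCore 2 H) ⧸ frattini ↥(pCore 2 H)) :=
  { (inferInstance : Group (↥(pCore 2 H) ⧸ frattini ↥(pCore 2 H))) with
    mul_comm := comm_V }

theorem rho_eq_one_of_mem {k : H} (hk : k ∈ pCore 2 H) :
    Cfsg.Agent.Helper12.FA.rho (pCore 2 H) k = 1 :=
  MonoidHom.mem_ker.1 (Cfsg.Agent.Helper12.FA.le_ker_rho hk)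

theorem key_star {E : Set H} (hE : Cfsg.IsThreeTranspositionClass E) {d e : H} (hd : d ∈ E)
    (he : e ∈ E) (h3 : (d * e) ^ 3 = 1) (hne : d * e ∉ pCore 2 H)
    (v : ↥(pCore 2 H) ⧸ frattini ↥(pCore 2 H))
    (hv : Cfsg.Agent.Helper12.FA.rho (pCore 2 H) (d * e) v = v) :
    Cfsg.Agent.Helper12.FA.rho (pCore 2 H) d v = v := by
  induction v using QuotientGroup.induction_on with
  | H q =>
    set R := Cfsg.Agent.Helper12.FA.rho (pCore 2 H) with hR
    set k : H := (q : H) with hk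
    have hkQ : k ∈ pCore 2 H := q.2
    have hdi := inv_of_mem hE hd
    have hei := inv_of_mem hE he
    -- the conjugate `e' = k⁻¹ e k`
    have he' : k⁻¹ * e * k ∈ E := by
      have := conj_mem hE he k⁻¹
      rwa [inv_inv] at this
    have ht3 : (d * (k⁻¹ * e * k)) ^ 3 = 1 := by
      rcases hE.1.2 d hd _ he' with h | h
      · exfalso
        apply hne
        have hmk : (QuotientGroup.mk (d * (k⁻¹ * e * k)) : H ⧸ pCore 2 H) =
            QuotientGroup.mk (d * e) := by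
          have h1 : (QuotientGroup.mk k : H ⧸ pCore 2 H) = 1 :=
            (QuotientGroup.eq_one_iff k).2 hkQ
          simp only [QuotientGroup.mk_mul, QuotientGroup.mk_inv, h1, inv_one, mul_one, one_mul]
        have h2' : (QuotientGroup.mk (d * e) : H ⧸ pCore 2 H) ^ 2 = 1 := by
          rw [← hmk, ← QuotientGroup.mk_pow, h, QuotientGroup.mk_one]
        have h3' : (QuotientGroup.mk (d * e) : H ⧸ pCore 2 H) ^ 3 = 1 := by
          rw [← QuotientGroup.mk_pow, h3, QuotientGroup.mk_one]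
        have h1' : (QuotientGroup.mk (d * e) : H ⧸ pCore 2 H) = 1 := by
          have : (QuotientGroup.mk (d * e) : H ⧸ pCore 2 H) ^ 3 =
              (QuotientGroup.mk (d * e) : H ⧸ pCore 2 H) ^ 2 * QuotientGroup.mk (d * e) :=
            pow_succ _ 2
          rw [h3', h2', one_mul] at this
          exact this.symm
        exact (QuotientGroup.eq_one_iff _).1 h1'
      · exact h
    -- the elements
    set u' : H := k⁻¹ * (d * e) * k with hu'
    have hu'3 : u' ^ 3 = 1 := by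
      rw [hu']
      have : (k⁻¹ * (d * e) * k) ^ 3 = k⁻¹ * (d * e) ^ 3 * k := by
        simp only [pow_succ, pow_zero, one_mul]; group
      rw [this, h3]; group
    have hRu' : R u' = R (d * e) := by
      rw [hu', map_mul, map_mul, map_inv, rho_eq_one_of_mem hkQ]; simp
    -- `W0 = (d k d⁻¹)⁻¹ k`
    set W0 : ↥(pCore 2 H) := (MulAut.conjNormal d q)⁻¹ * q with hW0
    have hW0c : (W0 : H) = d * k⁻¹ * d⁻¹ * k := by
      rw [hW0]
      simp only [Subgroup.coe_mul, Subgroup.coe_inv, MulAut.conjNormal_apply]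
      rw [hk]
      group
    have hprod : W0 * MulAut.conjNormal u' W0 * MulAut.conjNormal u' (MulAut.conjNormal u' W0) = 1 := by
      apply Subtype.ext
      simp only [Subgroup.coe_mul, MulAut.conjNormal_apply, hW0c, Subgroup.coe_one]
      have hid : d * k⁻¹ * d⁻¹ * k * (u' * (d * k⁻¹ * d⁻¹ * k) * u'⁻¹) *
          (u' * (u' * (d * k⁻¹ * d⁻¹ * k) * u'⁻¹) * u'⁻¹) =
          (d * k⁻¹ * d⁻¹ * k * u') ^ 3 * (u' ^ 3)⁻¹ := by
        simp only [pow_succ, pow_zero, one_mul]; group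
      rw [hid, hu'3]
      have : d * k⁻¹ * d⁻¹ * k * u' = d * (k⁻¹ * e * k) := by
        rw [hu']
        have hdd : d⁻¹ * d = 1 := inv_mul_cancel d
        calc d * k⁻¹ * d⁻¹ * k * (k⁻¹ * (d * e) * k) = d * k⁻¹ * (d⁻¹ * d) * e * k := by group
          _ = d * (k⁻¹ * e * k) := by rw [hdd]; group
      rw [this, ht3]; simp
    set z : ↥(pCore 2 H) ⧸ frattini ↥(pCore 2 H) := QuotientGroup.mk W0 with hz
    have hzeq : z = (R d (QuotientGroup.mk q))⁻¹ * QuotientGroup.mk q := by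
      rw [hz, hW0, Cfsg.Agent.Helper12.FA.rho_mk, QuotientGroup.mk_mul, QuotientGroup.mk_inv]
    have hz3 : z * R (d * e) z * R (d * e) (R (d * e) z) = 1 := by
      rw [← hRu', hz, Cfsg.Agent.Helper12.FA.rho_mk, Cfsg.Agent.Helper12.FA.rho_mk,
        ← QuotientGroup.mk_mul, ← QuotientGroup.mk_mul, hprod, QuotientGroup.mk_one]
    -- `z` is fixed by `R (d e)`
    have hfix : R (d * e) z = z := by
      rw [hzeq, map_mul, map_inv, hv]
      congr 2
      have h1 : R (d * e) (R d (QuotientGroup.mk q)) = R (d * e * d) (QuotientGroup.mk q) := by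
        rw [map_mul R (d * e) d]; rfl
      have h2 : d * e * d = d * (d * e)⁻¹ := by
        rw [mul_inv_rev, hdi, hei, mul_assoc]
      have h3 : R (d * e)⁻¹ (QuotientGroup.mk q) = QuotientGroup.mk q := by
        rw [map_inv]
        have := congrArg (⇑(R (d * e))⁻¹) hv
        rw [MulAut.inv_apply_self] at this
        exact this.symm
      rw [h1, h2, map_mul R d, MulAut.mul_apply, h3]
    rw [hfix, hfix] at hz3
    have hz1 : z = 1 := by
      have := sq_V z
      rw [this, one_mul] at hz3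
      exact hz3
    rw [hzeq] at hz1
    have := inv_mul_eq_one.1 hz1
    exact this

theorem not_mem_Q {E : Set H} (hE : Cfsg.IsThreeTranspositionClass E)
    (hE2 : ∃ a ∈ E, ∃ b ∈ E, a ≠ b) {d : H} (hd : d ∈ E) : d ∉ pCore 2 H := by
  intro hdQ
  apply not_isPGroup hE hE2
  have hsub : E ⊆ (pCore 2 H : Set H) := by
    intro e he
    obtain ⟨h, hh⟩ := exists_conj hE hd he
    rw [← hh]
    exact (inferInstance : (pCore 2 H).Normal).conj_mem d hdQ h
  have htop : pCore 2 H = ⊤ := by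
    rw [eq_top_iff, ← hE.2.2, Subgroup.closure_le]
    exact hsub
  have h1 : IsPGroup 2 ↥(⊤ : Subgroup H) := by
    rw [← htop]; exact isPGroup_Q
  exact h1.of_equiv Subgroup.topEquiv

theorem not_isPGroup_quot {E : Set H} (hE : Cfsg.IsThreeTranspositionClass E)
    (hE2 : ∃ a ∈ E, ∃ b ∈ E, a ≠ b) : ¬ IsPGroup 2 (H ⧸ pCore 2 H) := by
  intro hq
  apply not_isPGroup hE hE2
  have h1 : IsPGroup 2 ↥(⊤ : Subgroup (H ⧸ pCore 2 H)) := hq.of_equiv Subgroup.topEquiv.symm
  have h2 := h1.comap_of_ker_isPGroup (QuotientGroup.mk' (pCore 2 H))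
    (by rw [QuotientGroup.ker_mk']; exact isPGroup_Q)
  rw [Subgroup.comap_top] at h2
  exact h2.of_equiv Subgroup.topEquiv

/-- the action of `H / O_2(H)` on the Frattini quotient of `O_2(H)` -/
noncomputable def rho0 : (H ⧸ pCore 2 H) →* MulAut (↥(pCore 2 H) ⧸ frattini ↥(pCore 2 H)) :=
  QuotientGroup.lift (pCore 2 H) (Cfsg.Agent.Helper12.FA.rho (pCore 2 H))
    Cfsg.Agent.Helper12.FA.le_ker_rho

theorem rho0_mk (h : H) :
    rho0 (QuotientGroup.mk h : H ⧸ pCore 2 H) = Cfsg.Agent.Helper12.FA.rho (pCore 2 H) h := rfl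

theorem rho0_injective (hCQ : Subgroup.centralizer (pCore 2 H : Set H) ≤ pCore 2 H) :
    Function.Injective (rho0 (H := H)) := by
  rw [injective_iff_map_eq_one]
  intro g hg
  induction g using QuotientGroup.induction_on with
  | H h =>
    rw [rho0_mk] at hg
    exact (QuotientGroup.eq_one_iff h).2
      (Cfsg.Agent.Helper12.FA.ker_rho_le hCQ (MonoidHom.mem_ker.2 hg))

theorem rho0_star {E : Set H} (hE : Cfsg.IsThreeTranspositionClass E) :
    ∀ x ∈ (QuotientGroup.mk : H → H ⧸ Cfsg.pCore 2 H) '' E,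
      ∀ y ∈ (QuotientGroup.mk : H → H ⧸ Cfsg.pCore 2 H) '' E,
        (x * y) ^ 3 = 1 → x * y ≠ 1 → ∀ w : ↥(pCore 2 H) ⧸ frattini ↥(pCore 2 H),
          rho0 (x * y) w = w → rho0 x w = w := by
  rintro x ⟨d, hd, rfl⟩ y ⟨e, he, rfl⟩ h3 hne w hw
  rw [← QuotientGroup.mk_mul] at h3 hne hw
  have hne' : d * e ∉ pCore 2 H := fun h => hne ((QuotientGroup.eq_one_iff _).2 h)
  have h3' : (d * e) ^ 3 = 1 := by
    rcases hE.1.2 d hd e he with h | h
    · exfalso
      apply hne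
      have h2' : (QuotientGroup.mk (d * e) : H ⧸ pCore 2 H) ^ 2 = 1 := by
        rw [← QuotientGroup.mk_pow, h, QuotientGroup.mk_one]
      have : (QuotientGroup.mk (d * e) : H ⧸ pCore 2 H) ^ 3 =
          (QuotientGroup.mk (d * e) : H ⧸ pCore 2 H) ^ 2 * QuotientGroup.mk (d * e) :=
        pow_succ _ 2
      rw [h3, h2', one_mul] at this
      exact this.symm
    · exact h
  rw [rho0_mk] at hw ⊢
  exact key_star hE hd he h3' hne' w hw

theorem partA {E : Set H}
    (hE : Cfsg.IsThreeTranspositionClass E) (hE2 : ∃ a ∈ E, ∃ b ∈ E, a ≠ b)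
    (hF : Cfsg.generalizedFittingSubgroup H = Cfsg.pCore 2 H) :
    ∃ (V : Type u) (_ : CommGroup V) (ρ : (H ⧸ Cfsg.pCore 2 H) →* MulAut V),
      (∀ v : V, v * v = 1) ∧ Function.Injective ρ ∧
      (∀ x ∈ (QuotientGroup.mk : H → H ⧸ Cfsg.pCore 2 H) '' E, x * x = 1 ∧ x ≠ 1) ∧
      (∀ x ∈ (QuotientGroup.mk : H → H ⧸ Cfsg.pCore 2 H) '' E,
        ∀ y ∈ (QuotientGroup.mk : H → H ⧸ Cfsg.pCore 2 H) '' E,
          (x * y) ^ 2 = 1 ∨ (x * y) ^ 3 = 1) ∧
      (∀ g : H ⧸ Cfsg.pCore 2 H, ∀ x ∈ (QuotientGroup.mk : H → H ⧸ Cfsg.pCore 2 H) '' E,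
        g * x * g⁻¹ ∈ (QuotientGroup.mk : H → H ⧸ Cfsg.pCore 2 H) '' E) ∧
      (∀ x ∈ (QuotientGroup.mk : H → H ⧸ Cfsg.pCore 2 H) '' E,
        ∀ y ∈ (QuotientGroup.mk : H → H ⧸ Cfsg.pCore 2 H) '' E,
          ∃ g : H ⧸ Cfsg.pCore 2 H, g * x * g⁻¹ = y) ∧
      Subgroup.closure ((QuotientGroup.mk : H → H ⧸ Cfsg.pCore 2 H) '' E) = ⊤ ∧
      (∀ x ∈ (QuotientGroup.mk : H → H ⧸ Cfsg.pCore 2 H) '' E,
        ∀ y ∈ (QuotientGroup.mk : H → H ⧸ Cfsg.pCore 2 H) '' E,
          (x * y) ^ 3 = 1 → x * y ≠ 1 → ∀ w : V, ρ (x * y) w = w → ρ x w = w) ∧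
      ¬ IsPGroup 2 (H ⧸ Cfsg.pCore 2 H) := by
  have hCQ : Subgroup.centralizer (pCore 2 H : Set H) ≤ pCore 2 H := by
    have := Cfsg.Agent.S1265.result (G := H)
    rwa [hF] at this
  refine ⟨↥(pCore 2 H) ⧸ frattini ↥(pCore 2 H), commGroupV, rho0, sq_V, rho0_injective hCQ,
    ?_, ?_, ?_, ?_, ?_, rho0_star hE, not_isPGroup_quot hE hE2⟩
  · rintro x ⟨d, hd, rfl⟩
    refine ⟨?_, ?_⟩
    · rw [← QuotientGroup.mk_mul, sq_one_of_mem hE hd, QuotientGroup.mk_one]
    · intro h1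
      exact not_mem_Q hE hE2 hd ((QuotientGroup.eq_one_iff d).1 h1)
  · rintro x ⟨d, hd, rfl⟩ y ⟨e, he, rfl⟩
    rcases hE.1.2 d hd e he with h | h
    · left; rw [← QuotientGroup.mk_mul, ← QuotientGroup.mk_pow, h, QuotientGroup.mk_one]
    · right; rw [← QuotientGroup.mk_mul, ← QuotientGroup.mk_pow, h, QuotientGroup.mk_one]
  · rintro g x ⟨d, hd, rfl⟩
    induction g using QuotientGroup.induction_on with
    | H h =>
      exact ⟨h * d * h⁻¹, conj_mem hE hd h, by
        rw [QuotientGroup.mk_mul, QuotientGroup.mk_mul, QuotientGroup.mk_inv]⟩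
  · rintro x ⟨d, hd, rfl⟩ y ⟨e, he, rfl⟩
    obtain ⟨h, hh⟩ := exists_conj hE hd he
    exact ⟨QuotientGroup.mk h, by
      rw [← hh, QuotientGroup.mk_mul, QuotientGroup.mk_mul, QuotientGroup.mk_inv]⟩
  · have h1 : Subgroup.closure ((QuotientGroup.mk : H → H ⧸ Cfsg.pCore 2 H) '' E) =
        (Subgroup.closure E).map (QuotientGroup.mk' (pCore 2 H)) := by
      rw [MonoidHom.map_closure]; rfl
    rw [h1, hE.2.2, ← MonoidHom.range_eq_map, MonoidHom.range_eq_top]
    exact QuotientGroup.mk'_surjective _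

end Cfsg.Agent.Helper12.TT232A
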