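import Mathlib
import Cfsg.Agent.Lib.Helper21.SylowSym

/-!
# Elements of symmetric groups in a unique Sylow `2`-subgroup (helper12), part 1
-/

set_option autoImplicit false

namespace Cfsg.Agent.Helper12.USyl

open Equiv Equiv.Perm Cfsg.Agent.Helper21.SylowSym

variable {α : Type*} [Fintype α] [DecidableEq α]

omit [Fintype α] [DecidableEq α] in
/-- period characterization -/
theorem pow_apply_eq_iff (x : Perm α) (a : α) (m : ℕ) :
    (x ^ m) a = a ↔ Function.minimalPeriod x a ∣ m := by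
  rw [← Function.isPeriodicPt_iff_minimalPeriod_dvd, Function.IsPeriodicPt, Function.IsFixedPt,
    Equiv.Perm.iterate_eq_pow]

/-- The intrinsic form of the condition. -/
structure Good (x : Perm α) : Prop where
  fix : ∀ a b c, x a = a → x b = b → x c = c → a = b ∨ a = c ∨ b = c
  cyc : ∀ a b, (∀ m : ℕ, (x ^ m) a = a ↔ (x ^ m) b = b) → x a ≠ a → x.SameCycle a b

omit [Fintype α] in
theorem conj_pow_swap (x : Perm α) (m : ℕ) (a b : α) :
    x ^ m * swap a b * (x ^ m)⁻¹ = swap ((x ^ m) a) ((x ^ m) b) :=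
  (swap_apply_apply (x ^ m) a b).symm

omit [Fintype α] in
theorem conj_pow_swap_mem {T : Subgroup (Perm α)} {x : Perm α} (hx : x ∈ T) (m : ℕ) {a b : α}
    (h : swap a b ∈ T) : swap ((x ^ m) a) ((x ^ m) b) ∈ T := by
  rw [← conj_pow_swap]
  exact T.mul_mem (T.mul_mem (T.pow_mem hx m) h) (T.inv_mem (T.pow_mem hx m))

theorem period_imp {T : Subgroup (Perm α)} (hT : IsPGroup 2 T) {x : Perm α} (hx : x ∈ T)
    {a b : α} (hab : a ≠ b) (h : swap a b ∈ T) (m : ℕ) (hm : (x ^ m) a = a) : (x ^ m) b = b := by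
  have h1 := conj_pow_swap_mem hx m h
  rw [hm] at h1
  have hne : a ≠ (x ^ m) b := by
    intro h2
    apply hab
    apply (x ^ m).injective
    rw [hm]; exact h2
  exact (swap_eq_of_mem hT hab hne h h1).symm

theorem period_iff {T : Subgroup (Perm α)} (hT : IsPGroup 2 T) {x : Perm α} (hx : x ∈ T)
    {a b : α} (hab : a ≠ b) (h : swap a b ∈ T) (m : ℕ) : (x ^ m) a = a ↔ (x ^ m) b = b := by
  refine ⟨period_imp hT hx hab h m, ?_⟩
  rw [swap_comm] at h
  exact period_imp hT hx hab.symm h m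

/-- **Lemma M**: the partner of a moved point. -/
theorem partner {T : Subgroup (Perm α)} (hT : IsPGroup 2 T) {x : Perm α} (hx : x ∈ T)
    (hg : Good x) {a b : α} (hab : a ≠ b) (h : swap a b ∈ T) (ha : x a ≠ a) :
    ∃ j : ℕ, b = (x ^ j) a ∧ (x ^ (2 * j)) a = a := by
  have hsc := hg.cyc a b (period_iff hT hx hab h) ha
  obtain ⟨j, hj⟩ := hsc.exists_nat_pow_eq
  refine ⟨j, hj.symm, ?_⟩
  have h1 := conj_pow_swap_mem hx j h
  rw [hj] at h1
  have h2 : swap b a ∈ T := by rw [swap_comm]; exact h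
  have hne : b ≠ (x ^ j) b := by
    intro h3
    apply hab
    apply (x ^ j).injective
    rw [hj]; exact h3
  have h4 := swap_eq_of_mem hT hne hab.symm h1 h2
  rw [two_mul, pow_add, Perm.mul_apply, hj, h4]

omit [Fintype α] [DecidableEq α] in
/-- the arithmetic of half periods -/
theorem half_period {x : Perm α} {a : α} {m j : ℕ} (hm : (x ^ (2 * m)) a = a)
    (hj : (x ^ (2 * j)) a = a) (hm' : (x ^ m) a ≠ a) (hj' : (x ^ j) a ≠ a) :
    (x ^ m) a = (x ^ j) a := by
  rw [pow_apply_eq_iff] at hm hj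
  rw [Ne, pow_apply_eq_iff] at hm' hj'
  obtain ⟨s, hs⟩ := hm
  obtain ⟨s', hs'⟩ := hj
  have hodd : ∀ (k t : ℕ), 2 * k = Function.minimalPeriod x a * t →
      ¬ Function.minimalPeriod x a ∣ k → Odd t := by
    intro k t ht hk
    rcases Nat.even_or_odd t with ⟨u, hu⟩ | h
    · exfalso
      apply hk
      refine ⟨u, ?_⟩
      have : Function.minimalPeriod x a * (u + u) = 2 * (Function.minimalPeriod x a * u) := by ring
      rw [hu, this] at ht
      omega
    · exact h
  obtain ⟨u, hu⟩ := hodd m s hs hm'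
  obtain ⟨u', hu'⟩ := hodd j s' hs' hj'
  have hsum : (x ^ (m + j)) a = a := by
    rw [pow_apply_eq_iff]
    refine ⟨u + u' + 1, ?_⟩
    have h1 : Function.minimalPeriod x a * (2 * u + 1) +
        Function.minimalPeriod x a * (2 * u' + 1) =
        2 * (Function.minimalPeriod x a * (u + u' + 1)) := by ring
    rw [hu] at hs
    rw [hu'] at hs'
    omega
  have hj2 : (x ^ (2 * j)) a = a := by
    rw [pow_apply_eq_iff]; exact ⟨s', hs'⟩
  calc (x ^ m) a = (x ^ m) ((x ^ (2 * j)) a) := by rw [hj2]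
    _ = (x ^ j) ((x ^ (m + j)) a) := by
      rw [← Perm.mul_apply, ← Perm.mul_apply, ← pow_add, ← pow_add]
      congr 2
      omega
    _ = (x ^ j) a := by rw [hsum]

/-- **Lemma N**: the partner of a point is determined by `x`. -/
theorem partner_unique {T T' : Subgroup (Perm α)} (hT : IsPGroup 2 T) (hT' : IsPGroup 2 T')
    {x : Perm α} (hx : x ∈ T) (hx' : x ∈ T') (hg : Good x) {a b c : α} (hab : a ≠ b)
    (hac : a ≠ c) (h : swap a b ∈ T) (h' : swap a c ∈ T') : b = c := by
  by_cases ha : x a = a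
  · have ha1 : (x ^ 1) a = a := by rw [pow_one]; exact ha
    have hb := period_imp hT hx hab h 1 ha1
    have hc := period_imp hT' hx' hac h' 1 ha1
    rw [pow_one] at hb hc
    rcases hg.fix a b c ha hb hc with h1 | h1 | h1
    · exact absurd h1 hab
    · exact absurd h1 hac
    · exact h1
  · obtain ⟨j, hj, hj2⟩ := partner hT hx hg hab h ha
    obtain ⟨j', hj', hj2'⟩ := partner hT' hx' hg hac h' ha
    rw [hj, hj']
    apply half_period hj2 hj2'
    · rw [← hj]; exact hab.symm
    · rw [← hj']; exact hac.symm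

/-- the swaps of one Sylow subgroup containing a good `x` lie in any other one -/
theorem Tr_subset (T T' : Sylow 2 (Perm α)) {x : Perm α} (hx : x ∈ T) (hx' : x ∈ T')
    (hg : Good x) : Tr (T : Subgroup (Perm α)) ⊆ Tr (T' : Subgroup (Perm α)) := by
  have key : ∀ a b : α, a ≠ b → swap a b ∈ (T : Subgroup (Perm α)) →
      a ∉ U (T' : Subgroup (Perm α)) → swap a b ∈ (T' : Subgroup (Perm α)) := by
    intro a b hab h ha
    unfold U at ha
    simp only [Set.mem_ofPred_eq, not_forall] at ha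
    obtain ⟨τ', hτ', hτa⟩ := ha
    obtain ⟨⟨c, d, hcd, rfl⟩, hmem⟩ := hτ'
    have hacd : a = c ∨ a = d := by
      by_contra hcon
      push Not at hcon
      exact hτa (swap_apply_of_ne_of_ne hcon.1 hcon.2)
    rcases hacd with rfl | rfl
    · have := partner_unique T.isPGroup' T'.isPGroup' hx hx' hg hab hcd h hmem
      rw [this]; exact hmem
    · rw [swap_comm] at hmem
      have := partner_unique T.isPGroup' T'.isPGroup' hx hx' hg hab hcd.symm h hmem
      rw [this]; exact hmem
  rintro τ ⟨⟨a, b, hab, rfl⟩, hmem⟩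
  refine ⟨⟨a, b, hab, rfl⟩, ?_⟩
  by_cases ha : a ∈ U (T' : Subgroup (Perm α))
  · have hb : b ∉ U (T' : Subgroup (Perm α)) := fun hb => hab (subsingleton_U T' ha hb)
    rw [swap_comm] at hmem ⊢
    exact key b a hab.symm hmem hb
  · exact key a b hab hmem ha

theorem Tr_eq (T T' : Sylow 2 (Perm α)) {x : Perm α} (hx : x ∈ T) (hx' : x ∈ T')
    (hg : Good x) : Tr (T : Subgroup (Perm α)) = Tr (T' : Subgroup (Perm α)) :=
  Set.Subset.antisymm (Tr_subset T T' hx hx' hg) (Tr_subset T' T hx' hx hg)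

end Cfsg.Agent.Helper12.USyl
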