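import Mathlib
import Cfsg.Agent.Lib.Helper12.USylow1

/-!
# Elements of symmetric groups in a unique Sylow `2`-subgroup (helper12), part 2:
the induced permutation of the swaps is again good
-/

set_option autoImplicit false

namespace Cfsg.Agent.Helper12.USyl

open Equiv Equiv.Perm Cfsg.Agent.Helper21.SylowSym

variable {α : Type*} [Fintype α] [DecidableEq α]

/-- the induced permutation of the swaps -/
noncomputable def xbar (T : Subgroup (Perm α)) {x : Perm α} (hx : x ∈ T) : Perm ↥(Tr T) :=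
  phi T ⟨x, le_normalizer_Tr T hx⟩

theorem xbar_pow_coe (T : Subgroup (Perm α)) {x : Perm α} (hx : x ∈ T) (m : ℕ) (τ : ↥(Tr T)) :
    (((xbar T hx) ^ m) τ : Perm α) = x ^ m * τ.1 * (x ^ m)⁻¹ := by
  unfold xbar
  rw [← map_pow, phi_apply_coe]
  rfl

theorem xbar_pow_swap (T : Subgroup (Perm α)) {x : Perm α} (hx : x ∈ T) (m : ℕ) (τ : ↥(Tr T))
    {a b : α} (h : τ.1 = swap a b) :
    (((xbar T hx) ^ m) τ : Perm α) = swap ((x ^ m) a) ((x ^ m) b) := by
  rw [xbar_pow_coe, h, conj_pow_swap]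

omit [Fintype α] in
theorem moves_left {a b : α} (hab : a ≠ b) : swap a b a ≠ a := by
  rw [swap_apply_left]; exact hab.symm

omit [Fintype α] in
theorem moves_right {a b : α} (hab : a ≠ b) : swap a b b ≠ b := by
  rw [swap_apply_right]; exact hab

/-- **Lemma P**: the period of a swap under `xbar`. -/
theorem xbar_pow_fix_iff (T : Sylow 2 (Perm α)) {x : Perm α} (hx : x ∈ T) (hg : Good x)
    (m : ℕ) (τ : ↥(Tr (T : Subgroup (Perm α)))) {a b : α} (hab : a ≠ b) (h : τ.1 = swap a b) :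
    ((xbar (T : Subgroup (Perm α)) hx) ^ m) τ = τ ↔ (x ^ (2 * m)) a = a := by
  have hT := T.isPGroup'
  have hmem : swap a b ∈ (T : Subgroup (Perm α)) := by rw [← h]; exact τ.2.2
  have hcoe := xbar_pow_swap (T : Subgroup (Perm α)) hx m τ h
  have h2m : (x ^ (2 * m)) a = (x ^ m) ((x ^ m) a) := by
    rw [two_mul, pow_add, Perm.mul_apply]
  constructor
  · intro heq
    have h1 : swap ((x ^ m) a) ((x ^ m) b) = swap a b := by
      rw [← hcoe, heq, h]
    have h3 := congrArg (fun f : Perm α => f ((x ^ m) a)) h1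
    simp only [swap_apply_left] at h3
    rw [h2m]
    by_cases h4 : (x ^ m) a = a
    · rw [h4, h4]
    · by_cases h5 : (x ^ m) a = b
      · rw [h5, swap_apply_right] at h3
        rw [h5, h3]
      · rw [swap_apply_of_ne_of_ne h4 h5] at h3
        exact absurd ((x ^ m).injective h3).symm hab
  · intro h2
    by_cases h4 : (x ^ m) a = a
    · apply Subtype.ext
      rw [hcoe, h, h4, period_imp hT hx hab hmem m h4]
    · have ha : x a ≠ a := fun h5 => h4 (pow_apply_eq_self_of_apply_eq_self h5 m)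
      obtain ⟨j, hj, hj2⟩ := partner hT hx hg hab hmem ha
      have h5 : (x ^ m) a = b := by
        rw [hj]
        apply half_period h2 hj2 h4
        rw [← hj]; exact hab.symm
      have hne : (x ^ m) a ≠ (x ^ m) b := fun h6 => hab ((x ^ m).injective h6)
      apply Subtype.ext
      apply eq_of_moves hT (((xbar (T : Subgroup (Perm α)) hx) ^ m) τ).2 τ.2 b
      · rw [hcoe, h5]
        rw [h5] at hne
        exact moves_left hne
      · rw [h]; exact moves_right hab

omit [Fintype α] [DecidableEq α] in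
/-- periods are powers of two -/
theorem period_two_pow {T : Subgroup (Perm α)} (hT : IsPGroup 2 T) {x : Perm α} (hx : x ∈ T)
    (a : α) : ∃ s : ℕ, Function.minimalPeriod x a = 2 ^ s := by
  obtain ⟨k, hk⟩ := hT ⟨x, hx⟩
  have hk' : x ^ 2 ^ k = 1 := by
    have := congrArg Subtype.val hk
    simpa using this
  have h1 : (x ^ 2 ^ k) a = a := by rw [hk']; rfl
  rw [pow_apply_eq_iff] at h1
  obtain ⟨s, -, hs⟩ := (Nat.dvd_prime_pow Nat.prime_two).1 h1
  exact ⟨s, hs⟩

/-- equality of periods from equality of doubled periods -/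
theorem period_eq_of_double {T : Subgroup (Perm α)} (hT : IsPGroup 2 T) {x : Perm α} (hx : x ∈ T)
    {a c : α} (h : ∀ m : ℕ, (x ^ (2 * m)) a = a ↔ (x ^ (2 * m)) c = c) (ha : (x ^ 2) a ≠ a) :
    ∀ m : ℕ, (x ^ m) a = a ↔ (x ^ m) c = c := by
  obtain ⟨s, hs⟩ := period_two_pow hT hx a
  obtain ⟨t, ht⟩ := period_two_pow hT hx c
  have hs2 : 2 ≤ s := by
    by_contra hcon
    apply ha
    rw [pow_apply_eq_iff, hs]
    have : s = 0 ∨ s = 1 := by omega
    rcases this with rfl | rfl <;> simp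
  have ht2 : 2 ≤ t := by
    by_contra hcon
    have h1 := (h 1).2 (by
      rw [pow_apply_eq_iff, ht]
      have : t = 0 ∨ t = 1 := by omega
      rcases this with rfl | rfl <;> simp)
    exact ha h1
  have key : s = t := by
    have h1 := (h (2 ^ (s - 1))).1 (by
      rw [pow_apply_eq_iff, hs, ← pow_succ']
      have : s - 1 + 1 = s := by omega
      rw [this])
    have h2 := (h (2 ^ (t - 1))).2 (by
      rw [pow_apply_eq_iff, ht, ← pow_succ']
      have : t - 1 + 1 = t := by omega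
      rw [this])
    rw [pow_apply_eq_iff, ht, ← pow_succ'] at h1
    rw [pow_apply_eq_iff, hs, ← pow_succ'] at h2
    have e1 : s - 1 + 1 = s := by omega
    have e2 : t - 1 + 1 = t := by omega
    rw [e1] at h1
    rw [e2] at h2
    have h3 := (Nat.pow_dvd_pow_iff_le_right (by norm_num : 1 < 2)).1 h1
    have h4 := (Nat.pow_dvd_pow_iff_le_right (by norm_num : 1 < 2)).1 h2
    omega
  intro m
  rw [pow_apply_eq_iff, pow_apply_eq_iff, hs, ht, key]

/-- the second goodness condition for `xbar` -/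
theorem xbar_cyc (T : Sylow 2 (Perm α)) {x : Perm α} (hx : x ∈ T) (hg : Good x)
    (τ σ : ↥(Tr (T : Subgroup (Perm α))))
    (hper : ∀ m : ℕ, ((xbar (T : Subgroup (Perm α)) hx) ^ m) τ = τ ↔
      ((xbar (T : Subgroup (Perm α)) hx) ^ m) σ = σ)
    (hτ : (xbar (T : Subgroup (Perm α)) hx) τ ≠ τ) :
    (xbar (T : Subgroup (Perm α)) hx).SameCycle τ σ := by
  have hT := T.isPGroup'
  obtain ⟨a, b, hab, hτab⟩ := τ.2.1
  obtain ⟨c, d, hcd, hσcd⟩ := σ.2.1
  have h1 : ∀ m : ℕ, (x ^ (2 * m)) a = a ↔ (x ^ (2 * m)) c = c := by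
    intro m
    rw [← xbar_pow_fix_iff T hx hg m τ hab hτab, ← xbar_pow_fix_iff T hx hg m σ hcd hσcd]
    exact hper m
  have h2 : (x ^ 2) a ≠ a := by
    intro h
    apply hτ
    have := (xbar_pow_fix_iff T hx hg 1 τ hab hτab).2 (by rw [mul_one]; exact h)
    rw [pow_one] at this
    exact this
  have h3 := period_eq_of_double hT hx h1 h2
  have ha : x a ≠ a := by
    intro h
    apply h2
    rw [pow_two, Perm.mul_apply, h, h]
  obtain ⟨i, hi⟩ := (hg.cyc a c h3 ha).exists_nat_pow_eq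
  refine ⟨(i : ℤ), ?_⟩
  rw [zpow_natCast]
  apply Subtype.ext
  have hne : (x ^ i) a ≠ (x ^ i) b := fun h6 => hab ((x ^ i).injective h6)
  apply eq_of_moves hT (((xbar (T : Subgroup (Perm α)) hx) ^ i) τ).2 σ.2 c
  · rw [xbar_pow_swap (T : Subgroup (Perm α)) hx i τ hτab, hi]
    rw [hi] at hne
    exact moves_left hne
  · rw [hσcd]; exact moves_left hcd

/-- fixed swaps whose points are fixed coincide -/
theorem fixed_type_F (T : Sylow 2 (Perm α)) {x : Perm α} (hx : x ∈ T) (hg : Good x)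
    (τ σ : ↥(Tr (T : Subgroup (Perm α)))) {a c : α} (ha : τ.1 a ≠ a) (hc : σ.1 c ≠ c)
    (hxa : x a = a) (hxc : x c = c) : τ = σ := by
  have hT := T.isPGroup'
  obtain ⟨a', b, hab, hτab⟩ := τ.2.1
  obtain ⟨c', d, hcd, hσcd⟩ := σ.2.1
  -- normalize so that `a' = a`
  have hτ' : ∃ b, a ≠ b ∧ τ.1 = swap a b := by
    have : a = a' ∨ a = b := by
      by_contra hcon
      push Not at hcon
      rw [hτab] at ha
      exact ha (swap_apply_of_ne_of_ne hcon.1 hcon.2)
    rcases this with rfl | rfl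
    · exact ⟨b, hab, hτab⟩
    · exact ⟨a', hab.symm, by rw [hτab, swap_comm]⟩
  obtain ⟨b, hab, hτab⟩ := hτ'
  have hmem : swap a b ∈ (T : Subgroup (Perm α)) := by rw [← hτab]; exact τ.2.2
  have hxb : x b = b := by
    have := period_imp hT hx hab hmem 1 (by rw [pow_one]; exact hxa)
    rw [pow_one] at this
    exact this
  apply Subtype.ext
  rcases hg.fix a b c hxa hxb hxc with h | h | h
  · exact absurd h hab
  · apply eq_of_moves hT τ.2 σ.2 a ha
    rw [h]; exact hc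
  · apply eq_of_moves hT τ.2 σ.2 b
    · rw [hτab]; exact moves_right hab
    · rw [h]; exact hc

/-- fixed swaps whose points are moved coincide -/
theorem fixed_type_C (T : Sylow 2 (Perm α)) {x : Perm α} (hx : x ∈ T) (hg : Good x)
    (τ σ : ↥(Tr (T : Subgroup (Perm α))))
    (hτ : (xbar (T : Subgroup (Perm α)) hx) τ = τ) (hσ : (xbar (T : Subgroup (Perm α)) hx) σ = σ)
    {a c : α} (ha : τ.1 a ≠ a) (hc : σ.1 c ≠ c) (hxa : x a ≠ a) (hxc : x c ≠ c) : τ = σ := by
  have hT := T.isPGroup'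
  have hτ' : ∃ b, a ≠ b ∧ τ.1 = swap a b := by
    obtain ⟨a', b, hab, hτab⟩ := τ.2.1
    have : a = a' ∨ a = b := by
      by_contra hcon
      push Not at hcon
      rw [hτab] at ha
      exact ha (swap_apply_of_ne_of_ne hcon.1 hcon.2)
    rcases this with rfl | rfl
    · exact ⟨b, hab, hτab⟩
    · exact ⟨a', hab.symm, by rw [hτab, swap_comm]⟩
  have hσ' : ∃ d, c ≠ d ∧ σ.1 = swap c d := by
    obtain ⟨c', d, hcd, hσcd⟩ := σ.2.1
    have : c = c' ∨ c = d := by
      by_contra hcon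
      push Not at hcon
      rw [hσcd] at hc
      exact hc (swap_apply_of_ne_of_ne hcon.1 hcon.2)
    rcases this with rfl | rfl
    · exact ⟨d, hcd, hσcd⟩
    · exact ⟨c', hcd.symm, by rw [hσcd, swap_comm]⟩
  obtain ⟨b, hab, hτab⟩ := hτ'
  obtain ⟨d, hcd, hσcd⟩ := hσ'
  have h2a : (x ^ 2) a = a := by
    have := (xbar_pow_fix_iff T hx hg 1 τ hab hτab).1 (by rw [pow_one]; exact hτ)
    rw [mul_one] at this
    exact this
  have h2c : (x ^ 2) c = c := by
    have := (xbar_pow_fix_iff T hx hg 1 σ hcd hσcd).1 (by rw [pow_one]; exact hσ)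
    rw [mul_one] at this
    exact this
  -- `x a = b`
  have hxab : x a = b := by
    have h1 := xbar_pow_swap (T : Subgroup (Perm α)) hx 1 τ hτab
    rw [pow_one, hτ, hτab, pow_one] at h1
    have h3 := congrArg (fun f : Perm α => f (x a)) h1
    simp only [swap_apply_left] at h3
    by_contra h5
    rw [swap_apply_of_ne_of_ne hxa h5] at h3
    exact hab (x.injective h3)
  have hpow : ∀ (e : α), (x ^ 2) e = e → ∀ i : ℕ, (x ^ i) e = e ∨ (x ^ i) e = x e := by
    intro e he i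
    rcases Nat.even_or_odd' i with ⟨u, hu | hu⟩
    · left
      rw [hu, pow_mul]
      exact pow_apply_eq_self_of_apply_eq_self he u
    · right
      rw [hu, pow_succ, Perm.mul_apply, pow_mul]
      exact pow_apply_eq_self_of_apply_eq_self (by
        have : (x ^ 2) (x e) = x ((x ^ 2) e) := by
          rw [← Perm.mul_apply, ← Perm.mul_apply, ← pow_succ, ← pow_succ']
        rw [this, he]) u
  have hper : ∀ m : ℕ, (x ^ m) a = a ↔ (x ^ m) c = c := by
    intro m
    rcases Nat.even_or_odd' m with ⟨u, hu | hu⟩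
    · rw [hu, pow_mul]
      exact ⟨fun _ => pow_apply_eq_self_of_apply_eq_self h2c u,
        fun _ => pow_apply_eq_self_of_apply_eq_self h2a u⟩
    · have e1 : (x ^ m) a = x a := by
        rw [hu, pow_succ', Perm.mul_apply, pow_mul,
          pow_apply_eq_self_of_apply_eq_self h2a u]
      have e2 : (x ^ m) c = x c := by
        rw [hu, pow_succ', Perm.mul_apply, pow_mul,
          pow_apply_eq_self_of_apply_eq_self h2c u]
      rw [e1, e2]
      exact ⟨fun h => absurd h hxa, fun h => absurd h hxc⟩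
  obtain ⟨i, hi⟩ := (hg.cyc a c hper hxa).exists_nat_pow_eq
  apply Subtype.ext
  rcases hpow a h2a i with h | h
  · rw [h] at hi
    apply eq_of_moves hT τ.2 σ.2 a ha
    rw [hi]; exact hc
  · rw [h, hxab] at hi
    apply eq_of_moves hT τ.2 σ.2 b
    · rw [hτab]; exact moves_right hab
    · rw [hi]; exact hc

/-- the induced permutation on the swaps is good -/
theorem good_xbar (T : Sylow 2 (Perm α)) {x : Perm α} (hx : x ∈ T) (hg : Good x)
    [Fintype ↥(Tr (T : Subgroup (Perm α)))] :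
    Good (xbar (T : Subgroup (Perm α)) hx) := by
  refine ⟨?_, fun τ σ hper hτ => xbar_cyc T hx hg τ σ hper hτ⟩
  intro τ₁ τ₂ τ₃ h₁ h₂ h₃
  have hmv : ∀ τ : ↥(Tr (T : Subgroup (Perm α))), ∃ a, τ.1 a ≠ a := by
    intro τ
    obtain ⟨a, b, hab, h⟩ := τ.2.1
    exact ⟨a, by rw [h]; exact moves_left hab⟩
  obtain ⟨a₁, ha₁⟩ := hmv τ₁
  obtain ⟨a₂, ha₂⟩ := hmv τ₂
  obtain ⟨a₃, ha₃⟩ := hmv τ₃
  by_cases hx₁ : x a₁ = a₁ <;> by_cases hx₂ : x a₂ = a₂ <;> by_cases hx₃ : x a₃ = a₃
  · exact Or.inl (fixed_type_F T hx hg τ₁ τ₂ ha₁ ha₂ hx₁ hx₂)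
  · exact Or.inl (fixed_type_F T hx hg τ₁ τ₂ ha₁ ha₂ hx₁ hx₂)
  · exact Or.inr (Or.inl (fixed_type_F T hx hg τ₁ τ₃ ha₁ ha₃ hx₁ hx₃))
  · exact Or.inr (Or.inr (fixed_type_C T hx hg τ₂ τ₃ h₂ h₃ ha₂ ha₃ hx₂ hx₃))
  · exact Or.inr (Or.inr (fixed_type_F T hx hg τ₂ τ₃ ha₂ ha₃ hx₂ hx₃))
  · exact Or.inr (Or.inl (fixed_type_C T hx hg τ₁ τ₃ h₁ h₃ ha₁ ha₃ hx₁ hx₃))
  · exact Or.inl (fixed_type_C T hx hg τ₁ τ₂ h₁ h₂ ha₁ ha₂ hx₁ hx₂)
  · exact Or.inl (fixed_type_C T hx hg τ₁ τ₂ h₁ h₂ ha₁ ha₂ hx₁ hx₂)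

end Cfsg.Agent.Helper12.USyl
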