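import Mathlib
import Cfsg.Agent.Lib.Helper12.USylow2

/-!
# Elements of symmetric groups in a unique Sylow `2`-subgroup (helper12), part 3: uniqueness
-/

set_option autoImplicit false

namespace Cfsg.Agent.Helper12.USyl

open Equiv Equiv.Perm Cfsg.Agent.Helper21.SylowSym

universe u

section transport

variable {α : Type*} [Fintype α] [DecidableEq α]

/-- the action of a second subgroup with the same swaps -/
noncomputable def phiB (A B : Subgroup (Perm α)) (h : Tr A = Tr B) : ↥B →* Perm ↥(Tr A) :=
  (phi A).comp (Subgroup.inclusion (show B ≤ Subgroup.normalizer (Tr A) from by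
    rw [h]; exact le_normalizer_Tr B))

theorem phiB_ker (A B : Subgroup (Perm α)) (h : Tr A = Tr B) :
    (phiB A B h).ker = (phiT B).ker := by
  ext b
  rw [MonoidHom.mem_ker, MonoidHom.mem_ker, phiT_eq_one_iff]
  unfold phiB
  rw [MonoidHom.comp_apply, phi_eq_one_iff]
  show (b : Perm α) ∈ Subgroup.centralizer (Tr A) ↔ _
  rw [h]

theorem card_range_phiB (A B : Subgroup (Perm α)) (h : Tr A = Tr B) :
    Nat.card (phiB A B h).range = Nat.card (phiT B).range := by
  rw [← Subgroup.index_ker, ← Subgroup.index_ker, phiB_ker]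

theorem card_perm_Tr (A B : Subgroup (Perm α)) (h : Tr A = Tr B) :
    Nat.card (Perm ↥(Tr A)) = Nat.card (Perm ↥(Tr B)) := by
  rw [h]

end transport

/-- the inductive uniqueness statement -/
theorem le_aux : ∀ n : ℕ, ∀ (α : Type u) [Fintype α] [DecidableEq α],
    Fintype.card α = n → ∀ (x : Perm α), Good x → ∀ T T' : Sylow 2 (Perm α),
    x ∈ T → x ∈ T' → (T' : Subgroup (Perm α)) ≤ (T : Subgroup (Perm α)) := by
  intro n
  induction n using Nat.strong_induction_on with
  | _ n ih =>
    intro α _ _ hcard x hg T T' hx hx' t' ht'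
    classical
    rcases Nat.eq_zero_or_pos n with hn0 | hnpos
    · rw [hn0, Fintype.card_eq_zero_iff] at hcard
      have : t' = 1 := Subsingleton.elim _ _
      rw [this]
      exact Subgroup.one_mem _
    · obtain ⟨hb1, hb2⟩ := card_bounds T
      haveI : Fintype ↥(Tr (T : Subgroup (Perm α))) := Fintype.ofFinite _
      have hlt : Fintype.card ↥(Tr (T : Subgroup (Perm α))) < n := by
        rw [← Nat.card_eq_fintype_card]
        omega
      have hTr := Tr_eq T T' hx hx' hg
      set Tbar : Sylow 2 (Perm ↥(Tr (T : Subgroup (Perm α)))) :=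
        Sylow.ofCard (phiT (T : Subgroup (Perm α))).range (card_range_phiT T) with hTbar
      have hcardB : Nat.card (phiB (T : Subgroup (Perm α)) (T' : Subgroup (Perm α)) hTr).range =
          2 ^ (Nat.card (Perm ↥(Tr (T : Subgroup (Perm α))))).factorization 2 := by
        rw [card_range_phiB, card_perm_Tr _ _ hTr]
        exact card_range_phiT T'
      set Tbar' : Sylow 2 (Perm ↥(Tr (T : Subgroup (Perm α)))) :=
        Sylow.ofCard (phiB (T : Subgroup (Perm α)) (T' : Subgroup (Perm α)) hTr).range hcardB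
        with hTbar'
      have hcoe : (Tbar : Subgroup (Perm ↥(Tr (T : Subgroup (Perm α))))) =
          (phiT (T : Subgroup (Perm α))).range := Sylow.coe_ofCard _ _
      have hcoe' : (Tbar' : Subgroup (Perm ↥(Tr (T : Subgroup (Perm α))))) =
          (phiB (T : Subgroup (Perm α)) (T' : Subgroup (Perm α)) hTr).range :=
        Sylow.coe_ofCard _ _
      have hgbar := good_xbar T hx hg
      have hxbar : xbar (T : Subgroup (Perm α)) hx ∈ Tbar := by
        show xbar (T : Subgroup (Perm α)) hx ∈ (Tbar : Subgroup (Perm ↥(Tr (T : Subgroup (Perm α)))))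
        rw [hcoe]
        exact ⟨⟨x, hx⟩, rfl⟩
      have hxbar' : xbar (T : Subgroup (Perm α)) hx ∈ Tbar' := by
        show xbar (T : Subgroup (Perm α)) hx ∈
          (Tbar' : Subgroup (Perm ↥(Tr (T : Subgroup (Perm α)))))
        rw [hcoe']
        exact ⟨⟨x, hx'⟩, rfl⟩
      have hIH := ih _ hlt ↥(Tr (T : Subgroup (Perm α))) rfl (xbar (T : Subgroup (Perm α)) hx)
        hgbar Tbar Tbar' hxbar hxbar'
      have ht'N : t' ∈ Subgroup.normalizer (Tr (T : Subgroup (Perm α))) := by
        rw [hTr]; exact le_normalizer_Tr _ ht'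
      apply mem_of_phi_mem_range T ⟨t', ht'N⟩
      rw [← hcoe]
      apply hIH
      rw [hcoe']
      exact ⟨⟨t', ht'⟩, rfl⟩

/-- **Uniqueness**: a good element lies in at most one Sylow `2`-subgroup. -/
theorem unique_of_good {α : Type u} [Fintype α] [DecidableEq α] (x : Perm α) (hg : Good x)
    (T T' : Sylow 2 (Perm α)) (hx : x ∈ T) (hx' : x ∈ T') : T = T' := by
  have h1 := le_aux _ α rfl x hg T T' hx hx'
  have h2 := le_aux _ α rfl x hg T' T hx' hx
  exact Sylow.ext (le_antisymm h2 h1)

end Cfsg.Agent.Helper12.USyl
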