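import Mathlib
import Cfsg.Agent.Lib.Helper12.USylow3

/-!
# Elements of symmetric groups in a unique Sylow `2`-subgroup (helper12), part 4: necessity
-/

set_option autoImplicit false

namespace Cfsg.Agent.Helper12.USyl

open Equiv Equiv.Perm Cfsg.Agent.Helper21.SylowSym

section general

variable {G : Type*} [Group G]

theorem mem_normalizer_of_conj_mem' (K : Subgroup G) [Finite K] {g : G}
    (h : ∀ x ∈ K, g * x * g⁻¹ ∈ K) : g ∈ Subgroup.normalizer (K : Set G) := by
  rw [Subgroup.mem_normalizer_iff]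
  intro x
  refine ⟨h x, fun hx => ?_⟩
  let f : K → K := fun k => ⟨g * k * g⁻¹, h k k.2⟩
  have hinj : Function.Injective f := by
    intro a b hab
    have := congrArg Subtype.val hab
    simp only [f] at this
    apply Subtype.ext
    have h2 : (a : G) = g⁻¹ * (g * a * g⁻¹) * g := by group
    rw [h2, this]; group
  obtain ⟨k, hk⟩ := (Finite.injective_iff_surjective.1 hinj) ⟨_, hx⟩
  have := congrArg Subtype.val hk
  simp only [f] at this
  have h2 : x = g⁻¹ * (g * x * g⁻¹) * g := by group
  rw [h2, ← this]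
  have h3 : g⁻¹ * (g * (k : G) * g⁻¹) * g = k := by group
  rw [h3]; exact k.2

/-- the closure of a set of pairwise commuting involutions is a `2`-group -/
theorem isPGroup_closure_of_comm_invol (S : Set G) (hinv : ∀ s ∈ S, s * s = 1)
    (hcomm : ∀ s ∈ S, ∀ t ∈ S, s * t = t * s) : IsPGroup 2 (Subgroup.closure S) := by
  have h1 : ∀ g ∈ Subgroup.closure S, ∀ s ∈ S, g * s = s * g := by
    intro g hg s hs
    induction hg using Subgroup.closure_induction with
    | mem t ht => exact hcomm t ht s hs
    | one => rw [one_mul, mul_one]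
    | mul a b _ _ iha ihb => rw [mul_assoc, ihb, ← mul_assoc, iha, mul_assoc]
    | inv a _ iha =>
      calc a⁻¹ * s = a⁻¹ * (s * a) * a⁻¹ := by group
        _ = a⁻¹ * (a * s) * a⁻¹ := by rw [iha]
        _ = s * a⁻¹ := by group
  have h2 : ∀ g ∈ Subgroup.closure S, ∀ h ∈ Subgroup.closure S, g * h = h * g := by
    intro g hg h hh
    induction hh using Subgroup.closure_induction with
    | mem t ht => exact h1 g hg t ht
    | one => rw [one_mul, mul_one]
    | mul a b _ _ iha ihb => rw [← mul_assoc, iha, mul_assoc, ihb, ← mul_assoc]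
    | inv a _ iha =>
      calc g * a⁻¹ = a⁻¹ * (a * g) * a⁻¹ := by group
        _ = a⁻¹ * (g * a) * a⁻¹ := by rw [iha]
        _ = a⁻¹ * g := by group
  have h3 : ∀ g ∈ Subgroup.closure S, g * g = 1 := by
    intro g hg
    induction hg using Subgroup.closure_induction with
    | mem t ht => exact hinv t ht
    | one => rw [one_mul]
    | mul a b ha hb iha ihb =>
      calc a * b * (a * b) = a * (b * a) * b := by group
        _ = a * (a * b) * b := by rw [h2 b hb a ha]
        _ = (a * a) * (b * b) := by group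
        _ = 1 := by rw [iha, ihb, one_mul]
    | inv a _ iha =>
      rw [← mul_inv_rev, iha, inv_one]
  intro g
  refine ⟨1, ?_⟩
  apply Subtype.ext
  rw [pow_one, pow_two]
  exact h3 g g.2

/-- conjugation maps the closure of a stable set into itself -/
theorem conj_mem_closure (S : Set G) (x : G) (h : ∀ s ∈ S, x * s * x⁻¹ ∈ S) :
    ∀ g ∈ Subgroup.closure S, x * g * x⁻¹ ∈ Subgroup.closure S := by
  intro g hg
  induction hg using Subgroup.closure_induction with
  | mem t ht => exact Subgroup.subset_closure (h t ht)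
  | one => simp
  | mul a b _ _ iha ihb =>
    have : x * (a * b) * x⁻¹ = (x * a * x⁻¹) * (x * b * x⁻¹) := by group
    rw [this]; exact Subgroup.mul_mem _ iha ihb
  | inv a _ iha =>
    have : x * a⁻¹ * x⁻¹ = (x * a * x⁻¹)⁻¹ := by group
    rw [this]; exact Subgroup.inv_mem _ iha

end general

variable {α : Type*} [Fintype α] [DecidableEq α]

omit [Fintype α] [DecidableEq α] in
theorem pow_eq_pow_iff {x : Perm α} {a a' : α}
    (h1 : ∀ m : ℕ, (x ^ m) a = a ↔ (x ^ m) a' = a') (k l : ℕ) :
    (x ^ k) a = (x ^ l) a ↔ (x ^ k) a' = (x ^ l) a' := by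
  have key : ∀ (b : α) (k l : ℕ), k ≤ l → ((x ^ k) b = (x ^ l) b ↔ (x ^ (l - k)) b = b) := by
    intro b k l hkl
    have : x ^ l = x ^ k * x ^ (l - k) := by rw [← pow_add]; congr 1; omega
    rw [this, Perm.mul_apply]
    constructor
    · intro h; exact ((x ^ k).injective h).symm
    · intro h; rw [h]
  rcases le_total k l with hkl | hkl
  · rw [key a k l hkl, key a' k l hkl]; exact h1 _
  · rw [eq_comm, key a l k hkl, eq_comm (a := (x ^ k) a'), key a' l k hkl]; exact h1 _

/-- **Lemma X**: under uniqueness, points of equal period in different orbits are swapped by an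
element of the Sylow subgroup. -/
theorem swap_mem_of_unique (x : Perm α) (hx2 : ∃ k : ℕ, orderOf x = 2 ^ k) (T : Sylow 2 (Perm α))
    (huniq : ∀ T' : Sylow 2 (Perm α), x ∈ T' → T' = T) {a a' : α}
    (h1 : ∀ m : ℕ, (x ^ m) a = a ↔ (x ^ m) a' = a')
    (h2 : ∀ k l : ℕ, (x ^ k) a ≠ (x ^ l) a') : swap a a' ∈ (T : Subgroup (Perm α)) := by
  obtain ⟨S, hS⟩ : ∃ S : Set (Perm α), S = {τ | ∃ k : ℕ, τ = swap ((x ^ k) a) ((x ^ k) a')} :=
    ⟨_, rfl⟩
  have hinv : ∀ s ∈ S, s * s = 1 := by
    intro s hs
    rw [hS] at hs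
    obtain ⟨k, rfl⟩ := hs
    exact swap_mul_self _ _
  have hcomm : ∀ s ∈ S, ∀ t ∈ S, s * t = t * s := by
    intro s hs t ht
    rw [hS] at hs ht
    obtain ⟨k, rfl⟩ := hs
    obtain ⟨l, rfl⟩ := ht
    by_cases hkl : (x ^ k) a = (x ^ l) a
    · rw [hkl, (pow_eq_pow_iff h1 k l).1 hkl]
    · have hkl' : (x ^ k) a' ≠ (x ^ l) a' := fun h => hkl ((pow_eq_pow_iff h1 k l).2 h)
      apply Perm.Disjoint.commute
      apply disjoint_swap_swap
      simp only [List.nodup_cons, List.mem_cons, List.not_mem_nil, or_false, not_or,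
        List.nodup_nil, and_true, not_false_eq_true]
      exact ⟨⟨h2 k k, hkl, h2 k l⟩, ⟨(h2 l k).symm, hkl'⟩, h2 l l⟩
  have hE2 := isPGroup_closure_of_comm_invol S hinv hcomm
  have hconjS : ∀ s ∈ S, x * s * x⁻¹ ∈ S := by
    intro s hs
    rw [hS] at hs ⊢
    obtain ⟨k, rfl⟩ := hs
    refine ⟨k + 1, ?_⟩
    rw [← swap_apply_apply, pow_succ', Perm.mul_apply, Perm.mul_apply]
  have hxN : x ∈ Subgroup.normalizer ((Subgroup.closure S : Subgroup (Perm α)) : Set (Perm α)) :=
    mem_normalizer_of_conj_mem' _ (conj_mem_closure S x hconjS)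
  have hZ2 : IsPGroup 2 (Subgroup.zpowers x) := by
    obtain ⟨k, hk⟩ := hx2
    apply IsPGroup.of_card (n := k)
    rw [Nat.card_zpowers, hk]
  have hZN : Subgroup.zpowers x ≤
      Subgroup.normalizer ((Subgroup.closure S : Subgroup (Perm α)) : Set (Perm α)) := by
    rw [Subgroup.zpowers_le]; exact hxN
  have hsup := hZ2.to_sup_of_normal_right' hE2 hZN
  obtain ⟨T', hT'⟩ := hsup.exists_le_sylow
  have hxT' : x ∈ T' := hT' (Subgroup.mem_sup_left (Subgroup.mem_zpowers x))
  rw [← huniq T' hxT']
  apply hT'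
  apply Subgroup.mem_sup_right
  apply Subgroup.subset_closure
  rw [hS]
  exact ⟨0, by rw [pow_zero]; rfl⟩

/-- **Necessity**: an element of `2`-power order in a unique Sylow `2`-subgroup is good. -/
theorem good_of_unique (x : Perm α) (hx2 : ∃ k : ℕ, orderOf x = 2 ^ k) (T : Sylow 2 (Perm α))
    (huniq : ∀ T' : Sylow 2 (Perm α), x ∈ T' → T' = T) : Good x := by
  have hT := T.isPGroup'
  constructor
  · intro a b c ha hb hc
    by_contra hcon
    push Not at hcon
    obtain ⟨hab, hac, hbc⟩ := hcon
    have hfix : ∀ e : α, x e = e → ∀ m : ℕ, (x ^ m) e = e :=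
      fun e he m => pow_apply_eq_self_of_apply_eq_self he m
    have h1 : swap a b ∈ (T : Subgroup (Perm α)) := by
      apply swap_mem_of_unique x hx2 T huniq
      · intro m; rw [hfix a ha m, hfix b hb m]; exact ⟨fun _ => rfl, fun _ => rfl⟩
      · intro k l; rw [hfix a ha k, hfix b hb l]; exact hab
    have h2 : swap a c ∈ (T : Subgroup (Perm α)) := by
      apply swap_mem_of_unique x hx2 T huniq
      · intro m; rw [hfix a ha m, hfix c hc m]; exact ⟨fun _ => rfl, fun _ => rfl⟩
      · intro k l; rw [hfix a ha k, hfix c hc l]; exact hac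
    exact hbc (swap_eq_of_mem hT hab hac h1 h2)
  · intro a a' hper ha
    by_contra hns
    have h2 : ∀ k l : ℕ, (x ^ k) a ≠ (x ^ l) a' := by
      intro k l h
      apply hns
      refine ⟨(k : ℤ) - l, ?_⟩
      rw [sub_eq_neg_add, zpow_add, Perm.mul_apply, zpow_natCast, h, zpow_neg, zpow_natCast]
      simp
    have ha' : x a' ≠ a' := by
      intro h
      apply ha
      have := (hper 1).2 (by rw [pow_one]; exact h)
      rw [pow_one] at this
      exact this
    have hcommx : ∀ m : ℕ, (x ^ m) (x a') = x ((x ^ m) a') := by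
      intro m
      rw [← Perm.mul_apply, ← Perm.mul_apply, ← pow_succ, ← pow_succ']
    have h1 : swap a a' ∈ (T : Subgroup (Perm α)) :=
      swap_mem_of_unique x hx2 T huniq hper h2
    have h3 : swap a (x a') ∈ (T : Subgroup (Perm α)) := by
      apply swap_mem_of_unique x hx2 T huniq
      · intro m
        rw [hper m, hcommx m]
        constructor
        · intro h; rw [h]
        · intro h; exact x.injective h
      · intro k l
        rw [hcommx l, ← Perm.mul_apply, ← pow_succ']
        exact h2 k (l + 1)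
    have hne1 : a ≠ a' := by
      have := h2 0 0
      simpa using this
    have hne2 : a ≠ x a' := by
      have := h2 0 1
      simpa using this
    exact ha' (swap_eq_of_mem hT hne1 hne2 h1 h3).symm

end Cfsg.Agent.Helper12.USyl
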