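import Mathlib
import Cfsg.Agent.Lib.Helper12.USylow4

/-!
# Elements of symmetric groups in a unique Sylow `2`-subgroup (helper12), part 5: translation
-/

set_option autoImplicit false

namespace Cfsg.Agent.Helper12.USyl

open Equiv Equiv.Perm Cfsg.Agent.Helper21.SylowSym

variable {α : Type*} [Fintype α] [DecidableEq α]

/-- the period of a moved point is the length of its cycle -/
theorem pow_apply_eq_iff_card (x : Perm α) {a : α} (ha : x a ≠ a) (m : ℕ) :
    (x ^ m) a = a ↔ (x.cycleOf a).support.card ∣ m := by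
  have hc : (x.cycleOf a).IsCycle := isCycle_cycleOf x ha
  have hca : (x.cycleOf a) a ≠ a := by rw [cycleOf_apply_self]; exact ha
  rw [← cycleOf_pow_apply_self, ← hc.pow_eq_one_iff' hca, ← orderOf_dvd_iff_pow_eq_one, hc.orderOf]

theorem fix_iff (x : Perm α) :
    (∀ a b c, x a = a → x b = b → x c = c → a = b ∨ a = c ∨ b = c) ↔
      Fintype.card α ≤ x.support.card + 2 := by
  have hcard : x.supportᶜ.card = Fintype.card α - x.support.card := Finset.card_compl _
  have hle : x.support.card ≤ Fintype.card α := Finset.card_le_univ _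
  have hmem : ∀ a, a ∈ x.supportᶜ ↔ x a = a := by
    intro a
    rw [Finset.mem_compl, Perm.mem_support, not_not]
  constructor
  · intro h
    by_contra hcon
    have h3 : 2 < x.supportᶜ.card := by rw [hcard]; omega
    obtain ⟨a, ha, b, hb, c, hc, hab, hac, hbc⟩ := Finset.two_lt_card.1 h3
    rcases h a b c ((hmem a).1 ha) ((hmem b).1 hb) ((hmem c).1 hc) with h | h | h
    · exact hab h
    · exact hac h
    · exact hbc h
  · intro h a b c ha hb hc
    by_contra hcon
    push Not at hcon
    have h3 : 2 < x.supportᶜ.card := by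
      rw [Finset.two_lt_card]
      exact ⟨a, (hmem a).2 ha, b, (hmem b).2 hb, c, (hmem c).2 hc, hcon.1, hcon.2.1, hcon.2.2⟩
    rw [hcard] at h3
    omega

theorem cyc_iff (x : Perm α) :
    (∀ a b, (∀ m : ℕ, (x ^ m) a = a ↔ (x ^ m) b = b) → x a ≠ a → x.SameCycle a b) ↔
      x.cycleType.Nodup := by
  rw [cycleType_def, Multiset.nodup_map_iff_inj_on x.cycleFactorsFinset.nodup]
  constructor
  · intro h c hc d hd hcd
    rw [Finset.mem_val] at hc hd
    have hcc := (mem_cycleFactorsFinset_iff.1 hc).1
    have hdc := (mem_cycleFactorsFinset_iff.1 hd).1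
    obtain ⟨a, ha⟩ := hcc.nonempty_support
    obtain ⟨b, hb⟩ := hdc.nonempty_support
    have hca := cycle_is_cycleOf ha hc
    have hdb := cycle_is_cycleOf hb hd
    have hxa : x a ≠ a := by
      have h1 := (mem_cycleFactorsFinset_iff.1 hc).2 a ha
      rw [← h1]
      exact Perm.mem_support.1 ha
    have hxb : x b ≠ b := by
      have h1 := (mem_cycleFactorsFinset_iff.1 hd).2 b hb
      rw [← h1]
      exact Perm.mem_support.1 hb
    have hsc := h a b (by
      intro m
      rw [pow_apply_eq_iff_card x hxa, pow_apply_eq_iff_card x hxb, ← hca, ← hdb]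
      simp only [Function.comp_apply] at hcd
      rw [hcd]) hxa
    rw [hca, hdb]
    exact hsc.cycleOf_eq
  · intro h a b hper ha
    have hb : x b ≠ b := by
      intro hb
      apply ha
      have := (hper 1).2 (by rw [pow_one]; exact hb)
      rw [pow_one] at this
      exact this
    have hc : x.cycleOf a ∈ x.cycleFactorsFinset.val := by
      rw [Finset.mem_val, cycleOf_mem_cycleFactorsFinset_iff, Perm.mem_support]; exact ha
    have hd : x.cycleOf b ∈ x.cycleFactorsFinset.val := by
      rw [Finset.mem_val, cycleOf_mem_cycleFactorsFinset_iff, Perm.mem_support]; exact hb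
    have hcard : (x.cycleOf a).support.card = (x.cycleOf b).support.card := by
      apply Nat.dvd_antisymm
      · rw [← pow_apply_eq_iff_card x ha, hper, pow_apply_eq_iff_card x hb]
      · rw [← pow_apply_eq_iff_card x hb, ← hper, pow_apply_eq_iff_card x ha]
    have heq := h _ hc _ hd hcard
    have hbm : b ∈ (x.cycleOf b).support := by
      rw [mem_support_cycleOf_iff]
      exact ⟨SameCycle.refl x b, Perm.mem_support.2 hb⟩
    rw [← heq, mem_support_cycleOf_iff] at hbm
    exact hbm.1

theorem good_iff (x : Perm α) :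
    Good x ↔ (Fintype.card α ≤ x.support.card + 2 ∧ x.cycleType.Nodup) := by
  rw [← fix_iff, ← cyc_iff]
  exact ⟨fun h => ⟨h.fix, h.cyc⟩, fun h => ⟨h.1, h.2⟩⟩

/-- The main theorem in general form. -/
theorem main (x : Perm α) (hx : ∃ k : ℕ, orderOf x = 2 ^ k) :
    (∃! P : Sylow 2 (Perm α), x ∈ P) ↔
      (Fintype.card α ≤ x.support.card + 2 ∧ x.cycleType.Nodup) := by
  rw [← good_iff]
  constructor
  · rintro ⟨P, hxP, huniq⟩
    exact good_of_unique x hx P (fun T' hT' => huniq T' hT')
  · intro hg
    have hZ2 : IsPGroup 2 (Subgroup.zpowers x) := by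
      obtain ⟨k, hk⟩ := hx
      apply IsPGroup.of_card (n := k)
      rw [Nat.card_zpowers, hk]
    obtain ⟨P, hP⟩ := hZ2.exists_le_sylow
    have hxP : x ∈ P := hP (Subgroup.mem_zpowers x)
    exact ⟨P, hxP, fun T' hT' => unique_of_good x hg T' P hT' hxP⟩

end Cfsg.Agent.Helper12.USyl
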