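import Mathlib

set_option autoImplicit false

namespace Cfsg.Agent.Helper12.UniPart

/-- The covering property of the intervals `[t a, t a + (b - t r) (a / r)]`. -/
def Covers (a b r : ℕ) : Prop :=
  ∀ j, 1 ≤ j → r * j ≤ a * b →
    ∃ t, t * r ≤ b ∧ t * a ≤ j ∧ j ≤ t * a + (b - t * r) * (a / r)

/-- The closed-form arithmetic condition of the statement. -/
def Cond (a b r : ℕ) : Prop :=
  r ≤ a ∧ (a % r = 0 ∨ (b % r = 0 ∧ a % r = 1) ∨
    (a % r ≠ 0 ∧ b % r ≠ 0 ∧ (b % r) * (a % r) < r ∧
      (b < r ∨ (b % r + r) * (a % r) ≤ (b % r) * a + r)))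

theorem cond_iff_aux (a b r : ℕ) (hb : 2 ≤ b) (hr : 2 ≤ r) :
    Cond a b r ↔ (r ≤ a ∧ (b % r) * (a % r) < r ∧ (b / r = 0 ∨ a % r ≤ (b % r) * (a / r) + 1)) := by
  unfold Cond
  have hr0 : 0 < r := by omega
  have hA := Nat.div_add_mod a r
  have hB := Nat.div_add_mod b r
  have hl := Nat.mod_lt a hr0
  have hk := Nat.mod_lt b hr0
  set A := a / r
  set l := a % r
  set T := b / r
  set k := b % r
  have hT0 : T = 0 ↔ b < r := by
    constructor
    · intro h; rw [h] at hB; omega
    · intro h; exact Nat.div_eq_of_lt h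
  have key : (k + r) * l ≤ k * a + r ↔ l ≤ k * A + 1 := by
    have e1 : k * a + r = r * (k * A + 1) + k * l := by rw [← hA]; ring
    have e2 : (k + r) * l = r * l + k * l := by ring
    rw [e1, e2]
    constructor
    · intro h
      have : r * l ≤ r * (k * A + 1) := by omega
      exact Nat.le_of_mul_le_mul_left this hr0
    · intro h
      have : r * l ≤ r * (k * A + 1) := Nat.mul_le_mul_left r h
      omega
  constructor
  · rintro ⟨h1, h2⟩
    refine ⟨h1, ?_⟩
    rcases h2 with h2 | ⟨h2, h3⟩ | ⟨h2, h3, h4, h5⟩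
    · rw [h2]; simp; omega
    · rw [h2, h3]; simp; omega
    · refine ⟨h4, ?_⟩
      rcases h5 with h5 | h5
      · left; exact hT0.mpr h5
      · right; exact key.mp h5
  · rintro ⟨h1, h2, h3⟩
    refine ⟨h1, ?_⟩
    by_cases hl0 : l = 0
    · left; exact hl0
    · right
      by_cases hk0 : k = 0
      · left
        refine ⟨hk0, ?_⟩
        rcases h3 with h3 | h3
        · rw [h3, hk0] at hB; omega
        · rw [hk0] at h3; omega
      · right
        refine ⟨hl0, hk0, h2, ?_⟩
        rcases h3 with h3 | h3
        · left; exact hT0.mp h3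
        · right; exact key.mpr h3

theorem covers_of_cond (a b r : ℕ) (hb : 2 ≤ b) (hr : 2 ≤ r) (h : Cond a b r) :
    Covers a b r := by
  rw [cond_iff_aux a b r hb hr] at h
  obtain ⟨h1, h2, h3⟩ := h
  have hr0 : 0 < r := by omega
  have hA := Nat.div_add_mod a r
  have hB := Nat.div_add_mod b r
  have hl := Nat.mod_lt a hr0
  have hk := Nat.mod_lt b hr0
  intro j hj1 hj2
  set A := a / r with hAdef
  set l := a % r
  set T := b / r
  set k := b % r
  -- j ≤ b A + T l
  have hjR : j ≤ b * A + T * l := by
    have e : a * b = r * (b * A + T * l) + k * l := by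
      rw [← hA, ← hB]; ring
    rw [e] at hj2
    have : r * j < r * (b * A + T * l + 1) := by
      have : r * (b * A + T * l + 1) = r * (b * A + T * l) + r := by ring
      omega
    have := Nat.lt_of_mul_lt_mul_left this
    omega
  have hex : ∃ t, j ≤ b * A + t * l := ⟨T, hjR⟩
  classical
  let t := Nat.find hex
  have ht : j ≤ b * A + t * l := Nat.find_spec hex
  have htT : t ≤ T := Nat.find_min' hex hjR
  have htr : t * r ≤ b := by
    have : t * r ≤ T * r := Nat.mul_le_mul_right r htT
    have e : r * T = T * r := by ring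
    omega
  have hid : t * a + (b - t * r) * A = b * A + t * l := by
    have e1 : t * a = t * r * A + t * l := by rw [← hA]; ring
    have e2 : (b - t * r) * A + t * r * A = b * A := by
      rw [← Nat.add_mul]; congr 1; omega
    omega
  refine ⟨t, htr, ?_, ?_⟩
  · by_cases ht0 : t = 0
    · rw [ht0]; simp
    · have hpred : ¬ (j ≤ b * A + (t - 1) * l) := Nat.find_min hex (by omega)
      have hT1 : T ≠ 0 := by omega
      have h3' : l ≤ k * A + 1 := by
        rcases h3 with h3 | h3
        · exact absurd h3 hT1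
        · exact h3
      -- t a ≤ j
      have e1 : t * a = t * r * A + t * l := by rw [← hA]; ring
      have e3 : (t - 1) * l + l = t * l := by
        rw [← Nat.succ_mul]; congr 1; omega
      have e4 : t * r * A + k * A ≤ b * A := by
        rw [← Nat.add_mul]
        apply Nat.mul_le_mul_right
        have : t * r ≤ T * r := Nat.mul_le_mul_right r htT
        have e : r * T = T * r := by ring
        omega
      omega
  · rw [hid]; exact ht

theorem not_covers_of_not_cond (a b r : ℕ) (ha : 2 ≤ a) (hb : 2 ≤ b) (hr : 2 ≤ r)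
    (hrab : r ≤ a * b) (h : ¬ Cond a b r) : ¬ Covers a b r := by
  rw [cond_iff_aux a b r hb hr] at h
  have hr0 : 0 < r := by omega
  have hA := Nat.div_add_mod a r
  have hB := Nat.div_add_mod b r
  have hl := Nat.mod_lt a hr0
  have hk := Nat.mod_lt b hr0
  intro hc
  unfold Covers at hc
  set A := a / r with hAdef
  set l := a % r
  set T := b / r
  set k := b % r
  by_cases h1 : r ≤ a
  swap
  · -- A = 0, j = 1
    have hA0 : A = 0 := Nat.div_eq_of_lt (by omega)
    obtain ⟨t, _, h2, h3⟩ := hc 1 le_rfl (by omega)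
    rw [hA0] at h3
    simp at h3
    have : t * a = 1 := by omega
    have := Nat.eq_one_of_mul_eq_one_left this
    omega
  have hA1 : 1 ≤ A := Nat.div_pos h1 hr0
  have hR : ∀ t, t * r ≤ b → t * a + (b - t * r) * A = b * A + t * l := by
    intro t htr
    have e1 : t * a = t * r * A + t * l := by rw [← hA]; ring
    have e2 : (b - t * r) * A + t * r * A = b * A := by
      rw [← Nat.add_mul]; congr 1; omega
    omega
  have hTle : ∀ t, t * r ≤ b → t ≤ T := by
    intro t htr
    exact (Nat.le_div_iff_mul_le hr0).mpr htr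
  by_cases h2 : k * l < r
  swap
  · -- j = a b / r
    have e : a * b = r * (b * A + T * l) + k * l := by
      rw [← hA, ← hB]; ring
    have hj : b * A + T * l + 1 ≤ a * b / r := by
      rw [Nat.le_div_iff_mul_le hr0]
      have : (b * A + T * l + 1) * r = r * (b * A + T * l) + r := by ring
      omega
    obtain ⟨t, htr, _, h4⟩ := hc (a * b / r) (by omega) (Nat.mul_div_le _ _)
    rw [hR t htr] at h4
    have : t * l ≤ T * l := Nat.mul_le_mul_right l (hTle t htr)
    omega
  have h3 : ¬ (T = 0 ∨ l ≤ k * A + 1) := fun h3 => h ⟨h1, h2, h3⟩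
  push Not at h3
  obtain ⟨hT0, h3⟩ := h3
  have hT1 : 1 ≤ T := Nat.pos_of_ne_zero hT0
  have hTa : 2 ≤ T * a := by nlinarith
  have hTr : T * r ≤ b := by
    have e : r * T = T * r := by ring
    omega
  obtain ⟨t, htr, h4, h5⟩ := hc (T * a - 1) (by omega) (by
    have : r * (T * a - 1) ≤ r * (T * a) := Nat.mul_le_mul_left r (by omega)
    have e : r * (T * a) = a * (T * r) := by ring
    have : a * (T * r) ≤ a * b := Nat.mul_le_mul_left a hTr
    omega)
  have htT := hTle t htr
  rcases Nat.lt_or_ge t T with hlt | hge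
  · -- t ≤ T - 1
    rw [hR t htr] at h5
    have : t * l ≤ (T - 1) * l := Nat.mul_le_mul_right l (by omega)
    have e1 : T * a = T * r * A + T * l := by rw [← hA]; ring
    have e3 : (T - 1) * l + l = T * l := by
      rw [← Nat.succ_mul]; congr 1; omega
    have e4 : b * A = T * r * A + k * A := by
      rw [← Nat.add_mul]; congr 1
      have e : r * T = T * r := by ring
      omega
    omega
  · have : t = T := le_antisymm htT hge
    rw [this] at h4
    omega

theorem covers_iff_cond (a b r : ℕ) (ha : 2 ≤ a) (hb : 2 ≤ b) (hr : 2 ≤ r) (hrab : r ≤ a * b) :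
    Covers a b r ↔ Cond a b r := by
  constructor
  · intro h
    by_contra hc
    exact not_covers_of_not_cond a b r ha hb hr hrab hc h
  · exact covers_of_cond a b r hb hr

end Cfsg.Agent.Helper12.UniPart
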