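import Mathlib
import Cfsg.Agent.Lib.Helper12.UniPartA

set_option autoImplicit false

namespace Cfsg.Agent.Helper12.UniPart

open Equiv Equiv.Perm

variable {α : Type*} [Fintype α] [DecidableEq α]

theorem pow_equivariant {β : Type*} (σ : Perm α) (f : α → β) (π : Perm β)
    (hπ : ∀ x, f (σ x) = π (f x)) (m : ℕ) (x : α) : f ((σ ^ m) x) = (π ^ m) (f x) := by
  induction m generalizing x with
  | zero => simp
  | succ m ih =>
    rw [pow_succ, pow_succ, Perm.mul_apply, Perm.mul_apply, ih, hπ]

/-- the number of moved points in an invariant block is divisible by `r`. -/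
theorem dvd_card_moved (r : ℕ) (hr : r.Prime) (σ : Perm α) (hσ : σ ^ r = 1)
    (p : α → Prop) [DecidablePred p] (hp : ∀ x, p (σ x) ↔ p x) :
    r ∣ (Finset.univ.filter (fun x => p x ∧ σ x ≠ x)).card := by
  classical
  have hq : ∀ x, (p (σ x) ∧ σ (σ x) ≠ σ x) ↔ (p x ∧ σ x ≠ x) := by
    intro x
    rw [hp x]
    constructor
    · rintro ⟨h1, h2⟩
      exact ⟨h1, fun h => h2 (congrArg σ h)⟩
    · rintro ⟨h1, h2⟩
      exact ⟨h1, fun h => h2 (σ.injective h)⟩
  let τ : Perm {x // p x ∧ σ x ≠ x} := σ.subtypePerm hq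
  have hτ : τ ^ r ^ 1 = 1 := by
    rw [pow_one]
    ext x
    simp only [τ, subtypePerm_pow, subtypePerm_apply, hσ, Perm.coe_one, id_eq]
  have hfact : Fact r.Prime := ⟨hr⟩
  have h1 := card_compl_support_modEq hτ
  have h2 : τ.supportᶜ = ∅ := by
    rw [Finset.compl_eq_empty_iff]
    ext x
    simp only [mem_support, Finset.mem_univ, iff_true, τ]
    intro h
    have := congrArg Subtype.val h
    simp only [subtypePerm_apply] at this
    exact x.2.2 this
  rw [h2, Finset.card_empty] at h1
  have h3 : r ∣ Fintype.card {x // p x ∧ σ x ≠ x} := (Nat.modEq_zero_iff_dvd.mp h1.symm)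
  rwa [Fintype.card_subtype] at h3

theorem forward (a b r : ℕ) (ha : 1 ≤ a) (hr : r.Prime) (σ : Perm α) (hσ : orderOf σ = r)
    (f : α → Fin b) (hf : ∀ i, Nat.card {x // f x = i} = a) (π : Perm (Fin b))
    (hπ : ∀ x, f (σ x) = π (f x))
    (j : ℕ) (hj : σ.cycleType = Multiset.replicate j r) :
    ∃ t, t * r ≤ b ∧ t * a ≤ j ∧ j ≤ t * a + (b - t * r) * (a / r) := by
  classical
  have hr0 : 0 < r := hr.pos
  have hfact : Fact r.Prime := ⟨hr⟩
  have hσr : σ ^ r = 1 := by rw [← hσ]; exact pow_orderOf_eq_one σ
  -- fibers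
  have hfc : ∀ i, (Finset.univ.filter (fun x => f x = i)).card = a := by
    intro i
    rw [← hf i, Nat.card_eq_fintype_card, Fintype.card_subtype]
  have hsurj : Function.Surjective f := by
    intro i
    have : 0 < (Finset.univ.filter (fun x => f x = i)).card := by rw [hfc i]; exact ha
    obtain ⟨x, hx⟩ := Finset.card_pos.mp this
    exact ⟨x, (Finset.mem_filter.mp hx).2⟩
  -- π ^ r = 1
  have hπr : π ^ r = 1 := by
    ext i
    obtain ⟨x, rfl⟩ := hsurj i
    rw [← pow_equivariant σ f π hπ r x, hσr]
    simp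
  -- support of π
  obtain ⟨t, ht⟩ : ∃ t, π.support.card = t * r := by
    by_cases h1 : π = 1
    · exact ⟨0, by simp [h1]⟩
    · have ho : orderOf π = r := orderOf_eq_prime hπr h1
      obtain ⟨m, hm⟩ := cycleType_prime_order (σ := π) (by rw [ho]; exact hr)
      refine ⟨m + 1, ?_⟩
      rw [← sum_cycleType, hm, ho]
      simp
      ring
  have htb : t * r ≤ b := by
    rw [← ht]
    calc π.support.card ≤ (Finset.univ : Finset (Fin b)).card := Finset.card_le_univ _
      _ = b := by simp
  -- support of σ
  have hsj : σ.support.card = j * r := by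
    rw [← sum_cycleType, hj]; simp
  let m : Fin b → ℕ := fun i => (Finset.univ.filter (fun x => f x = i ∧ σ x ≠ x)).card
  have hsum : σ.support.card = ∑ i, m i := by
    rw [Finset.card_eq_sum_card_fiberwise (f := f) (t := Finset.univ) (fun x _ => Finset.mem_univ _)]
    apply Finset.sum_congr rfl
    intro i _
    congr 1
    ext x
    simp only [Finset.mem_filter, mem_support, Finset.mem_univ, true_and, ne_eq]
    tauto
  have hm1 : ∀ i ∈ π.support, m i = a := by
    intro i hi
    rw [← hfc i]
    apply congrArg Finset.card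
    ext x
    simp only [Finset.mem_filter, Finset.mem_univ, true_and, ne_eq, and_iff_left_iff_imp]
    intro hx h
    have := hπ x
    rw [h, hx] at this
    exact (mem_support.mp hi) this.symm
  have hm2 : ∀ i ∉ π.support, m i ≤ r * (a / r) := by
    intro i hi
    have hfix : π i = i := by simpa using hi
    have hdvd : r ∣ m i := by
      apply dvd_card_moved r hr σ hσr (fun x => f x = i)
      intro x
      rw [hπ x]
      constructor
      · intro h
        have : π (f x) = π i := by rw [h, hfix]
        exact π.injective this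
      · intro h
        rw [h, hfix]
    have hle : m i ≤ a := by
      rw [← hfc i]
      apply Finset.card_le_card
      intro x hx
      simp only [Finset.mem_filter, Finset.mem_univ, true_and] at hx ⊢
      exact hx.1
    obtain ⟨c, hc⟩ := hdvd
    rw [hc]
    apply Nat.mul_le_mul_left
    rw [Nat.le_div_iff_mul_le hr0]
    rw [hc] at hle
    rw [mul_comm]; exact hle
  have hsplit : ∑ i, m i = ∑ i ∈ π.support, m i + ∑ i ∈ π.supportᶜ, m i := by
    rw [← Finset.sum_add_sum_compl π.support m]
  have hs1 : ∑ i ∈ π.support, m i = t * r * a := by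
    rw [Finset.sum_congr rfl hm1, Finset.sum_const, ht, smul_eq_mul]
  have hs2 : ∑ i ∈ π.supportᶜ, m i ≤ (b - t * r) * (r * (a / r)) := by
    calc ∑ i ∈ π.supportᶜ, m i ≤ ∑ _i ∈ π.supportᶜ, r * (a / r) :=
          Finset.sum_le_sum (fun i hi => hm2 i (Finset.mem_compl.mp hi))
      _ = (b - t * r) * (r * (a / r)) := by
          rw [Finset.sum_const, Finset.card_compl, ht, Fintype.card_fin, smul_eq_mul]
  refine ⟨t, htb, ?_, ?_⟩
  · have : t * r * a ≤ j * r := by
      rw [← hsj, hsum, hsplit, hs1]; exact Nat.le_add_right _ _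
    have e : t * r * a = (t * a) * r := by ring
    rw [e] at this
    exact Nat.le_of_mul_le_mul_right this hr0
  · have : j * r ≤ t * r * a + (b - t * r) * (r * (a / r)) := by
      rw [← hsj, hsum, hsplit, hs1]; exact Nat.add_le_add_left hs2 _
    have e : t * r * a + (b - t * r) * (r * (a / r)) = (t * a + (b - t * r) * (a / r)) * r := by ring
    rw [e] at this
    exact Nat.le_of_mul_le_mul_right this hr0

end Cfsg.Agent.Helper12.UniPart
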