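import Mathlib
import Cfsg.Agent.Lib.Helper12.UniPartB

set_option autoImplicit false

namespace Cfsg.Agent.Helper12.UniPart

open Equiv Equiv.Perm

theorem exists_distribute {ι : Type*} [DecidableEq ι] (S : Finset ι) (A : ℕ) :
    ∀ J : ℕ, J ≤ S.card * A → ∃ c : ι → ℕ, (∀ i, c i ≤ A) ∧ ∑ i ∈ S, c i = J := by
  induction S using Finset.induction_on with
  | empty =>
    intro J hJ
    refine ⟨fun _ => 0, fun _ => Nat.zero_le _, ?_⟩
    simp at hJ
    simp [hJ]
  | insert x S hx ih =>
    intro J hJ
    rw [Finset.card_insert_of_notMem hx] at hJ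
    have hJ' : J - min J A ≤ S.card * A := by
      have : (S.card + 1) * A = S.card * A + A := by ring
      rcases Nat.le_total J A with h | h
      · rw [min_eq_left h]; omega
      · rw [min_eq_right h]; omega
    obtain ⟨c', hc1, hc2⟩ := ih (J - min J A) hJ'
    refine ⟨Function.update c' x (min J A), ?_, ?_⟩
    · intro i
      by_cases hi : i = x
      · rw [hi, Function.update_self]; exact min_le_right _ _
      · rw [Function.update_of_ne hi]; exact hc1 i
    · rw [Finset.sum_insert hx, Function.update_self]
      have : ∑ i ∈ S, Function.update c' x (min J A) i = ∑ i ∈ S, c' i := by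
        apply Finset.sum_congr rfl
        intro i hi
        rw [Function.update_of_ne]
        rintro rfl
        exact hx hi
      rw [this, hc2]
      have : min J A ≤ J := min_le_left _ _
      omega

theorem pow_eq_one_of_cycleType {α : Type*} [Fintype α] [DecidableEq α] (σ : Perm α) (c r : ℕ)
    (h : σ.cycleType = Multiset.replicate c r) : σ ^ r = 1 := by
  apply orderOf_dvd_iff_pow_eq_one.mp
  rw [← lcm_cycleType, h]
  apply Multiset.lcm_dvd.mpr
  intro x hx
  rw [Multiset.eq_of_mem_replicate hx]

theorem prodShear_pow {β γ : Type*} [DecidableEq β] (π₀ : Perm β) (ρ : β → Perm γ)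
    (hρ : ∀ i, π₀ i ≠ i → ρ i = 1) (m : ℕ) (i : β) (y : γ) :
    ((Equiv.prodShear π₀ ρ : Perm (β × γ)) ^ m) (i, y) =
      ((π₀ ^ m) i, if π₀ i = i then ((ρ i) ^ m) y else y) := by
  induction m with
  | zero => simp
  | succ m ih =>
    rw [pow_succ', Perm.mul_apply, ih, Equiv.prodShear_apply]
    by_cases hi : π₀ i = i
    · have hm : (π₀ ^ m) i = i := by
        clear ih
        induction m with
        | zero => simp
        | succ m ihm => rw [pow_succ', Perm.mul_apply, ihm, hi]
      simp only [hi, if_true]
      rw [hm]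
      refine Prod.ext ?_ ?_
      · simp only [pow_succ', Perm.mul_apply, hm, hi]
      · simp only [pow_succ', Perm.mul_apply]
    · simp only [hi, if_false]
      have hm : π₀ ((π₀ ^ m) i) ≠ (π₀ ^ m) i := by
        intro h
        apply hi
        have : (π₀ ^ m) (π₀ i) = (π₀ ^ m) i := by
          rw [← Perm.mul_apply, ← pow_succ, pow_succ', Perm.mul_apply, h]
        exact (π₀ ^ m).injective this
      refine Prod.ext ?_ ?_
      · simp only [pow_succ', Perm.mul_apply]
      · simp only [hρ _ hm, Perm.coe_one, id_eq]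

theorem construct (a b r : ℕ) (hr : r.Prime) (t j : ℕ) (htr : t * r ≤ b) (h1 : t * a ≤ j)
    (h2 : j ≤ t * a + (b - t * r) * (a / r)) (hj : 1 ≤ j) :
    ∃ (τ : Perm (Fin b × Fin a)) (π₀ : Perm (Fin b)),
      (∀ x, (τ x).1 = π₀ x.1) ∧ τ.cycleType = Multiset.replicate j r := by
  classical
  have hr0 : 0 < r := hr.pos
  have hfact : Fact r.Prime := ⟨hr⟩
  -- π₀
  obtain ⟨π₀, hπ₀⟩ : ∃ π₀ : Perm (Fin b), π₀.cycleType = Multiset.replicate t r := by
    apply (exists_with_cycleType_iff (α := Fin b)).mpr
    constructor
    · simpa using htr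
    · intro x hx
      rw [Multiset.eq_of_mem_replicate hx]; exact hr.two_le
  have hsπ : π₀.support.card = t * r := by
    rw [← sum_cycleType, hπ₀]; simp
  have hπr : π₀ ^ r = 1 := pow_eq_one_of_cycleType π₀ t r hπ₀
  -- c
  have hScard : (π₀.supportᶜ).card = b - t * r := by
    rw [Finset.card_compl, hsπ, Fintype.card_fin]
  obtain ⟨c, hc1, hc2⟩ := exists_distribute (π₀.supportᶜ) (a / r) (j - t * a)
    (by rw [hScard]; omega)
  -- ρ
  have hex : ∀ i, ∃ ρ : Perm (Fin a), ρ.cycleType = Multiset.replicate (c i) r := by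
    intro i
    apply (exists_with_cycleType_iff (α := Fin a)).mpr
    constructor
    · simp only [Multiset.sum_replicate, smul_eq_mul, Fintype.card_fin]
      calc c i * r ≤ (a / r) * r := Nat.mul_le_mul_right r (hc1 i)
        _ ≤ a := Nat.div_mul_le_self a r
    · intro x hx
      rw [Multiset.eq_of_mem_replicate hx]; exact hr.two_le
  let ρ : Fin b → Perm (Fin a) := fun i => if i ∈ π₀.support then 1 else Classical.choose (hex i)
  have hρ1 : ∀ i, π₀ i ≠ i → ρ i = 1 := by
    intro i hi
    simp only [ρ]
    rw [if_pos (mem_support.mpr hi)]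
  have hρ2 : ∀ i, π₀ i = i → (ρ i).cycleType = Multiset.replicate (c i) r := by
    intro i hi
    simp only [ρ]
    rw [if_neg (by simpa using hi)]
    exact Classical.choose_spec (hex i)
  have hρr : ∀ i, (ρ i) ^ r = 1 := by
    intro i
    by_cases hi : π₀ i = i
    · exact pow_eq_one_of_cycleType _ _ _ (hρ2 i hi)
    · rw [hρ1 i hi, one_pow]
  let τ : Perm (Fin b × Fin a) := Equiv.prodShear π₀ ρ
  have hτr : τ ^ r = 1 := by
    ext ⟨i, y⟩ : 1
    rw [prodShear_pow π₀ ρ hρ1, hπr, hρr]
    simp
  -- support of τ
  have hmem : ∀ x : Fin b × Fin a, x ∈ τ.support ↔ (π₀ x.1 ≠ x.1 ∨ ρ x.1 x.2 ≠ x.2) := by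
    rintro ⟨i, y⟩
    simp only [mem_support, τ, Equiv.prodShear_apply, ne_eq, Prod.mk.injEq, not_and_or]
  have hsτ : τ.support.card = j * r := by
    rw [Finset.card_eq_sum_card_fiberwise (f := Prod.fst) (t := Finset.univ)
      (fun x _ => Finset.mem_univ _)]
    have hfib : ∀ i : Fin b, (τ.support.filter (fun x => x.1 = i)).card =
        if i ∈ π₀.support then a else c i * r := by
      intro i
      by_cases hi : i ∈ π₀.support
      · rw [if_pos hi]
        have : τ.support.filter (fun x => x.1 = i) =
            (Finset.univ : Finset (Fin a)).map ⟨fun y => (i, y), fun y y' h => by simpa using h⟩ := by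
          ext ⟨i', y⟩
          simp only [Finset.mem_filter, hmem, Finset.mem_map, Finset.mem_univ, true_and,
            Function.Embedding.coeFn_mk, Prod.mk.injEq]
          constructor
          · rintro ⟨_, rfl⟩
            exact ⟨y, rfl⟩
          · rintro ⟨y', h⟩
            change (i, y') = (i', y) at h
            rw [Prod.mk.injEq] at h
            obtain ⟨rfl, rfl⟩ := h
            exact ⟨Or.inl (mem_support.mp hi), rfl⟩
        rw [this, Finset.card_map, Finset.card_univ, Fintype.card_fin]
      · rw [if_neg hi]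
        have hi' : π₀ i = i := by simpa using hi
        have : τ.support.filter (fun x => x.1 = i) =
            ((ρ i).support).map ⟨fun y => (i, y), fun y y' h => by simpa using h⟩ := by
          ext ⟨i', y⟩
          simp only [Finset.mem_filter, hmem, Finset.mem_map, mem_support,
            Function.Embedding.coeFn_mk, Prod.mk.injEq]
          constructor
          · rintro ⟨h, rfl⟩
            rcases h with h | h
            · exact absurd hi' h
            · exact ⟨y, h, rfl⟩
          · rintro ⟨y', h, h'⟩
            change (i, y') = (i', y) at h'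
            rw [Prod.mk.injEq] at h'
            obtain ⟨rfl, rfl⟩ := h'
            exact ⟨Or.inr h, rfl⟩
        rw [this, Finset.card_map, ← sum_cycleType, hρ2 i hi']
        simp
    rw [Finset.sum_congr rfl (fun i _ => hfib i)]
    rw [← Finset.sum_add_sum_compl π₀.support]
    have e1 : ∑ i ∈ π₀.support, (if i ∈ π₀.support then a else c i * r) = t * r * a := by
      rw [Finset.sum_congr rfl (fun i hi => if_pos hi), Finset.sum_const, hsπ, smul_eq_mul]
    have e2 : ∑ i ∈ π₀.supportᶜ, (if i ∈ π₀.support then a else c i * r) = (j - t * a) * r := by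
      rw [Finset.sum_congr rfl (fun i hi => if_neg (Finset.mem_compl.mp hi)), ← Finset.sum_mul, hc2]
    rw [e1, e2]
    have : t * r * a = t * a * r := by ring
    rw [this, ← Nat.add_mul]
    congr 1
    omega
  have hτ1 : τ ≠ 1 := by
    intro h
    rw [h] at hsτ
    simp at hsτ
    rcases hsτ with h | h <;> omega
  have ho : orderOf τ = r := orderOf_eq_prime hτr hτ1
  obtain ⟨m, hm⟩ := cycleType_prime_order (σ := τ) (by rw [ho]; exact hr)
  refine ⟨τ, π₀, ?_, ?_⟩
  · rintro ⟨i, y⟩
    simp only [τ, Equiv.prodShear_apply]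
  · rw [hm, ho]
    congr 1
    have : (m + 1) * r = j * r := by
      rw [← hsτ, ← sum_cycleType, hm, ho]; simp; ring
    exact Nat.eq_of_mul_eq_mul_right hr0 this

end Cfsg.Agent.Helper12.UniPart
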