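import Mathlib
import Cfsg.Agent.Lib.Helper12.UniPartC

set_option autoImplicit false

namespace Cfsg.Agent.Helper12.UniPart

open Equiv Equiv.Perm

theorem factorial_pow_mul_dvd (a : ℕ) (ha : 1 ≤ a) (b : ℕ) :
    (a.factorial ^ b * b.factorial) ∣ (a * b).factorial := by
  induction b with
  | zero => simp
  | succ b ih =>
    obtain ⟨m, hm⟩ := ih
    obtain ⟨k, rfl⟩ : ∃ k, a = k + 1 := ⟨a - 1, by omega⟩
    have h1 := Nat.add_one_mul_choose_eq ((k + 1) * b + k) k
    have h2 := Nat.add_choose_mul_factorial_mul_factorial ((k + 1) * b) (k + 1)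
    have e : ((k + 1) * b + k) + 1 = (k + 1) * (b + 1) := by
      ring
    rw [e] at h1
    have h3 : (b + 1) * ((k + 1) * b + k).choose k = ((k + 1) * (b + 1)).choose (k + 1) := by
      have : (k + 1) * ((b + 1) * ((k + 1) * b + k).choose k)
          = (k + 1) * ((k + 1) * (b + 1)).choose (k + 1) := by
        linarith
      exact Nat.eq_of_mul_eq_mul_left (Nat.succ_pos k) this
    have e2 : (k + 1) * b + (k + 1) = (k + 1) * (b + 1) := by ring
    rw [e2] at h2
    refine ⟨((k + 1) * b + k).choose k * m, ?_⟩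
    rw [← h2, ← h3, hm, Nat.factorial_succ b, pow_succ]
    ring

theorem le_of_dvd_count (a b r : ℕ) (ha : 1 ≤ a) (hr : r.Prime)
    (hrd : r ∣ (a * b).factorial / (a.factorial ^ b * b.factorial)) : r ≤ a * b := by
  have h1 : (a * b).factorial / (a.factorial ^ b * b.factorial) ∣ (a * b).factorial :=
    Nat.div_dvd_of_dvd (factorial_pow_mul_dvd a ha b)
  exact (hr.dvd_factorial).mp (hrd.trans h1)

theorem card_fiber_fst (a b : ℕ) (i : Fin b) :
    Nat.card {z : Fin b × Fin a // z.1 = i} = a := by
  classical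
  rw [Nat.card_eq_fintype_card, Fintype.card_subtype]
  have : (Finset.univ.filter fun z : Fin b × Fin a => z.1 = i) = ({i} : Finset (Fin b)) ×ˢ Finset.univ := by
    ext ⟨x, y⟩
    simp [eq_comm]
  rw [this, Finset.card_product]
  simp

theorem main (a b : ℕ) (ha : 2 ≤ a) (hb : 2 ≤ b) (r : ℕ) (hr : r.Prime)
    (hrd : r ∣ (a * b).factorial / (a.factorial ^ b * b.factorial)) :
    (∀ σ : Equiv.Perm (Fin (a * b)), orderOf σ = r →
        ∃ f : Fin (a * b) → Fin b, (∀ j : Fin b, Nat.card {x : Fin (a * b) // f x = j} = a) ∧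
          ∃ π : Equiv.Perm (Fin b), ∀ x : Fin (a * b), f (σ x) = π (f x)) ↔
      Cond a b r := by
  classical
  have hrab : r ≤ a * b := le_of_dvd_count a b r (by omega) hr hrd
  have hfact : Fact r.Prime := ⟨hr⟩
  rw [← covers_iff_cond a b r ha hb hr.two_le hrab]
  constructor
  · intro H j hj1 hj2
    obtain ⟨σ, hσ⟩ : ∃ σ : Perm (Fin (a * b)), σ.cycleType = Multiset.replicate j r := by
      apply (exists_with_cycleType_iff (α := Fin (a * b))).mpr
      constructor
      · simp only [Multiset.sum_replicate, smul_eq_mul, Fintype.card_fin]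
        rw [mul_comm]; exact hj2
      · intro x hx
        rw [Multiset.eq_of_mem_replicate hx]; exact hr.two_le
    have hσr : σ ^ r = 1 := pow_eq_one_of_cycleType σ j r hσ
    have hσ1 : σ ≠ 1 := by
      intro h
      rw [h, cycleType_one] at hσ
      have := congrArg Multiset.card hσ
      simp at this
      omega
    have ho : orderOf σ = r := orderOf_eq_prime hσr hσ1
    obtain ⟨f, hf, π, hπ⟩ := H σ ho
    exact forward a b r (by omega) hr σ ho f hf π hπ j hσ
  · intro H σ ho
    obtain ⟨n₀, hn₀⟩ := cycleType_prime_order (σ := σ) (by rw [ho]; exact hr)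
    rw [ho] at hn₀
    have hsum : r * (n₀ + 1) ≤ a * b := by
      have := sum_cycleType_le σ
      rw [hn₀] at this
      simp only [Multiset.sum_replicate, smul_eq_mul, Fintype.card_fin] at this
      rw [mul_comm]; exact this
    obtain ⟨t, ht1, ht2, ht3⟩ := H (n₀ + 1) (by omega) hsum
    obtain ⟨τ, π₀, hτ1, hτ2⟩ := construct a b r hr t (n₀ + 1) ht1 ht2 ht3 (by omega)
    let e : Fin b × Fin a ≃ Fin (a * b) := finProdFinEquiv.trans (finCongr (mul_comm b a))
    let e' : Fin b × Fin a ≃ {x : Fin (a * b) // True} :=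
      e.trans (Equiv.subtypeUnivEquiv (fun _ => trivial)).symm
    let τ' : Perm (Fin (a * b)) := τ.extendDomain e'
    have hτ' : τ'.cycleType = σ.cycleType := by
      rw [hn₀]
      simp only [τ']
      rw [cycleType_extendDomain, hτ2]
    have hτ'app : ∀ z, τ' (e z) = e (τ z) := by
      intro z
      have := Perm.extendDomain_apply_image τ e' z
      simpa [τ', e'] using this
    obtain ⟨g, hg⟩ := isConj_iff.mp (isConj_iff_cycleType_eq.mpr hτ'.symm)
    -- g * σ * g⁻¹ = τ'
    have hgσ : ∀ x, g (σ x) = τ' (g x) := by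
      intro x
      rw [← hg]
      simp
    let F : Fin (a * b) ≃ Fin b × Fin a := g.trans e.symm
    refine ⟨fun x => (F x).1, ?_, π₀, ?_⟩
    · intro i
      exact (Nat.card_congr (Equiv.subtypeEquiv F (fun x => Iff.rfl))).trans (card_fiber_fst a b i)
    · intro x
      have : F (σ x) = τ (F x) := by
        simp only [F, Equiv.trans_apply]
        rw [hgσ x]
        have h2 := hτ'app (e.symm (g x))
        rw [Equiv.apply_symm_apply] at h2
        rw [h2, Equiv.symm_apply_apply]
      show (F (σ x)).1 = π₀ (F x).1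
      rw [this, hτ1]

end Cfsg.Agent.Helper12.UniPart
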