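import Mathlib

set_option autoImplicit false

namespace Cfsg.Agent.Helper12

open Matrix Polynomial

variable {F : Type*} [Field F]

/-- A nilpotent `m × m` matrix over a field has vanishing `m`-th power. -/
theorem nilpotent_pow_card {m : ℕ} (N : Matrix (Fin m) (Fin m) F) (h : IsNilpotent N) :
    N ^ m = 0 := by
  have h1 : IsNilpotent (N.charpoly - X ^ Fintype.card (Fin m)) :=
    Matrix.isNilpotent_charpoly_sub_pow_of_isNilpotent h
  have h2 : N.charpoly = X ^ Fintype.card (Fin m) := sub_eq_zero.mp h1.eq_zero
  have h3 := Matrix.aeval_self_charpoly N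
  rw [h2, Fintype.card_fin, map_pow, aeval_X] at h3
  exact h3

/-- The nilpotent Jordan block. -/
def jordanNil (m : ℕ) (F : Type*) [Field F] : Matrix (Fin m) (Fin m) F :=
  Matrix.of fun i j => if j.val = i.val + 1 then 1 else 0

theorem jordanNil_pow (m : ℕ) (k : ℕ) :
    (jordanNil m F) ^ k = Matrix.of fun i j => if j.val = i.val + k then (1 : F) else 0 := by
  induction k with
  | zero =>
    ext i j
    simp only [pow_zero, Matrix.one_apply, Matrix.of_apply, add_zero]
    by_cases h : i = j
    · simp [h]
    · have : ¬ j.val = i.val := fun h' => h (Fin.ext h'.symm)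
      simp [h, this]
  | succ k ih =>
    rw [pow_succ, ih]
    ext i j
    simp only [Matrix.mul_apply, Matrix.of_apply, jordanNil]
    by_cases h : j.val = i.val + (k + 1)
    · have hl : i.val + k < m := by have := j.2; omega
      rw [Finset.sum_eq_single (⟨i.val + k, hl⟩ : Fin m)]
      · simp [h]; omega
      · intro l _ hne
        have : ¬ l.val = i.val + k := fun h' => hne (Fin.ext h')
        simp [this]
      · intro h'; exact absurd (Finset.mem_univ _) h'
    · rw [if_neg h]
      apply Finset.sum_eq_zero
      intro l _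
      by_cases h1 : l.val = i.val + k
      · have : ¬ j.val = l.val + 1 := by omega
        simp [this]
      · simp [h1]

theorem jordanNil_pow_eq_zero (m : ℕ) {k : ℕ} (hk : m ≤ k) : (jordanNil m F) ^ k = 0 := by
  rw [jordanNil_pow]
  ext i j
  have : ¬ j.val = i.val + k := by have := j.2; omega
  simp [this]

theorem jordanNil_pow_ne_zero (m : ℕ) {k : ℕ} (hk : k < m) : (jordanNil m F) ^ k ≠ 0 := by
  rw [jordanNil_pow]
  intro h
  have h0 : 0 < m := by omega
  have := congrFun (congrFun h ⟨0, h0⟩) ⟨k, hk⟩
  simp at this

end Cfsg.Agent.Helper12
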